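import Cfsg.Agent.Lib.Char.Quotient

/-!
Conjugate characters on a normal subgroup and Clifford's theorem.
-/

namespace Cfsg.Agent.Char

open scoped ComplexConjugate
open Cfsg

universe u

variable {G : Type u} [Group G] (N : Subgroup G) [hN : N.Normal]

/-- The conjugate of a function on a normal subgroup. -/
def conjN (g : G) (θ : N → ℂ) : N → ℂ :=
  fun n => θ ⟨g * n * g⁻¹, hN.conj_mem n n.2 g⟩

theorem conjN_apply (g : G) (θ : N → ℂ) (n : N) :
    conjN N g θ n = θ ⟨g * n * g⁻¹, hN.conj_mem n n.2 g⟩ := rfl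

theorem conjN_one (θ : N → ℂ) : conjN N (1 : G) θ = θ := funext fun n => by simp [conjN]

theorem conjN_mul (a b : G) (θ : N → ℂ) : conjN N (a * b) θ = conjN N b (conjN N a θ) :=
  funext fun n => by simp [conjN, mul_assoc]

theorem conjN_inv_cancel (a : G) (θ : N → ℂ) : conjN N a⁻¹ (conjN N a θ) = θ := by
  rw [← conjN_mul, mul_inv_cancel, conjN_one]

theorem conjN_cancel_inv (a : G) (θ : N → ℂ) : conjN N a (conjN N a⁻¹ θ) = θ := by
  rw [← conjN_mul, inv_mul_cancel, conjN_one]

theorem conjN_res {χ : G → ℂ} (hχ : IsClassFunction G χ) (g : G) :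
    conjN N g (fun n : N => χ n) = fun n : N => χ n :=
  funext fun n => hχ n g

theorem conjN_mem {θ : N → ℂ} (hθ : IsClassFunction N θ) {m : G} (hm : m ∈ N) :
    conjN N m θ = θ :=
  funext fun n => hθ n ⟨m, hm⟩

/-- Conjugation by an element, as an automorphism of a normal subgroup. -/
def conjEquivN (g : G) : N ≃* N := MulAut.conjNormal g

theorem conjEquivN_apply (g : G) (n : N) :
    conjEquivN N g n = ⟨g * n * g⁻¹, hN.conj_mem n n.2 g⟩ :=
  Subtype.ext (MulAut.conjNormal_apply g n)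

theorem conjN_eq_comp (g : G) (θ : N → ℂ) : conjN N g θ = fun n => θ (conjEquivN N g n) :=
  funext fun n => by rw [conjEquivN_apply]; rfl

theorem IsIrr.conjN [Finite G] {θ : N → ℂ} (hθ : IsIrrCharacter N θ) (g : G) :
    IsIrrCharacter N (Char.conjN N g θ) := by
  rw [conjN_eq_comp]
  exact IsIrr.comp_mulEquiv (conjEquivN N g) hθ

theorem classInner_conjN [Fintype N] (g : G) (α β : N → ℂ) :
    classInner (Char.conjN N g α) (Char.conjN N g β) = classInner α β := by
  simp only [classInner, conjN_eq_comp]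
  congr 1
  exact Fintype.sum_equiv (conjEquivN N g).toEquiv _ _ fun n => rfl

variable [Fintype G]

theorem res_indFun (θ : N → ℂ) :
    (fun n : N => indFun N θ n) = (Nat.card N : ℂ)⁻¹ • ∑ x : G, Char.conjN N x θ := by
  funext n
  simp only [indFun, Pi.smul_apply, Finset.sum_apply, smul_eq_mul]
  congr 1
  refine Fintype.sum_equiv (Equiv.inv G) _ _ fun x => ?_
  rw [Equiv.inv_apply, conjN_apply, extendByZero_of_mem _ (by
    simpa using hN.conj_mem n n.2 x⁻¹)]
  exact congrArg θ (Subtype.ext (by simp))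

theorem indFun_conjN (θ : N → ℂ) (g : G) : indFun N (Char.conjN N g θ) = indFun N θ := by
  funext y
  simp only [indFun]
  congr 1
  refine Fintype.sum_equiv (Equiv.mulRight g⁻¹) _ _ fun x => ?_
  simp only [Equiv.coe_mulRight]
  by_cases h : x⁻¹ * y * x ∈ N
  · rw [extendByZero_of_mem _ h, extendByZero_of_mem _ (by
      simpa [mul_assoc] using hN.conj_mem _ h g), conjN_apply]
    exact congrArg θ (Subtype.ext (by simp [mul_assoc]))
  · rw [extendByZero_not_mem _ h, extendByZero_not_mem _ fun h' => h (by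
      simpa [mul_assoc] using hN.conj_mem _ h' g⁻¹)]

theorem classInner_indFun_indFun [Fintype N] (θ φ : N → ℂ) :
    classInner (indFun N θ) (indFun N φ) =
      (Nat.card N : ℂ)⁻¹ * ∑ x : G, classInner (Char.conjN N x θ) φ := by
  rw [classInner_indFun_right N φ (indFun_classFun N θ), res_indFun, classInner_smul_left,
    classInner_sum_left]

theorem classInner_indFun_indFun_irr [Fintype N] {θ φ : N → ℂ} (hθ : IsIrrCharacter N θ)
    (hφ : IsIrrCharacter N φ) :
    classInner (indFun N θ) (indFun N φ) =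
      (Nat.card N : ℂ)⁻¹ * (Nat.card {x : G // Char.conjN N x θ = φ} : ℂ) := by
  classical
  rw [classInner_indFun_indFun, Nat.card_eq_fintype_card (α := {x : G // Char.conjN N x θ = φ}),
    Fintype.card_subtype, ← Finset.sum_boole]
  exact congrArg _ (Finset.sum_congr rfl fun x _ => classInner_irr_eq_ite (IsIrr.conjN N hθ x) hφ)

/-- Every constituent on a normal subgroup is conjugate to a given one. -/
theorem exists_conj_of_constituents [Fintype N] {χ : G → ℂ} (hχ : IsIrrCharacter G χ)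
    {θ φ : N → ℂ} (hθ : IsIrrCharacter N θ) (hφ : IsIrrCharacter N φ)
    (hθc : classInner (fun n : N => χ n) θ ≠ 0) (hφc : classInner (fun n : N => χ n) φ ≠ 0) :
    ∃ g : G, Char.conjN N g θ = φ := by
  classical
  by_contra hno
  push Not at hno
  have h0 : classInner (indFun N θ) (indFun N φ) = 0 := by
    rw [classInner_indFun_indFun, Finset.sum_eq_zero (fun x _ =>
      classInner_irr_ne (IsIrr.conjN N hθ x) hφ (hno x)), mul_zero]
  obtain ⟨a, ha, hda⟩ := IsChar.exists_decomp_inner (isCharacter_indFun N (IsIrr.isCharacter hθ))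
  obtain ⟨b, hb, hdb⟩ := IsChar.exists_decomp_inner (isCharacter_indFun N (IsIrr.isCharacter hφ))
  rw [hda, hdb, classInner_sum_sum] at h0
  have h0' : ∑ ψ : IrrCharacter G, a ψ * b ψ = 0 := by
    have : ((∑ ψ : IrrCharacter G, a ψ * b ψ : ℕ) : ℂ) = 0 := by simpa using h0
    exact_mod_cast this
  have h1 := (Finset.sum_eq_zero_iff_of_nonneg fun _ _ => Nat.zero_le _).mp h0' ⟨χ, hχ⟩
    (Finset.mem_univ _)
  rcases mul_eq_zero.mp h1 with h | h
  · refine hθc ?_
    rw [← classInner_conj_symm, ← classInner_indFun N θ (IsIrr.classFun hχ), ha ⟨χ, hχ⟩, h]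
    simp
  · refine hφc ?_
    rw [← classInner_conj_symm, ← classInner_indFun N φ (IsIrr.classFun hχ), hb ⟨χ, hχ⟩, h]
    simp

theorem classInner_res_conjN [Fintype N] {χ : G → ℂ} (hχ : IsClassFunction G χ) (θ : N → ℂ)
    (g : G) :
    classInner (fun n : N => χ n) (Char.conjN N g θ) = classInner (fun n : N => χ n) θ := by
  conv_lhs => rw [← conjN_res N hχ g]
  exact classInner_conjN N g _ _

open Classical in
/-- The orbit of a function on a normal subgroup under conjugation. -/
noncomputable def conjOrbit (θ : N → ℂ) : Finset (N → ℂ) :=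
  Finset.univ.image fun g : G => Char.conjN N g θ

theorem mem_conjOrbit {θ φ : N → ℂ} : φ ∈ conjOrbit N θ ↔ ∃ g : G, Char.conjN N g θ = φ := by
  simp [conjOrbit]

theorem finsum_conjOrbit (θ : N → ℂ) :
    ∑ᶠ ψ ∈ {ψ : N → ℂ | ∃ g : G, ψ = fun n : N => θ ⟨g * n * g⁻¹, hN.conj_mem n n.2 g⟩}, ψ =
      ∑ ψ ∈ conjOrbit N θ, ψ := by
  rw [← finsum_mem_coe_finset]
  refine finsum_mem_congr (Set.ext fun ψ => ?_) fun _ _ => rfl
  rw [Finset.mem_coe, mem_conjOrbit]
  exact ⟨fun ⟨g, hg⟩ => ⟨g, hg.symm⟩, fun ⟨g, hg⟩ => ⟨g, hg.symm⟩⟩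

/-- Clifford's theorem. -/
theorem clifford [Fintype N] {χ : G → ℂ} (hχ : IsIrrCharacter G χ)
    {θ : N → ℂ} (hθ : IsIrrCharacter N θ) (hθc : classInner (fun n : N => χ n) θ ≠ 0) :
    (fun n : N => χ n) =
      classInner (fun n : N => χ n) θ • ∑ ψ ∈ conjOrbit N θ, ψ := by
  classical
  have horb : ∀ ψ ∈ conjOrbit N θ, IsIrrCharacter N ψ := fun ψ hψ => by
    obtain ⟨g, rfl⟩ := (mem_conjOrbit N).mp hψ
    exact IsIrr.conjN N hθ g
  refine classFunction_ext (IsChar.classFun (IsChar.res (IsIrr.isCharacter hχ) N))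
    (classFunction_smul _ (classFunction_sum fun ψ hψ => IsIrr.classFun (horb ψ hψ))) fun φ hφ => ?_
  rw [classInner_smul_left, classInner_sum_left]
  by_cases hm : φ ∈ conjOrbit N θ
  · obtain ⟨g, rfl⟩ := (mem_conjOrbit N).mp hm
    rw [Finset.sum_eq_single (Char.conjN N g θ)
      (fun ψ hψ hne => classInner_irr_ne (horb ψ hψ) hφ hne) (fun h => absurd hm h),
      classInner_self_irr hφ, mul_one, classInner_res_conjN N (IsIrr.classFun hχ)]
  · rw [Finset.sum_eq_zero fun ψ hψ => classInner_irr_ne (horb ψ hψ) hφ fun h => hm (h ▸ hψ),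
      mul_zero]
    by_contra hne
    exact hm ((mem_conjOrbit N).mpr (exists_conj_of_constituents N hχ hθ hφ hθc hne))

/-- The inertia group of a function on a normal subgroup. -/
def inertia (θ : N → ℂ) : Subgroup G where
  carrier := {g | Char.conjN N g θ = θ}
  mul_mem' {a b} ha hb := by
    show Char.conjN N (a * b) θ = θ
    rw [conjN_mul, (ha : Char.conjN N a θ = θ)]
    exact hb
  one_mem' := conjN_one N θ
  inv_mem' {a} ha := by
    show Char.conjN N a⁻¹ θ = θ
    conv_lhs => rw [← (ha : Char.conjN N a θ = θ)]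
    exact conjN_inv_cancel N a θ

omit [Fintype G] in
theorem mem_inertia {θ : N → ℂ} {g : G} : g ∈ inertia N θ ↔ Char.conjN N g θ = θ := Iff.rfl

omit [Fintype G] in
theorem le_inertia {θ : N → ℂ} (hθ : IsClassFunction N θ) : N ≤ inertia N θ :=
  fun _ hm => conjN_mem N hθ hm

theorem card_conjOrbit (θ : N → ℂ) : (conjOrbit N θ).card = (inertia N θ).index := by
  classical
  let F : G ⧸ inertia N θ → {ψ // ψ ∈ conjOrbit N θ} :=
    Quotient.lift (fun g : G => (⟨Char.conjN N g⁻¹ θ, (mem_conjOrbit N).mpr ⟨_, rfl⟩⟩ :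
      {ψ // ψ ∈ conjOrbit N θ})) fun a b h => by
        have h' : a⁻¹ * b ∈ inertia N θ := QuotientGroup.leftRel_apply.mp h
        refine Subtype.ext ?_
        show Char.conjN N a⁻¹ θ = Char.conjN N b⁻¹ θ
        have h2 := (mem_inertia N).mp (inv_mem h')
        rw [mul_inv_rev, inv_inv, conjN_mul] at h2
        conv_lhs => rw [← h2]
        exact conjN_inv_cancel N a _
  have hF : Function.Bijective F := by
    refine ⟨fun x y hxy => ?_, fun ψ => ?_⟩
    · induction x using Quotient.inductionOn with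
      | h a =>
        induction y using Quotient.inductionOn with
        | h b =>
          refine Quotient.sound (QuotientGroup.leftRel_apply.mpr ?_)
          have h1 : Char.conjN N a⁻¹ θ = Char.conjN N b⁻¹ θ := congrArg Subtype.val hxy
          rw [mem_inertia, conjN_mul, h1, conjN_cancel_inv]
    · obtain ⟨g, hg⟩ := (mem_conjOrbit N).mp ψ.2
      exact ⟨QuotientGroup.mk g⁻¹, Subtype.ext (by
        show Char.conjN N g⁻¹⁻¹ θ = _
        rw [inv_inv, hg])⟩
  rw [Subgroup.index_eq_card, Nat.card_eq_of_bijective F hF, Nat.card_eq_fintype_card,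
    Fintype.card_coe]

theorem clifford_one [Fintype N] {χ : G → ℂ} (hχ : IsIrrCharacter G χ)
    {θ : N → ℂ} (hθ : IsIrrCharacter N θ) (hθc : classInner (fun n : N => χ n) θ ≠ 0) :
    χ 1 = classInner (fun n : N => χ n) θ * ((inertia N θ).index : ℂ) * θ 1 := by
  classical
  have h := congrFun (clifford N hχ hθ hθc) 1
  simp only [Subgroup.coe_one, Pi.smul_apply, Finset.sum_apply, smul_eq_mul] at h
  rw [h, Finset.sum_congr rfl fun ψ hψ => (show ψ 1 = θ 1 by
    obtain ⟨g, rfl⟩ := (mem_conjOrbit N).mp hψ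
    rw [conjN_apply]
    exact congrArg θ (Subtype.ext (by simp))), Finset.sum_const, card_conjOrbit, nsmul_eq_mul,
    mul_assoc]

theorem norm_indFun [Fintype N] {θ : N → ℂ} (hθ : IsIrrCharacter N θ) :
    (Nat.card N : ℂ) * classInner (indFun N θ) (indFun N θ) = (Nat.card (inertia N θ) : ℂ) := by
  rw [classInner_indFun_indFun_irr N hθ hθ, ← mul_assoc,
    mul_inv_cancel₀ (Nat.cast_ne_zero.mpr Nat.card_pos.ne'), one_mul]
  rfl

theorem indFun_irr_of_inertia_eq [Fintype N] {θ : N → ℂ} (hθ : IsIrrCharacter N θ)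
    (hI : inertia N θ = N) : IsIrrCharacter G (indFun N θ) := by
  refine IsChar.irr_of_norm_one (isCharacter_indFun N (IsIrr.isCharacter hθ)) ?_
  have h := norm_indFun N hθ
  rw [hI] at h
  exact (mul_eq_left₀ (Nat.cast_ne_zero.mpr Nat.card_pos.ne')).mp h

end Cfsg.Agent.Char
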