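import Cfsg.Agent.Lib.Char.Constituent

/-!
Inflation and deflation of characters along surjective homomorphisms.
-/

namespace Cfsg.Agent.Char

open scoped ComplexConjugate
open Cfsg

universe u v

variable {G : Type u} [Group G] {Q : Type v} [Group Q]

theorem sum_comp_surjective [Fintype G] [Fintype Q] (φ : G →* Q) (hφ : Function.Surjective φ)
    (F : Q → ℂ) : ∑ g : G, F (φ g) = (Nat.card φ.ker : ℂ) * ∑ q : Q, F q := by
  classical
  rw [← Finset.sum_fiberwise Finset.univ φ, Finset.mul_sum]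
  refine Finset.sum_congr rfl fun q _ => ?_
  obtain ⟨g₀, rfl⟩ := hφ q
  rw [Finset.sum_congr rfl (fun g hg => by rw [(Finset.mem_filter.mp hg).2] :
    ∀ g ∈ Finset.univ.filter (fun g => φ g = φ g₀), F (φ g) = F (φ g₀)), Finset.sum_const,
    nsmul_eq_mul]
  congr 2
  rw [← Fintype.card_subtype, ← Nat.card_eq_fintype_card]
  exact Nat.card_congr
    { toFun := fun g => ⟨g₀⁻¹ * g.1, by rw [MonoidHom.mem_ker, map_mul, map_inv, g.2, inv_mul_cancel]⟩
      invFun := fun k => ⟨g₀ * k.1, by rw [map_mul, MonoidHom.mem_ker.mp k.2, mul_one]⟩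
      left_inv := fun g => by simp
      right_inv := fun k => by simp }

theorem classInner_comp_surjective [Fintype G] [Fintype Q] (φ : G →* Q)
    (hφ : Function.Surjective φ) (α β : Q → ℂ) :
    classInner (fun g => α (φ g)) (fun g => β (φ g)) = classInner α β := by
  have h := sum_comp_surjective φ hφ fun q => α q * conj (β q)
  have hc : (Nat.card φ.ker : ℂ) * (Nat.card Q : ℂ) = (Nat.card G : ℂ) := by
    have h1 := φ.ker.index_mul_card
    rw [Subgroup.index_ker, MonoidHom.range_eq_top.mpr hφ, Subgroup.card_top, mul_comm] at h1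
    exact_mod_cast h1
  simp only [classInner]
  rw [h, ← hc, mul_inv, ← mul_assoc, mul_right_comm _ _ (Nat.card φ.ker : ℂ),
    inv_mul_cancel₀ (Nat.cast_ne_zero.mpr Nat.card_pos.ne'), one_mul]

theorem IsIrr.comp_surjective [Finite G] (φ : G →* Q) (hφ : Function.Surjective φ) {χ : Q → ℂ}
    (h : IsIrrCharacter Q χ) : IsIrrCharacter G (fun g => χ (φ g)) := by
  haveI := Fintype.ofFinite G
  haveI : Finite Q := Finite.of_surjective φ hφ
  haveI := Fintype.ofFinite Q
  refine IsChar.irr_of_norm_one (IsChar.comp φ (IsIrr.isCharacter h)) ?_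
  rw [classInner_comp_surjective φ hφ, classInner_self_irr h]

theorem IsChar.exists_factor [Finite G] {χ : G → ℂ} (h : IsCharacter G χ) (φ : G →* Q)
    (hφ : Function.Surjective φ) (hker : ∀ k ∈ φ.ker, χ k = χ 1) :
    ∃ ψ : Q → ℂ, IsCharacter Q ψ ∧ ∀ g, ψ (φ g) = χ g := by
  obtain ⟨n, ρ, rfl⟩ := h
  have hle : φ.ker ≤ MonoidHom.ker (ρ : G →* Module.End ℂ (Fin n → ℂ)) := fun k hk => by
    rw [MonoidHom.mem_ker, Module.End.one_eq_id, ← character_eq_finrank_iff,
      ← Representation.char_one ρ]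
    exact hker k hk
  let e : G ⧸ φ.ker ≃* Q := QuotientGroup.quotientKerEquivOfSurjective φ hφ
  let σ : Representation ℂ Q (Fin n → ℂ) :=
    (QuotientGroup.lift φ.ker (ρ : G →* Module.End ℂ (Fin n → ℂ)) hle).comp e.symm.toMonoidHom
  refine ⟨σ.character, ⟨n, σ, rfl⟩, fun g => ?_⟩
  have he : e.symm (φ g) = (g : G ⧸ φ.ker) := e.injective (by rw [e.apply_symm_apply]; rfl)
  show LinearMap.trace ℂ _ (QuotientGroup.lift φ.ker _ hle (e.symm (φ g))) = _
  rw [he, QuotientGroup.lift_mk]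
  rfl

theorem IsIrr.exists_factor [Finite G] {χ : G → ℂ} (h : IsIrrCharacter G χ) (φ : G →* Q)
    (hφ : Function.Surjective φ) (hker : ∀ k ∈ φ.ker, χ k = χ 1) :
    ∃ ψ : Q → ℂ, IsIrrCharacter Q ψ ∧ ∀ g, ψ (φ g) = χ g := by
  haveI := Fintype.ofFinite G
  haveI : Finite Q := Finite.of_surjective φ hφ
  haveI := Fintype.ofFinite Q
  obtain ⟨ψ, hψ, hψχ⟩ := IsChar.exists_factor (IsIrr.isCharacter h) φ hφ hker
  refine ⟨ψ, IsChar.irr_of_norm_one hψ ?_, hψχ⟩
  rw [← classInner_comp_surjective φ hφ, funext hψχ, classInner_self_irr h]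

theorem IsIrr.exists_factor_quotient [Finite G] {χ : G → ℂ} (h : IsIrrCharacter G χ)
    (N : Subgroup G) [N.Normal] (hker : ∀ k ∈ N, χ k = χ 1) :
    ∃ ψ : G ⧸ N → ℂ, IsIrrCharacter (G ⧸ N) ψ ∧ ∀ g : G, ψ (g : G ⧸ N) = χ g :=
  IsIrr.exists_factor h (QuotientGroup.mk' N) (QuotientGroup.mk'_surjective N) fun k hk =>
    hker k ((QuotientGroup.eq_one_iff k).mp (MonoidHom.mem_ker.mp hk))

theorem IsIrr.comp_mulEquiv [Finite G] (e : G ≃* Q) {χ : Q → ℂ} (h : IsIrrCharacter Q χ) :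
    IsIrrCharacter G (fun g => χ (e g)) :=
  IsIrr.comp_surjective e.toMonoidHom e.surjective h

end Cfsg.Agent.Char
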