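import Cfsg.Agent.Lib.Char.Complete

/-!
Integrality: central characters, degree divides the order, Burnside's lemma.
-/

namespace Cfsg.Agent.Char

open scoped ComplexConjugate
open Module Representation Cfsg

universe u v

variable {G : Type u} [Group G] [Finite G]

theorem int_of_isIntegral_rat {q : ℚ} (h : IsIntegral ℤ ((q : ℚ) : ℂ)) : ∃ m : ℤ, (q : ℂ) = m := by
  have h' : IsIntegral ℤ q := (isIntegral_algHom_iff ((algebraMap ℚ ℂ).toIntAlgHom)
    (algebraMap ℚ ℂ).injective).mp (by simpa using h)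
  obtain ⟨m, hm⟩ := IsIntegrallyClosed.isIntegral_iff.mp h'
  exact ⟨m, by rw [← hm]; simp⟩

theorem nat_dvd_of_isIntegral_div {a b : ℕ} (hb : b ≠ 0)
    (h : IsIntegral ℤ ((a : ℂ) / (b : ℂ))) : b ∣ a := by
  obtain ⟨m, hm⟩ := int_of_isIntegral_rat (q := (a : ℚ) / b) (by simpa using h)
  have h1 : ((a : ℤ) : ℂ) = ((b * m : ℤ) : ℂ) := by
    push_cast at hm ⊢
    field_simp at hm
    linear_combination hm
  exact Int.natCast_dvd_natCast.mp ⟨m, by exact_mod_cast h1⟩

/-- The size of the conjugacy class. -/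
theorem card_conjClass (g : G) : Nat.card {x : G // IsConj g x} =
    (Subgroup.centralizer ({g} : Set G)).index := by
  have h1 := MulAction.index_stabilizer (ConjAct G) g
  rw [ConjAct.stabilizer_eq_centralizer] at h1
  have h2 : MulAction.orbit (ConjAct G) g = {x : G | IsConj g x} := by
    ext x; exact ⟨fun h => (ConjAct.mem_orbit_conjAct.mp h).symm,
      fun h => ConjAct.mem_orbit_conjAct.mpr h.symm⟩
  rw [h2, ← Nat.card_coe_set_eq] at h1
  exact h1.symm

theorem card_conjClass_finset [Fintype G] (g : G) [DecidablePred fun x => IsConj g x] :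
    ({x : G | IsConj g x} : Finset G).card = (Subgroup.centralizer ({g} : Set G)).index := by
  rw [← card_conjClass, Nat.card_eq_fintype_card, Fintype.card_subtype]

/-- The class sum acts as the central character. -/
theorem classSum_eq_centralChar [Fintype G] {V : Type v} [AddCommGroup V] [Module ℂ V]
    [FiniteDimensional ℂ V] (ρ : Representation ℂ G V) [ρ.IsIrreducible] (g : G)
    [DecidablePred fun x => IsConj g x] :
    (∑ x ∈ ({x : G | IsConj g x} : Finset G), ρ x) =
      (((Subgroup.centralizer ({g} : Set G)).index : ℂ) * ρ.character g / (finrank ℂ V : ℂ)) •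
        LinearMap.id := by
  classical
  have hcomm : ∀ y, (∑ x ∈ ({x : G | IsConj g x} : Finset G), ρ x) ∘ₗ ρ y =
      ρ y ∘ₗ (∑ x ∈ ({x : G | IsConj g x} : Finset G), ρ x) := by
    intro y
    show (∑ x ∈ ({x : G | IsConj g x} : Finset G), ρ x) * ρ y =
      ρ y * ∑ x ∈ ({x : G | IsConj g x} : Finset G), ρ x
    rw [Finset.sum_mul, Finset.mul_sum]
    refine (Finset.sum_equiv (MulAut.conj y).toEquiv (fun x => ?_) fun x _ => ?_).symm
    · simp only [Finset.mem_filter, Finset.mem_univ, true_and, MulEquiv.toEquiv_eq_coe,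
        MulEquiv.coe_toEquiv, MulAut.conj_apply]
      have hc : IsConj x (y * x * y⁻¹) := isConj_iff.mpr ⟨y, rfl⟩
      exact ⟨fun H => H.trans hc, fun H => H.trans hc.symm⟩
    · show ρ y * ρ x = ρ _ * ρ y
      simp [← map_mul]
  obtain ⟨c, hc⟩ := schur_scalar ρ _ hcomm
  have htr := congrArg (LinearMap.trace ℂ V) hc
  rw [map_sum, map_smul, LinearMap.trace_id, smul_eq_mul] at htr
  have hval : ∀ x ∈ ({x : G | IsConj g x} : Finset G),
      LinearMap.trace ℂ V (ρ x) = ρ.character g := fun x hx =>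
    (IsClass.eq_of_isConj (isClassFunction_character ρ) (Finset.mem_filter.mp hx).2).symm
  have hne : (finrank ℂ V : ℂ) ≠ 0 := Nat.cast_ne_zero.mpr (finrank_pos_of_irreducible ρ).ne'
  rw [Finset.sum_congr rfl hval, Finset.sum_const, card_conjClass_finset, nsmul_eq_mul] at htr
  rw [hc, htr, mul_div_cancel_right₀ _ hne]

theorem isIntegral_centralChar_rep {V : Type v} [AddCommGroup V] [Module ℂ V]
    [FiniteDimensional ℂ V] (ρ : Representation ℂ G V) [ρ.IsIrreducible] (g : G) :
    IsIntegral ℤ (((Subgroup.centralizer ({g} : Set G)).index : ℂ) * ρ.character g /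
      (finrank ℂ V : ℂ)) := by
  classical
  haveI := Fintype.ofFinite G
  haveI : Nontrivial V := Module.nontrivial_of_finrank_pos (R := ℂ) (finrank_pos_of_irreducible ρ)
  let z : MonoidAlgebra ℤ G := ∑ x ∈ ({x : G | IsConj g x} : Finset G), MonoidAlgebra.single x 1
  have h1 := (IsIntegral.of_finite ℤ z).map (MonoidAlgebra.lift ℤ (Module.End ℂ V) G ρ)
  have h2 : MonoidAlgebra.lift ℤ (Module.End ℂ V) G ρ z = algebraMap ℂ (Module.End ℂ V)
      (((Subgroup.centralizer ({g} : Set G)).index : ℂ) * ρ.character g / (finrank ℂ V : ℂ)) := by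
    rw [map_sum]
    simp only [MonoidAlgebra.lift_single, one_smul]
    rw [classSum_eq_centralChar ρ g, Algebra.algebraMap_eq_smul_one, Module.End.one_eq_id]
  rw [h2] at h1
  exact (isIntegral_algHom_iff ((algebraMap ℂ (Module.End ℂ V)).toIntAlgHom)
    (algebraMap ℂ (Module.End ℂ V)).injective).mp h1

theorem IsIrr.isIntegral_centralChar {χ : G → ℂ} (h : IsIrrCharacter G χ) (g : G) :
    IsIntegral ℤ (((Subgroup.centralizer ({g} : Set G)).index : ℂ) * χ g / χ 1) := by
  obtain ⟨n, ρ, hρ, rfl⟩ := h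
  rw [Representation.char_one]
  exact isIntegral_centralChar_rep ρ g

omit [Finite G] in
theorem conjClass_eq_fiber [Fintype G] [DecidableEq (ConjClasses G)] (g : G)
    [DecidablePred fun x => IsConj g x] :
    (Finset.univ.filter fun x : G => ConjClasses.mk x = ConjClasses.mk g) =
      Finset.univ.filter fun x => IsConj g x := by
  ext x
  simp only [Finset.mem_filter, Finset.mem_univ, true_and, ConjClasses.mk_eq_mk_iff_isConj]
  exact isConj_comm

/-- Summing a class function over the group, one class at a time. -/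
theorem isIntegral_sum_div [Fintype G] {χ : G → ℂ} (h : IsIrrCharacter G χ) {f : G → ℂ}
    (hf : IsClassFunction G f) (hint : ∀ g, IsIntegral ℤ (f g)) :
    IsIntegral ℤ ((∑ g : G, χ g * f g) / χ 1) := by
  classical
  haveI := Fintype.ofFinite (ConjClasses G)
  rw [← Finset.sum_fiberwise Finset.univ (ConjClasses.mk : G → ConjClasses G), Finset.sum_div]
  refine IsIntegral.sum _ fun C _ => ?_
  obtain ⟨g, rfl⟩ := C.exists_rep
  rw [conjClass_eq_fiber g]
  have hval : ∀ x ∈ ({x : G | IsConj g x} : Finset G), χ x * f x = χ g * f g := fun x hx => by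
    have hx' := (Finset.mem_filter.mp hx).2
    rw [← IsClass.eq_of_isConj (IsIrr.classFun h) hx', ← IsClass.eq_of_isConj hf hx']
  rw [Finset.sum_congr rfl hval, Finset.sum_const, card_conjClass_finset, nsmul_eq_mul]
  have := (IsIrr.isIntegral_centralChar h g).mul (hint g)
  convert this using 1
  ring

theorem degree_dvd_card {V : Type v} [AddCommGroup V] [Module ℂ V]
    [FiniteDimensional ℂ V] (ρ : Representation ℂ G V) [ρ.IsIrreducible] :
    finrank ℂ V ∣ Nat.card G := by
  haveI := Fintype.ofFinite G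
  have hirr := isIrrCharacter_character ρ
  have h1 := isIntegral_sum_div hirr (IsIrr.classFun (IsIrr.conj hirr))
    (fun g => IsChar.isIntegral (IsIrr.isCharacter (IsIrr.conj hirr)) g)
  have h2 := classInner_self_irr hirr
  rw [classInner, inv_mul_eq_iff_eq_mul₀ (Nat.cast_ne_zero.mpr Nat.card_pos.ne'), mul_one] at h2
  rw [h2, Representation.char_one] at h1
  exact nat_dvd_of_isIntegral_div (finrank_pos_of_irreducible ρ).ne' h1

theorem IsIrr.degree_dvd_card {χ : G → ℂ} (h : IsIrrCharacter G χ) {n : ℕ} (hn : χ 1 = n) :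
    n ∣ Nat.card G := by
  obtain ⟨m, ρ, hρ, rfl⟩ := h
  rw [Representation.char_one] at hn
  exact Nat.cast_injective hn ▸ Char.degree_dvd_card ρ

/-- An average of roots of unity which is integral vanishes or has absolute value one. -/
theorem norm_eq_one_of_isIntegral_average {n N : ℕ} (hN : 0 < N) (c : Fin n → ℂ)
    (hc : ∀ i, c i ^ N = 1) (hint : IsIntegral ℤ ((∑ i, c i) / (n : ℂ)))
    (hne : (∑ i, c i) / (n : ℂ) ≠ 0) : ‖(∑ i, c i) / (n : ℂ)‖ = 1 := by
  classical
  set α := (∑ i, c i) / (n : ℂ) with hα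
  have hbound : ∀ d : Fin n → ℂ, (∀ i, d i ^ N = 1) → ‖(∑ i, d i) / (n : ℂ)‖ ≤ 1 := by
    intro d hd
    rw [norm_div, Complex.norm_natCast]
    rcases Nat.eq_zero_or_pos n with rfl | hn
    · simp
    · rw [div_le_one (by exact_mod_cast hn)]
      refine (norm_sum_le _ _).trans ?_
      simp [norm_eq_one_of_pow_eq_one' hN (hd _)]
  let K : IntermediateField ℚ ℂ := IntermediateField.adjoin ℚ (Set.range c)
  haveI : Algebra.IsAlgebraic ℚ K := IntermediateField.isAlgebraic_adjoin (by
    rintro x ⟨i, rfl⟩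
    exact IsIntegral.of_pow hN ((hc i).symm ▸ isIntegral_one))
  let cK : Fin n → K := fun i => ⟨c i, IntermediateField.subset_adjoin ℚ _ ⟨i, rfl⟩⟩
  let a : K := (∑ i, cK i) / (n : K)
  have ha : (algebraMap K ℂ) a = α := by simp [a, cK, hα]
  have haq : IsIntegral ℚ α := hint.tower_top
  have hroot : ∀ β ∈ (minpoly ℚ α).rootSet ℂ, ‖β‖ ≤ 1 := by
    intro β hβ
    rw [← ha, minpoly.algebraMap_eq (algebraMap K ℂ).injective,
      ← Algebra.IsAlgebraic.range_eval_eq_rootSet_minpoly (A := ℂ) a] at hβ
    obtain ⟨φ, rfl⟩ := hβ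
    simp only [a, map_div₀, map_sum, map_natCast]
    refine hbound _ fun i => ?_
    rw [← map_pow, show cK i ^ N = 1 from Subtype.ext (by simp [cK, hc]), map_one]
  refine le_antisymm (hbound c hc) (le_of_not_gt fun hlt => ?_)
  have hmap : minpoly ℚ α = (minpoly ℤ α).map (algebraMap ℤ ℚ) :=
    minpoly.isIntegrallyClosed_eq_field_fractions' ℚ hint
  set P := (minpoly ℚ α).map (algebraMap ℚ ℂ) with hP
  have hPm : P.Monic := (minpoly.monic haq).map _
  have hP0 : P.coeff 0 = ((minpoly ℤ α).coeff 0 : ℂ) := by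
    rw [hP, Polynomial.coeff_map, hmap, Polynomial.coeff_map]; simp
  have hprod := (IsAlgClosed.splits P).coeff_zero_eq_leadingCoeff_mul_prod_roots
  rw [hPm.leadingCoeff, mul_one, hP0] at hprod
  have hαroot : α ∈ P.roots := by
    rw [Polynomial.mem_roots hPm.ne_zero, Polynomial.IsRoot, hP, Polynomial.eval_map_algebraMap,
      minpoly.aeval]
  have hlt1 : ‖((minpoly ℤ α).coeff 0 : ℂ)‖ < 1 := by
    rw [hprod, norm_mul, norm_pow, norm_neg, norm_one, one_pow, one_mul,
      ← Multiset.cons_erase hαroot, Multiset.prod_cons, norm_mul]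
    refine lt_of_le_of_lt (mul_le_of_le_one_right (norm_nonneg _) ?_) hlt
    rw [show ‖(P.roots.erase α).prod‖ = ((P.roots.erase α).map (fun x => ‖x‖)).prod from
      map_multiset_prod (normHom : ℂ →*₀ ℝ) _]
    refine (Multiset.prod_map_le_prod_map₀ (fun x => ‖x‖) (fun _ => (1 : ℝ))
      (fun x _ => norm_nonneg x) fun x hx => hroot x ?_).trans_eq (by simp)
    rw [Polynomial.mem_rootSet]
    refine ⟨minpoly.ne_zero haq, ?_⟩
    have := (Polynomial.mem_roots hPm.ne_zero).mp (Multiset.mem_of_mem_erase hx)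
    rwa [Polynomial.IsRoot, hP, Polynomial.eval_map_algebraMap] at this
  have h0 : (minpoly ℤ α).coeff 0 = 0 := by
    rw [Complex.norm_intCast] at hlt1
    exact Int.abs_lt_one_iff.mp (by exact_mod_cast hlt1)
  refine hne ((minpoly.coeff_zero_eq_zero haq).mp ?_)
  rw [hmap, Polynomial.coeff_map, h0, map_zero]

theorem character_eq_zero_or_norm_eq {V : Type v} [AddCommGroup V] [Module ℂ V]
    [FiniteDimensional ℂ V] (ρ : Representation ℂ G V) [ρ.IsIrreducible] (g : G)
    (hcop : Nat.Coprime (finrank ℂ V) (Subgroup.centralizer ({g} : Set G)).index) :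
    ρ.character g = 0 ∨ ‖ρ.character g‖ = (finrank ℂ V : ℝ) := by
  obtain ⟨b, c, -, hc, hk⟩ := exists_rep_eigenbasis ρ g
  have hsum := hk 1
  simp only [pow_one] at hsum
  have hn : (finrank ℂ V : ℂ) ≠ 0 := Nat.cast_ne_zero.mpr (finrank_pos_of_irreducible ρ).ne'
  have hint : IsIntegral ℤ (ρ.character g / (finrank ℂ V : ℂ)) := by
    obtain ⟨x, y, hxy⟩ := Int.isCoprime_iff_gcd_eq_one.mpr
      (show Int.gcd (finrank ℂ V) (Subgroup.centralizer ({g} : Set G)).index = 1 from hcop)
    have e : ρ.character g / (finrank ℂ V : ℂ) = (x : ℂ) * ρ.character g + (y : ℂ) *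
        (((Subgroup.centralizer ({g} : Set G)).index : ℂ) * ρ.character g / (finrank ℂ V : ℂ)) := by
      have hxy' : (x : ℂ) * (finrank ℂ V : ℂ) +
          (y : ℂ) * ((Subgroup.centralizer ({g} : Set G)).index : ℂ) = 1 := by exact_mod_cast hxy
      field_simp
      linear_combination -ρ.character g * hxy'
    rw [e]
    exact ((isIntegral_algebraMap (x := x)).mul (isIntegral_character ρ g)).add
      ((isIntegral_algebraMap (x := y)).mul (isIntegral_centralChar_rep ρ g))
  by_cases h0 : ρ.character g = 0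
  · exact .inl h0
  · right
    have h1 := norm_eq_one_of_isIntegral_average (orderOf_pos g) c hc (hsum ▸ hint)
      (hsum ▸ div_ne_zero h0 hn)
    rwa [← hsum, norm_div, Complex.norm_natCast, div_eq_one_iff_eq (by exact_mod_cast
      (finrank_pos_of_irreducible ρ).ne')] at h1

theorem card_prime_of_simple_of_comm [IsSimpleGroup G] (h : ∀ a b : G, a * b = b * a) :
    (Nat.card G).Prime := by
  let _ : CommGroup G := { ‹Group G› with mul_comm := h }
  exact IsSimpleGroup.prime_card

theorem comm_of_central_ne_one [IsSimpleGroup G] {g : G} (hg : g ≠ 1)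
    (hc : g ∈ Subgroup.center G) : ∀ a b : G, a * b = b * a := by
  rcases (inferInstance : (Subgroup.center G).Normal).eq_bot_or_eq_top with h | h
  · exact absurd (Subgroup.mem_bot.mp (h ▸ hc)) hg
  · exact fun a b => ((Subgroup.mem_center_iff.mp (h ▸ Subgroup.mem_top a : a ∈ Subgroup.center G))
      b).symm

/-- Burnside: a simple group with a nontrivial class of prime power size has prime order. -/
theorem simple_prime_pow_class [IsSimpleGroup G] (p k : ℕ) (hp : p.Prime) (g : G) (hg : g ≠ 1)
    (hclass : (Subgroup.centralizer ({g} : Set G)).index = p ^ k) : (Nat.card G).Prime := by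
  classical
  haveI := Fintype.ofFinite G
  refine card_prime_of_simple_of_comm ?_
  by_cases hcen : g ∈ Subgroup.center G
  · exact comm_of_central_ne_one hg hcen
  exfalso
  have h1 := regular_expansion g
  rw [if_neg hg] at h1
  let one : IrrCharacter G := ⟨fun _ => 1, isIrr_one⟩
  rw [← Finset.add_sum_erase _ _ (Finset.mem_univ one)] at h1
  have hint : IsIntegral ℤ
      ((∑ χ ∈ Finset.univ.erase one, (χ : G → ℂ) 1 * (χ : G → ℂ) g) / (p : ℂ)) := by
    rw [Finset.sum_div]
    refine IsIntegral.sum _ fun χ hχ => ?_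
    have hne : (χ : G → ℂ) ≠ fun _ => 1 := fun h => (Finset.mem_erase.mp hχ).1 (Subtype.ext h)
    obtain ⟨n, ρ, hρ, hρχ⟩ := χ.2
    rw [← hρχ, Representation.char_one]
    by_cases hdvd : p ∣ finrank ℂ (Fin n → ℂ)
    · obtain ⟨m, hm⟩ := hdvd
      rw [hm, Nat.cast_mul, mul_assoc, mul_div_cancel_left₀ _ (Nat.cast_ne_zero.mpr hp.ne_zero)]
      exact (isIntegral_algebraMap (R := ℤ) (x := (m : ℤ))).mul (isIntegral_character ρ g) |>
        fun h => by simpa using h
    · rcases character_eq_zero_or_norm_eq ρ g (hclass ▸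
        ((hp.coprime_iff_not_dvd.mpr hdvd).symm.pow_right k)) with h0 | h0
      · rw [h0, mul_zero, zero_div]; exact isIntegral_zero
      · exfalso
        obtain ⟨ω, hω⟩ := (norm_character_eq_iff ρ g).mp h0
        rcases ((inferInstance : (MonoidHom.ker ρ).Normal)).eq_bot_or_eq_top with hk | hk
        · refine hcen (Subgroup.mem_center_iff.mpr fun x => ?_)
          refine (MonoidHom.ker_eq_bot_iff ρ).mp hk ?_
          rw [map_mul, map_mul, hω, ← Module.End.one_eq_id, mul_smul_comm, smul_mul_assoc, one_mul,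
            mul_one]
        · have hid : ∀ x, ρ x = LinearMap.id := fun x => by
            have := MonoidHom.mem_ker.mp (hk ▸ Subgroup.mem_top x : x ∈ MonoidHom.ker ρ)
            exact this
          have hc1 : ρ.character = fun _ => (finrank ℂ (Fin n → ℂ) : ℂ) := funext fun x =>
            (character_eq_finrank_iff ρ x).mpr (hid x)
          have hn1 := classInner_self_irr (isIrrCharacter_character ρ)
          simp only [hc1, classInner, Finset.sum_const, Finset.card_univ, nsmul_eq_mul,
            map_natCast, ← Nat.card_eq_fintype_card] at hn1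
          rw [inv_mul_cancel_left₀ (Nat.cast_ne_zero.mpr Nat.card_pos.ne')] at hn1
          have hn2 : finrank ℂ (Fin n → ℂ) = 1 := by
            have : finrank ℂ (Fin n → ℂ) * finrank ℂ (Fin n → ℂ) = 1 := by exact_mod_cast hn1
            exact Nat.eq_one_of_mul_eq_one_right this
          exact hne (hρχ ▸ by simp [hc1, hn2])
  rw [show (one : G → ℂ) 1 * (one : G → ℂ) g = 1 by simp [one]] at h1
  have h2 : (∑ χ ∈ Finset.univ.erase one, (χ : G → ℂ) 1 * (χ : G → ℂ) g) = -1 := by
    linear_combination h1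
  rw [h2, neg_div] at hint
  exact hp.ne_one (Nat.dvd_one.mp (nat_dvd_of_isIntegral_div hp.ne_zero
    (a := 1) (by simpa using hint.neg)))

end Cfsg.Agent.Char
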