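import Mathlib.GroupTheory.PGroup
import Mathlib.GroupTheory.GroupAction.Quotient
import Mathlib.GroupTheory.SpecificGroups.Cyclic
import Mathlib.Algebra.Group.End
import Mathlib.Algebra.Group.Subgroup.Finite
import Mathlib.Data.Fintype.Card

/-!
A group of order 9 acting faithfully on a group of order 16 and exponent 2: two invariant subgroups
of order 4, and all other elements in one free orbit.
-/

namespace Cfsg.Agent.Char.SecInner.Nine

set_option linter.unusedSectionVars false
set_option linter.style.haveILetI false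

variable {V : Type*} [Group V] [Finite V]

/-- The fixed subgroup of an automorphism. -/
def fixSub (e : MulAut V) : Subgroup V := MonoidHom.eqLocus e.toMonoidHom (MonoidHom.id V)

theorem mem_fixSub {e : MulAut V} {v : V} : v ∈ fixSub e ↔ e v = v := Iff.rfl

theorem card_fix (hV : Nat.card V = 16) (E : Subgroup (MulAut V)) (hE : Nat.card E = 9) {e : E}
    (he : e ≠ 1) : Nat.card (fixSub (e : MulAut V)) = 1 ∨ Nat.card (fixSub (e : MulAut V)) = 4 := by
  haveI : Fact (Nat.Prime 3) := ⟨Nat.prime_three⟩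
  haveI : Finite E := Nat.finite_of_card_ne_zero (by omega)
  have hd : Nat.card (fixSub (e : MulAut V)) ∣ 16 := hV ▸ Subgroup.card_subgroup_dvd_card _
  have hz : IsPGroup 3 (Subgroup.zpowers e) :=
    (IsPGroup.of_card (n := 2) (by rw [hE]; norm_num) : IsPGroup 3 E).to_subgroup _
  have hmod := hz.card_modEq_card_fixedPoints V
  have hfix : Nat.card (MulAction.fixedPoints (Subgroup.zpowers e) V) =
      Nat.card (fixSub (e : MulAut V)) := by
    refine Nat.card_congr (Equiv.subtypeEquivRight fun v => ?_)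
    refine ⟨fun h => h ⟨e, Subgroup.mem_zpowers e⟩, fun h t => ?_⟩
    obtain ⟨t, ht⟩ := t
    have hle : Subgroup.zpowers e ≤ MulAction.stabilizer E v := Subgroup.zpowers_le.2 h
    exact hle ht
  rw [hfix, hV] at hmod
  have hne : Nat.card (fixSub (e : MulAut V)) ≠ 16 := by
    intro h16
    refine he (Subtype.ext (MulEquiv.ext fun v => ?_))
    have : fixSub (e : MulAut V) = ⊤ := Subgroup.eq_top_of_card_eq _ (h16.trans hV.symm)
    exact mem_fixSub.1 (this ▸ Subgroup.mem_top v)
  have hle : Nat.card (fixSub (e : MulAut V)) ≤ 16 := Nat.le_of_dvd (by norm_num) hd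
  unfold Nat.ModEq at hmod
  interval_cases Nat.card (fixSub (e : MulAut V)) <;> omega

theorem mem_stab {E : Subgroup (MulAut V)} {e : E} {w : V} (h : w ∈ fixSub (e : MulAut V)) :
    e ∈ MulAction.stabilizer E w := h

theorem mem_stab_iff' {E : Subgroup (MulAut V)} {e : E} {w : V} :
    e ∈ MulAction.stabilizer E w ↔ (e : MulAut V) w = w := Iff.rfl

theorem inv_ne_self (E : Subgroup (MulAut V)) (hE : Nat.card E = 9) {e : E} (he : e ≠ 1) :
    e⁻¹ ≠ e := by
  intro h
  have h2 : e ^ 2 = 1 := by rw [pow_two]; nth_rw 1 [← h]; exact inv_mul_cancel e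
  have hd := Nat.dvd_gcd (orderOf_dvd_of_pow_eq_one h2) (orderOf_dvd_natCard e)
  rw [hE] at hd
  exact he (orderOf_eq_one_iff.1 (Nat.dvd_one.1 hd))

/-- The invariant subgroups and the free orbit. -/
theorem structure_nine (hV : Nat.card V = 16) (E : Subgroup (MulAut V)) (hE : Nat.card E = 9) :
    ∃ F₁ F₂ : Subgroup V, Nat.card F₁ = 4 ∧ Nat.card F₂ = 4 ∧ (∀ v ∈ F₁, v ∈ F₂ → v = 1) ∧
      (∀ F ∈ ({F₁, F₂} : Set (Subgroup V)), (∀ e : E, ∀ v ∈ F, (e : MulAut V) v ∈ F) ∧
        (∀ f ∈ F, f ≠ 1 → ∀ f' ∈ F, f' ≠ 1 → ∃ e : E, (e : MulAut V) f = f') ∧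
        (∀ e : E, ∀ f ∈ F, f ≠ 1 → (e : MulAut V) f = f →
          (∀ g ∈ F, (e : MulAut V) g = g) ∧ (∀ w : V, w ∉ F → (e : MulAut V) w = w → e = 1))) ∧
      (∀ v : V, v ∉ F₁ → v ∉ F₂ → ∀ e : E, (e : MulAut V) v = v → e = 1) ∧
      (∀ v : V, v ∉ F₁ → v ∉ F₂ → ∀ w : V, w ∉ F₁ → w ∉ F₂ →
        ∃ e : E, (e : MulAut V) v = w) := by
  classical
  haveI : Fact (Nat.Prime 3) := ⟨Nat.prime_three⟩
  haveI : Finite E := Nat.finite_of_card_ne_zero (by omega)
  letI := Fintype.ofFinite E
  letI := Fintype.ofFinite V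
  have hcomm : ∀ a b : E, a * b = b * a :=
    (IsPGroup.isMulCommutative_of_card_eq_prime_sq (p := 3)
      (by rw [hE]; norm_num)).is_comm.comm
  set n : E → ℕ := fun e => Nat.card (fixSub (e : MulAut V)) with hn
  set A := Finset.univ.filter fun e : E => e ≠ 1 ∧ n e = 4 with hA
  set A' := Finset.univ.filter fun e : E => e ≠ 1 ∧ n e = 1 with hA'
  have hAA : A.card + A'.card = 8 := by
    rw [← Finset.card_union_of_disjoint (Finset.disjoint_filter.2 fun e _ h h' => by omega)]
    have : A ∪ A' = Finset.univ.erase 1 := by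
      ext e
      simp only [A, A', Finset.mem_union, Finset.mem_filter, Finset.mem_univ, true_and,
        Finset.mem_erase, and_true]
      refine ⟨fun h => h.elim (·.1) (·.1), fun h => ?_⟩
      rcases card_fix hV E hE h with e1 | e1
      · exact Or.inr ⟨h, e1⟩
      · exact Or.inl ⟨h, e1⟩
    rw [this, Finset.card_erase_of_mem (Finset.mem_univ _), Finset.card_univ,
      ← Nat.card_eq_fintype_card, hE]
  have hinv : ∀ e : E, n e⁻¹ = n e := fun e => by
    refine Nat.card_congr (Equiv.subtypeEquivRight fun v => ?_)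
    rw [mem_fixSub, mem_fixSub, Subgroup.coe_inv]
    exact ⟨fun h => by conv_lhs => rw [← h]
                       exact (e : MulAut V).apply_symm_apply v,
      fun h => by conv_lhs => rw [← h]
                  exact (e : MulAut V).symm_apply_apply v⟩
  have hno : ∀ (S : Finset E), (∀ e ∈ S, e ≠ 1 ∧ e⁻¹ ∈ S) → S.card ≠ 1 := by
    intro S hS h1
    obtain ⟨e, rfl⟩ := Finset.card_eq_one.1 h1
    obtain ⟨h2, h3⟩ := hS e (Finset.mem_singleton_self e)
    exact inv_ne_self E hE h2 (Finset.mem_singleton.1 h3)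
  have hA1 : A.card ≠ 1 := hno A fun e he => by
    obtain ⟨h1, h2⟩ := (Finset.mem_filter.1 he).2
    exact ⟨h1, Finset.mem_filter.2 ⟨Finset.mem_univ _, inv_ne_one.2 h1, (hinv e).trans h2⟩⟩
  have hA1' : A'.card ≠ 1 := hno A' fun e he => by
    obtain ⟨h1, h2⟩ := (Finset.mem_filter.1 he).2
    exact ⟨h1, Finset.mem_filter.2 ⟨Finset.mem_univ _, inv_ne_one.2 h1, (hinv e).trans h2⟩⟩
  have hburn : ∑ e : E, n e = Nat.card (Quotient (MulAction.orbitRel E V)) * 9 := by
    letI := Fintype.ofFinite (Quotient (MulAction.orbitRel E V))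
    have h := MulAction.sum_card_fixedBy_eq_card_orbits_mul_card_group E V
    rw [← Nat.card_eq_fintype_card (α := E), hE] at h
    rw [Nat.card_eq_fintype_card, ← h]
    refine Finset.sum_congr rfl fun e _ => ?_
    simp only [n]
    rw [← Nat.card_eq_fintype_card]
    exact Nat.card_congr (Equiv.subtypeEquivRight fun v => Iff.rfl)
  have hsum : ∑ e : E, n e = 16 + 8 + 3 * A.card := by
    rw [← Finset.add_sum_erase _ _ (Finset.mem_univ (1 : E))]
    have h1 : n 1 = 16 := by
      rw [← hV]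
      exact Nat.card_congr (Equiv.subtypeUnivEquiv fun v => mem_fixSub.2 rfl)
    have h2 : ∀ e ∈ Finset.univ.erase (1 : E), n e = 1 + if n e = 4 then 3 else 0 := by
      intro e he
      rcases card_fix hV E hE (Finset.mem_erase.1 he).1 with e1 | e1 <;>
        simp only [show n e = _ from e1] <;> rfl
    rw [h1, Finset.sum_congr rfl h2, Finset.sum_add_distrib, ← Finset.sum_filter,
      Finset.sum_const, Finset.sum_const, smul_eq_mul, smul_eq_mul,
      Finset.card_erase_of_mem (Finset.mem_univ _), Finset.card_univ, ← Nat.card_eq_fintype_card,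
      hE]
    have : (Finset.univ.erase (1 : E)).filter (fun e => n e = 4) = A := by
      ext e
      simp [A]
    rw [this]
    omega
  have ha : A.card = 4 := by omega
  have hall : ∀ v : V, v ≠ 1 → ∃ e : E, (e : MulAut V) v ≠ v := by
    intro v hv
    by_contra hc
    push Not at hc
    have : A' = ∅ := Finset.eq_empty_of_forall_notMem fun e he => by
      have h1 := ((Finset.mem_filter.1 he).2).2
      have h2 : fixSub (e : MulAut V) = ⊥ := (Subgroup.card_eq_one).1 h1
      exact hv (Subgroup.mem_bot.1 (h2 ▸ mem_fixSub.2 (hc e)))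
    rw [this, Finset.card_empty] at hAA
    omega
  obtain ⟨e₁, he₁⟩ := Finset.card_pos.1 (by omega : 0 < A.card)
  obtain ⟨hne₁, hf₁⟩ := (Finset.mem_filter.1 he₁).2
  have hord : ∀ e : E, n e = 4 → e ≠ 1 →
      (∀ v : V, v ∈ fixSub (e : MulAut V) → v ≠ 1 →
        MulAction.stabilizer E v = Subgroup.zpowers e) ∧
      Nat.card (Subgroup.zpowers e) = 3 := by
    intro e hf hne
    have h4 : ∃ v, v ∈ fixSub (e : MulAut V) ∧ v ≠ 1 := by
      by_contra hc
      push Not at hc
      have : fixSub (e : MulAut V) = ⊥ := (Subgroup.eq_bot_iff_forall _).2 hc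
      simp [n, this] at hf
    have hstab : ∀ v : V, v ∈ fixSub (e : MulAut V) → v ≠ 1 →
        Nat.card (MulAction.stabilizer E v) = 3 := by
      intro v hv hv1
      have hd : Nat.card (MulAction.stabilizer E v) ∣ 3 ^ 2 := by
        rw [show (3 : ℕ) ^ 2 = 9 by norm_num, ← hE]; exact Subgroup.card_subgroup_dvd_card _
      obtain ⟨i, hi, hi'⟩ := (Nat.dvd_prime_pow Nat.prime_three).1 hd
      interval_cases i
      · exfalso
        have := Subgroup.card_eq_one.1 (hi'.trans (pow_zero 3))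
        exact hne (Subgroup.mem_bot.1 (this ▸ (hv : e ∈ MulAction.stabilizer E v)))
      · simpa using hi'
      · exfalso
        have htop : MulAction.stabilizer E v = ⊤ :=
          Subgroup.eq_top_of_card_eq _ (by rw [hi', hE]; norm_num)
        obtain ⟨g, hg⟩ := hall v hv1
        exact hg (htop ▸ Subgroup.mem_top g : g ∈ MulAction.stabilizer E v)
    obtain ⟨v, hv, hv1⟩ := h4
    have hc3 : Nat.card (Subgroup.zpowers e) = 3 := by
      have hd : Nat.card (Subgroup.zpowers e) ∣ 3 :=
        hstab v hv hv1 ▸ Subgroup.card_dvd_of_le (Subgroup.zpowers_le.2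
          (hv : e ∈ MulAction.stabilizer E v))
      rcases (Nat.dvd_prime Nat.prime_three).1 hd with h | h
      · exact absurd (Subgroup.zpowers_eq_bot.1 (Subgroup.card_eq_one.1 h)) hne
      · exact h
    refine ⟨fun w hw hw1 => (Subgroup.eq_of_le_of_card_ge
      (Subgroup.zpowers_le.2 (mem_stab hw)) ?_).symm, hc3⟩
    rw [hstab w hw hw1, hc3]
  obtain ⟨e₂, he₂, he₁₂⟩ : ∃ e ∈ A, e ∉ Subgroup.zpowers e₁ := by
    by_contra hc
    push Not at hc
    have h : A ⊆ (Finset.univ.filter fun e : E => e ∈ Subgroup.zpowers e₁) := fun e he =>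
      Finset.mem_filter.2 ⟨Finset.mem_univ _, hc e he⟩
    have h2 := Finset.card_le_card h
    have h3 := (hord e₁ hf₁ hne₁).2
    have h4 : (Finset.univ.filter fun e : E => e ∈ Subgroup.zpowers e₁).card =
        Nat.card (Subgroup.zpowers e₁) := by
      rw [Nat.card_eq_fintype_card]
      exact (Fintype.card_subtype _).symm
    rw [h4] at h2
    omega
  obtain ⟨hne₂, hf₂⟩ := (Finset.mem_filter.1 he₂).2
  set F₁ := fixSub (e₁ : MulAut V) with hF₁
  set F₂ := fixSub (e₂ : MulAut V) with hF₂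
  have hint : ∀ v ∈ F₁, v ∈ F₂ → v = 1 := fun v h1 h2 => by
    by_contra hv
    have := ((hord e₁ hf₁ hne₁).1 v h1 hv)
    exact he₁₂ (this ▸ (h2 : e₂ ∈ MulAction.stabilizer E v))
  have hgood : ∀ e : E, n e = 4 → e ≠ 1 →
      (∀ g : E, ∀ v ∈ fixSub (e : MulAut V), (g : MulAut V) v ∈ fixSub (e : MulAut V)) ∧
      (∀ f ∈ fixSub (e : MulAut V), f ≠ 1 → ∀ f' ∈ fixSub (e : MulAut V), f' ≠ 1 →
        ∃ g : E, (g : MulAut V) f = f') ∧
      (∀ g : E, ∀ f ∈ fixSub (e : MulAut V), f ≠ 1 → (g : MulAut V) f = f →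
        (∀ h ∈ fixSub (e : MulAut V), (g : MulAut V) h = h) ∧
        (∀ w : V, w ∉ fixSub (e : MulAut V) → (g : MulAut V) w = w → g = 1)) := by
    intro e hf hne
    obtain ⟨hst, hc3⟩ := hord e hf hne
    have hinvt : ∀ g : E, ∀ v ∈ fixSub (e : MulAut V), (g : MulAut V) v ∈ fixSub (e : MulAut V) := by
      intro g v hv
      have hv' : e • v = v := hv
      show e • (g • v) = g • v
      rw [smul_smul, hcomm, ← smul_smul, hv']
    refine ⟨hinvt, fun f hf1 hf0 f' hf1' hf0' => ?_, fun g f hf1 hf0 hg => ?_⟩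
    · have horb : MulAction.orbit E f = {w | w ∈ fixSub (e : MulAut V) ∧ w ≠ 1} := by
        refine Set.eq_of_subset_of_ncard_le ?_ ?_ (Set.toFinite _)
        · rintro _ ⟨g, rfl⟩
          refine ⟨hinvt g f hf1, fun h => hf0 ?_⟩
          exact (g : MulAut V).injective (h.trans (map_one _).symm)
        · have h1 : Nat.card (MulAction.orbit E f) * 3 = 9 := by
            rw [← hE, ← Subgroup.index_mul_card (MulAction.stabilizer E f),
              MulAction.index_stabilizer E f, hst f hf1 hf0, hc3, Nat.card_coe_set_eq]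
          have h2 : {w | w ∈ fixSub (e : MulAut V) ∧ w ≠ 1} =
              (fixSub (e : MulAut V) : Set V) \ {1} := rfl
          rw [h2, Set.ncard_sdiff_singleton_of_mem (Subgroup.one_mem _), ← Nat.card_coe_set_eq,
            SetLike.coe_sort_coe, ← Nat.card_coe_set_eq (MulAction.orbit E f)]
          have : Nat.card (fixSub (e : MulAut V)) = 4 := hf
          omega
      exact (horb ▸ ⟨hf1', hf0'⟩ : f' ∈ MulAction.orbit E f)
    · have hgm : g ∈ Subgroup.zpowers e := hst f hf1 hf0 ▸ (hg : g ∈ MulAction.stabilizer E f)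
      refine ⟨fun h hh => ?_, fun w hw hgw => ?_⟩
      · exact mem_stab_iff'.1 ((Subgroup.zpowers_le.2 (mem_stab hh)) hgm)
      · by_contra hg1
        have hgz : Subgroup.zpowers g = Subgroup.zpowers e := by
          refine Subgroup.eq_of_le_of_card_ge (Subgroup.zpowers_le.2 hgm) ?_
          have hd : Nat.card (Subgroup.zpowers g) ∣ 3 :=
            hc3 ▸ Subgroup.card_dvd_of_le (Subgroup.zpowers_le.2 hgm)
          rcases (Nat.dvd_prime Nat.prime_three).1 hd with h | h
          · exact absurd (Subgroup.zpowers_eq_bot.1 (Subgroup.card_eq_one.1 h)) hg1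
          · rw [hc3, h]
        have hz : Subgroup.zpowers g ≤ MulAction.stabilizer E w :=
          Subgroup.zpowers_le.2 (mem_stab_iff'.2 hgw)
        rw [hgz] at hz
        exact hw (mem_fixSub.2 (mem_stab_iff'.1 (hz (Subgroup.mem_zpowers e))))
  have hfree : ∀ v : V, v ∉ F₁ → v ∉ F₂ → ∀ e : E, (e : MulAut V) v = v → e = 1 := by
    intro v h1 h2 e hev
    by_contra he
    have hv : v ≠ 1 := fun h => h1 (h ▸ F₁.one_mem)
    rcases card_fix hV E hE he with hc | hc
    · exact hv (Subgroup.mem_bot.1 ((Subgroup.card_eq_one.1 hc) ▸ mem_fixSub.2 hev))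
    · have hin : e ∈ A := Finset.mem_filter.2 ⟨Finset.mem_univ _, he, hc⟩
      have hA4 : A = {e₁, e₁⁻¹, e₂, e₂⁻¹} := by
        refine (Finset.eq_of_subset_of_card_le ?_ ?_).symm
        · simp only [Finset.insert_subset_iff, Finset.singleton_subset_iff]
          exact ⟨he₁, Finset.mem_filter.2 ⟨Finset.mem_univ _, inv_ne_one.2 hne₁, (hinv _).trans hf₁⟩,
            he₂, Finset.mem_filter.2 ⟨Finset.mem_univ _, inv_ne_one.2 hne₂, (hinv _).trans hf₂⟩⟩
        · have a1 := inv_ne_self E hE hne₁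
          have a2 := inv_ne_self E hE hne₂
          have a3 : e₁ ≠ e₂ := fun h => he₁₂ (h ▸ Subgroup.mem_zpowers e₁)
          have a4 : e₁ ≠ e₂⁻¹ := fun h => he₁₂ (by
            rw [← inv_inv e₂, ← h]; exact inv_mem (Subgroup.mem_zpowers e₁))
          have a5 : e₁⁻¹ ≠ e₂ := fun h => he₁₂ (h ▸ inv_mem (Subgroup.mem_zpowers e₁))
          have a6 : e₁⁻¹ ≠ e₂⁻¹ := fun h => a3 (inv_injective h)
          rw [ha, Finset.card_insert_of_notMem (by simp [a1.symm, a3, a4]),
            Finset.card_insert_of_notMem (by simp [a5, a6]),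
            Finset.card_insert_of_notMem (by simp [a2.symm]), Finset.card_singleton]
      rw [hA4] at hin
      simp only [Finset.mem_insert, Finset.mem_singleton] at hin
      rcases hin with rfl | rfl | rfl | rfl
      · exact h1 hev
      · exact h1 (inv_inv e₁ ▸ inv_mem (hev : e₁⁻¹ ∈ MulAction.stabilizer E v) :
          e₁ ∈ MulAction.stabilizer E v)
      · exact h2 hev
      · exact h2 (inv_inv e₂ ▸ inv_mem (hev : e₂⁻¹ ∈ MulAction.stabilizer E v) :
          e₂ ∈ MulAction.stabilizer E v)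
  refine ⟨F₁, F₂, hf₁, hf₂, hint, ?_, hfree, fun v h1 h2 w k1 k2 => ?_⟩
  · rintro F (rfl | rfl)
    · exact hgood e₁ hf₁ hne₁
    · exact hgood e₂ hf₂ hne₂
  have horb : MulAction.orbit E v = ((F₁ : Set V) ∪ (F₂ : Set V))ᶜ := by
    refine Set.eq_of_subset_of_ncard_le ?_ ?_ (Set.toFinite _)
    · rintro _ ⟨g, rfl⟩
      rintro (h | h)
      · have := (hgood e₁ hf₁ hne₁).1 g⁻¹ _ h
        rw [show ((g⁻¹ : E) : MulAut V) ((fun m : E => m • v) g) = v from inv_smul_smul g v] at this
        exact h1 this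
      · have := (hgood e₂ hf₂ hne₂).1 g⁻¹ _ h
        rw [show ((g⁻¹ : E) : MulAut V) ((fun m : E => m • v) g) = v from inv_smul_smul g v] at this
        exact h2 this
    · have hs : Nat.card (MulAction.stabilizer E v) = 1 :=
        Subgroup.card_eq_one.2 ((Subgroup.eq_bot_iff_forall _).2 fun e he => hfree v h1 h2 e he)
      have h9 := Subgroup.index_mul_card (MulAction.stabilizer E v)
      rw [MulAction.index_stabilizer E v, hs, hE, mul_one] at h9
      have hu := Set.ncard_union_add_ncard_inter (F₁ : Set V) (F₂ : Set V)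
      have hi : ((F₁ : Set V) ∩ (F₂ : Set V)).ncard = 1 :=
        Set.ncard_eq_one.2 ⟨1, Set.ext fun u => ⟨fun hu => hint u hu.1 hu.2,
          fun hu => by rw [Set.mem_singleton_iff.1 hu]; exact ⟨F₁.one_mem, F₂.one_mem⟩⟩⟩
      have k1 : (F₁ : Set V).ncard = 4 := by rw [← Nat.card_coe_set_eq]; exact hf₁
      have k2 : (F₂ : Set V).ncard = 4 := by rw [← Nat.card_coe_set_eq]; exact hf₂
      rw [h9, Set.ncard_compl, hV]
      omega
  have hw : w ∈ MulAction.orbit E v := by
    rw [horb]
    rintro (h | h)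
    · exact k1 h
    · exact k2 h
  exact hw

end Cfsg.Agent.Char.SecInner.Nine
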