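import Cfsg.Agent.Lib.Char.SecTwoSixteen
import Cfsg.Agent.Lib.Char.SecNineAction
import Mathlib.Algebra.Group.Subgroup.Finite

/-!
Principal 2-blocks with an elementary Sylow subgroup of order 16 and inertial index 9 have 16
characters and rank 9.
-/

open scoped ComplexConjugate

namespace Cfsg.Agent.Char.SecInner

open Cfsg.Agent.Block Cfsg.Agent.Char Cfsg.Agent.Char.BP Cfsg.Agent.Char.Spec Cfsg.Agent.Char.Star
open Cfsg.Agent.Transfer

set_option linter.unusedSectionVars false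
set_option linter.style.haveILetI false
set_option maxHeartbeats 800000

universe u

variable {G : Type u} [Group G] [Fintype G] {M : Ideal AlgInt}

/-- An invariant subgroup of order four with one orbit. -/
structure Part (P : Sylow 2 G) (F : Subgroup G) : Prop where
  le : F ≤ (P : Subgroup G)
  cardF : Nat.card F = 4
  inv : ∀ t ∈ Subgroup.normalizer (P : Set G), ∀ v ∈ F, t * v * t⁻¹ ∈ F
  trans : ∀ f ∈ F, f ≠ 1 → ∀ f' ∈ F, f' ≠ 1 →
    ∃ t ∈ Subgroup.normalizer (P : Set G), t * f * t⁻¹ = f'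
  fixes : ∀ t ∈ Subgroup.normalizer (P : Set G), ∀ f ∈ F, f ≠ 1 → t * f * t⁻¹ = f →
    (∀ g ∈ F, t * g * t⁻¹ = g) ∧ ∀ w ∈ (P : Subgroup G), w ∉ F → t * w * t⁻¹ = w →
      t ∈ Subgroup.centralizer (P : Set G)

section Facts

variable {P : Sylow 2 G} (hcard : Nat.card (P : Subgroup G) = 16)
  (hsq : ∀ v ∈ (P : Subgroup G), v * v = 1) (hab : IsMulCommutative (P : Subgroup G))

include hab in
theorem exists_conj_normalizer {v w : G} (hv : v ∈ (P : Subgroup G))
    (hw : w ∈ (P : Subgroup G)) (h : IsConj v w) :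
    ∃ t ∈ Subgroup.normalizer (P : Set G), t * v * t⁻¹ = w := by
  haveI : Fact (Nat.Prime 2) := ⟨Nat.prime_two⟩
  obtain ⟨g, hg⟩ := isConj_iff.1 h
  obtain ⟨n, hn, he⟩ := exists_normalizer_conj_of_abelian P hab hv (g := g) (by rw [hg]; exact hw)
  exact ⟨n, hn, he.trans hg⟩

open Classical in
include hab in
theorem Part.cnum_eq {F : Subgroup G} (h : Part P F) {f : G} (hf : f ∈ F) (hf1 : f ≠ 1) :
    cnum P f = 3 := by
  classical
  haveI : Fact (Nat.Prime 2) := ⟨Nat.prime_two⟩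
  have : (Finset.univ.filter fun w : G => w ∈ (P : Subgroup G) ∧ IsConj f w) =
      (Finset.univ.filter fun w : G => w ∈ F).erase 1 := by
    ext w
    simp only [Finset.mem_filter, Finset.mem_univ, true_and, Finset.mem_erase]
    constructor
    · rintro ⟨hw, hc⟩
      obtain ⟨t, ht, rfl⟩ := exists_conj_normalizer hab (h.le hf) hw hc
      exact ⟨fun e => hf1 (conj_eq_one_iff.1 e), h.inv t ht f hf⟩
    · rintro ⟨hw1, hw⟩
      obtain ⟨t, -, ht⟩ := h.trans f hf hf1 w hw hw1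
      exact ⟨h.le hw, isConj_iff.2 ⟨t, ht⟩⟩
  rw [cnum, this, Finset.card_erase_of_mem (by simp [F.one_mem]),
    show (Finset.univ.filter fun w : G => w ∈ F).card = 4 by
      rw [← h.cardF, Nat.card_eq_fintype_card]; exact (Fintype.card_subtype _).symm]

open Classical in
include hcard hsq hab in
/-- The centralizer of a nontrivial element of a part satisfies the rank three hypotheses. -/
theorem Part.three {F : Subgroup G} (h : Part P F) {x : G} (hx : x ∈ F) (hx1 : x ≠ 1)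
    (hmove : ∃ t ∈ Subgroup.normalizer (P : Set G), t * x * t⁻¹ = x ∧
      t ∉ Subgroup.centralizer (P : Set G))
    (hodd : ∀ t ∈ Subgroup.normalizer (P : Set G), t ^ 2 ∈ Subgroup.centralizer (P : Set G) →
      t ∈ Subgroup.centralizer (P : Set G))
    (horb : ∀ v ∈ (P : Subgroup G), v ∉ F →
      (Finset.univ.filter fun w : G => ∃ t ∈ Subgroup.normalizer (P : Set G),
        t * x * t⁻¹ = x ∧ t * v * t⁻¹ = w).card ≤ 3)
    [Fintype (Subgroup.centralizer ({x} : Set G))]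
    (hPC : (P : Subgroup G) ≤ Subgroup.centralizer ({x} : Set G)) :
    Three (P.subtype hPC) (F.subgroupOf (Subgroup.centralizer ({x} : Set G))) := by
  classical
  haveI : Fact (Nat.Prime 2) := ⟨Nat.prime_two⟩
  have hxP := h.le hx
  refine ⟨?_, fun v hv => Subtype.ext (hsq _ hv), fun v hv => h.le hv, ?_, ?_, ?_, ?_⟩
  · rw [← hcard]
    exact Nat.card_congr (Subgroup.subgroupOfEquivOfLe hPC).toEquiv
  · rw [← h.cardF]
    exact Nat.card_congr (Subgroup.subgroupOfEquivOfLe (h.le.trans hPC)).toEquiv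
  · intro f hf w hw hc
    obtain ⟨g, hg⟩ := isConj_iff.1 hc
    obtain ⟨t, ht, htx, htf⟩ := conj_in_cent P hab hxP (h.le hf) (show (w : G) ∈ _ from hw)
      ⟨g, mul_inv_eq_iff_eq_mul.2 (Subgroup.mem_centralizer_singleton_iff.1 g.2),
        congrArg Subtype.val hg⟩
    exact Subtype.ext (htf.symm.trans ((h.fixes t ht x hx hx1 htx).1 _ hf))
  · intro v hv hvF
    have hvF' : (v : G) ∉ F := hvF
    obtain ⟨t₀, ht₀, ht₀x, ht₀C⟩ := hmove
    have htK : t₀ ∈ (Subgroup.centralizer ({x} : Set G)) := Subgroup.mem_centralizer_singleton_iff.2 (mul_inv_eq_iff_eq_mul.1 ht₀x)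
    have hmoves : ∀ w : G, w ∈ (P : Subgroup G) → w ∉ F → t₀ * w * t₀⁻¹ ≠ w := fun w hw hwF e =>
      ht₀C ((h.fixes t₀ ht₀ x hx hx1 ht₀x).2 w hw hwF e)
    set w₁ := t₀ * (v : G) * t₀⁻¹ with hw₁
    set w₂ := t₀ * w₁ * t₀⁻¹ with hw₂
    have hm₁ : w₁ ∈ (P : Subgroup G) := (Subgroup.mem_set_normalizer_iff.1 ht₀ _).1 hv
    have hm₂ : w₂ ∈ (P : Subgroup G) := (Subgroup.mem_set_normalizer_iff.1 ht₀ _).1 hm₁
    have hn₁ : w₁ ∉ F := fun e => hvF' (by
      have := h.inv t₀⁻¹ (inv_mem ht₀) _ e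
      simpa [hw₁, mul_assoc] using this)
    have h01 : w₁ ≠ (v : G) := hmoves _ hv hvF'
    have h12 : w₂ ≠ w₁ := hmoves _ hm₁ hn₁
    have h02 : w₂ ≠ (v : G) := by
      intro e
      have h2 : t₀ ^ 2 * (v : G) * (t₀ ^ 2)⁻¹ = (v : G) := by
        conv_rhs => rw [← e]
        rw [hw₂, hw₁, pow_two]; group
      have hC : t₀ ^ 2 ∈ Subgroup.centralizer (P : Set G) := by
        refine (h.fixes _ (pow_mem ht₀ 2) x hx hx1 ?_).2 _ hv hvF' h2
        rw [pow_two, show t₀ * t₀ * x * (t₀ * t₀)⁻¹ = t₀ * (t₀ * x * t₀⁻¹) * t₀⁻¹ by group, ht₀x,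
          ht₀x]
      exact ht₀C (hodd t₀ ht₀ hC)
    refine le_antisymm ?_ ?_
    · refine le_trans ?_ (horb (v : G) hv hvF')
      rw [cnum]
      refine Finset.card_le_card_of_injOn (fun w => (w : G)) (fun w hw => ?_)
        Subtype.val_injective.injOn
      simp only [Finset.mem_coe, Finset.mem_filter, Finset.mem_univ, true_and] at hw ⊢
      obtain ⟨g, hg⟩ := isConj_iff.1 hw.2
      exact conj_in_cent P hab hxP hv hw.1
        ⟨g, mul_inv_eq_iff_eq_mul.2 (Subgroup.mem_centralizer_singleton_iff.1 g.2),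
          congrArg Subtype.val hg⟩
    · rw [cnum]
      refine le_trans (le_of_eq ?_) (Finset.card_le_card
        (s := ({v, ⟨w₁, hPC hm₁⟩, ⟨w₂, hPC hm₂⟩} : Finset (Subgroup.centralizer ({x} : Set G))))
        fun w hw => ?_)
      rotate_left
      · simp only [Finset.mem_insert, Finset.mem_singleton] at hw
        simp only [Finset.mem_filter, Finset.mem_univ, true_and]
        have c1 : IsConj v ⟨w₁, hPC hm₁⟩ := isConj_iff.2 ⟨⟨t₀, htK⟩, Subtype.ext rfl⟩
        rcases hw with rfl | rfl | rfl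
        · exact ⟨hv, IsConj.refl _⟩
        · exact ⟨hm₁, c1⟩
        · exact ⟨hm₂, c1.trans (isConj_iff.2 ⟨⟨t₀, htK⟩, Subtype.ext rfl⟩)⟩
      rw [Finset.card_insert_of_notMem, Finset.card_pair]
      · exact fun e => h12 (congrArg Subtype.val e).symm
      · simp only [Finset.mem_insert, Finset.mem_singleton, not_or]
        exact ⟨fun e => h01 (congrArg Subtype.val e).symm, fun e => h02 (congrArg Subtype.val e).symm⟩
  · intro v hv hvF
    refine complement_cent (P.subtype hPC) ⟨⟨fun a b => Subtype.ext (Subtype.ext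
      (congrArg Subtype.val (hab.is_comm.comm ⟨_, a.2⟩ ⟨_, b.2⟩) :))⟩⟩ hv fun t ht htv => ?_
    have htN : (t : G) ∈ Subgroup.normalizer (P : Set G) := by
      refine Subgroup.mem_set_normalizer_iff.2 fun a => ?_
      show a ∈ (P : Subgroup G) ↔ _ ∈ (P : Subgroup G)
      constructor
      · exact fun ha => (Subgroup.mem_set_normalizer_iff.1 ht ⟨a, hPC ha⟩).1 ha
      · intro ha
        have hmem : a ∈ (Subgroup.centralizer ({x} : Set G)) := by
          have := mul_mem (mul_mem (inv_mem t.2) (hPC ha)) t.2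
          simpa [mul_assoc] using this
        exact (Subgroup.mem_set_normalizer_iff.1 ht ⟨a, hmem⟩).2 ha
    have := (h.fixes t htN x hx hx1
      (mul_inv_eq_iff_eq_mul.2 (Subgroup.mem_centralizer_singleton_iff.1 t.2))).2 _ hv hvF
      (congrArg Subtype.val htv)
    exact Subgroup.mem_centralizer_iff.2 fun a ha =>
      Subtype.ext (Subgroup.mem_centralizer_iff.1 this (a : G) ha)

end Facts

/-- What the action of the normalizer gives. -/
theorem exists_parts (P : Sylow 2 G) (hcard : Nat.card (P : Subgroup G) = 16)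
    (he : (Subgroup.centralizer ((P : Subgroup G) : Set G)).relIndex
      (Subgroup.normalizer ((P : Subgroup G) : Set G)) = 9) :
    ∃ F₁ F₂ : Subgroup G, Part P F₁ ∧ Part P F₂ ∧ (∀ v ∈ F₁, v ∈ F₂ → v = 1) ∧
      (∀ v ∈ (P : Subgroup G), v ∉ F₁ → v ∉ F₂ →
        (∀ t ∈ Subgroup.normalizer (P : Set G), t * v * t⁻¹ = v →
          t ∈ Subgroup.centralizer (P : Set G)) ∧
        ∀ w ∈ (P : Subgroup G), w ∉ F₁ → w ∉ F₂ →
          ∃ t ∈ Subgroup.normalizer (P : Set G), t * v * t⁻¹ = w) ∧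
      (∀ t ∈ Subgroup.normalizer (P : Set G), t ^ 2 ∈ Subgroup.centralizer (P : Set G) →
        t ∈ Subgroup.centralizer (P : Set G)) ∧
      ∀ F : Subgroup G, Part P F → ∀ x ∈ F, x ≠ 1 →
        (∃ t ∈ Subgroup.normalizer (P : Set G), t * x * t⁻¹ = x ∧
          t ∉ Subgroup.centralizer (P : Set G)) ∧
        ∀ v ∈ (P : Subgroup G), v ∉ F → (open Classical in
          (Finset.univ.filter fun w : G => ∃ t ∈ Subgroup.normalizer (P : Set G),
            t * x * t⁻¹ = x ∧ t * v * t⁻¹ = w).card) ≤ 3 := by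
  classical
  haveI : Fact (Nat.Prime 2) := ⟨Nat.prime_two⟩
  haveI : Fact (Nat.Prime 3) := ⟨Nat.prime_three⟩
  let φ := Subgroup.normalizerMonoidHom (P : Subgroup G)
  set E : Subgroup (MulAut (P : Subgroup G)) := φ.range with hEdef
  have hker : ∀ t : Subgroup.normalizer ((P : Subgroup G) : Set G),
      φ t = 1 ↔ (t : G) ∈ Subgroup.centralizer (P : Set G) := fun t => by
    rw [← MonoidHom.mem_ker, Subgroup.normalizerMonoidHom_ker, Subgroup.mem_subgroupOf]
    rfl
  have hE : Nat.card E = 9 := by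
    rw [hEdef, ← Subgroup.index_ker, Subgroup.normalizerMonoidHom_ker]
    exact he
  obtain ⟨V₁, V₂, c1, c2, hint, hV, hfree, htrans⟩ := Nine.structure_nine hcard E hE
  have hmk : ∀ t (ht : t ∈ Subgroup.normalizer (P : Set G)), φ ⟨t, ht⟩ ∈ E := fun t ht =>
    ⟨_, rfl⟩
  have hact : ∀ t (ht : t ∈ Subgroup.normalizer (P : Set G)) (v : (P : Subgroup G)),
      ((φ ⟨t, ht⟩ v : (P : Subgroup G)) : G) = t * v * t⁻¹ := fun t ht v => rfl
  set J := fun V : Subgroup (P : Subgroup G) => V.map (P : Subgroup G).subtype with hJ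
  have hmem : ∀ (V : Subgroup (P : Subgroup G)) (v : G), v ∈ J V ↔
      ∃ h : v ∈ (P : Subgroup G), (⟨v, h⟩ : (P : Subgroup G)) ∈ V := by
    intro V v
    simp [J, Subgroup.mem_map]
  have hpart : ∀ V ∈ ({V₁, V₂} : Set (Subgroup (P : Subgroup G))), Nat.card V = 4 →
      Part P (J V) := by
    intro V hVm hc
    obtain ⟨hinv, htr, hfx⟩ := hV V hVm
    refine ⟨fun v hv => ((hmem V v).1 hv).1, ?_, fun t ht v hv => ?_, fun f hf hf1 f' hf' hf1' => ?_,
      fun t ht f hf hf1 hfix => ?_⟩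
    · rw [← hc]
      exact Nat.card_congr (V.equivMapOfInjective _ (P : Subgroup G).subtype_injective).symm.toEquiv
    · obtain ⟨hvP, hvV⟩ := (hmem V v).1 hv
      exact (hmem V _).2 ⟨(φ ⟨t, ht⟩ ⟨v, hvP⟩).2, hinv ⟨_, hmk t ht⟩ ⟨v, hvP⟩ hvV⟩
    · obtain ⟨hfP, hfV⟩ := (hmem V f).1 hf
      obtain ⟨hfP', hfV'⟩ := (hmem V f').1 hf'
      obtain ⟨⟨_, t, rfl⟩, ht⟩ := htr _ hfV (fun e => hf1 (congrArg Subtype.val e)) _ hfV'
        (fun e => hf1' (congrArg Subtype.val e))
      exact ⟨t, t.2, congrArg Subtype.val ht⟩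
    · obtain ⟨hfP, hfV⟩ := (hmem V f).1 hf
      obtain ⟨h1, h2⟩ := hfx ⟨_, hmk t ht⟩ _ hfV (fun e => hf1 (congrArg Subtype.val e))
        (Subtype.ext hfix)
      refine ⟨fun g hg => ?_, fun w hw hwF hwt => ?_⟩
      · obtain ⟨hgP, hgV⟩ := (hmem V g).1 hg
        exact congrArg Subtype.val (h1 _ hgV)
      · exact (hker ⟨t, ht⟩).1 (congrArg Subtype.val (h2 ⟨w, hw⟩
          (fun hc => hwF ((hmem V w).2 ⟨hw, hc⟩)) (Subtype.ext hwt)))
  refine ⟨J V₁, J V₂, hpart V₁ (Set.mem_insert _ _) c1,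
    hpart V₂ (Set.mem_insert_of_mem _ rfl) c2, fun v h1 h2 => ?_, fun v hv h1 h2 => ?_,
    fun t ht ht2 => ?_, fun F hF x hx hx1 => ?_⟩
  · obtain ⟨hvP, hv1⟩ := (hmem V₁ v).1 h1
    obtain ⟨hvP2, hv2⟩ := (hmem V₂ v).1 h2
    exact congrArg Subtype.val (hint _ hv1 hv2)
  · have k1 : (⟨v, hv⟩ : (P : Subgroup G)) ∉ V₁ := fun hc => h1 ((hmem V₁ v).2 ⟨hv, hc⟩)
    have k2 : (⟨v, hv⟩ : (P : Subgroup G)) ∉ V₂ := fun hc => h2 ((hmem V₂ v).2 ⟨hv, hc⟩)
    refine ⟨fun t ht hfix => (hker ⟨t, ht⟩).1 (congrArg Subtype.val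
      (hfree _ k1 k2 ⟨_, hmk t ht⟩ (Subtype.ext hfix))), fun w hw h1' h2' => ?_⟩
    obtain ⟨⟨_, t, rfl⟩, ht⟩ := htrans _ k1 k2 ⟨w, hw⟩ (fun hc => h1' ((hmem V₁ w).2 ⟨hw, hc⟩))
      (fun hc => h2' ((hmem V₂ w).2 ⟨hw, hc⟩))
    exact ⟨t, t.2, congrArg Subtype.val ht⟩
  · refine (hker ⟨t, ht⟩).1 ?_
    have h2 : φ ⟨t, ht⟩ ^ 2 = 1 := by
      rw [← map_pow]; exact (hker _).2 ht2
    have h9 : φ ⟨t, ht⟩ ^ 9 = 1 := by
      rw [← hE]
      exact congrArg Subtype.val (pow_card_eq_one' (x := (⟨_, hmk t ht⟩ : E)))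
    calc φ ⟨t, ht⟩ = φ ⟨t, ht⟩ ^ 9 * ((φ ⟨t, ht⟩ ^ 2) ^ 4)⁻¹ := by rw [← pow_mul]; group
      _ = 1 := by rw [h9, h2]; simp
  · have hxP := hF.le hx
    set S := MulAction.stabilizer E (⟨x, hxP⟩ : (P : Subgroup G)) with hS
    have hsub : MulAction.orbit E (⟨x, hxP⟩ : (P : Subgroup G)) ⊆
        {w | (w : G) ∈ F ∧ (w : G) ≠ 1} := by
      rintro _ ⟨⟨_, t, rfl⟩, rfl⟩
      exact ⟨hF.inv t t.2 x hx, fun e => hx1 (conj_eq_one_iff.1 (show (t : G) * x * (t : G)⁻¹ = 1 from e))⟩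
    have hsup : {w : (P : Subgroup G) | (w : G) ∈ F ∧ (w : G) ≠ 1} ⊆
        MulAction.orbit E (⟨x, hxP⟩ : (P : Subgroup G)) := by
      rintro w ⟨hw, hw1⟩
      obtain ⟨t, ht, e⟩ := hF.trans x hx hx1 w hw hw1
      exact ⟨⟨_, hmk t ht⟩, Subtype.ext e⟩
    have h3 : Nat.card (MulAction.orbit E (⟨x, hxP⟩ : (P : Subgroup G))) = 3 := by
      rw [Set.Subset.antisymm hsub hsup]
      have e : {w : (P : Subgroup G) | (w : G) ∈ F ∧ (w : G) ≠ 1} =
          (F.subgroupOf (P : Subgroup G) : Set (P : Subgroup G)) \ {1} := by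
        ext w
        simp [Subgroup.mem_subgroupOf]
      rw [Nat.card_coe_set_eq, e, Set.ncard_sdiff_singleton_of_mem (Subgroup.one_mem _),
        ← Nat.card_coe_set_eq, SetLike.coe_sort_coe,
        Nat.card_congr (Subgroup.subgroupOfEquivOfLe hF.le).toEquiv, hF.cardF]
    have hcS : Nat.card S = 3 := by
      have h9 := Subgroup.index_mul_card S
      rw [hS, MulAction.index_stabilizer E (⟨x, hxP⟩ : (P : Subgroup G)), ← Nat.card_coe_set_eq,
        h3, hE] at h9
      rw [hS]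
      omega
    constructor
    · obtain ⟨g, hg, hg1⟩ : ∃ g ∈ S, g ≠ 1 := by
        by_contra hc
        push Not at hc
        rw [(Subgroup.eq_bot_iff_forall S).2 hc, Subgroup.card_bot] at hcS
        omega
      obtain ⟨⟨_, t, rfl⟩, rfl⟩ : ∃ g' : E, g' = g := ⟨g, rfl⟩
      exact ⟨t, t.2, congrArg Subtype.val hg, fun hc => hg1 (Subtype.ext ((hker t).2 hc))⟩
    · intro v hv _
      let T : Finset G := Finset.univ.image fun g : S => (((g : E) : MulAut (P : Subgroup G)) ⟨v, hv⟩ : G)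
      refine le_trans (Finset.card_le_card (t := T) fun w hw => ?_) ?_
      · obtain ⟨t, ht, htx, htv⟩ := (Finset.mem_filter.1 hw).2
        exact Finset.mem_image.2 ⟨⟨⟨_, hmk t ht⟩, Subtype.ext htx⟩, Finset.mem_univ _, htv⟩
      · refine Finset.card_image_le.trans ?_
        rw [Finset.card_univ, ← Nat.card_eq_fintype_card, hcS]

open Classical in
/-- The theorem. -/
theorem sixteen_nine (hM : IsPModular 2 M) (P : Sylow 2 G)
    (hcard : Nat.card (P : Subgroup G) = 16) (hsq : ∀ v ∈ (P : Subgroup G), v * v = 1)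
    (he : (Subgroup.centralizer ((P : Subgroup G) : Set G)).relIndex
      (Subgroup.normalizer ((P : Subgroup G) : Set G)) = 9) :
    Nat.card (principalBlock M G) = 16 ∧ blockRank 2 (principalBlock M G) = 9 := by
  classical
  haveI : Fact (Nat.Prime 2) := ⟨Nat.prime_two⟩
  have hab : IsMulCommutative (P : Subgroup G) :=
    ⟨⟨fun a b => (Commute.of_orderOf_dvd_two (fun g : (P : Subgroup G) =>
      orderOf_dvd_of_pow_eq_one (by rw [pow_two]; exact Subtype.ext (hsq g g.2))) a b).eq⟩⟩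
  obtain ⟨F₁, F₂, hF₁, hF₂, hint, hrest, hodd, hlocal⟩ := exists_parts P hcard he
  have hel : ∀ F : Subgroup G, Part P F → ∃ x ∈ F, x ≠ 1 := fun F hF => by
    by_contra hc
    push Not at hc
    have h := hF.cardF
    rw [(Subgroup.eq_bot_iff_forall F).2 hc, Subgroup.card_bot] at h
    omega
  set r := fun v : G => blockRank 2 (principalBlock M (Subgroup.centralizer ({v} : Set G))) with hr
  have hrank3 : ∀ F : Subgroup G, Part P F → ∀ x ∈ F, x ≠ 1 → r x = 3 := by
    intro F hF x hx hx1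
    cases nonempty_fintype (Subgroup.centralizer ({x} : Set G))
    have hPC : (P : Subgroup G) ≤ Subgroup.centralizer ({x} : Set G) := fun a ha =>
      Subgroup.mem_centralizer_singleton_iff.2
        (congrArg Subtype.val (hab.is_comm.comm ⟨a, ha⟩ ⟨x, hF.le hx⟩))
    obtain ⟨hmove, horb⟩ := hlocal F hF x hx hx1
    have h := hF.three hcard hsq hab hx hx1 hmove hodd horb hPC
    exact h.rank hM (x := ⟨x, hPC (hF.le hx)⟩) hx (fun e => hx1 (congrArg Subtype.val e))
      (Subgroup.mem_center_iff.2 fun c => Subtype.ext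
        (Subgroup.mem_centralizer_singleton_iff.1 c.2))
  set SP := Finset.univ.filter (fun v : G => v ∈ (P : Subgroup G)) with hSP
  set A := (Finset.univ.filter fun v : G => v ∈ F₁).erase 1 with hA
  set C := (Finset.univ.filter fun v : G => v ∈ F₂).erase 1 with hC
  set Y := SP.filter (fun v => v ∉ F₁ ∧ v ∉ F₂) with hY
  have hcF : ∀ F : Subgroup G, Part P F →
      ((Finset.univ.filter fun v : G => v ∈ F).erase 1).card = 3 := fun F hF => by
    rw [Finset.card_erase_of_mem (by simp [F.one_mem]),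
      show (Finset.univ.filter fun v : G => v ∈ F).card = 4 by
        rw [← hF.cardF, Nat.card_eq_fintype_card]; exact (Fintype.card_subtype _).symm]
  have hdec : SP = insert 1 (A ∪ C ∪ Y) := by
    ext v
    simp only [SP, A, C, Y, Finset.mem_insert, Finset.mem_union, Finset.mem_erase,
      Finset.mem_filter, Finset.mem_univ, true_and]
    by_cases hv1 : v = 1
    · simp [hv1, (P : Subgroup G).one_mem]
    · by_cases a : v ∈ F₁
      · simp [hv1, a, hF₁.le a]
      · by_cases b : v ∈ F₂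
        · simp [hv1, a, b, hF₂.le b]
        · simp [hv1, a, b]
  have hd1 : (1 : G) ∉ A ∪ C ∪ Y := by simp [A, C, Y, F₁.one_mem]
  have hd2 : Disjoint A C := Finset.disjoint_left.2 fun v h1 h2 => by
    simp only [A, C, Finset.mem_erase, Finset.mem_filter, Finset.mem_univ, true_and] at h1 h2
    exact h1.1 (hint v h1.2 h2.2)
  have hd3 : Disjoint (A ∪ C) Y := Finset.disjoint_left.2 fun v h1 h2 => by
    simp only [A, C, Y, Finset.mem_union, Finset.mem_erase, Finset.mem_filter, Finset.mem_univ,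
      true_and] at h1 h2
    exact h1.elim (fun h => h2.2.1 h.2) fun h => h2.2.2 h.2
  have hcA : A.card = 3 := hcF F₁ hF₁
  have hcC : C.card = 3 := hcF F₂ hF₂
  have hcY : Y.card = 9 := by
    have h : SP.card = 16 := by
      rw [← hcard, Nat.card_eq_fintype_card]; exact (Fintype.card_subtype _).symm
    rw [hdec, Finset.card_insert_of_notMem hd1, Finset.card_union_of_disjoint hd3,
      Finset.card_union_of_disjoint hd2, hcA, hcC] at h
    omega
  obtain ⟨y, hy⟩ := Finset.card_pos.1 (by omega : 0 < Y.card)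
  have hymem : y ∈ (P : Subgroup G) ∧ y ∉ F₁ ∧ y ∉ F₂ := by
    simpa [Y, SP] using hy
  obtain ⟨hyP, hy1, hy2⟩ := hymem
  obtain ⟨x, hx, hx1⟩ := hel F₁ hF₁
  obtain ⟨z, hz, hz1⟩ := hel F₂ hF₂
  have hn1 : cnum P (1 : G) = 1 := by
    rw [cnum, Finset.card_eq_one]
    refine ⟨1, Finset.ext fun w => ?_⟩
    simp only [Finset.mem_filter, Finset.mem_univ, true_and, Finset.mem_singleton,
      isConj_one_right]
    exact ⟨fun h => h.2, fun h => ⟨h ▸ (P : Subgroup G).one_mem, h⟩⟩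
  have hnY : ∀ v ∈ Y, cnum P v = 9 ∧ IsConj v y := by
    intro v hv
    have hvm : v ∈ (P : Subgroup G) ∧ v ∉ F₁ ∧ v ∉ F₂ := by simpa [Y, SP] using hv
    obtain ⟨hvP, hv1, hv2⟩ := hvm
    obtain ⟨-, htr⟩ := hrest v hvP hv1 hv2
    refine ⟨?_, ?_⟩
    · rw [← hcY, cnum]
      refine congrArg Finset.card (Finset.ext fun w => ?_)
      simp only [Y, SP, Finset.mem_filter, Finset.mem_univ, true_and]
      constructor
      · rintro ⟨hw, hc⟩
        obtain ⟨t, ht, rfl⟩ := exists_conj_normalizer hab hvP hw hc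
        refine ⟨hw, fun h => hv1 ?_, fun h => hv2 ?_⟩
        · have := hF₁.inv t⁻¹ (inv_mem ht) _ h
          simpa [mul_assoc] using this
        · have := hF₂.inv t⁻¹ (inv_mem ht) _ h
          simpa [mul_assoc] using this
      · rintro ⟨hw, h1, h2⟩
        obtain ⟨t, -, e⟩ := htr w hw h1 h2
        exact ⟨hw, isConj_iff.2 ⟨t, e⟩⟩
    · obtain ⟨t, -, e⟩ := htr y hyP hy1 hy2
      exact isConj_iff.2 ⟨t, e⟩
  have hcy : HasNormalPComplement 2 (Subgroup.centralizer ({y} : Set G)) :=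
    complement_cent P hab hyP (hrest y hyP hy1 hy2).1
  have hconjF : ∀ F : Subgroup G, Part P F → ∀ x ∈ F, x ≠ 1 →
      ∀ v ∈ (Finset.univ.filter fun v : G => v ∈ F).erase 1, cnum P v = 3 ∧ IsConj v x := by
    intro F hF x hx hx1 v hv
    simp only [Finset.mem_erase, Finset.mem_filter, Finset.mem_univ, true_and] at hv
    obtain ⟨t, -, e⟩ := hF.trans v hv.2 hv.1 x hx hx1
    exact ⟨hF.cnum_eq hab hv.2 hv.1, isConj_iff.2 ⟨t, e⟩⟩
  set Bf := Finset.univ.filter (· ∈ principalBlock M G) with hBf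
  have hfour : ∀ f f' : G → ℂ, classInner f f' =
      T 2 1 f f' + T 2 x f f' + T 2 z f f' + T 2 y f f' := by
    intro f f'
    rw [← sum_T P, show (Finset.univ.filter fun v : G => v ∈ (P : Subgroup G)) = SP from rfl, hdec,
      Finset.sum_insert hd1, Finset.sum_union hd3, Finset.sum_union hd2, hn1, Nat.cast_one, div_one,
      Finset.sum_congr rfl fun v hv => show T 2 v f f' / (cnum P v : ℂ) = T 2 x f f' / 3 by
        obtain ⟨a, b⟩ := hconjF F₁ hF₁ x hx hx1 v hv
        rw [a, T_congr b]; norm_num,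
      Finset.sum_congr rfl fun v hv => show T 2 v f f' / (cnum P v : ℂ) = T 2 z f f' / 3 by
        obtain ⟨a, b⟩ := hconjF F₂ hF₂ z hz hz1 v hv
        rw [a, T_congr b]; norm_num,
      Finset.sum_congr rfl fun v hv => show T 2 v f f' / (cnum P v : ℂ) = T 2 y f f' / 9 by
        obtain ⟨a, b⟩ := hnY v hv
        rw [a, T_congr b]; norm_num,
      Finset.sum_const, Finset.sum_const, Finset.sum_const, hcA, hcC, hcY]
    simp only [nsmul_eq_mul]
    push_cast
    ring
  have tr1 := sum_T_one hM (G := G)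
  have trx := sum_T_self hM (u := x) (ppow_of_mem P (hF₁.le hx))
  have trz := sum_T_self hM (u := z) (ppow_of_mem P (hF₂.le hz))
  have try' := sum_T_self hM (u := y) (ppow_of_mem P hyP)
  rw [show blockRank 2 (principalBlock M (Subgroup.centralizer ({x} : Set G))) = 3 from
    hrank3 F₁ hF₁ x hx hx1] at trx
  rw [show blockRank 2 (principalBlock M (Subgroup.centralizer ({z} : Set G))) = 3 from
    hrank3 F₂ hF₂ z hz hz1] at trz
  rw [rank_one_of_complement hM hcy] at try'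
  set l := blockRank 2 (principalBlock M G) with hl
  have hkB : Nat.card (principalBlock M G) = Bf.card := by
    rw [Nat.card_eq_fintype_card]
    exact Fintype.card_of_subtype _ fun χ => by simp [Bf]
  have hkl : Bf.card = l + 7 := by
    suffices h : (Bf.card : ℂ) = ((l + 7 : ℕ) : ℂ) by exact_mod_cast h
    calc (Bf.card : ℂ) = ∑ χ ∈ Bf, classInner (χ : G → ℂ) (χ : G → ℂ) := by
          rw [Finset.sum_congr rfl fun (χ : IrrCharacter G) _ => classInner_self_irr χ.2,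
            Finset.sum_const, nsmul_eq_mul, mul_one]
      _ = _ := by
          rw [Finset.sum_congr rfl fun (χ : IrrCharacter G) _ => hfour (χ : G → ℂ) (χ : G → ℂ),
            Finset.sum_add_distrib, Finset.sum_add_distrib, Finset.sum_add_distrib, tr1, trx, trz,
            try']
          push_cast
          ring
  have hl0 : 0 < l := Res.blockRank_pos hM (isPBlock_principalBlock (M := M) (G := G))
  have hl1 : l ≠ 1 := fun h1 => by
    obtain ⟨t, htm, ht⟩ : ∃ t ∈ Subgroup.normalizer (P : Set G), t * y * t⁻¹ ≠ y := by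
      by_contra hc
      push Not at hc
      obtain ⟨v, hv, hvy⟩ := Finset.exists_mem_ne (by omega : 1 < Y.card) y
      have hvm : v ∈ (P : Subgroup G) ∧ v ∉ F₁ ∧ v ∉ F₂ := by simpa [Y, SP] using hv
      obtain ⟨t, ht, e⟩ := (hrest y hyP hy1 hy2).2 v hvm.1 hvm.2.1 hvm.2.2
      exact hvy (e ▸ hc t ht)
    exact ht (eq_of_complement P hab (complement_of_rank_one hM h1) hyP
      ((Subgroup.mem_set_normalizer_iff.1 htm y).1 hyP) (isConj_iff.2 ⟨t, rfl⟩)).symm
  obtain ⟨D, hD, hD0, hDsq⟩ := exists_column hM P hab hyP (hsq y hyP) hcy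
  rw [hcard] at hDsq
  have hint16 : ∀ χ η : IrrCharacter G, ∃ z : ℤ, (16 : ℂ) * T 2 1 (χ : G → ℂ) (η : G → ℂ) = z := by
    intro χ η
    obtain ⟨m, hm⟩ := sum_T_closed P ⊥ bot_le (by rw [Subgroup.bot_subgroupOf]; infer_instance)
      (fun f hf w _ hc => by
        rw [Subgroup.mem_bot] at hf ⊢
        subst hf
        exact isConj_one_right.1 hc) χ η
    refine ⟨m, ?_⟩
    rw [← hm, show (Finset.univ.filter fun v : G => v ∈ (⊥ : Subgroup G)) = {1} by
      ext v; simp [Subgroup.mem_bot], Finset.sum_singleton, hn1, hcard, Subgroup.card_bot]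
    norm_num
  have hint4 : ∀ F : Subgroup G, Part P F → ∀ x ∈ F, x ≠ 1 → ∀ χ η : IrrCharacter G, ∃ m : ℤ,
      (4 : ℂ) * (T 2 1 (χ : G → ℂ) (η : G → ℂ) + T 2 x (χ : G → ℂ) (η : G → ℂ)) = m := by
    intro F hF x hx hx1 χ η
    haveI : (F.subgroupOf (P : Subgroup G)).Normal := ⟨fun a ha g => by
      have : g * a * g⁻¹ = a := by rw [hab.is_comm.comm g a, mul_inv_cancel_right]
      rw [this]; exact ha⟩
    obtain ⟨m, hm⟩ := sum_T_closed P F hF.le inferInstance (fun f hf w hw hc => by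
      obtain ⟨t, ht, rfl⟩ := exists_conj_normalizer hab (hF.le hf) hw hc
      exact hF.inv t ht f hf) χ η
    refine ⟨m, ?_⟩
    rw [← hm, hF.cardF, hcard, ← Finset.add_sum_erase _ _ (a := (1 : G)) (by simp [F.one_mem]), hn1,
      Finset.sum_congr rfl fun v hv =>
        show T 2 v (χ : G → ℂ) (η : G → ℂ) / (cnum P v : ℂ) =
          T 2 x (χ : G → ℂ) (η : G → ℂ) / 3 by
        obtain ⟨a, b⟩ := hconjF F hF x hx hx1 v hv
        rw [a, T_congr b]; norm_num,
      Finset.sum_const, hcF F hF]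
    simp only [nsmul_eq_mul]
    push_cast
    ring
  choose a₁ ha₁ using hint16
  choose mx hmx using hint4 F₁ hF₁ x hx hx1
  choose mz hmz using hint4 F₂ hF₂ z hz hz1
  let ι := {χ : IrrCharacter G // χ ∈ Bf}
  let A₁ : ι → ι → ℤ := fun χ η => a₁ χ η
  let X : ι → ι → ℤ := fun χ η => 4 * mx χ η - a₁ χ η
  let Z : ι → ι → ℤ := fun χ η => 4 * mz χ η - a₁ χ η
  let D' : ι → ℤ := fun χ => D χ
  have hX : ∀ χ η : ι, (X χ η : ℂ) = 16 * T 2 x (χ.1 : G → ℂ) (η.1 : G → ℂ) := fun χ η => by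
    simp only [X]
    push_cast
    rw [← hmx χ.1 η.1, ← ha₁ χ.1 η.1]
    ring
  have hZ : ∀ χ η : ι, (Z χ η : ℂ) = 16 * T 2 z (χ.1 : G → ℂ) (η.1 : G → ℂ) := fun χ η => by
    simp only [Z]
    push_cast
    rw [← hmz χ.1 η.1, ← ha₁ χ.1 η.1]
    ring
  have hmemB : ∀ χ : ι, (χ.1 : IrrCharacter G) ∈ principalBlock M G := fun χ =>
    (Finset.mem_filter.1 χ.2).2
  have hY' : ∀ χ η : ι, ((D' χ * D' η : ℤ) : ℂ) = 16 * T 2 y (χ.1 : G → ℂ) (η.1 : G → ℂ) :=
    fun χ η => by
      rw [T_rank_one hM P hyP hab hcy (hmemB χ) (hmemB η), hD, hD, map_intCast, hcard]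
      simp only [D']
      push_cast
      ring
  have hA₁ : ∀ χ η : ι, (A₁ χ η : ℂ) = 16 * T 2 1 (χ.1 : G → ℂ) (η.1 : G → ℂ) := fun χ η =>
    (ha₁ χ.1 η.1).symm
  have hxy : ¬ IsConj x y := fun hc => by
    obtain ⟨t, ht, e⟩ := exists_conj_normalizer hab (hF₁.le hx) hyP hc
    exact hy1 (e ▸ hF₁.inv t ht x hx)
  have hzy : ¬ IsConj z y := fun hc => by
    obtain ⟨t, ht, e⟩ := exists_conj_normalizer hab (hF₂.le hz) hyP hc
    exact hy2 (e ▸ hF₂.inv t ht z hz)
  have hxz : ¬ IsConj x z := fun hc => by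
    obtain ⟨t, ht, e⟩ := exists_conj_normalizer hab (hF₁.le hx) (hF₂.le hz) hc
    exact hz1 (hint z (e ▸ hF₁.inv t ht x hx) hz)
  have hmul : ∀ (u w : G) (χ ψ : ι), ∑ η : ι,
      (16 * T 2 u (χ.1 : G → ℂ) (η.1 : G → ℂ)) * (16 * T 2 w (η.1 : G → ℂ) (ψ.1 : G → ℂ)) =
      if IsConj u w then 16 * (16 * T 2 u (χ.1 : G → ℂ) (ψ.1 : G → ℂ)) else 0 := by
    intro u w χ ψ
    have h := T_mul hM (isPBlock_principalBlock (M := M) (G := G)) (hmemB χ) (ψ.1 : G → ℂ) u w
    rw [Finset.sum_congr rfl fun (η : ι) _ => show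
        (16 * T 2 u (χ.1 : G → ℂ) (η.1 : G → ℂ)) * (16 * T 2 w (η.1 : G → ℂ) (ψ.1 : G → ℂ)) =
        256 * (T 2 u (χ.1 : G → ℂ) (η.1 : G → ℂ) * T 2 w (η.1 : G → ℂ) (ψ.1 : G → ℂ)) by ring,
      ← Finset.mul_sum]
    have hsum : ∀ g : IrrCharacter G → ℂ, ∑ η : ι, g η.1 = ∑ η ∈ Bf, g η := fun g =>
      Finset.sum_coe_sort Bf g
    rw [hsum fun η => T 2 u (χ.1 : G → ℂ) (η : G → ℂ) * T 2 w (η : G → ℂ) (ψ.1 : G → ℂ),
      show (∑ η ∈ Bf, T 2 u (χ.1 : G → ℂ) (η : G → ℂ) * T 2 w (η : G → ℂ) (ψ.1 : G → ℂ)) = _ from h]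
    split_ifs <;> ring
  have cast_eq : ∀ {a b : ℤ}, (a : ℂ) = b → a = b := fun h => Int.cast_injective h
  have conjInt : ∀ {a b : ℤ}, (a : ℂ) = conj (b : ℂ) → a = b := fun h =>
    Int.cast_injective (h.trans (map_intCast _ _))
  have hko : trivialIrr G ∈ Bf := Finset.mem_filter.2 ⟨Finset.mem_univ _,
    trivial_mem_principalBlock hM⟩
  have key : Fintype.card ι = 16 := by
    refine Comb.card_sixteen ⟨trivialIrr G, hko⟩ A₁ X Z D' (fun χ η => ?_) (fun χ η => ?_)
      (fun χ η => ?_) (fun χ η => ?_) (fun χ η => ?_) (fun χ ψ => ?_) (fun χ ψ => ?_)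
      (fun χ ψ => ?_) (fun χ => ?_) (fun χ => ?_) ?_ ?_ ?_ (fun χ => hD0 χ.1 (hmemB χ))
      (fun χ => ?_) ?_ ?_
    · refine cast_eq ?_
      rw [Int.cast_add, Int.cast_add, Int.cast_add, hA₁, hX, hZ, hY', ← mul_add, ← mul_add,
        ← mul_add, ← hfour]
      split_ifs with h
      · subst h; rw [classInner_self_irr χ.1.2]; norm_num
      · rw [classInner_irr_ne χ.1.2 η.1.2 fun e => h (Subtype.ext (Subtype.ext e))]; simp
    · exact ⟨mx χ.1 η.1, by simp only [A₁, X]; ring⟩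
    · exact ⟨mz χ.1 η.1, by simp only [A₁, Z]; ring⟩
    · refine conjInt ?_
      rw [hX, hX, T_conj x (η.1 : G → ℂ) (χ.1 : G → ℂ), map_mul, map_ofNat]
    · refine conjInt ?_
      rw [hZ, hZ, T_conj z (η.1 : G → ℂ) (χ.1 : G → ℂ), map_mul, map_ofNat]
    · refine cast_eq ?_
      simp only [Int.cast_sum, Int.cast_mul, hX]
      rw [hmul, if_pos (IsConj.refl x)]
      norm_num
    · refine cast_eq ?_
      simp only [Int.cast_sum, Int.cast_mul, hZ]
      rw [hmul, if_pos (IsConj.refl z)]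
      norm_num
    · refine cast_eq ?_
      simp only [Int.cast_sum, Int.cast_mul, hX, hZ, Int.cast_zero]
      rw [hmul, if_neg hxz]
    · refine cast_eq ?_
      have h := hmul x y χ ⟨trivialIrr G, hko⟩
      rw [if_neg hxy] at h
      have h1 : D' ⟨trivialIrr G, hko⟩ = 1 := cast_eq (by
        simp only [D']; rw [← hD]; simp [trivialIrr])
      rw [Int.cast_sum, Int.cast_zero, ← h]
      refine Finset.sum_congr rfl fun η _ => ?_
      rw [← hY', h1, mul_one, ← hX, Int.cast_mul]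
    · refine cast_eq ?_
      have h := hmul z y χ ⟨trivialIrr G, hko⟩
      rw [if_neg hzy] at h
      have h1 : D' ⟨trivialIrr G, hko⟩ = 1 := cast_eq (by
        simp only [D']; rw [← hD]; simp [trivialIrr])
      rw [Int.cast_sum, Int.cast_zero, ← h]
      refine Finset.sum_congr rfl fun η _ => ?_
      rw [← hY', h1, mul_one, ← hZ, Int.cast_mul]
    · refine cast_eq ?_
      simp only [Int.cast_sum, hX]
      rw [← Finset.mul_sum, Finset.sum_coe_sort Bf fun χ => T 2 x (χ : G → ℂ) (χ : G → ℂ), hBf, trx]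
      norm_num
    · refine cast_eq ?_
      simp only [Int.cast_sum, hZ]
      rw [← Finset.mul_sum, Finset.sum_coe_sort Bf fun χ => T 2 z (χ : G → ℂ) (χ : G → ℂ), hBf, trz]
      norm_num
    · refine cast_eq ?_
      simp only [D']; rw [← hD]; simp [trivialIrr]
    · have h : ((A₁ χ χ : ℤ) : ℝ) = 16 * ((Nat.card G : ℝ)⁻¹ *
          ∑ g : G, if IsConj 1 (ppt 2 g) then Complex.normSq ((χ.1 : G → ℂ) g) else 0) := by
        apply Complex.ofReal_injective
        have h' := hA₁ χ χ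
        rw [Complex.ofReal_intCast, h', T]
        push_cast
        congr 2
        refine Finset.sum_congr rfl fun g _ => ?_
        split_ifs <;> simp [Complex.mul_conj]
      have hpos : (0 : ℝ) < ∑ g : G, if IsConj 1 (ppt 2 g) then
          Complex.normSq ((χ.1 : G → ℂ) g) else 0 := by
        refine Finset.sum_pos' (fun g _ => ?_) ⟨1, Finset.mem_univ _, ?_⟩
        · split_ifs
          · exact Complex.normSq_nonneg _
          · exact le_rfl
        · rw [if_pos ((ppt_eq_one_iff (p := 2) (1 : G)).2 (by simp))]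
          exact Complex.normSq_pos.2 (irr_one_ne_zero χ.1)
      have : (0 : ℝ) < ((A₁ χ χ : ℤ) : ℝ) := by
        rw [h]
        exact mul_pos (by norm_num)
          (mul_pos (inv_pos.2 (Nat.cast_pos.2 Nat.card_pos)) hpos)
      exact_mod_cast this
    · simp only [D']
      rw [Finset.sum_coe_sort Bf fun χ => D χ ^ 2, hBf, hDsq]
      norm_num
    · rw [Fintype.card_coe]; omega
  have : Bf.card = 16 := by rw [← Fintype.card_coe]; exact key
  exact ⟨hkB.trans this, by omega⟩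

end Cfsg.Agent.Char.SecInner
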