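import Cfsg.Agent.Lib.Char.Average

/-!
The Clifford correspondence.
-/

namespace Cfsg.Agent.Char.Corr

open scoped ComplexConjugate
open Cfsg

universe u

variable {G : Type u} [Group G] [Fintype G] (N : Subgroup G) [hN : N.Normal] [Fintype N]

theorem classInner_subgroupOf {T : Subgroup G} (hNT : N ≤ T) [Fintype (N.subgroupOf T)]
    (f h : N → ℂ) :
    classInner (fun x : N.subgroupOf T => f ⟨((x : T) : G), x.2⟩)
      (fun x : N.subgroupOf T => h ⟨((x : T) : G), x.2⟩) = classInner f h :=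
  classInner_comp_surjective (Subgroup.subgroupOfEquivOfLe hNT).toMonoidHom
    (Subgroup.subgroupOfEquivOfLe hNT).surjective f h

/-- Degrees in the inertia group. -/
theorem one_eq_mul {θ : N → ℂ} (hθ : IsIrrCharacter N θ) {T : Subgroup G} (hNT : N ≤ T)
    (hT : T ≤ inertia N θ) [Fintype T] {ψ : T → ℂ} (hψ : IsIrrCharacter T ψ)
    (hne : classInner (fun n : N => ψ ⟨(n : G), hNT n.2⟩) θ ≠ 0) :
    ψ 1 = classInner (fun n : N => ψ ⟨(n : G), hNT n.2⟩) θ * θ 1 := by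
  classical
  haveI : (N.subgroupOf T).Normal := Subgroup.Normal.subgroupOf inferInstance _
  haveI : Fintype (N.subgroupOf T) := Fintype.ofFinite _
  set θT : N.subgroupOf T → ℂ := fun x => θ ⟨((x : T) : G), x.2⟩ with hθT
  have hθTi : IsIrrCharacter (N.subgroupOf T) θT :=
    IsIrr.comp_mulEquiv (Subgroup.subgroupOfEquivOfLe hNT) hθ
  have he : classInner (fun x : N.subgroupOf T => ψ x) θT =
      classInner (fun n : N => ψ ⟨(n : G), hNT n.2⟩) θ :=
    classInner_subgroupOf N hNT (fun n : N => ψ ⟨(n : G), hNT n.2⟩) θ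
  have hI : inertia (N.subgroupOf T) θT = ⊤ := eq_top_iff.mpr fun t _ => by
    rw [mem_inertia]
    funext x
    have h := congrFun ((mem_inertia N).mp (hT t.2)) ⟨((x : T) : G), x.2⟩
    simpa [conjN, θT] using h
  have h := clifford_one (N.subgroupOf T) hψ hθTi (he.symm ▸ hne)
  rw [hI, Subgroup.index_top, Nat.cast_one, mul_one, he] at h
  exact h

variable {θ : N → ℂ}

/-- The main computation. -/
theorem core (hθ : IsIrrCharacter N θ) {T : Subgroup G} (hT : T = inertia N θ) (hNT : N ≤ T)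
    [Fintype T] {ψ : T → ℂ} (hψ : IsIrrCharacter T ψ)
    (hne : classInner (fun n : N => ψ ⟨(n : G), hNT n.2⟩) θ ≠ 0)
    {χ : G → ℂ} (hχ : IsIrrCharacter G χ) (hχψ : classInner (fun x : T => χ x) ψ ≠ 0) :
    indFun T ψ = χ ∧ classInner (fun n : N => ψ ⟨(n : G), hNT n.2⟩) θ =
      classInner (fun n : N => χ n) θ ∧
    ∀ φ : T → ℂ, IsIrrCharacter T φ → classInner (fun x : T => χ x) φ ≠ 0 →
      classInner (fun n : N => φ ⟨(n : G), hNT n.2⟩) θ ≠ 0 → φ = ψ := by
  classical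
  obtain ⟨a, ha, hdec⟩ :=
    IsChar.exists_decomp_inner (IsChar.res (IsIrr.isCharacter hχ) T)
  have hc : ∀ φ : IrrCharacter T, ∃ e : ℕ,
      classInner (fun n : N => (φ : T → ℂ) ⟨(n : G), hNT n.2⟩) θ = e := fun φ =>
    IsChar.classInner_nat (IsChar.comp (Subgroup.inclusion hNT) (IsIrr.isCharacter φ.2))
      (IsIrr.isCharacter hθ)
  choose e he using hc
  have hm : classInner (fun n : N => χ n) θ = ((∑ φ : IrrCharacter T, a φ * e φ : ℕ) : ℂ) := by
    have h1 : (fun n : N => χ n) = ∑ φ : IrrCharacter T,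
        (a φ : ℂ) • fun n : N => (φ : T → ℂ) ⟨(n : G), hNT n.2⟩ := by
      funext n
      have := congrFun hdec ⟨(n : G), hNT n.2⟩
      rw [sum_irr_apply] at this
      rw [this]
      simp
    rw [h1, classInner_sum_left, Nat.cast_sum]
    exact Finset.sum_congr rfl fun φ _ => by rw [classInner_smul_left, he, Nat.cast_mul]
  set m := ∑ φ : IrrCharacter T, a φ * e φ with hmdef
  set Ψ : IrrCharacter T := ⟨ψ, hψ⟩
  have ha0 : a Ψ ≠ 0 := fun h => hχψ (by rw [ha Ψ, h, Nat.cast_zero])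
  have he0 : e Ψ ≠ 0 := fun h => hne (by rw [he Ψ, h, Nat.cast_zero])
  have hle : a Ψ * e Ψ ≤ m :=
    Finset.single_le_sum (f := fun φ => a φ * e φ) (fun _ _ => Nat.zero_le _) (Finset.mem_univ Ψ)
  have hm0 : m ≠ 0 := by
    have := Nat.mul_pos (Nat.pos_of_ne_zero ha0) (Nat.pos_of_ne_zero he0)
    omega
  obtain ⟨d, hd0, hd⟩ := IsIrr.one_eq_pos hθ
  have hχ1 : χ 1 = ((m * T.index * d : ℕ) : ℂ) := by
    rw [clifford_one N hχ hθ (by rw [hm]; exact Nat.cast_ne_zero.mpr hm0), hm, hd, ← hT]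
    push_cast
    ring
  have hψ1 : ψ 1 = ((e Ψ * d : ℕ) : ℂ) := by
    rw [one_eq_mul N hθ hNT hT.le hψ hne, he Ψ, hd, Nat.cast_mul]
  have hind1 : indFun T ψ 1 = ((T.index * (e Ψ * d) : ℕ) : ℂ) := by
    rw [indFun_one_eq, hψ1, ← Nat.cast_mul]
  have hinner : classInner (indFun T ψ) χ ≠ 0 := by
    rw [classInner_indFun T ψ (IsIrr.classFun hχ), ← classInner_conj_symm, Ne, map_eq_zero]
    exact hχψ
  have hup := degree_le_of_constituent (isCharacter_indFun T (IsIrr.isCharacter hψ)) hχ hinner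
    hind1 hχ1
  have hT0 : 0 < T.index := Nat.pos_of_ne_zero Subgroup.index_ne_zero_of_finite
  have hme : m ≤ e Ψ := by
    refine Nat.le_of_mul_le_mul_right ?_ (Nat.mul_pos hT0 hd0)
    calc m * (T.index * d) = m * T.index * d := (mul_assoc _ _ _).symm
      _ ≤ T.index * (e Ψ * d) := hup
      _ = _ := by ring
  have hmeq : m = e Ψ := le_antisymm hme ((Nat.le_mul_of_pos_left _ (Nat.pos_of_ne_zero ha0)).trans hle)
  refine ⟨eq_of_constituent_degree (isCharacter_indFun T (IsIrr.isCharacter hψ)) hχ hinner (by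
      rw [hind1, hχ1, hmeq]
      push_cast
      ring), by rw [hm, hmeq]; exact he Ψ, fun φ hφ hφχ hφθ => ?_⟩
  by_contra hne'
  set Φ : IrrCharacter T := ⟨φ, hφ⟩
  have hpair := Finset.sum_le_sum_of_subset (f := fun φ => a φ * e φ)
    (Finset.subset_univ ({Ψ, Φ} : Finset (IrrCharacter T)))
  rw [Finset.sum_pair (fun h => hne' (congrArg Subtype.val h).symm), ← hmdef] at hpair
  have hΦ : 0 < a Φ * e Φ := Nat.mul_pos
    (Nat.pos_of_ne_zero fun h => hφχ (by rw [ha Φ, h, Nat.cast_zero]))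
    (Nat.pos_of_ne_zero fun h => hφθ (by rw [he Φ, h, Nat.cast_zero]))
  have := Nat.le_mul_of_pos_left (e Ψ) (Nat.pos_of_ne_zero ha0)
  omega

theorem exists_correspondent (hθ : IsIrrCharacter N θ) {T : Subgroup G} (hT : T = inertia N θ)
    (hNT : N ≤ T) [Fintype T] {χ : G → ℂ} (hχ : IsIrrCharacter G χ)
    (hne : classInner (fun n : N => χ n) θ ≠ 0) :
    ∃ ψ : T → ℂ, IsIrrCharacter T ψ ∧ indFun T ψ = χ ∧
      classInner (fun n : N => ψ ⟨(n : G), hNT n.2⟩) θ = classInner (fun n : N => χ n) θ := by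
  classical
  obtain ⟨a, ha, hdec⟩ :=
    IsChar.exists_decomp_inner (IsChar.res (IsIrr.isCharacter hχ) T)
  have h1 : (fun n : N => χ n) = ∑ φ : IrrCharacter T,
      (a φ : ℂ) • fun n : N => (φ : T → ℂ) ⟨(n : G), hNT n.2⟩ := by
    funext n
    have := congrFun hdec ⟨(n : G), hNT n.2⟩
    rw [sum_irr_apply] at this
    rw [this]
    simp
  rw [h1, classInner_sum_left] at hne
  obtain ⟨φ, -, hφ⟩ := Finset.exists_ne_zero_of_sum_ne_zero hne
  rw [classInner_smul_left, mul_ne_zero_iff] at hφ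
  obtain ⟨h2, h3, -⟩ := core N hθ hT hNT φ.2 hφ.2 hχ (by rw [ha φ]; exact hφ.1)
  exact ⟨φ, φ.2, h2, h3⟩

theorem indFun_irr (hθ : IsIrrCharacter N θ) {T : Subgroup G} (hT : T = inertia N θ)
    (hNT : N ≤ T) [Fintype T] {ψ : T → ℂ} (hψ : IsIrrCharacter T ψ)
    (hne : classInner (fun n : N => ψ ⟨(n : G), hNT n.2⟩) θ ≠ 0) :
    IsIrrCharacter G (indFun T ψ) ∧
      ∀ φ : T → ℂ, IsIrrCharacter T φ → classInner (fun n : N => φ ⟨(n : G), hNT n.2⟩) θ ≠ 0 →
        indFun T φ = indFun T ψ → φ = ψ := by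
  obtain ⟨χ, hχ⟩ := IsChar.exists_constituent' (isCharacter_indFun T (IsIrr.isCharacter hψ))
    (by
      rw [indFun_one_eq]
      exact mul_ne_zero (Nat.cast_ne_zero.mpr Subgroup.index_ne_zero_of_finite)
        (IsIrr.one_ne_zero hψ))
  have hχψ : classInner (fun x : T => (χ : G → ℂ) x) ψ ≠ 0 := by
    rw [classInner_indFun T ψ (IsIrr.classFun χ.2), ← classInner_conj_symm, Ne, map_eq_zero] at hχ
    exact hχ
  obtain ⟨h1, -, h3⟩ := core N hθ hT hNT hψ hne χ.2 hχψ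
  refine ⟨h1 ▸ χ.2, fun φ hφ hφθ heq => h3 φ hφ ?_ hφθ⟩
  have h := classInner_self_irr χ.2
  conv_lhs at h => arg 1; rw [← h1, ← heq]
  rw [classInner_indFun T φ (IsIrr.classFun χ.2)] at h
  rw [← classInner_conj_symm, Ne, map_eq_zero, h]
  exact one_ne_zero

end Cfsg.Agent.Char.Corr
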