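import Cfsg.Agent.Lib.Char.Integral

/-!
Brauer's permutation lemma.
-/

namespace Cfsg.Agent.Char

open scoped ComplexConjugate
open Cfsg

universe u

variable {G : Type u} [Group G] [Finite G]

/-- Sum of centraliser orders over a union of classes counts the classes. -/
theorem sum_centralizer_card [Fintype G] (P : ConjClasses G → Prop) [DecidablePred P] :
    (∑ g : G, if P (ConjClasses.mk g) then
      (Nat.card (Subgroup.centralizer ({g} : Set G)) : ℂ) else 0) =
      (Nat.card G : ℂ) * (Nat.card {C : ConjClasses G // P C} : ℂ) := by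
  classical
  haveI := Fintype.ofFinite (ConjClasses G)
  rw [← Finset.sum_fiberwise Finset.univ (ConjClasses.mk : G → ConjClasses G)]
  have h : ∀ C : ConjClasses G,
      (∑ g ∈ Finset.univ.filter (fun g : G => ConjClasses.mk g = C),
        if P (ConjClasses.mk g) then (Nat.card (Subgroup.centralizer ({g} : Set G)) : ℂ) else 0) =
      if P C then (Nat.card G : ℂ) else 0 := by
    intro C
    obtain ⟨x, rfl⟩ := C.exists_rep
    by_cases hP : P (ConjClasses.mk x)
    · rw [if_pos hP, conjClass_eq_fiber x]
      have hval : ∀ g ∈ Finset.univ.filter (fun g => IsConj x g),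
          (if P (ConjClasses.mk g) then (Nat.card (Subgroup.centralizer ({g} : Set G)) : ℂ) else 0)
            = (Nat.card (Subgroup.centralizer ({x} : Set G)) : ℂ) := by
        intro g hg
        have hg' := (Finset.mem_filter.mp hg).2
        rw [← ConjClasses.mk_eq_mk_iff_isConj.mpr hg', if_pos hP]
        obtain ⟨c, rfl⟩ := isConj_iff.mp hg'
        congr 1
        have e1 := card_conjClass (c * x * c⁻¹)
        have e2 := card_conjClass x
        have e3 : Nat.card {y : G // IsConj (c * x * c⁻¹) y} = Nat.card {y : G // IsConj x y} :=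
          Nat.card_congr (Equiv.subtypeEquivRight fun y =>
            ⟨fun h => hg'.trans h, fun h => hg'.symm.trans h⟩)
        have e4 := Subgroup.index_mul_card (Subgroup.centralizer ({c * x * c⁻¹} : Set G))
        have e5 := Subgroup.index_mul_card (Subgroup.centralizer ({x} : Set G))
        rw [← e1, e3, e2, ← e5] at e4
        exact Nat.eq_of_mul_eq_mul_left
          (Nat.pos_of_ne_zero Subgroup.index_ne_zero_of_finite) e4
      rw [Finset.sum_congr rfl hval, Finset.sum_const, card_conjClass_finset, nsmul_eq_mul,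
        ← Nat.cast_mul, Subgroup.index_mul_card]
    · rw [if_neg hP]
      refine Finset.sum_eq_zero fun g hg => ?_
      rw [(Finset.mem_filter.mp hg).2, if_neg hP]
  rw [Finset.sum_congr rfl fun C _ => h C, ← Finset.sum_filter, Finset.sum_const, nsmul_eq_mul,
    Nat.card_eq_fintype_card (α := {C : ConjClasses G // P C}), Fintype.card_subtype, mul_comm]

/-- Brauer's permutation lemma, for a map on characters compatible with a map on classes. -/
theorem brauer_perm (f : IrrCharacter G → IrrCharacter G) (φ : ConjClasses G → ConjClasses G)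
    (hc : ∀ (χ : IrrCharacter G) (g g' : G), ConjClasses.mk g' = φ (ConjClasses.mk g) →
      (f χ : G → ℂ) g = (χ : G → ℂ) g') :
    Nat.card {χ : IrrCharacter G // f χ = χ} = Nat.card {C : ConjClasses G // φ C = C} := by
  classical
  haveI := Fintype.ofFinite G
  have h1 : (Nat.card {χ : IrrCharacter G // f χ = χ} : ℂ) =
      ∑ χ : IrrCharacter G, classInner (f χ : G → ℂ) (χ : G → ℂ) := by
    rw [Nat.card_eq_fintype_card, Fintype.card_subtype, ← Finset.sum_boole]
    refine Finset.sum_congr rfl fun χ _ => ?_
    rw [classInner_irr_eq_ite (f χ).2 χ.2]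
    exact if_congr Subtype.ext_iff rfl rfl
  have h2 : ∀ g : G, (∑ χ : IrrCharacter G, (f χ : G → ℂ) g * conj ((χ : G → ℂ) g)) =
      if φ (ConjClasses.mk g) = ConjClasses.mk g then
        (Nat.card (Subgroup.centralizer ({g} : Set G)) : ℂ) else 0 := by
    intro g
    obtain ⟨g', hg'⟩ := (φ (ConjClasses.mk g)).exists_rep
    rw [Finset.sum_congr rfl fun χ _ => by rw [hc χ g g' hg'], sum_irr_mul_conj]
    have e : IsConj g' g ↔ φ (ConjClasses.mk g) = ConjClasses.mk g := by
      rw [← hg', ← ConjClasses.mk_eq_mk_iff_isConj]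
    by_cases hh : IsConj g' g
    · rw [if_pos hh, if_pos (e.mp hh)]
    · rw [if_neg hh, if_neg (mt e.mpr hh)]
  have h3 : (Nat.card {χ : IrrCharacter G // f χ = χ} : ℂ) =
      (Nat.card {C : ConjClasses G // φ C = C} : ℂ) := by
    rw [h1]
    simp only [classInner, ← Finset.mul_sum]
    rw [Finset.sum_comm, Finset.sum_congr rfl fun g _ => h2 g,
      sum_centralizer_card (fun C => φ C = C), ← mul_assoc,
      inv_mul_cancel₀ (Nat.cast_ne_zero.mpr Nat.card_pos.ne'), one_mul]
  exact_mod_cast h3

end Cfsg.Agent.Char
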