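import Cfsg.Agent.Lib.Char.Clifford
import Cfsg.Agent.Lib.Char.Perm

/-!
Constituent kernels, scalar action, fixed-point-free conjugation, values modulo a prime.
-/

namespace Cfsg.Agent.Char

open scoped ComplexConjugate
open Cfsg Module

universe u

variable {G : Type u} [Group G]

theorem eq_ofReal_of_re_eq {z : ℂ} {r : ℝ} (hr : z.re = r) (hn : ‖z‖ ≤ r) : z = (r : ℂ) := by
  have h1 : z.re ^ 2 + z.im ^ 2 ≤ r ^ 2 := by
    have := Complex.sq_norm z
    rw [Complex.normSq_apply] at this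
    nlinarith [norm_nonneg z]
  have h2 : z.im = 0 := (pow_eq_zero_iff two_ne_zero).mp
    (le_antisymm (by rw [hr] at h1; linarith) (sq_nonneg _))
  exact Complex.ext (by simp [hr]) (by simp [h2])

/-- A combination of characters with non-negative coefficients taking its degree at `g` forces
each summand to do so. -/
theorem eq_one_of_sum_eq [Finite G] {ι : Type*} (s : Finset ι) (a : ι → ℝ) (f : ι → G → ℂ)
    (ha : ∀ i ∈ s, 0 ≤ a i) (hf : ∀ i ∈ s, IsCharacter G (f i)) {g : ι → G}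
    (h : ∑ i ∈ s, (a i : ℂ) * f i (g i) = ∑ i ∈ s, (a i : ℂ) * f i 1)
    {i : ι} (hi : i ∈ s) (hai : a i ≠ 0) : f i (g i) = f i 1 := by
  have hdeg : ∀ j ∈ s, ∃ n : ℕ, f j 1 = n := fun j hj => IsChar.one_eq_nat (hf j hj)
  have hle : ∀ j ∈ s, (f j (g j)).re ≤ (f j 1).re := fun j hj => by
    obtain ⟨n, hn⟩ := hdeg j hj
    have := (Complex.re_le_norm _).trans (IsChar.norm_le (hf j hj) (g j))
    rw [hn, Complex.norm_natCast] at this
    simpa [hn] using this
  have h0 : ∑ j ∈ s, a j * ((f j 1).re - (f j (g j)).re) = 0 := by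
    have := congrArg Complex.re h
    simp only [Complex.re_sum, Complex.re_ofReal_mul] at this
    simp only [mul_sub, Finset.sum_sub_distrib, this, sub_self]
  have h1 := (Finset.sum_eq_zero_iff_of_nonneg fun j hj =>
    mul_nonneg (ha j hj) (sub_nonneg.mpr (hle j hj))).mp h0 i hi
  obtain ⟨n, hn⟩ := hdeg i hi
  have h2 : (f i (g i)).re = n := by
    have := (mul_eq_zero.mp h1).resolve_left hai
    rw [hn, Complex.natCast_re] at this
    linarith
  have h3 := IsChar.norm_le (hf i hi) (g i)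
  rw [hn, Complex.norm_natCast] at h3
  rw [hn, eq_ofReal_of_re_eq h2 h3, Complex.ofReal_natCast]

/-- A constituent has a larger kernel. -/
theorem constituent_ker [Fintype G] {χ φ : G → ℂ} (hχ : IsCharacter G χ)
    (hφ : IsIrrCharacter G φ) (hc : classInner χ φ ≠ 0) {g : G} (hg : χ g = χ 1) : φ g = φ 1 := by
  obtain ⟨a, ha, hd⟩ := IsChar.exists_decomp_inner hχ
  have h1 := congrFun hd g
  have h2 := congrFun hd 1
  rw [sum_irr_apply] at h1 h2
  refine eq_one_of_sum_eq (g := fun _ => g) Finset.univ (fun ψ : IrrCharacter G => (a ψ : ℝ))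
    (fun ψ => (ψ : G → ℂ)) (fun _ _ => Nat.cast_nonneg _) (fun ψ _ => IsIrr.isCharacter ψ.2) ?_
    (i := (⟨φ, hφ⟩ : IrrCharacter G)) (Finset.mem_univ _) ?_
  · simp only [Complex.ofReal_natCast]
    rw [← h1, ← h2, hg]
  · have := ha ⟨φ, hφ⟩
    intro h0
    refine hc (this.trans ?_)
    exact_mod_cast h0

/-- Some nonprincipal constituent, unless the kernel is everything. -/
theorem exists_nonprincipal_constituent [Fintype G] {χ : G → ℂ} (hχ : IsCharacter G χ) {g : G}
    (hg : χ g ≠ χ 1) :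
    ∃ φ : IrrCharacter G, classInner χ (φ : G → ℂ) ≠ 0 ∧ (φ : G → ℂ) g ≠ (φ : G → ℂ) 1 := by
  by_contra hno
  push Not at hno
  obtain ⟨a, ha, hd⟩ := IsChar.exists_decomp_inner hχ
  refine hg ?_
  rw [congrFun hd g, congrFun hd 1, sum_irr_apply, sum_irr_apply]
  refine Finset.sum_congr rfl fun φ _ => ?_
  by_cases h : classInner χ (φ : G → ℂ) = 0
  · rw [show (a φ : ℂ) = 0 by rw [← ha, h], zero_mul, zero_mul]
  · rw [hno φ h]

/-- Central modulo kernel means scalar. -/
theorem IsIrr.exists_scalar [Finite G] {χ : G → ℂ} (h : IsIrrCharacter G χ) {z : G}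
    (hz : ∀ g : G, χ (z * g * z⁻¹ * g⁻¹) = χ 1) :
    ∃ c : ℂ, ‖c‖ = 1 ∧ ∀ g, χ (z * g) = c * χ g := by
  obtain ⟨n, ρ, hρ, rfl⟩ := h
  have hcomm : ∀ g, ρ z ∘ₗ ρ g = ρ g ∘ₗ ρ z := fun g => by
    have h1 := hz g
    rw [Representation.char_one, character_eq_finrank_iff, ← Module.End.one_eq_id] at h1
    show ρ z * ρ g = ρ g * ρ z
    calc ρ z * ρ g = ρ (z * g * z⁻¹ * g⁻¹) * (ρ g * ρ z) := by
          rw [← map_mul, ← map_mul, ← map_mul]; congr 1; group
      _ = ρ g * ρ z := by rw [h1, one_mul]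
  obtain ⟨c, hc⟩ := schur_scalar ρ (ρ z) hcomm
  have hn := (norm_character_eq_iff ρ z).mpr ⟨c, hc⟩
  rw [Representation.character, hc, map_smul, LinearMap.trace_id, smul_eq_mul, norm_mul,
    Complex.norm_natCast] at hn
  refine ⟨c, (mul_eq_right₀ (Nat.cast_ne_zero.mpr (finrank_pos_of_irreducible ρ).ne')).mp hn,
    fun g => ?_⟩
  rw [Representation.character, Representation.character, map_mul, hc, ← Module.End.one_eq_id,
    smul_mul_assoc, one_mul, map_smul, smul_eq_mul]

theorem IsIrr.scalar_of_center [Finite G] {χ : G → ℂ} (h : IsIrrCharacter G χ) {z : G}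
    (hz : z ∈ Subgroup.center G) : ∃ c : ℂ, ‖c‖ = 1 ∧ ∀ g, χ (z * g) = c * χ g :=
  IsIrr.exists_scalar h fun g => by
    rw [← Subgroup.mem_center_iff.mp hz g, mul_inv_cancel_right, mul_inv_cancel]

/-- Conjugation by an element centralising no non-identity element of a normal subgroup, up to
inner automorphisms, fixes only the principal character. -/
theorem eq_one_of_conjN_fixed [Finite G] (N : Subgroup G) [hN : N.Normal] {g : G}
    (hg : ∀ m ∈ N, ∀ n ∈ N, (m * g) * n = n * (m * g) → n = 1)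
    {θ : N → ℂ} (hθ : IsIrrCharacter N θ) (hfix : conjN N g θ = θ) : θ = fun _ => 1 := by
  classical
  let φ : ConjClasses N → ConjClasses N := ConjClasses.map (conjEquivN N g).toMonoidHom
  let f : IrrCharacter N → IrrCharacter N := fun χ => ⟨conjN N g χ, IsIrr.conjN N χ.2 g⟩
  have h := brauer_perm f φ fun χ a a' ha => by
    have e : IsConj a' (conjEquivN N g a) := ConjClasses.mk_eq_mk_iff_isConj.mp ha
    rw [IsClass.eq_of_isConj (IsIrr.classFun χ.2) e]
    exact congrFun (conjN_eq_comp N g (χ : N → ℂ)) a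
  have h1 : ∀ C : ConjClasses N, φ C = C → C = ConjClasses.mk 1 := by
    intro C hC
    obtain ⟨n, rfl⟩ := C.exists_rep
    obtain ⟨m, hm⟩ := isConj_iff.mp (ConjClasses.mk_eq_mk_iff_isConj.mp hC :
      IsConj (conjEquivN N g n) n)
    have hm' : (m : G) * (g * (n : G) * g⁻¹) * (m : G)⁻¹ = n := by
      have := congrArg Subtype.val hm
      simpa [conjEquivN_apply] using this
    have := hg m m.2 n n.2 (by
      conv_rhs => rw [← hm']
      group)
    exact congrArg ConjClasses.mk (Subtype.ext this)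
  have h2 : Nat.card {C : ConjClasses N // φ C = C} = 1 := by
    rw [Nat.card_eq_one_iff_unique]
    exact ⟨⟨fun a b => Subtype.ext ((h1 _ a.2).trans (h1 _ b.2).symm)⟩,
      ⟨⟨ConjClasses.mk 1, congrArg ConjClasses.mk (map_one (conjEquivN N g).toMonoidHom)⟩⟩⟩
  obtain ⟨hsub, -⟩ := Nat.card_eq_one_iff_unique.mp (h.trans h2)
  have h3 := hsub.elim ⟨⟨θ, hθ⟩, Subtype.ext hfix⟩
    ⟨⟨_, isIrr_one⟩, Subtype.ext (funext fun _ => rfl)⟩
  exact congrArg (fun x : {χ : IrrCharacter N // f χ = χ} => ((x : IrrCharacter N) : N → ℂ)) h3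

theorem inertia_eq_of_fpf [Fintype G] (N : Subgroup G) [hN : N.Normal]
    (hC : ∀ n ∈ N, n ≠ 1 → Subgroup.centralizer ({n} : Set G) ≤ N)
    {θ : N → ℂ} (hθ : IsIrrCharacter N θ) (hθ1 : θ ≠ fun _ => 1) : inertia N θ = N := by
  refine le_antisymm (fun g hg => ?_) (le_inertia N (IsIrr.classFun hθ))
  by_contra hgN
  refine hθ1 (eq_one_of_conjN_fixed N (fun m hm n hn hc => ?_) hθ hg)
  by_contra hn1
  refine hgN ((N.mul_mem_cancel_left hm).mp (hC n hn hn1 ?_))
  exact Subgroup.mem_centralizer_singleton_iff.mpr hc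

theorem eq_of_constituent_irr [Fintype G] {χ ψ : G → ℂ} (hχ : IsIrrCharacter G χ)
    (hψ : IsIrrCharacter G ψ) (h : classInner χ ψ ≠ 0) : χ = ψ :=
  by_contra fun hne => h (classInner_irr_ne hχ hψ hne)

/-- In coprime situations every element of a coset is conjugate into the centraliser coset. -/
theorem exists_conj_centralizer_coset [Finite G] (H : Subgroup G) (g : G)
    (hg : g ∈ Subgroup.normalizer (H : Set G))
    (hcop : Nat.Coprime (orderOf g) (Nat.card H)) (h : G) (hh : h ∈ H) :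
    ∃ x ∈ H, ∃ c ∈ H, c * g = g * c ∧ x * (h * g) * x⁻¹ = c * g := by
  classical
  let C : Subgroup G := H ⊓ Subgroup.centralizer ({g} : Set G)
  have hconj : ∀ x ∈ H, g * x * g⁻¹ ∈ H := fun x hx => (Subgroup.mem_normalizer_iff.mp hg x).mp hx
  let F : H × C → H := fun p => ⟨p.1 * p.2 * g * (p.1 : G)⁻¹ * g⁻¹, by
    have := H.mul_mem (H.mul_mem p.1.2 p.2.2.1) (hconj _ (H.inv_mem p.1.2))
    simpa [mul_assoc] using this⟩
  obtain ⟨⟨k, hk0⟩, hk1⟩ : (∃ k, k ≡ 0 [MOD Nat.card H] ∧ k ≡ 1 [MOD orderOf g]) ∧ True :=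
    ⟨⟨_, (Nat.chineseRemainder hcop.symm 0 1).2⟩, trivial⟩
  have key : ∀ c : C, ((c : G) * g) ^ k = g := fun c => by
    rw [(Subgroup.mem_centralizer_singleton_iff.mp c.2.2 : (c : G) * g = g * c) |> fun e =>
      (show Commute (c : G) g from e).mul_pow]
    have e1 : (c : G) ^ k = 1 := by
      have h1 : (⟨c, c.2.1⟩ : H) ^ k = 1 := by
        obtain ⟨t, ht⟩ := Nat.modEq_zero_iff_dvd.mp hk0.1
        rw [ht, pow_mul, pow_card_eq_one', one_pow]
      simpa using congrArg Subtype.val h1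
    rw [e1, one_mul]
    conv_rhs => rw [← pow_one g]
    exact pow_eq_pow_iff_modEq.mpr hk0.2
  have hfib : ∀ y : H, Nat.card {p // F p = y} ≤ Nat.card C := by
    intro y
    rcases isEmpty_or_nonempty {p // F p = y} with he | ⟨⟨p₀, hp₀⟩⟩
    · simp
    have hmem : ∀ p, F p = F p₀ → ((p₀.1 : G))⁻¹ * p.1 ∈ C := by
      intro p hp
      refine ⟨H.mul_mem (H.inv_mem p₀.1.2) p.1.2, Subgroup.mem_centralizer_singleton_iff.mpr ?_⟩
      have h1 : (p.1 : G) * ((p.2 : G) * g) * (p.1 : G)⁻¹ =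
          (p₀.1 : G) * ((p₀.2 : G) * g) * (p₀.1 : G)⁻¹ := by
        have := congrArg (fun z : H => (z : G) * g) hp
        simpa [F, mul_assoc] using this
      have h2 := congrArg (· ^ k) h1
      simp only [conj_pow, key] at h2
      calc (p₀.1 : G)⁻¹ * p.1 * g = (p₀.1 : G)⁻¹ * (p.1 * g * (p.1 : G)⁻¹) * p.1 := by group
        _ = (p₀.1 : G)⁻¹ * (p₀.1 * g * (p₀.1 : G)⁻¹) * p.1 := by rw [h2]
        _ = g * ((p₀.1 : G)⁻¹ * p.1) := by group
    refine Nat.card_le_card_of_injective (fun p => (⟨_, hmem p.1 (p.2.trans hp₀.symm)⟩ : C))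
      fun p q hpq => ?_
    have e1 : (p.1.1 : G) = q.1.1 := mul_left_cancel (congrArg Subtype.val hpq)
    have e2 := congrArg Subtype.val (p.2.trans q.2.symm)
    simp only [F, e1] at e2
    refine Subtype.ext (Prod.ext (Subtype.ext e1) (Subtype.ext ?_))
    exact mul_left_cancel (mul_right_cancel (mul_right_cancel (mul_right_cancel e2)))
  have hsurj : Function.Surjective F := by
    by_contra hns
    simp only [Function.Surjective] at hns
    push Not at hns
    obtain ⟨y, hy⟩ := hns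
    haveI := Fintype.ofFinite (H × C)
    haveI := Fintype.ofFinite H
    have h1 : Nat.card (H × C) = ∑ z : H, Nat.card {p // F p = z} := by
      rw [← Nat.card_sigma]
      exact Nat.card_congr (Equiv.sigmaFiberEquiv F).symm
    have h2 : ∑ z : H, Nat.card {p // F p = z} < ∑ _z : H, Nat.card C := by
      refine Finset.sum_lt_sum (fun z _ => hfib z) ⟨y, Finset.mem_univ y, ?_⟩
      have : IsEmpty {p // F p = y} := ⟨fun p => hy p.1 p.2⟩
      rw [Nat.card_of_isEmpty]
      exact Nat.card_pos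
    rw [Nat.card_prod, Finset.sum_const, Finset.card_univ, smul_eq_mul,
      ← Nat.card_eq_fintype_card] at *
    omega
  obtain ⟨⟨x, c⟩, hxc⟩ := hsurj ⟨h, hh⟩
  refine ⟨(x : G)⁻¹, H.inv_mem x.2, c, c.2.1,
    Subgroup.mem_centralizer_singleton_iff.mp c.2.2, ?_⟩
  have := congrArg Subtype.val hxc
  simp only [F] at this
  rw [← this]
  group

end Cfsg.Agent.Char
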