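import Cfsg.Agent.Lib.Char.Induce

/-!
Constituents, generalized characters, abelian groups.
-/

namespace Cfsg.Agent.Char

open scoped ComplexConjugate
open Cfsg Module Representation

universe u

variable {G : Type u} [Group G]

theorem sum_irr_apply [Finite G] (a : IrrCharacter G → ℂ) (g : G) :
    (∑ φ : IrrCharacter G, a φ • (φ : G → ℂ)) g = ∑ φ : IrrCharacter G, a φ * (φ : G → ℂ) g := by
  simp

theorem IsChar.exists_constituent [Fintype G] {χ : G → ℂ} (h : IsCharacter G χ) (hne : χ ≠ 0) :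
    ∃ ψ : IrrCharacter G, classInner χ (ψ : G → ℂ) ≠ 0 := by
  by_contra hc
  push Not at hc
  exact hne (eq_zero_of_orth_irr (IsChar.classFun h) fun φ hφ => hc ⟨φ, hφ⟩)

theorem IsChar.eq_zero_of_one_eq_zero [Finite G] {χ : G → ℂ} (h : IsCharacter G χ)
    (h1 : χ 1 = 0) : χ = 0 := by
  funext g
  have := IsChar.norm_le h g
  rw [h1, norm_zero] at this
  exact norm_le_zero_iff.mp this

theorem IsChar.exists_constituent' [Fintype G] {χ : G → ℂ} (h : IsCharacter G χ) (hne : χ 1 ≠ 0) :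
    ∃ ψ : IrrCharacter G, classInner χ (ψ : G → ℂ) ≠ 0 :=
  IsChar.exists_constituent h fun h0 => hne (by rw [h0, Pi.zero_apply])

theorem IsChar.exists_decomp_inner [Fintype G] {χ : G → ℂ} (h : IsCharacter G χ) :
    ∃ a : IrrCharacter G → ℕ, (∀ φ : IrrCharacter G, classInner χ (φ : G → ℂ) = a φ) ∧
      χ = ∑ φ : IrrCharacter G, (a φ : ℂ) • (φ : G → ℂ) := by
  obtain ⟨a, ha⟩ := IsChar.exists_decomp h
  exact ⟨a, fun φ => by rw [ha, classInner_sum_irr], ha⟩

theorem degree_le_of_constituent [Fintype G] {χ ψ : G → ℂ} (hχ : IsCharacter G χ)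
    (hψ : IsIrrCharacter G ψ) (hne : classInner χ ψ ≠ 0) {m n : ℕ} (hm : χ 1 = m)
    (hn : ψ 1 = n) : n ≤ m := by
  classical
  obtain ⟨a, ha, hdec⟩ := IsChar.exists_decomp_inner hχ
  choose d hd using fun φ : IrrCharacter G => IsIrr.one_eq_pos φ.2
  have h1 := congrFun hdec 1
  rw [sum_irr_apply, hm] at h1
  have h2 : m = ∑ φ : IrrCharacter G, a φ * d φ := by
    have : (m : ℂ) = ((∑ φ : IrrCharacter G, a φ * d φ : ℕ) : ℂ) := by
      rw [h1, Nat.cast_sum]
      exact Finset.sum_congr rfl fun φ _ => by rw [(hd φ).2, Nat.cast_mul]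
    exact_mod_cast this
  have hpos : a ⟨ψ, hψ⟩ ≠ 0 := fun h0 => hne (by rw [ha ⟨ψ, hψ⟩, h0, Nat.cast_zero])
  have hd' : d ⟨ψ, hψ⟩ = n := Nat.cast_injective ((hd ⟨ψ, hψ⟩).2.symm.trans hn)
  calc n ≤ a ⟨ψ, hψ⟩ * n := Nat.le_mul_of_pos_left n (Nat.pos_of_ne_zero hpos)
    _ = a ⟨ψ, hψ⟩ * d ⟨ψ, hψ⟩ := by rw [hd']
    _ ≤ m := h2 ▸ Finset.single_le_sum (f := fun φ => a φ * d φ) (fun _ _ => Nat.zero_le _)
      (Finset.mem_univ _)

theorem IsIrr.one_of_comm {χ : G → ℂ} (hG : ∀ a b : G, a * b = b * a) (h : IsIrrCharacter G χ) :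
    χ 1 = 1 := by
  haveI : IsMulCommutative G := ⟨⟨hG⟩⟩
  obtain ⟨n, ρ, hρ, rfl⟩ := h
  rw [Representation.char_one, IsIrreducible.finrank_eq_one_of_isMulCommutative ρ, Nat.cast_one]

theorem linear_sum [Fintype G] (l : G →* ℂˣ) (hl : l ≠ 1) : ∑ g : G, (l g : ℂ) = 0 := by
  have h := classInner_irr_ne (isIrr_linear l) (isIrr_one (G := G)) fun h =>
    hl (MonoidHom.ext fun g => Units.ext (congrFun h g))
  simpa [classInner, Nat.card_pos.ne'] using h

theorem eq_one_of_forall_linear [Finite G] (hG : ∀ a b : G, a * b = b * a) {g : G}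
    (h : ∀ l : G →* ℂˣ, l g = 1) : g = 1 := by
  refine isConj_one_left.mp ((isConj_iff_irr g 1).mpr fun χ => ?_)
  obtain ⟨l, hl⟩ := linearHom_of_isCharacter (IsIrr.isCharacter χ.2) (IsIrr.one_of_comm hG χ.2)
  simp [hl, h l]

/-! ### kernels -/

theorem irr_const_eq_one [Fintype G] {χ : G → ℂ} (h : IsIrrCharacter G χ)
    (hc : ∀ g, χ g = χ 1) : χ = fun _ => 1 := by
  obtain ⟨n, hn, hn'⟩ := IsIrr.one_eq_pos h
  have h1 := classInner_self_irr h
  have hconst : χ = fun _ => (n : ℂ) := funext fun g => (hc g).trans hn'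
  simp only [hconst, classInner, Finset.sum_const, Finset.card_univ, nsmul_eq_mul, map_natCast,
    ← Nat.card_eq_fintype_card] at h1
  rw [inv_mul_cancel_left₀ (Nat.cast_ne_zero.mpr Nat.card_pos.ne')] at h1
  have hn1 : n = 1 := by
    have : n * n = 1 := by exact_mod_cast h1
    exact Nat.eq_one_of_mul_eq_one_right this
  simp [hconst, hn1]

/-- The kernel of a character, as a subgroup. -/
noncomputable def charKer [Finite G] {χ : G → ℂ} (h : IsCharacter G χ) : Subgroup G :=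
  MonoidHom.ker h.choose_spec.choose

theorem mem_charKer [Finite G] {χ : G → ℂ} (h : IsCharacter G χ) {g : G} :
    g ∈ charKer h ↔ χ g = χ 1 := by
  have hρ := h.choose_spec.choose_spec
  rw [charKer, MonoidHom.mem_ker, Module.End.one_eq_id, ← character_eq_finrank_iff,
    ← Representation.char_one h.choose_spec.choose, hρ]

theorem charKer_normal [Finite G] {χ : G → ℂ} (h : IsCharacter G χ) : (charKer h).Normal :=
  MonoidHom.normal_ker _

theorem char_mul_ker [Finite G] {χ : G → ℂ} (h : IsCharacter G χ) {k : G} (hk : χ k = χ 1)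
    (g : G) : χ (k * g) = χ g := by
  obtain ⟨n, ρ, rfl⟩ := h
  rw [Representation.char_one, character_eq_finrank_iff] at hk
  rw [Representation.character, map_mul, hk, ← Module.End.one_eq_id, one_mul]
  rfl

/-! ### generalized characters -/

theorem IsGenChar.of_isCharacter {χ : G → ℂ} (h : IsCharacter G χ) :
    IsGeneralizedCharacter G χ :=
  ⟨χ, 0, h, IsChar.zero, by simp⟩

theorem IsGenChar.zero : IsGeneralizedCharacter G (0 : G → ℂ) :=
  IsGenChar.of_isCharacter IsChar.zero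

theorem IsGenChar.add {α β : G → ℂ} (ha : IsGeneralizedCharacter G α)
    (hb : IsGeneralizedCharacter G β) : IsGeneralizedCharacter G (α + β) := by
  obtain ⟨a, a', h1, h2, rfl⟩ := ha
  obtain ⟨b, b', h3, h4, rfl⟩ := hb
  exact ⟨_, _, IsChar.add h1 h3, IsChar.add h2 h4, by ring⟩

theorem IsGenChar.neg {α : G → ℂ} (ha : IsGeneralizedCharacter G α) :
    IsGeneralizedCharacter G (-α) := by
  obtain ⟨a, a', h1, h2, rfl⟩ := ha
  exact ⟨_, _, h2, h1, by ring⟩

theorem IsGenChar.sub {α β : G → ℂ} (ha : IsGeneralizedCharacter G α)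
    (hb : IsGeneralizedCharacter G β) : IsGeneralizedCharacter G (α - β) :=
  sub_eq_add_neg α β ▸ IsGenChar.add ha (IsGenChar.neg hb)

theorem IsGenChar.mul {α β : G → ℂ} (ha : IsGeneralizedCharacter G α)
    (hb : IsGeneralizedCharacter G β) : IsGeneralizedCharacter G (α * β) := by
  obtain ⟨a, a', h1, h2, rfl⟩ := ha
  obtain ⟨b, b', h3, h4, rfl⟩ := hb
  exact ⟨_, _, IsChar.add (IsChar.mul h1 h3) (IsChar.mul h2 h4),
    IsChar.add (IsChar.mul h1 h4) (IsChar.mul h2 h3), by ring⟩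

theorem IsGenChar.sum {ι : Type*} {s : Finset ι} {f : ι → G → ℂ}
    (h : ∀ i ∈ s, IsGeneralizedCharacter G (f i)) : IsGeneralizedCharacter G (∑ i ∈ s, f i) :=
  Finset.sum_induction _ _ (fun _ _ ha hb => IsGenChar.add ha hb) IsGenChar.zero h

theorem IsGenChar.zsmul {α : G → ℂ} (ha : IsGeneralizedCharacter G α) (n : ℤ) :
    IsGeneralizedCharacter G ((n : ℂ) • α) := by
  obtain ⟨a, a', h1, h2, rfl⟩ := ha
  obtain ⟨m, rfl | rfl⟩ := Int.eq_nat_or_neg n
  · exact ⟨_, _, IsChar.nsmul h1 m, IsChar.nsmul h2 m, by simp [smul_sub]⟩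
  · exact ⟨_, _, IsChar.nsmul h2 m, IsChar.nsmul h1 m, by
      rw [Int.cast_neg, Int.cast_natCast, neg_smul, ← smul_neg, neg_sub, smul_sub]⟩

theorem IsGenChar.classFun {α : G → ℂ} (ha : IsGeneralizedCharacter G α) :
    IsClassFunction G α := by
  obtain ⟨a, a', h1, h2, rfl⟩ := ha
  exact classFunction_sub (IsChar.classFun h1) (IsChar.classFun h2)

theorem IsGenChar.comp {H : Type*} [Group H] (φ : H →* G) {α : G → ℂ}
    (ha : IsGeneralizedCharacter G α) : IsGeneralizedCharacter H (fun x => α (φ x)) := by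
  obtain ⟨a, a', h1, h2, rfl⟩ := ha
  exact ⟨_, _, IsChar.comp φ h1, IsChar.comp φ h2, rfl⟩

theorem IsGenChar.ind [Fintype G] (H : Subgroup G) {α : H → ℂ}
    (ha : IsGeneralizedCharacter H α) : IsGeneralizedCharacter G (indFun H α) := by
  obtain ⟨a, a', h1, h2, rfl⟩ := ha
  exact ⟨_, _, isCharacter_indFun H h1, isCharacter_indFun H h2, indFun_sub H a a'⟩

theorem IsGenChar.classInner_int [Fintype G] {α β : G → ℂ} (ha : IsGeneralizedCharacter G α)
    (hb : IsGeneralizedCharacter G β) : ∃ n : ℤ, classInner α β = n := by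
  obtain ⟨a, a', h1, h2, rfl⟩ := ha
  obtain ⟨b, b', h3, h4, rfl⟩ := hb
  obtain ⟨w, hw⟩ := IsChar.classInner_nat h1 h3
  obtain ⟨x, hx⟩ := IsChar.classInner_nat h1 h4
  obtain ⟨y, hy⟩ := IsChar.classInner_nat h2 h3
  obtain ⟨z, hz⟩ := IsChar.classInner_nat h2 h4
  exact ⟨(w : ℤ) - x - (y - z), by
    simp only [classInner_sub_left, classInner_sub_right, hw, hx, hy, hz]; push_cast; ring⟩

theorem IsGenChar.exists_decomp [Fintype G] {α : G → ℂ} (ha : IsGeneralizedCharacter G α) :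
    ∃ a : IrrCharacter G → ℤ, (∀ φ : IrrCharacter G, classInner α (φ : G → ℂ) = a φ) ∧
      α = ∑ φ : IrrCharacter G, (a φ : ℂ) • (φ : G → ℂ) := by
  choose a ha' using fun φ : IrrCharacter G =>
    IsGenChar.classInner_int ha (IsGenChar.of_isCharacter (IsIrr.isCharacter φ.2))
  refine ⟨a, ha', ?_⟩
  conv_lhs => rw [classFunction_expansion (IsGenChar.classFun ha)]
  exact Finset.sum_congr rfl fun φ _ => by rw [ha']

theorem IsGenChar.classInner_self_int [Fintype G] {a : IrrCharacter G → ℤ} :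
    classInner (∑ φ : IrrCharacter G, (a φ : ℂ) • (φ : G → ℂ))
      (∑ φ : IrrCharacter G, (a φ : ℂ) • (φ : G → ℂ)) =
      ((∑ φ : IrrCharacter G, a φ ^ 2 : ℤ) : ℂ) := by
  rw [classInner_sum_sum]
  simp [sq]

theorem IsGenChar.norm_one [Fintype G] {α : G → ℂ} (ha : IsGeneralizedCharacter G α)
    (h : classInner α α = 1) : IsIrrCharacter G α ∨ IsIrrCharacter G (-α) := by
  classical
  obtain ⟨a, -, rfl⟩ := IsGenChar.exists_decomp ha
  rw [IsGenChar.classInner_self_int] at h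
  have hs : ∑ φ : IrrCharacter G, a φ ^ 2 = 1 := by exact_mod_cast h
  obtain ⟨φ, hφ⟩ : ∃ φ, a φ ≠ 0 := by
    by_contra hc
    push Not at hc
    simp [hc] at hs
  rw [← Finset.add_sum_erase _ _ (Finset.mem_univ φ)] at hs
  have h1 : 1 ≤ a φ ^ 2 := by nlinarith [Int.one_le_abs hφ, sq_abs (a φ)]
  have h2 : ∀ ψ ∈ Finset.univ.erase φ, 0 ≤ a ψ ^ 2 := fun _ _ => sq_nonneg _
  have h3 : ∀ ψ ∈ Finset.univ.erase φ, a ψ ^ 2 = 0 :=
    (Finset.sum_eq_zero_iff_of_nonneg h2).mp (by linarith [Finset.sum_nonneg h2])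
  rw [Finset.sum_eq_single φ (fun ψ _ hne => by
    simp [(pow_eq_zero_iff two_ne_zero).mp (h3 ψ (Finset.mem_erase.mpr ⟨hne, Finset.mem_univ _⟩))])
    (by simp)]
  have h4 : a φ ^ 2 = 1 := by linarith [Finset.sum_nonneg h2]
  rcases sq_eq_one_iff.mp h4 with h5 | h5
  · left; simpa [h5] using φ.2
  · right; simpa [h5] using φ.2

/-- A generalized character of norm two vanishing at one is a difference of irreducibles. -/
theorem IsGenChar.norm_two [Fintype G] {α : G → ℂ} (ha : IsGeneralizedCharacter G α)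
    (h : classInner α α = 2) (h1 : α 1 = 0) :
    ∃ φ ψ : G → ℂ, IsIrrCharacter G φ ∧ IsIrrCharacter G ψ ∧ φ ≠ ψ ∧ α = φ - ψ := by
  classical
  obtain ⟨a, -, rfl⟩ := IsGenChar.exists_decomp ha
  rw [IsGenChar.classInner_self_int] at h
  have hs : ∑ φ : IrrCharacter G, a φ ^ 2 = 2 := by exact_mod_cast h
  have hle : ∀ φ, a φ = 0 ∨ a φ = 1 ∨ a φ = -1 := by
    intro φ
    have := Finset.single_le_sum (f := fun x => a x ^ 2) (fun x _ => sq_nonneg _)
      (Finset.mem_univ φ)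
    rw [hs] at this
    have h5 : -1 ≤ a φ ∧ a φ ≤ 1 := ⟨by nlinarith, by nlinarith⟩
    omega
  have hcard : ({φ | a φ ≠ 0} : Finset (IrrCharacter G)).card = 2 := by
    have : ∑ φ : IrrCharacter G, a φ ^ 2 =
        ∑ φ : IrrCharacter G, (if a φ ≠ 0 then (1 : ℤ) else 0) :=
      Finset.sum_congr rfl fun φ _ => by rcases hle φ with h | h | h <;> simp [h]
    rw [this, Finset.sum_boole] at hs
    exact_mod_cast hs
  obtain ⟨x, y, hxy, hset⟩ := Finset.card_eq_two.mp hcard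
  have hsum : (∑ φ : IrrCharacter G, (a φ : ℂ) • (φ : G → ℂ)) =
      (a x : ℂ) • (x : G → ℂ) + (a y : ℂ) • (y : G → ℂ) := by
    rw [← Finset.sum_subset (Finset.subset_univ ({x, y} : Finset (IrrCharacter G))) fun φ _ hφ => by
      rw [← hset] at hφ
      simp only [Finset.mem_filter, Finset.mem_univ, true_and, not_not] at hφ
      simp [hφ], Finset.sum_pair hxy]
  rw [hsum] at h1 ⊢
  have hx : a x ≠ 0 := (Finset.mem_filter.mp (hset ▸ (by simp) :
    x ∈ ({φ | a φ ≠ 0} : Finset (IrrCharacter G)))).2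
  have hy : a y ≠ 0 := (Finset.mem_filter.mp (hset ▸ (by simp) :
    y ∈ ({φ | a φ ≠ 0} : Finset (IrrCharacter G)))).2
  obtain ⟨m, hm, hm'⟩ := IsIrr.one_eq_pos x.2
  obtain ⟨n, hn, hn'⟩ := IsIrr.one_eq_pos y.2
  simp only [Pi.add_apply, Pi.smul_apply, smul_eq_mul, hm', hn'] at h1
  have h2 : a x * m + a y * n = 0 := by exact_mod_cast h1
  rcases (hle x).resolve_left hx with ex | ex <;> rcases (hle y).resolve_left hy with ey | ey
  · exfalso; rw [ex, ey] at h2; omega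
  · exact ⟨x, y, x.2, y.2, Subtype.coe_ne_coe.mpr hxy, by rw [ex, ey]; simp [sub_eq_add_neg]⟩
  · exact ⟨y, x, y.2, x.2, Subtype.coe_ne_coe.mpr hxy.symm, by
      rw [ex, ey]; simp [neg_add_eq_sub]⟩
  · exfalso; rw [ex, ey] at h2; omega

end Cfsg.Agent.Char
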