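import Cfsg.Agent.Lib.Char.Basic

/-!
Decomposition of characters into irreducible ones, completeness of the irreducible characters
among class functions, second orthogonality relation, regular character.
-/

namespace Cfsg.Agent.Char

open scoped ComplexConjugate
open Module Representation Cfsg

universe u v w

variable {G : Type u} [Group G]

theorem trace_eq_add_of_isCompl {V : Type v} [AddCommGroup V] [Module ℂ V]
    [FiniteDimensional ℂ V] {p q : Submodule ℂ V} (h : IsCompl p q) (f : V →ₗ[ℂ] V)
    (hp : ∀ x ∈ p, f x ∈ p) (hq : ∀ x ∈ q, f x ∈ q) :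
    LinearMap.trace ℂ V f =
      LinearMap.trace ℂ p (f.restrict hp) + LinearMap.trace ℂ q (f.restrict hq) := by
  let e := Submodule.prodEquivOfIsCompl p q h
  have he : f = e.conj ((f.restrict hp).prodMap (f.restrict hq)) := by
    refine LinearMap.ext fun x => ?_
    obtain ⟨y, rfl⟩ := e.surjective x
    rw [LinearEquiv.conj_apply_apply, LinearEquiv.symm_apply_apply]
    simp [e, Submodule.coe_prodEquivOfIsCompl]
  conv_lhs => rw [he]
  rw [LinearMap.trace_conj', LinearMap.trace_prodMap']

/-- Induction on subrepresentations: split off a complement. -/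
theorem exists_split [Finite G] {V : Type v} [AddCommGroup V] [Module ℂ V] [FiniteDimensional ℂ V]
    (ρ : Representation ℂ G V) :
    finrank ℂ V = 0 ∨ ρ.IsIrreducible ∨ ∃ S T : Subrepresentation ρ,
      IsCompl S.toSubmodule T.toSubmodule ∧ finrank ℂ S.toSubmodule < finrank ℂ V ∧
        finrank ℂ T.toSubmodule < finrank ℂ V ∧
        ρ.character = S.toRepresentation.character + T.toRepresentation.character := by
  by_cases h0 : finrank ℂ V = 0
  · exact .inl h0
  by_cases hirr : ρ.IsIrreducible
  · exact .inr (.inl hirr)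
  refine .inr (.inr ?_)
  haveI : Nontrivial V := Module.nontrivial_of_finrank_pos (R := ℂ) (Nat.pos_of_ne_zero h0)
  haveI : Nontrivial (Subrepresentation ρ) := ⟨⟨⊥, ⊤, fun h =>
    bot_ne_top (α := Submodule ℂ V) (congrArg Subrepresentation.toSubmodule h)⟩⟩
  have hne : ∃ S : Subrepresentation ρ, S ≠ ⊥ ∧ S ≠ ⊤ := by
    by_contra h
    push Not at h
    exact hirr ⟨fun S => or_iff_not_imp_left.mpr (h S)⟩
  obtain ⟨S, hS0, hS1⟩ := hne
  haveI : NeZero (Nat.card G : ℂ) := ⟨Nat.cast_ne_zero.mpr Nat.card_pos.ne'⟩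
  obtain ⟨T, hT⟩ := exists_isCompl S
  have hcompl : IsCompl S.toSubmodule T.toSubmodule :=
    ⟨disjoint_iff.mpr (congrArg Subrepresentation.toSubmodule hT.inf_eq_bot),
      codisjoint_iff.mpr (congrArg Subrepresentation.toSubmodule hT.sup_eq_top)⟩
  have hsum := Submodule.finrank_add_eq_of_isCompl hcompl
  have hS0' : 0 < finrank ℂ S.toSubmodule := Submodule.one_le_finrank_iff.mpr fun h =>
    hS0 (Subrepresentation.toSubmodule_injective h)
  have hS1' : finrank ℂ S.toSubmodule < finrank ℂ V := Submodule.finrank_lt fun h =>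
    hS1 (Subrepresentation.toSubmodule_injective h)
  have hT0 : 0 < finrank ℂ T.toSubmodule := by omega
  exact ⟨S, T, hcompl, hS1', by omega, funext fun g => trace_eq_add_of_isCompl hcompl (ρ g)
    (fun _ hx => S.apply_mem_toSubmodule g hx) (fun _ hx => T.apply_mem_toSubmodule g hx)⟩

variable [Finite G]

theorem IsChar.exists_decomp {χ : G → ℂ} (h : IsCharacter G χ) :
    ∃ a : IrrCharacter G → ℕ, χ = ∑ ψ : IrrCharacter G, (a ψ : ℂ) • (ψ : G → ℂ) := by
  classical
  obtain ⟨n, ρ, rfl⟩ := h
  suffices H : ∀ (d : ℕ) (V : Type) [AddCommGroup V] [Module ℂ V] [FiniteDimensional ℂ V]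
      (ρ : Representation ℂ G V), finrank ℂ V = d →
      ∃ a : IrrCharacter G → ℕ, ρ.character = ∑ ψ : IrrCharacter G, (a ψ : ℂ) • (ψ : G → ℂ) from
    H _ _ ρ rfl
  intro d
  induction d using Nat.strong_induction_on with
  | _ d ih =>
    intro V _ _ _ ρ hd
    rcases exists_split ρ with h0 | hirr | ⟨S, T, -, hS, hT, hchar⟩
    · refine ⟨0, funext fun g => ?_⟩
      haveI := Module.finrank_zero_iff.mp h0
      rw [Representation.character, Subsingleton.elim (ρ g) 0, map_zero]
      simp
    · exact ⟨Pi.single ⟨_, isIrrCharacter_character ρ⟩ 1, by simp [Pi.single_apply, ite_smul]⟩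
    · obtain ⟨a, ha⟩ := ih _ (hd ▸ hS) S.toSubmodule S.toRepresentation rfl
      obtain ⟨b, hb⟩ := ih _ (hd ▸ hT) T.toSubmodule T.toRepresentation rfl
      exact ⟨a + b, by simp [hchar, ha, hb, add_smul, Finset.sum_add_distrib]⟩

theorem classInner_sum_irr [Fintype G] (a : IrrCharacter G → ℂ) (ψ : IrrCharacter G) :
    classInner (∑ φ : IrrCharacter G, a φ • (φ : G → ℂ)) ψ = a ψ := by
  classical
  rw [classInner_sum_left, Finset.sum_eq_single ψ (fun φ _ hne => by
    rw [classInner_smul_left, classInner_irr_ne φ.2 ψ.2 (Subtype.coe_ne_coe.mpr hne), mul_zero])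
    (by simp), classInner_smul_left, classInner_self_irr ψ.2, mul_one]

theorem classInner_sum_sum [Fintype G] (a b : IrrCharacter G → ℂ) :
    classInner (∑ φ : IrrCharacter G, a φ • (φ : G → ℂ))
      (∑ φ : IrrCharacter G, b φ • (φ : G → ℂ)) = ∑ φ : IrrCharacter G, a φ * conj (b φ) := by
  rw [classInner_sum_right]
  refine Finset.sum_congr rfl fun φ _ => ?_
  rw [classInner_smul_right, classInner_sum_irr, mul_comm]

/-- A character of norm one is irreducible. -/
theorem IsChar.irr_of_norm_one [Fintype G] {χ : G → ℂ} (h : IsCharacter G χ)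
    (h1 : classInner χ χ = 1) : IsIrrCharacter G χ := by
  classical
  obtain ⟨a, rfl⟩ := IsChar.exists_decomp h
  rw [classInner_sum_sum] at h1
  have h2 : ∑ φ : IrrCharacter G, a φ ^ 2 = 1 := by
    have : ((∑ φ : IrrCharacter G, a φ ^ 2 : ℕ) : ℂ) = 1 := by simpa [sq] using h1
    exact_mod_cast this
  obtain ⟨φ, hφ⟩ : ∃ φ, a φ ≠ 0 := by
    by_contra hc
    push Not at hc
    simp [hc] at h2
  have hz : ∀ ψ, ψ ≠ φ → a ψ = 0 ∧ a φ = 1 := by
    intro ψ hne
    have := Finset.sum_le_sum_of_subset (f := fun x => a x ^ 2) (Finset.subset_univ {φ, ψ})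
    rw [Finset.sum_pair hne.symm, h2] at this
    have : 1 ≤ a φ := Nat.pos_of_ne_zero hφ
    constructor <;> nlinarith
  have hφ1 : a φ = 1 := by
    have := Finset.single_le_sum (f := fun x => a x ^ 2) (fun x _ => Nat.zero_le _)
      (Finset.mem_univ φ)
    rw [h2] at this
    have : 1 ≤ a φ := Nat.pos_of_ne_zero hφ
    nlinarith
  rw [Finset.sum_eq_single φ (fun ψ _ hne => by simp [(hz ψ hne).1]) (by simp), hφ1]
  simpa using φ.2

theorem IsIrr.conj {χ : G → ℂ} (h : IsIrrCharacter G χ) :
    IsIrrCharacter G (fun g => (starRingEnd ℂ) (χ g)) := by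
  haveI := Fintype.ofFinite G
  refine IsChar.irr_of_norm_one (IsChar.conj (IsIrr.isCharacter h)) ?_
  have h1 := classInner_self_irr h
  simp only [classInner, Complex.conj_conj, mul_comm (χ _)] at h1 ⊢
  exact h1

theorem IsIrr.mul_linear {χ : G → ℂ} (h : IsIrrCharacter G χ) (l : G →* ℂˣ) :
    IsIrrCharacter G (fun g => (l g : ℂ) * χ g) := by
  haveI := Fintype.ofFinite G
  refine IsChar.irr_of_norm_one
    (IsChar.mul (IsIrr.isCharacter (isIrr_linear l)) (IsIrr.isCharacter h)) ?_
  refine Eq.trans ?_ (classInner_self_irr h)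
  simp only [classInner]
  congr 1
  refine Finset.sum_congr rfl fun g _ => ?_
  have hl : (l g : ℂ) * (starRingEnd ℂ) (l g : ℂ) = 1 := by
    rw [Complex.mul_conj, Complex.normSq_eq_norm_sq,
      norm_eq_one_of_pow_eq_one' (c := (l g : ℂ)) Nat.card_pos
        (by rw [← Units.val_pow_eq_pow_val, ← map_pow, pow_card_eq_one', map_one, Units.val_one])]
    simp
  rw [map_mul, mul_mul_mul_comm, hl, one_mul]

/-- Multiplying back a scalar: Schur's lemma for class-function weighted sums. -/
theorem schur_scalar {V : Type v} [AddCommGroup V] [Module ℂ V] [FiniteDimensional ℂ V]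
    (ρ : Representation ℂ G V) [ρ.IsIrreducible] (T : V →ₗ[ℂ] V)
    (hT : ∀ g, T ∘ₗ ρ g = ρ g ∘ₗ T) : ∃ c : ℂ, T = c • LinearMap.id := by
  obtain ⟨c, hc⟩ := (IsIrreducible.algebraMap_intertwiningMap_bijective_of_isAlgClosed).2 (⟨T, hT⟩ : IntertwiningMap ρ ρ)
  refine ⟨c, ?_⟩
  have h2 := congrArg IntertwiningMap.toLinearMap hc
  exact h2.symm

/-- A class function orthogonal to all irreducible characters kills every representation. -/
theorem sum_smul_rep_eq_zero [Fintype G] {f : G → ℂ} (hf : IsClassFunction G f)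
    (horth : ∀ χ, IsIrrCharacter G χ → classInner f χ = 0)
    {V : Type v} [AddCommGroup V] [Module ℂ V] [FiniteDimensional ℂ V]
    (ρ : Representation ℂ G V) : ∑ g : G, f g • ρ g = 0 := by
  suffices H : ∀ (d : ℕ) (V : Type v) [AddCommGroup V] [Module ℂ V] [FiniteDimensional ℂ V]
      (ρ : Representation ℂ G V), finrank ℂ V = d → ∑ g : G, f g • ρ g = 0 from H _ _ ρ rfl
  intro d
  induction d using Nat.strong_induction_on with
  | _ d ih =>
    intro V _ _ _ ρ hd
    rcases exists_split ρ with h0 | hirr | ⟨S, T, hc, hS, hT, -⟩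
    · haveI := Module.finrank_zero_iff.mp h0
      exact Subsingleton.elim _ _
    · have hcomm : ∀ x, (∑ g : G, f g • ρ g) ∘ₗ ρ x = ρ x ∘ₗ (∑ g : G, f g • ρ g) := by
        intro x
        refine LinearMap.ext fun v => ?_
        simp only [LinearMap.comp_apply, LinearMap.sum_apply, LinearMap.smul_apply, map_sum,
          map_smul, ← Module.End.mul_apply, ← map_mul]
        refine (Fintype.sum_equiv (MulAut.conj x).toEquiv _ _ fun g => ?_).symm
        simp [hf g x]
      obtain ⟨c, hc⟩ := schur_scalar ρ _ hcomm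
      have htr := congrArg (LinearMap.trace ℂ V) hc
      rw [map_sum, map_smul, LinearMap.trace_id] at htr
      simp only [map_smul, smul_eq_mul] at htr
      have h1 := horth _ (IsIrr.conj (isIrrCharacter_character ρ))
      simp only [classInner, Complex.conj_conj, mul_eq_zero, inv_eq_zero, Nat.cast_eq_zero,
        Nat.card_pos.ne', false_or] at h1
      have hc0 : c = 0 := (mul_eq_zero.mp (htr.symm.trans h1)).resolve_right
        (Nat.cast_ne_zero.mpr (finrank_pos_of_irreducible ρ).ne')
      rw [hc, hc0, zero_smul]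
    · refine LinearMap.ext fun v => ?_
      obtain ⟨⟨a, b⟩, rfl⟩ :=
        (Submodule.prodEquivOfIsCompl S.toSubmodule T.toSubmodule hc).surjective v
      have key : ∀ (U : Subrepresentation ρ), finrank ℂ U.toSubmodule < finrank ℂ V →
          ∀ y : U.toSubmodule, (∑ g : G, f g • ρ g) (y : V) = 0 := by
        intro U hU y
        have h3 := congrArg Subtype.val
          (LinearMap.congr_fun (ih _ (hd ▸ hU) U.toSubmodule U.toRepresentation rfl) y)
        simp only [LinearMap.sum_apply, LinearMap.smul_apply, Submodule.coe_sum,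
          Submodule.coe_smul, LinearMap.zero_apply, Submodule.coe_zero] at h3
        simp only [LinearMap.sum_apply, LinearMap.smul_apply]
        exact h3
      rw [Submodule.coe_prodEquivOfIsCompl', map_add, key S hS a, key T hT b, add_zero,
        LinearMap.zero_apply]

/-- The regular representation on functions. -/
noncomputable def regRep (G : Type u) [Group G] : Representation ℂ G (G → ℂ) where
  toFun g := LinearMap.funLeft ℂ ℂ fun x => g⁻¹ * x
  map_one' := LinearMap.ext fun φ => funext fun x => by simp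
  map_mul' a b := LinearMap.ext fun φ => funext fun x => by simp [mul_assoc]

theorem eq_zero_of_orth_irr [Fintype G] {f : G → ℂ} (hf : IsClassFunction G f)
    (horth : ∀ χ, IsIrrCharacter G χ → classInner f χ = 0) : f = 0 := by
  classical
  funext a
  have h := congrFun (LinearMap.congr_fun (sum_smul_rep_eq_zero hf horth (regRep G))
    (Pi.single (1 : G) (1 : ℂ))) a
  simp only [LinearMap.sum_apply, LinearMap.smul_apply, Finset.sum_apply, Pi.smul_apply] at h
  simp only [regRep] at h
  simpa [Pi.single_apply, inv_mul_eq_one] using h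

omit [Finite G] in
theorem classFunction_add {f g : G → ℂ} (hf : IsClassFunction G f) (hg : IsClassFunction G g) :
    IsClassFunction G (f + g) := fun x y => by simp [hf x y, hg x y]

omit [Finite G] in
theorem classFunction_smul {f : G → ℂ} (c : ℂ) (hf : IsClassFunction G f) :
    IsClassFunction G (c • f) := fun x y => by simp [hf x y]

omit [Finite G] in
theorem classFunction_sub {f g : G → ℂ} (hf : IsClassFunction G f) (hg : IsClassFunction G g) :
    IsClassFunction G (f - g) := fun x y => by simp [hf x y, hg x y]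

omit [Finite G] in
theorem classFunction_sum {ι : Type*} {s : Finset ι} {f : ι → G → ℂ}
    (hf : ∀ i ∈ s, IsClassFunction G (f i)) : IsClassFunction G (∑ i ∈ s, f i) :=
  fun x y => by simp only [Finset.sum_apply]; exact Finset.sum_congr rfl fun i hi => hf i hi x y

omit [Finite G] in
theorem IsClass.eq_of_isConj {f : G → ℂ} (hf : IsClassFunction G f) {a b : G} (h : IsConj a b) :
    f a = f b := by
  obtain ⟨c, rfl⟩ := isConj_iff.mp h
  exact (hf a c).symm

theorem classFunction_expansion [Fintype G] {f : G → ℂ} (hf : IsClassFunction G f) :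
    f = ∑ χ : IrrCharacter G, classInner f χ • (χ : G → ℂ) := by
  refine sub_eq_zero.mp (eq_zero_of_orth_irr (classFunction_sub hf
    (classFunction_sum fun χ _ => classFunction_smul _ (IsIrr.classFun χ.2))) fun χ hχ => ?_)
  have h1 := classInner_sum_irr (fun φ : IrrCharacter G => classInner f φ) ⟨χ, hχ⟩
  rw [classInner_sub_left, h1, sub_self]

theorem classFunction_ext [Fintype G] {f g : G → ℂ} (hf : IsClassFunction G f)
    (hg : IsClassFunction G g)
    (h : ∀ χ, IsIrrCharacter G χ → classInner f χ = classInner g χ) : f = g :=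
  sub_eq_zero.mp (eq_zero_of_orth_irr (classFunction_sub hf hg)
    fun χ hχ => by rw [classInner_sub_left, h χ hχ, sub_self])

/-- Criterion: a class function with natural multiplicities is a character. -/
theorem isCharacter_of_classInner_nat [Fintype G] {f : G → ℂ} (hf : IsClassFunction G f)
    (h : ∀ χ, IsIrrCharacter G χ → ∃ n : ℕ, classInner f χ = n) : IsCharacter G f := by
  rw [classFunction_expansion hf]
  refine IsChar.sum fun χ _ => ?_
  obtain ⟨n, hn⟩ := h χ χ.2
  rw [hn]
  exact IsChar.nsmul (IsIrr.isCharacter χ.2) n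

theorem sum_irr_mul_conj (g h : G) :
    (∑ χ : IrrCharacter G, (χ : G → ℂ) g * conj ((χ : G → ℂ) h)) =
      (open Classical in if IsConj g h then
        (Nat.card (Subgroup.centralizer ({h} : Set G)) : ℂ) else 0) := by
  classical
  haveI := Fintype.ofFinite G
  let δ : G → ℂ := fun x => if IsConj x h then 1 else 0
  have hδ : IsClassFunction G δ := fun x y => by
    simp only [δ]
    have : IsConj (y * x * y⁻¹) h ↔ IsConj x h := by
      have hc : IsConj x (y * x * y⁻¹) := isConj_iff.mpr ⟨y, rfl⟩
      exact ⟨fun H => hc.trans H, fun H => hc.symm.trans H⟩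
    rw [if_congr this rfl rfl]
  have hcard : ({x : G | IsConj x h} : Finset G).card =
      (Subgroup.centralizer ({h} : Set G)).index := by
    have h1 := MulAction.index_stabilizer (ConjAct G) h
    rw [ConjAct.stabilizer_eq_centralizer] at h1
    have h2 : MulAction.orbit (ConjAct G) h = {x : G | IsConj x h} := by
      ext x; exact ConjAct.mem_orbit_conjAct
    rw [h2, Set.ncard_eq_toFinset_card', Set.toFinset_setOf] at h1
    exact h1.symm
  have key : ∀ χ : IrrCharacter G, classInner δ χ =
      ((Subgroup.centralizer ({h} : Set G)).index : ℂ) / (Nat.card G : ℂ) *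
        conj ((χ : G → ℂ) h) := by
    intro χ
    have h3 : ∀ x : G, δ x * conj ((χ : G → ℂ) x) =
        if IsConj x h then conj ((χ : G → ℂ) h) else 0 := by
      intro x
      simp only [δ]
      split_ifs with hx
      · rw [one_mul, IsClass.eq_of_isConj (IsIrr.classFun χ.2) hx]
      · rw [zero_mul]
    rw [classInner, Finset.sum_congr rfl fun x _ => h3 x, ← Finset.sum_filter, Finset.sum_const,
      hcard, nsmul_eq_mul]
    ring
  have h4 : δ g = ∑ χ : IrrCharacter G, classInner δ χ * (χ : G → ℂ) g := by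
    simpa using congrFun (classFunction_expansion hδ) g
  have hidx : ((Subgroup.centralizer ({h} : Set G)).index : ℂ) *
      (Nat.card (Subgroup.centralizer ({h} : Set G)) : ℂ) = (Nat.card G : ℂ) := by
    exact_mod_cast Subgroup.index_mul_card _
  have hG : (Nat.card G : ℂ) ≠ 0 := Nat.cast_ne_zero.mpr Nat.card_pos.ne'
  calc ∑ χ : IrrCharacter G, (χ : G → ℂ) g * conj ((χ : G → ℂ) h)
      = (Nat.card (Subgroup.centralizer ({h} : Set G)) : ℂ) * δ g := by
        rw [h4, Finset.mul_sum]
        refine Finset.sum_congr rfl fun χ _ => ?_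
        have h5 : (Nat.card (Subgroup.centralizer ({h} : Set G)) : ℂ) *
            (((Subgroup.centralizer ({h} : Set G)).index : ℂ) / (Nat.card G : ℂ)) = 1 := by
          rw [← mul_div_assoc, mul_comm, hidx, div_self hG]
        rw [key, mul_comm ((χ : G → ℂ) g)]
        calc conj ((χ : G → ℂ) h) * (χ : G → ℂ) g
            = 1 * (conj ((χ : G → ℂ) h) * (χ : G → ℂ) g) := (one_mul _).symm
          _ = _ := by rw [← h5]; ring
    _ = _ := by simp only [δ]; split_ifs <;> simp

/-- The function supported at the identity with value the group order is the regular character. -/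
theorem regular_expansion (g : G) [Decidable (g = 1)] :
    ∑ χ : IrrCharacter G, (χ : G → ℂ) 1 * (χ : G → ℂ) g =
      if g = 1 then (Nat.card G : ℂ) else 0 := by
  classical
  have h := sum_irr_mul_conj g 1
  have h1 : ∀ χ : IrrCharacter G, conj ((χ : G → ℂ) 1) = (χ : G → ℂ) 1 := fun χ => by
    obtain ⟨n, -, hn⟩ := IsIrr.one_eq_pos χ.2
    rw [hn, map_natCast]
  simp only [h1, mul_comm ((_ : IrrCharacter G).1 g)] at h
  have hc : Subgroup.centralizer ({1} : Set G) = ⊤ := eq_top_iff.mpr fun x _ => by
    simp [Subgroup.mem_centralizer_singleton_iff]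
  rw [hc, Subgroup.card_top] at h
  rw [h]
  exact if_congr isConj_one_left rfl rfl

theorem sum_degree_sq :
    ∑ χ : IrrCharacter G, (χ : G → ℂ) 1 ^ 2 = (Nat.card G : ℂ) := by
  classical
  have := regular_expansion (1 : G)
  rw [if_pos rfl] at this
  simpa [sq] using this

theorem isConj_iff_irr (g h : G) :
    IsConj g h ↔ ∀ χ : IrrCharacter G, (χ : G → ℂ) g = (χ : G → ℂ) h := by
  classical
  refine ⟨fun hc χ => IsClass.eq_of_isConj (IsIrr.classFun χ.2) hc, fun H => by_contra fun hn => ?_⟩
  have h1 := sum_irr_mul_conj g h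
  rw [if_neg hn] at h1
  have h2 := sum_irr_mul_conj h h
  rw [if_pos (IsConj.refl h)] at h2
  simp only [H] at h1
  rw [h1] at h2
  exact Nat.card_pos.ne' (Nat.cast_eq_zero.mp h2.symm)

theorem card_irrCharacter : Nat.card (IrrCharacter G) = Nat.card (ConjClasses G) := by
  classical
  haveI := Fintype.ofFinite G
  haveI := Fintype.ofFinite (ConjClasses G)
  let F : IrrCharacter G → ConjClasses G → ℂ := fun χ =>
    Quotient.lift (χ : G → ℂ) fun a b h => IsClass.eq_of_isConj (IsIrr.classFun χ.2) h
  have hli : LinearIndependent ℂ F :=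
    LinearIndependent.of_comp (LinearMap.funLeft ℂ ℂ (ConjClasses.mk : G → ConjClasses G))
      irrCharacter_linearIndependent
  have hspan : ⊤ ≤ Submodule.span ℂ (Set.range F) := by
    intro φ _
    have hf : IsClassFunction G (fun x => φ (ConjClasses.mk x)) := fun a b => by
      show φ _ = φ _
      rw [ConjClasses.mk_eq_mk_iff_isConj.mpr (isConj_iff.mpr ⟨b, rfl⟩ : IsConj a (b * a * b⁻¹))]
    have he : φ = ∑ χ : IrrCharacter G, classInner (fun x => φ (ConjClasses.mk x)) χ • F χ := by
      funext C
      obtain ⟨x, rfl⟩ := C.exists_rep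
      have := congrFun (classFunction_expansion hf) x
      simp only [Finset.sum_apply, Pi.smul_apply] at this ⊢
      exact this
    rw [he]
    exact Submodule.sum_mem _ fun χ _ => Submodule.smul_mem _ _ (Submodule.subset_span ⟨χ, rfl⟩)
  have h1 := Module.finrank_eq_card_basis (Basis.mk hli hspan)
  rw [Module.finrank_pi] at h1
  rw [Nat.card_eq_fintype_card, Nat.card_eq_fintype_card, h1]

end Cfsg.Agent.Char
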