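import Cfsg.Agent.Lib.Char.Complete

/-!
Induction of functions from subgroups; Frobenius reciprocity.
-/

namespace Cfsg.Agent.Char

open scoped ComplexConjugate
open Cfsg

universe u

variable {G : Type u} [Group G]

theorem extendByZero_apply {H : Subgroup G} (θ : H → ℂ) (h : H) :
    extendByZero H θ (h : G) = θ h :=
  Subtype.val_injective.extend_apply θ 0 h

theorem extendByZero_of_mem {H : Subgroup G} (θ : H → ℂ) {g : G} (hg : g ∈ H) :
    extendByZero H θ g = θ ⟨g, hg⟩ :=
  extendByZero_apply θ ⟨g, hg⟩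

theorem extendByZero_not_mem {H : Subgroup G} (θ : H → ℂ) {g : G} (hg : g ∉ H) :
    extendByZero H θ g = 0 :=
  Function.extend_apply' _ _ _ fun ⟨x, hx⟩ => hg (hx ▸ x.2)

variable [Fintype G]

theorem sum_extendByZero_mul (H : Subgroup G) [Fintype H] (θ : H → ℂ) (f : G → ℂ) :
    ∑ g : G, extendByZero H θ g * f g = ∑ h : H, θ h * f h := by
  classical
  rw [← Finset.sum_subset (Finset.subset_univ (Finset.univ.map (Function.Embedding.subtype _)))
    (fun g _ hg => by
      rw [extendByZero_not_mem θ (fun hmem => hg (Finset.mem_map.mpr ⟨⟨g, hmem⟩, Finset.mem_univ _, rfl⟩)),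
        zero_mul]), Finset.sum_map]
  exact Finset.sum_congr rfl fun h _ => by rw [show (Function.Embedding.subtype _ : H ↪ G) h =
    (h : G) from rfl, extendByZero_apply]

theorem indFun_classFun (H : Subgroup G) (θ : H → ℂ) : IsClassFunction G (indFun H θ) := by
  intro g y
  show _ * _ = _ * _
  congr 1
  exact (Fintype.sum_equiv (Equiv.mulLeft y) _ _ fun x => by simp [mul_assoc]).symm

theorem sum_indFun_mul (H : Subgroup G) [Fintype H] (θ : H → ℂ) {f : G → ℂ}
    (hf : IsClassFunction G f) :
    ∑ g : G, indFun H θ g * f g = (H.index : ℂ) * ∑ h : H, θ h * f h := by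
  simp only [indFun, mul_assoc, Finset.sum_mul, ← Finset.mul_sum]
  rw [Finset.sum_comm]
  have h1 : ∀ x : G, ∑ g : G, extendByZero H θ (x⁻¹ * (g * x)) * f g = ∑ h : H, θ h * f h := by
    intro x
    rw [← sum_extendByZero_mul H θ f]
    refine Fintype.sum_equiv (MulAut.conj x⁻¹).toEquiv _ _ fun g => ?_
    have : f (x⁻¹ * g * x) = f g := by simpa using hf g x⁻¹
    simp [mul_assoc] at this ⊢
    exact .inl this.symm
  rw [Finset.sum_congr rfl fun x _ => h1 x, Finset.sum_const, Finset.card_univ,
    ← Nat.card_eq_fintype_card, nsmul_eq_mul, ← mul_assoc]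
  congr 1
  have h2 : (H.index : ℂ) * (Nat.card H : ℂ) = (Nat.card G : ℂ) := by
    exact_mod_cast H.index_mul_card
  rw [← h2, mul_comm (H.index : ℂ), ← mul_assoc,
    inv_mul_cancel₀ (Nat.cast_ne_zero.mpr Nat.card_pos.ne'), one_mul]

/-- Frobenius reciprocity. -/
theorem classInner_indFun (H : Subgroup G) [Fintype H] (θ : H → ℂ) {χ : G → ℂ}
    (hχ : IsClassFunction G χ) :
    classInner (indFun H θ) χ = classInner θ (fun h : H => χ h) := by
  have hc : IsClassFunction G (fun g => conj (χ g)) := fun a b => by simp only [hχ a b]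
  simp only [classInner]
  rw [sum_indFun_mul H θ hc, ← mul_assoc]
  congr 1
  have h2 : (H.index : ℂ) * (Nat.card H : ℂ) = (Nat.card G : ℂ) := by
    exact_mod_cast H.index_mul_card
  have hi : (H.index : ℂ) ≠ 0 := Nat.cast_ne_zero.mpr Subgroup.index_ne_zero_of_finite
  rw [← h2, mul_inv, mul_right_comm, inv_mul_cancel₀ hi, one_mul]

theorem classInner_indFun_right (H : Subgroup G) [Fintype H] (θ : H → ℂ) {χ : G → ℂ}
    (hχ : IsClassFunction G χ) :
    classInner χ (indFun H θ) = classInner (fun h : H => χ h) θ := by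
  rw [← classInner_conj_symm, classInner_indFun H θ hχ, classInner_conj_symm]

theorem isCharacter_indFun (H : Subgroup G) {θ : H → ℂ} (hθ : IsCharacter H θ) :
    IsCharacter G (indFun H θ) := by
  haveI := Fintype.ofFinite H
  refine isCharacter_of_classInner_nat (indFun_classFun H θ) fun χ hχ => ?_
  rw [classInner_indFun H θ (IsIrr.classFun hχ)]
  exact IsChar.classInner_nat hθ (IsChar.res (IsIrr.isCharacter hχ) H)

theorem indFun_one_eq (H : Subgroup G) (θ : H → ℂ) :
    indFun H θ 1 = (H.index : ℂ) * θ 1 := by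
  have h : ∀ x : G, extendByZero H θ (x⁻¹ * 1 * x) = θ 1 := fun x => by
    rw [mul_one, inv_mul_cancel]; exact extendByZero_apply θ 1
  simp only [indFun, h, Finset.sum_const, Finset.card_univ, ← Nat.card_eq_fintype_card,
    nsmul_eq_mul]
  have h2 : (H.index : ℂ) * (Nat.card H : ℂ) = (Nat.card G : ℂ) := by
    exact_mod_cast H.index_mul_card
  rw [← h2, ← mul_assoc, mul_comm (H.index : ℂ), ← mul_assoc,
    inv_mul_cancel₀ (Nat.cast_ne_zero.mpr Nat.card_pos.ne'), one_mul]

theorem indFun_add (H : Subgroup G) (θ φ : H → ℂ) :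
    indFun H (θ + φ) = indFun H θ + indFun H φ := by
  funext g
  have h : ∀ y : G, extendByZero H (θ + φ) y = extendByZero H θ y + extendByZero H φ y := by
    intro y
    by_cases hy : y ∈ H
    · simp [extendByZero_of_mem _ hy]
    · simp [extendByZero_not_mem _ hy]
  simp [indFun, h, Finset.sum_add_distrib, mul_add]

theorem indFun_smul (H : Subgroup G) (c : ℂ) (θ : H → ℂ) :
    indFun H (c • θ) = c • indFun H θ := by
  funext g
  have h : ∀ y : G, extendByZero H (c • θ) y = c * extendByZero H θ y := by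
    intro y
    by_cases hy : y ∈ H
    · simp [extendByZero_of_mem _ hy]
    · simp [extendByZero_not_mem _ hy]
  simp only [indFun, h, ← Finset.mul_sum, Pi.smul_apply, smul_eq_mul]
  ring

theorem indFun_zero (H : Subgroup G) : indFun H (0 : H → ℂ) = 0 := by
  simpa using indFun_smul H 0 (0 : H → ℂ)

theorem indFun_sub (H : Subgroup G) (θ φ : H → ℂ) :
    indFun H (θ - φ) = indFun H θ - indFun H φ :=
  eq_sub_of_add_eq (by rw [← indFun_add, sub_add_cancel])

theorem indFun_sum (H : Subgroup G) {ι : Type*} (s : Finset ι) (f : ι → H → ℂ) :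
    indFun H (∑ i ∈ s, f i) = ∑ i ∈ s, indFun H (f i) := by
  classical
  induction s using Finset.induction with
  | empty => simp [indFun_zero]
  | insert a s ha ih => rw [Finset.sum_insert ha, Finset.sum_insert ha, indFun_add, ih]

theorem indFun_conj (H : Subgroup G) (θ : H → ℂ) (g : G) :
    indFun H (fun h => conj (θ h)) g = conj (indFun H θ g) := by
  have h : ∀ y : G, extendByZero H (fun h => conj (θ h)) y = conj (extendByZero H θ y) := by
    intro y
    by_cases hy : y ∈ H
    · simp [extendByZero_of_mem _ hy]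
    · simp [extendByZero_not_mem _ hy]
  simp [indFun, h]

theorem indFun_eq_zero_of_not_conj (H : Subgroup G) (θ : H → ℂ) {g : G}
    (hg : ∀ (x : G) (hx : x⁻¹ * g * x ∈ H), θ ⟨x⁻¹ * g * x, hx⟩ = 0) : indFun H θ g = 0 := by
  have h : ∀ x : G, extendByZero H θ (x⁻¹ * g * x) = 0 := fun x => by
    by_cases hx : x⁻¹ * g * x ∈ H
    · rw [extendByZero_of_mem _ hx]; exact hg x hx
    · exact extendByZero_not_mem _ hx
  simp [indFun, h]

end Cfsg.Agent.Char
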