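import Cfsg.Agent.Lib.Char.PairBlock

/-!
The Brauer correspondence over a subgroup containing the normalizer.
-/

namespace Cfsg.Agent.Char.BP

open Cfsg.Agent.Block

set_option linter.unusedSectionVars false
set_option linter.style.haveILetI false

universe u

variable {G : Type u} [Group G] [Fintype G] {p : ℕ} {M : Ideal AlgInt}

theorem mem_cg_subgroupOf {P H : Subgroup G} (hPH : P ≤ H) (c : H) :
    c ∈ CG (P.subgroupOf H) ↔ (c : G) ∈ CG P := by
  rw [Subgroup.mem_centralizer_iff, Subgroup.mem_centralizer_iff]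
  constructor
  · intro h u hu
    exact congrArg Subtype.val (h ⟨u, hPH hu⟩ (Subgroup.mem_subgroupOf.2 hu))
  · intro h v hv
    exact Subtype.ext (h (v : G) (Subgroup.mem_subgroupOf.1 hv))

/-- The centralizer computed inside an overgroup. -/
def cgSub {P H : Subgroup G} (hPH : P ≤ H) (hC : CG P ≤ H) : CG (P.subgroupOf H) ≃* CG P where
  toFun c := ⟨((c : H) : G), (mem_cg_subgroupOf hPH _).1 c.2⟩
  invFun c := ⟨⟨(c : G), hC c.2⟩, (mem_cg_subgroupOf hPH _).2 c.2⟩
  left_inv _ := rfl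
  right_inv _ := rfl
  map_mul' _ _ := rfl

/-- A pair at `P` read inside an overgroup. -/
noncomputable def idxDown {P H : Subgroup G} (hPH : P ≤ H) (hC : CG P ≤ H)
    (f : Set (IrrCharacter (CG P))) : BrauerPairIdx H :=
  ⟨P.subgroupOf H, pullB (cgSub hPH hC).symm f⟩

theorem be_idxDown [DecidableEq G] {P H : Subgroup G} [Fintype H] (hPH : P ≤ H) (hC : CG P ≤ H)
    (f : Set (IrrCharacter (CG P))) : be (idxDown hPH hC f) = res H (bc (CG P) f) := by
  funext h
  by_cases hh : (h : G) ∈ CG P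
  · have hh' : h ∈ CG (P.subgroupOf H) := (mem_cg_subgroupOf hPH h).2 hh
    have h1 := blockCoeff_pullB (cgSub hPH hC).symm f ⟨(h : G), hh⟩
    rw [← bc_coe, ← bc_coe] at h1
    exact h1
  · have hh' : h ∉ CG (P.subgroupOf H) := fun h' => hh ((mem_cg_subgroupOf hPH h).1 h')
    rw [res_apply, bc_supp _ _ _ hh]
    exact bc_supp (CG (P.subgroupOf H)) _ h hh'

theorem holds_idxDown {P H : Subgroup G} [Fintype H] (hPH : P ≤ H) (hC : CG P ≤ H)
    (f : Set (IrrCharacter (CG P))) (φ : G → ℂ) :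
    Holds M (idxDown hPH hC f) (res H φ) ↔ Holds M (⟨P, f⟩ : BrauerPairIdx G) φ :=
  holds_pullB (cgSub hPH hC).symm (fun _ => rfl) f

theorem isPr_idxDown (hM : IsPModular p M) {P H : Subgroup G} [Fintype H] (hPH : P ≤ H)
    (hC : CG P ≤ H) {f : Set (IrrCharacter (CG P))} (hP : IsPGroup p P) (hf : IsPBlock M f) :
    IsPr p M (idxDown hPH hC f) :=
  ⟨hP.comap_subtype, isPBlock_pullB hM _ hf⟩

theorem mem_normalizer_subgroupOf {P H : Subgroup G} (hPH : P ≤ H) {v : H} :
    v ∈ Subgroup.normalizer ((P.subgroupOf H : Subgroup H) : Set H) ↔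
      (v : G) ∈ Subgroup.normalizer (P : Set G) := by
  constructor
  · intro hv
    refine Subgroup.mem_normalizer_iff.2 fun g => ?_
    by_cases hg : g ∈ H
    · have := Subgroup.mem_normalizer_iff.1 hv ⟨g, hg⟩
      simpa [Subgroup.mem_subgroupOf] using this
    · refine iff_of_false (fun h => hg (hPH h)) fun h => hg ?_
      simpa [mul_assoc] using mul_mem (mul_mem (inv_mem v.2) (hPH h)) v.2
  · intro hv
    refine Subgroup.mem_normalizer_iff.2 fun g => ?_
    simpa [Subgroup.mem_subgroupOf] using Subgroup.mem_normalizer_iff.1 hv (g : G)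

theorem noExt_sub_iff {P H : Subgroup G} [Fintype H] (hN : Subgroup.normalizer (P : Set G) ≤ H)
    {φ : G → ℂ} (hφ : Supp (CG P) φ) :
    NoExt p M (P.subgroupOf H) (res H φ) ↔ NoExt p M P φ := by
  have hPH : P ≤ H := Subgroup.le_normalizer.trans hN
  have hCH : CG P ≤ H := (cg_le_normalizer P).trans hN
  constructor
  · intro h R hR hle hRN hi hne
    have hRH : R ≤ H := hRN.trans hN
    have h1 := h (R.subgroupOf H) hR.comap_subtype
      (fun v hv => Subgroup.mem_subgroupOf.2 (hle (Subgroup.mem_subgroupOf.1 hv)))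
      (fun v hv => (mem_normalizer_subgroupOf hPH).2 (hRN (Subgroup.mem_subgroupOf.1 hv)))
      (fun u hu g => hi (u : G) (Subgroup.mem_subgroupOf.1 hu) (g : G))
      (by
        obtain ⟨c, hc, hne⟩ := hne
        exact ⟨⟨c, hCH (Subgroup.centralizer_le hle hc)⟩, (mem_cg_subgroupOf hRH _).2 hc, hne⟩)
    rw [← Subgroup.map_subgroupOf_eq_of_le hRH, h1, Subgroup.map_subgroupOf_eq_of_le hPH]
  · intro h R hR hle hRN hi hne
    have hPR : P ≤ R.map H.subtype := by
      rw [← Subgroup.map_subgroupOf_eq_of_le hPH]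
      exact Subgroup.map_mono hle
    have h1 := h (R.map H.subtype) (hR.map _) hPR
      (by
        rintro _ ⟨v, hv, rfl⟩
        exact (mem_normalizer_subgroupOf hPH).1 (hRN hv))
      (by
        rintro _ ⟨v, hv, rfl⟩ g
        by_cases hg : g ∈ H
        · exact hi v hv ⟨g, hg⟩
        · show φ ((v : G) * g * (v : G)⁻¹) = φ g
          rw [hφ g fun hh => hg (hCH hh), hφ _ fun hh => hg ?_]
          simpa [mul_assoc] using mul_mem (mul_mem (inv_mem v.2) (hCH hh)) v.2)
      (by
        obtain ⟨c, hc, hne⟩ := hne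
        refine ⟨(c : G), ?_, hne⟩
        rw [Subgroup.mem_centralizer_iff]
        rintro _ ⟨v, hv, rfl⟩
        exact congrArg Subtype.val (Subgroup.mem_centralizer_iff.1 hc v hv))
    refine Subgroup.map_injective H.subtype_injective ?_
    rw [h1, Subgroup.map_subgroupOf_eq_of_le hPH]

theorem defect_iff_noExt (hM : IsPModular p M) {B : Set (IrrCharacter G)} {x : BrauerPairIdx G}
    (h : OfB p M B x) : IsDefectGroup p M B x.1 ↔ NoExt p M x.1 (be x) :=
  ⟨fun hD => (max_iff hM h).1 (max_of_defect hM h hD),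
    fun hno => defect_of_max hM ((max_iff hM h).2 hno)⟩

theorem holds_congr_iff (hM : IsPModular p M) {P : Subgroup G} (hP : IsPGroup p P) {a b : G → ℂ}
    (ha : Idem M a) (hb : Idem M b) (hai : Inv P a) (hbi : Inv P b) (haC : Inv (CG P) a)
    (hbC : Inv (CG P) b)
    (h : ∀ f, IsPBlock M f → (Holds M (⟨P, f⟩ : BrauerPairIdx G) a ↔
      Holds M (⟨P, f⟩ : BrauerPairIdx G) b)) {c : G} (hc : c ∈ CG P) :
    MemLocalIdeal M (a c - b c) := by
  letI := Fintype.ofFinite (CG P)
  have hv : ∀ ξ, MemLocalIdeal M (val P a ξ - val P b ξ) := by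
    intro ξ
    have hx : IsPr p M (⟨P, blockOf M (ξ : CG P → ℂ)⟩ : BrauerPairIdx G) :=
      ⟨hP, isPBlock_blockOf ξ⟩
    have hξ := mem_blockOf_self hM ξ
    rcases holds_or hM hx ha hai haC with h1 | h1
    · have h2 := (h _ hx.2).1 h1
      simpa using ideal_sub hM (h1 ξ hξ) (h2 ξ hξ)
    · rcases holds_or hM hx hb hbi hbC with h2 | h2
      · exact absurd h1 fun h1 => holds_not_ideal hM hx ((h _ hx.2).2 h2) h1
      · exact ideal_sub hM (h1 ξ hξ) (h2 ξ hξ)
  have h1 := idem_congr hM (cenInt_val ha.1 haC) (cenInt_val hb.1 hbC)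
    (val_idem hM hP ha hai haC) (val_idem hM hP hb hbi hbC) hv ⟨c, hc⟩
  rw [coeffFun_sub, coeff_val haC, coeff_val hbC] at h1
  exact h1

/-- The common facts about a pair at `P` lying over a block of the overgroup. -/
theorem corr_core (hM : IsPModular p M) {P H : Subgroup G} [Fintype H] (hP : IsPGroup p P)
    (hN : Subgroup.normalizer (P : Set G) ≤ H) {B : Set (IrrCharacter G)}
    {c : Set (IrrCharacter H)} (hc : IsPBlock M c) {f : Set (IrrCharacter (CG P))}
    (hB : OfB p M B (⟨P, f⟩ : BrauerPairIdx G))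
    (hH : Holds M (⟨P, f⟩ : BrauerPairIdx G) (bc H c)) :
    (IsDefectGroup p M B P ↔ IsDefectGroup p M c (P.subgroupOf H)) ∧
    (IsDefectGroup p M B P → ∀ x ∈ CG P, MemLocalIdeal M (blockCoeff B x - bc H c x)) := by
  classical
  have hPH : P ≤ H := Subgroup.le_normalizer.trans hN
  have hCH : CG P ≤ H := (cg_le_normalizer P).trans hN
  have hdown : ∀ f', IsPBlock M f' → Holds M (⟨P, f'⟩ : BrauerPairIdx G) (bc H c) →
      OfB p M c (idxDown hPH hCH f') := fun f' hf' h => by
    refine ofB_of_holds hc (isPr_idxDown hM hPH hCH hP hf') ?_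
    rw [← bc_res H c]
    exact (holds_idxDown hPH hCH f' _).2 h
  have hiff : IsDefectGroup p M B P ↔ IsDefectGroup p M c (P.subgroupOf H) := by
    refine (defect_iff_noExt hM hB).trans (Iff.trans ?_
      (defect_iff_noExt hM (hdown f hB.1.2 hH)).symm)
    rw [be_idxDown hPH hCH f]
    exact (noExt_sub_iff hN (bc_supp _ _)).symm
  refine ⟨hiff, fun hD x hx => holds_congr_iff hM hP (blockCoeff_idem hM hB.2.1) (bc_idem hM hc)
    (inv_of_classFun (blockCoeff_classFun B) _) ((bc_inv_self H c).mono hPH)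
    (inv_of_classFun (blockCoeff_classFun B) _) ((bc_inv_self H c).mono hCH)
    (fun f' hf' => ⟨fun h => ?_, fun h => ?_⟩) hx⟩
  · have hB' : OfB p M B (⟨P, f'⟩ : BrauerPairIdx G) := ofB_of_holds hB.2.1 ⟨hP, hf'⟩ h
    obtain ⟨n, hn, hnf⟩ := max_conj_normalizer hM (max_of_defect hM hB hD)
      (max_of_defect hM hB' hD) rfl
    rw [hnf, show bc H c = cfun n (bc H c) from
      ((inv_iff_cfun.1 (bc_inv_self H c)) n (hN hn)).symm]
    exact (holds_cjI n _ _).2 hH
  · have h1 := max_of_defect hM (hdown f hB.1.2 hH) (hiff.1 hD)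
    have h2 := max_of_defect hM (hdown f' hf' h) (hiff.1 hD)
    obtain ⟨n, hn, hnf⟩ := max_conj_normalizer hM h1 h2 rfl
    have hn' : (n : G) ∈ Subgroup.normalizer (P : Set G) := (mem_normalizer_subgroupOf hPH).1 hn
    have heq : (⟨P, f'⟩ : BrauerPairIdx G) = cjI (n : G) (⟨P, f⟩ : BrauerPairIdx G) := by
      refine idx_ext (map_conj_eq_of_normalizer hn').symm ?_
      have h3 := congrArg be hnf
      rw [be_cjI, be_idxDown, be_idxDown] at h3
      rw [be_cjI]
      funext g
      by_cases hg : g ∈ H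
      · exact congrFun h3 ⟨g, hg⟩
      · show bc (CG P) f' g = bc (CG P) f ((n : G)⁻¹ * g * (n : G))
        rw [bc_supp _ _ g fun hh => hg (hCH hh), bc_supp _ _ _ fun hh => hg ?_]
        simpa [mul_assoc] using mul_mem (mul_mem n.2 (hCH hh)) (inv_mem n.2)
    rw [heq]
    exact (holds_cjI_classFun (n : G) _ (blockCoeff_classFun B)).2 hB.2.2

/-- The Brauer correspondence over a subgroup containing the normalizer. -/
theorem corr_over (hM : IsPModular p M) {P H : Subgroup G} [Fintype H] (hP : IsPGroup p P)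
    (hN : Subgroup.normalizer (P : Set G) ≤ H) :
    (∀ B : Set (IrrCharacter G), IsPBlock M B → IsDefectGroup p M B P →
      ∃! c : Set (IrrCharacter H), IsPBlock M c ∧ IsDefectGroup p M c (P.subgroupOf H) ∧
        ∀ x : G, x ∈ CG P → MemLocalIdeal M (blockCoeff B x - bc H c x)) ∧
    (∀ c : Set (IrrCharacter H), IsPBlock M c → IsDefectGroup p M c (P.subgroupOf H) →
      ∃! B : Set (IrrCharacter G), IsPBlock M B ∧ IsDefectGroup p M B P ∧
        ∀ x : G, x ∈ CG P → MemLocalIdeal M (blockCoeff B x - bc H c x)) := by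
  classical
  have hPH : P ≤ H := Subgroup.le_normalizer.trans hN
  have hCH : CG P ≤ H := (cg_le_normalizer P).trans hN
  constructor
  · intro B hB hD
    obtain ⟨f, hf⟩ := (exists_pair_iff hM hB hP).2 (defectGroup_not_brZero hM hB hD)
    obtain ⟨c, hc, hci, hH⟩ := exists_holds_block hM (x := ⟨P, f⟩) hf.1 hCH
      (hPH.trans Subgroup.le_normalizer)
    obtain ⟨hiff, hcong⟩ := corr_core hM hP hN hc hf hH
    refine ⟨c, ⟨hc, hiff.1 hD, hcong hD⟩, ?_⟩
    rintro c' ⟨hc', -, hcong'⟩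
    have hH' : Holds M (⟨P, f⟩ : BrauerPairIdx G) (bc H c') :=
      holds_congr hM (inv_of_classFun (blockCoeff_classFun B) _) ((bc_inv_self H c').mono hCH)
        hcong' hf.2.2
    exact holds_block_unique hM (x := ⟨P, f⟩) hf.1 hCH hc' hc ((bc_inv_self H c').mono hPH) hci
      hH' hH
  · intro c hc hD
    obtain ⟨f', hf'⟩ := (exists_pair_iff hM hc (hP.comap_subtype (K := H))).2
      (defectGroup_not_brZero hM hc hD)
    set f := pullB (cgSub hPH hCH) f' with hfdef
    have hpr : IsPr p M (⟨P, f⟩ : BrauerPairIdx G) := ⟨hP, isPBlock_pullB hM _ hf'.1.2⟩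
    have hH : Holds M (⟨P, f⟩ : BrauerPairIdx G) (bc H c) := by
      refine (holds_pullB (cgSub hPH hCH) (fun d => ?_) f').2 hf'.2.2
      exact (bc_coe H c (d : H)).symm
    obtain ⟨B, hB⟩ := exists_ofB hM hpr
    obtain ⟨hiff, hcong⟩ := corr_core hM hP hN hc hB hH
    refine ⟨B, ⟨hB.2.1, hiff.2 hD, hcong (hiff.2 hD)⟩, ?_⟩
    rintro B' ⟨hB', -, hcong'⟩
    refine ofB_unique hM (ofB_of_holds hB' hpr ?_) hB
    exact holds_congr hM ((bc_inv_self H c).mono hCH) (inv_of_classFun (blockCoeff_classFun B') _)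
      (fun x hx => ideal_sub_comm (hcong' x hx)) hH

end Cfsg.Agent.Char.BP
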