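import Cfsg.Agent.Lib.Char.Schur

/-!
Averaging over a normal subgroup; Gallagher's factorisation.
-/

namespace Cfsg.Agent.Char

open scoped ComplexConjugate
open Cfsg

universe u

variable {G : Type u} [Group G] [Fintype G]

theorem eq_of_constituent_degree {χ ψ : G → ℂ} (hχ : IsCharacter G χ) (hψ : IsIrrCharacter G ψ)
    (hne : classInner χ ψ ≠ 0) (h1 : χ 1 = ψ 1) : χ = ψ := by
  classical
  obtain ⟨a, ha, hd⟩ := IsChar.exists_decomp_inner hχ
  choose d hd0 hd' using fun φ : IrrCharacter G => IsIrr.one_eq_pos φ.2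
  have e := congrFun hd 1
  rw [sum_irr_apply, h1, ← Finset.add_sum_erase _ _ (Finset.mem_univ (⟨ψ, hψ⟩ : IrrCharacter G))] at e
  simp only [hd', show ψ 1 = (d ⟨ψ, hψ⟩ : ℂ) from hd' ⟨ψ, hψ⟩] at e
  have e' : d ⟨ψ, hψ⟩ = a ⟨ψ, hψ⟩ * d ⟨ψ, hψ⟩ +
      ∑ φ ∈ Finset.univ.erase (⟨ψ, hψ⟩ : IrrCharacter G), a φ * d φ := by exact_mod_cast e
  have hpos : 1 ≤ a ⟨ψ, hψ⟩ := Nat.pos_of_ne_zero fun h0 => hne (by rw [ha ⟨ψ, hψ⟩, h0, Nat.cast_zero])
  have hge : d ⟨ψ, hψ⟩ ≤ a ⟨ψ, hψ⟩ * d ⟨ψ, hψ⟩ := Nat.le_mul_of_pos_left _ hpos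
  have ha1 : a ⟨ψ, hψ⟩ = 1 := by
    have : a ⟨ψ, hψ⟩ * d ⟨ψ, hψ⟩ = 1 * d ⟨ψ, hψ⟩ := by omega
    exact Nat.eq_of_mul_eq_mul_right (hd0 _) this
  have hz : ∀ φ ∈ Finset.univ.erase (⟨ψ, hψ⟩ : IrrCharacter G), a φ = 0 := fun φ hφ => by
    have := (Finset.sum_eq_zero_iff.mp (by omega :
      ∑ φ ∈ Finset.univ.erase (⟨ψ, hψ⟩ : IrrCharacter G), a φ * d φ = 0)) φ hφ
    exact (mul_eq_zero.mp this).resolve_right (hd0 φ).ne'
  rw [hd, ← Finset.add_sum_erase _ _ (Finset.mem_univ (⟨ψ, hψ⟩ : IrrCharacter G)), ha1,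
    Finset.sum_eq_zero fun φ hφ => by rw [hz φ hφ]; simp]
  simp

variable (N : Subgroup G) [hN : N.Normal] [Fintype N]

/-- The average of a function over the cosets of a normal subgroup. -/
noncomputable def avgN (f : G → ℂ) : G → ℂ :=
  fun g => (Nat.card N : ℂ)⁻¹ * ∑ n : N, f ((n : G) * g)

omit [Fintype G] hN in
theorem avgN_sum {ι : Type*} (s : Finset ι) (f : ι → G → ℂ) :
    avgN N (∑ i ∈ s, f i) = ∑ i ∈ s, avgN N (f i) := by
  funext g
  simp only [avgN, Finset.sum_apply, Finset.mul_sum]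
  exact Finset.sum_comm

omit [Fintype G] hN in
theorem avgN_smul (c : ℂ) (f : G → ℂ) : avgN N (c • f) = c • avgN N f := by
  funext g
  simp [avgN, Finset.mul_sum, mul_left_comm]

omit [Fintype G] hN in
theorem avgN_mul_left (f : G → ℂ) (n : N) (g : G) : avgN N f ((n : G) * g) = avgN N f g := by
  simp only [avgN]
  congr 1
  exact Fintype.sum_equiv (Equiv.mulRight n) _ _ fun m => by simp [mul_assoc]

omit [Fintype G] hN in
theorem avgN_idem (f : G → ℂ) : avgN N (avgN N f) = avgN N f := by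
  funext g
  show (Nat.card N : ℂ)⁻¹ * ∑ n : N, avgN N f ((n : G) * g) = _
  simp only [avgN_mul_left, Finset.sum_const, Finset.card_univ, nsmul_eq_mul,
    ← Nat.card_eq_fintype_card]
  rw [inv_mul_cancel_left₀ (Nat.cast_ne_zero.mpr Nat.card_pos.ne')]

omit hN in
theorem classInner_avgN (f h : G → ℂ) :
    classInner (avgN N f) h = classInner f (avgN N h) := by
  simp only [classInner, avgN, map_mul, map_inv₀, map_natCast, map_sum, Finset.mul_sum,
    Finset.sum_mul]
  rw [Finset.sum_comm]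
  conv_rhs => rw [Finset.sum_comm]
  refine Fintype.sum_equiv (Equiv.inv N) _ _ fun n => ?_
  refine Fintype.sum_equiv (Equiv.mulLeft (n : G)) _ _ fun g => ?_
  simp
  ring

theorem avgN_irr {φ : G → ℂ} (hφ : IsIrrCharacter G φ) :
    (classInner (fun n : N => φ n) (fun _ => 1) = 0 ∧ avgN N φ = 0) ∨
      ((∀ n : N, φ n = φ 1) ∧ avgN N φ = φ) := by
  classical
  let ind : G → ℂ := fun g => if g ∈ N then 1 else 0
  have hind : IsClassFunction G ind := fun g h => by
    have : h * g * h⁻¹ ∈ N ↔ g ∈ N := ⟨fun hm => by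
      simpa [mul_assoc] using hN.conj_mem _ hm h⁻¹, fun hm => hN.conj_mem g hm h⟩
    simp only [ind, this]
  have hsum : ∀ F : G → ℂ, ∑ g : G, ind g * F g = ∑ n : N, F n := fun F => by
    have he : ind = extendByZero N (fun _ => (1 : ℂ)) := funext fun g => by
      by_cases hg : g ∈ N
      · simp [ind, hg, extendByZero_of_mem _ hg]
      · simp [ind, hg, extendByZero_not_mem _ hg]
    rw [he, sum_extendByZero_mul N (fun _ => (1 : ℂ)) F]
    simp
  have h1 : ∀ g, ∑ n : N, φ ((n : G) * g) = (∑ n : N, φ n) / φ 1 * φ g := fun g => by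
    rw [← hsum fun x => φ (x * g), sum_classFun_mul_apply hφ hind g, hsum]
  have hc : classInner (fun n : N => φ n) (fun _ => 1) = (Nat.card N : ℂ)⁻¹ * ∑ n : N, φ n := by
    simp [classInner]
  by_cases h0 : classInner (fun n : N => φ n) (fun _ => 1) = 0
  · refine .inl ⟨h0, funext fun g => ?_⟩
    rw [hc] at h0
    have h0' := (mul_eq_zero.mp h0).resolve_left
      (inv_ne_zero (Nat.cast_ne_zero.mpr Nat.card_pos.ne'))
    simp [avgN, h1, h0']
  · have hcl := clifford N hφ (isIrr_one (G := N)) h0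
    have horb : conjOrbit N (fun _ : N => (1 : ℂ)) = {fun _ => 1} := by
      refine Finset.eq_singleton_iff_unique_mem.mpr
        ⟨(mem_conjOrbit N).mpr ⟨1, funext fun n => rfl⟩, fun θ hθ => ?_⟩
      obtain ⟨g, rfl⟩ := (mem_conjOrbit N).mp hθ
      rfl
    rw [horb, Finset.sum_singleton] at hcl
    have hk : ∀ n : N, φ n = φ 1 := fun n => by
      have e1 := congrFun hcl n
      have e2 := congrFun hcl 1
      simp only [Pi.smul_apply, Subgroup.coe_one] at e1 e2
      rw [e1, e2]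
    refine .inr ⟨hk, funext fun g => ?_⟩
    simp only [avgN]
    simp [char_mul_ker (IsIrr.isCharacter hφ) (hk _), Nat.card_pos.ne']

theorem avgN_one_eq (f : G → ℂ) :
    avgN N f 1 = classInner (fun n : N => f n) (fun _ => 1) := by
  simp [avgN, classInner]

theorem IsChar.avgN {χ : G → ℂ} (h : IsCharacter G χ) : IsCharacter G (Char.avgN N χ) := by
  classical
  obtain ⟨a, rfl⟩ := IsChar.exists_decomp h
  rw [avgN_sum]
  refine IsChar.sum fun φ _ => ?_
  rw [avgN_smul]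
  refine IsChar.nsmul ?_ _
  rcases avgN_irr N φ.2 with ⟨-, e⟩ | ⟨-, e⟩ <;> rw [e]
  exacts [IsChar.zero, IsIrr.isCharacter φ.2]

/-- Gallagher: constituents over an extendible invariant character are products. -/
theorem gallagher {χ ψ : G → ℂ} (hχ : IsIrrCharacter G χ) (hψ : IsIrrCharacter G ψ)
    (hθ : IsIrrCharacter N (fun n : N => χ n))
    (hne : classInner (fun n : N => ψ n) (fun n : N => χ n) ≠ 0) :
    IsIrrCharacter G (Char.avgN N (ψ * fun g => conj (χ g))) ∧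
      χ * Char.avgN N (ψ * fun g => conj (χ g)) = ψ := by
  classical
  set ξ : G → ℂ := ψ * fun g => conj (χ g) with hξdef
  set η := Char.avgN N ξ with hηdef
  have hη : IsCharacter G η :=
    IsChar.avgN N (IsChar.mul (IsIrr.isCharacter hψ) (IsChar.conj (IsIrr.isCharacter hχ)))
  have hη1 : η 1 = classInner (fun n : N => ψ n) (fun n : N => χ n) := by
    rw [hηdef, avgN_one_eq]
    simp [classInner, hξdef]
  have hinv : inertia N (fun n : N => χ n) = ⊤ :=
    (Subgroup.eq_top_iff' _).mpr fun g => conjN_res N (IsIrr.classFun hχ) g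
  have hdeg : (χ * η) 1 = ψ 1 := by
    rw [clifford_one N hψ hθ hne, hinv, Subgroup.index_top, Pi.mul_apply, hη1]
    simp [mul_comm]
  have hpair : classInner (χ * η) ψ ≠ 0 := by
    have e : classInner (χ * η) ψ = classInner η ξ := by
      simp only [classInner, Pi.mul_apply, hξdef, map_mul, Complex.conj_conj]
      congr 1
      exact Finset.sum_congr rfl fun g _ => by ring
    have e2 : classInner η η = classInner η ξ := by
      rw [hηdef, classInner_avgN N ξ (Char.avgN N ξ), avgN_idem, classInner_avgN N ξ ξ]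
    rw [e, ← e2, Ne, classInner_self_eq_zero]
    intro h0
    rw [h0, Pi.zero_apply] at hη1
    exact hne hη1.symm
  have heq : χ * η = ψ :=
    eq_of_constituent_degree (IsChar.mul (IsIrr.isCharacter hχ) hη) hψ hpair hdeg
  refine ⟨?_, heq⟩
  obtain ⟨φ, hφ⟩ := IsChar.exists_constituent' hη (by rw [hη1]; exact hne)
  obtain ⟨a, ha, hd⟩ := IsChar.exists_decomp_inner hη
  have hpos : 1 ≤ a φ := Nat.pos_of_ne_zero fun h0 => hφ (by rw [ha, h0, Nat.cast_zero])
  obtain ⟨m, hm⟩ : ∃ m, a φ = 1 + m := ⟨a φ - 1, by omega⟩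
  set r : G → ℂ := (m : ℂ) • (φ : G → ℂ) + ∑ x ∈ Finset.univ.erase φ, (a x : ℂ) • (x : G → ℂ)
    with hrdef
  have hr : IsCharacter G r := IsChar.add (IsChar.nsmul (IsIrr.isCharacter φ.2) m)
    (IsChar.sum fun x _ => IsChar.nsmul (IsIrr.isCharacter x.2) _)
  have hsplit : η = (φ : G → ℂ) + r := by
    rw [hd, ← Finset.add_sum_erase _ _ (Finset.mem_univ φ), hm, hrdef, Nat.cast_add, Nat.cast_one,
      add_smul, one_smul, add_assoc]
  have h1 := IsChar.mul (IsIrr.isCharacter hχ) (IsIrr.isCharacter φ.2)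
  have h2 := IsChar.mul (IsIrr.isCharacter hχ) hr
  have hψ2 : ψ = χ * (φ : G → ℂ) + χ * r := by rw [← heq, hsplit, mul_add]
  have hr0 : r = 0 := by
    apply IsChar.eq_zero_of_one_eq_zero hr
    by_contra hr1
    obtain ⟨ψ', hψ'⟩ := IsChar.exists_constituent' h2
      (mul_ne_zero (IsIrr.one_ne_zero hχ) hr1)
    have hne' : classInner ψ (ψ' : G → ℂ) ≠ 0 := by
      obtain ⟨k, hk⟩ := IsChar.classInner_nat h1 (IsIrr.isCharacter ψ'.2)
      obtain ⟨l, hl⟩ := IsChar.classInner_nat h2 (IsIrr.isCharacter ψ'.2)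
      have hl0 : l ≠ 0 := fun h => hψ' (by rw [hl, h, Nat.cast_zero])
      rw [hψ2, classInner_add_left, hk, hl, ← Nat.cast_add, Nat.cast_ne_zero]
      omega
    have hψψ' := eq_of_constituent_irr hψ ψ'.2 hne'
    obtain ⟨p, hp, hp'⟩ := IsIrr.one_eq_pos hψ
    obtain ⟨q, hq⟩ := IsChar.one_eq_nat h2
    have hle := degree_le_of_constituent h2 ψ'.2 hψ' hq (n := p) (by rw [← hψψ', hp'])
    obtain ⟨s, hs⟩ := IsChar.one_eq_nat h1
    have : p = s + q := by
      have e := congrFun hψ2 1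
      rw [Pi.add_apply, hp', hs, hq] at e
      exact_mod_cast e
    have hspos : s ≠ 0 := fun h => mul_ne_zero (IsIrr.one_ne_zero hχ) (IsIrr.one_ne_zero φ.2)
      (by rw [← Pi.mul_apply, hs, h, Nat.cast_zero])
    omega
  rw [hsplit, hr0, add_zero]
  exact φ.2

end Cfsg.Agent.Char
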