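import Cfsg.Agent.Lib.Char.FieldAut
import Cfsg.Agent.Lib.Char.Integral

/-!
Galois action on characters.
-/

namespace Cfsg.Agent.Char

open scoped ComplexConjugate
open Cfsg Module Representation

universe u

variable {G : Type u} [Group G]

/-- Apply a ring automorphism to the matrix entries of a coordinate representation. -/
noncomputable def galoisTwist (σ : ℂ ≃+* ℂ) {n : ℕ} (ρ : Representation ℂ G (Fin n → ℂ)) :
    Representation ℂ G (Fin n → ℂ) :=
  ((Matrix.toLinAlgEquiv' (R := ℂ) (n := Fin n)).toAlgHom.toMonoidHom).comp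
    ((σ.toRingHom.mapMatrix.toMonoidHom).comp
      ((LinearMap.toMatrixAlgEquiv' (R := ℂ) (n := Fin n)).toAlgHom.toMonoidHom.comp ρ))

theorem galoisTwist_character (σ : ℂ ≃+* ℂ) {n : ℕ} (ρ : Representation ℂ G (Fin n → ℂ)) (g : G) :
    (galoisTwist σ ρ).character g = σ (ρ.character g) := by
  have h1 : LinearMap.toMatrix' (galoisTwist σ ρ g) = (LinearMap.toMatrix' (ρ g)).map σ :=
    LinearMap.toMatrix'_toLin' _
  rw [Representation.character, Representation.character,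
    LinearMap.trace_eq_matrix_trace ℂ (Pi.basisFun ℂ (Fin n)),
    LinearMap.trace_eq_matrix_trace ℂ (Pi.basisFun ℂ (Fin n)) (ρ g),
    LinearMap.toMatrix_eq_toMatrix', h1]
  simp [Matrix.trace, map_sum]

theorem IsChar.map_ringAut {χ : G → ℂ} (h : IsCharacter G χ) (σ : ℂ ≃+* ℂ) :
    IsCharacter G (fun g => σ (χ g)) := by
  obtain ⟨n, ρ, rfl⟩ := h
  exact ⟨n, galoisTwist σ ρ, funext (galoisTwist_character σ ρ)⟩

variable [Finite G]

theorem IsChar.classInner_map_ringAut [Fintype G] {χ ψ : G → ℂ} (_hχ : IsCharacter G χ)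
    (hψ : IsCharacter G ψ) (σ : ℂ ≃+* ℂ) :
    classInner (fun g => σ (χ g)) (fun g => σ (ψ g)) = σ (classInner χ ψ) := by
  rw [classInner_eq_inv_card_sum_inv (IsChar.map_ringAut hψ σ),
    classInner_eq_inv_card_sum_inv hψ]
  simp

theorem IsIrr.map_ringAut {χ : G → ℂ} (h : IsIrrCharacter G χ) (σ : ℂ ≃+* ℂ) :
    IsIrrCharacter G (fun g => σ (χ g)) := by
  haveI := Fintype.ofFinite G
  refine IsChar.irr_of_norm_one (IsChar.map_ringAut (IsIrr.isCharacter h) σ) ?_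
  rw [IsChar.classInner_map_ringAut (IsIrr.isCharacter h) (IsIrr.isCharacter h),
    classInner_self_irr h, map_one]

theorem ringAut_character_eq_pow {χ : G → ℂ} (h : IsCharacter G χ) (σ : ℂ ≃+* ℂ) {N k : ℕ}
    (hσ : ∀ ζ : ℂ, ζ ^ N = 1 → σ ζ = ζ ^ k) {g : G} (hg : orderOf g ∣ N) :
    σ (χ g) = χ (g ^ k) := by
  obtain ⟨n, ρ, rfl⟩ := h
  obtain ⟨b, c, -, hc, hk⟩ := exists_rep_eigenbasis ρ g
  have h1 := hk 1
  simp only [pow_one] at h1
  rw [h1, hk k, map_sum]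
  refine Finset.sum_congr rfl fun i _ => hσ _ ?_
  obtain ⟨m, rfl⟩ := hg
  rw [pow_mul, hc, one_pow]

theorem exists_galois (k : ℕ) (hk : k.Coprime (Nat.card G)) :
    ∃ σ : ℂ ≃+* ℂ, ∀ χ : G → ℂ, IsCharacter G χ → ∀ g, σ (χ g) = χ (g ^ k) := by
  obtain ⟨σ, hσ⟩ := exists_ringAut_pow (Nat.card G) k Nat.card_pos hk
  exact ⟨σ, fun χ hχ g => ringAut_character_eq_pow hχ σ hσ (orderOf_dvd_natCard g)⟩

theorem IsChar.pow_map {χ : G → ℂ} (h : IsCharacter G χ) {k : ℕ} (hk : k.Coprime (Nat.card G)) :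
    IsCharacter G (fun g => χ (g ^ k)) := by
  obtain ⟨σ, hσ⟩ := exists_galois (G := G) k hk
  simpa [hσ χ h] using IsChar.map_ringAut h σ

theorem IsIrr.pow_map {χ : G → ℂ} (h : IsIrrCharacter G χ) {k : ℕ} (hk : k.Coprime (Nat.card G)) :
    IsIrrCharacter G (fun g => χ (g ^ k)) := by
  obtain ⟨σ, hσ⟩ := exists_galois (G := G) k hk
  simpa [hσ χ (IsIrr.isCharacter h)] using IsIrr.map_ringAut h σ

omit [Finite G] in
/-- A combination of `N`-th roots of unity fixed by the Galois group is rational. -/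
theorem exists_rat_of_fixed {N : ℕ} (hN : 0 < N) {ι : Type*} (s : Finset ι) (c : ι → ℂ)
    (hc : ∀ i ∈ s, c i ^ N = 1)
    (hfix : ∀ k : ℕ, k.Coprime N → ∑ i ∈ s, c i ^ k = ∑ i ∈ s, c i) :
    ∃ q : ℚ, ∑ i ∈ s, c i = q := by
  haveI : NeZero N := ⟨hN.ne'⟩
  obtain ⟨ζ, hζ⟩ : ∃ ζ : ℂ, IsPrimitiveRoot ζ N := ⟨_, Complex.isPrimitiveRoot_exp N hN.ne'⟩
  let K : IntermediateField ℚ ℂ := IntermediateField.adjoin ℚ {ζ}
  haveI : IsCyclotomicExtension {N} ℚ K := by
    change IsCyclotomicExtension {N} ℚ (IntermediateField.adjoin ℚ {ζ}).toSubalgebra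
    rw [IntermediateField.adjoin_simple_toSubalgebra_of_isAlgebraic
      (hζ.isIntegral hN).tower_top.isAlgebraic]
    exact hζ.adjoin_isCyclotomicExtension ℚ
  haveI := IsCyclotomicExtension.finiteDimensional {N} ℚ K
  haveI := IsCyclotomicExtension.isGalois {N} ℚ K
  have hmem : ∀ i ∈ s, c i ∈ K := fun i hi => by
    obtain ⟨j, -, hj⟩ := hζ.eq_pow_of_pow_eq_one (hc i hi)
    exact hj ▸ pow_mem (IntermediateField.mem_adjoin_simple_self ℚ ζ) j
  have hsum : ∑ i ∈ s, c i ∈ K := sum_mem hmem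
  obtain ⟨q, hq⟩ := (IsGalois.mem_range_algebraMap_iff_fixed
    (F := ℚ) (⟨_, hsum⟩ : K)).mpr fun τ => by
      have hζK : IsPrimitiveRoot (IsCyclotomicExtension.zeta N ℚ K) N :=
        IsCyclotomicExtension.zeta_spec N ℚ K
      set k := (hζK.autToPow ℚ τ : ZMod N).val with hkdef
      have hkc : k.Coprime N := ZMod.val_coe_unit_coprime _
      have hτ : ∀ z : K, z ^ N = 1 → τ z = z ^ k := by
        intro z hz
        obtain ⟨i, -, rfl⟩ := hζK.eq_pow_of_pow_eq_one hz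
        rw [map_pow, ← hζK.autToPow_spec ℚ τ, ← pow_mul, ← pow_mul, mul_comm]
      apply Subtype.val_injective
      have e : (⟨_, hsum⟩ : K) = ∑ i ∈ s.attach, (⟨c i, hmem i i.2⟩ : K) := by
        apply Subtype.val_injective
        show (∑ i ∈ s, c i) = K.val (∑ i ∈ s.attach, (⟨c i, hmem i i.2⟩ : K))
        rw [map_sum]
        exact (Finset.sum_attach s c).symm
      rw [e, map_sum]
      show K.val (∑ i ∈ s.attach, τ (⟨c i, hmem i i.2⟩ : K)) =
        K.val (∑ i ∈ s.attach, (⟨c i, hmem i i.2⟩ : K))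
      rw [map_sum, map_sum]
      refine Eq.trans ?_ ((hfix k hkc).trans (Finset.sum_attach s c).symm)
      rw [← Finset.sum_attach s (fun i => c i ^ k)]
      refine Finset.sum_congr rfl fun i _ => ?_
      rw [hτ _ (Subtype.ext (hc i i.2)), map_pow]
      rfl
  exact ⟨q, (congrArg Subtype.val hq).symm⟩

theorem IsChar.exists_int_of_fixed {χ : G → ℂ} (h : IsCharacter G χ) (g : G)
    (hfix : ∀ k : ℕ, k.Coprime (orderOf g) → χ (g ^ k) = χ g) : ∃ m : ℤ, χ g = m := by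
  obtain ⟨n, ρ, rfl⟩ := h
  obtain ⟨b, c, -, hc, hk⟩ := exists_rep_eigenbasis ρ g
  have h1 := hk 1
  simp only [pow_one] at h1
  obtain ⟨q, hq⟩ := exists_rat_of_fixed (orderOf_pos g) Finset.univ c (fun i _ => hc i)
    fun k hkc => by rw [← hk k, ← h1, hfix k hkc]
  have hint := isIntegral_character ρ g
  rw [h1, hq] at hint ⊢
  exact int_of_isIntegral_rat hint

/-- Extend an exponent prime to a divisor of `N` to one prime to `N`. -/
theorem exists_coprime_lift {k d N : ℕ} (hN : 0 < N) (hd : d ∣ N) (hk : k.Coprime d) :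
    ∃ k' : ℕ, k'.Coprime N ∧ k' ≡ k [MOD d] := by
  haveI : NeZero N := ⟨hN.ne'⟩
  haveI : NeZero d := ⟨fun h => hN.ne' (Nat.eq_zero_of_zero_dvd (h ▸ hd))⟩
  obtain ⟨u, hu⟩ := ZMod.unitsMap_surjective hd (ZMod.unitOfCoprime k hk)
  refine ⟨(u : ZMod N).val, ZMod.val_coe_unit_coprime u, ?_⟩
  rw [← ZMod.natCast_eq_natCast_iff]
  have := congrArg (fun x : (ZMod d)ˣ => (x : ZMod d)) hu
  simp only [ZMod.unitsMap_def, Units.coe_map, ZMod.coe_unitOfCoprime] at this
  rw [← this]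
  simp [ZMod.natCast_val]

end Cfsg.Agent.Char
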