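import Cfsg.Agent.Lib.Block.Height
import Cfsg.Agent.Lib.Grp.Real
import Cfsg.Agent.Lib.Char.Average
import Cfsg.Agent.Lib.Char.Galois

/-!
A 2-block which inversion of 2-regular elements stabilises is principal as soon as it has a
member of odd degree.
-/

namespace Cfsg.Agent.Char.RealBlock

open scoped ComplexConjugate
open Cfsg Cfsg.Agent.Block

universe u

theorem ideal_sum_involutive {M : Ideal AlgInt} (hM : IsPModular 2 M) {ι : Type*} [Fintype ι]
    (σ : ι → ι) (hσ : Function.Involutive σ) {F : ι → ℂ} (hr : ∀ i, MemLocalRing M (F i))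
    (hsym : ∀ i, MemLocalIdeal M (F (σ i) - F i))
    (hfix : ∀ i, σ i = i → MemLocalIdeal M (F i)) : MemLocalIdeal M (∑ i, F i) := by
  classical
  letI := resInst hM
  haveI := resField_charP hM
  rw [← red_eq_zero hM (ring_sum hM fun i _ => hr i), red_sum hM fun i _ => hr i]
  refine Finset.sum_involution (fun i _ => σ i) (fun i _ => ?_) (fun i _ hne h => ?_)
    (fun i _ => Finset.mem_univ _) (fun i _ => hσ i)
  · rw [(red_eq_red hM (hr _) (hr i)).mpr (hsym i)]
    exact CharTwo.add_self_eq_zero _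
  · exact hne ((red_eq_zero hM (hr i)).mpr (hfix i h))

variable {G : Type u} [Group G]

theorem isConj_inv {x y : G} (h : IsConj x y) : IsConj x⁻¹ y⁻¹ := by
  obtain ⟨c, hc⟩ := isConj_iff.mp h
  exact isConj_iff.mpr ⟨c, by rw [← hc]; group⟩

theorem centralizer_pow_eq [Finite G] {k : ℕ} (hk : k.Coprime (Nat.card G)) (g : G) :
    Subgroup.centralizer ({g ^ k} : Set G) = Subgroup.centralizer ({g} : Set G) := by
  obtain ⟨m, hm⟩ := exists_pow_eq_self_of_coprime (hk.coprime_dvd_right (orderOf_dvd_natCard g))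
  ext u
  simp only [Subgroup.mem_centralizer_singleton_iff]
  constructor
  · intro h
    have := (show Commute u (g ^ k) from h).pow_right m
    rw [hm] at this
    exact this
  · exact fun h => ((show Commute u g from h).pow_right k).eq

theorem eq_one_of_real_of_odd_card [Finite G] (hodd : Odd (Nat.card G)) {y : G}
    (h : IsConj y y⁻¹) : y = 1 := by
  obtain ⟨c, hc⟩ := isConj_iff.mp h
  have hc2 : Commute (c * c) y :=
    mul_inv_eq_iff_eq_mul.mp (Cfsg.Agent.Grp.conj_sq_of_inv hc)
  have hco : Odd (orderOf c) := hodd.of_dvd_nat (orderOf_dvd_natCard c)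
  obtain ⟨m, hm⟩ := exists_pow_eq_self_of_coprime (n := 2)
    ((Nat.coprime_two_left).mpr hco)
  rw [sq] at hm
  have hcy : Commute c y := hm ▸ hc2.pow_left m
  rw [hcy.eq, mul_inv_cancel_right] at hc
  exact Cfsg.Agent.Grp.eq_one_of_odd_of_sq (hodd.of_dvd_nat (orderOf_dvd_natCard y))
    (mul_eq_one_iff_eq_inv.mpr hc)

theorem two_dvd_index_of_real [Finite G] {x : G} (hx : ¬ 2 ∣ orderOf x) (h1 : x ≠ 1)
    (h : IsConj x x⁻¹) : 2 ∣ (Subgroup.centralizer ({x} : Set G)).index := by
  obtain ⟨c, hc⟩ := isConj_iff.mp h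
  have hodd : Odd (orderOf x) := by
    rw [← Nat.not_even_iff_odd, even_iff_two_dvd]
    exact hx
  rw [← Subgroup.relIndex_top_right]
  exact Cfsg.Agent.Grp.two_dvd_relIndex_centralizer_of_real
    (fun h2 => h1 (Cfsg.Agent.Grp.eq_one_of_odd_of_sq hodd h2)) hc ⊤ trivial le_top

/-- Inversion on conjugacy classes. -/
noncomputable def classInv (C : ConjClasses G) : ConjClasses G :=
  ConjClasses.mk (Quotient.out C)⁻¹

theorem isConj_out (x : G) : IsConj (ConjClasses.mk x).out x :=
  ConjClasses.mk_eq_mk_iff_isConj.mp (Quotient.out_eq (ConjClasses.mk x))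

theorem classInv_involutive : Function.Involutive (classInv (G := G)) := by
  intro C
  show ConjClasses.mk ((ConjClasses.mk C.out⁻¹).out)⁻¹ = C
  have h := isConj_inv (isConj_out (C.out⁻¹))
  rw [inv_inv] at h
  rw [ConjClasses.mk_eq_mk_iff_isConj.mpr h]
  exact Quotient.out_eq C

variable [Finite G] {M : Ideal AlgInt}

theorem trivialIrr_centralChar (g : G) :
    centralChar ((trivialIrr G : IrrCharacter G) : G → ℂ) g =
      ((Subgroup.centralizer ({g} : Set G)).index : ℂ) := by
  simp [centralChar, trivialIrr]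

/-- The cancellation. -/
theorem principal_of_sym (hM : IsPModular 2 M) {B : Set (IrrCharacter G)} (hB : IsPBlock M B)
    {χ : IrrCharacter G} (hχ : χ ∈ B)
    (hsym : ∀ g : G, ¬ 2 ∣ orderOf g → blockCoeff B g⁻¹ = blockCoeff B g)
    (hω : ∀ g : G, ¬ 2 ∣ orderOf g →
      MemLocalIdeal M (centralChar (χ : G → ℂ) g⁻¹ - centralChar (χ : G → ℂ) g))
    (hreal : ∀ g : G, ¬ 2 ∣ orderOf g → g ≠ 1 → IsConj g g⁻¹ →
      MemLocalIdeal M (centralChar (χ : G → ℂ) g -
        ((Subgroup.centralizer ({g} : Set G)).index : ℂ))) :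
    B = principalBlock M G := by
  classical
  cases nonempty_fintype (ConjClasses G)
  by_contra hne
  have htriv : trivialIrr G ∉ B := fun h => hne ((pblock_eq_blockOf hM hB h).trans principalBlock_eq.symm)
  let t := fun g : G => blockCoeff B g *
    (centralChar (χ : G → ℂ) g - centralChar ((trivialIrr G : IrrCharacter G) : G → ℂ) g)
  have ht : ∀ g h : G, IsConj g h → t g = t h := by
    intro g h e
    simp only [t]
    rw [centralChar_conj χ e, centralChar_conj (trivialIrr G) e,
      Cfsg.Agent.Char.IsClass.eq_of_isConj (blockCoeff_classFun B) e]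
  have hone : ∑ C : ConjClasses G, t C.out = 1 := by
    have e1 := sum_blockCoeff_centralChar hχ
    have e2 : ∑ C : ConjClasses G,
        blockCoeff B C.out * centralChar ((trivialIrr G : IrrCharacter G) : G → ℂ) C.out = 0 := by
      rw [← blockInd_of_notMem htriv, eq_sum_centralChar (blockInd B) (trivialIrr G)]
      simp only [blockCoeff_eq]
    simp only [t, mul_sub, Finset.sum_sub_distrib]
    rw [e1, e2, sub_zero]
  refine ideal_one hM (hone ▸ ideal_sum_involutive hM classInv classInv_involutive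
    (fun C => ring_mul hM (blockCoeff_ring hM hB _)
      (ring_sub hM (centralChar_ring hM _ _) (centralChar_ring hM _ _))) (fun C => ?_) fun C hC => ?_)
  · rw [show t (classInv C).out = t C.out⁻¹ from ht _ _ (isConj_out _)]
    by_cases hs : 2 ∣ orderOf C.out
    · simp only [t]
      rw [blockCoeff_singular hM hB hs,
        blockCoeff_singular hM hB (g := C.out⁻¹) (by rwa [orderOf_inv]), zero_mul, zero_mul, sub_zero]
      exact ideal_zero hM
    · simp only [t]
      rw [hsym _ hs, trivialIrr_centralChar, trivialIrr_centralChar, centralizer_inv, ← mul_sub]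
      refine ideal_mul_left hM (blockCoeff_ring hM hB _) ?_
      rw [sub_sub_sub_cancel_right]
      exact hω _ hs
  · by_cases hs : 2 ∣ orderOf C.out
    · simp only [t]
      rw [blockCoeff_singular hM hB hs, zero_mul]
      exact ideal_zero hM
    · by_cases h1 : C.out = 1
      · simp only [t]
        rw [h1, centralChar_one, centralChar_one, sub_self, mul_zero]
        exact ideal_zero hM
      · have hr : IsConj C.out C.out⁻¹ := by
          have := isConj_out (C.out⁻¹)
          change IsConj (classInv C).out C.out⁻¹ at this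
          rwa [hC] at this
        simp only [t]
        rw [trivialIrr_centralChar]
        exact ideal_mul_left hM (blockCoeff_ring hM hB _) (hreal _ hs h1 hr)

theorem hreal_of_odd_degree (hM : IsPModular 2 M) {χ : IrrCharacter G}
    (hodd : Odd (charDegree (χ : G → ℂ))) (g : G) (hs : ¬ 2 ∣ orderOf g) (h1 : g ≠ 1)
    (hr : IsConj g g⁻¹) :
    MemLocalIdeal M (centralChar (χ : G → ℂ) g -
      ((Subgroup.centralizer ({g} : Set G)).index : ℂ)) := by
  have hi := (ideal_natCast_iff hM _).mpr (two_dvd_index_of_real hs h1 hr)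
  refine ideal_sub hM ?_ hi
  rw [centralChar, mul_div_assoc, div_eq_mul_inv, charDeg_spec' χ]
  refine ideal_mul_right hM hi (ring_mul hM (irr_ring hM χ g) (ring_inv_natCast hM ?_))
  exact hodd.not_two_dvd_nat

/-- A map of `B` into itself which is inversion on regular elements gives both symmetries. -/
theorem sym_of_map (hM : IsPModular 2 M) {B : Set (IrrCharacter G)} (hB : IsPBlock M B)
    (f : IrrCharacter G → IrrCharacter G) (hinj : Function.Injective f) (hmem : Set.MapsTo f B B)
    (hf : ∀ χ ∈ B, ∀ g : G, ¬ 2 ∣ orderOf g → (f χ : G → ℂ) g = (χ : G → ℂ) g⁻¹) :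
    (∀ g : G, ¬ 2 ∣ orderOf g → blockCoeff B g⁻¹ = blockCoeff B g) ∧
    ∀ χ ∈ B, ∀ g : G, ¬ 2 ∣ orderOf g →
      MemLocalIdeal M (centralChar (χ : G → ℂ) g⁻¹ - centralChar (χ : G → ℂ) g) := by
  have hone : ∀ χ ∈ B, (f χ : G → ℂ) 1 = (χ : G → ℂ) 1 := fun χ hχ => by
    rw [hf χ hχ 1 (by simp), inv_one]
  constructor
  · intro g hg
    have himg : f '' B = B :=
      ((Set.toFinite B).surjOn_iff_bijOn_of_mapsTo hmem).mpr
        ((Set.toFinite B).injOn_iff_bijOn_of_mapsTo hmem |>.mp hinj.injOn) |>.image_eq_of_mapsTo hmem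
    simp only [blockCoeff]
    congr 1
    conv_rhs => rw [← himg, finsum_mem_image hinj.injOn]
    exact finsum_mem_congr rfl fun χ hχ => by rw [hone χ hχ, hf χ hχ g hg]
  · intro χ hχ g hg
    have e : centralChar (χ : G → ℂ) g⁻¹ = centralChar (f χ : G → ℂ) g := by
      simp only [centralChar]
      rw [centralizer_inv, hf χ hχ g hg, hone χ hχ]
    rw [e]
    exact pblock_sameBlock hM hB (hmem hχ) hχ g

/-- Inversion on irreducible characters. -/
def invIrr (χ : IrrCharacter G) : IrrCharacter G :=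
  ⟨fun g => (χ : G → ℂ) g⁻¹, by
    simp only [irr_apply_inv]
    exact Cfsg.Agent.Char.IsIrr.map_ringAut χ.2 (starRingAut : ℂ ≃+* ℂ)⟩

theorem centralChar_invIrr (χ : IrrCharacter G) (g : G) :
    centralChar (invIrr χ : G → ℂ) g = centralChar (χ : G → ℂ) g⁻¹ := by
  simp [centralChar, invIrr, centralizer_inv]

theorem principal_of_odd_real (hM : IsPModular 2 M) {χ : IrrCharacter G}
    (hodd : Odd (charDegree (χ : G → ℂ)))
    (h : SameBlock M (χ : G → ℂ) (invIrr χ : G → ℂ)) : χ ∈ principalBlock M G := by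
  have hB := isPBlock_blockOf (M := M) χ
  obtain ⟨hsym, hω⟩ := sym_of_map hM hB invIrr
    (fun a b e => Subtype.ext (funext fun g => by
      simpa [invIrr] using congrFun (congrArg Subtype.val e) g⁻¹))
    (fun ψ hψ g => by
      rw [centralChar_invIrr]
      have h1 := hψ g⁻¹
      have h2 := h g
      rw [centralChar_invIrr] at h2
      simpa using ideal_add hM h2 h1)
    (fun ψ _ g _ => rfl)
  rw [← principal_of_sym hM hB (mem_blockOf_self hM χ) hsym (hω χ (mem_blockOf_self hM χ))
    (hreal_of_odd_degree hM hodd)]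
  exact mem_blockOf_self hM χ

/-- Composition with a power map. -/
def powIrr {k : ℕ} (hk : k.Coprime (Nat.card G)) (χ : IrrCharacter G) : IrrCharacter G :=
  ⟨fun g => (χ : G → ℂ) (g ^ k), Cfsg.Agent.Char.IsIrr.pow_map χ.2 hk⟩

theorem powIrr_injective {k : ℕ} (hk : k.Coprime (Nat.card G)) :
    Function.Injective (powIrr (G := G) hk) := fun a b e => Subtype.ext (funext fun g => by
  obtain ⟨h, rfl⟩ := (powCoprime hk.symm).surjective g
  exact congrFun (congrArg Subtype.val e) h)

theorem centralChar_powIrr {k : ℕ} (hk : k.Coprime (Nat.card G)) (χ : IrrCharacter G) (g : G) :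
    centralChar (powIrr hk χ : G → ℂ) g = centralChar (χ : G → ℂ) (g ^ k) := by
  simp [centralChar, powIrr, centralizer_pow_eq hk]

theorem sym_of_pow (hM : IsPModular 2 M) {k : ℕ} (hk : k.Coprime (Nat.card G))
    (hk₂ : ∀ g : G, Odd (orderOf g) → g ^ k = g⁻¹) {B : Set (IrrCharacter G)} (hB : IsPBlock M B)
    {χ₀ : IrrCharacter G} (hχ₀ : χ₀ ∈ B) (hstab : powIrr hk χ₀ ∈ B) :
    (∀ g : G, ¬ 2 ∣ orderOf g → blockCoeff B g⁻¹ = blockCoeff B g) ∧
    ∀ χ ∈ B, ∀ g : G, ¬ 2 ∣ orderOf g →
      MemLocalIdeal M (centralChar (χ : G → ℂ) g⁻¹ - centralChar (χ : G → ℂ) g) := by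
  refine sym_of_map hM hB (powIrr hk) (powIrr_injective hk) (fun ψ hψ => ?_) (fun ψ _ g hg => ?_)
  · refine pblock_mem_of_sameBlock hM hB hstab fun g => ?_
    rw [centralChar_powIrr, centralChar_powIrr]
    exact pblock_sameBlock hM hB hχ₀ hψ _
  · have hodd : Odd (orderOf g) := by
      rw [← Nat.not_even_iff_odd, even_iff_two_dvd]
      exact hg
    simp only [powIrr, hk₂ g hodd]

/-! ### central functions supported in a normal subgroup -/

theorem omegaFun_eq_res [Fintype G] (N : Subgroup G) [N.Normal] [Fintype N] {χ : IrrCharacter G}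
    {θ : IrrCharacter N} (hover : classInner (fun n : N => (χ : G → ℂ) n) (θ : N → ℂ) ≠ 0)
    {a : G → ℂ} (ha : IsClassFunction G a) (hsupp : ∀ g ∉ N, a g = 0) :
    omegaFun χ a = omegaFun θ (fun n : N => a n) := by
  classical
  have hc := Cfsg.Agent.Char.clifford N χ.2 θ.2 hover
  have h1 := Cfsg.Agent.Char.clifford_one N χ.2 θ.2 hover
  have e1 : ∑ g : G, a g * (χ : G → ℂ) g = ∑ n : N, a n * (χ : G → ℂ) n := by
    rw [← Finset.sum_subtype (Finset.univ.filter (· ∈ N)) (by simp) (fun g => a g * (χ : G → ℂ) g)]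
    refine (Finset.sum_subset (Finset.subset_univ _) fun g _ hg => ?_).symm
    rw [hsupp g (by simpa using hg), zero_mul]
  have e2 : ∀ ψ ∈ Cfsg.Agent.Char.conjOrbit N (θ : N → ℂ),
      ∑ n : N, a n * ψ n = ∑ n : N, a n * (θ : N → ℂ) n := by
    intro ψ hψ
    obtain ⟨x, rfl⟩ := (Cfsg.Agent.Char.mem_conjOrbit N).mp hψ
    refine Fintype.sum_equiv (Cfsg.Agent.Char.conjEquivN N x).toEquiv _ _ fun n => ?_
    rw [Cfsg.Agent.Char.conjN_eq_comp]
    simp only [MulEquiv.toEquiv_eq_coe, MulEquiv.coe_toEquiv]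
    congr 1
    rw [Cfsg.Agent.Char.conjEquivN_apply]
    exact (ha n x).symm
  rw [omegaFun, omegaFun, e1, h1]
  have e3 : ∑ n : N, a n * (χ : G → ℂ) n =
      classInner (fun n : N => (χ : G → ℂ) n) (θ : N → ℂ) *
        ((Cfsg.Agent.Char.inertia N (θ : N → ℂ)).index : ℂ) * ∑ n : N, a n * (θ : N → ℂ) n := by
    have e4 : ∀ n : N, a n * (χ : G → ℂ) n = classInner (fun n : N => (χ : G → ℂ) n) (θ : N → ℂ) *
        ∑ ψ ∈ Cfsg.Agent.Char.conjOrbit N (θ : N → ℂ), a n * ψ n := fun n => by
      rw [congrFun hc n]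
      simp only [Pi.smul_apply, Finset.sum_apply, smul_eq_mul, Finset.mul_sum]
      exact Finset.sum_congr rfl fun ψ _ => by ring
    rw [Finset.sum_congr rfl fun n _ => e4 n, ← Finset.mul_sum, Finset.sum_comm,
      Finset.sum_congr rfl e2, Finset.sum_const, Cfsg.Agent.Char.card_conjOrbit, nsmul_eq_mul]
    ring
  rw [e3]
  exact mul_div_mul_left _ _ (mul_ne_zero hover (Nat.cast_ne_zero.mpr Subgroup.index_ne_zero_of_finite))

theorem omegaFun_congr [Fintype G] (hM : IsPModular 2 M) {χ ψ : IrrCharacter G}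
    (h : SameBlock M (χ : G → ℂ) (ψ : G → ℂ)) {a : G → ℂ} (ha : IsClassFunction G a)
    (hr : ∀ g, MemLocalRing M (a g)) : MemLocalIdeal M (omegaFun χ a - omegaFun ψ a) := by
  cases nonempty_fintype (ConjClasses G)
  rw [omegaFun_eq_sum_classes χ ha, omegaFun_eq_sum_classes ψ ha, ← Finset.sum_sub_distrib]
  exact ideal_sum hM fun C _ => by rw [← mul_sub]; exact ideal_mul_left hM (hr _) (h _)

theorem blockCoeff_principal_mulEquiv (hM : IsPModular 2 M) (e : G ≃* G) (g : G) :
    blockCoeff (principalBlock M G) (e g) = blockCoeff (principalBlock M G) g := by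
  let f : IrrCharacter G → IrrCharacter G := fun χ =>
    ⟨fun x => (χ : G → ℂ) (e x), Cfsg.Agent.Char.IsIrr.comp_mulEquiv e χ.2⟩
  have hinj : Function.Injective f := fun a b h => Subtype.ext (funext fun x => by
    simpa [f] using congrFun (congrArg Subtype.val h) (e.symm x))
  have hind : ∀ x : G, (Subgroup.centralizer ({e x} : Set G)).index =
      (Subgroup.centralizer ({x} : Set G)).index := by
    intro x
    rw [show Subgroup.centralizer ({e x} : Set G) =
      (Subgroup.centralizer ({x} : Set G)).map e.toMonoidHom from ?_,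
      Subgroup.index_map_of_bijective (f := e.toMonoidHom) e.bijective]
    ext u
    obtain ⟨v, rfl⟩ := e.surjective u
    simp [Subgroup.mem_centralizer_singleton_iff, ← map_mul]
  have hmem : Set.MapsTo f (principalBlock M G) (principalBlock M G) := by
    intro χ hχ x
    have h1 := hχ (e x)
    simp only [centralChar, f, map_one, hind] at h1 ⊢
    exact h1
  have himg : f '' principalBlock M G = principalBlock M G :=
    ((Set.toFinite _).surjOn_iff_bijOn_of_mapsTo hmem).mpr
      ((Set.toFinite _).injOn_iff_bijOn_of_mapsTo hmem |>.mp hinj.injOn) |>.image_eq_of_mapsTo hmem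
  simp only [blockCoeff]
  congr 1
  conv_rhs => rw [← himg, finsum_mem_image hinj.injOn]
  refine finsum_mem_congr rfl fun χ _ => ?_
  simp [f]

end Cfsg.Agent.Char.RealBlock
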