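import Cfsg.Agent.Lib.Char.Kernel

/-!
Weighted sums in irreducible representations; values at prime-power elements modulo a prime.
-/

namespace Cfsg.Agent.Char

open scoped ComplexConjugate
open Cfsg Module

universe u v

variable {G : Type u} [Group G] [Fintype G]

/-- A class-function weighted sum acts on an irreducible representation as a scalar. -/
theorem sum_smul_rep_scalar {V : Type v} [AddCommGroup V] [Module ℂ V] [FiniteDimensional ℂ V]
    (ρ : Representation ℂ G V) [ρ.IsIrreducible] {f : G → ℂ} (hf : IsClassFunction G f) :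
    ∑ g : G, f g • ρ g =
      ((∑ g : G, f g * ρ.character g) / (finrank ℂ V : ℂ)) • LinearMap.id := by
  have hcomm : ∀ x, (∑ g : G, f g • ρ g) ∘ₗ ρ x = ρ x ∘ₗ (∑ g : G, f g • ρ g) := by
    intro x
    refine LinearMap.ext fun v => ?_
    simp only [LinearMap.comp_apply, LinearMap.sum_apply, LinearMap.smul_apply, map_sum, map_smul,
      ← Module.End.mul_apply, ← map_mul]
    refine (Fintype.sum_equiv (MulAut.conj x).toEquiv _ _ fun g => ?_).symm
    simp [hf g x]
  obtain ⟨c, hc⟩ := schur_scalar ρ _ hcomm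
  have htr := congrArg (LinearMap.trace ℂ V) hc
  rw [map_sum, map_smul, LinearMap.trace_id] at htr
  simp only [map_smul, smul_eq_mul] at htr
  rw [hc]
  congr 1
  rw [eq_div_iff (Nat.cast_ne_zero.mpr (finrank_pos_of_irreducible ρ).ne')]
  exact htr.symm

theorem sum_classFun_mul_apply {χ : G → ℂ} (hχ : IsIrrCharacter G χ) {f : G → ℂ}
    (hf : IsClassFunction G f) (h : G) :
    ∑ g : G, f g * χ (g * h) = (∑ g : G, f g * χ g) / χ 1 * χ h := by
  obtain ⟨n, ρ, hρ, rfl⟩ := hχ
  have e := congrArg (fun T : (Fin n → ℂ) →ₗ[ℂ] (Fin n → ℂ) => LinearMap.trace ℂ _ (T * ρ h))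
    (sum_smul_rep_scalar ρ hf)
  simp only [Finset.sum_mul, map_sum, smul_mul_assoc, ← Module.End.one_eq_id, one_mul,
    map_smul, smul_eq_mul, ← map_mul] at e
  rw [Representation.char_one]
  exact e

/-- The orthogonality relation with a shift. -/
theorem sum_mul_conj_shift {χ : G → ℂ} (hχ : IsIrrCharacter G χ) (h : G) :
    ∑ g : G, conj (χ g) * χ (g * h) = (Nat.card G : ℂ) * χ h / χ 1 := by
  rw [sum_classFun_mul_apply hχ (IsIrr.classFun (IsIrr.conj hχ))]
  have h2 := classInner_self_irr hχ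
  rw [classInner, inv_mul_eq_iff_eq_mul₀ (Nat.cast_ne_zero.mpr Nat.card_pos.ne'), mul_one] at h2
  rw [Finset.sum_congr rfl (fun g _ => mul_comm (conj (χ g)) (χ g)), h2]
  ring

theorem sum_conj_apply {χ : G → ℂ} (hχ : IsIrrCharacter G χ) (b h : G) :
    ∑ a : G, χ (a * b * a⁻¹ * h) = (Nat.card G : ℂ) * χ b / χ 1 * χ h := by
  obtain ⟨n, ρ, hρ, rfl⟩ := hχ
  have hcomm : ∀ x, (∑ a : G, ρ (a * b * a⁻¹)) ∘ₗ ρ x = ρ x ∘ₗ ∑ a : G, ρ (a * b * a⁻¹) := by
    intro x
    show (∑ a : G, ρ (a * b * a⁻¹)) * ρ x = ρ x * ∑ a : G, ρ (a * b * a⁻¹)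
    rw [Finset.sum_mul, Finset.mul_sum]
    refine (Fintype.sum_equiv (Equiv.mulLeft x) _ _ fun a => ?_).symm
    simp [← map_mul, mul_assoc]
  obtain ⟨c, hc⟩ := schur_scalar ρ _ hcomm
  have htr := congrArg (LinearMap.trace ℂ (Fin n → ℂ)) hc
  rw [map_sum, map_smul, LinearMap.trace_id, smul_eq_mul,
    Finset.sum_congr rfl (fun a _ => show LinearMap.trace ℂ _ (ρ (a * b * a⁻¹)) = ρ.character b
      from Representation.char_conj ρ b a), Finset.sum_const,
    Finset.card_univ, ← Nat.card_eq_fintype_card, nsmul_eq_mul] at htr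
  have e := congrArg (fun T : (Fin n → ℂ) →ₗ[ℂ] (Fin n → ℂ) => LinearMap.trace ℂ _ (T * ρ h)) hc
  simp only [Finset.sum_mul, map_sum, smul_mul_assoc, ← Module.End.one_eq_id, one_mul,
    map_smul, smul_eq_mul, ← map_mul] at e
  rw [Representation.char_one, htr, mul_div_cancel_right₀ _
    (Nat.cast_ne_zero.mpr (finrank_pos_of_irreducible ρ).ne')]
  exact e

end Cfsg.Agent.Char
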