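import Cfsg.Agent.Lib.Char.PairMax

/-!
Defect groups of the blocks of centralizers occurring in Brauer pairs.
-/

namespace Cfsg.Agent.Char.BP

open Cfsg.Agent.Block

set_option linter.unusedSectionVars false
set_option linter.style.haveILetI false

universe u

variable {G : Type u} [Group G] [Fintype G] {p : ℕ} {M : Ideal AlgInt}

theorem blockDefect_pullB {H K : Type u} [Group H] [Finite H] [Group K] [Finite K] (e : H ≃* K)
    (f : Set (IrrCharacter H)) : blockDefect p (pullB e f) = blockDefect p f := by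
  have himg : (fun χ : IrrCharacter K => (charDegree (χ : K → ℂ)).factorization p) '' pullB e f =
      (fun χ : IrrCharacter H => (charDegree (χ : H → ℂ)).factorization p) '' f := by
    have hdeg : ∀ ξ : IrrCharacter K, charDegree (irrPull e ξ : H → ℂ) = charDegree (ξ : K → ℂ) :=
      fun ξ => by simp [charDegree]
    ext n
    constructor
    · rintro ⟨ξ, hξ, rfl⟩
      exact ⟨irrPull e ξ, hξ, by simp only [hdeg]⟩
    · rintro ⟨θ, hθ, rfl⟩
      refine ⟨irrPull e.symm θ, ?_, ?_⟩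
      · show irrPull e (irrPull e.symm θ) ∈ f
        rwa [irrPull_symm_self]
      · show (charDegree (irrPull e.symm θ : K → ℂ)).factorization p = _
        rw [← hdeg (irrPull e.symm θ), irrPull_symm_self]
  rw [blockDefect, blockDefect, himg, Nat.card_congr e.toEquiv]

theorem blockDefect_cjI (x : G) (a : BrauerPairIdx G) :
    blockDefect p (cjI x a).2 = blockDefect p a.2 := by
  show blockDefect p (conjBlock a.1 x a.2) = _
  rw [conjBlock_eq, blockDefect_pullB]

/-- Below a pair on `P`, the centralizer in `P` lies in a defect group of the smaller block. -/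
theorem exists_defect_ge_inf [Fact p.Prime] (hM : IsPModular p M) {a x : BrauerPairIdx G}
    (hx : IsPr p M x) (h : LE p M a x) :
    ∃ D : Subgroup (CG a.1), IsDefectGroup p M a.2 D ∧
      (x.1 ⊓ CG a.1).subgroupOf (CG a.1) ≤ D := by
  set R := a.1 ⊔ (x.1 ⊓ CG a.1) with hR
  have hRP : R ≤ x.1 := sup_le (le_subgroup h) inf_le_left
  have hRN : R ≤ Subgroup.normalizer (a.1 : Set G) :=
    sup_le Subgroup.le_normalizer (inf_le_right.trans (cg_le_normalizer a.1))
  obtain ⟨r, hr, hrx⟩ := exists_le hM hx hRP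
  obtain ⟨a', ha', hst⟩ := step_exists hM (le_isPr hrx hx) (Q := a.1) (hr ▸ le_sup_left)
    (hr ▸ hRN)
  obtain rfl : a' = a := le_unique hM ((Relation.ReflTransGen.single hst).trans hrx) h ha'
  obtain ⟨ha, hrp, hle, -, -, hH⟩ := (step_iff hM).1 hst
  obtain ⟨c, hc, hne⟩ := holds_coeff hM hrp
    ((be_inv_cg a').mono (Subgroup.centralizer_le hle)) hH
  have hcQ : c ∈ CG a'.1 := Subgroup.centralizer_le hle hc
  refine exists_defectGroup_ge hM ha.2 ((hx.1.to_le inf_le_left).comap_subtype) fun h0 => hne ?_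
  have hmem : (⟨c, hcQ⟩ : CG a'.1) ∈ Subgroup.centralizer
      (((x.1 ⊓ CG a'.1).subgroupOf (CG a'.1) : Subgroup (CG a'.1)) : Set (CG a'.1)) := by
    rw [Subgroup.mem_centralizer_iff]
    intro v hv
    refine Subtype.ext (Subgroup.mem_centralizer_iff.1 hc (v : G) ?_)
    rw [SetLike.mem_coe, hr]
    exact (le_sup_right : x.1 ⊓ CG a'.1 ≤ R) (Subgroup.mem_subgroupOf.1 hv)
  show MemLocalIdeal M (bc (CG a'.1) a'.2 c)
  rw [show bc (CG a'.1) a'.2 c = blockCoeff a'.2 ⟨c, hcQ⟩ from bc_coe _ _ ⟨c, hcQ⟩, blockCoeff_eq]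
  exact h0 _ hmem

theorem card_inf_cg_le [Fact p.Prime] (hM : IsPModular p M) {a x : BrauerPairIdx G}
    (hx : IsPr p M x) (h : LE p M a x) :
    Nat.card ↥(x.1 ⊓ CG a.1) ≤ p ^ blockDefect p a.2 := by
  obtain ⟨D, hD, hle⟩ := exists_defect_ge_inf hM hx h
  rw [← card_defectGroup hM (le_isPr h hx).2 hD,
    ← Nat.card_congr (Subgroup.subgroupOfEquivOfLe (inf_le_right : x.1 ⊓ CG a.1 ≤ CG a.1)).toEquiv]
  exact Subgroup.card_le_of_le hle

/-- The centralizer in `P` is a defect group as soon as it is large enough. -/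
theorem isDefect_inf_of_card [Fact p.Prime] (hM : IsPModular p M) {a x : BrauerPairIdx G}
    (hx : IsPr p M x) (h : LE p M a x)
    (hcard : p ^ blockDefect p a.2 ≤ Nat.card ↥(x.1 ⊓ CG a.1)) :
    IsDefectGroup p M a.2 ((x.1 ⊓ CG a.1).subgroupOf (CG a.1)) := by
  obtain ⟨D, hD, hle⟩ := exists_defect_ge_inf hM hx h
  convert hD
  refine Subgroup.eq_of_le_of_card_ge hle ?_
  rw [card_defectGroup hM (le_isPr h hx).2 hD,
    Nat.card_congr (Subgroup.subgroupOfEquivOfLe (inf_le_right : x.1 ⊓ CG a.1 ≤ CG a.1)).toEquiv]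
  exact hcard

theorem card_of_isDefect_inf [Fact p.Prime] (hM : IsPModular p M) {a x : BrauerPairIdx G} (ha : IsPr p M a)
    (h : IsDefectGroup p M a.2 ((x.1 ⊓ CG a.1).subgroupOf (CG a.1))) :
    Nat.card ↥(x.1 ⊓ CG a.1) = p ^ blockDefect p a.2 := by
  rw [← card_defectGroup hM ha.2 h,
    Nat.card_congr (Subgroup.subgroupOfEquivOfLe (inf_le_right : x.1 ⊓ CG a.1 ≤ CG a.1)).toEquiv]

/-- Some conjugate below the maximal pair has the centralizer in `P` as defect group. -/
theorem exists_conj_fully [Fact p.Prime] (hM : IsPModular p M) {B : Set (IrrCharacter G)}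
    {a x : BrauerPairIdx G} (hx : IsMx p M B x) (h : LE p M a x) :
    ∃ g : G, LE p M (cjI g a) x ∧
      IsDefectGroup p M (cjI g a).2 ((x.1 ⊓ CG (cjI g a).1).subgroupOf (CG (cjI g a).1)) := by
  have ha := le_isPr h hx.1.1
  obtain ⟨D, hD⟩ := exists_isDefectGroup hM ha.2
  obtain ⟨c₀, hc₀, hne⟩ : ∃ c₀ ∈ Subgroup.centralizer (D : Set (CG a.1)),
      ¬ MemLocalIdeal M (coeffFun (blockInd a.2) c₀) := by
    have := defectGroup_not_brZero hM ha.2 hD
    rw [BrZero] at this
    push Not at this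
    exact this
  set E := D.map (CG a.1).subtype with hEdef
  have hE : E ≤ CG a.1 := by
    rintro _ ⟨d, -, rfl⟩
    exact d.2
  have hRp : IsPGroup p ↥(E ⊔ a.1) :=
    ((IsDefectGroup.isPGroup hD).map _).to_sup_of_normal_right' ha.1
      (hE.trans (cg_le_normalizer a.1))
  have hc : (c₀ : G) ∈ CG (E ⊔ a.1) := by
    have : E ⊔ a.1 ≤ Subgroup.centralizer ({(c₀ : G)} : Set G) := by
      refine sup_le ?_ fun u hu => ?_
      · rintro _ ⟨d, hd, rfl⟩
        rw [Subgroup.mem_centralizer_singleton_iff]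
        exact congrArg Subtype.val (Subgroup.mem_centralizer_iff.1 hc₀ d hd)
      · rw [Subgroup.mem_centralizer_singleton_iff]
        exact Subgroup.mem_centralizer_iff.1 c₀.2 u hu
    rw [Subgroup.mem_centralizer_iff]
    exact fun u hu => Subgroup.mem_centralizer_singleton_iff.1 (this hu)
  have hne' : ¬ MemLocalIdeal M (be a (c₀ : G)) := by
    show ¬ MemLocalIdeal M (bc (CG a.1) a.2 (c₀ : G))
    rwa [bc_coe, blockCoeff_eq]
  have hinv : Inv (E ⊔ a.1) (be a) := ((be_inv_cg a).mono hE).sup (be_inv_self a)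
  obtain ⟨f, hf, hH⟩ := exists_holds hM hRp (be_idem hM ha) hinv
    ((be_inv_cg a).mono (Subgroup.centralizer_le (le_sup_right : a.1 ≤ E ⊔ a.1))) ⟨_, hc, hne'⟩
  have hst : Step p M a ⟨E ⊔ a.1, f⟩ := (step_iff hM).2 ⟨ha, ⟨hRp, hf⟩, le_sup_right,
    sup_le (hE.trans (cg_le_normalizer a.1)) Subgroup.le_normalizer, hinv, hH⟩
  obtain ⟨g, hg⟩ := le_conj_max hM ((ofB_step hM hst).2 ((ofB_le hM h).1 hx.1)) hx
  have hle : LE p M (cjI g a) x :=
    (Relation.ReflTransGen.single (step_cjI hM g hst)).trans hg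
  refine ⟨g, hle, isDefect_inf_of_card hM hx.1.1 hle ?_⟩
  rw [blockDefect_cjI, ← card_defectGroup hM ha.2 hD,
    ← Subgroup.card_map_of_injective (CG a.1).subtype_injective, ← hEdef, ← card_map_conj g E]
  refine Subgroup.card_le_of_le (le_inf ?_ ?_)
  · exact (Subgroup.map_mono le_sup_left).trans (le_subgroup hg)
  · intro v hv
    have := (cg_map_conj g a.1 _).1 (hE (mem_map_conj.1 hv))
    simp only [← mul_assoc, mul_inv_cancel, one_mul, mul_inv_cancel_right] at this
    exact this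

end Cfsg.Agent.Char.BP
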