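import Cfsg.Agent.Lib.Char.PairSupport
import Cfsg.Agent.Lib.Char.PairDefect

/-!
The stabilizer of a Brauer pair, its block, and normalizers in a maximal pair.
-/

namespace Cfsg.Agent.Char.BP

open Cfsg.Agent.Block

set_option linter.unusedSectionVars false
set_option linter.style.haveILetI false

universe u

variable {G : Type u} [Group G] [Fintype G] {p : ℕ} {M : Ideal AlgInt}

/-- The stabilizer of a pair. -/
noncomputable def stab (a : BrauerPairIdx G) : Subgroup G :=
  Subgroup.normalizer (a.1 : Set G) ⊓ fixSub (be a)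

theorem mem_stab {a : BrauerPairIdx G} {y : G} :
    y ∈ stab a ↔ y ∈ Subgroup.normalizer (a.1 : Set G) ∧ cfun y (be a) = be a := Iff.rfl

theorem mem_stab_iff (hM : IsPModular p M) {a : BrauerPairIdx G} (hf : IsPBlock M a.2) {y : G} :
    y ∈ stab a ↔
      y ∈ Subgroup.normalizer (a.1 : Set G) ∧ StabilizesBlock (CG a.1) a.2 y := by
  rw [mem_stab]
  exact and_congr_right fun hy => (stabilizes_iff hM hf (mem_normalizer_cg hy)).symm

theorem eq_stab (hM : IsPModular p M) {a : BrauerPairIdx G} (hf : IsPBlock M a.2) {T : Subgroup G}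
    (hT : ∀ y : G, y ∈ T ↔
      y ∈ Subgroup.normalizer (a.1 : Set G) ∧ StabilizesBlock (CG a.1) a.2 y) : T = stab a :=
  Subgroup.ext fun y => (hT y).trans (mem_stab_iff hM hf).symm

theorem stab_le_normalizer (a : BrauerPairIdx G) :
    stab a ≤ Subgroup.normalizer (a.1 : Set G) := inf_le_left

theorem cg_le_stab (a : BrauerPairIdx G) : CG a.1 ≤ stab a :=
  le_inf (cg_le_normalizer a.1) (inv_iff_le.1 (be_inv_cg a))

theorem self_le_stab (a : BrauerPairIdx G) : a.1 ≤ stab a :=
  le_inf Subgroup.le_normalizer (inv_iff_le.1 (be_inv_self a))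

theorem cjI_eq_of_stab {a : BrauerPairIdx G} {y : G} (hy : y ∈ stab a) : cjI y a = a :=
  cjI_fix (mem_stab.1 hy).1 (mem_stab.1 hy).2

theorem mem_stab_of_cjI {a : BrauerPairIdx G} {y : G}
    (hy : y ∈ Subgroup.normalizer (a.1 : Set G)) (h : cjI y a = a) : y ∈ stab a :=
  mem_stab.2 ⟨hy, by rw [← be_cjI, h]⟩

/-- The idempotent of the pair is a block idempotent of every group between the centralizer and
the stabilizer. -/
theorem exists_block_between (hM : IsPModular p M) {a : BrauerPairIdx G} (ha : IsPr p M a)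
    {T : Subgroup G} (hQT : a.1 ≤ T) (hCT : CG a.1 ≤ T) (hT : T ≤ stab a) :
    ∃ F : Set (IrrCharacter T), IsPBlock M F ∧ ∀ t : T, blockCoeff F t = be a (t : G) := by
  classical
  letI := Fintype.ofFinite T
  letI := Fintype.ofFinite (CG a.1)
  obtain ⟨ξ₀, hξ₀⟩ := pblock_nonempty hM ha.2
  have hbI : Inv T (be a) := inv_iff_le.2 (hT.trans inf_le_right)
  have hbS : Supp T (be a) := fun g hg => bc_supp _ _ g fun h => hg (hCT h)
  have hcl := res_classFun hbI
  have hconv : convFun (res T (be a)) (res T (be a)) = res T (be a) := funext fun t => by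
    rw [← conv_res T (be a) hbS t, (be_idem hM ha).2, res_apply]
  have hFI : CenInt M (fun η => omegaFun η (res T (be a))) := fun t => by
    rw [coeffFun_omegaFun hcl]; exact (be_idem hM ha).1 _
  obtain ⟨η, hη⟩ : ∃ η, omegaFun η (res T (be a)) = 1 := by
    by_contra hno
    push Not at hno
    have h0 : res T (be a) = 0 := by
      rw [← coeffFun_omegaFun hcl, funext fun η =>
        (omega_idem_zero_or_one hcl hconv η).resolve_right (hno η)]
      funext t
      simp [coeffFun_eq_sum]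
    have h1 : blockCoeff a.2 = 0 := funext fun c => by
      rw [← bc_coe]
      exact congrFun h0 ⟨(c : G), hCT c.2⟩
    have h2 := omegaFun_coeffFun (blockInd a.2) ξ₀
    rw [← funext (blockCoeff_eq a.2), h1, blockInd_of_mem hξ₀] at h2
    simp [omegaFun] at h2
  have hE : IsPBlock M (blockOf M (η : T → ℂ)) := isPBlock_blockOf η
  set E := blockOf M (η : T → ℂ)
  have hval : ∀ ξ ∈ E, omegaFun ξ (res T (be a)) = 1 := fun ξ hξ =>
    eq_of_zero_one_congr hM (omega_idem_zero_or_one hcl hconv ξ) (Or.inr rfl) (by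
      rw [← hη]
      exact hFI.congr_block hM (pblock_sameBlock hM hE hξ (mem_blockOf_self hM η)))
  set φ := bc T E with hφ
  have hφS : Supp (CG a.1) φ := fun g hg => by
    by_cases hgT : g ∈ T
    · rw [show φ g = blockCoeff E ⟨g, hgT⟩ from bc_coe T E ⟨g, hgT⟩]
      exact supp_of_le_normalizer hM ha.1 hQT (hT.trans (stab_le_normalizer a)) hE ⟨g, hgT⟩ hg
    · exact bc_supp T E g hgT
  have hφI : Inv (CG a.1) φ := (bc_inv_self T E).mono hCT
  have hprod : ∀ t : T, convFun φ (be a) (t : G) = φ (t : G) := fun t => by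
    rw [conv_res T (be a) (bc_supp T E) t, bc_res, funext (blockCoeff_eq E),
      show φ (t : G) = blockCoeff E t from bc_coe T E t, blockCoeff_eq]
    conv_lhs => rw [← coeffFun_omegaFun hcl, ← coeffFun_mul]
    congr 2
    funext ξ
    by_cases hξ : ξ ∈ E
    · simp [Pi.mul_apply, blockInd_of_mem hξ, hval ξ hξ]
    · simp [Pi.mul_apply, blockInd_of_notMem hξ]
  set W := val a.1 φ with hW
  have hWc : coeffFun W = res (CG a.1) φ := coeff_val hφI
  have hWI : CenInt M W := cenInt_val (bc_ring hM hE) hφI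
  have hW2 : convFun (res (CG a.1) φ) (res (CG a.1) φ) = res (CG a.1) φ := funext fun c => by
    rw [← conv_res (CG a.1) φ hφS c, (bc_idem hM hE).2, res_apply]
  have hW01 : ∀ ξ, W ξ = 0 ∨ W ξ = 1 := fun ξ => by
    rw [hW, val_eq]
    exact omega_idem_zero_or_one (res_classFun hφI) hW2 ξ
  have hWf : W * blockInd a.2 = W := by
    refine eq_of_coeffFun_eq (funext fun c => ?_)
    rw [coeffFun_mul, hWc, ← funext (blockCoeff_eq a.2), ← bc_res,
      ← conv_res (CG a.1) (bc (CG a.1) a.2) hφS c]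
    exact hprod ⟨(c : G), hCT c.2⟩
  obtain ⟨ξ₁, hξ₁⟩ : ∃ ξ, W ξ ≠ 0 := by
    by_contra hno
    push Not at hno
    have h0 : res (CG a.1) φ = 0 := by
      rw [← hWc, show W = fun _ => (0 : ℂ) from funext hno]
      funext c
      simp [coeffFun_eq_sum]
    have h1 : blockCoeff E = 0 := funext fun t => by
      rw [← bc_coe]
      by_cases ht : (t : G) ∈ CG a.1
      · exact congrFun h0 ⟨(t : G), ht⟩
      · exact hφS _ ht
    have h2 := omegaFun_coeffFun (blockInd E) η
    rw [← funext (blockCoeff_eq E), h1, blockInd_of_mem (mem_blockOf_self hM η)] at h2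
    simp [omegaFun] at h2
  have hξf : ξ₁ ∈ a.2 := by
    by_contra h
    apply hξ₁
    rw [← congrFun hWf ξ₁, Pi.mul_apply, blockInd_of_notMem h, mul_zero]
  have hWeq : W = blockInd a.2 := by
    funext ξ
    by_cases hξ : ξ ∈ a.2
    · rw [blockInd_of_mem hξ, eq_of_zero_one_congr hM (hW01 ξ) (hW01 ξ₁)
        (hWI.congr_block hM (pblock_sameBlock hM ha.2 hξ hξf))]
      exact (hW01 ξ₁).resolve_left hξ₁
    · rw [← congrFun hWf ξ, Pi.mul_apply, blockInd_of_notMem hξ, mul_zero]
  refine ⟨E, hE, fun t => ?_⟩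
  rw [← bc_coe]
  show φ (t : G) = be a (t : G)
  by_cases ht : (t : G) ∈ CG a.1
  · have h1 := congrFun hWc ⟨(t : G), ht⟩
    rw [hWeq, ← blockCoeff_eq, ← bc_coe] at h1
    exact h1.symm
  · rw [hφS _ ht]
    exact (bc_supp (CG a.1) a.2 (t : G) ht).symm

theorem block_eq_of_coeff {T : Subgroup G} {F F' : Set (IrrCharacter T)} {φ : G → ℂ}
    (h : ∀ t : T, blockCoeff F t = φ (t : G)) (h' : ∀ t : T, blockCoeff F' t = φ (t : G)) :
    F = F' :=
  bc_inj (funext fun g => by
    by_cases hg : g ∈ T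
    · rw [show bc T F g = blockCoeff F ⟨g, hg⟩ from bc_coe T F ⟨g, hg⟩,
        show bc T F' g = blockCoeff F' ⟨g, hg⟩ from bc_coe T F' ⟨g, hg⟩, h, h']
    · rw [bc_supp T F g hg, bc_supp T F' g hg])

/-- A `p`-overgroup inside the stabilizer which still sees the pair. -/
def Big (p : ℕ) (M : Ideal AlgInt) (a : BrauerPairIdx G) (R : Subgroup G) : Prop :=
  IsPGroup p R ∧ a.1 ≤ R ∧ R ≤ stab a ∧ ∃ c ∈ CG R, ¬ MemLocalIdeal M (be a c)

theorem Big.step (hM : IsPModular p M) {a : BrauerPairIdx G} (ha : IsPr p M a) {R : Subgroup G}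
    (h : Big p M a R) : ∃ f, Step p M a ⟨R, f⟩ := by
  obtain ⟨hR, hQR, hRT, hne⟩ := h
  have hi : Inv R (be a) := inv_iff_le.2 (hRT.trans inf_le_right)
  obtain ⟨f, hf, hH⟩ := exists_holds hM hR (be_idem hM ha) hi
    ((be_inv_cg a).mono (Subgroup.centralizer_le hQR)) hne
  exact ⟨f, (step_iff hM).2
    ⟨ha, ⟨hR, hf⟩, hQR, hRT.trans (stab_le_normalizer a), hi, hH⟩⟩

theorem big_of_step (hM : IsPModular p M) {a r : BrauerPairIdx G} (h : Step p M a r) :
    Big p M a r.1 := by
  obtain ⟨-, hr, hle, hN, hi, hH⟩ := (step_iff hM).1 h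
  exact ⟨hr.1, hle, le_inf hN (inv_iff_le.1 hi),
    holds_coeff hM hr ((be_inv_cg a).mono (Subgroup.centralizer_le hle)) hH⟩

theorem Big.conj (hM : IsPModular p M) {a : BrauerPairIdx G} (ha : IsPr p M a) {R : Subgroup G}
    (h : Big p M a R) (g : G) : Big p M (cjI g a) (R.map (MulAut.conj g).toMonoidHom) := by
  obtain ⟨f, hf⟩ := h.step hM ha
  exact big_of_step hM (step_cjI hM g hf)

/-- The intermediate pair under a larger one. -/
theorem step_below [Fact p.Prime] (hM : IsPModular p M) {a x : BrauerPairIdx G} (hx : IsPr p M x)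
    (h : LE p M a x) {R : Subgroup G} (hQR : a.1 ≤ R) (hRx : R ≤ x.1)
    (hN : R ≤ Subgroup.normalizer (a.1 : Set G)) :
    ∃ r : BrauerPairIdx G, r.1 = R ∧ Step p M a r ∧ LE p M r x := by
  obtain ⟨r, hr, hrx⟩ := exists_le hM hx hRx
  obtain ⟨a', ha', hst⟩ := step_exists hM (le_isPr hrx hx) (Q := a.1) (hr ▸ hQR) (hr ▸ hN)
  obtain rfl : a' = a := le_unique hM ((Relation.ReflTransGen.single hst).trans hrx) h ha'
  exact ⟨r, hr, hst, hrx⟩

theorem big_norm [Fact p.Prime] (hM : IsPModular p M) {a x : BrauerPairIdx G} (hx : IsPr p M x)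
    (h : LE p M a x) : Big p M a (x.1 ⊓ Subgroup.normalizer (a.1 : Set G)) := by
  obtain ⟨r, hr, hst, -⟩ := step_below hM hx h (R := x.1 ⊓ Subgroup.normalizer (a.1 : Set G))
    (le_inf (le_subgroup h) Subgroup.le_normalizer) inf_le_left inf_le_right
  exact hr ▸ big_of_step hM hst

theorem Big.conj_le (hM : IsPModular p M) {B : Set (IrrCharacter G)} {a x : BrauerPairIdx G}
    (hx : IsMx p M B x) (h : LE p M a x) {R : Subgroup G} (hb : Big p M a R) :
    ∃ g : G, LE p M (cjI g a) x ∧ R.map (MulAut.conj g).toMonoidHom ≤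
      x.1 ⊓ Subgroup.normalizer ((cjI g a).1 : Set G) := by
  have ha := le_isPr h hx.1.1
  obtain ⟨f, hf⟩ := hb.step hM ha
  obtain ⟨g, hg⟩ := le_conj_max hM ((ofB_step hM hf).2 ((ofB_le hM h).1 hx.1)) hx
  refine ⟨g, (Relation.ReflTransGen.single (step_cjI hM g hf)).trans hg,
    le_inf (le_subgroup hg) (big_of_step hM (step_cjI hM g hf)).2.2.1 |>.trans ?_⟩
  exact inf_le_inf_left _ (stab_le_normalizer _)

theorem Big.card_le_defect [Fact p.Prime] (hM : IsPModular p M) {a : BrauerPairIdx G}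
    {T : Subgroup G} (hCT : CG a.1 ≤ T) {F : Set (IrrCharacter T)} (hF : IsPBlock M F)
    (hFc : ∀ t : T, blockCoeff F t = be a (t : G)) {R : Subgroup G} (h : Big p M a R)
    (hRT : R ≤ T) : ∃ D : Subgroup T, IsDefectGroup p M F D ∧ R.subgroupOf T ≤ D := by
  obtain ⟨hR, hQR, -, c, hc, hne⟩ := h
  refine exists_defectGroup_ge hM hF hR.comap_subtype fun h0 => hne ?_
  have hcT : c ∈ T := hCT (Subgroup.centralizer_le hQR hc)
  rw [show be a c = be a ((⟨c, hcT⟩ : T) : G) from rfl, ← hFc, blockCoeff_eq]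
  refine h0 _ (Subgroup.mem_centralizer_iff.2 fun v hv => Subtype.ext ?_)
  exact Subgroup.mem_centralizer_iff.1 hc (v : G) (Subgroup.mem_subgroupOf.1 hv)

theorem exists_big_defect [Fact p.Prime] (hM : IsPModular p M) {a : BrauerPairIdx G}
    (ha : IsPr p M a) {T : Subgroup G} (hQT : a.1 ≤ T) (hT : T ≤ stab a)
    {F : Set (IrrCharacter T)} (hF : IsPBlock M F)
    (hFc : ∀ t : T, blockCoeff F t = be a (t : G)) :
    ∃ R : Subgroup G, Big p M a R ∧ R ≤ T ∧ Nat.card R = p ^ blockDefect p F := by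
  letI := Fintype.ofFinite T
  haveI : (a.1.subgroupOf T).Normal :=
    (Subgroup.normal_subgroupOf_iff_le_normalizer hQT).2 (hT.trans (stab_le_normalizer a))
  obtain ⟨D, hD⟩ := exists_isDefectGroup hM hF
  have hQD : a.1.subgroupOf T ≤ D :=
    normal_le_defectGroup hM hF hD (ha.1.comap_subtype (K := T))
  have hle : D.map T.subtype ≤ T := by
    rintro _ ⟨d, -, rfl⟩
    exact d.2
  have hne := defectGroup_not_brZero hM hF hD
  rw [BrZero] at hne
  push Not at hne
  obtain ⟨c, hc, hne⟩ := hne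
  refine ⟨D.map T.subtype, ⟨(IsDefectGroup.isPGroup hD).map _, fun u hu => ?_, hle.trans hT,
    (c : G), ?_, ?_⟩, hle, ?_⟩
  · exact ⟨⟨u, hQT hu⟩, hQD (Subgroup.mem_subgroupOf.2 hu), rfl⟩
  · rw [Subgroup.mem_centralizer_iff]
    rintro _ ⟨d, hd, rfl⟩
    exact congrArg Subtype.val (Subgroup.mem_centralizer_iff.1 hc d hd)
  · rwa [← hFc, blockCoeff_eq]
  · rw [Subgroup.card_map_of_injective T.subtype_injective, card_defectGroup hM hF hD]

/-- The normalizer in `P` is as large as possible for this conjugate. -/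
def NMax (p : ℕ) (M : Ideal AlgInt) (a x : BrauerPairIdx G) : Prop :=
  ∀ R, Big p M a R → Nat.card R ≤ Nat.card ↥(x.1 ⊓ Subgroup.normalizer (a.1 : Set G))

theorem exists_nMax [Fact p.Prime] (hM : IsPModular p M) {B : Set (IrrCharacter G)}
    {a x : BrauerPairIdx G} (hx : IsMx p M B x) (h : LE p M a x) :
    ∃ g : G, LE p M (cjI g a) x ∧ NMax p M (cjI g a) x := by
  have ha := le_isPr h hx.1.1
  obtain ⟨F, hF, hFc⟩ := exists_block_between hM ha (self_le_stab a) (cg_le_stab a) le_rfl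
  obtain ⟨R, hR, -, hcard⟩ := exists_big_defect hM ha (self_le_stab a) le_rfl hF hFc
  obtain ⟨g, hg, hRg⟩ := hR.conj_le hM hx h
  refine ⟨g, hg, fun S hS => le_trans ?_ (Subgroup.card_le_of_le hRg)⟩
  rw [card_map_conj, hcard, ← card_map_conj g⁻¹ S]
  have hS' : Big p M a (S.map (MulAut.conj g⁻¹).toMonoidHom) := by
    have := hS.conj hM (isPr_cjI hM g ha) g⁻¹
    rwa [cjI_inv_cancel] at this
  obtain ⟨D, hD, hle⟩ := hS'.card_le_defect hM (cg_le_stab a) hF hFc hS'.2.2.1
  rw [← card_defectGroup hM hF hD,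
    ← Nat.card_congr (Subgroup.subgroupOfEquivOfLe hS'.2.2.1).toEquiv]
  exact Subgroup.card_le_of_le hle

/-- The normalizer in `P` is a defect group of the stabilizer block exactly when it is maximal. -/
theorem isDefect_norm_iff [Fact p.Prime] (hM : IsPModular p M) {a x : BrauerPairIdx G}
    (hx : IsPr p M x) (h : LE p M a x) {F : Set (IrrCharacter (stab a))} (hF : IsPBlock M F)
    (hFc : ∀ t : stab a, blockCoeff F t = be a (t : G)) :
    IsDefectGroup p M F ((x.1 ⊓ Subgroup.normalizer (a.1 : Set G)).subgroupOf (stab a)) ↔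
      NMax p M a x := by
  have ha := le_isPr h hx
  have hb := big_norm hM hx h
  constructor
  · intro hD R hR
    obtain ⟨D, hD', hle⟩ := hR.card_le_defect hM (cg_le_stab a) hF hFc hR.2.2.1
    rw [← Nat.card_congr (Subgroup.subgroupOfEquivOfLe hb.2.2.1).toEquiv,
      ← Nat.card_congr (Subgroup.subgroupOfEquivOfLe hR.2.2.1).toEquiv,
      defectGroup_card_eq hM hF hD hD']
    exact Subgroup.card_le_of_le hle
  · intro hmax
    obtain ⟨D, hD, hle⟩ := hb.card_le_defect hM (cg_le_stab a) hF hFc hb.2.2.1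
    convert hD
    refine Subgroup.eq_of_le_of_card_ge hle ?_
    obtain ⟨R, hR, -, hcard⟩ := exists_big_defect hM ha (self_le_stab a) le_rfl hF hFc
    rw [card_defectGroup hM hF hD, ← hcard,
      Nat.card_congr (Subgroup.subgroupOfEquivOfLe hb.2.2.1).toEquiv]
    exact hmax R hR

theorem normalizer_in_stab_block [Fact p.Prime] (hM : IsPModular p M) {B : Set (IrrCharacter G)}
    {a x : BrauerPairIdx G} (hx : IsMx p M B x) (h : LE p M a x) {T : Subgroup G}
    (hT : ∀ y : G, y ∈ T ↔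
      y ∈ Subgroup.normalizer (a.1 : Set G) ∧ StabilizesBlock (CG a.1) a.2 y) :
    (∃ F : Set (IrrCharacter T), IsPBlock M F ∧ (∀ t : T, blockCoeff F t = be a (t : G)) ∧
      ∃ D : Subgroup T, IsDefectGroup p M F D ∧
        (x.1 ⊓ Subgroup.normalizer (a.1 : Set G)).subgroupOf T ≤ D) := by
  have ha := le_isPr h hx.1.1
  obtain rfl := eq_stab hM ha.2 hT
  obtain ⟨F, hF, hFc⟩ := exists_block_between hM ha (self_le_stab a) (cg_le_stab a) le_rfl
  have hb := big_norm hM hx.1.1 h
  exact ⟨F, hF, hFc, hb.card_le_defect hM (cg_le_stab a) hF hFc hb.2.2.1⟩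

theorem exists_conj_normalizer_defect [Fact p.Prime] (hM : IsPModular p M)
    {B : Set (IrrCharacter G)} {a x : BrauerPairIdx G} (hx : IsMx p M B x) (h : LE p M a x) :
    ∃ g : G, LE p M (cjI g a) x ∧ ∀ T : Subgroup G,
      (∀ y : G, y ∈ T ↔ y ∈ Subgroup.normalizer ((cjI g a).1 : Set G) ∧
        StabilizesBlock (CG (cjI g a).1) (cjI g a).2 y) →
      ∃ F : Set (IrrCharacter T), IsPBlock M F ∧
        (∀ t : T, blockCoeff F t = be (cjI g a) (t : G)) ∧
        IsDefectGroup p M F ((x.1 ⊓ Subgroup.normalizer ((cjI g a).1 : Set G)).subgroupOf T) := by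
  obtain ⟨g, hg, hmax⟩ := exists_nMax hM hx h
  refine ⟨g, hg, fun T hT => ?_⟩
  have ha := le_isPr hg hx.1.1
  obtain rfl := eq_stab hM ha.2 hT
  obtain ⟨F, hF, hFc⟩ := exists_block_between hM ha (self_le_stab _) (cg_le_stab _) le_rfl
  exact ⟨F, hF, hFc, (isDefect_norm_iff hM hx.1.1 hg hF hFc).2 hmax⟩

end Cfsg.Agent.Char.BP
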