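import Cfsg.Agent.Lib.Char.PairCorr
import Cfsg.Agent.Lib.Char.PairStab

/-!
Brauer pairs read inside a subgroup containing the centralizer, and the case of an abelian
defect group.
-/

namespace Cfsg.Agent.Char.BP

open Cfsg.Agent.Block

set_option linter.unusedSectionVars false
set_option linter.style.haveILetI false

universe u

variable {G : Type u} [Group G] [Fintype G] {p : ℕ} {M : Ideal AlgInt}

/-- A pair read inside an overgroup of its subgroup and centralizer. -/
noncomputable def dn (H : Subgroup G) (y : BrauerPairIdx G) (h1 : y.1 ≤ H) (h2 : CG y.1 ≤ H) :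
    BrauerPairIdx H :=
  idxDown h1 h2 y.2

theorem dn_fst (H : Subgroup G) (y : BrauerPairIdx G) (h1 : y.1 ≤ H) (h2 : CG y.1 ≤ H) :
    (dn H y h1 h2).1 = y.1.subgroupOf H := rfl

theorem be_dn {H : Subgroup G} [Fintype H] (y : BrauerPairIdx G) (h1 : y.1 ≤ H)
    (h2 : CG y.1 ≤ H) : be (dn H y h1 h2) = res H (be y) := by
  classical
  exact be_idxDown h1 h2 y.2

theorem isPr_dn (hM : IsPModular p M) {H : Subgroup G} [Fintype H] {y : BrauerPairIdx G}
    (h : IsPr p M y) (h1 : y.1 ≤ H) (h2 : CG y.1 ≤ H) : IsPr p M (dn H y h1 h2) :=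
  isPr_idxDown hM h1 h2 h.1 h.2

theorem holds_dn {H : Subgroup G} [Fintype H] (y : BrauerPairIdx G) (h1 : y.1 ≤ H)
    (h2 : CG y.1 ≤ H) (φ : G → ℂ) :
    Holds M (dn H y h1 h2) (res H φ) ↔ Holds M y φ :=
  holds_idxDown h1 h2 y.2 φ

theorem step_dn (hM : IsPModular p M) {H : Subgroup G} [Fintype H] {y z : BrauerPairIdx G}
    (h : Step p M y z) (hy1 : y.1 ≤ H) (hy2 : CG y.1 ≤ H) (hz1 : z.1 ≤ H) (hz2 : CG z.1 ≤ H) :
    Step p M (dn H y hy1 hy2) (dn H z hz1 hz2) := by
  obtain ⟨hy, hz, hle, hN, hi, hH⟩ := (step_iff hM).1 h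
  refine (step_iff hM).2 ⟨isPr_dn hM hy hy1 hy2, isPr_dn hM hz hz1 hz2,
    fun v hv => Subgroup.mem_subgroupOf.2 (hle (Subgroup.mem_subgroupOf.1 hv)),
    fun v hv => (mem_normalizer_subgroupOf hy1).2 (hN (Subgroup.mem_subgroupOf.1 hv)), ?_, ?_⟩
  · rw [be_dn y hy1 hy2]
    exact fun u hu g => hi (u : G) (Subgroup.mem_subgroupOf.1 hu) (g : G)
  · rw [be_dn y hy1 hy2]
    exact (holds_dn z hz1 hz2 _).2 hH

theorem le_dn (hM : IsPModular p M) {H : Subgroup G} [Fintype H] {y z : BrauerPairIdx G}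
    (h : LE p M y z) (hy2 : CG y.1 ≤ H) (hz1 : z.1 ≤ H) :
    LE p M (dn H y ((le_subgroup h).trans hz1) hy2)
      (dn H z hz1 ((Subgroup.centralizer_le (le_subgroup h)).trans hy2)) := by
  induction h using Relation.ReflTransGen.head_induction_on with
  | refl => exact Relation.ReflTransGen.refl
  | @head b c hbc hcz ih =>
    have hc2 : CG c.1 ≤ H := (Subgroup.centralizer_le hbc.2.2.1).trans hy2
    exact Relation.ReflTransGen.head
      (step_dn hM hbc _ hy2 ((le_subgroup hcz).trans hz1) hc2) (ih hc2)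

theorem dn_conj_eq (hM : IsPModular p M) {H : Subgroup G} [Fintype H] {y z : BrauerPairIdx G}
    (hy1 : y.1 ≤ H) (hy2 : CG y.1 ≤ H) (hz1 : z.1 ≤ H) (hz2 : CG z.1 ≤ H) {c : H}
    (h : dn H z hz1 hz2 = cjI c (dn H y hy1 hy2)) : z = cjI (c : G) y := by
  refine idx_ext ?_ ?_
  · show z.1 = y.1.map (MulAut.conj (c : G)).toMonoidHom
    have h1 : z.1.subgroupOf H = (y.1.subgroupOf H).map (MulAut.conj c).toMonoidHom :=
      congrArg Sigma.fst h
    ext g
    rw [mem_map_conj]
    by_cases hg : g ∈ H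
    · have h2 := SetLike.ext_iff.1 h1 ⟨g, hg⟩
      rw [mem_map_conj, Subgroup.mem_subgroupOf, Subgroup.mem_subgroupOf] at h2
      exact h2
    · refine iff_of_false (fun h => hg (hz1 h)) fun h => hg ?_
      simpa [mul_assoc] using mul_mem (mul_mem c.2 (hy1 h)) (inv_mem c.2)
  · have h1 := congrArg be h
    rw [be_cjI, be_dn, be_dn] at h1
    rw [be_cjI]
    funext g
    by_cases hg : g ∈ H
    · exact congrFun h1 ⟨g, hg⟩
    · show bc (CG z.1) z.2 g = bc (CG y.1) y.2 ((c : G)⁻¹ * g * (c : G))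
      rw [bc_supp _ _ g fun hh => hg (hz2 hh), bc_supp _ _ _ fun hh => hg ?_]
      simpa [mul_assoc] using mul_mem (mul_mem c.2 (hy2 hh)) (inv_mem c.2)

theorem defect_of_card_le (hM : IsPModular p M) {B : Set (IrrCharacter G)} {x : BrauerPairIdx G}
    (h : OfB p M B x) {D : Subgroup G} (hD : IsDefectGroup p M B D)
    (hcard : Nat.card D ≤ Nat.card x.1) : IsDefectGroup p M B x.1 := by
  obtain ⟨g, hg⟩ := conj_le_defect hM h hD
  have heq : x.1.map (MulAut.conj g).toMonoidHom = D :=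
    Subgroup.eq_of_le_of_card_ge hg (by rwa [card_map_conj])
  have h1 := isDefectGroup_map_conj hM hD g⁻¹
  rwa [← heq, map_conj_conj, inv_mul_cancel, map_conj_one] at h1

/-- With abelian `P` the stabilizer of a smaller pair factorizes. -/
theorem stab_factor [Fact p.Prime] (hM : IsPModular p M) {B : Set (IrrCharacter G)}
    {a x : BrauerPairIdx G} (hx : IsMx p M B x) (h : LE p M a x)
    (hab : ∀ u ∈ x.1, ∀ v ∈ x.1, u * v = v * u) {y : G} (hy : y ∈ stab a) :
    ∃ t ∈ stab x, ∃ c ∈ CG a.1, y = t * c := by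
  classical
  letI := Fintype.ofFinite (CG a.1)
  have ha := le_isPr h hx.1.1
  have hle := le_subgroup h
  have hPC : x.1 ≤ CG a.1 := fun u hu =>
    Subgroup.mem_centralizer_iff.2 fun v hv => hab v (hle hv) u hu
  obtain ⟨r, hr, hst, hrx⟩ :=
    step_below hM hx.1.1 h hle le_rfl (hPC.trans (cg_le_normalizer a.1))
  obtain rfl : r = x := eq_of_le_of_subgroup hM hrx hr.ge
  have hst' : Step p M a (cjI y r) := by
    have := step_cjI hM y hst
    rwa [cjI_eq_of_stab hy] at this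
  have hCx : CG r.1 ≤ CG a.1 := Subgroup.centralizer_le hle
  have hy1 : (cjI y r).1 ≤ CG a.1 := fun v hv => by
    have := (cg_normalizer (mem_stab.1 hy).1 _).1 (hPC (mem_map_conj.1 hv))
    simp only [← mul_assoc, mul_inv_cancel, one_mul, mul_inv_cancel_right] at this
    exact this
  have hy2 : CG (cjI y r).1 ≤ CG a.1 := Subgroup.centralizer_le hst'.2.2.1
  have hofb : ∀ z : BrauerPairIdx G, ∀ (h1 : z.1 ≤ CG a.1) (h2 : CG z.1 ≤ CG a.1),
      Step p M a z → OfB p M a.2 (dn (CG a.1) z h1 h2) := fun z h1 h2 hz => by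
    refine ofB_of_holds ha.2 (isPr_dn hM hz.2.1 h1 h2) ?_
    rw [← bc_res (CG a.1) a.2]
    exact (holds_dn z h1 h2 _).2 ((step_iff hM).1 hz).2.2.2.2.2
  have hinf : r.1 ⊓ CG a.1 = r.1 := inf_eq_left.2 hPC
  have hD : IsDefectGroup p M a.2 (r.1.subgroupOf (CG a.1)) := by
    obtain ⟨g, hg, hD⟩ := exists_conj_fully hM hx h
    rw [← hinf]
    refine isDefect_inf_of_card hM hx.1.1 h ?_
    rw [← blockDefect_cjI g a, ← card_of_isDefect_inf hM (isPr_cjI hM g ha) hD, hinf]
    exact Subgroup.card_le_of_le inf_le_left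
  have hmx := max_of_defect hM (hofb r hPC hCx hst) hD
  have hmy := max_of_defect hM (hofb (cjI y r) hy1 hy2 hst')
    (defect_of_card_le hM (hofb (cjI y r) hy1 hy2 hst') hD (by
      rw [dn_fst, Nat.card_congr (Subgroup.subgroupOfEquivOfLe hPC).toEquiv,
        Nat.card_congr (Subgroup.subgroupOfEquivOfLe hy1).toEquiv]
      exact (card_map_conj y r.1).ge))
  obtain ⟨c, hc⟩ := max_conj hM hmx hmy
  have heq := dn_conj_eq hM hPC hCx hy1 hy2 hc
  set t := (c : G)⁻¹ * y with ht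
  have htfix : cjI t r = r := by rw [ht, ← cjI_cjI, heq, cjI_inv_cancel]
  have htN : t ∈ Subgroup.normalizer (r.1 : Set G) := Subgroup.mem_normalizer_iff.2 fun g => by
    have h1 : r.1.map (MulAut.conj t).toMonoidHom = r.1 := congrArg Sigma.fst htfix
    conv_rhs => rw [← h1]
    exact conj_mem_map_conj.symm
  refine ⟨t, mem_stab_of_cjI htN htfix, t⁻¹ * (c : G) * t, ?_, by rw [ht]; group⟩
  have htQ : t ∈ Subgroup.normalizer (a.1 : Set G) :=
    mul_mem (inv_mem (cg_le_normalizer a.1 c.2)) (mem_stab.1 hy).1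
  simpa using (cg_normalizer (inv_mem htQ) (c : G)).1 c.2

theorem stab_inf_normalizer_le [Fact p.Prime] (hM : IsPModular p M) {a x : BrauerPairIdx G}
    (h : LE p M a x) :
    stab x ⊓ Subgroup.normalizer (a.1 : Set G) ≤ stab a := by
  intro y hy
  refine mem_stab_of_cjI hy.2 ?_
  have h1 := le_cjI hM y h
  rw [cjI_eq_of_stab hy.1] at h1
  exact le_unique hM h1 h (map_conj_eq_of_normalizer hy.2)

theorem stab_index [Fact p.Prime] (hM : IsPModular p M) {B : Set (IrrCharacter G)}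
    {a x : BrauerPairIdx G} (hx : IsMx p M B x) (h : LE p M a x)
    (hab : ∀ u ∈ x.1, ∀ v ∈ x.1, u * v = v * u) :
    ((CG a.1).subgroupOf (stab a)).index =
      ((stab x ⊓ CG a.1).subgroupOf (stab x ⊓ Subgroup.normalizer (a.1 : Set G))).index := by
  set A := stab x ⊓ Subgroup.normalizer (a.1 : Set G) with hA
  have hAT : A ≤ stab a := stab_inf_normalizer_le hM h
  haveI : ((CG a.1).subgroupOf (stab a)).Normal :=
    (Subgroup.normal_subgroupOf_iff_le_normalizer (cg_le_stab a)).2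
      ((stab_le_normalizer a).trans fun u hu => mem_normalizer_cg hu)
  have htop : A.subgroupOf (stab a) ⊔ (CG a.1).subgroupOf (stab a) = ⊤ := by
    refine eq_top_iff.2 fun y _ => ?_
    obtain ⟨t, ht, c, hc, hyt⟩ := stab_factor hM hx h hab y.2
    have htN : t ∈ Subgroup.normalizer (a.1 : Set G) := by
      have h1 := mul_mem (mem_stab.1 y.2).1 (inv_mem (cg_le_normalizer a.1 hc))
      rwa [hyt, mul_inv_cancel_right] at h1
    have htA : t ∈ A := ⟨ht, htN⟩
    rw [show y = (⟨t, hAT htA⟩ : stab a) * ⟨c, cg_le_stab a hc⟩ from Subtype.ext hyt]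
    exact mul_mem (Subgroup.mem_sup_left (Subgroup.mem_subgroupOf.2 htA))
      (Subgroup.mem_sup_right (Subgroup.mem_subgroupOf.2 hc))
  have h1 : ((CG a.1).subgroupOf (stab a)).index =
      ((CG a.1).subgroupOf (stab a)).relIndex (A.subgroupOf (stab a)) := by
    rw [← Subgroup.relIndex_sup_left (A.subgroupOf (stab a)), sup_comm, htop, Subgroup.relIndex_top_right]
  rw [h1, Subgroup.relIndex_subgroupOf hAT, Subgroup.relIndex]
  congr 1
  ext v
  simp only [Subgroup.mem_subgroupOf, Subgroup.mem_inf]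
  exact ⟨fun h => ⟨v.2.1, h⟩, fun h => h.2⟩

end Cfsg.Agent.Char.BP
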