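import Cfsg.Agent.Lib.Char.PairMax

/-!
Every Brauer pair belongs to exactly one block.
-/

namespace Cfsg.Agent.Char.BP

open Cfsg.Agent.Block

set_option linter.unusedSectionVars false

universe u

variable {G : Type u} [Group G] [Fintype G] {p : ℕ} {M : Ideal AlgInt}

/-- The blocks of the group. -/
noncomputable def gblks (M : Ideal AlgInt) (G : Type u) [Group G] [Fintype G] :
    Finset (Set (IrrCharacter G)) :=
  (Set.toFinite {B : Set (IrrCharacter G) | IsPBlock M B}).toFinset

theorem mem_gblks {B : Set (IrrCharacter G)} : B ∈ gblks M G ↔ IsPBlock M B := by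
  simp [gblks]

theorem sum_gblks (hM : IsPModular p M) (g : G) : ∑ B ∈ gblks M G, blockCoeff B g = dlt g := by
  classical
  cases nonempty_fintype (IrrCharacter G)
  have h1 : ∀ ξ : IrrCharacter G, ∑ B ∈ gblks M G, blockInd B ξ = 1 := by
    intro ξ
    rw [Finset.sum_eq_single (blockOf M (ξ : G → ℂ))]
    · exact blockInd_of_mem (mem_blockOf_self hM ξ)
    · intro f hf hne
      exact blockInd_of_notMem fun h => hne (pblock_eq_blockOf hM (mem_gblks.1 hf) h)
    · exact fun h => absurd (mem_gblks.2 (isPBlock_blockOf ξ)) h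
  have h2 : ∑ B ∈ gblks M G, blockCoeff B g = coeffFun (1 : IrrCharacter G → ℂ) g := by
    simp only [blockCoeff_eq, coeffFun_eq_sum]
    rw [← Finset.mul_sum, Finset.sum_comm]
    congr 1
    refine Finset.sum_congr rfl fun ξ _ => ?_
    rw [← Finset.sum_mul, ← Finset.sum_mul, h1, Pi.one_apply]
  rw [coeffFun_one] at h2
  rw [h2, dlt]

theorem blockCoeff_mul_ne (hM : IsPModular p M) {B B' : Set (IrrCharacter G)}
    (hB : IsPBlock M B) (hB' : IsPBlock M B') (hne : B ≠ B') :
    convFun (blockCoeff B) (blockCoeff B') = 0 := by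
  have h0 : blockInd B * blockInd B' = (0 : IrrCharacter G → ℂ) := by
    funext ξ
    by_cases h1 : ξ ∈ B
    · have h2 : ξ ∉ B' := fun h2 => hne
        ((pblock_eq_blockOf hM hB h1).trans (pblock_eq_blockOf hM hB' h2).symm)
      simp [blockInd_of_notMem h2]
    · simp [blockInd_of_notMem h1]
  rw [funext (blockCoeff_eq B), funext (blockCoeff_eq B'), ← coeffFun_mul, h0]
  funext g
  rw [← sub_self (1 : IrrCharacter G → ℂ), coeffFun_sub, sub_self, Pi.zero_apply]

theorem ofB_unique (hM : IsPModular p M) {B B' : Set (IrrCharacter G)} {x : BrauerPairIdx G}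
    (h : OfB p M B x) (h' : OfB p M B' x) : B = B' := by
  by_contra hne
  exact holds_mul_ne_zero hM h.1 (blockCoeff_ring hM h.2.1) (blockCoeff_ring hM h'.2.1)
    (inv_of_classFun (blockCoeff_classFun B) _) (inv_of_classFun (blockCoeff_classFun B') _)
    (inv_of_classFun (blockCoeff_classFun B) _) (inv_of_classFun (blockCoeff_classFun B') _)
    h.2.2 h'.2.2 (blockCoeff_mul_ne hM h.2.1 h'.2.1 hne)

theorem exists_ofB (hM : IsPModular p M) {x : BrauerPairIdx G} (hx : IsPr p M x) :
    ∃ B, OfB p M B x := by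
  obtain ⟨B, hB, hH⟩ := exists_holds_of_sum hM hx (gblks M G) (fun B => blockCoeff B)
    (fun B hB => blockCoeff_idem hM (mem_gblks.1 hB))
    (fun B _ => inv_of_classFun (blockCoeff_classFun B) _)
    (fun B _ => inv_of_classFun (blockCoeff_classFun B) _)
    (fun c _ => by rw [sum_gblks hM, sub_self]; exact ideal_zero hM)
  exact ⟨B, ofB_of_holds (mem_gblks.1 hB) hx hH⟩

end Cfsg.Agent.Char.BP
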