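import Cfsg.Agent.Lib.Char.PairStab
import Cfsg.Agent.Lib.Char.PairBlock
import Cfsg.Agent.Lib.Block.MaximalPair
import Cfsg.Agent.Lib.Block.NilpotentBlock
import Cfsg.Agent.Lib.Block.InducedDefect

/-!
Blocks of `P C(P)` with defect group `P` and the blocks they induce.
-/

set_option autoImplicit false

namespace Cfsg.Agent.Char.FullDefect

open Cfsg Cfsg.Agent.Block Cfsg.Agent.Char.BP

set_option linter.unusedSectionVars false

universe u

variable {G : Type u} [Group G] [Fintype G] {p : ℕ} {M : Ideal AlgInt} {P H : Subgroup G}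

theorem cg_le (hH : H = P ⊔ CG P) : CG P ≤ H := hH ▸ le_sup_right

theorem le_norm (hH : H = P ⊔ CG P) : H ≤ Subgroup.normalizer (P : Set G) :=
  hH ▸ sup_le Subgroup.le_normalizer (cg_le_normalizer P)

theorem normal_sub (hH : H = P ⊔ CG P) : (P.subgroupOf H).Normal :=
  Subgroup.normal_subgroupOf_of_le_normalizer (le_norm hH)

theorem sub_top (hH : H = P ⊔ CG P) :
    P.subgroupOf H ⊔ Subgroup.centralizer ((P.subgroupOf H : Subgroup H) : Set H) = ⊤ := by
  have hPH : P ≤ H := hH ▸ le_sup_left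
  refine top_le_iff.1 fun h _ => ?_
  have h1 : (h : G) ∈ P ⊔ CG P := hH ▸ h.2
  rw [← SetLike.mem_coe,
    Subgroup.coe_mul_of_right_le_normalizer_left _ _ (cg_le_normalizer P)] at h1
  obtain ⟨u, hu, c, hc, huc⟩ := h1
  have h2 : h = ⟨u, hPH hu⟩ * ⟨c, cg_le hH hc⟩ := Subtype.ext huc.symm
  rw [h2]
  refine mul_mem (Subgroup.mem_sup_left (Subgroup.mem_subgroupOf.2 hu)) (Subgroup.mem_sup_right ?_)
  rw [Subgroup.mem_centralizer_iff]
  intro x hx
  exact Subtype.ext (Subgroup.mem_centralizer_iff.1 hc _ (Subgroup.mem_subgroupOf.1 hx))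

/-- Restriction to the centralizer of a character with `P` in its kernel. -/
theorem exists_rest (hH : H = P ⊔ CG P) (η : IrrCharacter H)
    (hker : ∀ x ∈ P.subgroupOf H, (η : H → ℂ) x = (η : H → ℂ) 1) :
    ∃ η' : IrrCharacter (CG P),
      (∀ c : CG P, (η' : CG P → ℂ) c = (η : H → ℂ) ⟨c, cg_le hH c.2⟩) ∧
      (∀ (h : H) (c : CG P), (c : G)⁻¹ * (h : G) ∈ P → (η : H → ℂ) h = (η' : CG P → ℂ) c) ∧
      charDegree (η' : CG P → ℂ) = charDegree (η : H → ℂ) ∧
      (P.subgroupOf (CG P)).index = (P.subgroupOf H).index := by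
  classical
  haveI := normal_sub hH
  obtain ⟨φ, hφ, hφη⟩ := Cfsg.Agent.Char.IsIrr.exists_factor_quotient η.2 (P.subgroupOf H) hker
  set f : CG P →* H ⧸ P.subgroupOf H :=
    (QuotientGroup.mk' (P.subgroupOf H)).comp (Subgroup.inclusion (cg_le hH)) with hf
  have hmk : ∀ (h : H) (c : CG P), (c : G)⁻¹ * (h : G) ∈ P →
      (h : H ⧸ P.subgroupOf H) = f c := by
    intro h c hc
    refine ((QuotientGroup.eq (a := Subgroup.inclusion (cg_le hH) c) (b := h)).2 ?_).symm
    exact Subgroup.mem_subgroupOf.2 hc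
  have hsurj : Function.Surjective f := by
    intro q
    obtain ⟨h, rfl⟩ := QuotientGroup.mk_surjective q
    have h1 : (h : G) ∈ P ⊔ CG P := hH ▸ h.2
    rw [← SetLike.mem_coe,
      Subgroup.coe_mul_of_right_le_normalizer_left _ _ (cg_le_normalizer P)] at h1
    obtain ⟨u, hu, c, hc, huc⟩ := h1
    refine ⟨⟨c, hc⟩, (hmk h ⟨c, hc⟩ ?_).symm⟩
    have h3 : u * c = c * u := Subgroup.mem_centralizer_iff.1 hc u hu
    have huc' : (h : G) = c * u := huc.symm.trans h3
    simpa [huc'] using hu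
  refine ⟨⟨fun c => φ (f c), Cfsg.Agent.Char.IsIrr.comp_surjective f hsurj hφ⟩, fun c => ?_,
    fun h c hc => ?_, ?_, ?_⟩
  · exact hφη _
  · show (η : H → ℂ) h = φ (f c)
    rw [← hmk h c hc, hφη]
  · simp only [charDegree]
    show ⌊(φ (f 1)).re⌋₊ = _
    rw [map_one]
    show ⌊(φ ((1 : H) : H ⧸ P.subgroupOf H)).re⌋₊ = _
    rw [hφη]
  · have h1 : P.subgroupOf (CG P) = f.ker := by
      ext c
      rw [MonoidHom.mem_ker, Subgroup.mem_subgroupOf]
      exact ((QuotientGroup.eq_one_iff (N := P.subgroupOf H) (Subgroup.inclusion (cg_le hH) c)).trans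
        Subgroup.mem_subgroupOf).symm
    rw [h1, Subgroup.index_ker, MonoidHom.range_eq_top.2 hsurj, Subgroup.card_top,
      Subgroup.index_eq_card]

/-- Central elements are read on the centralizer. -/
theorem omega_rest (hM : IsPModular p M) (hP : IsPGroup p P) (hH : H = P ⊔ CG P)
    [Fintype H] [Fintype (CG P)] {η : IrrCharacter H} {η' : IrrCharacter (CG P)}
    (hres : ∀ c : CG P, (η' : CG P → ℂ) c = (η : H → ℂ) ⟨c, cg_le hH c.2⟩) {a : H → ℂ}
    (ha : IsClassFunction H a) (hr : ∀ h, MemLocalRing M (a h)) :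
    MemLocalIdeal M (omegaFun η a -
      omegaFun η' (fun c => a ⟨c, cg_le hH c.2⟩)) := by
  classical
  haveI := normal_sub hH
  cases nonempty_fintype (ConjClasses H)
  set d : H → ℂ := fun h => if (h : G) ∈ CG P then 0 else a h with hd
  have hdc : IsClassFunction H d := by
    intro g h
    simp only [hd]
    have hiff : ((h * g * h⁻¹ : H) : G) ∈ CG P ↔ (g : G) ∈ CG P := by
      constructor
      · intro hh
        have := centralizer_conj_mem (inv_mem (le_norm hH h.2)) hh
        simpa [mul_assoc] using this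
      · intro hh
        have := centralizer_conj_mem (le_norm hH h.2) hh
        simpa [mul_assoc] using this
    rw [ha g h]
    simp only [hiff]
  have h1 : η'.1 1 = η.1 1 := (hres 1).trans rfl
  have hsum : omegaFun η a - omegaFun η' (fun c => a ⟨c, cg_le hH c.2⟩) = omegaFun η d := by
    simp only [omegaFun, h1]
    rw [← sub_div]
    congr 1
    rw [sub_eq_iff_eq_add]
    have h2 : ∑ c : CG P, a ⟨c, cg_le hH c.2⟩ * η'.1 c =
        ∑ h ∈ Finset.univ.filter (fun h : H => (h : G) ∈ CG P), a h * η.1 h := by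
      rw [Finset.sum_subtype (Finset.univ.filter (fun h : H => (h : G) ∈ CG P))
        (p := fun h : H => (h : G) ∈ CG P) (fun h => by simp)]
      exact Fintype.sum_equiv
        ({ toFun := fun (c : CG P) => (⟨⟨c, cg_le hH c.2⟩, c.2⟩ : {h : H // (h : G) ∈ CG P})
           invFun := fun h => ⟨(h.1 : G), h.2⟩
           left_inv := fun c => rfl
           right_inv := fun h => rfl } : CG P ≃ {h : H // (h : G) ∈ CG P}) _ _ fun c => by
          rw [hres c]; rfl
    rw [h2, Finset.sum_filter, ← Finset.sum_add_distrib]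
    refine Finset.sum_congr rfl fun h _ => ?_
    simp only [hd]
    split_ifs <;> simp
  rw [hsum, omegaFun_eq_sum_classes η hdc]
  refine ideal_sum hM fun K _ => ?_
  simp only [hd]
  split_ifs with hK
  · rw [zero_mul]; exact ideal_zero hM
  · refine ideal_mul_left hM (hr _) (centralChar_ideal_of_normal hM (P := P.subgroupOf H) (hP.comap_subtype (K := H))
      (fun hc => hK ?_) η)
    rw [Subgroup.mem_centralizer_iff]
    intro u hu
    exact congrArg Subtype.val
      (Subgroup.mem_centralizer_iff.1 hc ⟨u, hH ▸ Subgroup.mem_sup_left hu⟩ (Subgroup.mem_subgroupOf.2 hu))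

/-- Two such characters are in one block when their restrictions are. -/
theorem sameBlock_of_rest (hM : IsPModular p M) (hP : IsPGroup p P) (hH : H = P ⊔ CG P)
    {η θ : IrrCharacter H} {η' θ' : IrrCharacter (CG P)}
    (hη : ∀ c : CG P, (η' : CG P → ℂ) c = (η : H → ℂ) ⟨c, cg_le hH c.2⟩)
    (hθ : ∀ c : CG P, (θ' : CG P → ℂ) c = (θ : H → ℂ) ⟨c, cg_le hH c.2⟩)
    (h : SameBlock M (η' : CG P → ℂ) (θ' : CG P → ℂ)) :
    SameBlock M (η : H → ℂ) (θ : H → ℂ) := by
  classical
  cases nonempty_fintype H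
  cases nonempty_fintype (CG P)
  intro g
  set f : IrrCharacter H → ℂ := fun χ => centralChar (χ : H → ℂ) g
  have hf : CenInt M f := cenInt_centralChar hM g
  have ha := coeffFun_classFun f
  set r : CG P → ℂ := fun c => coeffFun f ⟨c, cg_le hH c.2⟩ with hr
  have hrc : IsClassFunction (CG P) r := fun x y =>
    ha ⟨x, cg_le hH x.2⟩ ⟨y, cg_le hH y.2⟩
  have hI : CenInt M (fun ξ : IrrCharacter (CG P) => omegaFun ξ r) := fun c => by
    rw [coeffFun_omegaFun hrc]; exact hf _
  have h1 := omega_rest hM hP hH hη ha hf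
  have h2 := omega_rest hM hP hH hθ ha hf
  rw [omegaFun_coeffFun] at h1 h2
  have h3 := hI.congr_block hM h
  have h4 := ideal_sub hM (ideal_add hM h1 h3) h2
  show MemLocalIdeal M (f η - f θ)
  convert h4 using 1
  ring

/-- Conjugation of `P C(P)` by an element of the normalizer. -/
def conjH (hH : H = P ⊔ CG P) {g : G} (hg : g ∈ Subgroup.normalizer (P : Set G)) : H ≃* H where
  toFun h := ⟨g * h * g⁻¹, by
    have hn := normal_sup_centralizer_subgroupOf P
    have := hn.conj_mem ⟨h, le_norm hH h.2⟩ (Subgroup.mem_subgroupOf.2 (hH ▸ h.2)) ⟨g, hg⟩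
    rw [Subgroup.mem_subgroupOf] at this
    exact hH ▸ this⟩
  invFun h := ⟨g⁻¹ * h * g, by
    have hn := normal_sup_centralizer_subgroupOf P
    have := hn.conj_mem ⟨h, le_norm hH h.2⟩ (Subgroup.mem_subgroupOf.2 (hH ▸ h.2))
      ⟨g⁻¹, inv_mem hg⟩
    rw [Subgroup.mem_subgroupOf] at this
    exact hH ▸ by simpa using this⟩
  left_inv h := Subtype.ext (by simp [mul_assoc])
  right_inv h := Subtype.ext (by simp [mul_assoc])
  map_mul' h k := Subtype.ext (by simp [mul_assoc])

theorem not_dvd_relIndex_iff [Fact p.Prime] {A T : Subgroup G} [(A.subgroupOf T).Normal] :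
    ¬ p ∣ A.relIndex T ↔ ∀ x ∈ T, (∃ k : ℕ, orderOf x = p ^ k) → x ∈ A := by
  rw [Subgroup.relIndex]
  constructor
  · rintro h x hx ⟨k, hk⟩
    have h1 : orderOf (QuotientGroup.mk' (A.subgroupOf T) ⟨x, hx⟩) ∣ p ^ k := by
      rw [← hk, ← Subgroup.orderOf_mk x hx]
      exact orderOf_map_dvd _ _
    have h2 : orderOf (QuotientGroup.mk' (A.subgroupOf T) ⟨x, hx⟩) ∣ (A.subgroupOf T).index := by
      rw [Subgroup.index_eq_card]
      exact orderOf_dvd_natCard _
    have h3 := Nat.eq_one_of_dvd_coprimes (Nat.Coprime.pow_left k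
      ((Fact.out : p.Prime).coprime_iff_not_dvd.2 h)) h1 h2
    exact Subgroup.mem_subgroupOf.1 ((QuotientGroup.eq_one_iff _).1 (orderOf_eq_one_iff.1 h3))
  · intro h hd
    obtain ⟨S⟩ := (inferInstance : Nonempty (Sylow p T))
    refine S.not_dvd_index (hd.trans (Subgroup.index_dvd_of_le fun x hx => ?_))
    obtain ⟨k, hk⟩ := (IsPGroup.iff_orderOf.1 S.isPGroup') ⟨x, hx⟩
    refine Subgroup.mem_subgroupOf.2 (h x x.2 ⟨k, ?_⟩)
    rwa [← Subgroup.orderOf_coe, ← Subgroup.orderOf_coe] at hk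

/-- The Brauer pair carried by a block of `P C(P)` with defect group `P`, and its stabilizer. -/
theorem exists_pair [Fact p.Prime] (hM : IsPModular p M) (hH : H = P ⊔ CG P) [Fintype H]
    {b : Set (IrrCharacter H)} (hb : IsPBlock M b) (hbP : IsDefectGroup p M b (P.subgroupOf H))
    {B : Set (IrrCharacter G)} (hind : IsInducedBlock M H b B) :
    ∃ a : BrauerPairIdx G, a.1 = P ∧ OfB p M B a ∧
      (∃ θ ∈ a.2, (∀ z : CG a.1, (z : G) ∈ a.1 → (θ : CG a.1 → ℂ) z = (θ : CG a.1 → ℂ) 1) ∧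
        (charDegree (θ : CG a.1 → ℂ)).factorization p +
            (Nat.card ↥(a.1 ⊓ CG a.1)).factorization p =
          (Nat.card (CG a.1)).factorization p) ∧
      ∀ g ∈ Subgroup.normalizer (P : Set G),
        StabilizesBlock (CG a.1) a.2 g ↔
        ∀ θ ∈ b, ∀ θ' : IrrCharacter H, (∀ h h' : H, (h' : G) = g * h * g⁻¹ →
          (θ' : H → ℂ) h' = (θ : H → ℂ) h) → θ' ∈ b := by
  classical
  have hPH : P ≤ H := hH ▸ le_sup_left
  haveI := normal_sub hH
  have hPp : IsPGroup p P := by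
    have := (IsDefectGroup.isPGroup hbP).map H.subtype
    rwa [Subgroup.map_subgroupOf_eq_of_le hPH] at this
  obtain ⟨⟨θ, ⟨hθ, hθk⟩, huniq⟩, hdeg, -⟩ := sup_centralizer_block hM (sub_top hH) hb hbP
  obtain ⟨θ', hres, hval, hdeg', hidx⟩ := exists_rest hH θ hθk
  cases nonempty_fintype (CG P)
  set e := blockOf M (θ' : CG P → ℂ) with he
  have hpr : IsPr p M (⟨P, e⟩ : BrauerPairIdx G) := ⟨hPp, isPBlock_blockOf θ'⟩
  refine ⟨⟨P, e⟩, rfl, ofB_of_holds hind.2.1 hpr fun ξ hξ => ?_,
    ⟨θ', mem_blockOf_self hM θ', fun z hz => ?_, ?_⟩, fun g hg => ?_⟩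
  · have hI := cenInt_blockInd hM hind.2.1
    rw [show blockCoeff B = coeffFun (blockInd B) from funext (blockCoeff_eq B)]
    obtain ⟨χ, hχ⟩ := pblock_nonempty hM hind.2.1
    have h1 := (cenInt_val (M := M) (P := P) (a := coeffFun (blockInd B)) hI
      (inv_of_classFun (coeffFun_classFun _) _)).congr_block hM
        (pblock_sameBlock hM hpr.2 hξ (mem_blockOf_self hM θ'))
    have h2 := omega_rest hM hPp hH hres (resFun_classFun H (blockInd B)) (fun h => hI _)
    have h3 := induced_congr hM hind hI hθ hχ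
    rw [blockInd_of_mem hχ, resCen_eq_omegaFun] at h3
    have h5 : val P (coeffFun (blockInd B)) θ' =
        omegaFun θ' (fun c : CG P => coeffFun (blockInd B) (c : G)) := by rw [val_eq]; rfl
    rw [h5] at h1
    have h4 := ideal_sub hM (ideal_add hM h1 h3) h2
    show MemLocalIdeal M (val P (coeffFun (blockInd B)) ξ - 1)
    convert h4 using 1
    ring
  · rw [← hval 1 z (by simpa using inv_mem hz), ← hval 1 1 (by simp)]
  · show (charDegree (θ' : CG P → ℂ)).factorization p + _ = _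
    rw [hdeg', hdeg θ hθ hθk, ← hidx]
    have hc : Nat.card ↥(P ⊓ CG P) = Nat.card (P.subgroupOf (CG P)) := by
      rw [← Subgroup.card_map_of_injective (CG P).subtype_injective,
        Subgroup.subgroupOf_map_subtype]
    rw [hc, ← (P.subgroupOf (CG P)).card_mul_index,
      Nat.factorization_mul Nat.card_pos.ne' Subgroup.index_ne_zero_of_finite, Finsupp.add_apply,
      add_comm]
  · set cH := conjH hH hg
    set cC := centEquiv (Q := P) hg
    have hker₂ : ∀ x ∈ P.subgroupOf H, (irrPull cH.symm θ : H → ℂ) x =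
        (irrPull cH.symm θ : H → ℂ) 1 := by
      intro x hx
      simp only [irrPull_apply, map_one]
      refine hθk _ (Subgroup.mem_subgroupOf.2 ?_)
      show g⁻¹ * (x : G) * g ∈ P
      simpa using (Subgroup.mem_normalizer_iff.1 (inv_mem hg) _).1 (Subgroup.mem_subgroupOf.1 hx)
    constructor
    · rintro ⟨-, hst⟩ ξ hξ ξ' hξ'
      obtain ⟨χ, hχ, hconj⟩ := hst θ' (mem_blockOf_self hM θ')
      have hχres : ∀ c : CG P, (χ : CG P → ℂ) c =
          (irrPull cH.symm θ : H → ℂ) ⟨c, cg_le hH c.2⟩ := by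
        intro c
        rw [hconj (cC.symm c) c (by
          rw [← centEquiv_val hg, MulEquiv.apply_symm_apply]), hres, irrPull_apply]
        rfl
      have h1 : SameBlock M (θ : H → ℂ) (irrPull cH.symm θ : H → ℂ) :=
        sameBlock_of_rest hM hPp hH hres hχres hχ
      have hξ2 : ξ' = irrPull cH.symm ξ := Subtype.ext (funext fun h' => by
        rw [irrPull_apply]
        exact hξ' (cH.symm h') h' (congrArg Subtype.val (cH.apply_symm_apply h')).symm)
      rw [pblock_eq_blockOf hM hb hθ, hξ2, mem_blockOf]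
      exact sameBlock_trans hM h1 ((sameBlock_irrPull_iff cH.symm θ ξ).2
        (pblock_sameBlock hM hb hθ hξ))
    · intro hst
      refine ⟨mem_normalizer_cg hg, fun χ hχ => ⟨irrPull cC.symm χ, ?_, fun k k' hkk => ?_⟩⟩
      · have hmem : irrPull cH.symm θ ∈ b := hst θ hθ _ fun h h' hh => by
          rw [irrPull_apply]
          refine congrArg (θ : H → ℂ) ?_
          exact cH.symm_apply_eq.2 (Subtype.ext hh)
        have heq : irrPull cH.symm θ = θ := huniq _ ⟨hmem, hker₂⟩
        have hfix : irrPull cC.symm θ' = θ' := Subtype.ext (funext fun c => by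
          rw [irrPull_apply, hres, hres]
          exact congrFun (congrArg Subtype.val heq) ⟨c, cg_le hH c.2⟩)
        show SameBlock M (θ' : CG P → ℂ) (irrPull cC.symm χ : CG P → ℂ)
        rw [← hfix]
        exact (sameBlock_irrPull_iff cC.symm θ' χ).2 hχ
      · rw [irrPull_apply]
        refine congrArg (χ : CG P → ℂ) ?_
        exact cC.symm_apply_eq.2 (Subtype.ext hkk)

/-- `B` has defect group `P` exactly when the index of `H` in the stabilizer is prime to `p`. -/
theorem defect_iff [Fact p.Prime] (hM : IsPModular p M) (hH : H = P ⊔ CG P) [Fintype H]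
    {b : Set (IrrCharacter H)} (hb : IsPBlock M b) (hbP : IsDefectGroup p M b (P.subgroupOf H))
    {B : Set (IrrCharacter G)} (hind : IsInducedBlock M H b B) {T : Subgroup G}
    (hT : ∀ g : G, g ∈ T ↔ (g ∈ Subgroup.normalizer (P : Set G) ∧ ∀ θ ∈ b,
      ∀ θ' : IrrCharacter H, (∀ h h' : H, (h' : G) = g * h * g⁻¹ →
        (θ' : H → ℂ) h' = (θ : H → ℂ) h) → θ' ∈ b)) :
    IsDefectGroup p M B P ↔ ¬ p ∣ H.relIndex T := by
  obtain ⟨⟨Q, e⟩, rfl, hof, hθ, hstab⟩ := exists_pair hM hH hb hbP hind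
  have hT' : ∀ y : G, y ∈ T ↔ y ∈ Subgroup.normalizer (Q : Set G) ∧
      StabilizesBlock (CG Q) e y := fun y =>
    (hT y).trans (and_congr_right fun hy => (hstab y hy).symm)
  have hTs : T = stab (⟨Q, e⟩ : BrauerPairIdx G) :=
    eq_stab (a := ⟨Q, e⟩) hM hof.1.2 hT'
  have hTN : T ≤ Subgroup.normalizer (Q : Set G) := hTs ▸ stab_le_normalizer _
  haveI hn : (H.subgroupOf T).Normal := by
    refine ⟨fun x hx n => ?_⟩
    rw [Subgroup.mem_subgroupOf] at hx ⊢
    exact ((conjH hH (hTN n.2)) ⟨x, hx⟩).2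
  rw [not_dvd_relIndex_iff]
  constructor
  · intro hD x hx hxp
    obtain ⟨-, -, -, -, h⟩ := (maximal_pair_iff hM Q e hof.1).1 ⟨B, max_of_defect hM hof hD⟩
    exact hH ▸ h x (hTN hx) ((hT' x).1 hx).2 hxp
  · intro h
    obtain ⟨θ, hθe, hk, hd⟩ := hθ
    obtain ⟨B', hmax⟩ := (maximal_pair_iff hM Q e hof.1).2 ⟨θ, hθe, hk, hd,
      fun x hx hxs hxp => hH ▸ h x ((hT' x).2 ⟨hx, hxs⟩) hxp⟩
    obtain rfl : B' = B := ofB_unique hM (x := ⟨Q, e⟩) hmax.1 hof
    exact defect_of_max hM (x := ⟨Q, e⟩) hmax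

end Cfsg.Agent.Char.FullDefect
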