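import Cfsg.Agent.Lib.Char.MajorRankTwo
import Cfsg.Agent.Lib.Char.FullDefectInduced

/-!
The sections at the central elements of a defect group: the height of a character is bounded by the
inertial index.
-/

open scoped ComplexConjugate

namespace Cfsg.Agent.Char.Spec

open Cfsg.Agent.Block Cfsg.Agent.Char.BP

set_option linter.unusedSectionVars false
set_option linter.style.haveILetI false
set_option maxHeartbeats 1600000

universe u

variable {G : Type u} [Group G] [Fintype G] {p : ℕ} {M : Ideal AlgInt}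
variable {B : Set (IrrCharacter G)}

/-- An integer whose quotient by a power of `p` is local is a multiple of that power. -/
theorem pow_dvd_of_ring_div [Fact p.Prime] (hM : IsPModular p M) (m : ℕ) (z : ℤ)
    (h : MemLocalRing M ((z : ℂ) / (p : ℂ) ^ m)) : (p : ℤ) ^ m ∣ z := by
  have hp : (p : ℂ) ≠ 0 := Nat.cast_ne_zero.2 (Fact.out : p.Prime).ne_zero
  induction m generalizing z with
  | zero => simp
  | succ m ih =>
    have e : (z : ℂ) / (p : ℂ) ^ m = ((z : ℂ) / (p : ℂ) ^ (m + 1)) * (p : ℂ) := by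
      field_simp
      ring
    obtain ⟨w, rfl⟩ := ih z (ring_of_ideal (e ▸ ideal_mul_left hM h (ideal_p hM)))
    have e2 : (w : ℂ) = (((p : ℤ) ^ m * w : ℤ) : ℂ) / (p : ℂ) ^ (m + 1) * (p : ℂ) := by
      push_cast
      field_simp
      ring
    have hw : MemLocalIdeal M (w : ℂ) := by
      rw [e2]; exact ideal_mul_left hM h (ideal_p hM)
    rw [pow_succ]
    exact mul_dvd_mul_left _ ((ideal_intCast_iff hM w).1 hw)

/-- A pair below a maximal pair which centralizes it has full defect. -/
theorem blockDefect_of_le_major [Fact p.Prime] (hM : IsPModular p M) {a x : BrauerPairIdx G}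
    (hx : IsMx p M B x) (h : LE p M a x) (hC : x.1 ≤ CG a.1) :
    blockDefect p a.2 = blockDefect p B := by
  have hp : p.Prime := Fact.out
  have h1 := card_inf_cg_le hM hx.1.1 h
  rw [inf_eq_left.2 hC] at h1
  obtain ⟨g, hg, hD⟩ := exists_conj_fully hM hx h
  have h2 := card_of_isDefect_inf hM (le_isPr hg hx.1.1) hD
  rw [blockDefect_cjI] at h2
  have h3 : p ^ blockDefect p a.2 ≤ Nat.card x.1 := h2 ▸ Subgroup.card_le_of_le inf_le_left
  have h4 : p ^ blockDefect p a.2 = p ^ blockDefect p B := by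
    rw [← card_defectGroup hM hx.1.2.1 (defect_of_max hM hx)]
    omega
  exact Nat.pow_right_injective hp.two_le h4

theorem card_inf_cg_center (P : Subgroup G) :
    Nat.card ↥(P ⊓ CG P) = Nat.card (Subgroup.center P) :=
  Nat.card_congr
    { toFun := fun t => ⟨⟨t, t.2.1⟩, Subgroup.mem_center_iff.2 fun v =>
        Subtype.ext (Subgroup.mem_centralizer_iff.1 t.2.2 (v : G) v.2)⟩
      invFun := fun t => ⟨((t : P) : G), (t : P).2, Subgroup.mem_centralizer_iff.2 fun v hv =>
        congrArg Subtype.val (Subgroup.mem_center_iff.1 t.2 ⟨v, hv⟩)⟩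
      left_inv := fun _ => rfl
      right_inv := fun _ => rfl }

/-- The mean of the diagonal contribution over the generators is at least `p ^ h`. -/
theorem diag_lower [Fact p.Prime] (hM : IsPModular p M) {a : BrauerPairIdx G} {y : G}
    (hy : ∃ k, orderOf y = p ^ k) (hay : a.1 = Subgroup.zpowers y) (haB : OfB p M B a)
    (hd : blockDefect p a.2 = blockDefect p B) [Fintype a.1] [DecidableEq a.1]
    {χ : IrrCharacter G} (hχ : χ ∈ B) :
    ((Finset.univ.filter (fun u : a.1 => orderOf u = Nat.card a.1)).card : ℝ) *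
        (p : ℝ) ^ blockHeight p B (χ : G → ℂ) ≤
      ∑ u ∈ Finset.univ.filter (fun u : a.1 => orderOf u = Nat.card a.1),
        (contrib p (blockDefect p B) a (u : G) χ χ).re := by
  classical
  have hp : p.Prime := Fact.out
  set d := blockDefect p B with hddef
  set h := blockHeight p B (χ : G → ℂ) with hh
  set s := Finset.univ.filter (fun u : a.1 => orderOf u = Nat.card a.1) with hs
  have hcomm : a.1 ≤ CG a.1 := by
    rw [hay]; exact Subgroup.zpowers_le.2 (hay ▸ self_mem_cg hay)
  have hord : ∀ u ∈ s, orderOf u = Nat.card a.1 := fun u hu => (Finset.mem_filter.1 hu).2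
  have hgen : ∀ u ∈ s, (∃ k, orderOf (u : G) = p ^ k) ∧ a.1 = Subgroup.zpowers (u : G) := by
    intro u hu
    have hu' : orderOf (u : G) = Nat.card a.1 := by
      rw [Subgroup.orderOf_coe]; exact hord u hu
    obtain ⟨k, hk⟩ := hy
    refine ⟨⟨k, by rw [hu', hay, Nat.card_zpowers, hk]⟩, ?_⟩
    exact (Subgroup.eq_of_le_of_card_ge (Subgroup.zpowers_le.2 u.2)
      (by rw [Nat.card_zpowers, hu'])).symm
  have hpow : ∀ u : a.1, ∀ k : ℕ, (Nat.card a.1).Coprime k → (u ^ k ∈ s ↔ u ∈ s) := by
    intro u k hk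
    simp only [s, Finset.mem_filter, Finset.mem_univ, true_and]
    rw [((hk.coprime_dvd_left (orderOf_dvd_natCard u))).orderOf_pow]
  choose r hr0 hr using fun u : a.1 => contrib_self_nonneg p d a (u : G) χ
  have hre : ∀ u : a.1, (contrib p d a (u : G) χ χ).re = r u := fun u => by
    rw [hr, Complex.ofReal_re]
  rw [Finset.sum_congr rfl fun u _ => hre u]
  obtain ⟨θ, hθ, hθv⟩ := exists_contrib_genChar hM a haB.1.2 hcomm χ χ
  rw [hd] at hθv
  obtain ⟨ψ₀, hψ₀, h00⟩ := exists_height_zero hM haB.2.1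
  have hpos : ∀ u ∈ s, 0 < r u := by
    intro u hu
    refine (hr0 u).lt_of_ne fun h0 => ?_
    have hz : (p : ℂ) ^ d * secT p (χ : G → ℂ) (χ : G → ℂ) a (u : G) = 0 := by
      have h1 := hr u
      rw [← h0, Complex.ofReal_zero, contrib, div_eq_zero_iff] at h1
      exact h1.resolve_right (Nat.cast_ne_zero.2 Nat.card_pos.ne')
    have hz' := (mul_eq_zero.1 hz).resolve_left (pow_ne_zero _ (Nat.cast_ne_zero.2 hp.ne_zero))
    simp only [secT, Complex.mul_conj] at hz'
    have hz'' : ∑ v ∈ regs p a.1, Complex.normSq (sct (χ : G → ℂ) a (u : G) v) = 0 := by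
      exact_mod_cast hz'
    have hall := (Finset.sum_eq_zero_iff_of_nonneg fun v _ => Complex.normSq_nonneg _).1 hz''
    refine (contrib_height hM (hgen u hu).1 (hgen u hu).2 haB hd (η := ψ₀) hχ).2.1 hψ₀ h00 ?_
    have : secT p (χ : G → ℂ) (ψ₀ : G → ℂ) a (u : G) = 0 :=
      Finset.sum_eq_zero fun v hv => by rw [Complex.normSq_eq_zero.1 (hall v hv), zero_mul]
    simpa [contrib, this] using ideal_zero hM
  set t : a.1 → ℝ := fun u => r u / (p : ℝ) ^ h with ht
  have hP : (0 : ℝ) < (p : ℝ) ^ h := pow_pos (Nat.cast_pos.2 hp.pos) _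
  obtain ⟨z, hz⟩ := IsGenChar.exists_int_prod hθ s hord hpow
  have hz' : ∏ u ∈ s, (r u : ℂ) = (z : ℂ) := by
    rw [← hz]
    exact Finset.prod_congr rfl fun u _ => by rw [hθv, hr]
  have hring : MemLocalRing M ((z : ℂ) / (p : ℂ) ^ (h * s.card)) := by
    suffices hall : ∀ T : Finset a.1, T ⊆ s →
        MemLocalRing M (∏ u ∈ T, contrib p d a (u : G) χ χ / (p : ℂ) ^ h) by
      have h1 := hall s le_rfl
      rw [Finset.prod_div_distrib, Finset.prod_const, ← pow_mul,
        Finset.prod_congr rfl fun u _ => hr u, hz'] at h1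
      exact h1
    intro T
    induction T using Finset.induction with
    | empty => exact fun _ => by simpa using ring_one hM
    | insert u T hu ih =>
      intro hT
      rw [Finset.prod_insert hu]
      have hus := hT (Finset.mem_insert_self u T)
      exact ring_mul hM (contrib_height hM (hgen u hus).1 (hgen u hus).2 haB hd (η := χ) hχ).1
        (ih fun v hv => hT (Finset.mem_insert_of_mem hv))
  obtain ⟨w, rfl⟩ := pow_dvd_of_ring_div hM _ z hring
  have hzR : ∏ u ∈ s, r u = (p : ℝ) ^ (h * s.card) * (w : ℝ) := by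
    refine Complex.ofReal_inj.1 ?_
    push_cast
    rw [hz']
    push_cast
    ring
  have hw : (1 : ℝ) ≤ (w : ℝ) := by
    have h1 : (0 : ℝ) < (p : ℝ) ^ (h * s.card) * (w : ℝ) := hzR ▸ Finset.prod_pos hpos
    have h2 : (0 : ℝ) < (w : ℝ) :=
      pos_of_mul_pos_right h1 (pow_nonneg (Nat.cast_nonneg p) _)
    exact_mod_cast (show (0 : ℤ) < w by exact_mod_cast h2)
  have hsum := card_le_sum_of_one_le_prod s t (fun u hu => div_pos (hpos u hu) hP) (by
    simp only [ht, Finset.prod_div_distrib, Finset.prod_const, ← pow_mul, hzR]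
    rwa [mul_div_cancel_left₀ _ (pow_pos (Nat.cast_pos.2 hp.pos) _).ne'])
  simp only [ht, ← Finset.sum_div] at hsum
  exact (le_div_iff₀ hP).1 hsum

/-- The height against the order of the centre of a defect group and the inertial index. -/
theorem height_central_bound [Fact p.Prime] (hM : IsPModular p M) {x : BrauerPairIdx G}
    (hx : IsMx p M B x) {χ : IrrCharacter G} (hχ : χ ∈ B) :
    p ^ blockHeight p B (χ : G → ℂ) * Nat.card (Subgroup.center x.1) ≤
      p ^ blockDefect p B * (x.1 ⊔ CG x.1).relIndex (stab x) := by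
  classical
  have hp : p.Prime := Fact.out
  set d := blockDefect p B with hddef
  set h := blockHeight p B (χ : G → ℂ) with hh
  set K := x.1 ⊔ CG x.1 with hK
  set e := K.relIndex (stab x) with he
  set Z := Finset.univ.filter (fun u : G => u ∈ x.1 ⊓ CG x.1) with hZ
  have memZ : ∀ u, u ∈ Z ↔ u ∈ x.1 ∧ u ∈ CG x.1 := fun u => by
    simp [hZ, Subgroup.mem_inf]
  have hex : ∀ u : G, ∃ a : BrauerPairIdx G,
      u ∈ Z → a.1 = Subgroup.zpowers u ∧ LE p M a x := fun u => by
    by_cases hu : u ∈ Z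
    · obtain ⟨a, ha1, ha2⟩ := exists_le hM hx.1.1 (Q := Subgroup.zpowers u)
        (Subgroup.zpowers_le.2 ((memZ u).1 hu).1)
      exact ⟨a, fun _ => ⟨ha1, ha2⟩⟩
    · exact ⟨x, fun h' => absurd h' hu⟩
  choose au hau using hex
  have hord : ∀ u ∈ Z, ∃ k, orderOf u = p ^ k := fun u hu =>
    pPow_of_mem hx.1.1.1 ((memZ u).1 hu).1
  have hofb : ∀ u ∈ Z, OfB p M B (au u) := fun u hu => (ofB_le hM (hau u hu).2).1 hx.1
  have hCx : ∀ u ∈ Z, x.1 ≤ CG (au u).1 := fun u hu v hv => by
    rw [(hau u hu).1, cg_zpowers]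
    exact Subgroup.mem_centralizer_singleton_iff.2
      (Subgroup.mem_centralizer_iff.1 ((memZ u).1 hu).2 v hv)
  have hdef : ∀ u ∈ Z, blockDefect p (au u).2 = d := fun u hu =>
    blockDefect_of_le_major hM hx (hau u hu).2 (hCx u hu)
  set T : G → ℝ := fun u => (contrib p d (au u) u χ χ).re with hT
  -- the lower bound
  have hlower : (Z.card : ℝ) * (p : ℝ) ^ h ≤ ∑ u ∈ Z, T u := by
    rw [← Finset.sum_fiberwise_of_maps_to
      (g := fun u => Subgroup.zpowers u) (t := Z.image fun u => Subgroup.zpowers u)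
      fun u hu => Finset.mem_image_of_mem _ hu,
      Finset.card_eq_sum_card_fiberwise (f := fun u => Subgroup.zpowers u)
        (t := Z.image fun u => Subgroup.zpowers u) fun u hu => Finset.mem_image_of_mem _ hu,
      Nat.cast_sum, Finset.sum_mul]
    refine Finset.sum_le_sum fun Q hQ => ?_
    obtain ⟨u₀, hu₀, rfl⟩ := Finset.mem_image.1 hQ
    set a := au u₀ with ha
    have hay := (hau u₀ hu₀).1
    letI := Fintype.ofFinite a.1
    have hfib : ∀ u : G, u ∈ Z.filter (fun u => Subgroup.zpowers u = Subgroup.zpowers u₀) ↔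
        ∃ v : a.1, orderOf v = Nat.card a.1 ∧ (v : G) = u := by
      intro u
      rw [Finset.mem_filter]
      constructor
      · rintro ⟨-, heq⟩
        have hmem : u ∈ a.1 := (SetLike.ext_iff.1 hay u).2 (heq ▸ Subgroup.mem_zpowers u)
        refine ⟨⟨u, hmem⟩, ?_, rfl⟩
        rw [Subgroup.orderOf_mk, hay, ← heq, Nat.card_zpowers]
      · rintro ⟨v, hv, rfl⟩
        have hvmem : (v : G) ∈ Subgroup.zpowers u₀ := (SetLike.ext_iff.1 hay _).1 v.2
        refine ⟨(memZ _).2 ⟨Subgroup.zpowers_le.2 ((memZ u₀).1 hu₀).1 hvmem,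
          Subgroup.zpowers_le.2 ((memZ u₀).1 hu₀).2 hvmem⟩, ?_⟩
        refine Subgroup.eq_of_le_of_card_ge (Subgroup.zpowers_le.2 hvmem) ?_
        rw [Nat.card_zpowers (v : G), Subgroup.orderOf_coe, hv, hay]
    have key := diag_lower hM (hord u₀ hu₀) hay (hofb u₀ hu₀) (hdef u₀ hu₀) (χ := χ) hχ
    have e1 : Z.filter (fun u => Subgroup.zpowers u = Subgroup.zpowers u₀) =
        (Finset.univ.filter (fun v : a.1 => orderOf v = Nat.card a.1)).map
          ⟨Subtype.val, Subtype.val_injective⟩ := by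
      ext u
      simp only [hfib, Finset.mem_map, Finset.mem_filter, Finset.mem_univ, true_and,
        Function.Embedding.coeFn_mk]
    rw [e1, Finset.card_map, Finset.sum_map]
    refine key.trans_eq (Finset.sum_congr rfl fun v hv => ?_)
    have hvZ : (v : G) ∈ Z.filter (fun u => Subgroup.zpowers u = Subgroup.zpowers u₀) :=
      (hfib _).2 ⟨v, (Finset.mem_filter.1 hv).2, rfl⟩
    obtain ⟨hvZ, hveq⟩ := Finset.mem_filter.1 hvZ
    have heq : au (v : G) = a := le_unique hM (hau _ hvZ).2 (hau u₀ hu₀).2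
      (((hau _ hvZ).1.trans hveq).trans hay.symm)
    simp only [Function.Embedding.coeFn_mk, hT]
    rw [heq]
  -- the upper bound
  set S : G × BrauerPairIdx G → ℝ := fun s =>
    ∑ v ∈ regs p s.2.1, Complex.normSq (sct (χ : G → ℂ) s.2 s.1 v) with hS
  have hS0 : ∀ s, 0 ≤ S s := fun s => Finset.sum_nonneg fun v _ => Complex.normSq_nonneg _
  have hSsec : ∀ s : G × BrauerPairIdx G,
      secT p (χ : G → ℂ) (χ : G → ℂ) s.2 s.1 = (S s : ℂ) := fun s => by
    simp only [hS, secT, Complex.mul_conj, Complex.ofReal_sum]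
  have htot : ∑ s ∈ secs p M B, S s = (Nat.card G : ℝ) := by
    refine Complex.ofReal_inj.1 ?_
    push_cast
    rw [← Finset.sum_congr rfl fun s _ => hSsec s, ← sum_eq_sum_secs hM hx.1.2.1 hχ hχ]
    have h1 := classInner_self_irr χ.2
    rw [classInner, inv_mul_eq_iff_eq_mul₀ (Nat.cast_ne_zero.2 Nat.card_pos.ne'), mul_one] at h1
    exact h1
  set C : G → ℝ := fun u => (Nat.card (Subgroup.centralizer ({u} : Set G)) : ℝ) with hC
  have hC0 : ∀ u, 0 < C u := fun u => Nat.cast_pos.2 Nat.card_pos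
  let π : G × G → G × BrauerPairIdx G := fun t => (t.1 * t.2 * t.1⁻¹, cjI t.1 (au t.2))
  have hπ : ∀ t ∈ (Finset.univ : Finset G) ×ˢ Z, π t ∈ secs p M B := by
    rintro ⟨g, u⟩ ht
    have hu := (Finset.mem_product.1 ht).2
    refine mem_secs.2 ⟨?_, ?_, ofB_cjI hM (hofb u hu) g⟩
    · obtain ⟨k, hk⟩ := hord u hu
      exact ⟨k, by rw [← hk]; exact MulEquiv.orderOf_eq (MulAut.conj g) u⟩
    · show ((au u).1).map (MulAut.conj g).toMonoidHom = _
      rw [(hau u hu).1, MonoidHom.map_zpowers]
      rfl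
  have hupper : ∑ u ∈ Z, S (u, au u) / C u ≤ (e : ℝ) := by
    have h1 : (Nat.card G : ℝ) * ∑ u ∈ Z, S (u, au u) / C u =
        ∑ t ∈ (Finset.univ : Finset G) ×ˢ Z, S (π t) / C t.2 := by
      rw [Finset.sum_product, Nat.card_eq_fintype_card, ← Finset.card_univ, ← nsmul_eq_mul,
        ← Finset.sum_const]
      refine Finset.sum_congr rfl fun g _ => Finset.sum_congr rfl fun u _ => ?_
      congr 1
      have h2 := secT_conj (p := p) (irr_classFun χ) (irr_classFun χ) (au u) g u
      rw [hSsec (g * u * g⁻¹, cjI g (au u)), hSsec (u, au u)] at h2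
      exact_mod_cast h2.symm
    have h2 : ∑ t ∈ (Finset.univ : Finset G) ×ˢ Z, S (π t) / C t.2 ≤
        ∑ s ∈ secs p M B, (e : ℝ) * S s := by
      rw [← Finset.sum_fiberwise_of_maps_to hπ]
      refine Finset.sum_le_sum fun s _ => ?_
      set F := ((Finset.univ : Finset G) ×ˢ Z).filter (fun t => π t = s) with hF
      rcases F.eq_empty_or_nonempty with hF0 | ⟨⟨g₁, u₁⟩, ht₁⟩
      · rw [hF0, Finset.sum_empty]; exact mul_nonneg (Nat.cast_nonneg _) (hS0 s)
      obtain ⟨ht₁', hs₁⟩ := Finset.mem_filter.1 ht₁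
      have hu₁ := (Finset.mem_product.1 ht₁').2
      set C₁ := Subgroup.centralizer ({u₁} : Set G) with hC₁
      have hKC : K ≤ C₁ := by
        refine sup_le (fun v hv => ?_) fun v hv => ?_
        · rw [hC₁, ← cg_zpowers, ← (hau u₁ hu₁).1]
          exact hCx u₁ hu₁ hv
        · rw [hC₁]
          exact Subgroup.mem_centralizer_singleton_iff.2
            (Subgroup.mem_centralizer_iff.1 hv u₁ ((memZ u₁).1 hu₁).1).symm
      let img : (stab x ⧸ K.subgroupOf (stab x)) × C₁ → G × G := fun qc =>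
        (g₁ * (qc.2 : G) * (qc.1.out : G)⁻¹, (qc.1.out : G) * u₁ * (qc.1.out : G)⁻¹)
      have hsub : ∀ t ∈ F, ∃ qc, img qc = t := by
        rintro ⟨g, u⟩ ht
        obtain ⟨ht', hs⟩ := Finset.mem_filter.1 ht
        have hu := (Finset.mem_product.1 ht').2
        have hπ' : π (g, u) = π (g₁, u₁) := hs.trans hs₁.symm
        have hx1 : g * u * g⁻¹ = g₁ * u₁ * g₁⁻¹ := congrArg Prod.fst hπ'
        have ha1 : cjI g (au u) = cjI g₁ (au u₁) := congrArg Prod.snd hπ'
        have hcj : cjI (g⁻¹ * g₁) (au u₁) = au u := by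
          rw [← cjI_cjI, ← ha1, cjI_inv_cancel]
        obtain ⟨m, hm, c, hc, hmc⟩ := le_conj_major hM hx (hau u₁ hu₁).2 (hCx u₁ hu₁)
          (t := g⁻¹ * g₁) (by rw [hcj]; exact (hau u hu).2) (by rw [hcj]; exact hCx u hu)
        rw [(hau u₁ hu₁).1, cg_zpowers] at hc
        obtain ⟨k, hk⟩ := QuotientGroup.mk_out_eq_mul (K.subgroupOf (stab x)) ⟨m, hm⟩
        set q : stab x ⧸ K.subgroupOf (stab x) := QuotientGroup.mk ⟨m, hm⟩ with hq
        have hk' : (q.out : G) = m * ((k : stab x) : G) := by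
          rw [hk]; rfl
        have hkC : ((k : stab x) : G) ∈ C₁ := hKC (Subgroup.mem_subgroupOf.1 k.2)
        refine ⟨(q, ⟨c⁻¹ * ((k : stab x) : G), mul_mem (inv_mem hc) hkC⟩), ?_⟩
        have hcu := Subgroup.mem_centralizer_singleton_iff.1 hc
        have hku := Subgroup.mem_centralizer_singleton_iff.1 hkC
        have hu' : u = (g⁻¹ * g₁) * u₁ * (g⁻¹ * g₁)⁻¹ := by
          calc u = g⁻¹ * (g * u * g⁻¹) * g := by group
            _ = _ := by rw [hx1]; group
        refine Prod.ext ?_ ?_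
        · show g₁ * (c⁻¹ * ((k : stab x) : G)) * (q.out : G)⁻¹ = g
          rw [hk']
          calc g₁ * (c⁻¹ * ((k : stab x) : G)) * (m * ((k : stab x) : G))⁻¹
              = g₁ * (m * c)⁻¹ := by group
            _ = g := by rw [← hmc]; group
        · show (q.out : G) * u₁ * (q.out : G)⁻¹ = u
          rw [hk', hu', hmc]
          calc m * ((k : stab x) : G) * u₁ * (m * ((k : stab x) : G))⁻¹
              = m * (((k : stab x) : G) * u₁ * ((k : stab x) : G)⁻¹) * m⁻¹ := by group
            _ = m * (c * u₁ * c⁻¹) * m⁻¹ := by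
                rw [hku, mul_inv_cancel_right, hcu, mul_inv_cancel_right]
            _ = _ := by group
      have hcardF : F.card ≤ e * Nat.card C₁ := by
        letI := Fintype.ofFinite ((stab x ⧸ K.subgroupOf (stab x)) × C₁)
        calc F.card ≤ (Finset.univ.image img).card := Finset.card_le_card fun t ht => by
              obtain ⟨qc, hqc⟩ := hsub t ht
              exact Finset.mem_image.2 ⟨qc, Finset.mem_univ _, hqc⟩
          _ ≤ (Finset.univ : Finset ((stab x ⧸ K.subgroupOf (stab x)) × C₁)).card :=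
              Finset.card_image_le
          _ = _ := by
              rw [Finset.card_univ, ← Nat.card_eq_fintype_card, Nat.card_prod]
              rfl
      have hterm : ∀ t ∈ F, S (π t) / C t.2 = S s / C u₁ := by
        intro t ht
        obtain ⟨qc, hqc⟩ := hsub t ht
        have hCt : C t.2 = C u₁ := by
          rw [← hqc]
          simp only [hC, img]
          refine congrArg Nat.cast ?_
          rw [← cg_zpowers, ← cg_zpowers]
          refine (Nat.card_congr (conjIso (qc.1.out : G) ?_).toEquiv).symm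
          intro v
          rw [show Subgroup.zpowers ((qc.1.out : G) * u₁ * (qc.1.out : G)⁻¹) =
            (Subgroup.zpowers u₁).map (MulAut.conj (qc.1.out : G)).toMonoidHom by
              rw [MonoidHom.map_zpowers]; rfl]
          exact cg_map_conj _ _ v
        rw [(Finset.mem_filter.1 ht).2, hCt]
      rw [Finset.sum_congr rfl hterm, Finset.sum_const, nsmul_eq_mul]
      calc (F.card : ℝ) * (S s / C u₁) ≤ ((e : ℝ) * C u₁) * (S s / C u₁) :=
            mul_le_mul_of_nonneg_right (by simp only [hC]; exact_mod_cast hcardF)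
              (div_nonneg (hS0 s) (hC0 u₁).le)
        _ = _ := by field_simp [(hC0 u₁).ne']
    rw [← h1, ← Finset.mul_sum, htot] at h2
    refine le_of_mul_le_mul_left ?_ (show (0 : ℝ) < (Nat.card G : ℝ) from Nat.cast_pos.2 Nat.card_pos)
    linarith
  have hTS : ∀ u ∈ Z, T u = (p : ℝ) ^ d * (S (u, au u) / C u) := by
    intro u hu
    have hsec : secT p (χ : G → ℂ) (χ : G → ℂ) (au u) u = (S (u, au u) : ℂ) := hSsec (u, au u)
    simp only [hT, contrib, hsec]
    rw [(hau u hu).1, cg_zpowers, show (p : ℂ) ^ d * (S (u, au u) : ℂ) /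
      (Nat.card (Subgroup.centralizer ({u} : Set G)) : ℂ) =
      (((p : ℝ) ^ d * (S (u, au u) / C u) : ℝ) : ℂ) by
        simp only [hC]; push_cast; ring, Complex.ofReal_re]
  have hfin : (Z.card : ℝ) * (p : ℝ) ^ h ≤ (p : ℝ) ^ d * (e : ℝ) := by
    refine hlower.trans ?_
    rw [Finset.sum_congr rfl hTS, ← Finset.mul_sum]
    exact mul_le_mul_of_nonneg_left hupper (pow_nonneg (Nat.cast_nonneg p) _)
  have hZc : Z.card = Nat.card (Subgroup.center x.1) := by
    rw [← card_inf_cg_center, Nat.card_eq_fintype_card]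
    exact (Fintype.card_of_subtype Z fun u => by simp [hZ]).symm
  rw [mul_comm, ← hZc]
  exact_mod_cast hfin

/-- The bound with the inertial index of the induced form. -/
theorem height_central_induced [Fact p.Prime] (hM : IsPModular p M) {D : Subgroup G}
    (hD : IsDefectGroup p M B D) {H : Subgroup G} [Fintype H] (hH : H = D ⊔ CG D)
    {b : Set (IrrCharacter H)} (hind : IsInducedBlock M H b B) {T : Subgroup G}
    (hT : ∀ g : G, g ∈ T ↔ (g ∈ Subgroup.normalizer (D : Set G) ∧
      ∀ θ ∈ b, ∀ θ' : IrrCharacter H, (∀ h h' : H, (h' : G) = g * h * g⁻¹ →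
        (θ' : H → ℂ) h' = (θ : H → ℂ) h) → θ' ∈ b))
    {χ : IrrCharacter G} (hχ : χ ∈ B) :
    p ^ blockHeight p B (χ : G → ℂ) * Nat.card (Subgroup.center D) ≤
      p ^ blockDefect p B * H.relIndex T := by
  classical
  have hp : p.Prime := Fact.out
  haveI := FullDefect.normal_sub hH
  have hDH : D ≤ H := hH ▸ le_sup_left
  obtain ⟨D₀, hD₀⟩ := exists_isDefectGroup hM hind.1
  have hpD : IsPGroup p (D.subgroupOf H) :=
    (IsDefectGroup.isPGroup hD).of_equiv (Subgroup.subgroupOfEquivOfLe hDH).symm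
  have hle := normal_le_defectGroup hM hind.1 hD₀ hpD
  have hDle : D ≤ D₀.map H.subtype := by
    rw [← Subgroup.map_subgroupOf_eq_of_le hDH]
    exact Subgroup.map_mono hle
  obtain ⟨D', hD', hD'le, -⟩ := IndDefect.exists_defect hM hind hD₀
    ((Subgroup.centralizer_le hDle).trans (FullDefect.cg_le hH))
  have hcard : Nat.card D₀ ≤ Nat.card (D.subgroupOf H) := by
    rw [Nat.card_congr (Subgroup.subgroupOfEquivOfLe hDH).toEquiv, card_defectGroup hM hind.2.1 hD,
      ← card_defectGroup hM hind.2.1 hD', ← Subgroup.card_map_of_injective H.subtype_injective]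
    exact Subgroup.card_le_of_le hD'le
  obtain rfl := Subgroup.eq_of_le_of_card_ge hle hcard
  obtain ⟨⟨Q, f⟩, hQ, hof, -, hst⟩ := FullDefect.exists_pair hM hH hind.1 hD₀ hind
  obtain rfl : Q = D := hQ
  have hx : IsMx p M B (⟨Q, f⟩ : BrauerPairIdx G) := max_of_defect hM hof hD
  have hTeq : stab (⟨Q, f⟩ : BrauerPairIdx G) = T := by
    ext g
    rw [mem_stab_iff hM hof.1.2, hT]
    exact and_congr_right fun hg => hst g hg
  have := height_central_bound hM hx hχ
  rw [hTeq, ← hH] at this
  exact this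

end Cfsg.Agent.Char.Spec
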