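import Cfsg.Agent.Lib.Char.RegularIntegral
import Mathlib.LinearAlgebra.FreeModule.PID
import Mathlib.LinearAlgebra.Matrix.ToLinearEquiv
import Cfsg.Prelude.Def_BlockRank

/-!
The lattice spanned by the regular restrictions of a block: it has no more generators than the rank
of the block; a reduced pair of generators when the rank is at most two.
-/

open scoped ComplexConjugate

namespace Cfsg.Agent.Char.Lattice

open Cfsg.Agent.Block

set_option linter.unusedSectionVars false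
set_option linter.style.haveILetI false

universe u

variable {H : Type u} [Group H] [Fintype H] {p : ℕ} {M : Ideal AlgInt}
variable {b : Set (IrrCharacter H)} [DecidablePred (· ∈ b)]

/-- An integral combination of the members of `b`. -/
noncomputable def comb (b : Set (IrrCharacter H)) [DecidablePred (· ∈ b)] (n : IrrCharacter H → ℤ)
    (v : H) : ℂ := ∑ ξ ∈ Finset.univ.filter (· ∈ b), (n ξ : ℂ) * (ξ : H → ℂ) v

/-- The form of a regular pairing matrix on integral combinations. -/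
noncomputable def frm (b : Set (IrrCharacter H)) [DecidablePred (· ∈ b)]
    (w : IrrCharacter H → IrrCharacter H → ℤ) (n n' : IrrCharacter H → ℤ) : ℤ :=
  ∑ ξ ∈ Finset.univ.filter (· ∈ b), ∑ ξ' ∈ Finset.univ.filter (· ∈ b), n ξ * n' ξ' * w ξ ξ'

theorem pRegularPart_apply (χ : H → ℂ) (v : H) :
    pRegularPart p χ v = if ¬ p ∣ orderOf v then χ v else 0 := by
  by_cases hv : ¬ p ∣ orderOf v <;> simp [pRegularPart, IsPRegular, hv]

theorem conj_comb_pair (n n' : IrrCharacter H → ℤ) (v : H) :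
    comb b n v * conj (comb b n' v) =
      ∑ ξ ∈ Finset.univ.filter (· ∈ b), ∑ ξ' ∈ Finset.univ.filter (· ∈ b),
        (n ξ : ℂ) * (n' ξ' : ℂ) * ((ξ : H → ℂ) v * conj ((ξ' : H → ℂ) v)) := by
  simp only [comb, map_sum, map_mul, map_intCast, Finset.sum_mul, Finset.mul_sum]
  rw [Finset.sum_comm]
  exact Finset.sum_congr rfl fun ξ _ => Finset.sum_congr rfl fun ξ' _ => by ring

theorem regSum_comb {w : IrrCharacter H → IrrCharacter H → ℤ}
    (hw : ∀ ξ ∈ b, ∀ χ ∈ b, regSum p (ξ : H → ℂ) (χ : H → ℂ) * ((p : ℂ) ^ blockDefect p b) =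
      (Nat.card H : ℂ) * (w ξ χ : ℂ)) (n n' : IrrCharacter H → ℤ) :
    regSum p (comb b n) (comb b n') * (p : ℂ) ^ blockDefect p b =
      (Nat.card H : ℂ) * (frm b w n n' : ℂ) := by
  classical
  rw [regSum_eq_sum, Finset.sum_congr rfl fun v _ => conj_comb_pair n n' v, frm]
  push_cast
  rw [Finset.sum_comm, Finset.sum_mul, Finset.mul_sum]
  refine Finset.sum_congr rfl fun ξ hξ => ?_
  rw [Finset.sum_comm, Finset.sum_mul, Finset.mul_sum]
  refine Finset.sum_congr rfl fun ξ' hξ' => ?_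
  have h := hw ξ (Finset.mem_filter.1 hξ).2 ξ' (Finset.mem_filter.1 hξ').2
  rw [regSum_eq_sum] at h
  calc _ = (n ξ : ℂ) * (n' ξ' : ℂ) * ((∑ v ∈ Finset.univ.filter (fun v : H => ¬ p ∣ orderOf v),
        (ξ : H → ℂ) v * conj ((ξ' : H → ℂ) v)) * (p : ℂ) ^ blockDefect p b) := by
        rw [← Finset.mul_sum]; ring
    _ = _ := by rw [h]; ring

theorem frm_self (hp : p ≠ 0) {w : IrrCharacter H → IrrCharacter H → ℤ}
    (hw : ∀ ξ ∈ b, ∀ χ ∈ b, regSum p (ξ : H → ℂ) (χ : H → ℂ) * ((p : ℂ) ^ blockDefect p b) =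
      (Nat.card H : ℂ) * (w ξ χ : ℂ)) (n : IrrCharacter H → ℤ) :
    0 ≤ frm b w n n ∧ (frm b w n n = 0 → ∀ v : H, ¬ p ∣ orderOf v → comb b n v = 0) := by
  classical
  set S : ℝ := ∑ v ∈ Finset.univ.filter (fun v : H => ¬ p ∣ orderOf v),
    Complex.normSq (comb b n v) with hS
  have h := regSum_comb hw n n
  rw [regSum_eq_sum] at h
  simp only [Complex.mul_conj] at h
  have h1 : S * (p : ℝ) ^ blockDefect p b = (Nat.card H : ℝ) * (frm b w n n : ℝ) := by
    refine Complex.ofReal_inj.1 ?_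
    rw [hS]
    push_cast
    exact h
  have hC : (0 : ℝ) < (Nat.card H : ℝ) := Nat.cast_pos.2 Nat.card_pos
  have hP : (0 : ℝ) < (p : ℝ) ^ blockDefect p b :=
    pow_pos (Nat.cast_pos.2 (Nat.pos_of_ne_zero hp)) _
  refine ⟨?_, fun h0 v hv => ?_⟩
  · have h2 : (0 : ℝ) ≤ (frm b w n n : ℝ) := by
      have : 0 ≤ (Nat.card H : ℝ) * (frm b w n n : ℝ) :=
        h1 ▸ mul_nonneg (Finset.sum_nonneg fun v _ => Complex.normSq_nonneg _) hP.le
      exact nonneg_of_mul_nonneg_right this hC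
    exact_mod_cast h2
  · rw [h0, Int.cast_zero, mul_zero, mul_eq_zero] at h1
    have hS0 := h1.resolve_right hP.ne'
    exact Complex.normSq_eq_zero.1 ((Finset.sum_eq_zero_iff_of_nonneg
      fun v _ => Complex.normSq_nonneg _).1 hS0 v (Finset.mem_filter.2 ⟨Finset.mem_univ _, hv⟩))

/-- Generators of the lattice, no more than the rank. -/
theorem exists_generators [Fact p.Prime] {w : IrrCharacter H → IrrCharacter H → ℤ}
    (hw : ∀ ξ ∈ b, ∀ χ ∈ b, regSum p (ξ : H → ℂ) (χ : H → ℂ) * ((p : ℂ) ^ blockDefect p b) =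
      (Nat.card H : ℂ) * (w ξ χ : ℂ)) :
    ∃ (r : ℕ) (n : Fin r → IrrCharacter H → ℤ), r ≤ blockRank p b ∧
      ∀ ξ ∈ b, ∃ k : Fin r → ℤ, ∀ v : H, ¬ p ∣ orderOf v →
        (ξ : H → ℂ) v = ∑ i, (k i : ℂ) * comb b (n i) v := by
  classical
  have hp : p.Prime := Fact.out
  set A := Finset.univ.filter (· ∈ b) with hA
  let f : A → (H → ℂ) := fun ξ => pRegularPart p ((ξ : IrrCharacter H) : H → ℂ)
  set L := Submodule.span ℤ (Set.range f) with hL
  haveI : Module.Finite ℤ L := Module.Finite.span_of_finite ℤ (Set.finite_range f)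
  haveI : Module.Free ℤ L := Module.free_of_finite_type_torsion_free'
  set r := Module.finrank ℤ L
  let bs : Module.Basis (Fin r) ℤ L := Module.finBasis ℤ L
  have hn : ∀ i, ∃ c : A → ℤ, ∑ ξ, c ξ • f ξ = (bs i : H → ℂ) := fun i =>
    (Submodule.mem_span_range_iff_exists_fun ℤ).1 (bs i).2
  choose c hc using hn
  set n : Fin r → IrrCharacter H → ℤ := fun i ξ => if h : ξ ∈ A then c i ⟨ξ, h⟩ else 0 with hndef
  have hval : ∀ i v, (bs i : H → ℂ) v = if ¬ p ∣ orderOf v then comb b (n i) v else 0 := by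
    intro i v
    have hf : ∀ ξ, f ξ v = if ¬ p ∣ orderOf v then (ξ : IrrCharacter H).1 v else 0 :=
      fun ξ => pRegularPart_apply _ _
    rw [← hc i, Finset.sum_apply]
    simp only [Pi.smul_apply, hf, zsmul_eq_mul]
    by_cases hv : ¬ p ∣ orderOf v
    · simp only [if_pos hv]
      rw [comb, ← hA, ← Finset.sum_coe_sort A]
      exact Finset.sum_congr rfl fun ξ _ => by simp [hndef]
    · simp [if_neg hv]
  refine ⟨r, n, ?_, fun ξ hξ => ?_⟩
  · -- independence over the complex numbers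
    let e : Fin r → (H → ℂ) := fun i => (bs i : H → ℂ)
    have hli : LinearIndependent ℤ e :=
      bs.linearIndependent.map' L.subtype (Submodule.ker_subtype L)
    set Gm : Matrix (Fin r) (Fin r) ℤ := fun i j => frm b w (n i) (n j) with hGm
    have hdet : Gm.det ≠ 0 := by
      intro hd
      obtain ⟨k, hk, hk0⟩ := Matrix.exists_mulVec_eq_zero_iff.2 hd
      set N : IrrCharacter H → ℤ := fun ξ => ∑ i, k i * n i ξ with hN
      have hq : frm b w N N = ∑ i, k i * Gm.mulVec k i := by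
        calc frm b w N N = ∑ ξ ∈ A, ∑ ξ' ∈ A, ∑ i, ∑ j, k i * n i ξ * (k j * n j ξ') * w ξ ξ' := by
              rw [frm]
              refine Finset.sum_congr rfl fun ξ _ => Finset.sum_congr rfl fun ξ' _ => ?_
              simp only [hN, Finset.sum_mul, Finset.mul_sum]
              exact Finset.sum_comm
          _ = ∑ i, ∑ j, ∑ ξ ∈ A, ∑ ξ' ∈ A, k i * n i ξ * (k j * n j ξ') * w ξ ξ' := by
              rw [Finset.sum_congr rfl fun ξ _ => Finset.sum_comm, Finset.sum_comm]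
              refine Finset.sum_congr rfl fun i _ => ?_
              rw [Finset.sum_congr rfl fun ξ _ => Finset.sum_comm, Finset.sum_comm]
          _ = _ := by
              simp only [Matrix.mulVec, dotProduct, hGm, frm, Finset.mul_sum, Finset.sum_mul]
              exact Finset.sum_congr rfl fun i _ => Finset.sum_congr rfl fun j _ =>
                Finset.sum_congr rfl fun ξ _ => Finset.sum_congr rfl fun ξ' _ => by ring
      rw [hk0] at hq
      simp only [Pi.zero_apply, mul_zero, Finset.sum_const_zero] at hq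
      have hz := (frm_self hp.ne_zero hw N).2 hq
      refine hk (funext fun i => Fintype.linearIndependent_iff.1 hli k ?_ i)
      funext v
      simp only [e, Finset.sum_apply, Pi.smul_apply, Pi.mul_apply, Pi.intCast_apply, zsmul_eq_mul, hval, Pi.zero_apply]
      by_cases hv : ¬ p ∣ orderOf v
      · simp only [if_pos hv]
        rw [← hz v hv]
        simp only [comb, hN, Int.cast_sum, Int.cast_mul, Finset.sum_mul, Finset.mul_sum]
        rw [Finset.sum_comm]
        exact Finset.sum_congr rfl fun ξ _ => Finset.sum_congr rfl fun i _ => by ring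
      · exact Finset.sum_eq_zero fun x _ => by
          rw [if_neg hv, mul_zero]
    have hliC : LinearIndependent ℂ e := by
      refine Fintype.linearIndependent_iff.2 fun z hz => ?_
      have h2 : (Gm.map (fun x : ℤ => (x : ℂ))).transpose.mulVec z = 0 := by
        funext j
        refine mul_left_cancel₀ (show (Nat.card H : ℂ) ≠ 0 from Nat.cast_ne_zero.2 Nat.card_pos.ne') ?_
        simp only [Matrix.mulVec, dotProduct, Matrix.transpose_apply, Matrix.map_apply,
          Pi.zero_apply, mul_zero, Finset.mul_sum]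
        rw [show ∑ i, (Nat.card H : ℂ) * ((Gm i j : ℂ) * z i) =
          ∑ i, (Nat.card H : ℂ) * ((frm b w (n i) (n j) : ℂ) * z i) from rfl]
        rw [Finset.sum_congr rfl fun i _ => by rw [← mul_assoc, ← regSum_comb hw (n i) (n j)]]
        simp only [regSum_eq_sum, Finset.sum_mul]
        rw [Finset.sum_comm]
        refine Finset.sum_eq_zero fun v hv => ?_
        have h3 := congrFun hz v
        simp only [e, Finset.sum_apply, Pi.smul_apply, smul_eq_mul, hval,
          if_pos (Finset.mem_filter.1 hv).2, Pi.zero_apply] at h3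
        calc _ = (∑ i, z i * comb b (n i) v) * (conj (comb b (n j) v) * (p : ℂ) ^ blockDefect p b) := by
              rw [Finset.sum_mul]; exact Finset.sum_congr rfl fun i _ => by ring
          _ = 0 := by rw [h3, zero_mul]
      have hdC : (Gm.map (fun x : ℤ => (x : ℂ))).transpose.det ≠ 0 := by
        rw [Matrix.det_transpose]
        have := RingHom.map_det (Int.castRingHom ℂ) Gm
        simp only [RingHom.mapMatrix_apply, eq_intCast, Int.coe_castRingHom] at this
        rw [← this]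
        exact_mod_cast hdet
      exact fun i => congrFun (Matrix.eq_zero_of_mulVec_eq_zero hdC h2) i
    have hsub : Submodule.span ℂ (Set.range e) ≤
        Submodule.span ℂ ((fun χ : IrrCharacter H => pRegularPart p (χ : H → ℂ)) '' b) := by
      refine Submodule.span_le.2 ?_
      rintro _ ⟨i, rfl⟩
      show (bs i : H → ℂ) ∈ _
      rw [← hc i]
      refine Submodule.sum_mem _ fun ξ _ => ?_
      rw [← Int.cast_smul_eq_zsmul ℂ]
      exact Submodule.smul_mem _ _ (Submodule.subset_span ⟨ξ.1, (Finset.mem_filter.1 ξ.2).2, rfl⟩)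
    have h4 := Submodule.finrank_mono hsub
    rw [finrank_span_eq_card hliC, Fintype.card_fin] at h4
    exact h4
  · have hmem : f ⟨ξ, Finset.mem_filter.2 ⟨Finset.mem_univ _, hξ⟩⟩ ∈ L :=
      Submodule.subset_span ⟨_, rfl⟩
    refine ⟨fun i => bs.repr ⟨_, hmem⟩ i, fun v hv => ?_⟩
    have h := congrFun (congrArg (fun x : L => (x : H → ℂ)) (bs.sum_repr ⟨_, hmem⟩)) v
    simp only [Submodule.coe_sum, Submodule.coe_smul, Finset.sum_apply, Pi.smul_apply, Pi.mul_apply, Pi.intCast_apply, zsmul_eq_mul,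
      hval, if_pos hv] at h
    rw [h]
    simp [f, pRegularPart_apply, hv]

/-- A reduced pair of generators in rank at most two. -/
theorem exists_reduced [Fact p.Prime] {w : IrrCharacter H → IrrCharacter H → ℤ}
    (hw : ∀ ξ ∈ b, ∀ χ ∈ b, regSum p (ξ : H → ℂ) (χ : H → ℂ) * ((p : ℂ) ^ blockDefect p b) =
      (Nat.card H : ℂ) * (w ξ χ : ℂ))
    (hsym : ∀ ξ ∈ b, ∀ χ ∈ b, w ξ χ = w χ ξ) (hl : blockRank p b ≤ 2) :
    ∃ n₁ n₂ k₁ k₂ : IrrCharacter H → ℤ,
      (∀ ξ ∈ b, ∀ v : H, ¬ p ∣ orderOf v →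
        (ξ : H → ℂ) v = (k₁ ξ : ℂ) * comb b n₁ v + (k₂ ξ : ℂ) * comb b n₂ v) ∧
      2 * |frm b w n₁ n₂| ≤ frm b w n₁ n₁ ∧ 2 * |frm b w n₁ n₂| ≤ frm b w n₂ n₂ ∧
      (frm b w n₁ n₁ = 0 → ∀ ξ, k₁ ξ = 0) ∧ (frm b w n₂ n₂ = 0 → ∀ ξ, k₂ ξ = 0) := by
  classical
  have hp : p.Prime := Fact.out
  let S : (IrrCharacter H → ℤ) → (IrrCharacter H → ℤ) → Prop := fun n₁ n₂ =>
    ∀ ξ ∈ b, ∃ a c : ℤ, ∀ v : H, ¬ p ∣ orderOf v →
      (ξ : H → ℂ) v = (a : ℂ) * comb b n₁ v + (c : ℂ) * comb b n₂ v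
  have hz0 : ∀ v, comb b (0 : IrrCharacter H → ℤ) v = 0 := fun v => by simp [comb]
  obtain ⟨m₁, m₂, hm⟩ : ∃ m₁ m₂, S m₁ m₂ := by
    obtain ⟨r, n, hr, hn⟩ := exists_generators hw
    have hr2 : r ≤ 2 := hr.trans hl
    interval_cases r
    · exact ⟨0, 0, fun ξ hξ => ⟨0, 0, fun v hv => by
        obtain ⟨k, hk⟩ := hn ξ hξ
        simp [hk v hv]⟩⟩
    · exact ⟨n 0, 0, fun ξ hξ => by
        obtain ⟨k, hk⟩ := hn ξ hξ
        exact ⟨k 0, 0, fun v hv => by rw [hk v hv, Fin.sum_univ_one, hz0]; simp⟩⟩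
    · exact ⟨n 0, n 1, fun ξ hξ => by
        obtain ⟨k, hk⟩ := hn ξ hξ
        exact ⟨k 0, k 1, fun v hv => by rw [hk v hv, Fin.sum_univ_two]⟩⟩
  have hex : ∃ T : ℕ, ∃ n₁ n₂, S n₁ n₂ ∧ (frm b w n₁ n₁ + frm b w n₂ n₂).toNat = T :=
    ⟨_, m₁, m₂, hm, rfl⟩
  obtain ⟨n₁, n₂, hS, hT⟩ := Nat.find_spec hex
  have hmin : ∀ n₁' n₂', S n₁' n₂' →
      frm b w n₁ n₁ + frm b w n₂ n₂ ≤ frm b w n₁' n₁' + frm b w n₂' n₂' := by
    intro n₁' n₂' h'
    have h1 := Nat.find_min' hex ⟨n₁', n₂', h', rfl⟩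
    rw [← hT] at h1
    have h2 := (frm_self hp.ne_zero hw n₁').1
    have h3 := (frm_self hp.ne_zero hw n₂').1
    omega
  have hexp : ∀ (n n' : IrrCharacter H → ℤ) (s : ℤ),
      frm b w (fun ξ => n ξ + s * n' ξ) (fun ξ => n ξ + s * n' ξ) =
        frm b w n n + 2 * s * frm b w n n' + s ^ 2 * frm b w n' n' := by
    intro n n' s
    have hswap : frm b w n' n = frm b w n n' := by
      simp only [frm]
      rw [Finset.sum_comm]
      refine Finset.sum_congr rfl fun ξ hξ => Finset.sum_congr rfl fun ξ' hξ' => ?_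
      rw [hsym ξ' (Finset.mem_filter.1 hξ').2 ξ (Finset.mem_filter.1 hξ).2]; ring
    rw [show (2 : ℤ) * s * frm b w n n' = s * frm b w n n' + s * frm b w n' n by rw [hswap]; ring]
    simp only [frm, Finset.mul_sum, ← Finset.sum_add_distrib]
    exact Finset.sum_congr rfl fun ξ _ => Finset.sum_congr rfl fun ξ' _ => by ring
  have hcomb : ∀ (n n' : IrrCharacter H → ℤ) (s : ℤ) (v : H),
      comb b (fun ξ => n ξ + s * n' ξ) v = comb b n v + (s : ℂ) * comb b n' v := by
    intro n n' s v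
    simp only [comb, Finset.mul_sum, ← Finset.sum_add_distrib]
    exact Finset.sum_congr rfl fun ξ _ => by push_cast; ring
  have hsh₂ : ∀ s : ℤ, S n₁ (fun ξ => n₂ ξ + s * n₁ ξ) := fun s ξ hξ => by
    obtain ⟨a, c, h⟩ := hS ξ hξ
    exact ⟨a - c * s, c, fun v hv => by rw [h v hv, hcomb]; push_cast; ring⟩
  have hsh₁ : ∀ s : ℤ, S (fun ξ => n₁ ξ + s * n₂ ξ) n₂ := fun s ξ hξ => by
    obtain ⟨a, c, h⟩ := hS ξ hξ
    exact ⟨a, c - a * s, fun v hv => by rw [h v hv, hcomb]; push_cast; ring⟩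
  have hswap : frm b w n₂ n₁ = frm b w n₁ n₂ := by
    simp only [frm]
    rw [Finset.sum_comm]
    refine Finset.sum_congr rfl fun ξ hξ => Finset.sum_congr rfl fun ξ' hξ' => ?_
    rw [hsym ξ' (Finset.mem_filter.1 hξ').2 ξ (Finset.mem_filter.1 hξ).2]; ring
  have h21 := hmin _ _ (hsh₂ 1)
  have h22 := hmin _ _ (hsh₂ (-1))
  have h11 := hmin _ _ (hsh₁ 1)
  have h12 := hmin _ _ (hsh₁ (-1))
  rw [hexp, hswap] at h21 h22
  rw [hexp] at h11 h12
  choose a c hac using hS
  refine ⟨n₁, n₂, fun ξ => if h : ξ ∈ b then (if frm b w n₁ n₁ = 0 then 0 else a ξ h) else 0,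
    fun ξ => if h : ξ ∈ b then (if frm b w n₂ n₂ = 0 then 0 else c ξ h) else 0,
    fun ξ hξ v hv => ?_, ?_, ?_, fun h ξ => by simp [h], fun h ξ => by simp [h]⟩
  · simp only [dif_pos hξ]
    rw [hac ξ hξ v hv]
    split_ifs with h1 h2 h2 <;>
      simp [*, (frm_self hp.ne_zero hw n₁).2, (frm_self hp.ne_zero hw n₂).2]
  · rcases abs_cases (frm b w n₁ n₂) with ⟨he, -⟩ | ⟨he, -⟩ <;> rw [he] <;> linarith
  · rcases abs_cases (frm b w n₁ n₂) with ⟨he, -⟩ | ⟨he, -⟩ <;> rw [he] <;> linarith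

end Cfsg.Agent.Char.Lattice
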