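import Cfsg.Agent.Lib.Char.Integral
import Cfsg.Prelude.Def_Blocks

/-!
Prime ideals of the algebraic integers over a rational prime; character values modulo them.
-/

namespace Cfsg.Agent.Char

open scoped ComplexConjugate
open Cfsg Module

universe u

theorem exists_isPModular (p : ℕ) (hp : p.Prime) : ∃ M : Ideal AlgInt, IsPModular p M := by
  have hne : Ideal.span {(p : AlgInt)} ≠ ⊤ := by
    intro h
    obtain ⟨a, ha⟩ := Ideal.mem_span_singleton'.mp ((Ideal.eq_top_iff_one _).mp h)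
    refine hp.ne_one (Nat.dvd_one.mp (nat_dvd_of_isIntegral_div hp.ne_zero (a := 1) ?_))
    have h1 : (a : ℂ) * (p : ℂ) = 1 := by simpa using congrArg Subtype.val ha
    rw [Nat.cast_one, ← h1, mul_div_cancel_right₀ _ (Nat.cast_ne_zero.mpr hp.ne_zero)]
    exact a.2
  obtain ⟨M, hM, hle⟩ := Ideal.exists_le_maximal _ hne
  exact ⟨M, hp, hM, hle (Ideal.mem_span_singleton_self _)⟩

theorem intCast_mem_iff {p : ℕ} {M : Ideal AlgInt} (hM : IsPModular p M) (n : ℤ) :
    (n : AlgInt) ∈ M ↔ (p : ℤ) ∣ n := by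
  refine ⟨fun h => by_contra fun hd => hM.2.1.ne_top ((Ideal.eq_top_iff_one _).mpr ?_), ?_⟩
  · obtain ⟨x, y, hxy⟩ := ((Nat.prime_iff_prime_int.mp hM.1).coprime_iff_not_dvd.mpr hd)
    have e : (x : AlgInt) * (p : AlgInt) + (y : AlgInt) * (n : AlgInt) = 1 := by
      have := congrArg (Int.cast : ℤ → AlgInt) hxy
      push_cast at this
      exact this
    exact e ▸ M.add_mem (M.mul_mem_left _ hM.2.2) (M.mul_mem_left _ h)
  · rintro ⟨k, rfl⟩
    push_cast
    exact M.mul_mem_right _ hM.2.2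

theorem natCast_mem_iff {p : ℕ} {M : Ideal AlgInt} (hM : IsPModular p M) (n : ℕ) :
    (n : AlgInt) ∈ M ↔ p ∣ n := by
  rw [← Int.natCast_dvd_natCast, ← intCast_mem_iff hM (n : ℤ), Int.cast_natCast]

/-- A root of unity of `p`-power order is one modulo `M`. -/
theorem sub_one_mem_of_pow {p : ℕ} {M : Ideal AlgInt} (hM : IsPModular p M) {c : AlgInt} {j : ℕ}
    (h : c ^ p ^ j = 1) : c - 1 ∈ M := by
  haveI := hM.2.1
  haveI := Fact.mk hM.1
  letI := Ideal.Quotient.field M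
  have hp0 : ((p : ℕ) : AlgInt ⧸ M) = 0 := by
    rw [← map_natCast (Ideal.Quotient.mk M), Ideal.Quotient.eq_zero_iff_mem]
    exact hM.2.2
  haveI : CharP (AlgInt ⧸ M) p := by
    obtain ⟨q, hq⟩ := CharP.exists (AlgInt ⧸ M)
    rcases (Nat.dvd_prime hM.1).mp ((CharP.cast_eq_zero_iff (AlgInt ⧸ M) q p).mp hp0) with h1 | h1
    · subst h1; exact (CharP.char_ne_one (AlgInt ⧸ M) 1 rfl).elim
    · subst h1; exact hq
  rw [← Ideal.Quotient.eq_zero_iff_mem]
  refine (pow_eq_zero_iff (pow_ne_zero j hM.1.ne_zero)).mp ?_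
  rw [map_sub, map_one, sub_pow_char_pow, ← map_pow, h, map_one, one_pow, sub_self]

/-- A character value at a `p`-element is congruent to the degree. -/
theorem IsChar.sub_degree_mem {G : Type u} [Group G] [Finite G] {χ : G → ℂ}
    (hχ : IsCharacter G χ) {p : ℕ} {M : Ideal AlgInt} (hM : IsPModular p M) {g : G}
    (hg : ∃ j : ℕ, orderOf g = p ^ j) :
    (⟨χ g, IsChar.isIntegral hχ g⟩ : AlgInt) - (⟨χ 1, IsChar.isIntegral hχ 1⟩ : AlgInt) ∈ M := by
  obtain ⟨n, ρ, rfl⟩ := hχ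
  obtain ⟨j, hj⟩ := hg
  obtain ⟨b, c, -, hc, hk⟩ := exists_rep_eigenbasis ρ g
  let cA : Fin (finrank ℂ (Fin n → ℂ)) → AlgInt := fun i =>
    ⟨c i, isIntegral_of_pow_eq_one (orderOf_pos g) (hc i)⟩
  have e : (⟨ρ.character g, isIntegral_character ρ g⟩ : AlgInt) -
      (⟨ρ.character 1, isIntegral_character ρ 1⟩ : AlgInt) = ∑ i, (cA i - 1) := by
    apply Subtype.val_injective
    show ρ.character g - ρ.character 1 = AlgInt.val (∑ i, (cA i - 1))
    have h1 := hk 1
    have h0 := hk 0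
    simp only [pow_one] at h1
    simp only [pow_zero] at h0
    simp [h1, h0, cA]
  rw [e]
  refine M.sum_mem fun i _ => sub_one_mem_of_pow hM (j := j) ?_
  apply Subtype.val_injective
  show c i ^ p ^ j = 1
  rw [← hj]
  exact hc i

end Cfsg.Agent.Char
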