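import Cfsg.Agent.Lib.Char.SectionNonvanish
import Cfsg.Agent.Lib.Block.Elementary2
import Mathlib.LinearAlgebra.Trace

/-!
The rank of a block as the average square norm on the regular elements, the sum of the square norms
of the sections at a pair, and Brauer's count of the characters of a block by subsections.
-/

open scoped ComplexConjugate

namespace Cfsg.Agent.Char.Spec

open Cfsg.Agent.Block Cfsg.Agent.Char.BP

set_option linter.unusedSectionVars false
set_option linter.style.haveILetI false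
set_option maxHeartbeats 800000

universe u

variable {G : Type u} [Group G] [Fintype G] {p : ℕ} {M : Ideal AlgInt}

theorem sum_regSum_self [Fact p.Prime] (hM : IsPModular p M) {b : Set (IrrCharacter G)}
    [DecidablePred (· ∈ b)] (hb : IsPBlock M b) :
    ∑ ξ ∈ Finset.univ.filter (· ∈ b), regSum p (ξ : G → ℂ) (ξ : G → ℂ) =
      (Nat.card G : ℂ) * (blockRank p b : ℂ) := by
  classical
  set A := Finset.univ.filter (· ∈ b) with hA
  set S := Submodule.span ℂ ((fun χ : IrrCharacter G => pRegularPart p (χ : G → ℂ)) '' b) with hS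
  let w : IrrCharacter G → G → ℂ := fun ξ x =>
    if ¬ p ∣ orderOf x then (Nat.card G : ℂ)⁻¹ * conj ((ξ : G → ℂ) x) else 0
  let φ : IrrCharacter G → (G → ℂ) →ₗ[ℂ] ℂ := fun ξ => ∑ x, w ξ x • LinearMap.proj x
  let T : (G → ℂ) →ₗ[ℂ] (G → ℂ) :=
    ∑ ξ ∈ A, (φ ξ).smulRight (pRegularPart p (ξ : G → ℂ))
  have hφ : ∀ ξ f, φ ξ f = ∑ x : G, w ξ x * f x := fun ξ f => by
    simp [φ, LinearMap.sum_apply]
  have hreg : ∀ ξ : IrrCharacter G, φ ξ (pRegularPart p (ξ : G → ℂ)) =
      (Nat.card G : ℂ)⁻¹ * regSum p (ξ : G → ℂ) (ξ : G → ℂ) := fun ξ => by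
    rw [hφ, regSum_eq_sum, Finset.mul_sum, Finset.sum_filter]
    refine Finset.sum_congr rfl fun x _ => ?_
    by_cases hx : p ∣ orderOf x <;> simp [w, pRegularPart_apply, IsPRegular, hx] <;> ring
  have hfix : ∀ η ∈ A, T (pRegularPart p (η : G → ℂ)) = pRegularPart p (η : G → ℂ) := by
    intro η hη
    funext y
    simp only [T, LinearMap.sum_apply, LinearMap.smulRight_apply, Finset.sum_apply, Pi.smul_apply,
      smul_eq_mul, pRegularPart_apply, IsPRegular]
    by_cases hy : p ∣ orderOf y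
    · simp [hy]
    simp only [hy, not_false_eq_true, if_true]
    have h1 : ∀ ξ : IrrCharacter G, φ ξ (pRegularPart p (η : G → ℂ)) * (ξ : G → ℂ) y =
        ∑ x ∈ Finset.univ.filter (fun x : G => ¬ p ∣ orderOf x),
          (Nat.card G : ℂ)⁻¹ * (η : G → ℂ) x * ((ξ : G → ℂ) y * conj ((ξ : G → ℂ) x)) := by
      intro ξ
      rw [hφ, Finset.sum_mul, Finset.sum_filter]
      refine Finset.sum_congr rfl fun x _ => ?_
      by_cases hx : p ∣ orderOf x <;> simp [w, pRegularPart_apply, IsPRegular, hx] <;> ring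
    rw [Finset.sum_congr rfl fun ξ _ => h1 ξ, Finset.sum_comm,
      Finset.sum_subset (Finset.subset_univ _) fun x _ hx => ?_]
    · rw [Finset.sum_comm, Finset.sum_eq_single η]
      · rw [show ∑ x : G, (Nat.card G : ℂ)⁻¹ * (η : G → ℂ) x *
            ((η : G → ℂ) y * conj ((η : G → ℂ) x)) =
            (η : G → ℂ) y * classInner (η : G → ℂ) (η : G → ℂ) by
          rw [classInner, Finset.mul_sum, Finset.mul_sum]
          exact Finset.sum_congr rfl fun x _ => by ring, classInner_self_irr η.2, mul_one]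
      · intro ξ _ hne
        rw [show ∑ x : G, (Nat.card G : ℂ)⁻¹ * (η : G → ℂ) x *
            ((ξ : G → ℂ) y * conj ((ξ : G → ℂ) x)) =
            (ξ : G → ℂ) y * classInner (η : G → ℂ) (ξ : G → ℂ) by
          rw [classInner, Finset.mul_sum, Finset.mul_sum]
          exact Finset.sum_congr rfl fun x _ => by ring,
          classInner_irr_ne η.2 ξ.2 (fun e => hne (Subtype.ext e).symm), mul_zero]
      · exact fun h => absurd hη h
    · have hxs : p ∣ orderOf x := by simpa using hx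
      rw [← Finset.mul_sum, hA, ← finsum_mem_block b, weak_orth hM hb hy hxs, mul_zero]
  have hproj : LinearMap.IsProj S T := by
    constructor
    · intro f
      simp only [T, LinearMap.sum_apply, LinearMap.smulRight_apply]
      exact Submodule.sum_mem _ fun ξ hξ => Submodule.smul_mem _ _
        (Submodule.subset_span ⟨ξ, (Finset.mem_filter.1 hξ).2, rfl⟩)
    · intro f hf
      induction hf using Submodule.span_induction with
      | mem f hf =>
        obtain ⟨η, hη, rfl⟩ := hf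
        exact hfix η (Finset.mem_filter.2 ⟨Finset.mem_univ _, hη⟩)
      | zero => exact map_zero T
      | add f g _ _ hf hg => rw [map_add, hf, hg]
      | smul r f _ hf => rw [map_smul, hf]
  have htr := hproj.trace
  simp only [T, map_sum, LinearMap.trace_smulRight, hreg, ← Finset.mul_sum] at htr
  rw [blockRank, ← hS, ← htr, mul_inv_cancel_left₀ (Nat.cast_ne_zero.2 Nat.card_pos.ne')]

theorem sum_irr_count [DecidableEq G] (a b : G) :
    ∑ χ : IrrCharacter G, (χ : G → ℂ) a * conj ((χ : G → ℂ) b) =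
      ∑ y : G, (if y * a * y⁻¹ = b then (1 : ℂ) else 0) := by
  classical
  rw [sum_irr_mul_conj, Finset.sum_boole]
  by_cases h : IsConj a b
  · obtain ⟨t, ht⟩ := isConj_iff.1 h
    rw [if_pos h, Nat.card_eq_fintype_card, Fintype.card_subtype]
    congr 1
    refine Finset.card_equiv (Equiv.mulRight t) fun y => ?_
    simp only [Finset.mem_filter, Finset.mem_univ, true_and, Equiv.coe_mulRight]
    rw [Subgroup.mem_centralizer_singleton_iff,
      show y * t * a * (y * t)⁻¹ = y * b * y⁻¹ by rw [← ht]; group, mul_inv_eq_iff_eq_mul]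
  · rw [if_neg h, Finset.card_eq_zero.2 (Finset.filter_eq_empty_iff.2 fun y _ hy =>
      h (isConj_iff.2 ⟨y, hy⟩)), Nat.cast_zero]

/-- The section at a pair is the block part. -/
theorem blockPart_eq_sct (χ : IrrCharacter G) {a : BrauerPairIdx G} [Fintype (CG a.1)] {x : G}
    (hxa : x ∈ a.1) (v : CG a.1) :
    blockPart a.2 (fun c : CG a.1 => (χ : G → ℂ) (x * (c : G))) v =
      sct (χ : G → ℂ) a x (v : G) := by
  have hcl : IsClassFunction (CG a.1) (fun c : CG a.1 => (χ : G → ℂ) (x * (c : G))) := fun g t => by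
    show (χ : G → ℂ) (x * ((t : G) * (g : G) * (t : G)⁻¹)) = (χ : G → ℂ) (x * (g : G))
    have ht : x * (t : G) = (t : G) * x := Subgroup.mem_centralizer_iff.1 t.2 x hxa
    rw [← irr_classFun χ (x * (g : G)) (t : G)]
    congr 1
    rw [← mul_assoc, ← mul_assoc, ht, mul_assoc (t : G) x]
  rw [blockPart_eq_conv _ hcl, sct_eq_sub]
  exact Finset.sum_congr rfl fun k _ => by rw [Subgroup.coe_mul, mul_assoc]

/-- The square norms of the sections of a block at one of its pairs. -/
theorem sum_sct_sq [Fact p.Prime] (hM : IsPModular p M) {B : Set (IrrCharacter G)}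
    [DecidablePred (· ∈ B)] {a : BrauerPairIdx G} {x : G} (hx : ∃ k, orderOf x = p ^ k)
    (hax : a.1 = Subgroup.zpowers x) (haB : OfB p M B a) :
    ∑ χ ∈ Finset.univ.filter (· ∈ B), secT p (χ : G → ℂ) (χ : G → ℂ) a x =
      (Nat.card (CG a.1) : ℂ) * (blockRank p a.2 : ℂ) := by
  classical
  letI := Fintype.ofFinite (CG a.1)
  set A := Finset.univ.filter (· ∈ a.2) with hA
  set R := Finset.univ.filter (fun c : (CG a.1) => ¬ p ∣ orderOf c) with hR
  have hxa : x ∈ a.1 := hax ▸ Subgroup.mem_zpowers x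
  set K : (CG a.1) → (CG a.1) → ℂ := fun s c =>
    ∑ ξ ∈ A, (ξ : (CG a.1) → ℂ) s * conj ((ξ : (CG a.1) → ℂ) c) with hK
  have hC0 : (Nat.card (CG a.1) : ℂ) ≠ 0 := Nat.cast_ne_zero.2 Nat.card_pos.ne'
  have hpart : ∀ (χ : IrrCharacter G) (s : (CG a.1)), ¬ p ∣ orderOf s →
      sct (χ : G → ℂ) a x (s : G) =
        (Nat.card (CG a.1) : ℂ)⁻¹ * ∑ c ∈ R, (χ : G → ℂ) (x * (c : G)) * K s c := by
    intro χ s hs
    rw [← blockPart_eq_sct χ hxa s, blockPart, finsum_mem_block a.2]
    calc _ = ∑ ξ ∈ A, (Nat.card (CG a.1) : ℂ)⁻¹ * ∑ c : (CG a.1),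
          (χ : G → ℂ) (x * (c : G)) * ((ξ : (CG a.1) → ℂ) s * conj ((ξ : (CG a.1) → ℂ) c)) := by
          refine Finset.sum_congr rfl fun ξ _ => ?_
          rw [classInner, mul_assoc, Finset.sum_mul]
          congr 1
          refine Finset.sum_congr (by congr!) fun c _ => ?_
          ring
      _ = (Nat.card (CG a.1) : ℂ)⁻¹ * ∑ c : (CG a.1), (χ : G → ℂ) (x * (c : G)) * K s c := by
          rw [← Finset.mul_sum, Finset.sum_comm]
          simp only [hK, Finset.mul_sum]
      _ = _ := by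
          rw [Finset.sum_subset (Finset.subset_univ R) fun c _ hc => ?_]
          simp only [hK]
          rw [hA, ← finsum_mem_block a.2, weak_orth hM haB.1.2 hs (by simpa [R] using hc), mul_zero]
  have hB0 : ∀ χ : IrrCharacter G, χ ∉ B → secT p (χ : G → ℂ) (χ : G → ℂ) a x = 0 := by
    intro χ hχ
    refine Finset.sum_eq_zero fun v hv => ?_
    rw [sct_eq_zero hM (mem_blockOf_self hM χ) (isPBlock_blockOf χ) haB.1 hx hax
      (fun h => hχ (by rw [ofB_unique hM haB h]; exact mem_blockOf_self hM χ))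
      (mem_regs.1 hv).1 (mem_regs.1 hv).2, zero_mul]
  rw [Finset.sum_subset (Finset.subset_univ _) fun χ _ hχ => hB0 χ fun h =>
    hχ (Finset.mem_filter.2 ⟨Finset.mem_univ _, h⟩)]
  have hsec : ∀ χ : IrrCharacter G, secT p (χ : G → ℂ) (χ : G → ℂ) a x =
      ((Nat.card (CG a.1) : ℂ)⁻¹) ^ 2 * ∑ s ∈ R, ∑ c ∈ R, ∑ c' ∈ R,
        (K s c * conj (K s c')) * ((χ : G → ℂ) (x * (c : G)) * conj ((χ : G → ℂ) (x * (c' : G)))) := by
    intro χ
    rw [secT, sum_regs_eq_regSum a.1 _ _ _ _ (hpart χ) (hpart χ), regSum_eq_sum, Finset.mul_sum]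
    refine Finset.sum_congr rfl fun s _ => ?_
    rw [map_mul, map_sum, map_inv₀, map_natCast, sq]
    simp only [Finset.mul_sum, Finset.sum_mul, map_mul]
    rw [Finset.sum_comm]
    exact Finset.sum_congr rfl fun c _ => Finset.sum_congr rfl fun c' _ => by ring
  rw [Finset.sum_congr rfl fun χ _ => hsec χ, ← Finset.mul_sum]
  have hcount : ∀ c ∈ R, ∀ c' ∈ R, ∑ χ : IrrCharacter G,
      (χ : G → ℂ) (x * (c : G)) * conj ((χ : G → ℂ) (x * (c' : G))) =
      ∑ y : (CG a.1), (if y * c * y⁻¹ = c' then (1 : ℂ) else 0) := by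
    intro c hc c' hc'
    have hpp : ∀ d : (CG a.1), ¬ p ∣ orderOf d → IsPPart p (x * (d : G)) x := fun d hd =>
      ⟨d, rfl, Subgroup.mem_centralizer_iff.1 d.2 x hxa, hx,
        by rwa [Subgroup.orderOf_coe]⟩
    have key : ∀ y : G, y * (x * (c : G)) * y⁻¹ = x * (c' : G) → y ∈ (CG a.1) := by
      intro y hy
      obtain ⟨d, h1, h2, ⟨k, hk⟩, h4⟩ := hpp c (Finset.mem_filter.1 hc).2
      have hconj : ∀ g : G, orderOf (y * g * y⁻¹) = orderOf g := fun g =>
        MulEquiv.orderOf_eq (MulAut.conj y) g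
      have hp' : IsPPart p (x * (c' : G)) (y * x * y⁻¹) := by
        refine ⟨y * (c : G) * y⁻¹, by rw [conj_mul, hy], ?_, ⟨k, by rw [hconj, hk]⟩, ?_⟩
        · show y * x * y⁻¹ * (y * (c : G) * y⁻¹) = y * (c : G) * y⁻¹ * (y * x * y⁻¹)
          rw [conj_mul, conj_mul, (Subgroup.mem_centralizer_iff.1 c.2 x hxa)]
        · rw [hconj, Subgroup.orderOf_coe]
          exact (Finset.mem_filter.1 hc).2
      have h5 := pPart_unique hp' (hpp c' (Finset.mem_filter.1 hc').2)
      rw [hax, cg_zpowers, Subgroup.mem_centralizer_singleton_iff]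
      exact mul_inv_eq_iff_eq_mul.1 h5
    rw [sum_irr_count, ← Finset.sum_subset (Finset.subset_univ (Finset.univ.filter (· ∈ (CG a.1))))
      (fun y _ hy => if_neg fun h => hy (Finset.mem_filter.2 ⟨Finset.mem_univ _, key y h⟩)),
      ← Finset.sum_subtype_eq_sum_filter, Finset.subtype_univ]
    refine Finset.sum_congr rfl fun y _ => if_congr ?_ rfl rfl
    have hy : (y : G) * x = x * (y : G) := (Subgroup.mem_centralizer_iff.1 y.2 x hxa).symm
    rw [← mul_assoc (y : G), hy, Subtype.ext_iff, mul_assoc, mul_assoc, mul_right_inj, ← mul_assoc]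
    simp
  have hKc : ∀ s y c : (CG a.1), K s (y * c * y⁻¹) = K s c := fun s y c => by
    simp only [hK]
    exact Finset.sum_congr rfl fun ξ _ => by rw [irr_classFun ξ c y]
  have hcl : ∀ y c : (CG a.1), c ∈ R → y * c * y⁻¹ ∈ R := fun y c hc => by
    simp only [R, Finset.mem_filter, Finset.mem_univ, true_and] at hc ⊢
    rwa [show orderOf (y * c * y⁻¹) = orderOf c from MulEquiv.orderOf_eq (MulAut.conj y) c]
  rw [Finset.sum_comm]
  have hs : ∀ s ∈ R, ∑ χ : IrrCharacter G, ∑ c ∈ R, ∑ c' ∈ R, (K s c * conj (K s c')) *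
      ((χ : G → ℂ) (x * (c : G)) * conj ((χ : G → ℂ) (x * (c' : G)))) =
      (Nat.card (CG a.1) : ℂ) * ∑ c ∈ R, K s c * conj (K s c) := by
    intro s _
    rw [Finset.sum_comm, Finset.mul_sum]
    refine Finset.sum_congr rfl fun c hc => ?_
    rw [Finset.sum_comm, Finset.sum_congr rfl fun c' hc' => by rw [← Finset.mul_sum, hcount c hc c' hc',
      Finset.mul_sum], Finset.sum_comm, Nat.card_eq_fintype_card, ← Finset.card_univ, ← nsmul_eq_mul,
      ← Finset.sum_const]
    refine Finset.sum_congr rfl fun y _ => ?_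
    rw [Finset.sum_eq_single (y * c * y⁻¹)]
    · rw [if_pos rfl, mul_one, hKc]
    · intro c' _ hne; rw [if_neg (Ne.symm hne), mul_zero]
    · exact fun h => absurd (hcl y c hc) h
  rw [Finset.sum_congr rfl hs, ← Finset.mul_sum]
  have hsq : ∀ ξ ∈ A, ∑ η ∈ A, regSum p (ξ : (CG a.1) → ℂ) (η : (CG a.1) → ℂ) *
      conj (regSum p (ξ : (CG a.1) → ℂ) (η : (CG a.1) → ℂ)) =
      (Nat.card (CG a.1) : ℂ) * regSum p (ξ : (CG a.1) → ℂ) (ξ : (CG a.1) → ℂ) := fun ξ hξ =>
    sum_sq_regSum A (fun s t hs ht => by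
      rw [hA, ← finsum_mem_block a.2]
      exact weak_orth hM haB.1.2 hs ht) hξ
  have hKK : ∑ s ∈ R, ∑ c ∈ R, K s c * conj (K s c) = ∑ ξ ∈ A, ∑ η ∈ A,
      regSum p (ξ : (CG a.1) → ℂ) (η : (CG a.1) → ℂ) * conj (regSum p (ξ : (CG a.1) → ℂ) (η : (CG a.1) → ℂ)) := by
    simp only [hK, regSum_eq_sum, map_sum, map_mul, Complex.conj_conj, Finset.sum_mul, Finset.mul_sum,
      ← hR]
    calc ∑ s ∈ R, ∑ c ∈ R, ∑ η ∈ A, ∑ ξ ∈ A, _
        = ∑ s ∈ R, ∑ η ∈ A, ∑ c ∈ R, ∑ ξ ∈ A, _ :=
          Finset.sum_congr rfl fun s _ => Finset.sum_comm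
      _ = ∑ η ∈ A, ∑ s ∈ R, ∑ c ∈ R, ∑ ξ ∈ A, _ := Finset.sum_comm
      _ = ∑ η ∈ A, ∑ s ∈ R, ∑ ξ ∈ A, ∑ c ∈ R, _ :=
          Finset.sum_congr rfl fun η _ => Finset.sum_congr rfl fun s _ => Finset.sum_comm
      _ = ∑ η ∈ A, ∑ ξ ∈ A, ∑ s ∈ R, ∑ c ∈ R, _ :=
          Finset.sum_congr rfl fun η _ => Finset.sum_comm
      _ = _ := ?_
    rw [Finset.sum_comm]
    refine Finset.sum_congr rfl fun ξ _ => Finset.sum_congr rfl fun η _ => ?_
    rw [Finset.sum_comm]
    exact Finset.sum_congr rfl fun c _ => Finset.sum_congr rfl fun s _ => by ring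
  rw [hKK, Finset.sum_congr rfl hsq, ← Finset.mul_sum, sum_regSum_self hM haB.1.2]
  field_simp

/-- An induced block and a pair of the same block. -/
theorem ofB_iff_induced [Fact p.Prime] (hM : IsPModular p M) {B : Set (IrrCharacter G)}
    (hB : IsPBlock M B) {x : G} (hx : ∃ k, orderOf x = p ^ k)
    (b : Set (IrrCharacter (CG (Subgroup.zpowers x)))) :
    OfB p M B (⟨Subgroup.zpowers x, b⟩ : BrauerPairIdx G) ↔
      IsInducedBlock M (CG (Subgroup.zpowers x)) b B := by
  let a : BrauerPairIdx G := ⟨Subgroup.zpowers x, b⟩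
  have hp := isPGroup_zpowers hx
  have hPH : a.1 ≤ CG a.1 := Subgroup.zpowers_le.2 (self_mem_cg (a := a) rfl)
  refine ⟨fun h => ?_, fun h => ofB_of_induced (a := a) hM hp hPH h⟩
  obtain ⟨B', hind⟩ := inducedBlockDefined_brauer hM hp hPH le_rfl (cg_le_normalizer a.1) h.1.2
  rwa [ofB_unique hM h (ofB_of_induced (a := a) hM hp hPH hind)]

/-- The pairs of a block at one element. -/
noncomputable def pairsAt (p : ℕ) (M : Ideal AlgInt) (B : Set (IrrCharacter G)) (x : G) :
    Finset (BrauerPairIdx G) :=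
  (Set.toFinite {a : BrauerPairIdx G | a.1 = Subgroup.zpowers x ∧ OfB p M B a}).toFinset

theorem mem_pairsAt {B : Set (IrrCharacter G)} {x : G} {a : BrauerPairIdx G} :
    a ∈ pairsAt p M B x ↔ a.1 = Subgroup.zpowers x ∧ OfB p M B a := by simp [pairsAt]

theorem sum_rank_pairsAt [Fact p.Prime] (hM : IsPModular p M) {B : Set (IrrCharacter G)}
    (hB : IsPBlock M B) {x : G} (hx : ∃ k, orderOf x = p ^ k) {H : Subgroup G}
    (hH : H = CG (Subgroup.zpowers x)) :
    ∑ᶠ b ∈ {b : Set (IrrCharacter H) | IsInducedBlock M H b B}, blockRank p b =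
      ∑ a ∈ pairsAt p M B x, blockRank p a.2 := by
  classical
  subst hH
  rw [finsum_mem_eq_toFinset_sum]
  refine Finset.sum_bij (fun b _ => (⟨Subgroup.zpowers x, b⟩ : BrauerPairIdx G))
    (fun b hb => mem_pairsAt.2 ⟨rfl, (ofB_iff_induced hM hB hx b).2 (by simpa using hb)⟩)
    (fun b _ b' _ h => eq_of_heq (Sigma.mk.inj_iff.1 h).2) (fun a ha => ?_) fun _ _ => rfl
  obtain ⟨h1, h2⟩ := mem_pairsAt.1 ha
  obtain ⟨Q, b⟩ := a
  obtain rfl : Q = Subgroup.zpowers x := h1
  exact ⟨b, by simpa using (ofB_iff_induced hM hB hx b).1 h2, rfl⟩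

/-- Brauer's count of the characters of a block. -/
theorem card_eq_sum_ranks [Fact p.Prime] (hM : IsPModular p M) {B : Set (IrrCharacter G)}
    (hB : IsPBlock M B) (X : Finset G) (hX : ∀ x ∈ X, ∃ k : ℕ, orderOf x = p ^ k)
    (hXrep : ∀ g : G, (∃ k : ℕ, orderOf g = p ^ k) → ∃! x, x ∈ X ∧ IsConj g x) :
    Nat.card B = ∑ x ∈ X, ∑ᶠ b ∈ {b : Set (IrrCharacter ↥(Subgroup.centralizer ({x} : Set G))) |
      IsInducedBlock M (Subgroup.centralizer ({x} : Set G)) b B}, blockRank p b := by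
  classical
  rw [Finset.sum_congr rfl fun x hx => sum_rank_pairsAt hM hB (hX x hx) (cg_zpowers x).symm]
  set A := Finset.univ.filter (· ∈ B) with hA
  let SQ : G → ℂ := fun x => ∑ a ∈ pairsAt p M B x,
    ∑ χ ∈ A, secT p (χ : G → ℂ) (χ : G → ℂ) a x
  have hconj : ∀ g x : G, SQ (g * x * g⁻¹) = SQ x := by
    intro g x
    refine (Finset.sum_bij' (fun a _ => cjI g a) (fun a _ => cjI g⁻¹ a) ?_ ?_
      (fun a _ => cjI_inv_cancel g a) (fun a _ => cjI_cancel_inv g a) ?_).symm
    · intro a ha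
      obtain ⟨h1, h2⟩ := mem_pairsAt.1 ha
      refine mem_pairsAt.2 ⟨?_, ofB_cjI hM h2 g⟩
      show a.1.map (MulAut.conj g).toMonoidHom = _
      rw [h1, MonoidHom.map_zpowers]
      rfl
    · intro a ha
      obtain ⟨h1, h2⟩ := mem_pairsAt.1 ha
      refine mem_pairsAt.2 ⟨?_, ofB_cjI hM h2 g⁻¹⟩
      show a.1.map (MulAut.conj g⁻¹).toMonoidHom = _
      rw [h1, MonoidHom.map_zpowers]
      show Subgroup.zpowers (g⁻¹ * (g * x * g⁻¹) * g⁻¹⁻¹) = _
      congr 1
      group
    · intro a _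
      exact Finset.sum_congr rfl fun χ _ => (secT_conj (irr_classFun χ) (irr_classFun χ) a g x).symm
  set P := Finset.univ.filter (fun g : G => ∃ k : ℕ, orderOf g = p ^ k) with hP
  have h1 : (Nat.card G : ℂ) * (Nat.card B : ℂ) = ∑ g ∈ P, SQ g := by
    calc (Nat.card G : ℂ) * (Nat.card B : ℂ)
        = ∑ χ ∈ A, ∑ g : G, (χ : G → ℂ) g * conj ((χ : G → ℂ) g) := by
          rw [Finset.sum_congr rfl (g := fun _ => (Nat.card G : ℂ)) fun χ _ => ?_, Finset.sum_const,
            nsmul_eq_mul, Nat.card_eq_fintype_card (α := B), mul_comm]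
          · congr 2
            rw [hA, ← Fintype.card_subtype]
          · have h := classInner_self_irr χ.2
            rw [classInner, inv_mul_eq_iff_eq_mul₀ (Nat.cast_ne_zero.2 Nat.card_pos.ne'), mul_one] at h
            exact h
      _ = ∑ χ ∈ A, ∑ s ∈ secs p M B, secT p (χ : G → ℂ) (χ : G → ℂ) s.2 s.1 :=
          Finset.sum_congr rfl fun χ hχ => sum_eq_sum_secs hM hB (Finset.mem_filter.1 hχ).2
            (Finset.mem_filter.1 hχ).2
      _ = _ := by
          rw [Finset.sum_comm]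
          exact Finset.sum_finset_product (secs p M B) P (fun x => pairsAt p M B x)
            fun s => by simp [mem_secs, mem_pairsAt, P]
  let rep : G → G := fun g =>
    if h : ∃ k : ℕ, orderOf g = p ^ k then (hXrep g h).choose else g
  have hrep : ∀ g ∈ P, rep g ∈ X ∧ IsConj g (rep g) := fun g hg => by
    have h := (Finset.mem_filter.1 hg).2
    simp only [rep, dif_pos h]
    exact (hXrep g h).choose_spec.1
  rw [← Finset.sum_fiberwise_of_maps_to (fun g hg => (hrep g hg).1) SQ] at h1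
  have hfib : ∀ x ∈ X, ∑ g ∈ P.filter (fun g => rep g = x), SQ g =
      (Nat.card G : ℂ) * ((∑ a ∈ pairsAt p M B x, blockRank p a.2 : ℕ) : ℂ) := by
    intro x hx
    have hval : ∀ g ∈ P.filter (fun g => rep g = x), SQ g = SQ x := by
      intro g hg
      obtain ⟨hgP, hgx⟩ := Finset.mem_filter.1 hg
      obtain ⟨t, ht⟩ := isConj_iff.1 (hgx ▸ (hrep g hgP).2)
      rw [← ht, hconj]
    have hset : P.filter (fun g => rep g = x) = Finset.univ.filter (fun g => IsConj g x) := by
      ext g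
      simp only [Finset.mem_filter, Finset.mem_univ, true_and]
      constructor
      · rintro ⟨hgP, rfl⟩; exact (hrep g hgP).2
      · intro hgx
        have hgp : ∃ k : ℕ, orderOf g = p ^ k := by
          obtain ⟨t, ht⟩ := isConj_iff.1 hgx
          obtain ⟨k, hk⟩ := hX x hx
          refine ⟨k, ?_⟩
          rw [← hk, ← ht]
          exact (MulEquiv.orderOf_eq (MulAut.conj t) g).symm
        have hgP : g ∈ P := Finset.mem_filter.2 ⟨Finset.mem_univ _, hgp⟩
        exact ⟨hgP, (hXrep g hgp).unique (hrep g hgP) ⟨hx, hgx⟩⟩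
    have hcc : (Finset.univ.filter (fun g : G => IsConj g x)).card =
        (Subgroup.centralizer ({x} : Set G)).index := by
      rw [← card_conjClass_finset x]
      exact congrArg _ (Finset.ext fun g => by
        simp only [Finset.mem_filter, Finset.mem_univ, true_and]
        exact ⟨IsConj.symm, IsConj.symm⟩)
    rw [Finset.sum_congr rfl hval, Finset.sum_const, nsmul_eq_mul, hset, hcc]
    simp only [SQ]
    rw [Finset.sum_congr rfl fun a ha => sum_sct_sq hM (hX x hx) (mem_pairsAt.1 ha).1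
      (mem_pairsAt.1 ha).2, Nat.cast_sum, Finset.mul_sum, Finset.mul_sum]
    refine Finset.sum_congr rfl fun a ha => ?_
    rw [show Nat.card (CG a.1) = Nat.card (Subgroup.centralizer ({x} : Set G)) by
      rw [(mem_pairsAt.1 ha).1, cg_zpowers], ← mul_assoc]
    congr 1
    exact_mod_cast Subgroup.index_mul_card _
  rw [Finset.sum_congr rfl hfib, ← Finset.mul_sum] at h1
  exact_mod_cast mul_left_cancel₀ (Nat.cast_ne_zero.2 (Nat.card_pos (α := G)).ne') h1

end Cfsg.Agent.Char.Spec
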