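import Cfsg.Agent.Lib.Char.Contrib
import Cfsg.Agent.Lib.Char.SectionRank
import Cfsg.Agent.Lib.Char.Constituent

/-!
Integrality of the pairings of the members of a block over the regular elements, for all heights;
the bounds on heights.
-/

namespace Cfsg.Agent.Char.Contrib

open scoped ComplexConjugate
open Cfsg Cfsg.Agent.Block

set_option linter.unusedSectionVars false
set_option linter.style.haveILetI false

universe u

variable {G : Type u} [Group G] [Fintype G] {p : ℕ} [Fact p.Prime] {M : Ideal AlgInt}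
variable {B : Set (IrrCharacter G)}

theorem factorization_deg_le (χ : IrrCharacter G) :
    (charDegree (χ : G → ℂ)).factorization p ≤ (Nat.card G).factorization p :=
  (Nat.factorization_le_iff_dvd (charDeg_pos χ).ne' Nat.card_pos.ne').2 (charDeg_dvd χ) p

/-- The pairing over the regular elements, scaled by the `p`-part of the group order, is the
`p`-part of the degree times an integer; that integer is prime to `p` exactly for height zero. -/
theorem exists_int_regSum_all (hM : IsPModular p M) (hB : IsPBlock M B) {χ ξ : IrrCharacter G}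
    (hχ : χ ∈ B) (hξ : ξ ∈ B) :
    ∃ z : ℤ, regSum p (ξ : G → ℂ) (χ : G → ℂ) * ((p : ℂ) ^ (Nat.card G).factorization p) =
      (Nat.card G : ℂ) * (p : ℂ) ^ (charDegree (ξ : G → ℂ)).factorization p * z ∧
      ((p : ℤ) ∣ z ↔ blockHeight p B (χ : G → ℂ) ≠ 0) := by
  classical
  have hp : p.Prime := Fact.out
  set a := (Nat.card G).factorization p with ha
  set h := (charDegree (ξ : G → ℂ)).factorization p with hh
  set R := regSum p (ξ : G → ℂ) (χ : G → ℂ) with hR
  have hpc : (p : ℂ) ≠ 0 := Nat.cast_ne_zero.mpr hp.ne_zero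
  have hG : (Nat.card G : ℂ) ≠ 0 := Nat.cast_ne_zero.mpr Nat.card_pos.ne'
  set t : ℂ := R * (p : ℂ) ^ a / ((Nat.card G : ℂ) * (p : ℂ) ^ h) with ht
  have hf := IsChar.mul (irr_isChar ξ) (IsChar.conj (irr_isChar χ))
  obtain ⟨r, hr⟩ := exists_rat_sum_regular p hf
  have hRr : R = r := by
    rw [hR, regSum_eq_sum, ← hr]
    rfl
  have e : t = regPair p χ ξ * (((charDegree (ξ : G → ℂ) * p ^ a : ℕ) : ℂ) /
      ((Nat.card G * p ^ h : ℕ) : ℂ)) := by
    rw [ht, regPair, hR, charDeg_spec' ξ]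
    have hξ0 : ((charDegree (ξ : G → ℂ) : ℕ) : ℂ) ≠ 0 := Nat.cast_ne_zero.mpr (charDeg_pos ξ).ne'
    push_cast
    field_simp
  have hne1 : charDegree (ξ : G → ℂ) * p ^ a ≠ 0 :=
    Nat.mul_ne_zero (charDeg_pos ξ).ne' (pow_ne_zero _ hp.ne_zero)
  have hne2 : Nat.card G * p ^ h ≠ 0 := Nat.mul_ne_zero Nat.card_pos.ne' (pow_ne_zero _ hp.ne_zero)
  have hval : (Nat.card G * p ^ h).factorization p =
      (charDegree (ξ : G → ℂ) * p ^ a).factorization p := by
    rw [Nat.factorization_mul Nat.card_pos.ne' (pow_ne_zero _ hp.ne_zero),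
      Nat.factorization_mul (charDeg_pos ξ).ne' (pow_ne_zero _ hp.ne_zero)]
    simp only [Finsupp.add_apply, Nat.Prime.factorization_pow hp, Finsupp.single_eq_same]
    omega
  have hringp : MemLocalRing M t :=
    e ▸ ring_mul hM ((cenInt_regPair hM χ).ring hM ξ) (ring_natDiv hM hne2 hne1 hval.le)
  obtain ⟨z, hz⟩ := exists_int_of_local (t := t)
    (r := r * (p : ℚ) ^ a / ((Nat.card G : ℚ) * (p : ℚ) ^ h)) (by rw [ht, hRr]; push_cast; ring)
    fun q hq => by
      by_cases hqp : q = p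
      · exact hqp ▸ ⟨M, hM, hringp⟩
      obtain ⟨N, hN⟩ := exists_isPModular q hq
      haveI := Fact.mk hq
      refine ⟨N, hN, ?_⟩
      have h1 := ring_sum_regular_div (p := p) hqp hN hf
      have h2 : MemLocalRing N (((p ^ h : ℕ) : ℂ))⁻¹ := ring_inv_natCast hN fun hd' =>
        hqp ((Nat.prime_dvd_prime_iff_eq hq hp).mp (hq.dvd_of_dvd_pow hd'))
      have h3 := ring_mul hN h1 (ring_mul hN (ring_natCast hN (p ^ a)) h2)
      rw [hr, ← hRr] at h3
      rw [ht]
      convert h3 using 1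
      push_cast
      field_simp
  refine ⟨z, ?_, ?_⟩
  · rw [← hz, ht, mul_div_cancel₀]
    exact mul_ne_zero hG (pow_ne_zero _ hpc)
  · rw [← ideal_intCast_iff hM, ← hz, e]
    constructor
    · intro hi h0
      exact ideal_notMem_mul hM ((cenInt_regPair hM χ).ring hM ξ)
        (ring_natDiv hM hne2 hne1 hval.le) (regPair_unit hM hB hχ hξ h0)
        (natDiv_notMem hM hne2 hne1 hval) hi
    · intro h0
      exact ideal_mul_right hM (regPair_ideal hM hB hχ hξ h0) (ring_natDiv hM hne2 hne1 hval.le)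

/-- The same pairing scaled by the order of a defect group. -/
theorem exists_int_regSum_defect (hM : IsPModular p M) (hB : IsPBlock M B) {χ ξ : IrrCharacter G}
    (hχ : χ ∈ B) (hξ : ξ ∈ B) :
    ∃ z : ℤ, regSum p (ξ : G → ℂ) (χ : G → ℂ) * ((p : ℂ) ^ blockDefect p B) =
      (Nat.card G : ℂ) * (p : ℂ) ^ blockHeight p B (ξ : G → ℂ) * z ∧
      ((p : ℤ) ∣ z ↔ blockHeight p B (χ : G → ℂ) ≠ 0) := by
  obtain ⟨z, hz, hiff⟩ := exists_int_regSum_all hM hB hχ hξ
  refine ⟨z, ?_, hiff⟩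
  have h1 := le_defect_add hM hB hξ
  have h2 := blockDefect_le (p := p) B
  have h3 := blockHeight_eq hM hB hξ
  set a := (Nat.card G).factorization p with ha
  set d := blockDefect p B with hd
  set v := (charDegree (ξ : G → ℂ)).factorization p with hv
  set h := blockHeight p B (ξ : G → ℂ) with hh
  have e1 : (p : ℂ) ^ a = (p : ℂ) ^ d * (p : ℂ) ^ (a - d) := by
    rw [← pow_add, Nat.add_sub_cancel' h2]
  have e2 : (p : ℂ) ^ v = (p : ℂ) ^ h * (p : ℂ) ^ (a - d) := by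
    rw [← pow_add, show h + (a - d) = v by omega]
  rw [e1, e2] at hz
  refine mul_right_cancel₀ (pow_ne_zero (a - d)
    (Nat.cast_ne_zero.mpr (Fact.out : p.Prime).ne_zero : (p : ℂ) ≠ 0)) ?_
  linear_combination hz

/-- The integer matrix of the pairings over the regular elements. -/
theorem exists_regMatrix (hM : IsPModular p M) (hB : IsPBlock M B) [DecidablePred (· ∈ B)] :
    ∃ w : IrrCharacter G → IrrCharacter G → ℤ,
      (∀ ξ ∈ B, ∀ χ ∈ B, regSum p (ξ : G → ℂ) (χ : G → ℂ) * ((p : ℂ) ^ blockDefect p B) =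
        (Nat.card G : ℂ) * (w ξ χ : ℂ)) ∧
      (∀ ξ ∈ B, ∀ χ ∈ B, w ξ χ = w χ ξ) ∧
      (∀ ξ ∈ B, ∑ η ∈ Finset.univ.filter (· ∈ B), w ξ η ^ 2 =
        (p : ℤ) ^ blockDefect p B * w ξ ξ) ∧
      (∀ ξ ∈ B, 0 < w ξ ξ) ∧
      (∀ ξ ∈ B, ∀ χ ∈ B, (p : ℤ) ^ blockHeight p B (ξ : G → ℂ) ∣ w ξ χ ∧
        ((p : ℤ) ^ (blockHeight p B (ξ : G → ℂ) + 1) ∣ w ξ χ ↔
          blockHeight p B (χ : G → ℂ) ≠ 0)) := by
  have hp : p.Prime := Fact.out
  choose z hz hiff using fun ξ (hξ : ξ ∈ B) χ (hχ : χ ∈ B) => exists_int_regSum_defect hM hB hχ hξ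
  let w : IrrCharacter G → IrrCharacter G → ℤ := fun ξ χ =>
    if hξ : ξ ∈ B then if hχ : χ ∈ B then
      (p : ℤ) ^ blockHeight p B (ξ : G → ℂ) * z ξ hξ χ hχ else 0 else 0
  have hG : (Nat.card G : ℂ) ≠ 0 := Nat.cast_ne_zero.mpr Nat.card_pos.ne'
  have hw : ∀ ξ ∈ B, ∀ χ ∈ B, regSum p (ξ : G → ℂ) (χ : G → ℂ) * ((p : ℂ) ^ blockDefect p B) =
      (Nat.card G : ℂ) * (w ξ χ : ℂ) := fun ξ hξ χ hχ => by
    simp only [w, dif_pos hξ, dif_pos hχ]
    push_cast
    rw [hz ξ hξ χ hχ, mul_assoc]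
  have hsym : ∀ ξ ∈ B, ∀ χ ∈ B, w ξ χ = w χ ξ := fun ξ hξ χ hχ => by
    have h1 := hw ξ hξ χ hχ
    rw [regSum_swap, hw χ hχ ξ hξ] at h1
    exact_mod_cast (mul_left_cancel₀ hG h1).symm
  refine ⟨w, hw, hsym, fun ξ hξ => ?_, fun ξ hξ => ?_, fun ξ hξ χ hχ => ?_⟩
  · have hsq := sum_sq_regSum (p := p) (Finset.univ.filter (· ∈ B)) (fun x y hx hy => by
      rw [← finsum_mem_block B]
      exact weak_orth hM hB hx hy) (χ := ξ) (by simp [hξ])
    have h2 := congrArg (· * ((p : ℂ) ^ blockDefect p B) ^ 2) hsq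
    simp only [Finset.sum_mul] at h2
    rw [Finset.sum_congr rfl (g := fun η => (Nat.card G : ℂ) ^ 2 * (w ξ η : ℂ) ^ 2) fun η hη => by
        rw [regSum_real, ← mul_pow, ← hw ξ hξ η (Finset.mem_filter.mp hη).2]
        ring,
      ← Finset.mul_sum,
      show (Nat.card G : ℂ) * regSum p (ξ : G → ℂ) (ξ : G → ℂ) *
          ((p : ℂ) ^ blockDefect p B) ^ 2 =
        (Nat.card G : ℂ) * (regSum p (ξ : G → ℂ) (ξ : G → ℂ) * (p : ℂ) ^ blockDefect p B) *
          (p : ℂ) ^ blockDefect p B by ring,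
      hw ξ hξ ξ hξ] at h2
    have h3 : ((∑ η ∈ Finset.univ.filter (· ∈ B), w ξ η ^ 2 : ℤ) : ℂ) =
        (((p : ℤ) ^ blockDefect p B * w ξ ξ : ℤ) : ℂ) := by
      push_cast
      refine mul_left_cancel₀ (pow_ne_zero 2 hG) ?_
      rw [h2]
      ring
    exact_mod_cast h3
  · have h1 := hw ξ hξ ξ hξ
    rw [regSum_eq_sum] at h1
    simp only [Complex.mul_conj] at h1
    have h2 : (∑ x ∈ Finset.univ.filter (fun x : G => ¬ p ∣ orderOf x),
        Complex.normSq ((ξ : G → ℂ) x)) * (p : ℝ) ^ blockDefect p B =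
        (Nat.card G : ℝ) * (w ξ ξ : ℝ) := by exact_mod_cast h1
    have h3 : (0 : ℝ) < ∑ x ∈ Finset.univ.filter (fun x : G => ¬ p ∣ orderOf x),
        Complex.normSq ((ξ : G → ℂ) x) :=
      Finset.sum_pos' (fun x _ => Complex.normSq_nonneg _) ⟨1, by
        simp only [Finset.mem_filter, Finset.mem_univ, true_and, orderOf_one]
        exact hp.not_dvd_one, Complex.normSq_pos.2 (irr_one_ne_zero ξ)⟩
    have h4 : (0 : ℝ) < (Nat.card G : ℝ) * (w ξ ξ : ℝ) :=
      h2 ▸ mul_pos h3 (pow_pos (Nat.cast_pos.2 hp.pos) _)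
    exact_mod_cast pos_of_mul_pos_right h4 (Nat.cast_nonneg _)
  · simp only [w, dif_pos hξ, dif_pos hχ]
    refine ⟨Dvd.intro _ rfl, ?_⟩
    rw [pow_succ, mul_dvd_mul_iff_left (pow_ne_zero _ (Int.natCast_ne_zero.2 hp.ne_zero))]
    exact hiff ξ hξ χ hχ

/-- A character of positive height has height at most the defect minus two. -/
theorem height_add_two_le (hM : IsPModular p M) (hB : IsPBlock M B) {ξ : IrrCharacter G}
    (hξ : ξ ∈ B) (hpos : blockHeight p B (ξ : G → ℂ) ≠ 0) :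
    blockHeight p B (ξ : G → ℂ) + 2 ≤ blockDefect p B := by
  classical
  have hp : p.Prime := Fact.out
  obtain ⟨χ, hχ, h0⟩ := exists_height_zero hM hB
  obtain ⟨w, -, -, hsq, hposw, hdvd⟩ := exists_regMatrix hM hB
  have hne : w ξ χ ≠ 0 := fun h => (hdvd ξ hξ χ hχ).2.1 (h ▸ dvd_zero _) h0
  have hle : w ξ ξ ^ 2 + w ξ χ ^ 2 ≤ (p : ℤ) ^ blockDefect p B * w ξ ξ := by
    rw [← hsq ξ hξ, ← Finset.sum_pair (f := fun η => w ξ η ^ 2)
      (show ξ ≠ χ from fun h => hpos (h ▸ h0))]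
    refine Finset.sum_le_sum_of_subset_of_nonneg (fun η hη => ?_) fun η _ _ => sq_nonneg _
    rcases Finset.mem_insert.1 hη with rfl | hη
    · simp [hξ]
    · rw [Finset.mem_singleton.1 hη]; simp [hχ]
  have hlt : w ξ ξ < (p : ℤ) ^ blockDefect p B := by
    have h1 : 0 < w ξ χ ^ 2 := sq_pos_of_ne_zero hne
    nlinarith [hposw ξ hξ]
  have h2 : (p : ℤ) ^ (blockHeight p B (ξ : G → ℂ) + 1) ≤ w ξ ξ :=
    Int.le_of_dvd (hposw ξ hξ) ((hdvd ξ hξ ξ hξ).2.2 hpos)
  have h3 : p ^ (blockHeight p B (ξ : G → ℂ) + 1) < p ^ blockDefect p B := by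
    exact_mod_cast lt_of_le_of_lt h2 hlt
  exact (Nat.pow_lt_pow_iff_right hp.one_lt).1 h3

/-- A block with a character of positive height has few characters. -/
theorem two_card_le (hM : IsPModular p M) (hB : IsPBlock M B) {ξ : IrrCharacter G}
    (hξ : ξ ∈ B) (hpos : blockHeight p B (ξ : G → ℂ) ≠ 0) :
    2 * Nat.card B ≤ p ^ (2 * blockDefect p B - 2) := by
  classical
  have hp : p.Prime := Fact.out
  have hd := height_add_two_le hM hB hξ hpos
  obtain ⟨w, -, hsym, hsq, -, hdvd⟩ := exists_regMatrix hM hB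
  obtain ⟨χ, hχ, h0⟩ := exists_height_zero hM hB
  set A := Finset.univ.filter (· ∈ B) with hA
  set A0 := A.filter (fun η : IrrCharacter G => blockHeight p B (η : G → ℂ) = 0) with hA0
  set A1 := A.filter (fun η : IrrCharacter G => blockHeight p B (η : G → ℂ) ≠ 0) with hA1
  set q : ℤ := (p : ℤ) ^ blockDefect p B with hq
  have memB : ∀ η ∈ A, η ∈ B := fun η hη => (Finset.mem_filter.1 hη).2
  have hbound : ∀ ζ ∈ B, ∀ S : Finset (IrrCharacter G), S ⊆ A.erase ζ →
      4 * ∑ η ∈ S, w ζ η ^ 2 ≤ q ^ 2 := by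
    intro ζ hζ S hS
    have h1 : ∑ η ∈ S, w ζ η ^ 2 ≤ ∑ η ∈ A.erase ζ, w ζ η ^ 2 :=
      Finset.sum_le_sum_of_subset_of_nonneg hS fun η _ _ => sq_nonneg _
    have h2 := hsq ζ hζ
    rw [← Finset.add_sum_erase A _ (show ζ ∈ A by simp [A, hζ])] at h2
    nlinarith [sq_nonneg (q - 2 * w ζ ζ)]
  -- the row of `ξ` on the characters of height zero
  have hrow : 4 * ((A0.card : ℤ) * (p : ℤ) ^ 2) ≤ q ^ 2 := by
    refine le_trans ?_ (hbound ξ hξ A0 fun η hη => ?_)
    · rw [← nsmul_eq_mul, ← Finset.sum_const]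
      refine mul_le_mul_of_nonneg_left (Finset.sum_le_sum fun η hη => ?_) (by norm_num)
      obtain ⟨hηA, hη0⟩ := Finset.mem_filter.1 hη
      obtain ⟨h1, h2⟩ := hdvd ξ hξ η (memB η hηA)
      have hne : w ξ η ≠ 0 := fun h => h2.1 (h ▸ dvd_zero _) hη0
      have hpd : (p : ℤ) ∣ w ξ η :=
        (dvd_pow_self (p : ℤ) hpos).trans h1
      exact Int.le_of_dvd (sq_pos_of_ne_zero hne) (pow_dvd_pow_of_dvd hpd 2)
    · obtain ⟨hηA, hη0⟩ := Finset.mem_filter.1 hη
      exact Finset.mem_erase.2 ⟨fun h => hpos (h ▸ hη0), hηA⟩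
  -- the row of a character of height zero
  have hχA0 : χ ∈ A0 := Finset.mem_filter.2 ⟨by simp [A, hχ], h0⟩
  have hrow0 : 4 * (((A0.card : ℤ) - 1) + (A1.card : ℤ) * (p : ℤ) ^ 2) ≤ q ^ 2 := by
    refine le_trans ?_ (hbound χ hχ ((A0.erase χ) ∪ A1) fun η hη => ?_)
    · have hdis : Disjoint (A0.erase χ) A1 := Finset.disjoint_left.2 fun η h1 h2 =>
        (Finset.mem_filter.1 h2).2 (Finset.mem_filter.1 (Finset.mem_of_mem_erase h1)).2
      rw [Finset.sum_union hdis]
      refine mul_le_mul_of_nonneg_left (add_le_add ?_ ?_) (by norm_num)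
      · have : ((A0.erase χ).card : ℤ) = (A0.card : ℤ) - 1 := by
          rw [Finset.card_erase_of_mem hχA0, Nat.cast_sub (Finset.card_pos.2 ⟨χ, hχA0⟩)]
          simp
        rw [← this, Finset.card_eq_sum_ones, Nat.cast_sum]
        refine Finset.sum_le_sum fun η hη => ?_
        obtain ⟨hηA, hη0⟩ := Finset.mem_filter.1 (Finset.mem_of_mem_erase hη)
        have hne : w χ η ≠ 0 := fun h => (hdvd χ hχ η (memB η hηA)).2.1 (h ▸ dvd_zero _) hη0
        have h1 : 0 < w χ η ^ 2 := sq_pos_of_ne_zero hne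
        push_cast
        omega
      · rw [← nsmul_eq_mul, ← Finset.sum_const]
        refine Finset.sum_le_sum fun η hη => ?_
        obtain ⟨hηA, hη0⟩ := Finset.mem_filter.1 hη
        have hne : w χ η ≠ 0 := by
          rw [hsym χ hχ η (memB η hηA)]
          exact fun h => (hdvd η (memB η hηA) χ hχ).2.1 (h ▸ dvd_zero _) h0
        have hpd : (p : ℤ) ∣ w χ η := by
          have h2 := (hdvd χ hχ η (memB η hηA)).2.2 hη0
          exact (dvd_pow_self (p : ℤ) (Nat.succ_ne_zero _)).trans h2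
        exact Int.le_of_dvd (sq_pos_of_ne_zero hne) (pow_dvd_pow_of_dvd hpd 2)
    · rcases Finset.mem_union.1 hη with hη | hη
      · exact Finset.mem_erase.2 ⟨Finset.ne_of_mem_erase hη,
          (Finset.mem_filter.1 (Finset.mem_of_mem_erase hη)).1⟩
      · obtain ⟨hηA, hη0⟩ := Finset.mem_filter.1 hη
        exact Finset.mem_erase.2 ⟨fun h => hη0 (h ▸ h0), hηA⟩
  have hcard : (Nat.card B : ℤ) = (A0.card : ℤ) + (A1.card : ℤ) := by
    rw [← Nat.cast_add, Finset.card_filter_add_card_filter_not, Nat.card_eq_fintype_card]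
    congr 1
    exact Fintype.card_of_subtype A (fun η => by simp [A])
  set P2 : ℤ := (p : ℤ) ^ 2 with hP2
  have hp4 : 4 ≤ P2 := by
    have : (2 : ℤ) ≤ p := by exact_mod_cast hp.two_le
    nlinarith
  have hsplit : (p : ℤ) ^ (2 * blockDefect p B - 2) * P2 = q ^ 2 := by
    rw [hP2, hq, ← pow_add, ← pow_mul]
    congr 1
    omega
  have hbig : P2 ≤ (p : ℤ) ^ (2 * blockDefect p B - 2) := by
    exact pow_le_pow_right₀ (by exact_mod_cast hp.one_lt.le) (by omega)
  have key : 2 * (Nat.card B : ℤ) ≤ (p : ℤ) ^ (2 * blockDefect p B - 2) := by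
    set E := (p : ℤ) ^ (2 * blockDefect p B - 2) with hE
    have h1 : 4 * (A0.card : ℤ) ≤ E :=
      le_of_mul_le_mul_right (by nlinarith) (show (0 : ℤ) < P2 by linarith)
    rw [hcard]
    refine le_of_mul_le_mul_right ?_ (show (0 : ℤ) < 2 * P2 by linarith)
    nlinarith [mul_le_mul_of_nonneg_left h1 (show (0 : ℤ) ≤ P2 - 1 by linarith)]
  exact_mod_cast key

/-- The scaled regular part paired with an irreducible character. -/
theorem classInner_reg (c : ℂ) (χ ξ : IrrCharacter G) :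
    classInner (fun x : G => if p ∣ orderOf x then (0 : ℂ) else c * (χ : G → ℂ) x) (ξ : G → ℂ) =
      c * regSum p (χ : G → ℂ) (ξ : G → ℂ) / (Nat.card G : ℂ) := by
  rw [classInner, regSum_eq_sum, div_eq_inv_mul, Finset.sum_filter, Finset.mul_sum (a := c)]
  congr 1
  refine Finset.sum_congr rfl fun x _ => ?_
  by_cases h : p ∣ orderOf x <;> simp [h, mul_assoc]

theorem reg_classFun (c : ℂ) {f : G → ℂ} (hf : IsClassFunction G f) :
    IsClassFunction G (fun x : G => if p ∣ orderOf x then (0 : ℂ) else c * f x) := fun g h => by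
  have h1 : orderOf (h * g * h⁻¹) = orderOf g := by
    simpa using (MulAut.conj h).orderOf_eq g
  simp only [h1, hf g h]

theorem regSum_eq_zero_of_not_mem (hM : IsPModular p M) (hB : IsPBlock M B) {χ ψ : IrrCharacter G}
    (hχ : χ ∈ B) (hψ : ψ ∉ B) : regSum p (χ : G → ℂ) (ψ : G → ℂ) = 0 := by
  refine reg_orth hM fun h => hψ ?_
  rw [pblock_eq_blockOf hM hB hχ]
  exact h

end Cfsg.Agent.Char.Contrib
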