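import Cfsg.Agent.Lib.Char.QuotientDefect
import Cfsg.Agent.Lib.Char.Complete
import Cfsg.Agent.Lib.Char.BlockLattice
import Cfsg.Agent.Lib.Char.RegularIntegral

/-!
A block of a group with a central subgroup of prime order and the block of the quotient below it:
the defect drops by one and the regular pairings factor through the quotient.
-/

open scoped ComplexConjugate

namespace Cfsg.Agent.Char.RegQuot

open Cfsg Cfsg.Agent.Block Cfsg.Agent.Char Cfsg.Agent.Char.QuotDefect

set_option linter.unusedSectionVars false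
set_option linter.style.haveILetI false

universe u

variable {H : Type u} [Group H] [Fintype H] {p : ℕ} {M : Ideal AlgInt} (N : Subgroup H) [N.Normal]

/-- The contained set is one block, its defect one less. -/
theorem block_liftSet [Fact p.Prime] (hM : IsPModular p M) (hNc : N ≤ Subgroup.center H)
    (hcard : Nat.card N = p) {b : Set (IrrCharacter H)} (hb : IsPBlock M b) :
    IsPBlock M (liftSet N b) ∧ blockDefect p (liftSet N b) + 1 = blockDefect p b := by
  classical
  have hp : p.Prime := Fact.out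
  have hN : IsPGroup p N := IsPGroup.of_card (n := 1) (by rw [hcard, pow_one])
  obtain ⟨Bb, hBb, hsub, hdef⟩ := exists_exact N hM hN hb
  have hcent : ∀ g : H, g ∈ Subgroup.centralizer (N : Set H) := fun g =>
    Subgroup.mem_centralizer_iff.2 fun n hn => (Subgroup.mem_center_iff.1 (hNc hn) g).symm
  have heq : liftSet N b = Bb := by
    refine Set.Subset.antisymm (fun χ hχ => ?_) hsub
    obtain ⟨χ₀, h₀⟩ := pblock_nonempty hM hBb
    exact pblock_mem_of_sameBlock hM hBb h₀ ((sameBlock_inflate N hM hN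
      (fun g _ hg => absurd (hcent g) hg) χ₀ χ).2 (pblock_sameBlock hM hb (hsub h₀) hχ))
  refine ⟨heq ▸ hBb, ?_⟩
  obtain ⟨P, hP⟩ := exists_isDefectGroup hM hb
  have hNP : N ≤ P := normal_le_defectGroup hM hb hP hN
  have hmap := card_defectGroup hM hBb ((hdef _).2 ⟨P, hP, rfl⟩)
  set φ := (QuotientGroup.mk' N).comp P.subtype with hφ
  have hker : φ.ker = N.subgroupOf P := by
    ext x
    simp [φ, Subgroup.mem_subgroupOf]
  have h1 := Subgroup.card_mul_index φ.ker
  have hran : φ.range = P.map (QuotientGroup.mk' N) := by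
    rw [hφ, MonoidHom.range_comp, Subgroup.range_subtype]
  rw [Subgroup.index_ker, hran, hmap, hker,
    Nat.card_congr (Subgroup.subgroupOfEquivOfLe hNP).toEquiv, hcard, card_defectGroup hM hb hP,
    mul_comm, ← pow_succ] at h1
  rw [heq]
  exact Nat.pow_right_injective hp.two_le h1

theorem regular_mk {g : H} (hg : ¬ p ∣ orderOf g) : ¬ p ∣ orderOf (g : H ⧸ N) :=
  fun h => hg (h.trans (orderOf_map_dvd (QuotientGroup.mk' N) g))

/-- Regular elements are determined by their images. -/
theorem regular_inj [Fact p.Prime] (hNc : N ≤ Subgroup.center H) (hN : IsPGroup p N) {g g' : H}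
    (hg : ¬ p ∣ orderOf g) (hg' : ¬ p ∣ orderOf g') (h : (g : H ⧸ N) = (g' : H ⧸ N)) : g = g' := by
  have hn : g⁻¹ * g' ∈ N := QuotientGroup.eq.1 h
  obtain ⟨k, hk⟩ := hN ⟨_, hn⟩
  have h5 : (g⁻¹ * g') ^ p ^ k = 1 := congrArg Subtype.val hk
  have hc : Commute g (g⁻¹ * g') := Subgroup.mem_center_iff.1 (hNc hn) g
  have h6 : (g⁻¹ * g') ^ (orderOf g * orderOf g') = 1 := by
    have e : g * (g⁻¹ * g') = g' := by group
    have h1 : (g * (g⁻¹ * g')) ^ (orderOf g * orderOf g') = 1 := by
      rw [e, mul_comm, pow_mul, pow_orderOf_eq_one, one_pow]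
    rwa [hc.mul_pow, pow_mul, pow_orderOf_eq_one, one_pow, one_mul] at h1
  have hco : (p ^ k).Coprime (orderOf g * orderOf g') := Nat.Coprime.pow_left k
    (Nat.Coprime.mul_right ((Fact.out : p.Prime).coprime_iff_not_dvd.2 hg)
      ((Fact.out : p.Prime).coprime_iff_not_dvd.2 hg'))
  have h7 := Nat.eq_one_of_dvd_coprimes hco (orderOf_dvd_of_pow_eq_one h5)
    (orderOf_dvd_of_pow_eq_one h6)
  exact inv_mul_eq_one.1 (orderOf_eq_one_iff.1 h7)

/-- Sums over the regular elements through the quotient. -/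
theorem sum_regular_mk [Fact p.Prime] (hNc : N ≤ Subgroup.center H) (hN : IsPGroup p N)
    [Fintype (H ⧸ N)] (F : H ⧸ N → ℂ) :
    ∑ g ∈ Finset.univ.filter (fun g : H => ¬ p ∣ orderOf g), F (g : H ⧸ N) =
      ∑ x ∈ Finset.univ.filter (fun x : H ⧸ N => ¬ p ∣ orderOf x), F x := by
  classical
  refine Finset.sum_bij (fun g _ => (g : H ⧸ N)) (fun g hg => ?_) (fun g hg g' hg' h => ?_)
    (fun x hx => ?_) fun _ _ => rfl
  · exact Finset.mem_filter.2 ⟨Finset.mem_univ _, regular_mk N (Finset.mem_filter.1 hg).2⟩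
  · exact regular_inj N hNc hN (Finset.mem_filter.1 hg).2 (Finset.mem_filter.1 hg').2 h
  · obtain ⟨g, hg, hgr⟩ := exists_regular_lift N (Finset.mem_filter.1 hx).2
    exact ⟨g, Finset.mem_filter.2 ⟨Finset.mem_univ _, hgr⟩, hg⟩

theorem regSum_qinfl [Fact p.Prime] (hNc : N ≤ Subgroup.center H) (hN : IsPGroup p N)
    (η η' : IrrCharacter (H ⧸ N)) :
    regSum p (qinfl N η : H → ℂ) (qinfl N η' : H → ℂ) =
      regSum p (η : H ⧸ N → ℂ) (η' : H ⧸ N → ℂ) := by
  classical
  letI := Fintype.ofFinite (H ⧸ N)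
  rw [regSum_eq_sum, regSum_eq_sum, ← sum_regular_mk N hNc hN]
  exact Finset.sum_congr rfl fun g _ => by rw [qinfl_apply, qinfl_apply]

/-- On the regular elements a member is a combination of the inflations. -/
theorem expansion [Fact p.Prime] (hM : IsPModular p M) (hNc : N ≤ Subgroup.center H)
    (hN : IsPGroup p N) {b : Set (IrrCharacter H)} (hb : IsPBlock M b)
    [DecidablePred (· ∈ liftSet N b)] {ξ : IrrCharacter H}
    (hξ : ξ ∈ b) {g : H} (hg : ¬ p ∣ orderOf g) :
    (Nat.card (H ⧸ N) : ℂ) * (ξ : H → ℂ) g =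
      ∑ η ∈ Finset.univ.filter (· ∈ liftSet N b),
        regSum p (ξ : H → ℂ) (qinfl N η : H → ℂ) * (qinfl N η : H → ℂ) g := by
  classical
  letI := Fintype.ofFinite (H ⧸ N)
  let f : H ⧸ N → ℂ := fun x =>
    if h : ¬ p ∣ orderOf x then (ξ : H → ℂ) (exists_regular_lift N h).choose else 0
  have hf : ∀ t : H, ¬ p ∣ orderOf t → f (t : H ⧸ N) = (ξ : H → ℂ) t := fun t ht => by
    have h := regular_mk N ht
    simp only [f, dif_pos h]
    exact congrArg _ (regular_inj N hNc hN (exists_regular_lift N h).choose_spec.2 ht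
      (exists_regular_lift N h).choose_spec.1)
  have hf0 : ∀ x : H ⧸ N, p ∣ orderOf x → f x = 0 := fun x hx => by simp [f, hx]
  have hfc : IsClassFunction (H ⧸ N) f := by
    intro x y
    obtain ⟨t, rfl⟩ := QuotientGroup.mk_surjective y
    have ho : orderOf ((t : H ⧸ N) * x * (t : H ⧸ N)⁻¹) = orderOf x :=
      MulEquiv.orderOf_eq (MulAut.conj (t : H ⧸ N)) x
    by_cases hx : p ∣ orderOf x
    · rw [hf0 x hx, hf0 _ (by rwa [ho])]
    · obtain ⟨s, rfl, hs⟩ := exists_regular_lift N hx
      rw [hf s hs, ← QuotientGroup.mk_mul, ← QuotientGroup.mk_inv, ← QuotientGroup.mk_mul, hf,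
        irr_classFun ξ s t]
      rwa [show orderOf (t * s * t⁻¹) = orderOf s from MulEquiv.orderOf_eq (MulAut.conj t) s]
  have hin : ∀ η : IrrCharacter (H ⧸ N), (Nat.card (H ⧸ N) : ℂ) * classInner f (η : H ⧸ N → ℂ) =
      regSum p (ξ : H → ℂ) (qinfl N η : H → ℂ) := by
    intro η
    rw [classInner, ← mul_assoc, mul_inv_cancel₀ (Nat.cast_ne_zero.2 Nat.card_pos.ne'), one_mul,
      ← Finset.sum_subset (Finset.subset_univ
        (Finset.univ.filter fun x : H ⧸ N => ¬ p ∣ orderOf x))
      (fun x _ hx => by rw [hf0 x (by simpa using hx), zero_mul]),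
      ← sum_regular_mk N hNc hN, regSum_eq_sum]
    exact Finset.sum_congr rfl fun t ht => by
      rw [hf t (Finset.mem_filter.1 ht).2, qinfl_apply]
  have hexp := congrFun (classFunction_expansion hfc) (g : H ⧸ N)
  rw [hf g hg] at hexp
  simp only [Finset.sum_apply, Pi.smul_apply, smul_eq_mul] at hexp
  rw [hexp, Finset.mul_sum,
    Finset.sum_congr rfl fun η _ => by rw [← mul_assoc, hin, ← qinfl_apply N η g]]
  refine (Finset.sum_subset (Finset.subset_univ _) fun η _ hη => ?_).symm
  rw [Contrib.regSum_eq_zero_of_not_mem hM hb hξ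
    (ψ := qinfl N η) fun h => hη (Finset.mem_filter.2 ⟨Finset.mem_univ _, h⟩), zero_mul]

/-- The regular pairings of the group through the inflations. -/
theorem parseval [Fact p.Prime] (hM : IsPModular p M) (hNc : N ≤ Subgroup.center H)
    (hN : IsPGroup p N) {b : Set (IrrCharacter H)} (hb : IsPBlock M b)
    [DecidablePred (· ∈ liftSet N b)] {ξ ξ' : IrrCharacter H}
    (hξ : ξ ∈ b) :
    ∑ η ∈ Finset.univ.filter (· ∈ liftSet N b),
        regSum p (ξ : H → ℂ) (qinfl N η : H → ℂ) * regSum p (qinfl N η : H → ℂ) (ξ' : H → ℂ) =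
      (Nat.card (H ⧸ N) : ℂ) * regSum p (ξ : H → ℂ) (ξ' : H → ℂ) := by
  classical
  simp only [regSum_eq_sum p (ξ : H → ℂ) (ξ' : H → ℂ), Finset.mul_sum]
  rw [Finset.sum_congr rfl fun η _ => by
    rw [regSum_eq_sum p (qinfl N η : H → ℂ) (ξ' : H → ℂ), Finset.mul_sum], Finset.sum_comm]
  refine Finset.sum_congr rfl fun g hg => ?_
  rw [← mul_assoc, expansion N hM hNc hN hb hξ (Finset.mem_filter.1 hg).2, Finset.sum_mul]
  exact Finset.sum_congr rfl fun η _ => by ring

/-- The rank does not grow in the quotient. -/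
theorem blockRank_le [Fact p.Prime] (hM : IsPModular p M) (hNc : N ≤ Subgroup.center H)
    (hN : IsPGroup p N) {b : Set (IrrCharacter H)} (hb : IsPBlock M b) :
    blockRank p b ≤ blockRank p (liftSet N b) := by
  classical
  let T : (H ⧸ N → ℂ) →ₗ[ℂ] (H → ℂ) :=
    { toFun := fun f g => if ¬ p ∣ orderOf g then f (g : H ⧸ N) else 0
      map_add' := fun f f' => funext fun g => by by_cases h : p ∣ orderOf g <;> simp [h]
      map_smul' := fun c f => funext fun g => by by_cases h : p ∣ orderOf g <;> simp [h] }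
  refine le_trans (Submodule.finrank_mono ?_) (Submodule.finrank_map_le T _)
  refine Submodule.span_le.2 ?_
  rintro _ ⟨ξ, hξ, rfl⟩
  have e : pRegularPart p (ξ : H → ℂ) = ∑ η ∈ Finset.univ.filter (· ∈ liftSet N b),
      ((Nat.card (H ⧸ N) : ℂ)⁻¹ * regSum p (ξ : H → ℂ) (qinfl N η : H → ℂ)) •
        T (pRegularPart p (η : H ⧸ N → ℂ)) := by
    funext g
    simp only [Finset.sum_apply, Pi.smul_apply, smul_eq_mul, T, LinearMap.coe_mk, AddHom.coe_mk,
      Lattice.pRegularPart_apply]
    by_cases hg : p ∣ orderOf g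
    · simp [hg]
    simp only [hg, not_false_eq_true, if_true, regular_mk N hg]
    simp only [mul_assoc, ← Finset.mul_sum, ← qinfl_apply]
    rw [← expansion N hM hNc hN hb hξ hg, inv_mul_cancel_left₀ (Nat.cast_ne_zero.2 Nat.card_pos.ne')]
  show pRegularPart p (ξ : H → ℂ) ∈ _
  rw [e]
  exact Submodule.sum_mem _ fun η hη => Submodule.smul_mem _ _
    (Submodule.mem_map_of_mem (Submodule.subset_span ⟨η, (Finset.mem_filter.1 hη).2, rfl⟩))

end Cfsg.Agent.Char.RegQuot
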