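import Cfsg.Agent.Lib.Char.CycDefIso
import Cfsg.Agent.Lib.Char.RegularQuotient
import Cfsg.Agent.Lib.Char.CentralHeight
import Cfsg.Agent.Lib.Block.PiKernel

/-!
The regular pairings of a block whose image modulo a central `p`-subgroup has cyclic defect group:
an integral quadratic form `N |X|² - t (∑ X)²` with `e t + 1 = N`.
-/

open scoped ComplexConjugate

namespace Cfsg.Agent.Char.RankBound

open Cfsg Cfsg.Agent.Block Cfsg.Agent.Char Cfsg.Agent.Char.BP Cfsg.Agent.Char.Spec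
open Cfsg.Agent.Char.QuotDefect Cfsg.Agent.Char.CycDef

set_option linter.unusedSectionVars false
set_option linter.style.haveILetI false
set_option maxHeartbeats 1600000

universe u

section Cyclic

variable {G : Type u} [Group G] [Fintype G] {p : ℕ} [hp : Fact p.Prime] {M : Ideal AlgInt}
variable {B : Set (IrrCharacter G)} {x : BrauerPairIdx G} {N : ℕ} [NeZero N]
variable {u₀ : G} {R : Subgroup (ZMod N)ˣ} {β : ZMod N → G → ℂ} {X : Finset (IrrCharacter G)}
variable {y : ZMod N → IrrCharacter G} {c : IrrCharacter G → ℤ} {ε : ℤ}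

theorem sum_mul_conj_eq (χ χ' : IrrCharacter G) [Decidable (χ = χ')] :
    ∑ g : G, (χ : G → ℂ) g * conj ((χ' : G → ℂ) g) =
      if χ = χ' then (Nat.card G : ℂ) else 0 := by
  classical
  have h0 : (Nat.card G : ℂ) ≠ 0 := Nat.cast_ne_zero.2 Nat.card_pos.ne'
  have h := classInner_irr_eq_ite χ.2 χ'.2
  rw [classInner, inv_mul_eq_iff_eq_mul₀ h0] at h
  rw [h]
  by_cases e : χ = χ'
  · rw [if_pos e, if_pos (congrArg Subtype.val e), mul_one]
  · rw [if_neg e, if_neg (fun e' => e (Subtype.ext e')), mul_zero]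

/-- The signed regular pairing of two of the nonexceptional characters. -/
theorem regSum_X (hM : IsPModular p M) (hB : IsPBlock M B) (hx : IsMx p M B x)
    (hgen : Subgroup.zpowers u₀ = x.1) (hN : orderOf u₀ = N)
    (hD : CData p M B x u₀ R β X y c ε) {χ χ' : IrrCharacter G} (hχ : χ ∈ X) (hχ' : χ' ∈ X)
    [DecidableEq (IrrCharacter G)] :
    (N : ℂ) * ((c χ : ℂ) * (c χ' : ℂ) * regSum p (χ : G → ℂ) (χ' : G → ℂ)) =
      (Nat.card G : ℂ) * ((N : ℂ) * (if χ = χ' then 1 else 0) - ((ys y).card : ℂ)) := by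
  classical
  set t : ℂ := ((ys y).card : ℂ) with ht
  set C : ℂ := (Nat.card G : ℂ) with hC
  set S := Finset.univ.filter (fun g : G => p ∣ orderOf g) with hS
  set Rg := Finset.univ.filter (fun g : G => ¬ p ∣ orderOf g) with hR
  let A : IrrCharacter G → G → ℂ := fun ψ g => (c ψ : ℂ) * (ψ : G → ℂ) g
  have hA : ∀ ψ ψ' g, A ψ g * conj (A ψ' g) =
      (c ψ : ℂ) * (c ψ' : ℂ) * ((ψ : G → ℂ) g * conj ((ψ' : G → ℂ) g)) := fun ψ ψ' g => by
    simp only [A, map_mul, map_intCast]; ring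
  have hreg : ∀ ψ ψ', (c ψ : ℂ) * (c ψ' : ℂ) * regSum p (ψ : G → ℂ) (ψ' : G → ℂ) =
      ∑ g ∈ Rg, A ψ g * conj (A ψ' g) := fun ψ ψ' => by
    rw [regSum_eq_sum, Finset.mul_sum]
    exact Finset.sum_congr rfl fun g _ => (hA ψ ψ' g).symm
  have hsing : ∀ ψ ∈ X, ∀ g ∈ S, A ψ g = (ε : ℂ) * ∑ ξ ∈ ys y, (ξ : G → ℂ) g := fun ψ hψ g hg =>
    sub_eq_zero.1 ((bracket hM hB hx hgen hN hD hψ g).2 (Finset.mem_filter.1 hg).2)
  set K : ℂ := ∑ g ∈ S, ((ε : ℂ) * ∑ ξ ∈ ys y, (ξ : G → ℂ) g) *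
    conj ((ε : ℂ) * ∑ ξ ∈ ys y, (ξ : G → ℂ) g) with hK
  have hsplit : ∀ ψ ∈ X, ∀ ψ' ∈ X, (∑ g ∈ Rg, A ψ g * conj (A ψ' g)) =
      C * (if ψ = ψ' then 1 else 0) - K := by
    intro ψ hψ ψ' hψ'
    have h := Finset.sum_filter_add_sum_filter_not (Finset.univ : Finset G)
      (fun g => p ∣ orderOf g) (fun g => A ψ g * conj (A ψ' g))
    rw [← hS, ← hR, Finset.sum_congr rfl (g := fun g => ((ε : ℂ) * ∑ ξ ∈ ys y, (ξ : G → ℂ) g) *
      conj ((ε : ℂ) * ∑ ξ ∈ ys y, (ξ : G → ℂ) g))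
      (fun g hg => by rw [hsing ψ hψ g hg, hsing ψ' hψ' g hg]), ← hK] at h
    have hall : ∑ g : G, A ψ g * conj (A ψ' g) =
        (c ψ : ℂ) * (c ψ' : ℂ) * (if ψ = ψ' then C else 0) := by
      rw [Finset.sum_congr rfl fun g _ => hA ψ ψ' g, ← Finset.mul_sum, sum_mul_conj_eq ψ ψ']
    rw [hall] at h
    have hc : ∀ ψ ∈ X, (c ψ : ℂ) * (c ψ : ℂ) = 1 := fun ψ hψ => by
      rcases hD.c_sign ψ hψ with e | e <;> rw [e] <;> norm_num
    have h2 : (c ψ : ℂ) * (c ψ' : ℂ) * (if ψ = ψ' then C else 0) =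
        C * (if ψ = ψ' then 1 else 0) := by
      by_cases e : ψ = ψ'
      · subst e; rw [if_pos rfl, if_pos rfl, hc ψ hψ, one_mul, mul_one]
      · rw [if_neg e, if_neg e, mul_zero, mul_zero]
    linear_combination h + h2
  -- the constant
  have hKval : (N : ℂ) * K = t * C := by
    -- `bracket = 0` on singular elements, so its regular pairing is the whole one
    have hys : ∀ ψ ∈ ys y, (∑ g ∈ Rg, (ε : ℂ) * (ψ : G → ℂ) g * conj (A χ' g)) =
        -(C - (X.card : ℂ) * K) := by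
      intro ψ hψ
      obtain ⟨j, hj, rfl⟩ := mem_ys.1 hψ
      have h : ∑ g ∈ Rg, (ε : ℂ) * (y j : G → ℂ) g * conj (A χ' g) =
          -∑ ψ ∈ X, ∑ g ∈ Rg, A ψ g * conj (A χ' g) := by
        rw [Finset.sum_comm, ← Finset.sum_neg_distrib]
        refine Finset.sum_congr rfl fun g hg => ?_
        rw [← Finset.sum_mul]
        have := hD.regular j hj g (Finset.mem_filter.1 hg).2
        linear_combination (conj (A χ' g)) * this
      rw [h, Finset.sum_congr rfl fun ψ hψ => hsplit ψ hψ χ' hχ', Finset.sum_sub_distrib,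
        ← Finset.mul_sum, Finset.sum_ite_eq', if_pos hχ', Finset.sum_const, nsmul_eq_mul, mul_one]
    have hfull : ∑ g ∈ Rg, (A χ' g - (ε : ℂ) * ∑ ξ ∈ ys y, (ξ : G → ℂ) g) * conj (A χ' g) = C := by
      rw [Finset.sum_subset (Finset.filter_subset _ _) fun g _ hg => by
        rw [(bracket hM hB hx hgen hN hD hχ' g).2 (by simpa [hR] using hg), zero_mul]]
      simp only [sub_mul, Finset.sum_sub_distrib, Finset.mul_sum, Finset.sum_mul]
      rw [Finset.sum_congr rfl fun g _ => hA χ' χ' g, ← Finset.mul_sum, sum_mul_conj_eq,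
        if_pos rfl, Finset.sum_comm, Finset.sum_eq_zero fun ξ hξ => ?_, sub_zero]
      · rcases hD.c_sign χ' hχ' with e | e <;> rw [e] <;> push_cast <;> ring
      · have hne : ξ ≠ χ' := fun e => by
          obtain ⟨j, hj, rfl⟩ := mem_ys.1 hξ
          exact hD.disj j hj (e ▸ hχ')
        simp only [A, map_mul, map_intCast]
        rw [Finset.sum_congr rfl (g := fun g => (ε : ℂ) * (c χ' : ℂ) *
          ((ξ : G → ℂ) g * conj ((χ' : G → ℂ) g))) fun g _ => by ring, ← Finset.mul_sum,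
          sum_mul_conj_eq, if_neg hne, mul_zero]
    simp only [sub_mul, Finset.sum_sub_distrib, Finset.mul_sum, Finset.sum_mul] at hfull
    rw [Finset.sum_comm (t := ys y), hsplit χ' hχ' χ' hχ', if_pos rfl,
      Finset.sum_congr rfl hys, Finset.sum_const, nsmul_eq_mul] at hfull
    have hcard : t * (X.card : ℂ) + 1 = (N : ℂ) := by
      have h1 := card_ys hD
      rw [← hD.card_X] at h1
      have h2 : (ys y).card * X.card + 1 = N := by
        have : 0 < N := Nat.pos_of_ne_zero (NeZero.ne N)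
        omega
      rw [ht]
      exact_mod_cast h2
    linear_combination -hfull - K * hcard
  rw [hreg, hsplit χ hχ χ' hχ']
  linear_combination -hKval

/-- On the regular elements every member is an integral combination of the nonexceptional ones. -/
theorem exists_span (hD : CData p M B x u₀ R β X y c ε) :
    ∃ s : IrrCharacter G → IrrCharacter G → ℤ, ∀ η ∈ B, ∀ g : G, ¬ p ∣ orderOf g →
      (η : G → ℂ) g = ∑ χ ∈ X, (s η χ : ℂ) * ((c χ : ℂ) * (χ : G → ℂ) g) := by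
  classical
  refine ⟨fun η χ => if η ∈ X then (if χ = η then c η else 0) else -ε, fun η hη g hg => ?_⟩
  by_cases hX : η ∈ X
  · simp only [hX, if_true]
    rw [Finset.sum_eq_single η (fun b _ hb => by simp [hb]) fun h => absurd hX h, if_pos rfl]
    rcases hD.c_sign η hX with e | e <;> rw [e] <;> push_cast <;> ring
  · simp only [hX, if_false]
    obtain ⟨j, hj, rfl⟩ := ((hD.mem_iff η).1 hη).resolve_left hX
    have h := hD.regular j hj g hg
    rw [← Finset.mul_sum]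
    have hε : (ε : ℂ) * (ε : ℂ) = 1 := by
      rcases hD.ε_sign with e | e <;> rw [e] <;> norm_num
    push_cast
    linear_combination (ε : ℂ) * h - (y j : G → ℂ) g * hε

end Cyclic

section Lift

variable {H : Type u} [Group H] [Fintype H] {p : ℕ} [hp : Fact p.Prime] {M : Ideal AlgInt}
variable (Z : Subgroup H) [Z.Normal] {b : Set (IrrCharacter H)}

/-- Modulo a central `p`-subgroup a block gives one block, with the images as defect groups. -/
theorem liftSet_block (hM : IsPModular p M) (hZc : Z ≤ Subgroup.center H) (hZ : IsPGroup p Z)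
    (hb : IsPBlock M b) :
    IsPBlock M (liftSet Z b) ∧ ∀ D : Subgroup H, IsDefectGroup p M b D →
      IsDefectGroup p M (liftSet Z b) (D.map (QuotientGroup.mk' Z)) := by
  classical
  obtain ⟨Bbar, hBb, hsub, hdef⟩ := exists_exact Z hM hZ hb
  obtain ⟨χ₀, hχ₀⟩ := pblock_nonempty hM hBb
  have heq : liftSet Z b = Bbar := Set.Subset.antisymm (fun χ hχ => by
    refine pblock_mem_of_sameBlock hM hBb hχ₀ ((sameBlock_inflate Z hM hZ (fun g _ hg => absurd
      (Subgroup.mem_centralizer_iff.2 fun n hn => (Subgroup.mem_center_iff.1 (hZc hn) g).symm) hg)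
      χ₀ χ).2 ?_)
    exact pblock_sameBlock hM hb (hsub hχ₀) hχ) hsub
  rw [heq]
  exact ⟨hBb, fun D hD => (hdef _).2 ⟨D, hD, rfl⟩⟩

/-- A sum of a class function against a function divisible by the centralizers is integral. -/
theorem ring_sum_classes (hM : IsPModular p M) {K : Type u} [Group K] [Fintype K] (F : K → ℂ)
    (hF : IsClassFunction K F)
    (h : ∀ k : K, MemLocalRing M (F k / (Nat.card (Subgroup.centralizer ({k} : Set K)) : ℂ))) :
    MemLocalRing M ((∑ k : K, F k) / (Nat.card K : ℂ)) := by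
  classical
  rw [← Finset.sum_fiberwise_of_maps_to (g := ConjClasses.mk)
    (t := Finset.univ.image ConjClasses.mk) fun k _ => Finset.mem_image_of_mem _ (Finset.mem_univ k),
    Finset.sum_div]
  refine ring_sum hM fun C hC => ?_
  obtain ⟨k, -, rfl⟩ := Finset.mem_image.1 hC
  have hcard : ((Finset.univ.filter fun a : K => ConjClasses.mk a = ConjClasses.mk k).card) *
      Nat.card (Subgroup.centralizer ({k} : Set K)) = Nat.card K := by
    have e : Subgroup.centralizer ({k} : Set K) = MulAction.stabilizer (ConjAct K) k := by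
      rw [ConjAct.stabilizer_eq_centralizer]; rfl
    rw [e, Nat.card_eq_fintype_card (α := K), ← ConjAct.card (G := K), ← Nat.card_eq_fintype_card,
      ← (MulAction.stabilizer (ConjAct K) k).index_mul_card, MulAction.index_stabilizer,
      ConjAct.orbit_eq_carrier_conjClasses, Set.ncard_eq_toFinset_card']
    congr 2
    ext a
    simp [ConjClasses.mem_carrier_iff_mk_eq]
  rw [Finset.sum_congr rfl (g := fun _ => F k) fun a ha => by
    obtain ⟨t, ht⟩ := isConj_iff.1 (ConjClasses.mk_eq_mk_iff_isConj.1 (Finset.mem_filter.1 ha).2)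
    rw [← ht]; exact (hF a t).symm, Finset.sum_const, nsmul_eq_mul]
  convert h k using 1
  have h1 : (Nat.card (Subgroup.centralizer ({k} : Set K)) : ℂ) ≠ 0 :=
    Nat.cast_ne_zero.2 Nat.card_pos.ne'
  rw [← hcard]
  push_cast
  have h2 : ((Finset.univ.filter fun a : K => ConjClasses.mk a = ConjClasses.mk k).card : ℂ) ≠ 0 :=
    Nat.cast_ne_zero.2 (Finset.card_pos.2 ⟨k, by simp⟩).ne'
  field_simp

/-- The form. -/
theorem exists_form (hM : IsPModular p M) (hZc : Z ≤ Subgroup.center H) (hZ : IsPGroup p Z)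
    (hb : IsPBlock M b) {D : Subgroup H} (hD : IsDefectGroup p M b D)
    (hcyc : IsCyclic (D.map (QuotientGroup.mk' Z))) (hne : D.map (QuotientGroup.mk' Z) ≠ ⊥) :
    ∃ (ι : Type u) (_ : Fintype ι) (N t : ℕ) (X : IrrCharacter H → ι → ℤ),
      0 < t ∧ N = Fintype.card ι * t + 1 ∧ blockRank p b ≤ Fintype.card ι ∧
      0 < Fintype.card ι ∧
      ∀ ξ ∈ b, ∀ ξ' ∈ b, regSum p (ξ : H → ℂ) (ξ' : H → ℂ) * ((p : ℂ) ^ blockDefect p b) =
        (Nat.card H : ℂ) * ((N : ℂ) * (∑ i, (X ξ i : ℂ) * (X ξ' i : ℂ)) -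
          (t : ℂ) * ((∑ i, (X ξ i : ℂ)) * ∑ i, (X ξ' i : ℂ))) := by
  classical
  have hpp : p.Prime := Fact.out
  letI := Fintype.ofFinite (H ⧸ Z)
  obtain ⟨hbb, hdef⟩ := liftSet_block Z hM hZc hZ hb
  set Db := D.map (QuotientGroup.mk' Z) with hDb
  obtain ⟨f, hmx⟩ := exists_max_at_defect hM hbb (hdef D hD)
  obtain ⟨u₀, hgen⟩ := CycDef.exists_gen (x := (⟨Db, f⟩ : BrauerPairIdx (H ⧸ Z))) hcyc
  set N := orderOf u₀ with hNdef
  haveI : NeZero N := ⟨(orderOf_pos u₀).ne'⟩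
  obtain ⟨R, β, X, y, c, ε, hC⟩ := exists_data (N := N) hM hbb hmx hcyc hne hgen rfl
  obtain ⟨s, hs⟩ := exists_span hC
  set t := (ys y).card with ht
  have hcard : t * X.card + 1 = N := by
    have h1 : t * X.card = N - 1 := by rw [ht, hC.card_X]; exact card_ys hC
    have : 0 < N := orderOf_pos u₀
    omega
  have hNDb : N = Nat.card Db := by rw [hNdef, ← Nat.card_zpowers, hgen]
  have hN1 : 1 < N := by
    rw [hNDb]
    exact (Subgroup.one_lt_card_iff_ne_bot _).2 hne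
  have ht0 : 0 < t := Nat.pos_of_ne_zero fun h => by rw [h] at hcard; omega
  have hX0 : 0 < X.card := Nat.pos_of_ne_zero fun h => by rw [h] at hcard; omega
  -- the defect
  have hZD : Z ≤ D := normal_le_defectGroup hM hb hD hZ
  have hpd : p ^ blockDefect p b = Nat.card Z * N := by
    rw [← card_defectGroup hM hb hD, hNDb, hDb, ← Subgroup.relIndex_ker, QuotientGroup.ker_mk',
      ← Subgroup.card_mul_index (Z.subgroupOf D),
      Nat.card_congr (Subgroup.subgroupOfEquivOfLe hZD).toEquiv]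
    rfl
  obtain ⟨k, hk⟩ : ∃ k, N = p ^ k := by
    have h : N ∣ p ^ blockDefect p b := ⟨Nat.card Z, by rw [hpd, mul_comm]⟩
    obtain ⟨k, -, hk⟩ := (Nat.dvd_prime_pow hpp).1 h
    exact ⟨k, hk⟩
  have hCH : (Nat.card H : ℂ) = (Nat.card (H ⧸ Z) : ℂ) * (Nat.card Z : ℂ) := by
    rw [Subgroup.card_eq_card_quotient_mul_card_subgroup Z, Nat.cast_mul]
  have hQ0 : (Nat.card (H ⧸ Z) : ℂ) ≠ 0 := Nat.cast_ne_zero.2 Nat.card_pos.ne'
  have hC0 : (Nat.card H : ℂ) ≠ 0 := Nat.cast_ne_zero.2 Nat.card_pos.ne'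
  have hN0 : (N : ℂ) ≠ 0 := Nat.cast_ne_zero.2 (orderOf_pos u₀).ne'
  have hpdC : (p : ℂ) ^ blockDefect p b = (Nat.card Z : ℂ) * (N : ℂ) := by exact_mod_cast hpd
  -- rational coordinates
  set L := Finset.univ.filter (· ∈ liftSet Z b) with hL
  let r : IrrCharacter H → IrrCharacter (H ⧸ Z) → ℂ := fun ξ χ =>
    ∑ η ∈ L, regSum p (ξ : H → ℂ) (qinfl Z η : H → ℂ) / (Nat.card (H ⧸ Z) : ℂ) * (s η χ : ℂ)
  have hξ : ∀ ξ ∈ b, ∀ g : H, ¬ p ∣ orderOf g → (ξ : H → ℂ) g =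
      ∑ χ ∈ X, r ξ χ * ((c χ : ℂ) * (χ : H ⧸ Z → ℂ) (g : H ⧸ Z)) := by
    intro ξ hξ g hg
    refine mul_left_cancel₀ hQ0 ?_
    rw [RegQuot.expansion Z hM hZc hZ hb hξ hg, Finset.mul_sum]
    simp only [r, Finset.sum_mul, Finset.mul_sum]
    rw [Finset.sum_comm]
    refine Finset.sum_congr rfl fun η hη => ?_
    rw [qinfl_apply, hs η (Finset.mem_filter.1 hη).2 _ (RegQuot.regular_mk Z hg), Finset.mul_sum]
    exact Finset.sum_congr rfl fun χ _ => by field_simp
  -- pairing with the inflations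
  obtain ⟨w, hw, -⟩ := Contrib.exists_regMatrix hM hb
  have hpair : ∀ ξ ∈ b, ∀ χ' ∈ X, (N : ℂ) * r ξ χ' - (t : ℂ) * ∑ χ ∈ X, r ξ χ =
      (c χ' : ℂ) * (w ξ (qinfl Z χ') : ℂ) := by
    intro ξ hξb χ' hχ'
    have hmem : qinfl Z χ' ∈ b := (hC.mem_iff χ').2 (Or.inl hχ')
    have h1 : regSum p (ξ : H → ℂ) (qinfl Z χ' : H → ℂ) = ∑ χ ∈ X, r ξ χ *
        ((c χ : ℂ) * regSum p (χ : H ⧸ Z → ℂ) (χ' : H ⧸ Z → ℂ)) := by
      rw [regSum_eq_sum]
      simp only [regSum_eq_sum, Finset.mul_sum]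
      rw [Finset.sum_comm, ← RegQuot.sum_regular_mk Z hZc hZ]
      refine Finset.sum_congr rfl fun g hg => ?_
      rw [hξ ξ hξb g (Finset.mem_filter.1 hg).2, qinfl_apply, Finset.sum_mul]
      exact Finset.sum_congr rfl fun χ _ => by ring
    have h2 := hw ξ hξb _ hmem
    rw [h1, hpdC, hCH, Finset.sum_mul] at h2
    rw [Finset.sum_congr rfl (g := fun χ => (Nat.card Z : ℂ) * (Nat.card (H ⧸ Z) : ℂ) * (c χ' : ℂ) *
      (r ξ χ * ((N : ℂ) * (if χ = χ' then 1 else 0) - (t : ℂ)))) fun χ hχ => by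
        have h3 := regSum_X hM hbb hmx hgen rfl hC hχ hχ'
        have h4 : (c χ' : ℂ) * (c χ' : ℂ) = 1 := by
          rcases hC.c_sign χ' hχ' with e | e <;> rw [e] <;> norm_num
        linear_combination (r ξ χ * (Nat.card Z : ℂ) * (c χ' : ℂ)) * h3 -
          (r ξ χ * (c χ : ℂ) * regSum p (χ : H ⧸ Z → ℂ) (χ' : H ⧸ Z → ℂ) * (Nat.card Z : ℂ) *
            (N : ℂ)) * h4, ← Finset.mul_sum] at h2
    simp only [mul_sub, Finset.sum_sub_distrib, mul_ite, mul_one, mul_zero, Finset.sum_ite_eq',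
      hχ', if_true] at h2
    rw [← Finset.sum_mul] at h2
    have h4 : (c χ' : ℂ) * (c χ' : ℂ) = 1 := by
      rcases hC.c_sign χ' hχ' with e | e <;> rw [e] <;> norm_num
    refine mul_left_cancel₀ (mul_ne_zero hQ0 (Nat.cast_ne_zero.2 Nat.card_pos.ne' :
      (Nat.card Z : ℂ) ≠ 0)) ?_
    linear_combination (c χ' : ℂ) * h2 - (Nat.card (H ⧸ Z) : ℂ) * (Nat.card Z : ℂ) *
      ((N : ℂ) * r ξ χ' - (t : ℂ) * ∑ χ ∈ X, r ξ χ) * h4
  -- integrality
  have hint : ∀ ξ ∈ b, ∀ χ ∈ X, ∃ z : ℤ, r ξ χ = z := by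
    intro ξ hξb χ hχ
    let W : IrrCharacter (H ⧸ Z) → ℤ := fun χ => c χ * w ξ (qinfl Z χ)
    have hW : ∀ χ ∈ X, (W χ : ℂ) = (N : ℂ) * r ξ χ - (t : ℂ) * ∑ χ ∈ X, r ξ χ := fun χ hχ => by
      simp only [W, Int.cast_mul]; exact (hpair ξ hξb χ hχ).symm
    have hdiv : ∀ χ ∈ X, ∀ χ' ∈ X, (N : ℤ) ∣ W χ - W χ' := by
      intro χ hχ χ' hχ'
      have hring : MemLocalRing M (((W χ - W χ' : ℤ) : ℂ) / (p : ℂ) ^ k) := by
        let ψ : H ⧸ Z → ℂ := fun z =>
          (c χ : ℂ) * (χ : H ⧸ Z → ℂ) z - (c χ' : ℂ) * (χ' : H ⧸ Z → ℂ) z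
        have hψ : ∀ z : H ⧸ Z, MemLocalRing M (ψ z /
            (Nat.card (Subgroup.centralizer ({z} : Set (H ⧸ Z))) : ℂ)) ∧
            (p ∣ orderOf z → ψ z = 0) := fun z => by
          obtain ⟨a1, a2⟩ := bracket hM hbb hmx hgen rfl hC hχ z
          obtain ⟨b1, b2⟩ := bracket hM hbb hmx hgen rfl hC hχ' z
          refine ⟨?_, fun hz => ?_⟩
          · convert ring_sub hM a1 b1 using 1
            simp only [ψ]; ring
          · simp only [ψ]; linear_combination a2 hz - b2 hz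
        let Ξ : H ⧸ Z → ℂ := fun z => ∑ χ ∈ X, r ξ χ * ((c χ : ℂ) * (χ : H ⧸ Z → ℂ) z)
        have hsum : ((W χ - W χ' : ℤ) : ℂ) / (p : ℂ) ^ k =
            (∑ z : H ⧸ Z, Ξ z * ψ z⁻¹) / (Nat.card (H ⧸ Z) : ℂ) := by
          rw [show (p : ℂ) ^ k = (N : ℂ) by rw [hk]; push_cast; ring, Int.cast_sub, hW χ hχ,
            hW χ' hχ', ← Finset.sum_subset (Finset.subset_univ
              (Finset.univ.filter fun z : H ⧸ Z => ¬ p ∣ orderOf z)) fun z _ hz => by
              rw [(hψ z⁻¹).2 (by rw [orderOf_inv]; simpa using hz), mul_zero]]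
          rw [div_eq_div_iff hN0 hQ0, show (N : ℂ) * r ξ χ - (t : ℂ) * ∑ χ ∈ X, r ξ χ -
            ((N : ℂ) * r ξ χ' - (t : ℂ) * ∑ χ ∈ X, r ξ χ) = ∑ χ₁ ∈ X, r ξ χ₁ *
              ((N : ℂ) * (if χ₁ = χ then 1 else 0) - (N : ℂ) * (if χ₁ = χ' then 1 else 0)) by
            simp only [mul_sub, Finset.sum_sub_distrib, mul_ite, mul_one, mul_zero,
              Finset.sum_ite_eq', hχ, hχ', if_true]
            ring, Finset.sum_mul]
          simp only [Ξ, Finset.sum_mul]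
          rw [Finset.sum_comm]
          refine Finset.sum_congr rfl fun χ₁ hχ₁ => ?_
          have e : ∀ χ₂ : IrrCharacter (H ⧸ Z),
              regSum p (χ₁ : H ⧸ Z → ℂ) (χ₂ : H ⧸ Z → ℂ) =
              ∑ z ∈ Finset.univ.filter (fun z : H ⧸ Z => ¬ p ∣ orderOf z),
                (χ₁ : H ⧸ Z → ℂ) z * (χ₂ : H ⧸ Z → ℂ) z⁻¹ := fun χ₂ => by
            rw [regSum_eq_sum]
            exact Finset.sum_congr rfl fun z _ => by rw [IsIrr.apply_inv χ₂.2]
          have h3 := regSum_X hM hbb hmx hgen rfl hC hχ₁ hχ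
          have h3' := regSum_X hM hbb hmx hgen rfl hC hχ₁ hχ'
          rw [e] at h3 h3'
          calc _ = r ξ χ₁ * ((N : ℂ) * ((c χ₁ : ℂ) * (c χ : ℂ) * ∑ z ∈ Finset.univ.filter
                (fun z : H ⧸ Z => ¬ p ∣ orderOf z), (χ₁ : H ⧸ Z → ℂ) z * (χ : H ⧸ Z → ℂ) z⁻¹) -
              (N : ℂ) * ((c χ₁ : ℂ) * (c χ' : ℂ) * ∑ z ∈ Finset.univ.filter
                (fun z : H ⧸ Z => ¬ p ∣ orderOf z), (χ₁ : H ⧸ Z → ℂ) z * (χ' : H ⧸ Z → ℂ) z⁻¹)) := by
                rw [h3, h3']; ring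
            _ = _ := by
                simp only [Finset.mul_sum, Finset.sum_mul, ← Finset.sum_sub_distrib]
                exact Finset.sum_congr rfl fun z _ => by simp only [ψ]; ring
        rw [hsum]
        refine ring_sum_classes hM _ (fun z u => ?_) fun z => ?_
        · simp only [Ξ, ψ]
          rw [show (u * z * u⁻¹)⁻¹ = u * z⁻¹ * u⁻¹ by group]
          simp only [irr_classFun _ z u, irr_classFun _ z⁻¹ u]
        · by_cases hz : p ∣ orderOf z
          · rw [(hψ z⁻¹).2 (by rwa [orderOf_inv]), mul_zero, zero_div]; exact ring_zero hM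
          obtain ⟨g, rfl, hg⟩ := exists_regular_lift Z hz
          rw [mul_div_assoc, show Ξ (g : H ⧸ Z) = (ξ : H → ℂ) g from (hξ ξ hξb g hg).symm]
          refine ring_mul hM (irr_ring hM ξ g) ?_
          have e : Subgroup.centralizer ({(g : H ⧸ Z)} : Set (H ⧸ Z)) =
              Subgroup.centralizer ({(g : H ⧸ Z)⁻¹} : Set (H ⧸ Z)) := by
            ext v
            rw [Subgroup.mem_centralizer_singleton_iff, Subgroup.mem_centralizer_singleton_iff]
            exact ⟨fun h => (Commute.inv_right (show Commute v (g : H ⧸ Z) from h)).eq, fun h => by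
              simpa using (Commute.inv_right (show Commute v (g : H ⧸ Z)⁻¹ from h)).eq⟩
          rw [e]
          exact (hψ _).1
      rw [hk]
      push_cast
      exact pow_dvd_of_ring_div hM k _ hring
    have hsum : (∑ χ ∈ X, (W χ : ℂ)) = ∑ χ ∈ X, r ξ χ := by
      rw [Finset.sum_congr rfl hW, Finset.sum_sub_distrib, ← Finset.mul_sum, Finset.sum_const,
        nsmul_eq_mul]
      have : (t : ℂ) * (X.card : ℂ) + 1 = (N : ℂ) := by exact_mod_cast hcard
      linear_combination -(∑ χ ∈ X, r ξ χ) * this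
    obtain ⟨z, hz⟩ : (N : ℤ) ∣ W χ + (t : ℤ) * ∑ χ' ∈ X, W χ' := by
      have e : W χ + (t : ℤ) * ∑ χ' ∈ X, W χ' =
          W χ * ((t : ℤ) * X.card + 1) - (t : ℤ) * ∑ χ' ∈ X, (W χ - W χ') := by
        rw [Finset.sum_sub_distrib, Finset.sum_const, nsmul_eq_mul]; ring
      rw [e, show ((t : ℤ) * X.card + 1) = (N : ℤ) by exact_mod_cast hcard]
      exact dvd_sub (dvd_mul_left _ _) ((Finset.dvd_sum fun χ' hχ' => hdiv χ hχ χ' hχ').mul_left _)
    refine ⟨z, mul_left_cancel₀ hN0 ?_⟩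
    have hzC := congrArg (fun v : ℤ => (v : ℂ)) hz
    push_cast at hzC
    rw [hW χ hχ, hsum] at hzC
    linear_combination hzC
  choose! Xi hXi using hint
  refine ⟨X, inferInstance, N, t, fun ξ χ => Xi ξ χ, ht0, by rw [Fintype.card_coe, mul_comm, hcard],
    ?_, by rwa [Fintype.card_coe], fun ξ hξb ξ' hξb' => ?_⟩
  · rw [Fintype.card_coe, hC.card_X, ← hC.rank]
    exact RegQuot.blockRank_le Z hM hZc hZ hb
  have h1 : regSum p (ξ : H → ℂ) (ξ' : H → ℂ) = ∑ χ ∈ X, ∑ χ' ∈ X, r ξ χ * (Xi ξ' χ' : ℂ) *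
      ((c χ : ℂ) * (c χ' : ℂ) * regSum p (χ : H ⧸ Z → ℂ) (χ' : H ⧸ Z → ℂ)) := by
    simp only [regSum_eq_sum, Finset.mul_sum]
    rw [Finset.sum_congr rfl fun χ _ => Finset.sum_comm, Finset.sum_comm,
      ← RegQuot.sum_regular_mk Z hZc hZ]
    refine Finset.sum_congr rfl fun g hg => ?_
    rw [hξ ξ hξb g (Finset.mem_filter.1 hg).2, hξ ξ' hξb' g (Finset.mem_filter.1 hg).2,
      map_sum, Finset.sum_mul_sum]
    refine Finset.sum_congr rfl fun χ _ => Finset.sum_congr rfl fun χ' hχ' => ?_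
    rw [hXi ξ' hξb' χ' hχ', map_mul, map_mul, map_intCast, map_intCast]
    ring
  rw [h1, Finset.sum_mul, hpdC, hCH]
  rw [Finset.sum_congr rfl (g := fun χ => (Nat.card Z : ℂ) * (Nat.card (H ⧸ Z) : ℂ) *
      ∑ χ' ∈ X, (Xi ξ χ : ℂ) * (Xi ξ' χ' : ℂ) * ((N : ℂ) * (if χ = χ' then 1 else 0) - (t : ℂ)))
    fun χ hχ => by
      rw [Finset.sum_mul, Finset.mul_sum]
      refine Finset.sum_congr rfl fun χ' hχ' => ?_
      rw [← hXi ξ hξb χ hχ]
      linear_combination (r ξ χ * (Xi ξ' χ' : ℂ) * (Nat.card Z : ℂ)) *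
        regSum_X hM hbb hmx hgen rfl hC hχ hχ']
  simp only [mul_sub, Finset.sum_sub_distrib, mul_ite, mul_one, mul_zero, Finset.sum_ite_eq]
  have e : ∀ F : IrrCharacter (H ⧸ Z) → ℂ, ∑ i : X, F (i : IrrCharacter (H ⧸ Z)) = ∑ χ ∈ X, F χ :=
    fun F => Finset.sum_coe_sort X F
  rw [e (fun χ => (Xi ξ χ : ℂ) * (Xi ξ' χ : ℂ)), e (fun χ => (Xi ξ χ : ℂ)),
    e (fun χ => (Xi ξ' χ : ℂ)), Finset.sum_mul_sum]
  simp only [Finset.mul_sum]
  rw [Finset.sum_congr rfl fun χ hχ => if_pos hχ]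
  congr 1
  · exact Finset.sum_congr rfl fun χ _ => by ring
  · exact Finset.sum_congr rfl fun χ _ => Finset.sum_congr rfl fun χ' _ => by ring

end Lift

end Cfsg.Agent.Char.RankBound
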