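import Cfsg.Agent.Lib.Char.DihBlockNumbers
import Cfsg.Agent.Lib.Char.CycQuotForm
import Cfsg.Agent.Lib.Block.ClassMul
import Cfsg.Agent.Lib.Block.JordanModular.Count

/-!
Counting pairs of involutions against the kernels of rank one pairs: positivity at the centre and
divisibility at the rotations.
-/

open scoped ComplexConjugate

namespace Cfsg.Agent.Char.DihBlk

open Cfsg Cfsg.Agent.Block Cfsg.Agent.Char Cfsg.Agent.Char.BP Cfsg.Agent.Char.Spec

set_option linter.unusedSectionVars false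
set_option linter.style.haveILetI false
set_option maxHeartbeats 800000

universe u

variable {G : Type u} [Group G] [Fintype G] {p : ℕ} [Fact p.Prime] {M : Ideal AlgInt}
variable {B : Set (IrrCharacter G)}

/-- Sums over products from a union of classes. -/
theorem pair_sum (T : Finset G) (hT : ∀ s ∈ T, ∀ y, y * s * y⁻¹ ∈ T) (χ : IrrCharacter G) :
    ∑ s ∈ T, ∑ s' ∈ T, (χ : G → ℂ) (s * s') =
      (∑ s ∈ T, (χ : G → ℂ) s) ^ 2 / (χ : G → ℂ) 1 := by
  classical
  have hG : (Nat.card G : ℂ) ≠ 0 := Nat.cast_ne_zero.2 Nat.card_pos.ne'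
  have h1 : ∀ g : G, ∑ s ∈ T, ∑ s' ∈ T, (χ : G → ℂ) (s * (g * s' * g⁻¹)) =
      ∑ s ∈ T, ∑ s' ∈ T, (χ : G → ℂ) (s * s') := fun g =>
    Finset.sum_congr rfl fun s _ => Finset.sum_bij' (fun s' _ => g * s' * g⁻¹)
      (fun s' _ => g⁻¹ * s' * g) (fun s' hs' => hT s' hs' g)
      (fun s' hs' => by have := hT s' hs' g⁻¹; rwa [inv_inv] at this)
      (fun s' _ => by group) (fun s' _ => by group) fun s' _ => rfl
  have h2 : ∑ g : G, ∑ s ∈ T, ∑ s' ∈ T, (χ : G → ℂ) (s * (g * s' * g⁻¹)) =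
      (Nat.card G : ℂ) * ((∑ s ∈ T, (χ : G → ℂ) s) ^ 2 / (χ : G → ℂ) 1) := by
    rw [Finset.sum_comm, pow_two, Finset.sum_mul_sum, Finset.sum_div, Finset.mul_sum]
    refine Finset.sum_congr rfl fun s _ => ?_
    rw [Finset.sum_comm, Finset.sum_div, Finset.mul_sum]
    refine Finset.sum_congr rfl fun s' _ => ?_
    rw [Block.sum_mul_conj]
    ring
  rw [Finset.sum_congr rfl fun g _ => h1 g, Finset.sum_const, Finset.card_univ, nsmul_eq_mul,
    ← Nat.card_eq_fintype_card] at h2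
  exact mul_left_cancel₀ hG h2

/-- The involutions. -/
noncomputable def invs (G : Type u) [Group G] [Fintype G] : Finset G :=
  (Set.toFinite {s : G | s * s = 1 ∧ s ≠ 1}).toFinset

theorem mem_invs {s : G} : s ∈ invs G ↔ s * s = 1 ∧ s ≠ 1 := by
  simp [invs]

theorem invs_closed : ∀ s ∈ invs G, ∀ y : G, y * s * y⁻¹ ∈ invs G := fun s hs y => by
  obtain ⟨h1, h2⟩ := mem_invs.1 hs
  refine mem_invs.2 ⟨?_, fun h => h2 (by rwa [conj_eq_one_iff] at h)⟩
  rw [conj_mul, h1, mul_one, mul_inv_cancel]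

/-- The number of factorisations into two involutions. -/
noncomputable def cnt (g : G) : ℕ := Nat.card {s : G // s ∈ invs G ∧ s * g ∈ invs G}

theorem cnt_conj (g y : G) : cnt (y * g * y⁻¹) = cnt g := by
  refine Nat.card_congr ((MulAut.conj y).symm.toEquiv.subtypeEquiv fun s => ?_)
  simp only [MulEquiv.toEquiv_eq_coe, EquivLike.coe_coe, MulAut.conj_symm_apply]
  constructor
  · rintro ⟨h1, h2⟩
    refine ⟨by simpa using invs_closed _ h1 y⁻¹, ?_⟩
    have := invs_closed _ h2 y⁻¹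
    rwa [show y⁻¹ * (s * (y * g * y⁻¹)) * y⁻¹⁻¹ = y⁻¹ * s * y * g by group] at this
  · rintro ⟨h1, h2⟩
    refine ⟨by simpa [mul_assoc] using invs_closed _ h1 y, ?_⟩
    have := invs_closed _ h2 y
    rwa [show y * (y⁻¹ * s * y * g) * y⁻¹ = s * (y * g * y⁻¹) by group] at this

theorem cnt_formula (y : G) :
    (Nat.card G : ℂ) * cnt y = ∑ χ : IrrCharacter G,
      (∑ s ∈ invs G, (χ : G → ℂ) s) ^ 2 / (χ : G → ℂ) 1 * (χ : G → ℂ) y := by
  classical
  have hstep : ∀ s s' : G, s ∈ invs G → s' ∈ invs G →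
      ∑ χ : IrrCharacter G, (χ : G → ℂ) (s * s') * (χ : G → ℂ) y =
        ∑ g : G, (if g * y * g⁻¹ = s' * s then (1 : ℂ) else 0) := by
    intro s s' hs hs'
    have hinv : (s' * s)⁻¹ = s * s' := by
      rw [mul_inv_rev, inv_eq_of_mul_eq_one_right (mem_invs.1 hs).1,
        inv_eq_of_mul_eq_one_right (mem_invs.1 hs').1]
    rw [← sum_irr_count y (s' * s)]
    refine Finset.sum_congr rfl fun χ _ => ?_
    rw [← irr_apply_inv χ (s' * s), hinv, mul_comm]
  calc (Nat.card G : ℂ) * cnt y = ∑ g : G, (cnt (g * y * g⁻¹) : ℂ) := by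
        simp only [cnt_conj, Finset.sum_const, Finset.card_univ, nsmul_eq_mul,
          Nat.card_eq_fintype_card]
    _ = ∑ g : G, ∑ s' ∈ invs G, ∑ s ∈ invs G,
          (if g * y * g⁻¹ = s' * s then (1 : ℂ) else 0) := by
        refine Finset.sum_congr rfl fun g _ => ?_
        rw [cnt, Nat.card_eq_fintype_card, Fintype.card_subtype,
          Finset.filter_congr (q := fun s => s ∈ invs G ∧ s * (g * y * g⁻¹) ∈ invs G)
            (fun _ _ => Iff.rfl),
          show (Finset.univ.filter fun s => s ∈ invs G ∧ s * (g * y * g⁻¹) ∈ invs G) =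
            (invs G).filter (fun s => s * (g * y * g⁻¹) ∈ invs G) by ext s; simp,
          Finset.card_filter, Nat.cast_sum]
        refine Finset.sum_congr rfl fun s' hs' => ?_
        have hs'' : s'⁻¹ = s' := inv_eq_of_mul_eq_one_right (mem_invs.1 hs').1
        rw [Finset.sum_congr rfl fun s _ => if_congr
          (⟨fun h => by rw [h, ← mul_assoc, (mem_invs.1 hs').1, one_mul],
            fun h => by rw [← h, ← mul_assoc, (mem_invs.1 hs').1, one_mul]⟩ :
              g * y * g⁻¹ = s' * s ↔ s' * (g * y * g⁻¹) = s) rfl rfl, Finset.sum_ite_eq]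
        push_cast
        rfl
    _ = ∑ s ∈ invs G, ∑ s' ∈ invs G,
          ∑ g : G, (if g * y * g⁻¹ = s' * s then (1 : ℂ) else 0) := by
        rw [Finset.sum_comm]
        conv_lhs => enter [2, s']; rw [Finset.sum_comm]
        rw [Finset.sum_comm]
    _ = _ := by
        rw [Finset.sum_congr rfl fun s hs => Finset.sum_congr rfl fun s' hs' =>
          (hstep s s' hs hs').symm]
        conv_lhs => enter [2, s]; rw [Finset.sum_comm]
        rw [Finset.sum_comm]
        refine Finset.sum_congr rfl fun χ _ => ?_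
        rw [← pair_sum (invs G) invs_closed, Finset.sum_mul]
        exact Finset.sum_congr rfl fun s _ => by rw [Finset.sum_mul]

namespace One

variable {a : BrauerPairIdx G} (o : One p a)

/-- The factorisations on the coset of `u` against the kernel. -/
theorem cnt_identity (hM : IsPModular p M) [DecidablePred (· ∈ B)] [Fintype (CG a.1)] {u : G}
    (hu : ∃ k, orderOf u = p ^ k) (hau : a.1 = Subgroup.zpowers u) (haB : OfB p M B a) :
    (Nat.card G : ℂ) * ∑ c : CG a.1, (cnt (u * (c : G)) : ℂ) * o.L c⁻¹ =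
      (Nat.card (CG a.1) : ℂ) * ∑ χ ∈ Finset.univ.filter (· ∈ B),
        (∑ s ∈ invs G, (χ : G → ℂ) s) ^ 2 / (χ : G → ℂ) 1 * o.col χ u := by
  classical
  rw [Finset.mul_sum, Finset.mul_sum, Finset.sum_congr rfl fun c _ => by
    rw [← mul_assoc, cnt_formula, Finset.sum_mul], Finset.sum_comm,
    Finset.sum_congr rfl fun χ _ => by
      rw [Finset.sum_congr rfl fun c _ => mul_assoc _ _ _, ← Finset.mul_sum,
        o.sum_value_L hM hau haB χ, mul_left_comm]]
  symm
  refine Finset.sum_subset (Finset.subset_univ _) fun χ _ hχ => ?_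
  have h : sct (χ : G → ℂ) a u 1 = 0 := by
    refine sct_eq_zero hM (mem_blockOf_self hM χ) (isPBlock_blockOf χ) haB.1 hu hau (fun h => ?_)
      (one_mem _) (by rw [orderOf_one]; exact (Fact.out : p.Prime).not_dvd_one)
    refine hχ (Finset.mem_filter.2 ⟨Finset.mem_univ _, ?_⟩)
    rw [ofB_unique hM haB h]
    exact mem_blockOf_self hM χ
  rw [col, h, zero_div, mul_zero, mul_zero]

end One

/-- Elements of coprime orders inside a product. -/
theorem mem_zpowers_mul {u c : G} (h : Commute u c) (hco : (orderOf u).Coprime (orderOf c)) :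
    u ∈ Subgroup.zpowers (u * c) := by
  have h1 : u ^ orderOf c ∈ Subgroup.zpowers (u * c) := by
    refine ⟨(orderOf c : ℤ), ?_⟩
    show (u * c) ^ (orderOf c : ℤ) = _
    rw [zpow_natCast, h.mul_pow, pow_orderOf_eq_one, mul_one]
  obtain ⟨k, hk⟩ := exists_pow_eq_self_of_coprime (x := u) hco.symm
  have h2 := pow_mem h1 k
  rwa [hk] at h2

/-- A product of two involutions is inverted by each of them. -/
theorem inverts {s g v : G} (hs : s * s = 1) (hsg : s * g * (s * g) = 1)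
    (hv : v ∈ Subgroup.zpowers g) : s * v * s⁻¹ = v⁻¹ := by
  have h1 : s * g * s⁻¹ = g⁻¹ := by
    rw [inv_eq_of_mul_eq_one_right hs]
    refine eq_inv_of_mul_eq_one_left ?_
    rw [mul_assoc (s * g)]
    exact hsg
  obtain ⟨k, rfl⟩ := Subgroup.mem_zpowers_iff.1 hv
  rw [← conj_zpow, h1, inv_zpow]

/-- The number of factorisations is a multiple of the order of the cyclic group it contains. -/
theorem dvd_cnt {u g : G} (hu : u ∈ Subgroup.zpowers g) (huu : u * u ≠ 1) :
    orderOf u ∣ cnt g := by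
  rw [← Nat.card_zpowers]
  refine Block.JordanModular.card_dvd_of_mul_mem (Subgroup.zpowers u)
    {s : G | s ∈ invs G ∧ s * g ∈ invs G} ?_
  rintro s ⟨h1, h2⟩ v hv
  obtain ⟨hs, -⟩ := mem_invs.1 h1
  obtain ⟨hsg, -⟩ := mem_invs.1 h2
  have key : ∀ w ∈ Subgroup.zpowers g, s * w ∈ invs G := by
    intro w hw
    refine mem_invs.2 ⟨?_, fun h => ?_⟩
    · have h3 := inverts hs hsg hw
      rw [inv_eq_of_mul_eq_one_right hs] at h3
      calc s * w * (s * w) = s * w * s * w := (mul_assoc _ _ _).symm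
        _ = 1 := by rw [h3, inv_mul_cancel]
    · have hmem : s ∈ Subgroup.zpowers g := by
        rw [eq_inv_of_mul_eq_one_left h]; exact inv_mem hw
      have h3 := inverts hs hsg hu
      have hcomm : s * u = u * s := by
        obtain ⟨i, rfl⟩ := Subgroup.mem_zpowers_iff.1 hmem
        obtain ⟨j, rfl⟩ := Subgroup.mem_zpowers_iff.1 hu
        exact ((Commute.refl g).zpow_zpow i j).eq
      rw [hcomm, mul_inv_cancel_right] at h3
      exact huu (by nth_rw 1 [h3]; exact inv_mul_cancel u)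
  have hvg : v ∈ Subgroup.zpowers g := Subgroup.zpowers_le.2 hu hv
  refine ⟨key v hvg, ?_⟩
  rw [mul_assoc]
  exact key _ (mul_mem hvg (Subgroup.mem_zpowers g))

/-- Blocks are orthogonal at non-conjugate elements of prime power order. -/
theorem block_orth (hM : IsPModular p M) (hB : IsPBlock M B) [DecidablePred (· ∈ B)] {x x' : G}
    (hx : ∃ k, orderOf x = p ^ k) (hx' : ∃ k, orderOf x' = p ^ k) (h : ¬ IsConj x x') :
    ∑ χ ∈ Finset.univ.filter (· ∈ B), (χ : G → ℂ) x * conj ((χ : G → ℂ) x') = 0 := by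
  have h1 : ¬ p ∣ orderOf (1 : G) := by
    rw [orderOf_one]; exact (Fact.out : p.Prime).not_dvd_one
  have e : ∀ χ ∈ Finset.univ.filter (· ∈ B), (χ : G → ℂ) x * conj ((χ : G → ℂ) x') =
      ∑ a ∈ pairsAt p M B x, ∑ a' ∈ pairsAt p M B x',
        sct (χ : G → ℂ) a x 1 * conj (sct (χ : G → ℂ) a' x' 1) := fun χ hχ => by
    have hχ' := (Finset.mem_filter.1 hχ).2
    conv_lhs => rw [← mul_one x, ← mul_one x', value_eq_pairs hM hB hχ' hx (one_mem _) h1,
      value_eq_pairs hM hB hχ' hx' (one_mem _) h1]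
    simp only [mul_one, map_sum, Finset.sum_mul_sum]
  rw [Finset.sum_congr rfl e, Finset.sum_comm]
  refine Finset.sum_eq_zero fun a ha => ?_
  rw [Finset.sum_comm]
  refine Finset.sum_eq_zero fun a' ha' => ?_
  exact sum_sct_cross hM hx hx' (mem_pairsAt.1 ha).1 (mem_pairsAt.1 ha').1 (mem_pairsAt.1 ha).2
    (mem_pairsAt.1 ha').2 (fun g hg _ => h (isConj_iff.2 ⟨g, hg⟩)) (one_mem _) h1 (one_mem _) h1

/-- A block with a pair at an element does not vanish there. -/
theorem block_self_ne_zero (hM : IsPModular p M) (hB : IsPBlock M B) [DecidablePred (· ∈ B)]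
    {x : G} (hx : ∃ k, orderOf x = p ^ k) (hne : (pairsAt p M B x).Nonempty) :
    ∑ χ ∈ Finset.univ.filter (· ∈ B), (χ : G → ℂ) x * conj ((χ : G → ℂ) x) ≠ 0 := by
  classical
  have h1 : ∀ {H : Type u} [Group H], ¬ p ∣ orderOf (1 : H) := fun {H} _ => by
    rw [orderOf_one]; exact (Fact.out : p.Prime).not_dvd_one
  have e : ∀ χ ∈ Finset.univ.filter (· ∈ B), (χ : G → ℂ) x * conj ((χ : G → ℂ) x) =
      ∑ a ∈ pairsAt p M B x, ∑ a' ∈ pairsAt p M B x,
        sct (χ : G → ℂ) a x 1 * conj (sct (χ : G → ℂ) a' x 1) := fun χ hχ => by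
    have hχ' := (Finset.mem_filter.1 hχ).2
    conv_lhs => rw [← mul_one x, value_eq_pairs hM hB hχ' hx (one_mem _) h1]
    simp only [mul_one, map_sum, Finset.sum_mul_sum]
  rw [Finset.sum_congr rfl e, Finset.sum_comm]
  let N : BrauerPairIdx G → ℕ := fun a =>
    ∑ ξ ∈ mems a, charDegree (ξ : CG a.1 → ℂ) * charDegree (ξ : CG a.1 → ℂ)
  rw [Finset.sum_congr rfl (g := fun a => (N a : ℂ)) fun a ha => ?_, ← Nat.cast_sum,
    Nat.cast_ne_zero]
  · refine (Finset.sum_pos (fun a ha => ?_) hne).ne'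
    obtain ⟨ξ, hξ⟩ := pblock_nonempty hM (mem_pairsAt.1 ha).2.1.2
    exact lt_of_lt_of_le (Nat.mul_pos (charDeg_pos ξ) (charDeg_pos ξ))
      (Finset.single_le_sum (f := fun ξ : IrrCharacter (CG a.1) =>
        charDegree (ξ : CG a.1 → ℂ) * charDegree (ξ : CG a.1 → ℂ)) (fun _ _ => Nat.zero_le _)
        (mem_mems.2 hξ))
  · obtain ⟨ha1, haB⟩ := mem_pairsAt.1 ha
    rw [Finset.sum_comm, Finset.sum_eq_single a]
    · letI := Fintype.ofFinite (CG a.1)
      have h := sum_sct_mul_conj hM hx ha1 haB 1 1 h1 h1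
      rw [kerB, finsum_mems] at h
      simp only [OneMemClass.coe_one] at h
      rw [h, Nat.cast_sum]
      exact Finset.sum_congr rfl fun ξ _ => by rw [charDeg_spec', map_natCast, Nat.cast_mul]
    · intro a' ha' hne'
      refine sum_sct_cross hM hx hx ha1 (mem_pairsAt.1 ha').1 haB (mem_pairsAt.1 ha').2
        (fun g hg hcj => ?_) (one_mem _) h1 (one_mem _) h1
      refine hne' ?_
      rw [← hcj, cjI_of_mem_cg]
      rw [ha1, cg_zpowers, Subgroup.mem_centralizer_singleton_iff]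
      exact mul_inv_eq_iff_eq_mul.1 hg
    · exact fun h => absurd ha h

/-- A union of classes containing an element seen by the block has a nonzero sum somewhere. -/
theorem block_sum_ne_zero (hM : IsPModular p M) (hB : IsPBlock M B) [DecidablePred (· ∈ B)]
    (T : Finset G) (hT : ∀ s ∈ T, ∃ k, orderOf s = p ^ k) {x : G} (hx : x ∈ T)
    (hne : (pairsAt p M B x).Nonempty) :
    ∑ χ ∈ Finset.univ.filter (· ∈ B), (∑ s ∈ T, (χ : G → ℂ) s) * conj ((χ : G → ℂ) x) ≠ 0 := by
  classical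
  set F : G → ℂ := fun s =>
    ∑ χ ∈ Finset.univ.filter (· ∈ B), (χ : G → ℂ) s * conj ((χ : G → ℂ) x) with hF
  obtain ⟨K, hK⟩ : ∃ K : Finset G, ∀ s, s ∈ K ↔ s ∈ T ∧ IsConj s x :=
    ⟨(Set.toFinite {s | s ∈ T ∧ IsConj s x}).toFinset, fun s => Set.Finite.mem_toFinset _⟩
  have h1 : ∑ s ∈ T, F s = ∑ s ∈ K, F s :=
    (Finset.sum_subset (fun s hs => ((hK s).1 hs).1) fun s hs hsK =>
      block_orth hM hB (hT s hs) (hT x hx) fun hc => hsK ((hK s).2 ⟨hs, hc⟩)).symm
  have h2 : ∀ s ∈ K, F s = F x := fun s hs => by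
    obtain ⟨g, hg⟩ := isConj_iff.1 ((hK s).1 hs).2
    refine Finset.sum_congr rfl fun χ _ => ?_
    have h := irr_classFun χ s g
    rw [hg] at h
    rw [h]
  have hxK : x ∈ K := (hK x).2 ⟨hx, IsConj.refl x⟩
  rw [Finset.sum_congr rfl fun χ _ => Finset.sum_mul _ _ _, Finset.sum_comm]
  show ∑ s ∈ T, F s ≠ 0
  rw [h1, Finset.sum_congr rfl h2, Finset.sum_const, nsmul_eq_mul]
  exact mul_ne_zero (Nat.cast_ne_zero.2 (Finset.card_pos.2 ⟨x, hxK⟩).ne')
    (block_self_ne_zero hM hB (hT x hx) hne)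

namespace Setup

variable {P : Subgroup G} {e : Set (IrrCharacter (CG P))} {r : G} {t : ℕ}
variable (S : Setup M B P e r t)

include S in
/-- At the centre the factorisations pair positively with the kernel. -/
theorem cnt_central_ne {a : BrauerPairIdx G} (hau : a.1 = Subgroup.zpowers (r ^ 2 ^ t))
    (hle : LE 2 M a (⟨P, e⟩ : BrauerPairIdx G)) (o : One 2 a) [Fintype (CG a.1)] :
    ∑ c : CG a.1, (cnt (r ^ 2 ^ t * (c : G)) : ℂ) * o.L c⁻¹ ≠ 0 := by
  classical
  set z := r ^ 2 ^ t with hz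
  have haB : OfB 2 M B a := S.ofB_of_le hle
  have hzo : orderOf z = 2 := S.dh.z_order
  have hzz : z * z = 1 := by rw [← pow_two, ← hzo, pow_orderOf_eq_one]
  have hzC : z ∈ CG a.1 := self_mem_cg hau
  have hmem : ∀ {g : G}, g ∈ CG a.1 ↔ g * z = z * g := fun {g} => by
    rw [hau, cg_zpowers, Subgroup.mem_centralizer_singleton_iff]
  set z' : CG a.1 := ⟨z, hzC⟩ with hz'
  have hzc : ∀ g : CG a.1, g * z' = z' * g := fun g => Subtype.ext (hmem.1 g.2)
  have hz'2 : z' * z' = 1 := Subtype.ext hzz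
  set T : Finset (CG a.1) :=
    Finset.univ.filter (fun s => s * s = 1 ∧ s ≠ 1 ∧ s ≠ z') with hT
  have hTm : ∀ {s : CG a.1}, s ∈ T ↔ s * s = 1 ∧ s ≠ 1 ∧ s ≠ z' := by intro s; simp [T]
  have hTcl : ∀ s ∈ T, ∀ y : CG a.1, y * s * y⁻¹ ∈ T := fun s hs y => by
    obtain ⟨h1, h2, h3⟩ := hTm.1 hs
    refine hTm.2 ⟨by rw [conj_mul, h1, mul_one, mul_inv_cancel], fun h => h2 (conj_eq_one_iff.1 h),
      fun h => h3 ?_⟩
    rw [mul_inv_eq_iff_eq_mul, ← hzc y] at h
    exact mul_left_cancel h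
  have hodd : ∀ {c : CG a.1}, ¬ 2 ∣ orderOf c → c * c = 1 → c = 1 := fun {c} hc hcc => by
    have h := (Nat.dvd_prime Nat.prime_two).1 (orderOf_dvd_of_pow_eq_one (by rw [pow_two, hcc] : c ^ 2 = 1))
    rcases h with h | h
    · exact orderOf_eq_one_iff.1 h
    · exact absurd (h ▸ dvd_rfl) hc
  -- the factorisations lie in the centraliser
  have hcnt : ∀ c : CG a.1, ¬ 2 ∣ orderOf c →
      cnt (z * (c : G)) = (T.filter (fun s => s * (z' * c) ∈ T)).card := by
    intro c hc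
    rw [cnt, Nat.card_eq_fintype_card, Fintype.card_subtype]
    symm
    refine Finset.card_bij (fun s _ => (s : G)) (fun s hs => ?_) (fun _ _ _ _ h => Subtype.ext h)
      (fun s hs => ?_)
    · obtain ⟨hs1, hs2⟩ := Finset.mem_filter.1 hs
      have hI : ∀ {w : CG a.1}, w ∈ T → (w : G) ∈ invs G := fun {w} hw =>
        mem_invs.2 ⟨congrArg Subtype.val (hTm.1 hw).1, fun h => (hTm.1 hw).2.1 (Subtype.ext h)⟩
      exact Finset.mem_filter.2 ⟨Finset.mem_univ _, hI hs1, hI hs2⟩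
    · obtain ⟨-, h1, h2⟩ := Finset.mem_filter.1 hs
      obtain ⟨hss, hs1⟩ := mem_invs.1 h1
      obtain ⟨hsg, hsg1⟩ := mem_invs.1 h2
      have hzg : z ∈ Subgroup.zpowers (z * (c : G)) := by
        refine mem_zpowers_mul ((hmem.1 c.2).symm) ?_
        rw [hzo, Subgroup.orderOf_coe]
        exact Nat.coprime_two_left.2 (Nat.not_even_iff_odd.1 fun h => hc h.two_dvd)
      have hsz := inverts hss hsg hzg
      rw [inv_eq_of_mul_eq_one_right hzz] at hsz
      have hsC : s ∈ CG a.1 := hmem.2 (mul_inv_eq_iff_eq_mul.1 hsz)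
      have e1 : (⟨s, hsC⟩ : CG a.1) * ⟨s, hsC⟩ = 1 := Subtype.ext hss
      have e2 : (⟨s, hsC⟩ : CG a.1) * (z' * c) * (⟨s, hsC⟩ * (z' * c)) = 1 := Subtype.ext hsg
      refine ⟨⟨s, hsC⟩, Finset.mem_filter.2 ⟨hTm.2 ⟨e1, fun h => hs1 (congrArg Subtype.val h),
        fun h => ?_⟩, hTm.2 ⟨e2, fun h => hsg1 (congrArg Subtype.val h), fun h => ?_⟩⟩, rfl⟩
      · rw [h, ← mul_assoc z' z' c, hz'2, one_mul] at e2
        have hc1 := hodd hc e2
        exact hsg1 (by rw [hc1, OneMemClass.coe_one, mul_one, show s = z from congrArg Subtype.val h, hzz])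
      · have hs' : (⟨s, hsC⟩ : CG a.1) = c⁻¹ := by
          rw [← eq_mul_inv_iff_mul_eq, mul_inv_rev, ← mul_assoc, ← hzc c⁻¹, mul_assoc,
            mul_inv_cancel, mul_one] at h
          exact h
        rw [hs'] at e1
        have hc1 := hodd (c := c⁻¹) (by rwa [orderOf_inv]) e1
        exact hs1 (congrArg Subtype.val (hs'.trans hc1))
  have hb := haB.1.2
  -- the kernel sum as a sum of squares
  have hshift : ∀ s ∈ T, s * z' ∈ T := fun s hs => by
    obtain ⟨h1, h2, h3⟩ := hTm.1 hs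
    refine hTm.2 ⟨?_, fun h => h3 ?_, fun h => h2 ?_⟩
    · rw [mul_assoc, ← mul_assoc z' s, ← hzc s, mul_assoc s z', hz'2, mul_one, h1]
    · rw [eq_inv_of_mul_eq_one_left h, inv_eq_of_mul_eq_one_right hz'2]
    · exact mul_eq_right.1 h
  have key : (o.g0 : ℂ) * ∑ c : CG a.1, (cnt (z * (c : G)) : ℂ) * o.L c⁻¹ =
      ∑ ξ ∈ mems a, conj (∑ s ∈ T, (ξ : CG a.1 → ℂ) s) * conj (∑ s ∈ T, (ξ : CG a.1 → ℂ) s) := by
    calc (o.g0 : ℂ) * ∑ c : CG a.1, (cnt (z * (c : G)) : ℂ) * o.L c⁻¹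
        = ∑ c : CG a.1, ∑ s ∈ T, if s * (z' * c) ∈ T then kerB a.2 1 c else 0 := by
          rw [Finset.mul_sum]
          refine Finset.sum_congr rfl fun c _ => ?_
          rw [o.kerB_eq]
          by_cases hc : 2 ∣ orderOf c
          · rw [o.L_singular S.hM hb (by rwa [orderOf_inv]), mul_zero, mul_zero]
            exact (Finset.sum_eq_zero fun s _ => by simp).symm
          · rw [hcnt c hc, ← Finset.sum_filter, Finset.sum_const, nsmul_eq_mul]
            ring
      _ = ∑ s ∈ T, ∑ s' ∈ T, kerB a.2 1 ((s * z')⁻¹ * s') := by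
          rw [Finset.sum_comm]
          refine Finset.sum_congr rfl fun s _ => ?_
          rw [← Finset.sum_filter]
          refine Finset.sum_bij' (fun c _ => s * (z' * c)) (fun s' _ => (s * z')⁻¹ * s')
            (fun c hc => (Finset.mem_filter.1 hc).2)
            (fun s' hs' => Finset.mem_filter.2 ⟨Finset.mem_univ _, ?_⟩) (fun c _ => by group)
            (fun s' _ => by group) fun c _ => by congr 1; group
          rwa [← mul_assoc, mul_inv_cancel_left]
      _ = ∑ s ∈ T, ∑ s' ∈ T, kerB a.2 1 (s * s') := by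
          refine Finset.sum_bij' (fun s _ => s * z') (fun s _ => s * z') hshift hshift
            (fun s _ => by rw [mul_assoc, hz'2, mul_one])
            (fun s _ => by rw [mul_assoc, hz'2, mul_one]) fun s hs => ?_
          refine Finset.sum_congr rfl fun s' _ => ?_
          rw [inv_eq_of_mul_eq_one_right (hTm.1 (hshift s hs)).1]
      _ = ∑ ξ ∈ mems a, (ξ : CG a.1 → ℂ) 1 *
            conj (∑ s ∈ T, ∑ s' ∈ T, (ξ : CG a.1 → ℂ) (s * s')) := by
          simp only [kerB, finsum_mems, map_sum, Finset.mul_sum]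
          conv_lhs => enter [2, s]; rw [Finset.sum_comm]
          rw [Finset.sum_comm]
      _ = _ := by
          refine Finset.sum_congr rfl fun ξ _ => ?_
          rw [pair_sum T hTcl, map_div₀, map_pow, charDeg_spec', map_natCast]
          have h0 : (charDegree (ξ : CG a.1 → ℂ) : ℂ) ≠ 0 :=
            Nat.cast_ne_zero.2 (charDeg_pos ξ).ne'
          field_simp
  intro h0
  rw [h0, mul_zero] at key
  -- the sums over the involutions are real
  have hreal : ∀ ξ : IrrCharacter (CG a.1),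
      conj (∑ s ∈ T, (ξ : CG a.1 → ℂ) s) = ∑ s ∈ T, (ξ : CG a.1 → ℂ) s := fun ξ => by
    rw [map_sum]
    exact Finset.sum_congr rfl fun s hs => by
      rw [← irr_apply_inv, inv_eq_of_mul_eq_one_right (hTm.1 hs).1]
  have hzero : ∀ ξ ∈ mems a, ∑ s ∈ T, (ξ : CG a.1 → ℂ) s = 0 := by
    have h1 : ((∑ ξ ∈ mems a, Complex.normSq (∑ s ∈ T, (ξ : CG a.1 → ℂ) s) : ℝ) : ℂ) = 0 := by
      rw [Complex.ofReal_sum, key]
      refine Finset.sum_congr rfl fun ξ _ => ?_
      rw [hreal ξ, ← Complex.mul_conj, hreal ξ]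
    intro ξ hξ
    exact Complex.normSq_eq_zero.1 ((Finset.sum_eq_zero_iff_of_nonneg
      fun _ _ => Complex.normSq_nonneg _).1 (Complex.ofReal_eq_zero.1 h1) ξ hξ)
  -- a reflection sees the block
  obtain ⟨s₀, hs₀, hs₀r⟩ := S.dh.exists_refl
  have hPC : P ≤ CG a.1 := fun w hw => hmem.2 (S.dh.z_central hw)
  have hd : blockDefect 2 a.2 = t + 2 :=
    S.defect_major hau (fun w hw => S.dh.z_central hw) hle
  have hD := isDefect_inf_of_card S.hM S.isPr hle (by
    rw [hd, ← S.dh.card]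
    exact Subgroup.card_le_of_le (le_inf le_rfl hPC))
  set s₀' : CG a.1 := ⟨s₀, hPC hs₀⟩ with hs₀'
  have hs₀o : ∃ k, orderOf s₀' = 2 ^ k := by
    obtain ⟨k, hk⟩ := S.ppow_mem hs₀
    exact ⟨k, by rw [Subgroup.orderOf_mk, hk]⟩
  have hs₀T : s₀' ∈ T := hTm.2 ⟨Subtype.ext (S.dh.refl s₀ hs₀ hs₀r).1,
    fun h => hs₀r (by rw [show s₀ = 1 from congrArg Subtype.val h]; exact one_mem _),
    fun h => hs₀r (by rw [show s₀ = z from congrArg Subtype.val h]; exact pow_mem (Subgroup.mem_zpowers r) _)⟩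
  obtain ⟨f, hf⟩ := (exists_pair_iff S.hM hb (isPGroup_zpowers hs₀o)).2
    ((not_brZero_iff S.hM hb hD (isPGroup_zpowers hs₀o)).2 ⟨1, by
      rw [map_conj_one, Subgroup.zpowers_le]
      exact Subgroup.mem_subgroupOf.2 ⟨hs₀, hPC hs₀⟩⟩)
  have hne : (pairsAt 2 M a.2 s₀').Nonempty :=
    ⟨⟨Subgroup.zpowers s₀', f⟩, mem_pairsAt.2 ⟨rfl, hf⟩⟩
  refine block_sum_ne_zero S.hM hb T (fun s hs => ⟨1, ?_⟩) hs₀T hne ?_
  · rw [pow_one]
    exact orderOf_eq_prime (by rw [pow_two, (hTm.1 hs).1]) (hTm.1 hs).2.1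
  · refine Finset.sum_eq_zero fun ξ hξ => ?_
    rw [hzero ξ (mem_mems.2 (Finset.mem_filter.1 hξ).2), zero_mul]

end Setup

end Cfsg.Agent.Char.DihBlk
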