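import Cfsg.Agent.Lib.Char.CoverTI
import Cfsg.Agent.Lib.Transfer.CN.MinSimple

/-!
A minimal simple CN-group of odd order cannot have coherent sets for all maximal nilpotent subgroups.
-/

set_option autoImplicit false

namespace Cfsg.Agent.Char.CoverTI

open Cfsg Cfsg.Agent.Char.FrobTI Cfsg.Agent.Transfer.CN

universe u

variable {G : Type u} [Group G] [Fintype G]

theorem false_of_stars (hG : Cfsg.IsMinSimpleOddOrder G) (hCN : Cfsg.IsCNGroup G)
    (hstar : ∀ (H : Subgroup G) [Fintype ↥(Subgroup.normalizer (H : Set G))], MaxNil H →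
      (∀ g : G, g ∉ Subgroup.normalizer (H : Set G) → ∀ k ∈ H, g * k * g⁻¹ ∈ H → k = 1) →
      H < Subgroup.normalizer (H : Set G) →
      (∀ k ∈ H, k ≠ 1 → Subgroup.centralizer ({k} : Set G) ≤ H) →
      ∃ star, StarData H {χ : ↥(Subgroup.normalizer (H : Set G)) → ℂ |
        IsIrrCharacter ↥(Subgroup.normalizer (H : Set G)) χ ∧ NonTriv (KN H) χ} star) : False := by
  classical
  haveI : IsSimpleGroup G := hG.2.1
  -- classes of maximal nilpotent subgroups
  let r : Setoid {H : Subgroup G // MaxNil H} :=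
    { r := fun A B => ∃ g : G, B.1 = A.1.map (MulAut.conj g).toMonoidHom
      iseqv :=
        { refl := fun A => ⟨1, by ext x; simp⟩
          symm := by
            rintro A B ⟨g, hg⟩
            refine ⟨g⁻¹, ?_⟩
            rw [hg, Subgroup.map_map]
            ext x; simp [mul_assoc]
          trans := by
            rintro A B C ⟨g, hg⟩ ⟨h, hh⟩
            refine ⟨h * g, ?_⟩
            rw [hh, hg, Subgroup.map_map]
            congr 1
            ext x; simp [mul_assoc] } }
  haveI : Fintype (Quotient r) := Fintype.ofFinite _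
  let K : Quotient r → Subgroup G := fun i => i.out.1
  have hK : ∀ i, MaxNil (K i) := fun i => i.out.2
  letI : ∀ i, Fintype ↥(NI K i) := fun i => Fintype.ofFinite _
  have hti : ∀ i, ∀ g : G, g ∉ NI K i → ∀ k ∈ K i, g * k * g⁻¹ ∈ K i → k = 1 :=
    fun i g hg k hk hgk => by_contra fun h =>
      hg (MinSimple.maxNil_mem_normalizer hG hCN (hK i) hk h hgk)
  have hlt : ∀ i, K i < NI K i := fun i => lt_of_le_of_ne Subgroup.le_normalizer fun e =>
    MinSimple.maxNil_not_nilpotent hG hCN (hK i) (isNilpotent_of_injective (Subgroup.inclusion (le_of_eq e.symm))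
      (Subgroup.inclusion_injective _) (hK i).nilpotent)
  choose star hst using fun i => hstar (K i) (hK i) (hti i) (hlt i)
    fun k hk hk1 => MinSimple.maxNil_cc hG hCN (hK i) hk hk1
  refine no_cover (K := K) (star := star)
    ⟨hG.1, fun i => MinSimple.maxNil_ne_bot hG hCN (hK i), hst, ?_, ?_⟩
  · intro i j hij k hk hk1 g hgk
    rcases MinSimple.maxNil_conj_or_coprime hG hCN (hK i) (hK j) with ⟨t, ht⟩ | hc
    · exact hij (by
        rw [← Quotient.out_eq i, ← Quotient.out_eq j]
        exact Quotient.sound ⟨t, ht⟩)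
    · refine hk1 (orderOf_eq_one_iff.1 (Nat.eq_one_of_dvd_one (hc ▸ Nat.dvd_gcd
        ((K i).orderOf_dvd_natCard hk) ?_)))
      rw [← orderOf_injective (MulAut.conj g).toMonoidHom (MulAut.conj g).injective k]
      exact (K j).orderOf_dvd_natCard (by simpa using hgk)
  · intro g _
    haveI : Std.Commutative (fun a b : Subgroup.zpowers g => a * b) :=
      ⟨fun a b => (Subgroup.zpowers_isMulCommutative g).is_comm.comm a b⟩
    obtain ⟨H, hH, hle⟩ := exists_maxNil (G := G) (K := Subgroup.zpowers g)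
      (@CommGroup.isNilpotent _ { (inferInstance : Group (Subgroup.zpowers g)) with
        mul_comm := fun a b => (Subgroup.zpowers_isMulCommutative g).is_comm.comm a b })
    obtain ⟨t, ht⟩ : ∃ t : G, (Quotient.out (Quotient.mk r ⟨H, hH⟩)).1 =
        H.map (MulAut.conj t).toMonoidHom :=
      Setoid.symm (Quotient.mk_out (s := r) (⟨H, hH⟩ : {H : Subgroup G // MaxNil H}))
    refine ⟨Quotient.mk r ⟨H, hH⟩, t, ?_⟩
    show t * g * t⁻¹ ∈ (Quotient.out (Quotient.mk r ⟨H, hH⟩)).1
    rw [ht]
    exact ⟨g, hle (Subgroup.mem_zpowers g), by simp⟩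

end Cfsg.Agent.Char.CoverTI
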