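import Cfsg.Agent.Lib.Char.Coherence

/-!
Tools for extending coherence: extension from orthogonal generators, tight projections.
-/

namespace Cfsg.Agent.Char.Coh

open scoped ComplexConjugate
open Cfsg

set_option linter.unusedSectionVars false

universe u v

variable {L : Type u} [Group L] [Fintype L] {G : Type v} [Group G] [Fintype G]

/-- A map from orthogonal generators with the same Gram matrix extends to an isometry of the span. -/
theorem exists_isometry (U : Finset (L → ℂ)) (f : (L → ℂ) → (G → ℂ))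
    (horth : ∀ u ∈ U, ∀ v ∈ U, u ≠ v → classInner u v = 0) (hnz : ∀ u ∈ U, classInner u u ≠ 0)
    (hgram : ∀ u ∈ U, ∀ v ∈ U, classInner (f u) (f v) = classInner u v)
    (hgen : ∀ u ∈ U, IsGeneralizedCharacter G (f u)) :
    ∃ τ₁ : (L → ℂ) → (G → ℂ), IsLinearIsometryOn (zspan (↑U : Set (L → ℂ))) τ₁ ∧
      ∀ u ∈ U, τ₁ u = f u := by
  classical
  let T : (L → ℂ) → (G → ℂ) := fun α => ∑ u ∈ U, (classInner α u / classInner u u) • f u
  have hadd : ∀ α β, T (α + β) = T α + T β := fun α β => by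
    simp only [T, classInner_add_left, add_div, add_smul, Finset.sum_add_distrib]
  have hsmul : ∀ (c : ℂ) α, T (c • α) = c • T α := fun c α => by
    simp only [T, classInner_smul_left, mul_div_assoc, mul_smul, Finset.smul_sum]
  have hzsmul : ∀ (k : ℤ) α, T (k • α) = k • T α := fun k α => by
    rw [← Int.cast_smul_eq_zsmul ℂ, hsmul, Int.cast_smul_eq_zsmul]
  have hzero : T 0 = 0 := by simpa using hsmul 0 0
  have hbase : ∀ u ∈ U, T u = f u := fun u hu => by
    simp only [T]
    rw [Finset.sum_eq_single u (fun v hv h => by rw [horth u hu v hv h.symm, zero_div, zero_smul])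
      (fun h => absurd hu h), div_self (hnz u hu), one_smul]
  refine ⟨T, ⟨fun α _ β _ => hadd α β, fun α _ k => hzsmul k α, fun α hα β hβ => ?_,
    fun α hα => ?_⟩, hbase⟩
  · induction hα using Submodule.span_induction with
    | mem x hx =>
      induction hβ using Submodule.span_induction with
      | mem y hy => rw [hbase x hx, hbase y hy, hgram x hx y hy]
      | zero => rw [hzero, classInner_zero_right, classInner_zero_right]
      | add y z _ _ hy hz => rw [hadd, classInner_add_right, classInner_add_right, hy, hz]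
      | smul k y _ hy =>
        rw [hzsmul, ← Int.cast_smul_eq_zsmul ℂ k (T y), ← Int.cast_smul_eq_zsmul ℂ k y,
          classInner_smul_right, classInner_smul_right, hy]
    | zero => rw [hzero, classInner_zero_left, classInner_zero_left]
    | add y z _ _ hy hz => rw [hadd, classInner_add_left, classInner_add_left, hy, hz]
    | smul k y _ hy =>
      rw [hzsmul, ← Int.cast_smul_eq_zsmul ℂ k (T y), ← Int.cast_smul_eq_zsmul ℂ k y,
        classInner_smul_left, classInner_smul_left, hy]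
  · induction hα using Submodule.span_induction with
    | mem x hx => rw [hbase x hx]; exact hgen x hx
    | zero =>
      rw [hzero]
      simpa using IsGenChar.sum (G := G) (s := (∅ : Finset (L → ℂ))) (f := f) (fun _ h => by simp at h)
    | add y z _ _ hy hz => rw [hadd]; exact IsGenChar.add hy hz
    | smul k y _ hy => rw [hzsmul, ← Int.cast_smul_eq_zsmul ℂ]; exact IsGenChar.zsmul hy k

theorem zspanOn_add {U : Set (L → ℂ)} {A : Set L} {α β : L → ℂ} (hα : α ∈ zspanOn U A)
    (hβ : β ∈ zspanOn U A) : α + β ∈ zspanOn U A :=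
  ⟨Submodule.add_mem _ hα.1 hβ.1, fun x hx => by rw [Pi.add_apply, hα.2 x hx, hβ.2 x hx, add_zero]⟩

theorem zspanOn_zsmul {U : Set (L → ℂ)} {A : Set L} {α : L → ℂ} (hα : α ∈ zspanOn U A) (k : ℤ) :
    k • α ∈ zspanOn U A :=
  ⟨Submodule.smul_mem _ k hα.1, fun x hx => by rw [Pi.smul_apply, hα.2 x hx, smul_zero]⟩

theorem zspanOn_zero {U : Set (L → ℂ)} {A : Set L} : (0 : L → ℂ) ∈ zspanOn U A :=
  ⟨Submodule.zero_mem _, fun _ _ => rfl⟩

theorem isometry_map_sum {ι : Type*} {U : Set (L → ℂ)} {A : Set L} {τ : (L → ℂ) → (G → ℂ)}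
    (hτ : IsLinearIsometryOn (zspanOn U A) τ) (s : Finset ι) (g : ι → L → ℂ)
    (hg : ∀ i ∈ s, g i ∈ zspanOn U A) :
    (∑ i ∈ s, g i) ∈ zspanOn U A ∧ τ (∑ i ∈ s, g i) = ∑ i ∈ s, τ (g i) := by
  induction s using Finset.cons_induction with
  | empty =>
    have h := hτ.2.1 _ (zspanOn_zero (U := U) (A := A)) 0
    simp only [zero_smul, Finset.sum_empty] at h ⊢
    exact ⟨zspanOn_zero, h⟩
  | cons i s hi ih =>
    obtain ⟨h1, h2⟩ := ih fun j hj => hg j (Finset.mem_cons_of_mem hj)
    have h3 := hg i (Finset.mem_cons_self i s)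
    rw [Finset.sum_cons, Finset.sum_cons]
    exact ⟨zspanOn_add h3 h1, by rw [hτ.1 _ h3 _ h1, h2]⟩

/-- Agreement on the differences with one member gives agreement on everything vanishing at one. -/
theorem agree_of_generators (U : Finset (L → ℂ)) (d : (L → ℂ) → ℕ)
    (hd : ∀ u ∈ U, u 1 = (d u : ℂ)) {χ₁ : L → ℂ} (hχ₁ : χ₁ ∈ U) (hd₁ : d χ₁ ≠ 0)
    {τ τ₁ : (L → ℂ) → (G → ℂ)} (hτ : IsLinearIsometryOn (zspanOn (↑U : Set (L → ℂ)) {1}ᶜ) τ)
    (hτ₁ : IsLinearIsometryOn (zspan (↑U : Set (L → ℂ))) τ₁)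
    (h : ∀ u ∈ U, τ₁ ((d χ₁ : ℤ) • u - (d u : ℤ) • χ₁) = τ ((d χ₁ : ℤ) • u - (d u : ℤ) • χ₁)) :
    ∀ α ∈ zspanOn (↑U : Set (L → ℂ)) {1}ᶜ, τ₁ α = τ α := by
  classical
  intro α hα
  obtain ⟨c, -, hc⟩ := Submodule.mem_span_finset.1 hα.1
  set e : (L → ℂ) → (L → ℂ) := fun u => (d χ₁ : ℤ) • u - (d u : ℤ) • χ₁ with he
  have hemem : ∀ u ∈ U, c u • e u ∈ zspanOn (↑U : Set (L → ℂ)) {1}ᶜ := fun u hu =>
    zspanOn_zsmul (mem_zspanOn_one
      (Submodule.sub_mem _ (Submodule.smul_mem _ _ (Submodule.subset_span hu))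
        (Submodule.smul_mem _ _ (Submodule.subset_span hχ₁)))
      (by simp only [he, ← Int.cast_smul_eq_zsmul ℂ, Pi.sub_apply, Pi.smul_apply, smul_eq_mul, hd u hu, hd χ₁ hχ₁]
          push_cast; ring)) _
  have h0 : ∑ u ∈ U, c u * (d u : ℤ) = 0 := by
    have h1 := one_of_mem_zspanOn hα
    rw [← hc, Finset.sum_apply, Finset.sum_congr rfl (g := fun u => ((c u * (d u : ℤ) : ℤ) : ℂ))
      (fun u hu => by rw [Pi.smul_apply, zsmul_eq_mul, hd u hu]; push_cast; ring), ← Int.cast_sum] at h1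
    exact_mod_cast h1
  have hsum : (d χ₁ : ℤ) • α = ∑ u ∈ U, c u • e u := by
    simp only [he, smul_sub, smul_smul, Finset.sum_sub_distrib, ← Finset.sum_smul]
    rw [h0, zero_smul, sub_zero, ← hc, Finset.smul_sum]
    exact Finset.sum_congr rfl fun u _ => by rw [smul_smul, mul_comm]
  have hτ₁' : IsLinearIsometryOn (zspanOn (↑U : Set (L → ℂ)) {1}ᶜ) τ₁ :=
    ⟨fun a ha b hb => hτ₁.1 a ha.1 b hb.1, fun a ha => hτ₁.2.1 a ha.1,
      fun a ha b hb => hτ₁.2.2.1 a ha.1 b hb.1, fun a ha => hτ₁.2.2.2 a ha.1⟩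
  have key : (d χ₁ : ℤ) • τ₁ α = (d χ₁ : ℤ) • τ α := by
    rw [← hτ₁'.2.1 α hα, ← hτ.2.1 α hα, hsum, (isometry_map_sum hτ₁' U _ hemem).2,
      (isometry_map_sum hτ U _ hemem).2]
    refine Finset.sum_congr rfl fun u hu => ?_
    have hu' : e u ∈ zspanOn (↑U : Set (L → ℂ)) {1}ᶜ := mem_zspanOn_one
      (Submodule.sub_mem _ (Submodule.smul_mem _ _ (Submodule.subset_span hu))
        (Submodule.smul_mem _ _ (Submodule.subset_span hχ₁)))
      (by simp only [he, ← Int.cast_smul_eq_zsmul ℂ, Pi.sub_apply, Pi.smul_apply, smul_eq_mul, hd u hu, hd χ₁ hχ₁]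
          push_cast; ring)
    rw [hτ₁'.2.1 _ hu', hτ.2.1 _ hu', h u hu]
  funext g
  have := congrFun key g
  simp only [Pi.smul_apply, zsmul_eq_mul] at this
  exact mul_left_cancel₀ (by exact_mod_cast hd₁) this

/-- An orthonormal set with integral coefficients of sum `n` carries norm at least `n`, with equality only
for a sum of `n` of its members. -/
theorem projection_bound (T : Finset (G → ℂ)) (hgen : ∀ α ∈ T, IsGeneralizedCharacter G α)
    (horth : ∀ α ∈ T, ∀ β ∈ T, α ≠ β → classInner α β = 0) (hone : ∀ α ∈ T, classInner α α = 1)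
    (w : G → ℂ) (n : ℕ) (hint : ∀ α ∈ T, ∃ k : ℤ, classInner w α = k)
    (hsum : classInner w (∑ α ∈ T, α) = n) :
    (n : ℝ) ≤ (classInner w w).re ∧
      (classInner w w = n → ∃ A ⊆ T, A.card = n ∧ w = ∑ α ∈ A, α) := by
  classical
  choose! a ha using hint
  have hs : ∑ α ∈ T, a α = (n : ℤ) := by
    rw [classInner_sum_right, Finset.sum_congr rfl ha] at hsum
    exact_mod_cast hsum
  set P := ∑ α ∈ T, (a α : ℂ) • α with hP
  have hPα : ∀ α ∈ T, classInner P α = (a α : ℂ) := fun α hα => by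
    rw [hP, classInner_sum_left, Finset.sum_eq_single α
      (fun β hβ h => by rw [classInner_smul_left, horth β hβ α hα h, mul_zero])
      (fun h => absurd hα h), classInner_smul_left, hone α hα, mul_one]
  have hwP : classInner w P = ((∑ α ∈ T, a α ^ 2 : ℤ) : ℂ) := by
    rw [hP, classInner_sum_right, Int.cast_sum]
    refine Finset.sum_congr rfl fun α hα => ?_
    rw [classInner_smul_right, ha α hα, map_intCast]; push_cast; ring
  have hPP : classInner P P = ((∑ α ∈ T, a α ^ 2 : ℤ) : ℂ) := by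
    conv_lhs => arg 2; rw [hP]
    rw [classInner_sum_right, Int.cast_sum]
    refine Finset.sum_congr rfl fun α hα => ?_
    rw [classInner_smul_right, hPα α hα, map_intCast]; push_cast; ring
  have hVV : classInner (w - P) (w - P) = classInner w w - ((∑ α ∈ T, a α ^ 2 : ℤ) : ℂ) := by
    rw [classInner_sub_left, classInner_sub_right, classInner_sub_right, hwP, hPP,
      ← classInner_conj_symm w P, hwP, map_intCast]
    ring
  have hnn := classInner_self_re_nonneg (w - P)
  rw [hVV, Complex.sub_re, Complex.intCast_re] at hnn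
  have hle2 : ∀ α ∈ T, a α ≤ a α ^ 2 := fun α _ => Int.le_self_sq _
  have hle := Finset.sum_le_sum hle2
  rw [hs] at hle
  have hleR : (n : ℝ) ≤ ((∑ α ∈ T, a α ^ 2 : ℤ) : ℝ) := by exact_mod_cast hle
  refine ⟨by linarith, fun hw => ?_⟩
  rw [hw, Complex.natCast_re] at hnn
  have heqR : ((∑ α ∈ T, a α ^ 2 : ℤ) : ℝ) = ((n : ℤ) : ℝ) := by push_cast at hleR hnn ⊢; linarith
  have heq : ∑ α ∈ T, a α ^ 2 = (n : ℤ) := by exact_mod_cast heqR
  have h01 : ∀ α ∈ T, a α = 0 ∨ a α = 1 := fun α hα => by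
    have h := (Finset.sum_eq_sum_iff_of_le hle2).1 (by rw [hs, heq]) α hα
    have : a α * (a α - 1) = 0 := by linear_combination -h
    rcases mul_eq_zero.1 this with h | h
    · exact Or.inl h
    · exact Or.inr (by omega)
  refine ⟨T.filter fun α => a α = 1, Finset.filter_subset _ _, ?_, ?_⟩
  · have h : (((T.filter fun α => a α = 1).card : ℕ) : ℤ) = n := by
      rw [← hs, Finset.card_filter, Nat.cast_sum]
      exact Finset.sum_congr rfl fun α hα => by rcases h01 α hα with h | h <;> simp [h]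
    exact_mod_cast h
  · have : w - P = 0 := by
      rw [← classInner_self_eq_zero, hVV, hw, heq]; push_cast; ring
    rw [sub_eq_zero.1 this, hP, Finset.sum_filter]
    exact Finset.sum_congr rfl fun α hα => by rcases h01 α hα with h | h <;> simp [h]

end Cfsg.Agent.Char.Coh
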