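import Cfsg.Agent.Lib.Char.FrobTI
import Cfsg.Agent.Lib.Char.CoherentExtend

/-!
The values on the kernel of the extended isometry.
-/

set_option autoImplicit false

namespace Cfsg.Agent.Char.FrobTI

open scoped ComplexConjugate
open Cfsg

universe u

variable {G : Type u} [Group G] [Fintype G] {K : Subgroup G}

/-- The data of a coherent set. -/
structure StarData (K : Subgroup G) [Fintype ↥(Subgroup.normalizer (K : Set G))]
    (S : Set (↥(Subgroup.normalizer (K : Set G)) → ℂ))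
    (star : (↥(Subgroup.normalizer (K : Set G)) → ℂ) → (G → ℂ)) : Prop where
  tI : ∀ g : G, g ∉ Subgroup.normalizer (K : Set G) → ∀ k ∈ K, g * k * g⁻¹ ∈ K → k = 1
  lt : K < Subgroup.normalizer (K : Set G)
  cent : ∀ k ∈ K, k ≠ 1 → Subgroup.centralizer ({k} : Set G) ≤ K
  mem : ∀ χ, χ ∈ S ↔ IsIrrCharacter ↥(Subgroup.normalizer (K : Set G)) χ ∧ NonTriv (KN K) χ
  isometry : IsLinearIsometryOn (zspan S) star
  ext : ∀ α ∈ zspanOn S ({1}ᶜ : Set ↥(Subgroup.normalizer (K : Set G))),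
    star α = indFun (Subgroup.normalizer (K : Set G)) α

theorem mem_iff (χ : ↥(Subgroup.normalizer (K : Set G)) → ℂ) :
    χ ∈ {χ : ↥(Subgroup.normalizer (K : Set G)) → ℂ | IsIrrCharacter ↥(Subgroup.normalizer (K : Set G)) χ ∧ ∃ k : ↥(Subgroup.normalizer (K : Set G)), (k : G) ∈ K ∧ χ k ≠ χ 1} ↔
      IsIrrCharacter ↥(Subgroup.normalizer (K : Set G)) χ ∧ NonTriv (KN K) χ := by
  simp only [Set.mem_setOf_eq, NonTriv, KN, Subgroup.mem_subgroupOf]

variable [Fintype ↥(Subgroup.normalizer (K : Set G))] {S : Set (↥(Subgroup.normalizer (K : Set G)) → ℂ)} {star : (↥(Subgroup.normalizer (K : Set G)) → ℂ) → (G → ℂ)}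

theorem StarData.mem_span (h : StarData K S star) {χ : ↥(Subgroup.normalizer (K : Set G)) → ℂ} (hχ : χ ∈ S) : χ ∈ zspan S :=
  Submodule.subset_span hχ

/-- The combination vanishing at one. -/
theorem StarData.comb (h : StarData K S star) {χ ξ : ↥(Subgroup.normalizer (K : Set G)) → ℂ} (hχ : χ ∈ S) (hξ : ξ ∈ S)
    {a b : ℕ} (ha : χ 1 = a) (hb : ξ 1 = b) :
    (b : ℤ) • χ + (-(a : ℤ)) • ξ ∈ zspanOn S ({1}ᶜ : Set ↥(Subgroup.normalizer (K : Set G))) ∧
      star ((b : ℤ) • χ + (-(a : ℤ)) • ξ) = (b : ℂ) • star χ - (a : ℂ) • star ξ := by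
  have h1 : (b : ℤ) • χ ∈ zspan S := Submodule.smul_mem _ _ (h.mem_span hχ)
  have h2 : (-(a : ℤ)) • ξ ∈ zspan S := Submodule.smul_mem _ _ (h.mem_span hξ)
  refine ⟨Coh.mem_zspanOn_one (Submodule.add_mem _ h1 h2) ?_, ?_⟩
  · simp [ha, hb]; ring
  · rw [h.isometry.1 _ h1 _ h2, h.isometry.2.1 _ (h.mem_span hχ), h.isometry.2.1 _ (h.mem_span hξ)]
    funext x
    simp
    ring

/-- The difference vanishing at one is supported on the kernel. -/
theorem StarData.res_comb (h : StarData K S star) {χ ξ : ↥(Subgroup.normalizer (K : Set G)) → ℂ} (hχ : χ ∈ S) (hξ : ξ ∈ S)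
    {a b : ℕ} (ha : χ 1 = a) (hb : ξ 1 = b) (x : ↥(Subgroup.normalizer (K : Set G))) :
    (b : ℂ) * star χ x - (a : ℂ) * star ξ x = (b : ℂ) * χ x - (a : ℂ) * ξ x := by
  obtain ⟨h1, h2⟩ := h.comb hχ hξ ha hb
  obtain ⟨hχi, hχn⟩ := (h.mem χ).1 hχ
  obtain ⟨hξi, hξn⟩ := (h.mem ξ).1 hξ
  have hfix := fix_of_centralizer K h.cent
  have e := res_ind K h.cent h.tI h.lt (α := (b : ℤ) • χ + (-(a : ℤ)) • ξ) ?_ ?_ ?_ x
  · rw [← h.ext _ h1, h2] at e
    simp only [Pi.sub_apply, Pi.smul_apply, smul_eq_mul, Pi.add_apply, zsmul_eq_mul,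
      Pi.mul_apply, Pi.intCast_apply] at e
    push_cast at e
    linear_combination e
  · intro g y
    simp [IsIrr.classFun hχi g y, IsIrr.classFun hξi g y]
  · intro y hy
    simp [vanish (KN K) hfix hχi hχn hy, vanish (KN K) hfix hξi hξn hy]
  · simp [ha, hb]; ring

theorem StarData.gen (h : StarData K S star) {χ : ↥(Subgroup.normalizer (K : Set G)) → ℂ} (hχ : χ ∈ S) :
    IsGeneralizedCharacter G (star χ) := h.isometry.2.2.2 _ (h.mem_span hχ)

theorem StarData.inner_comb (h : StarData K S star) {χ ξ : ↥(Subgroup.normalizer (K : Set G)) → ℂ} (hχ : χ ∈ S) (hξ : ξ ∈ S)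
    {a b : ℕ} (ha : χ 1 = a) (hb : ξ 1 = b) {F : G → ℂ} (hF : IsClassFunction G F) :
    (b : ℂ) * classInner (fun x : ↥(Subgroup.normalizer (K : Set G)) => F x) χ - (a : ℂ) * classInner (fun x : ↥(Subgroup.normalizer (K : Set G)) => F x) ξ =
      (b : ℂ) * classInner F (star χ) - (a : ℂ) * classInner F (star ξ) := by
  obtain ⟨h1, h2⟩ := h.comb hχ hξ ha hb
  have e := classInner_indFun_right (Subgroup.normalizer (K : Set G))
    ((b : ℤ) • χ + (-(a : ℤ)) • ξ) hF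
  rw [← h.ext _ h1, h2, sub_eq_add_neg, ← neg_smul, classInner_add_right, classInner_smul_right,
    classInner_smul_right, ← Int.cast_smul_eq_zsmul ℂ, ← Int.cast_smul_eq_zsmul ℂ,
    classInner_add_right, classInner_smul_right, classInner_smul_right] at e
  simp only [map_neg, map_natCast, map_intCast, Int.cast_neg, Int.cast_natCast] at e
  linear_combination -e

open Classical in
/-- Each image is constant on the nontrivial kernel elements after subtracting the character. -/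
theorem StarData.diff_const (h : StarData K S star) {χ : ↥(Subgroup.normalizer (K : Set G)) → ℂ} (hχ : χ ∈ S) :
    ∃ z : ℤ, ∀ k : ↥(Subgroup.normalizer (K : Set G)), (k : G) ∈ K → k ≠ 1 → star χ k - χ k = (z : ℂ) := by
  obtain ⟨hχi, hχn⟩ := (h.mem χ).1 hχ
  obtain ⟨a, ha0, ha⟩ := IsIrr.one_eq_pos hχi
  set F : ↥(Subgroup.normalizer (K : Set G)) → ℂ := (fun x : ↥(Subgroup.normalizer (K : Set G)) => star χ x) - χ with hF
  have hgen : IsGeneralizedCharacter ↥(Subgroup.normalizer (K : Set G)) F :=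
    IsGenChar.sub (IsGenChar.comp (Subgroup.normalizer (K : Set G)).subtype (h.gen hχ))
      (IsGenChar.of_isCharacter (IsIrr.isCharacter hχi))
  set t := classInner F χ / (a : ℂ) with ht
  have hprop : ∀ ρ : IrrCharacter ↥(Subgroup.normalizer (K : Set G)), NonTriv (KN K) (ρ : ↥(Subgroup.normalizer (K : Set G)) → ℂ) →
      classInner F (ρ : ↥(Subgroup.normalizer (K : Set G)) → ℂ) = t * (ρ : ↥(Subgroup.normalizer (K : Set G)) → ℂ) 1 := by
    intro ρ hρ
    have hρS : (ρ : ↥(Subgroup.normalizer (K : Set G)) → ℂ) ∈ S := (h.mem _).2 ⟨ρ.2, hρ⟩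
    obtain ⟨b, -, hb⟩ := IsIrr.one_eq_pos ρ.2
    have e := h.inner_comb hχ hρS ha hb (IsGenChar.classFun (h.gen hχ))
    rw [h.isometry.2.2.1 _ (h.mem_span hχ) _ (h.mem_span hχ),
      h.isometry.2.2.1 _ (h.mem_span hχ) _ (h.mem_span hρS)] at e
    have ha' : (a : ℂ) ≠ 0 := by exact_mod_cast ha0.ne'
    rw [ht, hb, hF, classInner_sub_left, classInner_sub_left]
    field_simp
    linear_combination -e
  obtain ⟨z, hz⟩ := int_of_int (KN K) (t := t) (χ₀ := ⟨χ, hχi⟩) hχn fun ρ hρ => by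
    obtain ⟨w, hw⟩ := IsGenChar.classInner_int hgen
      (IsGenChar.of_isCharacter (IsIrr.isCharacter ρ.2))
    exact ⟨w, by rw [← hprop ρ hρ, hw]⟩
  choose w hw using fun ρ : IrrCharacter ↥(Subgroup.normalizer (K : Set G)) => IsGenChar.classInner_int hgen
    (IsGenChar.of_isCharacter (IsIrr.isCharacter ρ.2))
  choose d hd0 hd using fun ρ : IrrCharacter ↥(Subgroup.normalizer (K : Set G)) => IsIrr.one_eq_pos ρ.2
  refine ⟨(∑ ρ ∈ Finset.univ.filter (fun ρ : IrrCharacter ↥(Subgroup.normalizer (K : Set G)) =>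
    ¬ NonTriv (KN K) (ρ : ↥(Subgroup.normalizer (K : Set G)) → ℂ)), w ρ * (d ρ : ℤ)) - z, fun k hk hk1 => ?_⟩
  have e := value_of_proportional (KN K) (IsGenChar.classFun hgen) hprop (k := k) hk hk1
  rw [hz] at e
  rw [show star χ k - χ k = F k from rfl, e]
  push_cast
  simp [hw, hd]

theorem StarData.exists_m (h : StarData K S star) {χ₀ : ↥(Subgroup.normalizer (K : Set G)) → ℂ} (h0 : χ₀ ∈ S) :
    ∃ m : ℤ, ∀ χ ∈ S, ∀ k : ↥(Subgroup.normalizer (K : Set G)), (k : G) ∈ K → k ≠ 1 →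
      star χ k - χ k = (m : ℂ) * χ 1 / ((KN K).index : ℂ) := by
  classical
  obtain ⟨h0i, k₀, hk₀, hk₀n⟩ := (h.mem χ₀).1 h0
  have hk₀1 : k₀ ≠ 1 := fun e => hk₀n (by rw [e])
  obtain ⟨a, ha0, ha⟩ := IsIrr.one_eq_pos h0i
  obtain ⟨z₀, hz₀⟩ := h.diff_const h0
  set q : ℂ := (z₀ : ℂ) / (a : ℂ) with hq
  have ha' : (a : ℂ) ≠ 0 := by exact_mod_cast ha0.ne'
  have key : ∀ χ ∈ S, ∀ k : ↥(Subgroup.normalizer (K : Set G)), (k : G) ∈ K → k ≠ 1 → star χ k - χ k = q * χ 1 := by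
    intro χ hχ k hk hk1
    obtain ⟨b, -, hb⟩ := IsIrr.one_eq_pos ((h.mem χ).1 hχ).1
    have e := h.res_comb hχ h0 hb ha k
    rw [hq, hb, ← hz₀ k hk hk1]
    field_simp
    linear_combination e
  obtain ⟨m, hm⟩ := int_of_int (KN K) (t := q) (χ₀ := ⟨χ₀, h0i⟩) ⟨k₀, hk₀, hk₀n⟩ fun ρ hρ => by
    have hρS : (ρ : ↥(Subgroup.normalizer (K : Set G)) → ℂ) ∈ S := (h.mem _).2 ⟨ρ.2, hρ⟩
    obtain ⟨w, hw⟩ := h.diff_const hρS
    exact ⟨w, by rw [← key _ hρS k₀ hk₀ hk₀1, hw k₀ hk₀ hk₀1]⟩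
  refine ⟨m, fun χ hχ k hk hk1 => ?_⟩
  rw [key χ hχ k hk hk1, ← hm]
  have hi : ((KN K).index : ℂ) ≠ 0 := Nat.cast_ne_zero.mpr Subgroup.index_ne_zero_of_finite
  field_simp

theorem StarData.exceptional_iff (h : StarData K S star) (htwo : ∃ χ ∈ S, ∃ ξ ∈ S, χ ≠ ξ)
    {ψ : G → ℂ} (hψ : IsIrrCharacter G ψ) :
    (∃ χ ∈ S, ψ = star χ ∨ ψ = -star χ) ↔
      ∃ a ∈ K, ∃ b ∈ K, a ≠ 1 ∧ b ≠ 1 ∧ ψ a ≠ ψ b := by
  classical
  constructor
  · rintro ⟨χ, hχ, hcase⟩
    obtain ⟨hχi, hχn⟩ := (h.mem χ).1 hχ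
    obtain ⟨x, hx, y, hy, hxy⟩ := htwo
    obtain ⟨ξ, hξ, hne⟩ : ∃ ξ ∈ S, χ ≠ ξ := by
      rcases eq_or_ne χ x with rfl | hne
      · exact ⟨y, hy, hxy⟩
      · exact ⟨x, hx, hne⟩
    obtain ⟨hξi, hξn⟩ := (h.mem ξ).1 hξ
    obtain ⟨a, ha, b, hb, ha1, hb1, hab⟩ := not_const (KN K) (fix_of_centralizer K h.cent)
      (χ := ⟨χ, hχi⟩) (ξ := ⟨ξ, hξi⟩) hχn hξn (fun e => hne (congrArg Subtype.val e))
    obtain ⟨z, hz⟩ := h.diff_const hχ
    have hne' : star χ a ≠ star χ b := fun e => hab (by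
      have e1 := hz a ha ha1
      have e2 := hz b hb hb1
      show χ a = χ b
      linear_combination e2 - e1 + e)
    refine ⟨a, ha, b, hb, fun e => ha1 (Subtype.ext e), fun e => hb1 (Subtype.ext e), ?_⟩
    rcases hcase with rfl | rfl
    · exact hne'
    · simpa using hne'
  · intro hex
    by_contra hno
    push Not at hno
    obtain ⟨x, hx, -⟩ := htwo
    obtain ⟨hxi, hxn⟩ := (h.mem x).1 hx
    obtain ⟨a, ha0, ha⟩ := IsIrr.one_eq_pos hxi
    have horth : ∀ χ ∈ S, classInner ψ (star χ) = 0 := by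
      intro χ hχ
      have hn : classInner (star χ) (star χ) = 1 := by
        rw [h.isometry.2.2.1 _ (h.mem_span hχ) _ (h.mem_span hχ),
          classInner_self_irr ((h.mem χ).1 hχ).1]
      rcases IsGenChar.norm_one (h.gen hχ) hn with hi | hi
      · exact classInner_irr_ne hψ hi (hno χ hχ).1
      · have e := classInner_irr_ne hψ hi (hno χ hχ).2
        rwa [classInner_neg_right, neg_eq_zero] at e
    set F : ↥(Subgroup.normalizer (K : Set G)) → ℂ := fun y => ψ y with hF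
    have hFc : IsClassFunction ↥(Subgroup.normalizer (K : Set G)) F :=
      IsChar.classFun (IsChar.res (IsIrr.isCharacter hψ) _)
    have hprop : ∀ ρ : IrrCharacter ↥(Subgroup.normalizer (K : Set G)), NonTriv (KN K) (ρ : ↥(Subgroup.normalizer (K : Set G)) → ℂ) →
        classInner F (ρ : ↥(Subgroup.normalizer (K : Set G)) → ℂ) = classInner F x / (a : ℂ) * (ρ : ↥(Subgroup.normalizer (K : Set G)) → ℂ) 1 := by
      intro ρ hρ
      have hρS : (ρ : ↥(Subgroup.normalizer (K : Set G)) → ℂ) ∈ S := (h.mem _).2 ⟨ρ.2, hρ⟩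
      obtain ⟨b, -, hb⟩ := IsIrr.one_eq_pos ρ.2
      have e := h.inner_comb hx hρS ha hb (IsIrr.classFun hψ)
      rw [horth _ hx, horth _ hρS] at e
      have ha' : (a : ℂ) ≠ 0 := by exact_mod_cast ha0.ne'
      rw [hb]
      field_simp
      linear_combination -e
    obtain ⟨u, hu, v, hv, hu1, hv1, huv⟩ := hex
    refine huv ?_
    have eu := value_of_proportional (KN K) hFc hprop (k := ⟨u, Subgroup.le_normalizer hu⟩) hu
      (fun e => hu1 (congrArg Subtype.val e))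
    have ev := value_of_proportional (KN K) hFc hprop (k := ⟨v, Subgroup.le_normalizer hv⟩) hv
      (fun e => hv1 (congrArg Subtype.val e))
    exact eu.trans ev.symm

end Cfsg.Agent.Char.FrobTI
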