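import Cfsg.Agent.Lib.Char.SibleyCoherence
import Cfsg.Agent.Lib.Char.FrobTIStar
import Cfsg.Agent.Lib.Char.Induce

/-!
The extended isometry of a TI subgroup with Frobenius normalizer of odd order.
-/

set_option autoImplicit false
set_option linter.unusedSectionVars false

namespace Cfsg.Agent.Char.KerSets

open scoped ComplexConjugate commutatorElement
open Cfsg Cfsg.Agent.Char.FrobTI Cfsg.Agent.Char.Coh

universe u

theorem TT_bot_eq {L : Type u} [Group L] [Fintype L] (A : Subgroup L) :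
    (↑(TT A ⊥) : Set (L → ℂ)) = {χ | IsIrrCharacter L χ ∧ NonTriv A χ} := by
  ext f
  simp only [Finset.mem_coe, mem_TT, Set.mem_ofPred_eq, not_nonTriv_bot, not_false_eq_true, and_true]

theorem inducedIrrAbove_eq {L : Type u} [Group L] [Fintype L] (K : Subgroup L) [K.Normal]
    (hC : ∀ k ∈ K, k ≠ 1 → Subgroup.centralizer ({k} : Set L) ≤ K) :
    Cfsg.inducedIrrAbove K ⊥ = ↑(TT K ⊥) := by
  classical
  ext f
  constructor
  · rintro ⟨θ, hθ, hθ1, -, rfl⟩
    refine mem_TT.2 ⟨indFun_irr_of_inertia_eq K hθ (inertia_eq_of_fpf K hC hθ hθ1), ?_,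
      not_nonTriv_bot _⟩
    by_contra h
    simp only [NonTriv, not_exists, not_and, not_not] at h
    have h2 := (Cfsg.Agent.S1487.result K K le_rfl θ hθ).2 h
    exact hθ1 (irr_const_eq_one hθ fun a => h2 a a.2)
  · intro hf
    obtain ⟨hi, ⟨k, hk, hne⟩, -⟩ := mem_TT.1 hf
    obtain ⟨φ, hφ, he⟩ := Cfsg.Agent.S1528.result K hC f hi ⟨k, hk, hne⟩
    refine ⟨φ, hφ, fun h1 => hne ?_, fun a ha => by
      rw [show a = 1 from Subtype.ext (Subgroup.mem_bot.1 ha)], he⟩
    rw [he]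
    exact (Cfsg.Agent.S1487.result K K le_rfl φ hφ).1 (fun a _ => by rw [h1]) k hk

theorem exists_star {G : Type u} [Group G] [Fintype G] (K : Subgroup G)
    [Fintype ↥(Subgroup.normalizer (K : Set G))]
    (hTI : ∀ g : G, g ∉ Subgroup.normalizer (K : Set G) → ∀ k ∈ K, g * k * g⁻¹ ∈ K → k = 1)
    (hlt : K < Subgroup.normalizer (K : Set G))
    (hC : ∀ k ∈ K, k ≠ 1 → Subgroup.centralizer ({k} : Set G) ≤ K)
    (hK : K ≠ ⊥) (hodd : Odd (Nat.card ↥(Subgroup.normalizer (K : Set G)))) :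
    ∃ star, StarData K {χ : ↥(Subgroup.normalizer (K : Set G)) → ℂ |
      IsIrrCharacter ↥(Subgroup.normalizer (K : Set G)) χ ∧ NonTriv (KN K) χ} star := by
  obtain ⟨-, star, hs, he⟩ := sibley K hTI hlt hC hK hodd
  rw [TT_bot_eq] at hs he
  exact ⟨star, hTI, hlt, hC, fun χ => Iff.rfl, hs, he⟩

end Cfsg.Agent.Char.KerSets
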