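import Cfsg.Agent.Lib.Char.Schur
import Cfsg.Agent.Lib.Char.Integral

/-!
A character constant on the nontrivial elements of a central TI piece is congruent to its degree.
-/

set_option autoImplicit false
set_option linter.unusedSectionVars false

namespace Cfsg.Agent.Char.CentralCongr

open scoped ComplexConjugate
open Cfsg

universe u v

/-- An invariant integral function summed over a free invariant set is divisible by the group order. -/
theorem sum_free {P : Type u} [Group P] [Fintype P] {α : Type v} [MulAction P α] (f : α → ℂ)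
    (hint : ∀ x, IsIntegral ℤ (f x)) (hinv : ∀ (k : P) x, f (k • x) = f x) :
    ∀ S : Finset α, (∀ (k : P), ∀ x ∈ S, k • x ∈ S) → (∀ (k : P), ∀ x ∈ S, k • x = x → k = 1) →
      ∃ γ : ℂ, IsIntegral ℤ γ ∧ ∑ x ∈ S, f x = (Nat.card P : ℂ) * γ := by
  classical
  intro S
  induction S using Finset.strongInductionOn with
  | _ S ih =>
    intro hS hfree
    rcases S.eq_empty_or_nonempty with rfl | ⟨x, hx⟩
    · exact ⟨0, isIntegral_zero, by simp⟩
    set O : Finset α := Finset.univ.image fun k : P => k • x with hO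
    have hOS : O ⊆ S := fun y hy => by
      obtain ⟨k, -, rfl⟩ := Finset.mem_image.1 hy; exact hS k x hx
    have hlt : S \ O ⊂ S := Finset.sdiff_ssubset hOS ⟨x, Finset.mem_image.2 ⟨1, Finset.mem_univ _, one_smul P x⟩⟩
    obtain ⟨γ, hγ, he⟩ := ih _ hlt
      (fun k y hy => by
        obtain ⟨h1, h2⟩ := Finset.mem_sdiff.1 hy
        refine Finset.mem_sdiff.2 ⟨hS k y h1, fun h => h2 ?_⟩
        obtain ⟨j, -, hj⟩ := Finset.mem_image.1 h
        exact Finset.mem_image.2 ⟨k⁻¹ * j, Finset.mem_univ _, by rw [mul_smul, hj, inv_smul_smul]⟩)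
      fun k y hy => hfree k y (Finset.mem_sdiff.1 hy).1
    refine ⟨γ + f x, hγ.add (hint x), ?_⟩
    rw [← Finset.sum_sdiff hOS, he, hO, Finset.sum_image, Finset.sum_congr rfl fun k _ => hinv k x,
      Finset.sum_const, Finset.card_univ, nsmul_eq_mul, ← Nat.card_eq_fintype_card]
    · ring
    · intro a _ b _ hab
      have h : (b⁻¹ * a) • x = x := by rw [mul_smul]; exact inv_smul_eq_iff.2 hab
      exact (inv_mul_eq_one.1 (hfree _ x hx h)).symm

variable {G : Type u} [Group G] [Fintype G]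

theorem congr_central (P N Z : Subgroup G) (hPN : P ≤ N) (hodd : Odd (Nat.card N)) (hZP : Z ≤ P)
    (hZn : ∀ x ∈ N, ∀ z ∈ Z, x * z * x⁻¹ ∈ Z) (hZc : ∀ z ∈ Z, ∀ y ∈ P, z * y = y * z)
    (hcop : (Nat.card P).Coprime (P.relIndex N))
    (key1 : ∀ g : G, ∀ z ∈ Z, z ≠ 1 → g * z * g⁻¹ ∈ Z → g ∈ N)
    (key2 : ∀ g : G, ∀ k ∈ P, k ≠ 1 → ∀ z ∈ Z, z ≠ 1 →
      k * (g * z * g⁻¹) = g * z * g⁻¹ * k → g ∈ N)
    {ψ : G → ℂ} (hψ : IsIrrCharacter G ψ)
    (hconst : ∀ z ∈ Z, ∀ z' ∈ Z, z ≠ 1 → z' ≠ 1 → ψ z = ψ z') (z : G) (hz : z ∈ Z) (hz1 : z ≠ 1) :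
    ∃ n d : ℤ, ψ z = n ∧ ψ 1 = d ∧ (Nat.card P : ℤ) ∣ d - n := by
  classical
  obtain ⟨d, hd0, hd⟩ := IsIrr.one_eq_pos hψ
  have hdC : (d : ℂ) ≠ 0 := Nat.cast_ne_zero.2 hd0.ne'
  have hint : ∀ g, IsIntegral ℤ (ψ g) := fun g => by
    obtain ⟨m, ρ, -, rfl⟩ := id hψ
    exact isIntegral_character ρ g
  -- rationality
  obtain ⟨n, hn⟩ : ∃ n : ℤ, ψ z = n := by
    letI : Fintype Z := Fintype.ofFinite _
    obtain ⟨w, hw⟩ := IsGenChar.classInner_int
      (IsGenChar.comp Z.subtype (IsGenChar.of_isCharacter (IsIrr.isCharacter hψ)))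
      (IsGenChar.of_isCharacter (IsIrr.isCharacter (isIrr_one (G := Z))))
    have hq : 1 < Nat.card Z := Finite.one_lt_card_iff_nontrivial.2
      ⟨⟨⟨z, hz⟩, 1, fun h => hz1 (congrArg Subtype.val h)⟩⟩
    rw [classInner, inv_mul_eq_iff_eq_mul₀ (Nat.cast_ne_zero.mpr Nat.card_pos.ne')] at hw
    simp only [map_one, mul_one, Subgroup.coe_subtype] at hw
    rw [← Finset.add_sum_erase _ _ (Finset.mem_univ (1 : Z)), Finset.sum_congr rfl (g := fun _ => ψ z)
      (fun x hx => hconst _ x.2 z hz (fun h => (Finset.mem_erase.1 hx).1 (Subtype.ext h)) hz1),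
      Finset.sum_const, Finset.card_erase_of_mem (Finset.mem_univ _), Finset.card_univ, nsmul_eq_mul,
      ← Nat.card_eq_fintype_card, Nat.cast_sub Nat.card_pos] at hw
    simp only [OneMemClass.coe_one, hd, Nat.cast_one] at hw
    have h1 : ((Nat.card Z : ℚ) - 1) ≠ 0 := by
      have : (1 : ℚ) < Nat.card Z := by exact_mod_cast hq
      linarith
    have e : ψ z = ((((Nat.card Z : ℚ) * w - d) / ((Nat.card Z : ℚ) - 1) : ℚ) : ℂ) := by
      push_cast
      rw [eq_div_iff (by
        have : ((((Nat.card Z : ℚ) - 1) : ℚ) : ℂ) ≠ 0 := by exact_mod_cast h1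
        push_cast at this; exact this)]
      linear_combination hw
    obtain ⟨m, hm⟩ := int_of_isIntegral_rat (e ▸ hint z)
    exact ⟨m, e.trans hm⟩
  refine ⟨n, d, hn, by rw [hd]; norm_num, ?_⟩
  -- the class as a coset space
  set C := Subgroup.centralizer ({z} : Set G) with hC
  let cj : G ⧸ C → G := Quotient.lift (fun a => a * z * a⁻¹) fun a b h => by
    have h' : a⁻¹ * b ∈ C := QuotientGroup.leftRel_apply.mp h
    have h'' := Subgroup.mem_centralizer_singleton_iff.1 h'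
    show a * z * a⁻¹ = b * z * b⁻¹
    calc a * z * a⁻¹ = a * (z * (a⁻¹ * b)) * b⁻¹ := by group
      _ = a * ((a⁻¹ * b) * z) * b⁻¹ := by rw [h'']
      _ = b * z * b⁻¹ := by group
  have hcj_inj : Function.Injective cj := fun x y h => by
    induction x using Quotient.inductionOn with
    | h a =>
      induction y using Quotient.inductionOn with
      | h b =>
        refine Quotient.sound (QuotientGroup.leftRel_apply.mpr
          (Subgroup.mem_centralizer_singleton_iff.2 ?_))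
        have h' : a * z * a⁻¹ = b * z * b⁻¹ := h
        calc a⁻¹ * b * z = a⁻¹ * (b * z * b⁻¹) * b := by group
          _ = a⁻¹ * (a * z * a⁻¹) * b := by rw [h']
          _ = z * (a⁻¹ * b) := by group
  have hsum : ∀ f : G → ℂ, ∑ a : G, f (a * z * a⁻¹) = (Nat.card C : ℂ) * ∑ q : G ⧸ C, f (cj q) := by
    intro f
    rw [Fintype.sum_equiv (Subgroup.groupEquivQuotientProdSubgroup (s := C))
      (fun a => f (a * z * a⁻¹)) (fun p => f (cj p.1)) (fun a => rfl), Fintype.sum_prod_type,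
      Finset.mul_sum]
    refine Finset.sum_congr rfl fun q _ => ?_
    simp [Finset.sum_const, Nat.card_eq_fintype_card]
  -- the sum over pairs vanishes
  set F : (G ⧸ C) × (G ⧸ C) → ℂ := fun p =>
    ψ (cj p.1 * cj p.2) - ψ (cj p.1 * (cj p.2)⁻¹) with hF
  have hF0 : ∑ p, F p = 0 := by
    have hm : ((Nat.card C : ℂ) * (Nat.card C : ℂ)) ≠ 0 :=
      mul_ne_zero (Nat.cast_ne_zero.2 Nat.card_pos.ne') (Nat.cast_ne_zero.2 Nat.card_pos.ne')
    refine mul_left_cancel₀ hm ?_
    rw [mul_zero, mul_assoc, Fintype.sum_prod_type, Finset.mul_sum, Finset.sum_congr rfl fun q _ =>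
        (hsum fun y => ψ (cj q * y) - ψ (cj q * y⁻¹)).symm, Finset.sum_comm, Finset.mul_sum,
      Finset.sum_congr rfl fun c _ => (hsum fun x => ψ (x * (c * z * c⁻¹)) - ψ (x * (c * z * c⁻¹)⁻¹)).symm]
    refine Finset.sum_eq_zero fun c _ => ?_
    rw [Finset.sum_sub_distrib, sum_conj_apply hψ, sum_conj_apply hψ,
      show (c * z * c⁻¹)⁻¹ = c * z⁻¹ * c⁻¹ by group, IsIrr.classFun hψ z c, IsIrr.classFun hψ z⁻¹ c,
      hconst z⁻¹ (Z.inv_mem hz) z hz (fun h => hz1 (inv_eq_one.1 h)) hz1, sub_self]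
  set T : Finset (G ⧸ C) := Finset.univ.filter fun q => cj q ∈ Z with hT
  have hrep : ∀ q : G ⧸ C, ∃ a, cj q = a * z * a⁻¹ := fun q => by
    induction q using Quotient.inductionOn with
    | h a => exact ⟨a, rfl⟩
  have hcjne : ∀ q, cj q ≠ 1 := fun q h => by
    obtain ⟨a, ha⟩ := hrep q
    exact hz1 (conj_eq_one_iff.1 (ha ▸ h))
  have hnoinv : ∀ q ∈ T, ∀ r ∈ T, cj q * cj r ≠ 1 := by
    intro q hq r hr h
    obtain ⟨a, ha⟩ := hrep q
    obtain ⟨b, hb⟩ := hrep r
    set g := a⁻¹ * b with hg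
    have hgz : g * z * g⁻¹ = z⁻¹ := by
      have h' := eq_inv_of_mul_eq_one_right h
      rw [ha, hb] at h'
      calc g * z * g⁻¹ = a⁻¹ * (b * z * b⁻¹) * a := by rw [hg]; group
        _ = a⁻¹ * (a * z * a⁻¹)⁻¹ * a := by rw [h']
        _ = z⁻¹ := by group
    have hgN : g ∈ N := key1 g z hz hz1 (hgz ▸ Z.inv_mem hz)
    have hg2 : g * g * z = z * (g * g) := by
      have h2 : g * z⁻¹ * g⁻¹ = z := by
        rw [show g * z⁻¹ * g⁻¹ = (g * z * g⁻¹)⁻¹ by group, hgz, inv_inv]
      calc g * g * z = g * (g * z * g⁻¹) * g⁻¹ * (g * g) := by group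
        _ = z * (g * g) := by rw [hgz, h2]
    obtain ⟨j, hj⟩ := Odd.of_dvd_nat hodd (N.orderOf_dvd_natCard hgN)
    have hgg : g = (g * g) ^ (j + 1) := by
      rw [← pow_two, ← pow_mul, show 2 * (j + 1) = orderOf g + 1 by omega, pow_succ, pow_orderOf_eq_one,
        one_mul]
    have hcm : g * z = z * g := by
      rw [hgg]
      exact (Commute.pow_left (hg2 : Commute (g * g) z) _).eq
    have hz2 : z = z⁻¹ := by rw [← hgz, hcm]; group
    obtain ⟨i, hi⟩ := Odd.of_dvd_nat hodd (N.orderOf_dvd_natCard (hPN (hZP hz)))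
    have hzz : z ^ 2 = 1 := by
      rw [pow_two]
      nth_rewrite 2 [hz2]
      exact mul_inv_cancel z
    have := orderOf_dvd_of_pow_eq_one hzz
    rcases (Nat.dvd_prime Nat.prime_two).1 this with h | h
    · exact hz1 (orderOf_eq_one_iff.1 h)
    · omega
  have hTT : ∑ p ∈ T ×ˢ T, F p = (T.card : ℂ) * ((n : ℂ) - (d : ℂ)) := by
    rw [Finset.sum_product, Finset.sum_congr rfl (g := fun _ => (n : ℂ) - (d : ℂ)) fun q hq => ?_,
      Finset.sum_const, nsmul_eq_mul]
    have hqZ : cj q ∈ Z := (Finset.mem_filter.1 hq).2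
    rw [Finset.sum_eq_single q]
    · simp only [hF]
      rw [mul_inv_cancel, hd, hconst _ (Z.mul_mem hqZ hqZ) z hz (hnoinv q hq q hq) hz1, hn]
    · intro r hr hrq
      have hrZ : cj r ∈ Z := (Finset.mem_filter.1 hr).2
      simp only [hF]
      rw [hconst _ (Z.mul_mem hqZ hrZ) _ (Z.mul_mem hqZ (Z.inv_mem hrZ)) (hnoinv q hq r hr)
        (fun h => hrq (hcj_inj (mul_inv_eq_one.1 h)).symm), sub_self]
    · exact fun h => absurd hq h
  -- the free part
  have hsmul : ∀ (k : P) (q : G ⧸ C), cj (k • q) = (k : G) * cj q * (k : G)⁻¹ := fun k q => by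
    induction q using Quotient.inductionOn with
    | h a =>
      show (k : G) * a * z * ((k : G) * a)⁻¹ = (k : G) * (a * z * a⁻¹) * (k : G)⁻¹
      group
  have hTinv : ∀ (k : P), ∀ q ∈ T, k • q ∈ T := fun k q hq => Finset.mem_filter.2
    ⟨Finset.mem_univ _, by rw [hsmul]; exact hZn _ (hPN k.2) _ (Finset.mem_filter.1 hq).2⟩
  obtain ⟨γ, hγ, hγe⟩ := sum_free (P := P) F (fun p => (hint _).sub (hint _))
    (fun k p => by
      show ψ (cj (k • p.1) * cj (k • p.2)) - ψ (cj (k • p.1) * (cj (k • p.2))⁻¹) = _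
      simp only [hsmul]
      rw [show (k : G) * cj p.1 * (k : G)⁻¹ * ((k : G) * cj p.2 * (k : G)⁻¹) =
          (k : G) * (cj p.1 * cj p.2) * (k : G)⁻¹ by group,
        show (k : G) * cj p.1 * (k : G)⁻¹ * ((k : G) * cj p.2 * (k : G)⁻¹)⁻¹ =
          (k : G) * (cj p.1 * (cj p.2)⁻¹) * (k : G)⁻¹ by group,
        IsIrr.classFun hψ, IsIrr.classFun hψ])
    (Finset.univ \ T ×ˢ T)
    (fun k p hp => by
      simp only [Finset.mem_sdiff, Finset.mem_univ, true_and, Finset.mem_product, not_and] at hp ⊢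
      intro h1 h2
      have h1' : k • p.1 ∈ T := h1
      have h2' : k • p.2 ∈ T := h2
      exact hp (by simpa using hTinv k⁻¹ _ h1') (by simpa using hTinv k⁻¹ _ h2'))
    (fun k p hp hfix => by
      by_contra hk
      simp only [Finset.mem_sdiff, Finset.mem_univ, true_and, Finset.mem_product] at hp
      have hq : ∀ q : G ⧸ C, k • q = q → q ∈ T := fun q hkq => by
        obtain ⟨a, ha⟩ := hrep q
        have h := hsmul k q
        rw [hkq, ha] at h
        have hcomm : (k : G) * (a * z * a⁻¹) = a * z * a⁻¹ * (k : G) :=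
          eq_mul_inv_iff_mul_eq.1 h |>.symm
        have haN := key2 a k k.2 (fun e => hk (Subtype.ext e)) z hz hz1 hcomm
        exact Finset.mem_filter.2 ⟨Finset.mem_univ _, by rw [ha]; exact hZn a haN z hz⟩
      exact hp ⟨hq _ (congrArg Prod.fst hfix), hq _ (congrArg Prod.snd hfix)⟩)
  rw [← Finset.sum_sdiff (Finset.subset_univ (T ×ˢ T)), hγe, hTT] at hF0
  -- the fixed set has size prime to the order
  have hCN : C ≤ N := fun g hg => key1 g z hz hz1 (by
    rw [Subgroup.mem_centralizer_singleton_iff.1 hg, mul_inv_cancel_right]; exact hz)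
  have hPC : P ≤ C := fun y hy => Subgroup.mem_centralizer_singleton_iff.2 (hZc z hz y hy).symm
  have hcount : Nat.card C * T.card = Nat.card N := by
    have h := hsum fun x => if x ∈ Z then 1 else 0
    rw [Finset.sum_boole, Finset.sum_boole] at h
    have e : (Finset.univ.filter fun a : G => a * z * a⁻¹ ∈ Z).card = Nat.card N := by
      rw [Nat.card_eq_fintype_card, Fintype.card_subtype]
      congr 1
      ext a
      simp only [Finset.mem_filter, Finset.mem_univ, true_and]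
      exact ⟨key1 a z hz hz1, fun ha => hZn a ha z hz⟩
    rw [e] at h
    exact_mod_cast h.symm
  have hTdvd : T.card ∣ P.relIndex N := by
    refine ⟨P.relIndex C, Nat.eq_of_mul_eq_mul_left (Nat.card_pos (α := P)) ?_⟩
    have e1 : ∀ H : Subgroup G, P ≤ H → Nat.card P * P.relIndex H = Nat.card H := fun H hH => by
      rw [← Subgroup.relIndex_bot_left, ← Subgroup.relIndex_bot_left,
        Subgroup.relIndex_mul_relIndex ⊥ P H bot_le hH]
    rw [mul_left_comm, e1 N hPN, e1 C hPC, mul_comm, hcount]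
  have hco : IsCoprime (Nat.card P : ℤ) (T.card : ℤ) :=
    (Nat.isCoprime_iff_coprime.2 (hcop.coprime_dvd_right hTdvd))
  -- integrality
  have hP0 : (Nat.card P : ℂ) ≠ 0 := Nat.cast_ne_zero.2 Nat.card_pos.ne'
  have e : γ = (((T.card : ℚ) * ((d : ℚ) - n) / (Nat.card P : ℚ) : ℚ) : ℂ) := by
    push_cast
    rw [eq_div_iff hP0]
    linear_combination hF0
  obtain ⟨m, hm⟩ := int_of_isIntegral_rat (e ▸ hγ)
  refine hco.dvd_of_dvd_mul_left ⟨m, ?_⟩
  rw [e.trans hm] at hF0
  have : (((T.card : ℤ) * ((d : ℤ) - n) : ℤ) : ℂ) = (((Nat.card P : ℤ) * m : ℤ) : ℂ) := by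
    push_cast; linear_combination -hF0
  exact_mod_cast this

end Cfsg.Agent.Char.CentralCongr
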