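import Cfsg.Agent.Lib.Char.CohBasic

/-!
Joining two coherent sets through one linking difference with a divisible coefficient.
-/

set_option autoImplicit false
set_option linter.unusedSectionVars false

namespace Cfsg.Agent.Char.Coh

open scoped ComplexConjugate
open Cfsg

universe u v

variable {L : Type u} [Group L] [Fintype L] {G : Type v} [Group G] [Fintype G]

theorem arith_join {a N : ℕ} {SX u w : ℤ} (ha : 0 < a) (hN : 2 ≤ N) (hSX : 2 ≤ SX)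
    (hdvd : (a : ℤ) ∣ w) (h : u ^ 2 * SX + 2 * u + ((N : ℤ) * w ^ 2 - 2 * a * w) ≤ 0) :
    (u = 0 ∨ (u = -1 ∧ SX = 2)) ∧ (w = 0 ∨ (w = a ∧ N = 2)) ∧
      u ^ 2 * SX + 2 * u + ((N : ℤ) * w ^ 2 - 2 * a * w) = 0 := by
  have hA : 0 ≤ u ^ 2 * SX + 2 * u := by
    rcases le_or_gt 0 u with hu | hu
    · positivity
    · nlinarith
  obtain ⟨s, rfl⟩ := hdvd
  have ha2 : (0 : ℤ) < (a : ℤ) ^ 2 := by positivity
  have hN' : (2 : ℤ) ≤ N := by exact_mod_cast hN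
  have hs : s = 0 ∨ (s = 1 ∧ N = 2) := by
    have h1 : (N : ℤ) * s ^ 2 - 2 * s ≤ 0 := by
      by_contra h1
      nlinarith [mul_pos ha2 (not_le.1 h1)]
    rcases lt_trichotomy s 0 with h2 | h2 | h2
    · nlinarith
    · exact Or.inl h2
    · have h3 : s = 1 := by nlinarith
      subst h3
      right
      refine ⟨rfl, ?_⟩
      have : (N : ℤ) ≤ 2 := by linarith
      omega
  have hB0 : (N : ℤ) * ((a : ℤ) * s) ^ 2 - 2 * a * ((a : ℤ) * s) = 0 := by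
    rcases hs with rfl | ⟨rfl, rfl⟩ <;> push_cast <;> ring
  have hA0 : u ^ 2 * SX + 2 * u = 0 := by linarith
  refine ⟨?_, ?_, by linarith⟩
  · have h2 : u * (u * SX + 2) = 0 := by linear_combination hA0
    rcases mul_eq_zero.1 h2 with h3 | h3
    · exact Or.inl h3
    · right
      have h4 : u < 0 := by
        by_contra h4
        nlinarith [not_lt.1 h4]
      have h5 : u = -1 := by nlinarith
      subst h5
      exact ⟨rfl, by linarith⟩
  · rcases hs with rfl | ⟨rfl, h'⟩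
    · exact Or.inl (mul_zero _)
    · exact Or.inr ⟨mul_one _, h'⟩

/-- The data of two coherent sets with anchors. -/
structure Link (S : Set (L → ℂ)) (α : (L → ℂ) → (G → ℂ)) (X Y : Finset (L → ℂ))
    (σ ν : (L → ℂ) → (G → ℂ)) (χ₀ η₀ : L → ℂ) (m : (L → ℂ) → ℕ) (a : ℕ) : Prop where
  hyp : Hyp S α
  subX : (↑X : Set (L → ℂ)) ⊆ S
  subY : (↑Y : Set (L → ℂ)) ⊆ S
  ne : ∀ f ∈ X, ∀ g ∈ Y, f ≠ g
  isoX : IsLinearIsometryOn (zspan (↑X : Set (L → ℂ))) σ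
  agreeX : ∀ θ ∈ zspanOn (↑X : Set (L → ℂ)) {1}ᶜ, σ θ = α θ
  isoY : IsLinearIsometryOn (zspan (↑Y : Set (L → ℂ))) ν
  agreeY : ∀ θ ∈ zspanOn (↑Y : Set (L → ℂ)) {1}ᶜ, ν θ = α θ
  memX : χ₀ ∈ X
  memY : η₀ ∈ Y
  degX : ∀ χ ∈ X, χ 1 = (m χ : ℂ) * χ₀ 1
  anchor : χ₀ 1 = (a : ℂ) * η₀ 1
  degY : ∀ η ∈ Y, η 1 = η₀ 1

variable {S : Set (L → ℂ)} {α : (L → ℂ) → (G → ℂ)} {X Y : Finset (L → ℂ)}
  {σ ν : (L → ℂ) → (G → ℂ)} {χ₀ η₀ : L → ℂ} {m : (L → ℂ) → ℕ} {a : ℕ}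

namespace Link

theorem irrX (h : Link S α X Y σ ν χ₀ η₀ m a) {f : L → ℂ} (hf : f ∈ X) : IsIrrCharacter L f :=
  h.hyp.irr f (h.subX hf)

theorem irrY (h : Link S α X Y σ ν χ₀ η₀ m a) {f : L → ℂ} (hf : f ∈ Y) : IsIrrCharacter L f :=
  h.hyp.irr f (h.subY hf)

theorem anchor_ne (h : Link S α X Y σ ν χ₀ η₀ m a) : a ≠ 0 := fun e =>
  IsIrr.one_ne_zero (h.irrX h.memX) (by rw [h.anchor, e, Nat.cast_zero, zero_mul])

theorem m_anchor (h : Link S α X Y σ ν χ₀ η₀ m a) : m χ₀ = 1 := by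
  have e := h.degX χ₀ h.memX
  have h0 := IsIrr.one_ne_zero (h.irrX h.memX)
  have : ((m χ₀ : ℕ) : ℂ) = ((1 : ℕ) : ℂ) := by
    push_cast
    exact mul_right_cancel₀ h0 (by rw [one_mul]; exact e.symm)
  exact_mod_cast this

theorem m_pos (h : Link S α X Y σ ν χ₀ η₀ m a) {f : L → ℂ} (hf : f ∈ X) : 0 < m f :=
  Nat.pos_of_ne_zero fun e => IsIrr.one_ne_zero (h.irrX hf) (by
    rw [h.degX f hf, e, Nat.cast_zero, zero_mul])

theorem link_mem (h : Link S α X Y σ ν χ₀ η₀ m a) : χ₀ - (a : ℤ) • η₀ ∈ zspanOn S {1}ᶜ :=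
  mem_zspanOn_one (Submodule.sub_mem _ (Submodule.subset_span (h.subX h.memX))
    (Submodule.smul_mem _ _ (Submodule.subset_span (h.subY h.memY)))) (by
      simp only [← Int.cast_smul_eq_zsmul ℂ, Pi.sub_apply, Pi.smul_apply, smul_eq_mul, h.anchor]
      push_cast; ring)

theorem diffX_mem (h : Link S α X Y σ ν χ₀ η₀ m a) {χ : L → ℂ} (hχ : χ ∈ X) :
    χ + (-(m χ : ℤ)) • χ₀ ∈ zspanOn (↑X : Set (L → ℂ)) {1}ᶜ :=
  mem_zspanOn_one (Submodule.add_mem _ (Submodule.subset_span hχ)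
    (Submodule.smul_mem _ _ (Submodule.subset_span h.memX))) (by
      simp only [← Int.cast_smul_eq_zsmul ℂ, Pi.add_apply, Pi.smul_apply, smul_eq_mul, h.degX χ hχ]
      push_cast; ring)

theorem mapX (h : Link S α X Y σ ν χ₀ η₀ m a) {χ : L → ℂ} (hχ : χ ∈ X) :
    α (χ + (-(m χ : ℤ)) • χ₀) = σ χ + (-(m χ : ℂ)) • σ χ₀ := by
  rw [← h.agreeX _ (h.diffX_mem hχ), h.isoX.1 _ (Submodule.subset_span hχ) _
    (Submodule.smul_mem _ _ (Submodule.subset_span h.memX)),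
    h.isoX.2.1 _ (Submodule.subset_span h.memX), ← Int.cast_smul_eq_zsmul ℂ]
  push_cast
  rfl

theorem coeffX (h : Link S α X Y σ ν χ₀ η₀ m a) {χ : L → ℂ} (hχ : χ ∈ X) :
    classInner (α (χ₀ - (a : ℤ) • η₀)) (σ χ) =
      (m χ : ℂ) * (classInner (α (χ₀ - (a : ℤ) • η₀)) (σ χ₀) - 1) + (if χ = χ₀ then 1 else 0) := by
  classical
  have e := h.hyp.iso.2.2.1 _ h.link_mem _ (zspanOn_mono h.subX (h.diffX_mem hχ))
  rw [h.mapX hχ, classInner_add_right, classInner_smul_right, map_neg, map_natCast] at e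
  simp only [← Int.cast_smul_eq_zsmul ℂ] at e ⊢
  simp only [classInner_sub_left, classInner_add_right, classInner_smul_left, classInner_smul_right,
    Int.cast_neg, Int.cast_natCast, map_neg, map_natCast, classInner_self_irr (h.irrX h.memX),
    classInner_irr_ne (h.irrY h.memY) (h.irrX hχ) (h.ne χ hχ η₀ h.memY).symm,
    classInner_irr_ne (h.irrY h.memY) (h.irrX h.memX) (h.ne χ₀ h.memX η₀ h.memY).symm,
    classInner_irr_eq_ite (h.irrX h.memX) (h.irrX hχ)] at e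
  by_cases hh : χ = χ₀
  · subst hh
    rw [h.m_anchor, if_pos rfl]; ring
  · rw [if_neg (Ne.symm hh)] at e
    rw [if_neg hh]
    linear_combination e

theorem coeffY (h : Link S α X Y σ ν χ₀ η₀ m a) {η : L → ℂ} (hη : η ∈ Y) :
    classInner (α (χ₀ - (a : ℤ) • η₀)) (ν η) =
      classInner (α (χ₀ - (a : ℤ) • η₀)) (ν η₀) + (a : ℂ) - (if η = η₀ then (a : ℂ) else 0) := by
  classical
  by_cases hh : η = η₀
  · subst hh; rw [if_pos rfl]; ring
  have hy : η - η₀ ∈ zspanOn (↑Y : Set (L → ℂ)) {1}ᶜ :=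
    sub_mem (Finset.mem_coe.2 hη) (Finset.mem_coe.2 h.memY) (by rw [h.degY η hη])
  have hν : ν (η - η₀) = ν η + (-1 : ℂ) • ν η₀ := by
    rw [sub_eq_add_neg, ← neg_one_zsmul η₀, h.isoY.1 _ (Submodule.subset_span hη) _
      (Submodule.smul_mem _ _ (Submodule.subset_span h.memY)),
      h.isoY.2.1 _ (Submodule.subset_span h.memY), ← Int.cast_smul_eq_zsmul ℂ]
    push_cast
    rfl
  have e := h.hyp.iso.2.2.1 _ h.link_mem _ (zspanOn_mono h.subY hy)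
  rw [← h.agreeY _ hy, hν, classInner_add_right, classInner_smul_right, map_neg, map_one] at e
  simp only [← Int.cast_smul_eq_zsmul ℂ] at e ⊢
  simp only [classInner_sub_left, classInner_sub_right, classInner_smul_left, Int.cast_natCast,
    classInner_irr_ne (h.irrX h.memX) (h.irrY hη) (h.ne χ₀ h.memX η hη),
    classInner_irr_ne (h.irrX h.memX) (h.irrY h.memY) (h.ne χ₀ h.memX η₀ h.memY),
    classInner_irr_ne (h.irrY h.memY) (h.irrY hη) (Ne.symm hh),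
    classInner_self_irr (h.irrY h.memY)] at e
  rw [if_neg hh]
  linear_combination e

theorem link_norm (h : Link S α X Y σ ν χ₀ η₀ m a) :
    classInner (α (χ₀ - (a : ℤ) • η₀)) (α (χ₀ - (a : ℤ) • η₀)) = 1 + (a : ℂ) ^ 2 := by
  rw [h.hyp.iso.2.2.1 _ h.link_mem _ h.link_mem]
  simp only [← Int.cast_smul_eq_zsmul ℂ, classInner_sub_left, classInner_sub_right,
    classInner_smul_left, classInner_smul_right, Int.cast_natCast, map_natCast,
    classInner_self_irr (h.irrX h.memX), classInner_self_irr (h.irrY h.memY),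
    classInner_irr_ne (h.irrX h.memX) (h.irrY h.memY) (h.ne χ₀ h.memX η₀ h.memY),
    classInner_irr_ne (h.irrY h.memY) (h.irrX h.memX) (h.ne χ₀ h.memX η₀ h.memY).symm]
  ring

theorem orth (h : Link S α X Y σ ν χ₀ η₀ m a) (hX2 : ∃ x ∈ X, x ≠ χ₀) (hY2 : ∃ y ∈ Y, y ≠ η₀) :
    ∀ χ ∈ X, ∀ η ∈ Y, classInner (σ χ) (ν η) = 0 := by
  obtain ⟨x, hx, hxne⟩ := hX2
  obtain ⟨y, hy, hyne⟩ := hY2
  exact (Coh.join S ↑X ↑Y h.hyp.irr h.subX h.subY
    (Set.disjoint_left.2 fun f hf hg => h.ne f hf f hg rfl)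
    ⟨x, hx, χ₀, h.memX, hxne⟩ ⟨y, hy, η₀, h.memY, hyne⟩ α h.hyp.iso h.hyp.one σ ν h.isoX h.agreeX
    h.isoY h.agreeY).1

/-- Bessel's inequality with the case of equality. -/
theorem bessel (h : Link S α X Y σ ν χ₀ η₀ m a)
    (horth : ∀ χ ∈ X, ∀ η ∈ Y, classInner (σ χ) (ν η) = 0) (β : G → ℂ) (c d : (L → ℂ) → ℤ)
    (hc : ∀ χ ∈ X, classInner β (σ χ) = c χ) (hd : ∀ η ∈ Y, classInner β (ν η) = d η) {n : ℤ}
    (hn : classInner β β = n) :
    ∑ χ ∈ X, c χ ^ 2 + ∑ η ∈ Y, d η ^ 2 ≤ n ∧ (∑ χ ∈ X, c χ ^ 2 + ∑ η ∈ Y, d η ^ 2 = n →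
      β = ∑ χ ∈ X, (c χ : ℂ) • σ χ + ∑ η ∈ Y, (d η : ℂ) • ν η) := by
  classical
  set PX : G → ℂ := ∑ χ ∈ X, (c χ : ℂ) • σ χ with hPX
  set PY : G → ℂ := ∑ η ∈ Y, (d η : ℂ) • ν η with hPY
  have hσX : ∀ f ∈ X, classInner PX (σ f) = (c f : ℂ) := fun f hf => by
    rw [hPX, classInner_sum_left, Finset.sum_eq_single f]
    · rw [classInner_smul_left, h.isoX.2.2.1 _ (Submodule.subset_span hf) _ (Submodule.subset_span hf),
        classInner_self_irr (h.irrX hf), mul_one]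
    · intro g hg hne
      rw [classInner_smul_left, h.isoX.2.2.1 _ (Submodule.subset_span hg) _ (Submodule.subset_span hf),
        classInner_irr_ne (h.irrX hg) (h.irrX hf) hne, mul_zero]
    · exact fun h' => absurd hf h'
  have hνY : ∀ f ∈ Y, classInner PY (ν f) = (d f : ℂ) := fun f hf => by
    rw [hPY, classInner_sum_left, Finset.sum_eq_single f]
    · rw [classInner_smul_left, h.isoY.2.2.1 _ (Submodule.subset_span hf) _ (Submodule.subset_span hf),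
        classInner_self_irr (h.irrY hf), mul_one]
    · intro g hg hne
      rw [classInner_smul_left, h.isoY.2.2.1 _ (Submodule.subset_span hg) _ (Submodule.subset_span hf),
        classInner_irr_ne (h.irrY hg) (h.irrY hf) hne, mul_zero]
    · exact fun h' => absurd hf h'
  have hXY0 : classInner PX PY = 0 := by
    rw [hPX, hPY, classInner_sum_left]
    refine Finset.sum_eq_zero fun f hf => ?_
    rw [classInner_sum_right]
    exact Finset.sum_eq_zero fun g hg => by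
      rw [classInner_smul_left, classInner_smul_right, horth f hf g hg, mul_zero, mul_zero]
  have hXX : classInner PX PX = ((∑ χ ∈ X, c χ ^ 2 : ℤ) : ℂ) := by
    conv_lhs => arg 2; rw [hPX]
    rw [classInner_sum_right, Int.cast_sum]
    exact Finset.sum_congr rfl fun f hf => by
      rw [classInner_smul_right, hσX f hf, map_intCast]; push_cast; ring
  have hYY : classInner PY PY = ((∑ η ∈ Y, d η ^ 2 : ℤ) : ℂ) := by
    conv_lhs => arg 2; rw [hPY]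
    rw [classInner_sum_right, Int.cast_sum]
    exact Finset.sum_congr rfl fun f hf => by
      rw [classInner_smul_right, hνY f hf, map_intCast]; push_cast; ring
  have hβX : classInner β PX = ((∑ χ ∈ X, c χ ^ 2 : ℤ) : ℂ) := by
    rw [hPX, classInner_sum_right, Int.cast_sum]
    exact Finset.sum_congr rfl fun f hf => by
      rw [classInner_smul_right, hc f hf, map_intCast]; push_cast; ring
  have hβY : classInner β PY = ((∑ η ∈ Y, d η ^ 2 : ℤ) : ℂ) := by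
    rw [hPY, classInner_sum_right, Int.cast_sum]
    exact Finset.sum_congr rfl fun f hf => by
      rw [classInner_smul_right, hd f hf, map_intCast]; push_cast; ring
  have hdiff : classInner (β - (PX + PY)) (β - (PX + PY)) =
      ((n - (∑ χ ∈ X, c χ ^ 2 + ∑ η ∈ Y, d η ^ 2) : ℤ) : ℂ) := by
    simp only [classInner_sub_left, classInner_sub_right, classInner_add_left, classInner_add_right]
    rw [← classInner_conj_symm β PX, ← classInner_conj_symm β PY, ← classInner_conj_symm PX PY,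
      hn, hXX, hYY, hβX, hβY, hXY0, map_zero, map_intCast, map_intCast]
    push_cast; ring
  refine ⟨?_, fun heq => ?_⟩
  · have h' := classInner_self_re_nonneg (β - (PX + PY))
    rw [hdiff, Complex.intCast_re] at h'
    have : (0 : ℤ) ≤ n - (∑ χ ∈ X, c χ ^ 2 + ∑ η ∈ Y, d η ^ 2) := by exact_mod_cast h'
    linarith
  · rw [← sub_eq_zero, ← classInner_self_eq_zero, hdiff, heq, sub_self, Int.cast_zero]

theorem adjustX (h : Link S α X Y σ ν χ₀ η₀ m a) (hX2 : ∃ x ∈ X, x ≠ χ₀) (c : (L → ℂ) → ℤ) (u : ℤ)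
    (hc : ∀ χ ∈ X, c χ = (m χ : ℤ) * u + (if χ = χ₀ then 1 else 0))
    (hu : u = 0 ∨ (u = -1 ∧ ∑ χ ∈ X, (m χ : ℤ) ^ 2 = 2)) :
    ∃ σ', IsLinearIsometryOn (zspan (↑X : Set (L → ℂ))) σ' ∧
      (∀ θ ∈ zspanOn (↑X : Set (L → ℂ)) {1}ᶜ, σ' θ = α θ) ∧ ∑ χ ∈ X, (c χ : ℂ) • σ χ = σ' χ₀ := by
  classical
  rcases hu with hu0 | ⟨hu1, hS2⟩
  · refine ⟨σ, h.isoX, h.agreeX, ?_⟩
    rw [Finset.sum_eq_single χ₀ (fun χ hχ hne => by rw [hc χ hχ, if_neg hne, hu0]; simp)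
      (fun h' => absurd h.memX h'), hc χ₀ h.memX, if_pos rfl, hu0]
    simp
  obtain ⟨x, hx, hxne⟩ := hX2
  have hm2 : ∀ f ∈ X, (1 : ℤ) ≤ (m f : ℤ) ^ 2 := fun f hf => by
    have : (1 : ℤ) ≤ m f := by exact_mod_cast h.m_pos hf
    nlinarith
  have hXeq : X = {χ₀, x} := by
    refine (Finset.eq_of_subset_of_card_le ?_ ?_).symm
    · simp [Finset.insert_subset_iff, h.memX, hx]
    · rw [Finset.card_pair hxne.symm]
      have : (X.card : ℤ) ≤ 2 := by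
        rw [← hS2]
        calc (X.card : ℤ) = ∑ χ ∈ X, (1 : ℤ) := by simp
          _ ≤ _ := Finset.sum_le_sum hm2
      omega
  have hmx : m x = 1 := by
    rw [hXeq, Finset.sum_pair hxne.symm, h.m_anchor] at hS2
    push_cast at hS2
    have h2 := h.m_pos hx
    have h3 : (m x : ℤ) ^ 2 = 1 := by linarith
    have h4 : m x ^ 2 = 1 := by exact_mod_cast h3
    nlinarith
  have hcoe : (↑X : Set (L → ℂ)) = {χ₀, x} := by rw [hXeq]; simp
  obtain ⟨σ', h1, h2, h3, -⟩ := flip_pair (h.irrX h.memX) (h.irrX hx) hxne.symm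
    (by rw [h.degX x hx, hmx, Nat.cast_one, one_mul]) (σ := σ) (hcoe ▸ h.isoX)
  refine ⟨σ', hcoe ▸ h1, fun θ hθ => by rw [h2 θ (hcoe ▸ hθ)]; exact h.agreeX θ hθ, ?_⟩
  rw [h3, hXeq, Finset.sum_pair hxne.symm, hc χ₀ h.memX, hc x hx, if_pos rfl, if_neg hxne, h.m_anchor,
    hmx, hu1]
  simp

theorem adjustY (h : Link S α X Y σ ν χ₀ η₀ m a) (d : (L → ℂ) → ℤ) (w : ℤ)
    (hd : ∀ η ∈ Y, d η = w - (if η = η₀ then (a : ℤ) else 0)) (hY2 : ∃ y ∈ Y, y ≠ η₀)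
    (hw : w = 0 ∨ (w = a ∧ Y.card = 2)) :
    ∃ ν', IsLinearIsometryOn (zspan (↑Y : Set (L → ℂ))) ν' ∧
      (∀ θ ∈ zspanOn (↑Y : Set (L → ℂ)) {1}ᶜ, ν' θ = α θ) ∧
      ∑ η ∈ Y, (d η : ℂ) • ν η = (-(a : ℂ)) • ν' η₀ := by
  classical
  rcases hw with hw0 | ⟨hwa, hcard⟩
  · refine ⟨ν, h.isoY, h.agreeY, ?_⟩
    rw [Finset.sum_eq_single η₀ (fun η hη hne => by rw [hd η hη, if_neg hne, hw0]; simp)
      (fun h' => absurd h.memY h'), hd η₀ h.memY, if_pos rfl, hw0]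
    simp
  obtain ⟨y, hy, hyne⟩ := hY2
  have hYeq : Y = {η₀, y} := by
    refine (Finset.eq_of_subset_of_card_le ?_ ?_).symm
    · simp [Finset.insert_subset_iff, h.memY, hy]
    · rw [Finset.card_pair hyne.symm, hcard]
  have hcoe : (↑Y : Set (L → ℂ)) = {η₀, y} := by rw [hYeq]; simp
  obtain ⟨ν', h1, h2, h3, -⟩ := flip_pair (h.irrY h.memY) (h.irrY hy) hyne.symm
    (h.degY y hy).symm (σ := ν) (hcoe ▸ h.isoY)
  refine ⟨ν', hcoe ▸ h1, fun θ hθ => by rw [h2 θ (hcoe ▸ hθ)]; exact h.agreeY θ hθ, ?_⟩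
  rw [h3, hYeq, Finset.sum_pair hyne.symm, hd η₀ h.memY, hd y hy, if_pos rfl, if_neg hyne, hwa]
  simp

/-- A divisible linking coefficient gives coherence of the union. -/
theorem coherent (h : Link S α X Y σ ν χ₀ η₀ m a) (hX2 : ∃ x ∈ X, x ≠ χ₀) (hY2 : ∃ y ∈ Y, y ≠ η₀)
    (hscal : ∀ (k : ℂ) (θ : L → ℂ), α (k • θ) = k • α θ)
    (hdvd : ∃ z : ℤ, classInner (α (χ₀ - (a : ℤ) • η₀)) (ν η₀) + (a : ℂ) = (a : ℂ) * (z : ℂ)) :
    IsCoherent ((↑X : Set (L → ℂ)) ∪ ↑Y) {1}ᶜ α := by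
  classical
  obtain ⟨z, hz⟩ := hdvd
  have hβgen := h.hyp.iso.2.2.2 _ h.link_mem
  choose! c hc using fun f (hf : f ∈ X) =>
    IsGenChar.classInner_int hβgen (h.isoX.2.2.2 _ (Submodule.subset_span (Finset.mem_coe.2 hf)))
  choose! d hd using fun f (hf : f ∈ Y) =>
    IsGenChar.classInner_int hβgen (h.isoY.2.2.2 _ (Submodule.subset_span (Finset.mem_coe.2 hf)))
  set u := c χ₀ - 1 with hu
  set w := (a : ℤ) * z with hw
  have hcX : ∀ χ ∈ X, c χ = (m χ : ℤ) * u + (if χ = χ₀ then 1 else 0) := fun χ hχ => by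
    have e := h.coeffX hχ
    rw [hc χ hχ, hc χ₀ h.memX] at e
    apply Int.cast_injective (α := ℂ)
    rw [hu]; push_cast
    exact e
  have hdY : ∀ η ∈ Y, d η = w - (if η = η₀ then (a : ℤ) else 0) := fun η hη => by
    have e := h.coeffY hη
    rw [hd η hη, hz] at e
    apply Int.cast_injective (α := ℂ)
    rw [hw]; push_cast
    exact e
  obtain ⟨hle, heq⟩ := h.bessel (h.orth hX2 hY2) _ c d hc hd (n := 1 + (a : ℤ) ^ 2)
    (by rw [h.link_norm]; push_cast; ring)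
  have hm2 : ∀ f ∈ X, (1 : ℤ) ≤ (m f : ℤ) ^ 2 := fun f hf => by
    have : (1 : ℤ) ≤ m f := by exact_mod_cast h.m_pos hf
    nlinarith
  have hSX2 : 2 ≤ ∑ χ ∈ X, (m χ : ℤ) ^ 2 := by
    obtain ⟨x, hx, hxne⟩ := hX2
    rw [← Finset.add_sum_erase _ _ h.memX, h.m_anchor]
    have : (1 : ℤ) ≤ ∑ χ ∈ X.erase χ₀, (m χ : ℤ) ^ 2 :=
      (hm2 _ hx).trans (Finset.single_le_sum (f := fun χ => (m χ : ℤ) ^ 2)
        (fun x _ => sq_nonneg _) (Finset.mem_erase.2 ⟨hxne, hx⟩))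
    push_cast
    linarith
  have hc2 : ∑ χ ∈ X, c χ ^ 2 = u ^ 2 * (∑ χ ∈ X, (m χ : ℤ) ^ 2) + 2 * u + 1 := by
    rw [Finset.mul_sum, ← Finset.add_sum_erase _ _ h.memX, ← Finset.add_sum_erase _ _ h.memX,
      hcX χ₀ h.memX, if_pos rfl, h.m_anchor,
      Finset.sum_congr rfl (g := fun χ => u ^ 2 * (m χ : ℤ) ^ 2) fun χ hχ => by
        rw [hcX χ (Finset.mem_of_mem_erase hχ), if_neg (Finset.ne_of_mem_erase hχ)]; ring]
    push_cast; ring
  have hd2 : ∑ η ∈ Y, d η ^ 2 = (Y.card : ℤ) * w ^ 2 - 2 * a * w + (a : ℤ) ^ 2 := by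
    rw [Finset.sum_congr rfl (g := fun η => w ^ 2 + (if η = η₀ then (a : ℤ) ^ 2 - 2 * a * w else 0))
      fun η hη => by rw [hdY η hη]; split_ifs <;> ring,
      Finset.sum_add_distrib, Finset.sum_const, Finset.sum_ite_eq', if_pos h.memY, nsmul_eq_mul]
    ring
  rw [hc2, hd2] at hle heq
  have hcard : 2 ≤ Y.card := by
    obtain ⟨y, hy, hyne⟩ := hY2
    exact Finset.one_lt_card.2 ⟨y, hy, η₀, h.memY, hyne⟩
  obtain ⟨hucases, hwcases, h0⟩ := arith_join (Nat.pos_of_ne_zero h.anchor_ne) hcard hSX2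
    (dvd_mul_right (a : ℤ) z) (u := u) (by linarith)
  have hβeq := heq (by linarith)
  obtain ⟨σ', hσ', hσ'α, hσ'0⟩ := h.adjustX hX2 c u hcX hucases
  obtain ⟨ν', hν', hν'α, hν'0⟩ := h.adjustY d w hdY hY2 hwcases
  obtain ⟨x, hx, hxne⟩ := hX2
  obtain ⟨y, hy, hyne⟩ := hY2
  refine (Coh.join S ↑X ↑Y h.hyp.irr h.subX h.subY
    (Set.disjoint_left.2 fun f hf hg => h.ne f hf f hg rfl)
    ⟨x, hx, χ₀, h.memX, hxne⟩ ⟨y, hy, η₀, h.memY, hyne⟩ α h.hyp.iso h.hyp.one σ' ν' hσ' hσ'α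
    hν' hν'α).2 ⟨χ₀, h.memX, η₀, h.memY, ?_⟩
  have e1 : χ₀ 1 • η₀ - η₀ 1 • χ₀ = (-(η₀ 1)) • (χ₀ - (a : ℤ) • η₀) := by
    funext x
    simp only [← Int.cast_smul_eq_zsmul ℂ, Pi.sub_apply, Pi.smul_apply, smul_eq_mul, h.anchor]
    push_cast; ring
  rw [e1, hscal, hβeq, hσ'0, hν'0, h.anchor]
  funext x
  simp only [Pi.smul_apply, Pi.add_apply, Pi.sub_apply, smul_eq_mul]
  ring

end Link

end Cfsg.Agent.Char.Coh
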