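import Cfsg.Agent.Lib.Char.KerSets
import Cfsg.Agent.Lib.Grp.FpfPrime

/-!
The kernel of a Frobenius group is nilpotent; an involution outside makes it abelian.
-/

set_option autoImplicit false

namespace Cfsg.Agent.Char.KerSets

universe u

variable {L : Type u} [Group L] [Fintype L] (K : Subgroup L) [K.Normal]
  (hC : ∀ k ∈ K, k ≠ 1 → Subgroup.centralizer ({k} : Set L) ≤ K)

include hC in
theorem exists_outside {p : ℕ} [Fact p.Prime] (hp : p ∣ K.index) :
    ∃ b : L, orderOf b = p ∧ b ∉ K := by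
  obtain ⟨b, hb⟩ := exists_prime_orderOf_dvd_card' (G := L) p (hp.trans K.index_dvd_card)
  refine ⟨b, hb, fun hbK => (Fact.out : p.Prime).not_dvd_one ?_⟩
  rw [← coprime_card_index K hC]
  exact Nat.dvd_gcd (hb ▸ K.orderOf_dvd_natCard hbK) hp

include hC in
theorem fixed_eq_one {b k : L} (hb : b ∉ K) (hk : k ∈ K) (h : b * k = k * b) : k = 1 :=
  by_contra fun hk1 => hb (hC k hk hk1 (Subgroup.mem_centralizer_singleton_iff.2 h))

include hC in
theorem isNilpotent (hKtop : K ≠ ⊤) : Group.IsNilpotent K := by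
  obtain ⟨p, hp, hpd⟩ := Nat.exists_prime_and_dvd fun h => hKtop (Subgroup.index_eq_one.1 h)
  haveI := Fact.mk hp
  obtain ⟨b, hb, hbK⟩ := exists_outside K hC hpd
  refine Grp.isNilpotent_of_fpf (p := p) (b := b) (hb ▸ pow_orderOf_eq_one b) ?_ (eq_bot_iff.2 ?_)
  · rw [Subgroup.normalizer_eq_top]; exact Subgroup.mem_top b
  · rintro k ⟨hk, hkc⟩
    exact Subgroup.mem_bot.2 (fixed_eq_one K hC hbK hk
      (Subgroup.mem_centralizer_singleton_iff.1 hkc).symm)

include hC in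
theorem comm_of_even (h2 : 2 ∣ K.index) : ∀ a ∈ K, ∀ b ∈ K, a * b = b * a := by
  obtain ⟨t, ht, htK⟩ := exists_outside K hC (p := 2) h2
  have htt : t * t = 1 := by rw [← pow_two, ← ht, pow_orderOf_eq_one]
  have ht' : t⁻¹ = t := inv_eq_of_mul_eq_one_left htt
  let φ : K → K := fun k => ⟨(k : L)⁻¹ * (t * k * t⁻¹),
    K.mul_mem (K.inv_mem k.2) ((inferInstance : K.Normal).conj_mem _ k.2 t)⟩
  have hinj : Function.Injective φ := fun x y h => by
    have h1 : (x : L)⁻¹ * (t * x * t⁻¹) = (y : L)⁻¹ * (t * y * t⁻¹) := congrArg Subtype.val h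
    have h2' : t * ((x : L) * (y : L)⁻¹) * t⁻¹ = (x : L) * (y : L)⁻¹ := by
      calc t * ((x : L) * (y : L)⁻¹) * t⁻¹
          = (x : L) * ((x : L)⁻¹ * (t * x * t⁻¹)) * (t * (y : L)⁻¹ * t⁻¹) := by group
        _ = (x : L) * ((y : L)⁻¹ * (t * y * t⁻¹)) * (t * (y : L)⁻¹ * t⁻¹) := by rw [h1]
        _ = (x : L) * (y : L)⁻¹ := by group
    exact Subtype.ext (mul_inv_eq_one.1 (fixed_eq_one K hC htK (K.mul_mem x.2 (K.inv_mem y.2))
      (mul_inv_eq_iff_eq_mul.1 h2')))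
  have hinv : ∀ k ∈ K, t * k * t⁻¹ = k⁻¹ := fun k hk => by
    obtain ⟨x, hx⟩ := (Finite.injective_iff_surjective.1 hinj) ⟨k, hk⟩
    have hx' : (x : L)⁻¹ * (t * x * t⁻¹) = k := congrArg Subtype.val hx
    rw [← hx', ht']
    simp only [mul_inv_rev, inv_inv, ht', mul_assoc, htt, mul_one]
  intro a ha b hb
  have h := hinv (a * b) (K.mul_mem ha hb)
  rw [show t * (a * b) * t⁻¹ = (t * a * t⁻¹) * (t * b * t⁻¹) by group, hinv a ha, hinv b hb,
    mul_inv_rev] at h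
  calc a * b = (b⁻¹ * a⁻¹)⁻¹ := by group
    _ = (a⁻¹ * b⁻¹)⁻¹ := by rw [h]
    _ = b * a := by group

end Cfsg.Agent.Char.KerSets
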