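import Cfsg.Agent.Lib.Char.CentralCoherence
import Cfsg.Agent.Lib.Char.CentralCongr
import Cfsg.Agent.Lib.Char.KerNilpotent
import Cfsg.Agent.Lib.Char.CohLink

/-!
Sibley's coherence theorem for nilpotent TI subgroups with Frobenius normalizers of odd order.
-/

set_option autoImplicit false
set_option linter.unusedSectionVars false

namespace Cfsg.Agent.Char.KerSets

open scoped ComplexConjugate commutatorElement
open Cfsg Cfsg.Agent.Char.FrobTI Cfsg.Agent.Char.Coh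

universe u

variable {G : Type u} [Group G] [Fintype G] (K : Subgroup G)
  [Fintype ↥(Subgroup.normalizer (K : Set G))]

theorem indFun_zsmul (H : Subgroup G) (n : ℤ) (θ : H → ℂ) : indFun H (n • θ) = n • indFun H θ := by
  rw [← Int.cast_smul_eq_zsmul ℂ, indFun_smul, Int.cast_smul_eq_zsmul]

variable (hTI : ∀ g : G, g ∉ Subgroup.normalizer (K : Set G) → ∀ k ∈ K, g * k * g⁻¹ ∈ K → k = 1)
  (hlt : K < Subgroup.normalizer (K : Set G))
  (hC : ∀ k ∈ K, k ≠ 1 → Subgroup.centralizer ({k} : Set G) ≤ K)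

include hC in
theorem cent_KN : ∀ k ∈ KN K, k ≠ 1 →
    Subgroup.centralizer ({k} : Set ↥(Subgroup.normalizer (K : Set G))) ≤ KN K :=
  fun k hk hk1 x hx =>
    fix_of_centralizer K hC k hk hk1 x (Subgroup.mem_centralizer_singleton_iff.1 hx)

include hTI hlt hC in
/-- Induction is an isometry on the combinations vanishing at one. -/
theorem indHyp (S : Set (↥(Subgroup.normalizer (K : Set G)) → ℂ))
    (hS : ∀ χ ∈ S, IsIrrCharacter ↥(Subgroup.normalizer (K : Set G)) χ ∧ NonTriv (KN K) χ) :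
    Hyp S (fun α => indFun (Subgroup.normalizer (K : Set G)) α) := by
  have hgen : ∀ α ∈ zspan S, IsGeneralizedCharacter ↥(Subgroup.normalizer (K : Set G)) α ∧
      ∀ x ∉ KN K, α x = 0 := by
    intro α hα
    induction hα using Submodule.span_induction with
    | mem x hx =>
      exact ⟨IsGenChar.of_isCharacter (IsIrr.isCharacter (hS x hx).1),
        fun y hy => vanish (KN K) (fix_of_centralizer K hC) (hS x hx).1 (hS x hx).2 hy⟩
    | zero => exact ⟨IsGenChar.zero, fun _ _ => rfl⟩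
    | add x y _ _ hx hy =>
      exact ⟨IsGenChar.add hx.1 hy.1, fun z hz => by simp [hx.2 z hz, hy.2 z hz]⟩
    | smul c x _ hx =>
      exact ⟨by rw [← Int.cast_smul_eq_zsmul ℂ]; exact IsGenChar.zsmul hx.1 c,
        fun z hz => by simp [hx.2 z hz]⟩
  refine ⟨fun χ hχ => (hS χ hχ).1, ⟨fun α _ β _ => indFun_add _ α β,
    fun α _ n => indFun_zsmul _ n α, fun α hα β hβ => ?_,
    fun α hα => IsGenChar.ind _ (hgen α hα.1).1⟩, fun α hα => ?_⟩
  · obtain ⟨hβg, hβv⟩ := hgen β hβ.1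
    show classInner (indFun _ α) (indFun _ β) = _
    rw [classInner_indFun _ α (IsGenChar.classFun (IsGenChar.ind _ hβg))]
    congr 1
    funext x
    exact res_ind K hC hTI hlt (IsGenChar.classFun hβg) hβv (one_of_mem_zspanOn hβ) x
  · show indFun _ α 1 = 0
    rw [indFun_one_eq, one_of_mem_zspanOn hα, mul_zero]

include hTI hlt hC in
/-- A coefficient congruence from a virtual irreducible constant on the central subgroup. -/
theorem dvd_coeff (hodd : Odd (Nat.card ↥(Subgroup.normalizer (K : Set G))))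
    {Z : Subgroup ↥(Subgroup.normalizer (K : Set G))} [Z.Normal] (hZK : Z ≤ KN K) (hZ : Z ≠ ⊥)
    (hZc : ∀ z ∈ Z, ∀ k ∈ KN K, z * k * z⁻¹ * k⁻¹ = 1) {F : G → ℂ}
    (hFg : IsGeneralizedCharacter G F) (hF1 : classInner F F = 1) {a : ℕ}
    {χ₀ : ↥(Subgroup.normalizer (K : Set G)) → ℂ} (hχ₀ : dg χ₀ = (KN K).index * a)
    {m : (↥(Subgroup.normalizer (K : Set G)) → ℂ) → ℕ}
    (hm : ∀ χ ∈ TT Z ⊥, dg χ = dg χ₀ * m χ) {t : ℤ}
    (ht : ∀ χ ∈ TT Z ⊥, classInner (fun x : ↥(Subgroup.normalizer (K : Set G)) => F x) χ =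
      (m χ : ℂ) * (t : ℂ)) : (a : ℤ) ∣ t := by
  classical
  set e := (KN K).index
  have he : (e : ℂ) ≠ 0 := Nat.cast_ne_zero.2 Subgroup.index_ne_zero_of_finite
  let f : ↥(Subgroup.normalizer (K : Set G)) → ℂ := fun x => F x
  have hf : IsClassFunction ↥(Subgroup.normalizer (K : Set G)) f :=
    IsGenChar.classFun (IsGenChar.comp (Subgroup.normalizer (K : Set G)).subtype hFg)
  have hNcard : (Nat.card ↥(Subgroup.normalizer (K : Set G)) : ℂ) = (Nat.card K : ℂ) * e := by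
    rw [← (KN K).card_mul_index, Nat.cast_mul,
      Nat.card_congr (Subgroup.subgroupOfEquivOfLe Subgroup.le_normalizer).toEquiv]
  have hval : ∀ z ∈ Z, z ≠ 1 → (a : ℂ) * (f 1 - f z) = (t : ℂ) * (Nat.card K : ℂ) := by
    intro z hz hz1
    have h1 : f 1 - f z = ∑ χ : IrrCharacter ↥(Subgroup.normalizer (K : Set G)),
        classInner f (χ : ↥(Subgroup.normalizer (K : Set G)) → ℂ) * ((χ : ↥(Subgroup.normalizer (K : Set G)) → ℂ) 1 - (χ : ↥(Subgroup.normalizer (K : Set G)) → ℂ) z) := by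
      have e1 := congrFun (classFunction_expansion hf) 1
      have e2 := congrFun (classFunction_expansion hf) z
      simp only [Finset.sum_apply, Pi.smul_apply, smul_eq_mul] at e1 e2
      rw [e1, e2, ← Finset.sum_sub_distrib]
      exact Finset.sum_congr rfl fun χ _ => by ring
    have h2 : f 1 - f z = ∑ χ ∈ TT Z ⊥, classInner f χ * (χ 1 - χ z) := by
      rw [h1, TT, Finset.sum_map]
      refine (Finset.sum_subset (Finset.filter_subset _ _) fun χ _ hχ => ?_).symm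
      have hχ' : ¬ NonTriv Z (χ : ↥(Subgroup.normalizer (K : Set G)) → ℂ) := fun h =>
        hχ (Finset.mem_filter.2 ⟨Finset.mem_univ _, h, not_nonTriv_bot _⟩)
      simp only [NonTriv, not_exists, not_and, not_not] at hχ'
      show classInner f (χ : ↥(Subgroup.normalizer (K : Set G)) → ℂ) * _ = 0
      rw [hχ' z hz, sub_self, mul_zero]
    have h3 : (e : ℂ) * ((a : ℂ) * (f 1 - f z)) =
        (t : ℂ) * ∑ χ ∈ TT Z ⊥, χ 1 * (χ 1 - χ z) := by
      rw [h2, Finset.mul_sum, Finset.mul_sum, Finset.mul_sum]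
      refine Finset.sum_congr rfl fun χ hχ => ?_
      rw [ht χ hχ]
      have hc : χ 1 = (e : ℂ) * (a : ℂ) * (m χ : ℂ) := by
        rw [dg_spec (mem_TT.1 hχ).1, hm χ hχ, hχ₀]; push_cast; ring
      rw [hc]; ring
    rw [sum_mul_apply hz hz1, hNcard] at h3
    refine mul_left_cancel₀ he ?_
    linear_combination h3
  obtain ⟨z, hz, hz1⟩ := (Subgroup.bot_or_exists_ne_one Z).resolve_left hZ
  have ha : a ≠ 0 := by
    intro h
    have h1 := hval z hz hz1
    rw [h, Nat.cast_zero, zero_mul, eq_comm, mul_eq_zero] at h1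
    rcases h1 with h1 | h1
    · have hempty : TT Z ⊥ ≠ ∅ := fun h0 => by
        have := sum_mul_apply hz hz1
        rw [h0, Finset.sum_empty] at this
        exact Nat.card_pos.ne' (Nat.cast_eq_zero.1 this.symm)
      obtain ⟨χ, hχ⟩ := Finset.nonempty_iff_ne_empty.2 hempty
      have := dg_pos (mem_TT.1 hχ).1
      rw [hm χ hχ, hχ₀, h, mul_zero, zero_mul] at this
      omega
    · exact Nat.card_pos.ne' (Nat.cast_eq_zero.1 h1)
  -- the virtual character is a signed irreducible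
  obtain ⟨ε, hε, hψ⟩ : ∃ ε : ℤ, (ε = 1 ∨ ε = -1) ∧ IsIrrCharacter G ((ε : ℂ) • F) := by
    rcases IsGenChar.norm_one hFg hF1 with h | h
    · exact ⟨1, Or.inl rfl, by simpa using h⟩
    · exact ⟨-1, Or.inr rfl, by simpa using h⟩
  set ZG := Z.map (Subgroup.normalizer (K : Set G)).subtype with hZG
  have hZGK : ZG ≤ K := by
    rintro _ ⟨w, hw, rfl⟩; exact Subgroup.mem_subgroupOf.1 (hZK hw)
  have hmemZ : ∀ w ∈ ZG, ∃ h : w ∈ Subgroup.normalizer (K : Set G), (⟨w, h⟩ : ↥(Subgroup.normalizer (K : Set G))) ∈ Z := by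
    rintro _ ⟨w, hw, rfl⟩; exact ⟨w.2, hw⟩
  have hconst : ∀ w ∈ ZG, ∀ w' ∈ ZG, w ≠ 1 → w' ≠ 1 → ((ε : ℂ) • F) w = ((ε : ℂ) • F) w' := by
    intro w hw w' hw' h1 h1'
    obtain ⟨hN1, hZ1⟩ := hmemZ w hw
    obtain ⟨hN2, hZ2⟩ := hmemZ w' hw'
    have e1 := hval _ hZ1 (fun h => h1 (congrArg Subtype.val h))
    have e2 := hval _ hZ2 (fun h => h1' (congrArg Subtype.val h))
    rw [← e2] at e1
    have e3 := mul_left_cancel₀ (Nat.cast_ne_zero.2 ha) e1
    show (ε : ℂ) * F w = (ε : ℂ) * F w'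
    congr 1
    simp only [f] at e3
    linear_combination -e3
  have key1 : ∀ g : G, ∀ w ∈ ZG, w ≠ 1 → g * w * g⁻¹ ∈ ZG → g ∈ Subgroup.normalizer (K : Set G) :=
    fun g w hw hw1 hgw => by_contra fun hg => hw1 (hTI g hg w (hZGK hw) (hZGK hgw))
  have key2 : ∀ g : G, ∀ k ∈ K, k ≠ 1 → ∀ w ∈ ZG, w ≠ 1 →
      k * (g * w * g⁻¹) = g * w * g⁻¹ * k → g ∈ Subgroup.normalizer (K : Set G) := by
    intro g k hk hk1 w hw hw1 hc
    have hy : g⁻¹ * k * g ∈ K := hC w (hZGK hw) hw1 (Subgroup.mem_centralizer_singleton_iff.2 (by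
      calc g⁻¹ * k * g * w = g⁻¹ * (k * (g * w * g⁻¹)) * g := by group
        _ = g⁻¹ * (g * w * g⁻¹ * k) * g := by rw [hc]
        _ = w * (g⁻¹ * k * g) := by group))
    by_contra hg
    have hgi : g⁻¹ ∉ Subgroup.normalizer (K : Set G) := fun h =>
      hg (inv_inv g ▸ (Subgroup.normalizer (K : Set G)).inv_mem h)
    exact hk1 (hTI g⁻¹ hgi k hk (by rwa [inv_inv]))
  have hcop : (Nat.card K).Coprime (K.relIndex (Subgroup.normalizer (K : Set G))) := by
    rw [← Nat.card_congr (Subgroup.subgroupOfEquivOfLe Subgroup.le_normalizer).toEquiv]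
    exact coprime_card_index (KN K) (cent_KN K hC)
  obtain ⟨n, d, hn, hd, r, hr⟩ := CentralCongr.congr_central K (Subgroup.normalizer (K : Set G)) ZG
    Subgroup.le_normalizer hodd hZGK
    (by
      rintro x hx _ ⟨w, hw, rfl⟩
      exact ⟨⟨x, hx⟩ * w * ⟨x, hx⟩⁻¹, (inferInstance : Z.Normal).conj_mem w hw _, by simp⟩)
    (by
      rintro _ ⟨w, hw, rfl⟩ y hy
      have h := hZc w hw ⟨y, Subgroup.le_normalizer hy⟩ (Subgroup.mem_subgroupOf.2 hy)
      have h' := congrArg Subtype.val (mul_inv_eq_one.1 h)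
      exact mul_inv_eq_iff_eq_mul.1 h')
    hcop key1 key2 hψ hconst (z : G) (Subgroup.mem_map_of_mem _ hz) (fun h => hz1 (Subtype.ext h))
  have h4 := hval z hz hz1
  simp only [f, OneMemClass.coe_one] at h4
  rw [Pi.smul_apply, smul_eq_mul] at hn hd
  have hεε : (ε : ℂ) * ε = 1 := by rcases hε with h | h <;> simp [h]
  have h5 : ((d - n : ℤ) : ℂ) = (((Nat.card K : ℤ) * r : ℤ) : ℂ) := by rw [hr]
  push_cast at h5
  have hK0 : (Nat.card K : ℂ) ≠ 0 := Nat.cast_ne_zero.2 Nat.card_pos.ne'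
  have h6 : (t : ℂ) = (a : ℂ) * (ε : ℂ) * (r : ℂ) := by
    refine mul_left_cancel₀ hK0 ?_
    linear_combination -h4 + (a : ℂ) * (ε : ℂ) * h5 + (a : ℂ) * (ε : ℂ) * hd -
      (a : ℂ) * (ε : ℂ) * hn - (a : ℂ) * (F 1 - F z) * hεε
  exact ⟨ε * r, by exact_mod_cast (h6.trans (mul_assoc _ _ _))⟩

include hTI hlt hC in
/-- The linking coefficient is divisible by the anchor degree. -/
theorem link_dvd (hodd : Odd (Nat.card ↥(Subgroup.normalizer (K : Set G))))
    {Z : Subgroup ↥(Subgroup.normalizer (K : Set G))} [Z.Normal] (hZK : Z ≤ KN K) (hZ : Z ≠ ⊥)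
    (hZc : ∀ z ∈ Z, ∀ k ∈ KN K, z * k * z⁻¹ * k⁻¹ = 1)
    {Y : Finset (↥(Subgroup.normalizer (K : Set G)) → ℂ)}
    {σ ν : (↥(Subgroup.normalizer (K : Set G)) → ℂ) → (G → ℂ)}
    {χ₀ η₀ : ↥(Subgroup.normalizer (K : Set G)) → ℂ}
    {m : (↥(Subgroup.normalizer (K : Set G)) → ℂ) → ℕ} {a : ℕ}
    (h : Link (↑(TT (KN K) ⊥)) (fun α => indFun (Subgroup.normalizer (K : Set G)) α) (TT Z ⊥) Y σ ν
      χ₀ η₀ m a) (hη : dg η₀ = (KN K).index)
    (hX2 : ∃ x ∈ TT Z ⊥, x ≠ χ₀) (hY2 : ∃ y ∈ Y, y ≠ η₀) :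
    ∃ z : ℤ, classInner (indFun (Subgroup.normalizer (K : Set G)) (χ₀ - (a : ℤ) • η₀)) (ν η₀) + (a : ℂ) =
      (a : ℂ) * (z : ℂ) := by
  classical
  have hτη : IsGeneralizedCharacter G (ν η₀) :=
    h.isoY.2.2.2 _ (Submodule.subset_span (Finset.mem_coe.2 h.memY))
  have hfgen : IsGeneralizedCharacter ↥(Subgroup.normalizer (K : Set G))
      (fun x : ↥(Subgroup.normalizer (K : Set G)) => ν η₀ x) :=
    IsGenChar.comp (Subgroup.normalizer (K : Set G)).subtype hτη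
  obtain ⟨t, ht⟩ := IsGenChar.classInner_int hfgen
    (IsGenChar.of_isCharacter (IsIrr.isCharacter (h.irrX h.memX)))
  obtain ⟨k, hk⟩ := IsGenChar.classInner_int hfgen
    (IsGenChar.of_isCharacter (IsIrr.isCharacter (h.irrY h.memY)))
  have hX' : ∀ χ ∈ TT Z ⊥, classInner (fun x : ↥(Subgroup.normalizer (K : Set G)) => ν η₀ x) χ =
      (m χ : ℂ) * (t : ℂ) := by
    intro χ hχ
    have e := classInner_indFun_right (Subgroup.normalizer (K : Set G)) (χ + (-(m χ : ℤ)) • χ₀)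
      (IsGenChar.classFun hτη)
    have e' := h.mapX hχ
    rw [e'] at e
    have o : ∀ f ∈ TT Z ⊥, classInner (ν η₀) (σ f) = 0 := fun f hf => by
      rw [← classInner_conj_symm, h.orth hX2 hY2 f hf η₀ h.memY, map_zero]
    rw [← Int.cast_smul_eq_zsmul ℂ] at e
    simp only [classInner_add_right, classInner_smul_right, o χ hχ, o χ₀ h.memX, Int.cast_neg,
      Int.cast_natCast, map_neg, map_natCast, mul_zero, add_zero, ht] at e
    linear_combination -e
  have hi : dg χ₀ = (KN K).index * a := by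
    have e := h.anchor
    rw [dg_spec (h.irrX h.memX), dg_spec (h.irrY h.memY), hη, ← Nat.cast_mul] at e
    rw [Nat.cast_injective e]; ring
  have hm : ∀ χ ∈ TT Z ⊥, dg χ = dg χ₀ * m χ := fun χ hχ => by
    have e := h.degX χ hχ
    rw [dg_spec (h.irrX hχ), dg_spec (h.irrX h.memX), ← Nat.cast_mul] at e
    rw [Nat.cast_injective e]; ring
  obtain ⟨s, hs⟩ := dvd_coeff K hTI hlt hC hodd hZK hZ hZc hτη
    (by rw [h.isoY.2.2.1 _ (Submodule.subset_span h.memY) _ (Submodule.subset_span h.memY),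
      classInner_self_irr (h.irrY h.memY)]) hi hm hX'
  refine ⟨s + (1 - k), ?_⟩
  have e := classInner_indFun_right (Subgroup.normalizer (K : Set G)) (χ₀ - (a : ℤ) • η₀)
    (IsGenChar.classFun hτη)
  obtain ⟨d, hd⟩ := IsGenChar.classInner_int (h.hyp.iso.2.2.2 _ h.link_mem) hτη
  rw [← classInner_conj_symm, hd, map_intCast] at e
  simp only [← Int.cast_smul_eq_zsmul ℂ] at e hd ⊢
  simp only [classInner_sub_right, classInner_smul_right, Int.cast_natCast, map_natCast, ht, hk] at e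
  rw [hd, e, hs]
  push_cast
  ring

include hTI hlt hC in
/-- The join of the central part with the linear part. -/
theorem join_link (hodd : Odd (Nat.card ↥(Subgroup.normalizer (K : Set G)))) {p : ℕ} (hp : p.Prime)
    (hpK : IsPGroup p (KN K))
    {Z : Subgroup ↥(Subgroup.normalizer (K : Set G))} [Z.Normal] (hZD : Z ≤ ⁅KN K, KN K⁆) (hZ : Z ≠ ⊥)
    (hZc : ∀ z ∈ Z, ∀ k ∈ KN K, z * k * z⁻¹ * k⁻¹ = 1)
    (hY2 : 2 ≤ (TT (KN K) ⁅KN K, KN K⁆).card) :
    IsCoherent ((↑(TT Z ⊥) : Set (↥(Subgroup.normalizer (K : Set G)) → ℂ)) ∪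
      ↑(TT (KN K) ⁅KN K, KN K⁆)) {1}ᶜ (fun α => indFun (Subgroup.normalizer (K : Set G)) α) := by
  classical
  have hC' := cent_KN K hC
  have hZK : Z ≤ KN K := hZD.trans (Subgroup.commutator_le_left _ _)
  have hH := indHyp K hTI hlt hC (↑(TT (KN K) ⊥)) fun χ hχ =>
    ⟨(mem_TT.1 hχ).1, (mem_TT.1 hχ).2.1⟩
  have hXsub := TT_subset_top (KN K) (A := Z) (B := ⊥) hZK
  have hYsub := TT_subset_top (KN K) (A := KN K) (B := ⁅KN K, KN K⁆) le_rfl
  obtain ⟨-, σ, hσ, hσα⟩ := central_coherent (KN K) hC' hodd hp hpK hZK hZ hZc hH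
  obtain ⟨η₀, hη₀, η₁, hη₁, hη01⟩ := Finset.one_lt_card.1 hY2
  have hYdeg : ∀ η ∈ TT (KN K) ⁅KN K, KN K⁆, η 1 = (((KN K).index : ℕ) : ℂ) := fun η hη => by
    rw [dg_spec (mem_TT.1 hη).1, dg_eq_index (KN K) hC' hη]
  obtain ⟨-, ν, hν, hνα⟩ := equal_degree_irr _ (hH.mono hYsub) hYdeg ⟨η₀, hη₀, η₁, hη₁, hη01⟩
  obtain ⟨z, hz, hz1⟩ := (Subgroup.bot_or_exists_ne_one Z).resolve_left hZ
  have hXne : (TT Z ⊥).Nonempty := Finset.nonempty_iff_ne_empty.2 fun h => by
    have h1 := sum_mul_apply hz hz1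
    rw [h, Finset.sum_empty] at h1
    exact Nat.card_pos.ne' (Nat.cast_eq_zero.1 h1.symm)
  obtain ⟨χ₀, hχ₀, hmin⟩ := (TT Z ⊥).exists_min_image dg hXne
  obtain ⟨i, hi, -⟩ := dg_prime_pow (KN K) hC' hp hpK hZK hZc hχ₀
  have he : 0 < (KN K).index := Nat.pos_of_ne_zero Subgroup.index_ne_zero_of_finite
  have hmex : ∀ χ ∈ TT Z ⊥, ∃ m : ℕ, dg χ = dg χ₀ * m := fun χ hχ => by
    obtain ⟨j, hj, -⟩ := dg_prime_pow (KN K) hC' hp hpK hZK hZc hχ
    have h1 := hmin χ hχ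
    rw [hi, hj] at h1
    have hij := (Nat.pow_le_pow_iff_right hp.one_lt).1 (Nat.le_of_mul_le_mul_left h1 he)
    exact ⟨p ^ (j - i), by rw [hj, hi, mul_assoc, ← pow_add, Nat.add_sub_cancel' hij]⟩
  choose! m hm using hmex
  have hlink : Link (↑(TT (KN K) ⊥)) (fun α => indFun (Subgroup.normalizer (K : Set G)) α) (TT Z ⊥)
      (TT (KN K) ⁅KN K, KN K⁆) σ ν χ₀ η₀ m (p ^ i) :=
    { hyp := hH
      subX := hXsub
      subY := hYsub
      ne := fun f hf g hg e => (mem_TT.1 hg).2.2 (nonTriv_mono hZD (e ▸ (mem_TT.1 hf).2.1))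
      isoX := hσ
      agreeX := hσα
      isoY := hν
      agreeY := hνα
      memX := hχ₀
      memY := hη₀
      degX := fun χ hχ => by
        rw [dg_spec (mem_TT.1 hχ).1, dg_spec (mem_TT.1 hχ₀).1, hm χ hχ]; push_cast; ring
      anchor := by rw [dg_spec (mem_TT.1 hχ₀).1, hYdeg η₀ hη₀, hi]; push_cast; ring
      degY := fun η hη => (hYdeg η hη).trans (hYdeg η₀ hη₀).symm }
  have hX2 : ∃ x ∈ TT Z ⊥, x ≠ χ₀ := ⟨conjFun χ₀, conjFun_mem hχ₀, conjFun_ne hodd hχ₀⟩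
  have hY2' : ∃ y ∈ TT (KN K) ⁅KN K, KN K⁆, y ≠ η₀ := ⟨η₁, hη₁, hη01.symm⟩
  exact hlink.coherent hX2 hY2' (fun k θ => indFun_smul _ k θ)
    (link_dvd K hTI hlt hC hodd hZK hZ hZc hlink (dg_eq_index (KN K) hC' hη₀) hX2 hY2')

include hTI hlt hC in
/-- Sibley's theorem. -/
theorem sibley (hK : K ≠ ⊥) (hodd : Odd (Nat.card ↥(Subgroup.normalizer (K : Set G)))) :
    IsCoherent (↑(TT (KN K) ⊥) : Set (↥(Subgroup.normalizer (K : Set G)) → ℂ)) {1}ᶜ
      (fun α => indFun (Subgroup.normalizer (K : Set G)) α) := by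
  classical
  have hC' := cent_KN K hC
  have hKN1 : KN K ≠ ⊥ := fun h => hK (disjoint_self.1
    (Disjoint.mono_right Subgroup.le_normalizer (Subgroup.subgroupOf_eq_bot.1 h)))
  have hKNtop : KN K ≠ ⊤ := fun h => hlt.not_ge (Subgroup.subgroupOf_eq_top.1 h)
  haveI := isNilpotent (KN K) hC' hKNtop
  have hH := indHyp K hTI hlt hC (↑(TT (KN K) ⊥)) fun χ hχ =>
    ⟨(mem_TT.1 hχ).1, (mem_TT.1 hχ).2.1⟩
  set D : Subgroup ↥(Subgroup.normalizer (K : Set G)) := ⁅KN K, KN K⁆ with hD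
  have hDK : D < KN K := commutator_lt (KN K) le_rfl hKN1
  have hoddc : Odd (D.relIndex (KN K)) := Odd.of_dvd_nat hodd
    ((D.subgroupOf (KN K)).index_dvd_card.trans (KN K).card_subgroup_dvd_card)
  have hodde : Odd (KN K).index := Odd.of_dvd_nat hodd (KN K).index_dvd_card
  rcases feit (KN K) hC' hKN1 hKNtop hH with h | ⟨p, hp, hpK, hna, -⟩ | ⟨-, hcard⟩
  · exact h
  swap
  · exfalso
    have h1 : Odd (Nat.card (KN K)) := Odd.of_dvd_nat hodd (KN K).card_subgroup_dvd_card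
    rw [hcard] at h1
    exact (Nat.odd_add_one.1 h1) hodde
  set Z : Subgroup ↥(Subgroup.normalizer (K : Set G)) :=
    D ⊓ Subgroup.centralizer (KN K : Set ↥(Subgroup.normalizer (K : Set G))) with hZ
  haveI : Z.Normal := by
    haveI : (Subgroup.centralizer (KN K : Set ↥(Subgroup.normalizer (K : Set G)))).Normal :=
      Subgroup.normal_centralizer
    exact Subgroup.normal_inf_normal _ _
  have hZ1 : Z ≠ ⊥ := by
    obtain ⟨z, ⟨hzD, hzc⟩, hz1⟩ := (Subgroup.bot_or_exists_ne_one _).resolve_left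
      (Grp.inf_center_ne_bot (G := KN K) (D.subgroupOf (KN K)) fun e => hna
        (disjoint_self.1 (Disjoint.mono_right hDK.le (Subgroup.subgroupOf_eq_bot.1 e))))
    intro h
    refine hz1 (Subtype.ext (Subgroup.mem_bot.1 (h ▸ ⟨Subgroup.mem_subgroupOf.1 hzD, ?_⟩)))
    exact Subgroup.mem_centralizer_iff.2 fun k hk =>
      congrArg Subtype.val (Subgroup.mem_center_iff.1 hzc ⟨k, hk⟩)
  have hZc : ∀ z ∈ Z, ∀ k ∈ KN K, z * k * z⁻¹ * k⁻¹ = 1 := fun z hz k hk => by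
    rw [← Subgroup.mem_centralizer_iff.1 hz.2 k hk]; group
  have hZD : Z ≤ D := inf_le_left
  have hZK : Z ≤ KN K := hZD.trans hDK.le
  have hlin := card_linear (KN K) hC'
  rw [← hD] at hlin
  have hge : 2 ≤ (TT (KN K) D).card := by
    by_contra h
    rcases (show (TT (KN K) D).card = 0 ∨ (TT (KN K) D).card = 1 by omega) with h0 | h0 <;>
      rw [h0] at hlin
    · exact hDK.not_ge (Subgroup.relIndex_eq_one.1 (by omega))
    · rw [← hlin, one_mul] at hoddc
      exact (Nat.odd_add_one.1 hoddc) hodde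
  have hcoh := join_link K hTI hlt hC hodd hp hpK hZD hZ1 hZc hge
  -- the middle characters
  have hsplit : TT (KN K) ⊥ = (TT Z ⊥ ∪ TT (KN K) D) ∪ TT D Z := by
    rw [TT_union hZK bot_le, TT_union hDK.le hZD, Finset.union_comm (TT Z ⊥), Finset.union_right_comm]
  rw [hsplit, Finset.coe_union]
  obtain ⟨ψ, hψ⟩ := Finset.card_pos.1 (show 0 < (TT (KN K) D).card by omega)
  rw [← Finset.coe_union] at hcoh
  refine extend_many (TT Z ⊥ ∪ TT (KN K) D) dg (Finset.mem_union_right _ hψ) hcoh (TT D Z) ?_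
    (by rw [← Finset.coe_union, ← hsplit]; exact hH) ?_
    (fun ξ hξ => dg_spec (mem_TT.1 hξ).1) fun χ hχ => ?_
  · exact Finset.disjoint_union_left.2 ⟨TT_disjoint.symm, TT_disjoint⟩
  · intro ξ hξ
    rcases Finset.mem_union.1 hξ with h | h <;> exact dg_spec (mem_TT.1 h).1
  obtain ⟨n, hn, hdeg, hnle, -⟩ := sq_le_relIndex (KN K) hC' hDK.le hZK hZK
    (fun z hz k hk => by rw [hZc z hz k hk]; exact Z.one_mem) hχ
  rw [dg_eq_index (KN K) hC' hψ, hdeg]
  refine ⟨dvd_mul_right _ _, ?_⟩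
  refine lt_of_lt_of_le ?_ (Finset.sum_le_sum_of_subset Finset.subset_union_left)
  -- the central part is large
  have hsum := sum_sq_TT (A := Z) (B := ⊥) bot_le
  rw [Subgroup.index_bot, ← Z.card_mul_index, ← Subgroup.relIndex_mul_index hZK] at hsum
  have hq : 2 * (KN K).index + 1 ≤ Nat.card Z := by
    have h1 := index_dvd_relIndex_sub_one (KN K) hC' (A := Z) (B := ⊥) bot_le hZK
    rw [Subgroup.relIndex_bot_left] at h1
    obtain ⟨s, hs⟩ := h1
    have h3 : Nat.card Z ≠ 1 := fun e => hZ1 (Subgroup.card_eq_one.1 e)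
    have h4 := Nat.card_pos (α := Z)
    have h5 : Nat.card Z = (KN K).index * s + 1 := by omega
    have h6 : Odd (Nat.card Z) := Odd.of_dvd_nat hodd Z.card_subgroup_dvd_card
    rw [h5] at h6
    have h7 : Even s := (Nat.even_mul.1 (Nat.not_odd_iff_even.1 (Nat.odd_add_one.1 h6))).resolve_left
      (Nat.not_even_iff_odd.2 hodde)
    obtain ⟨r, hr⟩ := h7
    have hr0 : r ≠ 0 := fun e => h3 (by rw [h5, hr, e]; simp)
    rw [h5, hr, mul_add]
    have := Nat.mul_le_mul_left (KN K).index (Nat.one_le_iff_ne_zero.2 hr0)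
    omega
  set e := (KN K).index
  set M := Z.relIndex (KN K)
  obtain ⟨q, hq'⟩ : ∃ q, Nat.card Z = q + 1 := Nat.exists_eq_add_of_le' Nat.card_pos
  rw [hq'] at hsum hq
  have hS : ∑ f ∈ TT Z ⊥, dg f ^ 2 = M * e * q := by
    rw [Nat.add_mul, one_mul] at hsum
    rw [mul_comm (M * e) q]
    omega
  rw [hS]
  have he : 0 < e := Nat.pos_of_ne_zero Subgroup.index_ne_zero_of_finite
  have hM : 2 ≤ M := by
    have h1 := relIndex_ge (KN K) hC' (lt_of_le_of_lt hZD hDK) le_rfl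
    have : e + 1 ≤ M := h1
    omega
  have h1 : n < M := by nlinarith
  calc 2 * e * (e * n) < 2 * e * (e * M) :=
        Nat.mul_lt_mul_of_pos_left (Nat.mul_lt_mul_of_pos_left h1 he) (by omega)
    _ = M * e * (2 * e) := by ring
    _ ≤ M * e * q := Nat.mul_le_mul_left _ (by omega)

end Cfsg.Agent.Char.KerSets
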