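import Cfsg.Agent.Lib.Char.Extend
import Cfsg.Agent.Lib.Char.CliffordCorr

/-!
Consequences of the cover: existence and uniqueness of extensions.
-/

namespace Cfsg.Agent.Char.Ext

open scoped ComplexConjugate
open Cfsg

universe u

variable {G : Type u} [Group G] [Finite G] {N : Subgroup G} [hN : N.Normal]

/-- What is needed at a prime `p` to extend `θ`. -/
def Witness (θ : N → ℂ) (d : ℕ) (p : ℕ) : Prop :=
  (¬ p ∣ d ∧ ¬ p ∣ orderOf (detChar θ)) ∨
  (¬ p ∣ d ∧ ∃ μ : G →* ℂˣ, ∀ m : N, (μ m : ℂ) = detChar θ m) ∨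
  ∃ (H : Subgroup G) (hNH : N ≤ H) (η : H → ℂ), ¬ p ∣ H.index ∧ IsIrrCharacter H η ∧
    ∀ m : N, η ⟨m, hNH m.2⟩ = θ m

theorem exists_extension_of_witness {θ : N → ℂ} (hθ : IsIrrCharacter N θ)
    (hinv : ∀ (g : G) (n : N), θ ⟨g * n * g⁻¹, hN.conj_mem (n : G) n.2 g⟩ = θ n)
    {d : ℕ} (hd : θ 1 = d) (h : ∀ p : ℕ, p.Prime → Witness θ d p) :
    ∃ χ : G → ℂ, IsIrrCharacter G χ ∧ ∀ m : N, χ m = θ m := by
  obtain ⟨k, ρ, hρ, rfl, hk, hdet⟩ := IsIrr.exists_rep hθ
  have hkd : k = d := by exact_mod_cast hk.symm.trans hd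
  subst hkd
  haveI := hρ
  have hinv' : ∀ (g : G) (m : N), ρ.character (conjEquivN N g m) = ρ.character m := fun g m => by
    rw [conjEquivN_apply]
    exact hinv g m
  refine exists_extension N ρ hinv' (one_mem_of_forall_prime fun p hp => ?_)
  rcases h p hp with ⟨h1, h2⟩ | ⟨h1, μ, hμ⟩ | ⟨H, hNH, η, h1, h2, h3⟩
  · refine ⟨_, det_mem N ρ (o := orderOf (detChar ρ.character)) fun m => ?_, fun hdvd => ?_⟩
    · have := congrFun (pow_orderOf_eq_one (detChar ρ.character)) m
      rw [Pi.pow_apply, hdet, detUnits_apply] at this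
      exact this
    · rw [Int.natCast_dvd_natCast] at hdvd
      exact (hp.dvd_mul.mp hdvd).elim h1 h2
  · refine ⟨_, det_ext_mem N ρ μ (fun m => Units.ext (by rw [hμ m, hdet])), fun hdvd => ?_⟩
    exact h1 (Int.natCast_dvd_natCast.mp hdvd)
  · exact ⟨_, index_mem_extPowers N ρ hinv' H hNH h2 h3,
      fun hdvd => h1 (Int.natCast_dvd_natCast.mp hdvd)⟩

omit [Finite G] in
/-- `θ` itself serves at every prime away from the index. -/
theorem witness_self {θ : N → ℂ} (hθ : IsIrrCharacter N θ) (d : ℕ) {p : ℕ} (hp : ¬ p ∣ N.index) :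
    Witness θ d p := Or.inr (Or.inr ⟨N, le_rfl, θ, hp, hθ, fun _ => rfl⟩)

theorem witness_of_coprime {θ : N → ℂ} (hθ : IsIrrCharacter N θ) {d : ℕ}
    (hcop : Nat.Coprime N.index (orderOf (detChar θ) * d)) {p : ℕ} (hp : p.Prime) :
    Witness θ d p := by
  by_cases hpI : p ∣ N.index
  · refine Or.inl ⟨fun h => ?_, fun h => ?_⟩
    · exact hp.ne_one (Nat.eq_one_of_dvd_coprimes hcop hpI (h.mul_left _))
    · exact hp.ne_one (Nat.eq_one_of_dvd_coprimes hcop hpI (h.mul_right _))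
  · exact witness_self hθ d hpI

/-- An extension of a linear character keeping the order. -/
theorem exists_linear_adjust (l₀ : G →* ℂˣ) {o : ℕ}
    (ho : orderOf (fun m : N => (l₀ m : ℂ)) = o) (hcop : Nat.Coprime N.index o) :
    ∃ l : G →* ℂˣ, (∀ m : N, l m = l₀ m) ∧ orderOf l = o := by
  obtain ⟨a, ha1, ha0⟩ := Nat.chineseRemainder hcop.symm 1 0
  rw [Nat.modEq_zero_iff_dvd] at ha0
  have hoN : ∀ m : N, (l₀ ^ o) (m : G) = 1 := fun m => Units.ext (by
    have := congrFun (pow_orderOf_eq_one (fun m : N => (l₀ m : ℂ))) m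
    rw [ho] at this
    simpa using this)
  have hI := pow_index_eq_one (l₀ ^ o) hoN
  have hres : ∀ m : N, (l₀ ^ a) (m : G) = l₀ (m : G) := fun m => by
    rw [MonoidHom.pow_apply]
    conv_rhs => rw [← pow_one (l₀ (m : G))]
    refine pow_eq_pow_iff_modEq.mpr (ha1.of_dvd (orderOf_dvd_of_pow_eq_one ?_))
    rw [← MonoidHom.pow_apply]
    exact hoN m
  refine ⟨l₀ ^ a, hres, Nat.dvd_antisymm ?_ ?_⟩
  · refine orderOf_dvd_of_pow_eq_one ?_
    obtain ⟨b, rfl⟩ := ha0
    refine MonoidHom.ext fun g => ?_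
    have h := DFunLike.congr_fun hI g
    simp only [MonoidHom.pow_apply, MonoidHom.one_apply] at h ⊢
    rw [← pow_mul, show N.index * b * o = o * N.index * b by ring, pow_mul, pow_mul, h, one_pow]
  · rw [← ho]
    refine orderOf_dvd_of_pow_eq_one (funext fun m => ?_)
    have h := congrArg (fun f : G →* ℂˣ => (f (m : G) : ℂ)) (pow_orderOf_eq_one (l₀ ^ a))
    simp only [MonoidHom.pow_apply, MonoidHom.one_apply, Units.val_pow_eq_pow_val, Units.val_one]
      at h
    have e := congrArg (fun u : ℂˣ => (u : ℂ)) (hres m)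
    simp only [MonoidHom.pow_apply, Units.val_pow_eq_pow_val] at e
    rw [e] at h
    simpa using h

/-- Extensions of coprime order are unique. -/
theorem linear_unique {l l' : G →* ℂˣ} (hres : ∀ m : N, l m = l' m)
    (h : Nat.Coprime N.index (orderOf l)) (h' : Nat.Coprime N.index (orderOf l')) : l = l' := by
  have h1 : (l * l'⁻¹) ^ N.index = 1 := pow_index_eq_one _ fun m => by simp [hres m]
  have a1 : ∀ (x : G →* ℂˣ) (g : G), x g ^ orderOf x = 1 := fun x g => by
    have := DFunLike.congr_fun (pow_orderOf_eq_one x) g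
    exact this
  have h3 := Nat.eq_one_of_dvd_coprimes (Nat.Coprime.mul_right h h')
    (orderOf_dvd_of_pow_eq_one (x := l * l'⁻¹) (MonoidHom.ext fun g => DFunLike.congr_fun h1 g))
    (orderOf_dvd_of_pow_eq_one (x := l * l'⁻¹) (n := orderOf l * orderOf l') (MonoidHom.ext fun g => by
      show (l g * (l' g)⁻¹) ^ (orderOf l * orderOf l') = 1
      rw [mul_pow, inv_pow, pow_mul, a1, one_pow, mul_comm (orderOf l), pow_mul, a1, one_pow,
        inv_one, mul_one]))
  exact mul_inv_eq_one.mp (orderOf_eq_one_iff.mp h3)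

/-- Determinant prescribes the extension. -/
theorem ext_unique {θ : N → ℂ} (hθ : IsIrrCharacter N θ) {d : ℕ} (hd : θ 1 = d)
    (hcop : Nat.Coprime N.index d) {χ χ' : G → ℂ} (hχ : IsIrrCharacter G χ)
    (hχ' : IsIrrCharacter G χ') (hres : ∀ m : N, χ m = θ m) (hres' : ∀ m : N, χ' m = θ m)
    (hdet : detChar χ' = detChar χ) : χ' = χ := by
  classical
  haveI := Fintype.ofFinite G
  haveI := Fintype.ofFinite N
  have e : (fun n : N => χ n) = θ := funext hres
  have e' : (fun n : N => χ' n) = θ := funext hres'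
  obtain ⟨hL, hmul⟩ := gallagher (N := N) hχ hχ' (e.symm ▸ hθ)
    (by rw [e, e', classInner_self_irr hθ]; exact one_ne_zero)
  set L := avgN N (χ' * fun g => conj (χ g)) with hLdef
  have h1 := congrFun hmul 1
  simp only [Pi.mul_apply] at h1
  have hχ1 : χ 1 = d := by rw [← hd]; exact hres 1
  have hχ'1 : χ' 1 = d := by rw [← hd]; exact hres' 1
  have hL1 : L 1 = 1 := mul_left_cancel₀ (IsIrr.one_ne_zero hχ) (by rw [h1, mul_one, hχ'1, hχ1])
  obtain ⟨l, hl⟩ := linearHom_of_isCharacter (IsIrr.isCharacter hL) hL1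
  have hlN : ∀ m : N, l (m : G) = 1 := fun m => Units.ext (by
    rw [← congrFun hl (m : G), Units.val_one, ← hL1, ← mul_one (m : G)]
    exact avgN_mul_left N _ m 1)
  have hχ'e : χ' = fun g => (l g : ℂ) * χ g := by
    rw [← hmul, hl]
    funext g
    exact mul_comm _ _
  obtain ⟨δ, hδ⟩ := isCharacter_detChar hχ
  have hld : l ^ d = 1 := MonoidHom.ext fun g => Units.ext (by
    have h := congrFun hdet g
    rw [hχ'e, detChar_mul_linear hχ hχ1 l, hδ] at h
    simp only at h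
    rw [MonoidHom.pow_apply, Units.val_pow_eq_pow_val, MonoidHom.one_apply, Units.val_one]
    exact mul_right_cancel₀ (δ g).ne_zero (h.trans (one_mul _).symm))
  have hl1 : l = 1 := orderOf_eq_one_iff.mp (Nat.eq_one_of_dvd_coprimes hcop
    (orderOf_dvd_of_pow_eq_one (x := l)
      (MonoidHom.ext fun g => DFunLike.congr_fun (pow_index_eq_one l hlN) g))
    (orderOf_dvd_of_pow_eq_one (x := l) (MonoidHom.ext fun g => DFunLike.congr_fun hld g)))
  rw [hχ'e, hl1]
  simp

/-- Any linear extension of the determinant is the determinant of some extension. -/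
theorem exists_ext_det {θ : N → ℂ} (hθ : IsIrrCharacter N θ) {d : ℕ} (hd : θ 1 = d)
    (hcop : Nat.Coprime N.index d) {η : G → ℂ} (hη : IsIrrCharacter G η)
    (hres : ∀ m : N, η m = θ m) (μ : G →* ℂˣ) (hμ : ∀ m : N, (μ m : ℂ) = detChar θ m) :
    ∃ χ : G → ℂ, IsIrrCharacter G χ ∧ (∀ m : N, χ m = θ m) ∧
      detChar χ = fun g => (μ g : ℂ) := by
  obtain ⟨δ, hδ⟩ := isCharacter_detChar hη
  have hη1 : η 1 = d := by rw [← hd]; exact hres 1
  have hνN : ∀ m : N, (μ * δ⁻¹) (m : G) = 1 := fun m => by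
    have : μ (m : G) = δ (m : G) := Units.ext (by
      rw [hμ, detChar_comp hη N.subtype hθ hres m, hδ]
      rfl)
    simp [this]
  set ν := μ * δ⁻¹ with hν
  have hνI := pow_index_eq_one ν hνN
  obtain ⟨k, hk⟩ := exists_pow_eq_self_of_coprime (x := ν) (n := d)
    (hcop.symm.coprime_dvd_right (orderOf_dvd_of_pow_eq_one hνI))
  set l := ν ^ k with hl
  refine ⟨fun g => (l g : ℂ) * η g, IsIrr.mul_linear hη l, fun m => ?_, ?_⟩
  · show (l (m : G) : ℂ) * η m = θ m
    rw [hres, hl, MonoidHom.pow_apply, hνN, one_pow, Units.val_one, one_mul]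
  · rw [detChar_mul_linear hη hη1 l, hδ]
    funext g
    show (l g : ℂ) ^ d * (δ g : ℂ) = _
    rw [← Units.val_pow_eq_pow_val, ← MonoidHom.pow_apply, hl, ← pow_mul, mul_comm k d, pow_mul, hk,
      hν, ← Units.val_mul, MonoidHom.mul_apply, MonoidHom.inv_apply, inv_mul_cancel_right]

/-- Ratio of degrees. -/
theorem ratio_dvd_index' [Fintype G] [Fintype N] {χ : G → ℂ} (hχ : IsIrrCharacter G χ)
    {θ : N → ℂ} (hθ : IsIrrCharacter N θ) (hne : classInner (fun m : N => χ m) θ ≠ 0) :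
    ∃ e : ℕ, χ 1 = (e : ℂ) * θ 1 ∧ e ∣ N.index := by
  classical
  set T := inertia N θ with hT
  have hNT : N ≤ T := le_inertia N (IsIrr.classFun hθ)
  obtain ⟨ψ, hψ, hind, hin⟩ := Corr.exists_correspondent N hθ hT hNT hχ hne
  haveI : (N.subgroupOf T).Normal := Subgroup.Normal.subgroupOf inferInstance _
  haveI : Fintype (N.subgroupOf T) := Fintype.ofFinite _
  have hθT : IsIrrCharacter (N.subgroupOf T)
      (fun x : N.subgroupOf T => θ ⟨((x : T) : G), x.2⟩) :=
    IsIrr.comp_mulEquiv (Subgroup.subgroupOfEquivOfLe hNT) hθ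
  obtain ⟨k, ρ, hρ, hρc, hk, -⟩ := IsIrr.exists_rep hθT
  haveI := hρ
  obtain ⟨e, he, hed⟩ := ratio_dvd_index (N.subgroupOf T) ρ (fun t m => by
      rw [hρc, conjEquivN_apply]
      have h := congrFun ((mem_inertia N).mp t.2) ⟨((m : T) : G), m.2⟩
      simpa [conjN] using h) (χ := ψ) hψ (by
      rw [hρc]
      rw [← hin] at hne
      rw [← Corr.classInner_subgroupOf N hNT] at hne
      exact hne)
  refine ⟨T.index * e, ?_, ?_⟩
  · have hk' : θ 1 = (k : ℂ) := hk
    rw [← hind, indFun_one_eq, he, hk']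
    push_cast
    ring
  · rw [← Subgroup.relIndex_mul_index hNT, mul_comm]
    exact Nat.mul_dvd_mul_right hed _

end Cfsg.Agent.Char.Ext
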