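import Cfsg.Prelude.Def_CharExt
import Cfsg.Agent.Lib.Char.Average

/-!
Irreducibility from the character, and determinantal characters.
-/

namespace Cfsg.Agent.Char

open scoped ComplexConjugate
open Cfsg Module

universe u v w

variable {G : Type u} [Group G]

/-- A representation with an irreducible character is irreducible. -/
theorem irreducible_of_character [Finite G] {V : Type v} [AddCommGroup V] [Module ℂ V]
    [FiniteDimensional ℂ V] (ρ : Representation ℂ G V) (h : IsIrrCharacter G ρ.character) :
    ρ.IsIrreducible := by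
  classical
  haveI := Fintype.ofFinite G
  rcases exists_split ρ with h0 | hirr | ⟨S, T, hc, hS, hT, hchar⟩
  · exact absurd (by rw [Representation.char_one, h0, Nat.cast_zero]) (IsIrr.one_ne_zero h)
  · exact hirr
  exfalso
  have hsum := Submodule.finrank_add_eq_of_isCompl hc
  have key : ∀ (ψ : G → ℂ) (k : ℕ), IsCharacter G ψ → ψ 1 = k → k < finrank ℂ V →
      classInner ψ ρ.character = 0 := by
    intro ψ k hψ h1 hlt
    obtain ⟨a, ha, hd⟩ := IsChar.exists_decomp_inner hψ
    by_contra hne
    have e := congrFun hd 1
    rw [sum_irr_apply, h1] at e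
    choose d hd0 hd' using fun φ : IrrCharacter G => IsIrr.one_eq_pos φ.2
    simp only [hd'] at e
    rw_mod_cast [← Finset.add_sum_erase _ _ (Finset.mem_univ (⟨_, h⟩ : IrrCharacter G))] at e
    have ha0 : a ⟨_, h⟩ ≠ 0 := fun h0 => hne (by rw [ha ⟨_, h⟩, h0, Nat.cast_zero])
    have hdv : d ⟨_, h⟩ = finrank ℂ V := by
      have := (hd' ⟨_, h⟩).symm.trans (Representation.char_one ρ)
      exact_mod_cast this
    have := Nat.le_mul_of_pos_left (d ⟨_, h⟩) (Nat.pos_of_ne_zero ha0)
    omega
  have h1 := classInner_self_irr h
  conv_lhs at h1 => arg 1; rw [hchar]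
  rw [classInner_add_left,
    key _ _ (isCharacter_character S.toRepresentation) (Representation.char_one _) hS,
    key _ _ (isCharacter_character T.toRepresentation) (Representation.char_one _) hT,
    add_zero] at h1
  exact zero_ne_one h1

/-- Precomposition with a surjection keeps irreducibility. -/
theorem irreducible_comp_surjective {Q : Type w} [Group Q] [Finite G] [Finite Q] {V : Type v}
    [AddCommGroup V] [Module ℂ V] [FiniteDimensional ℂ V] (ρ : Representation ℂ Q V)
    [ρ.IsIrreducible] (φ : G →* Q) (hφ : Function.Surjective φ) :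
    Representation.IsIrreducible (ρ.comp φ : Representation ℂ G V) := by
  refine irreducible_of_character _ ?_
  exact IsIrr.comp_surjective φ hφ (isIrrCharacter_character ρ)

variable [Finite G]

/-- The determinantal character, computed from any representation. -/
theorem detChar_eq {V : Type v} [AddCommGroup V] [Module ℂ V] [FiniteDimensional ℂ V]
    (ρ : Representation ℂ G V) [hρ : ρ.IsIrreducible] (g : G) :
    detChar ρ.character g = LinearMap.det (ρ g) := by
  have h : IsCharacter G ρ.character := isCharacter_character ρ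
  unfold detChar
  rw [dif_pos h]
  set σ := Classical.choose (Classical.choose_spec h) with hσdef
  have hσ : σ.character = ρ.character := Classical.choose_spec (Classical.choose_spec h)
  haveI : σ.IsIrreducible := irreducible_of_character σ (by rw [hσ]; exact isIrrCharacter_character ρ)
  haveI := Fintype.ofFinite G
  obtain ⟨φ⟩ := isIrrCharacter_equiv_of_eq ρ σ hσ.symm
  show LinearMap.det (σ g) = _
  rw [← Representation.Equiv.conj_apply_self g φ, LinearEquiv.conj_apply,
    LinearMap.comp_assoc, LinearMap.det_conj]

/-- The determinant of a representation as a homomorphism to the units. -/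
noncomputable def detUnits {V : Type v} [AddCommGroup V] [Module ℂ V]
    (ρ : Representation ℂ G V) : G →* ℂˣ :=
  (LinearMap.det.comp ρ).toHomUnits

omit [Finite G] in
theorem detUnits_apply {V : Type v} [AddCommGroup V] [Module ℂ V]
    (ρ : Representation ℂ G V) (g : G) : (detUnits ρ g : ℂ) = LinearMap.det (ρ g) := rfl

/-- An irreducible character comes with a representation. -/
theorem IsIrr.exists_rep {χ : G → ℂ} (h : IsIrrCharacter G χ) :
    ∃ (n : ℕ) (ρ : Representation ℂ G (Fin n → ℂ)), ρ.IsIrreducible ∧ ρ.character = χ ∧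
      χ 1 = n ∧ ∀ g, detChar χ g = (detUnits ρ g : ℂ) := by
  obtain ⟨n, ρ, hρ, rfl⟩ := h
  haveI := hρ
  exact ⟨n, ρ, hρ, rfl, by rw [Representation.char_one, Module.finrank_fin_fun],
    fun g => detChar_eq ρ g⟩

theorem isCharacter_detChar {χ : G → ℂ} (h : IsIrrCharacter G χ) :
    ∃ l : G →* ℂˣ, detChar χ = fun g => (l g : ℂ) := by
  obtain ⟨n, ρ, -, -, -, hd⟩ := IsIrr.exists_rep h
  exact ⟨detUnits ρ, funext hd⟩

theorem detChar_linear (l : G →* ℂˣ) :
    detChar (fun g => (l g : ℂ)) = fun g => (l g : ℂ) := by
  haveI : (linRep l).IsIrreducible := irreducible_of_character _ (by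
    have e : (linRep l).character = fun g => (l g : ℂ) := funext fun g => by
      rw [Representation.character, linRep]
      simp
    exact e ▸ isIrr_linear l)
  have e : (linRep l).character = fun g => (l g : ℂ) := funext fun g => by
    rw [Representation.character, linRep]
    simp
  funext g
  conv_lhs => rw [← e, detChar_eq (linRep l) g]
  simp [linRep, LinearMap.det_smul]

theorem detChar_mul_linear {χ : G → ℂ} (h : IsIrrCharacter G χ) {d : ℕ} (hd : χ 1 = d)
    (l : G →* ℂˣ) :
    detChar (fun g => (l g : ℂ) * χ g) = fun g => (l g : ℂ) ^ d * detChar χ g := by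
  obtain ⟨n, ρ, hρ, rfl, hn, hdet⟩ := IsIrr.exists_rep h
  have hnd : n = d := by exact_mod_cast hn.symm.trans hd
  subst hnd
  let σ : Representation ℂ G (Fin n → ℂ) :=
    { toFun := fun g => (l g : ℂ) • ρ g
      map_one' := by simp
      map_mul' := fun a b => by
        simp only [map_mul, Units.val_mul, smul_mul_assoc, mul_smul_comm, smul_smul, mul_comm] }
  have hσ : σ.character = fun g => (l g : ℂ) * ρ.character g := funext fun g => by
    show LinearMap.trace ℂ _ ((l g : ℂ) • ρ g) = _
    rw [map_smul, smul_eq_mul]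
    rfl
  haveI : σ.IsIrreducible := irreducible_of_character σ (hσ ▸ IsIrr.mul_linear h l)
  funext g
  rw [← hσ, detChar_eq σ g, hdet g, detUnits_apply]
  show LinearMap.det ((l g : ℂ) • ρ g) = _
  rw [LinearMap.det_smul, Module.finrank_fin_fun]

/-- Determinant commutes with restriction to an irreducible restriction. -/
theorem detChar_comp {H : Type w} [Group H] [Finite H] {χ : G → ℂ} (h : IsIrrCharacter G χ)
    (φ : H →* G) {θ : H → ℂ} (hθ : IsIrrCharacter H θ) (hres : ∀ x, χ (φ x) = θ x) (x : H) :
    detChar θ x = detChar χ (φ x) := by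
  obtain ⟨n, ρ, hρ, rfl, -, hdet⟩ := IsIrr.exists_rep h
  let σ : Representation ℂ H (Fin n → ℂ) := MonoidHom.comp ρ φ
  have e : σ.character = θ := funext hres
  haveI : σ.IsIrreducible := irreducible_of_character _ (e.symm ▸ hθ)
  rw [← e, detChar_eq σ x, hdet, detUnits_apply]
  rfl

/-- Degree one characters as homomorphisms, preserving the order. -/
def unitsFun : (G →* ℂˣ) →* (G → ℂ) where
  toFun l g := (l g : ℂ)
  map_one' := by funext g; simp
  map_mul' a b := by funext g; simp

omit [Finite G] in
theorem orderOf_unitsFun (l : G →* ℂˣ) : orderOf (fun g => (l g : ℂ)) = orderOf l :=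
  orderOf_injective unitsFun
    (fun _ _ h => MonoidHom.ext fun g => Units.ext (congrFun h g)) l

theorem orderOf_linear_ne_zero (l : G →* ℂˣ) : orderOf l ≠ 0 := by
  refine (orderOf_pos_iff.mpr ?_).ne'
  rw [isOfFinOrder_iff_pow_eq_one]
  exact ⟨Nat.card G, Nat.card_pos, MonoidHom.ext fun g => by
    rw [MonoidHom.pow_apply, ← map_pow, pow_card_eq_one', map_one, MonoidHom.one_apply]⟩

theorem pow_index_eq_one {N : Subgroup G} [N.Normal] (l : G →* ℂˣ) (hN : ∀ n : N, l n = 1) :
    l ^ N.index = 1 := MonoidHom.ext fun g => by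
  rw [MonoidHom.pow_apply, ← map_pow, MonoidHom.one_apply]
  exact hN ⟨_, N.pow_index_mem g⟩

end Cfsg.Agent.Char
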