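import Mathlib
import Cfsg.Prelude.Def_Characters

/-!
Linear maps of finite order on complex vector spaces: eigenbasis with roots of unity,
trace of powers, size of the trace.
-/

namespace Cfsg.Agent.Char

open scoped ComplexConjugate
open Module

variable {V : Type*} [AddCommGroup V] [Module ℂ V] [FiniteDimensional ℂ V]

theorem exists_eigenbasis (f : V →ₗ[ℂ] V) {N : ℕ} (hN : 0 < N) (hf : f ^ N = 1) :
    ∃ (b : Basis (Fin (finrank ℂ V)) ℂ V) (c : Fin (finrank ℂ V) → ℂ),
      (∀ i, f (b i) = c i • b i) ∧ ∀ i, c i ^ N = 1 := by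
  classical
  have hsq : Squarefree (Polynomial.X ^ N - 1 : Polynomial ℂ) :=
    (Polynomial.separable_X_pow_sub_C (1 : ℂ) (by exact_mod_cast hN.ne') one_ne_zero).squarefree
      |> fun h => by simpa using h
  have hss : Module.End.IsSemisimple f :=
    Module.End.isSemisimple_of_squarefree_aeval_eq_zero hsq (by simp [hf])
  have hfs := Module.End.isFinitelySemisimple_iff_isSemisimple.mpr hss
  have htop : ⨆ μ : ℂ, Module.End.eigenspace f μ = ⊤ := by
    rw [← Module.End.iSup_maxGenEigenspace_eq_top f]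
    exact iSup_congr fun μ => (hfs.maxGenEigenspace_eq_eigenspace μ).symm
  have hint : DirectSum.IsInternal (fun μ : ℂ => Module.End.eigenspace f μ) := by
    rw [DirectSum.isInternal_submodule_iff_iSupIndep_and_iSup_eq_top]
    exact ⟨Module.End.eigenspaces_iSupIndep f, htop⟩
  let B : Basis _ ℂ V := hint.collectedBasis fun μ => Basis.ofVectorSpace ℂ _
  have : Finite (Σ μ : ℂ, Basis.ofVectorSpaceIndex ℂ (Module.End.eigenspace f μ)) :=
    Module.Finite.finite_basis B
  have : Fintype (Σ μ : ℂ, Basis.ofVectorSpaceIndex ℂ (Module.End.eigenspace f μ)) :=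
    Fintype.ofFinite _
  let e := Fintype.equivFinOfCardEq (Module.finrank_eq_card_basis B).symm
  have hB : ∀ a, f (B a) = a.1 • B a := fun a =>
    Module.End.mem_eigenspace_iff.mp (hint.collectedBasis_mem _ a)
  refine ⟨B.reindex e, fun i => (e.symm i).1, fun i => by simp [hB], fun i => ?_⟩
  have h1 : ∀ k : ℕ, (f ^ k) (B (e.symm i)) = (e.symm i).1 ^ k • B (e.symm i) := by
    intro k
    induction k with
    | zero => simp
    | succ k ih => rw [pow_succ', Module.End.mul_apply, ih, map_smul, hB, smul_smul, ← pow_succ]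
  have h2 := h1 N
  rw [hf, Module.End.one_apply] at h2
  have h3 : ((e.symm i).1 ^ N - 1) • B (e.symm i) = 0 := by rw [sub_smul, one_smul, ← h2, sub_self]
  exact sub_eq_zero.mp ((smul_eq_zero.mp h3).resolve_right (B.ne_zero _))

theorem trace_of_eigenbasis {ι : Type*} [Fintype ι] (f : V →ₗ[ℂ] V) (b : Basis ι ℂ V) (c : ι → ℂ)
    (h : ∀ i, f (b i) = c i • b i) : LinearMap.trace ℂ V f = ∑ i, c i := by
  classical
  rw [LinearMap.trace_eq_matrix_trace ℂ b, Matrix.trace]
  refine Finset.sum_congr rfl fun i _ => ?_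
  simp [LinearMap.toMatrix_apply, h]

theorem apply_pow_of_eigen {f : V →ₗ[ℂ] V} {v : V} {c : ℂ} (h : f v = c • v) (k : ℕ) :
    (f ^ k) v = c ^ k • v := by
  induction k with
  | zero => simp
  | succ k ih => rw [pow_succ', Module.End.mul_apply, ih, map_smul, h, smul_smul, ← pow_succ]

theorem norm_eq_one_of_pow_eq_one' {c : ℂ} {N : ℕ} (hN : 0 < N) (h : c ^ N = 1) : ‖c‖ = 1 :=
  Complex.norm_eq_one_of_pow_eq_one h hN.ne'

theorem conj_eq_pow_pred {c : ℂ} {N : ℕ} (hN : 0 < N) (h : c ^ N = 1) : conj c = c ^ (N - 1) := by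
  have h1 : c * c ^ (N - 1) = 1 := by rw [← pow_succ', Nat.sub_add_cancel hN, h]
  have h2 : c * conj c = 1 := by
    rw [Complex.mul_conj, Complex.normSq_eq_norm_sq, norm_eq_one_of_pow_eq_one' hN h]
    simp
  exact mul_left_cancel₀ (left_ne_zero_of_mul_eq_one h1) (h2.trans h1.symm)

theorem isIntegral_of_pow_eq_one {c : ℂ} {N : ℕ} (hN : 0 < N) (h : c ^ N = 1) : IsIntegral ℤ c :=
  IsIntegral.of_pow hN (h ▸ isIntegral_one)

/-- A trace of a finite-order map has norm at most the dimension. -/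
theorem norm_trace_le (f : V →ₗ[ℂ] V) {N : ℕ} (hN : 0 < N) (hf : f ^ N = 1) :
    ‖LinearMap.trace ℂ V f‖ ≤ (finrank ℂ V : ℝ) := by
  obtain ⟨b, c, hb, hc⟩ := exists_eigenbasis f hN hf
  rw [trace_of_eigenbasis f b c hb]
  refine (norm_sum_le _ _).trans ?_
  simp [norm_eq_one_of_pow_eq_one' hN (hc _)]

/-- Sum of unit complex numbers with sum of maximal norm: all equal. -/
theorem eq_of_norm_sum_eq_card {n : ℕ} (c : Fin n → ℂ) (hc : ∀ i, ‖c i‖ = 1)
    (h : ‖∑ i, c i‖ = (n : ℝ)) (i : Fin n) : (n : ℂ) * c i = ∑ j, c j := by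
  set S := ∑ j, c j
  have hsum : ∑ j, ‖(n : ℂ) * c j - S‖ ^ 2 = 0 := by
    have e : ∀ j, ‖(n : ℂ) * c j - S‖ ^ 2 = (n : ℝ) ^ 2 + (n : ℝ) ^ 2 - 2 * n * (c j * conj S).re := by
      intro j
      rw [← Complex.normSq_eq_norm_sq, Complex.normSq_sub, Complex.normSq_mul,
        Complex.normSq_natCast, Complex.normSq_eq_norm_sq, Complex.normSq_eq_norm_sq, hc, h,
        mul_assoc (n : ℂ), ← Complex.ofReal_natCast, Complex.re_ofReal_mul]
      ring
    simp only [e, Finset.sum_sub_distrib, Finset.sum_const, Finset.card_univ, Fintype.card_fin,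
      nsmul_eq_mul, ← Finset.mul_sum, ← Complex.re_sum, ← Finset.sum_mul]
    rw [Complex.mul_conj, Complex.ofReal_re, Complex.normSq_eq_norm_sq, h]
    ring
  have := (Finset.sum_eq_zero_iff_of_nonneg fun j _ => sq_nonneg _).mp hsum i (Finset.mem_univ _)
  exact sub_eq_zero.mp (norm_eq_zero.mp ((pow_eq_zero_iff two_ne_zero).mp this))

/-- Maximal norm of the trace forces a scalar. -/
theorem eq_smul_of_norm_trace_eq (f : V →ₗ[ℂ] V) {N : ℕ} (hN : 0 < N) (hf : f ^ N = 1)
    (h : ‖LinearMap.trace ℂ V f‖ = (finrank ℂ V : ℝ)) :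
    ∃ ω : ℂ, f = ω • LinearMap.id := by
  obtain ⟨b, c, hb, hc⟩ := exists_eigenbasis f hN hf
  rw [trace_of_eigenbasis f b c hb] at h
  refine ⟨(∑ j, c j) / (finrank ℂ V : ℂ), b.ext fun i => ?_⟩
  have hn : (finrank ℂ V : ℂ) ≠ 0 := Nat.cast_ne_zero.mpr (Fin.pos i).ne'
  rw [hb i, ← eq_of_norm_sum_eq_card c (fun j => norm_eq_one_of_pow_eq_one' hN (hc j)) h i]
  simp [mul_div_cancel_left₀ _ hn]

theorem eq_one_of_trace_eq (f : V →ₗ[ℂ] V) {N : ℕ} (hN : 0 < N) (hf : f ^ N = 1)
    (h : LinearMap.trace ℂ V f = (finrank ℂ V : ℂ)) : f = LinearMap.id := by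
  obtain ⟨ω, rfl⟩ := eq_smul_of_norm_trace_eq f hN hf (by rw [h, Complex.norm_natCast])
  rcases Nat.eq_zero_or_pos (finrank ℂ V) with h0 | h0
  · have := Module.finrank_zero_iff.mp h0
    exact Subsingleton.elim _ _
  · rw [map_smul, LinearMap.trace_id, smul_eq_mul] at h
    have : ω = 1 := (mul_eq_right₀ (Nat.cast_ne_zero.mpr h0.ne')).mp h
    rw [this, one_smul]

end Cfsg.Agent.Char
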