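import Cfsg.Agent.Lib.Char.DefectOneValues

/-!
Blocks with a Sylow subgroup of order `p`: elementary consequences of the structure.
-/

namespace Cfsg.Agent.Char.DefectOne

open Cfsg Cfsg.Agent.Block Cfsg.Agent.Char.BP Cfsg.Agent.Char.Spec

set_option linter.unusedSectionVars false

universe u

variable {G : Type u} [Group G] [Fintype G] {p : ℕ} [hp : Fact p.Prime] {M : Ideal AlgInt}
  {P : Subgroup G} {b : Set (IrrCharacter (CG P))} {θ : IrrCharacter (CG P)}
  {B : Set (IrrCharacter G)} {T : Subgroup G} {u₀ : G} {R : Subgroup (ZMod p)ˣ}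
  {X : Finset (IrrCharacter G)} {y : (ZMod p)ˣ ⧸ R → IrrCharacter G} {c : IrrCharacter G → ℤ}
  {ε : ℤ}

theorem cg_le_T (hθ : θ ∈ b)
    (hT : ∀ g : G, g ∈ T ↔ (g ∈ Subgroup.normalizer (P : Set G) ∧ ∀ c c' : CG P,
      (c' : G) = g * c * g⁻¹ → (θ : CG P → ℂ) c' = (θ : CG P → ℂ) c)) : CG P ≤ T :=
  fun c hc => (hT c).2 ⟨Subgroup.centralizer_le_normalizer _ hc, fun d d' h => by
    have h' : d' = (⟨c, hc⟩ : CG P) * d * (⟨c, hc⟩ : CG P)⁻¹ := Subtype.ext h
    rw [h', irr_classFun θ d]⟩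

/-- The numbers of the members. -/
theorem counts (hD : Data M P B b θ T u₀ R X y c ε) :
    Nat.card B = (CG P).relIndex T + (p - 1) / (CG P).relIndex T ∧
      (CG P).relIndex T ∣ p - 1 ∧
      Nat.card (Set.range y) = (p - 1) / (CG P).relIndex T := by
  classical
  letI : Fintype ((ZMod p)ˣ ⧸ R) := Fintype.ofFinite _
  have hu : Nat.card (ZMod p)ˣ = p - 1 := by
    rw [Nat.card_eq_fintype_card, ZMod.card_units]
  have hmul := R.card_eq_card_quotient_mul_card_subgroup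
  rw [hu, hD.card_R] at hmul
  have hpos : 0 < (CG P).relIndex T := hD.card_R ▸ Nat.card_pos
  have hrange : Nat.card (Set.range y) = (p - 1) / (CG P).relIndex T := by
    rw [Nat.card_range_of_injective hD.y_inj, hmul, Nat.mul_div_cancel _ hpos]
  refine ⟨?_, Dvd.intro_left _ hmul.symm, hrange⟩
  have hB : B = (X : Set (IrrCharacter G)) ∪ Set.range y := by
    ext χ
    simp [hD.mem_iff χ]
  have hdisj : Disjoint (X : Set (IrrCharacter G)) (Set.range y) := by
    rw [Set.disjoint_right]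
    rintro _ ⟨q, rfl⟩ h
    exact hD.disj q h
  rw [hB, Nat.card_coe_set_eq, Set.ncard_union_eq hdisj, Set.ncard_coe_finset, hD.card_X,
    ← Nat.card_coe_set_eq, hrange]

theorem Y_agree (hD : Data M P B b θ T u₀ R X y c ε) :
    ∀ ψ ∈ Set.range y, ∀ ψ' ∈ Set.range y, ∀ g : G, ¬ p ∣ orderOf g →
      (ψ : G → ℂ) g = (ψ' : G → ℂ) g := by
  rintro _ ⟨q, rfl⟩ _ ⟨q', rfl⟩ g hg
  have h1 := hD.regular q g hg
  have h2 := hD.regular q' g hg
  have h3 : (ε : ℂ) * (y q : G → ℂ) g = (ε : ℂ) * (y q' : G → ℂ) g :=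
    add_left_cancel (h1.trans h2.symm)
  refine mul_left_cancel₀ (Int.cast_ne_zero.2 ?_) h3
  rcases hD.ε_sign with h | h <;> rw [h] <;> decide

end Cfsg.Agent.Char.DefectOne
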