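import Cfsg.Agent.Lib.Char.PairLE

/-!
Maximal Brauer pairs: their subgroups are defect groups and they are conjugate.
-/

namespace Cfsg.Agent.Char.BP

open Cfsg.Agent.Block

set_option linter.unusedSectionVars false
set_option linter.style.haveILetI false

universe u

variable {G : Type u} [Group G] [Fintype G] {p : ℕ} {M : Ideal AlgInt}

/-- A pair of a given block, on the index type. -/
abbrev OfB (p : ℕ) (M : Ideal AlgInt) (B : Set (IrrCharacter G)) (x : BrauerPairIdx G) : Prop :=
  IsBrauerPairOf p M B x.1 x.2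

/-- A maximal pair of a given block, on the index type. -/
abbrev IsMx (p : ℕ) (M : Ideal AlgInt) (B : Set (IrrCharacter G)) (x : BrauerPairIdx G) : Prop :=
  IsMaximalBrauerPair p M B x.1 x.2

theorem blockCoeff_idem (hM : IsPModular p M) {B : Set (IrrCharacter G)} (hB : IsPBlock M B) :
    Idem M (blockCoeff B) :=
  ⟨blockCoeff_ring hM hB, convFun_blockCoeff B⟩

theorem ofB_holds {B : Set (IrrCharacter G)} {x : BrauerPairIdx G} (h : OfB p M B x) :
    Holds M x (blockCoeff B) := h.2.2

theorem ofB_of_holds {B : Set (IrrCharacter G)} (hB : IsPBlock M B) {x : BrauerPairIdx G}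
    (hx : IsPr p M x) (h : Holds M x (blockCoeff B)) : OfB p M B x := ⟨hx, hB, h⟩

theorem ofB_step (hM : IsPModular p M) {B : Set (IrrCharacter G)} {x y : BrauerPairIdx G}
    (h : Step p M x y) : OfB p M B y ↔ OfB p M B x := by
  constructor
  · intro hy
    exact ofB_of_holds hy.2.1 h.1 ((holds_step hM h (blockCoeff_idem hM hy.2.1)
      (inv_of_classFun (blockCoeff_classFun B) _)
      (inv_of_classFun (blockCoeff_classFun B) _)).1 hy.2.2)
  · intro hx
    exact ofB_of_holds hx.2.1 h.2.1 ((holds_step hM h (blockCoeff_idem hM hx.2.1)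
      (inv_of_classFun (blockCoeff_classFun B) _)
      (inv_of_classFun (blockCoeff_classFun B) _)).2 hx.2.2)

theorem ofB_le (hM : IsPModular p M) {B : Set (IrrCharacter G)} {x y : BrauerPairIdx G}
    (h : LE p M x y) : OfB p M B y ↔ OfB p M B x := by
  induction h with
  | refl => exact Iff.rfl
  | tail _ hst ih => exact (ofB_step hM hst).trans ih

theorem ofB_cjI (hM : IsPModular p M) {B : Set (IrrCharacter G)} {x : BrauerPairIdx G}
    (h : OfB p M B x) (g : G) : OfB p M B (cjI g x) :=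
  ofB_of_holds h.2.1 (isPr_cjI hM g h.1)
    ((holds_cjI_classFun g x (blockCoeff_classFun B)).2 h.2.2)

/-- Pairs of a block at a subgroup exist exactly when the Brauer image does not vanish. -/
theorem exists_pair_iff (hM : IsPModular p M) {B : Set (IrrCharacter G)} (hB : IsPBlock M B)
    {Q : Subgroup G} (hQ : IsPGroup p Q) :
    (∃ f, OfB p M B (⟨Q, f⟩ : BrauerPairIdx G)) ↔ ¬ BrZero M Q (blockInd B) := by
  constructor
  · rintro ⟨f, hf⟩ h0
    obtain ⟨c, hc, hne⟩ := holds_coeff hM (x := ⟨Q, f⟩) hf.1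
      (inv_of_classFun (blockCoeff_classFun B) _) hf.2.2
    exact hne (by rw [blockCoeff_eq]; exact h0 c hc)
  · intro h
    rw [BrZero] at h
    push Not at h
    obtain ⟨c, hc, hne⟩ := h
    obtain ⟨f, hf, hH⟩ := exists_holds hM hQ (blockCoeff_idem hM hB)
      (inv_of_classFun (blockCoeff_classFun B) _) (inv_of_classFun (blockCoeff_classFun B) _)
      ⟨c, hc, by rwa [blockCoeff_eq]⟩
    exact ⟨f, ofB_of_holds hB ⟨hQ, hf⟩ hH⟩

theorem conj_le_defect (hM : IsPModular p M) {B : Set (IrrCharacter G)} {x : BrauerPairIdx G}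
    (h : OfB p M B x) {D : Subgroup G} (hD : IsDefectGroup p M B D) :
    ∃ g : G, x.1.map (MulAut.conj g).toMonoidHom ≤ D :=
  (not_brZero_iff hM h.2.1 hD h.1.1).1 ((exists_pair_iff hM h.2.1 h.1.1).1 ⟨x.2, h⟩)

theorem max_of_defect (hM : IsPModular p M) {B : Set (IrrCharacter G)} {x : BrauerPairIdx G}
    (h : OfB p M B x) (hD : IsDefectGroup p M B x.1) : IsMx p M B x := by
  refine ⟨h, fun R g hR hle => ?_⟩
  obtain ⟨y, hy⟩ := conj_le_defect hM (x := ⟨R, g⟩) hR hD
  have h1 := Subgroup.card_le_of_le hy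
  rw [card_map_conj] at h1
  exact (Subgroup.eq_of_le_of_card_ge (le_subgroup hle) h1).symm

theorem first_step (hM : IsPModular p M) {x y : BrauerPairIdx G} (h : LE p M x y)
    (hne : x.1 ≠ y.1) : ∃ z, Step p M x z ∧ x.1 < z.1 ∧ LE p M z y := by
  induction h using Relation.ReflTransGen.head_induction_on with
  | refl => exact absurd rfl hne
  | @head a b hab hbc ih =>
    by_cases hsub : a.1 = b.1
    · obtain rfl := step_unique hM hab (step_refl hM hab.2.1) hsub
      exact ih hne
    · exact ⟨b, hab, lt_of_le_of_ne hab.2.2.1 hsub, hbc⟩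

/-- No proper `p`-overgroup in the normalizer fixes the function and sees it. -/
def NoExt (p : ℕ) (M : Ideal AlgInt) (P : Subgroup G) (φ : G → ℂ) : Prop :=
  ∀ R : Subgroup G, IsPGroup p R → P ≤ R → R ≤ Subgroup.normalizer (P : Set G) → Inv R φ →
    (∃ c ∈ CG R, ¬ MemLocalIdeal M (φ c)) → R = P

theorem max_iff (hM : IsPModular p M) {B : Set (IrrCharacter G)} {x : BrauerPairIdx G}
    (h : OfB p M B x) : IsMx p M B x ↔ NoExt p M x.1 (be x) := by
  constructor
  · intro hmax R hR hle hN hi hne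
    have hC : CG R ≤ CG x.1 := Subgroup.centralizer_le hle
    obtain ⟨g, hg, hH⟩ := exists_holds hM hR (be_idem hM h.1) hi ((be_inv_cg x).mono hC) hne
    have hst : Step p M x ⟨R, g⟩ := (step_iff hM).2 ⟨h.1, ⟨hR, hg⟩, hle, hN, hi, hH⟩
    exact hmax.2 R g ((ofB_step hM hst).2 h) (Relation.ReflTransGen.single hst)
  · intro hno
    refine ⟨h, fun R g _ hle => ?_⟩
    by_contra hne
    obtain ⟨z, hz, hlt, -⟩ := first_step hM (x := x) (y := ⟨R, g⟩) hle (Ne.symm hne)
    obtain ⟨-, hzp, hxz, hN, hi, hH⟩ := (step_iff hM).1 hz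
    exact hlt.ne (hno z.1 hzp.1 hxz hN hi (holds_coeff hM hzp
      ((be_inv_cg x).mono (Subgroup.centralizer_le hxz)) hH)).symm

theorem isMx_cjI (hM : IsPModular p M) {B : Set (IrrCharacter G)} {x : BrauerPairIdx G}
    (h : IsMx p M B x) (g : G) : IsMx p M B (cjI g x) := by
  refine ⟨ofB_cjI hM h.1 g, fun R f hR hle => ?_⟩
  have h1 := le_cjI hM g⁻¹ (a := cjI g x) (b := ⟨R, f⟩) hle
  rw [cjI_inv_cancel] at h1
  have h2 := h.2 (cjI g⁻¹ ⟨R, f⟩).1 (cjI g⁻¹ ⟨R, f⟩).2 (ofB_cjI hM (x := ⟨R, f⟩) hR g⁻¹) h1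
  show R = x.1.map (MulAut.conj g).toMonoidHom
  rw [← h2]
  show R = (R.map (MulAut.conj g⁻¹).toMonoidHom).map (MulAut.conj g).toMonoidHom
  rw [map_conj_conj, mul_inv_cancel, map_conj_one]

theorem exists_max_above (hM : IsPModular p M) {B : Set (IrrCharacter G)} {x : BrauerPairIdx G}
    (h : OfB p M B x) : ∃ y, LE p M x y ∧ IsMx p M B y := by
  suffices H : ∀ n, ∀ x : BrauerPairIdx G, Nat.card G - Nat.card x.1 ≤ n → OfB p M B x →
      ∃ y, LE p M x y ∧ IsMx p M B y from H _ x le_rfl h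
  intro n
  induction n with
  | zero =>
    intro x hn hx
    refine ⟨x, Relation.ReflTransGen.refl, hx, fun R g _ hle => ?_⟩
    have h1 := Subgroup.card_le_card_group R
    have hle' : x.1 ≤ R := le_subgroup hle
    exact (Subgroup.eq_of_le_of_card_ge hle' (by omega)).symm
  | succ n ih =>
    intro x hn hx
    by_cases hmax : IsMx p M B x
    · exact ⟨x, Relation.ReflTransGen.refl, hmax⟩
    rw [IsMx, IsMaximalBrauerPair] at hmax
    push Not at hmax
    obtain ⟨R, g, hR, hle, hne⟩ := hmax hx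
    have hle' : x.1 ≤ R := le_subgroup hle
    have hlt : Nat.card x.1 < Nat.card R := by
      by_contra hh
      exact hne (Subgroup.eq_of_le_of_card_ge hle' (by omega)).symm
    obtain ⟨y, hy, hy'⟩ := ih ⟨R, g⟩ (by
      show Nat.card G - Nat.card R ≤ n
      omega) hR
    exact ⟨y, Relation.ReflTransGen.trans hle hy, hy'⟩

/-! ### The orbit of a pair under the normalizer -/

/-- The distinct conjugates of a function by the elements of a subgroup. -/
noncomputable def orb (N : Subgroup G) (φ : G → ℂ) : Finset (G → ℂ) :=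
  (Set.toFinite ((fun n => cfun n φ) '' (N : Set G))).toFinset

theorem mem_orb {N : Subgroup G} {φ ψ : G → ℂ} :
    ψ ∈ orb N φ ↔ ∃ n ∈ N, cfun n φ = ψ := by
  simp [orb]

/-- The sum of the distinct conjugates. -/
noncomputable def orbSum (N : Subgroup G) (φ : G → ℂ) : G → ℂ :=
  fun g => ∑ ψ ∈ orb N φ, ψ g

theorem orb_closed {N : Subgroup G} {φ ψ : G → ℂ} {u : G} (hu : u ∈ N) (h : ψ ∈ orb N φ) :
    cfun u ψ ∈ orb N φ := by
  obtain ⟨n, hn, rfl⟩ := mem_orb.1 h
  exact mem_orb.2 ⟨u * n, mul_mem hu hn, (cfun_mul u n φ).symm⟩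

theorem self_mem_orb (N : Subgroup G) (φ : G → ℂ) : φ ∈ orb N φ :=
  mem_orb.2 ⟨1, one_mem N, cfun_one φ⟩

theorem orbSum_inv (N : Subgroup G) (φ : G → ℂ) : Inv N (orbSum N φ) := by
  refine inv_iff_cfun.2 fun u hu => funext fun g => ?_
  show ∑ ψ ∈ orb N φ, cfun u ψ g = ∑ ψ ∈ orb N φ, ψ g
  refine Finset.sum_bij (fun ψ _ => cfun u ψ) (fun ψ h => orb_closed hu h) ?_ ?_ fun ψ _ => rfl
  · intro ψ _ ψ' _ h
    have := congrArg (cfun u⁻¹) h
    simpa [cfun_mul, cfun_one] using this
  · intro ψ h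
    exact ⟨cfun u⁻¹ ψ, orb_closed (inv_mem hu) h, by rw [cfun_mul, mul_inv_cancel, cfun_one]⟩

theorem orb_pair (hM : IsPModular p M) {x : BrauerPairIdx G} (hx : IsPr p M x) {φ : G → ℂ}
    (h : φ ∈ orb (Subgroup.normalizer (x.1 : Set G)) (be x)) :
    ∃ f, IsPBlock M f ∧ bc (CG x.1) f = φ ∧
      ∃ n ∈ Subgroup.normalizer (x.1 : Set G), cjI n x = ⟨x.1, f⟩ := by
  obtain ⟨n, hn, rfl⟩ := mem_orb.1 h
  obtain ⟨R, f, hR⟩ : ∃ R f, cjI n x = (⟨R, f⟩ : BrauerPairIdx G) := ⟨_, _, rfl⟩
  obtain rfl : x.1 = R := by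
    rw [← map_conj_eq_of_normalizer hn]
    exact congrArg Sigma.fst hR
  refine ⟨f, ?_, ?_, n, hn, hR⟩
  · have := isPr_cjI hM n hx
    rw [hR] at this
    exact this.2
  · rw [← be_cjI, hR]

theorem orbSum_supp (hM : IsPModular p M) {x : BrauerPairIdx G} (hx : IsPr p M x) :
    Supp (CG x.1) (orbSum (Subgroup.normalizer (x.1 : Set G)) (be x)) := fun g hg =>
  Finset.sum_eq_zero fun φ hφ => by
    obtain ⟨f, -, rfl, -⟩ := orb_pair hM hx hφ
    exact bc_supp _ _ g hg

theorem orbSum_idem (hM : IsPModular p M) {x : BrauerPairIdx G} (hx : IsPr p M x) :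
    Idem M (orbSum (Subgroup.normalizer (x.1 : Set G)) (be x)) := by
  classical
  refine ⟨fun g => ring_sum hM fun φ hφ => ?_, funext fun g => ?_⟩
  · obtain ⟨f, hf, rfl, -⟩ := orb_pair hM hx hφ
    exact bc_ring hM hf g
  unfold orbSum
  rw [conv_sum_left]
  refine Finset.sum_congr rfl fun φ hφ => ?_
  rw [conv_sum_right, Finset.sum_eq_single φ]
  · obtain ⟨f, hf, rfl, -⟩ := orb_pair hM hx hφ
    rw [(bc_idem hM hf).2]
  · intro ψ hψ hne
    obtain ⟨f, hf, rfl, -⟩ := orb_pair hM hx hφ
    obtain ⟨f', hf', rfl, -⟩ := orb_pair hM hx hψ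
    rw [bc_mul_ne hM hf hf' (fun he => hne (by rw [he])), Pi.zero_apply]
  · exact fun h => absurd hφ h

theorem val_orbSum (hM : IsPModular p M) {x : BrauerPairIdx G} (hx : IsPr p M x)
    {ξ : IrrCharacter (CG x.1)} (hξ : ξ ∈ x.2) :
    val x.1 (orbSum (Subgroup.normalizer (x.1 : Set G)) (be x)) ξ = 1 := by
  classical
  letI := Fintype.ofFinite (CG x.1)
  unfold orbSum
  rw [val_sum, Finset.sum_eq_single (be x)]
  · rw [val_eq, bc_res, funext (blockCoeff_eq x.2), omegaFun_coeffFun, blockInd_of_mem hξ]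
  · intro φ hφ hne
    obtain ⟨f, hf, rfl, -⟩ := orb_pair hM hx hφ
    rw [val_eq, bc_res, funext (blockCoeff_eq f), omegaFun_coeffFun, blockInd_of_notMem]
    intro h
    apply hne
    show bc (CG x.1) f = bc (CG x.1) x.2
    rw [pblock_eq_blockOf hM hf h, ← pblock_eq_blockOf hM hx.2 hξ]
  · exact fun h => absurd (self_mem_orb _ _) h

theorem cg_le_normalizer (P : Subgroup G) : CG P ≤ Subgroup.normalizer (P : Set G) :=
  le_sup_right.trans (sup_centralizer_le_normalizer P)

/-- A maximal pair determines a block of the normalizer with defect group `P` inducing `B`. -/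
theorem exists_normalizer_block (hM : IsPModular p M) {B : Set (IrrCharacter G)}
    {P : Subgroup G} {e : Set (IrrCharacter (CG P))}
    (h : IsMx p M B (⟨P, e⟩ : BrauerPairIdx G))
    [Fintype (Subgroup.normalizer (P : Set G))] :
    IsDefectGroup p M B P ∧
    ∃ b : Set (IrrCharacter (Subgroup.normalizer (P : Set G))), IsPBlock M b ∧
      IsDefectGroup p M b (P.subgroupOf (Subgroup.normalizer (P : Set G))) ∧
      IsInducedBlock M (Subgroup.normalizer (P : Set G)) b B ∧
      ∀ η ∈ b, MemLocalIdeal M (omegaFun η (res (Subgroup.normalizer (P : Set G))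
        (orbSum (Subgroup.normalizer (P : Set G))
          (be (⟨P, e⟩ : BrauerPairIdx G)))) - 1) := by
  classical
  haveI := Fact.mk (pmod_prime hM)
  let x : BrauerPairIdx G := ⟨P, e⟩
  set N := Subgroup.normalizer (P : Set G) with hNdef
  have hx : IsPr p M x := h.1.1
  set O := orbSum N (be (⟨P, e⟩ : BrauerPairIdx G)) with hOdef
  have hCN : CG P ≤ N := cg_le_normalizer P
  have hOs : Supp (CG P) O := orbSum_supp hM hx
  have hOsN : Supp N O := fun g hg => hOs g fun hh => hg (hCN hh)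
  have hOI : Inv N O := orbSum_inv N _
  have hOid : Idem M O := orbSum_idem hM hx
  set F : IrrCharacter N → ℂ := fun η => omegaFun η (res N O) with hFdef
  have hFc : coeffFun F = res N O := coeffFun_omegaFun (res_classFun hOI)
  have hFI : CenInt M F := fun n => by rw [hFc]; exact hOid.1 _
  have hF2 : CI M (F * F - F) := fun n => by
    rw [coeffFun_sub, coeffFun_mul, hFc, ← conv_res N O hOsN n, hOid.2, res_apply, sub_self]
    exact ideal_zero hM
  obtain ⟨η₀, hη₀⟩ : ∃ η, ¬ MemLocalIdeal M (F η) := by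
    by_contra hall
    push Not at hall
    obtain ⟨ξ, hξ⟩ := pblock_nonempty hM hx.2
    have h1 := nil_idem hM hFI hF2 hall
    refine ideal_one hM ?_
    rw [← val_orbSum hM hx hξ]
    refine ideal_of_coeffFun_ideal hM (fun c => ?_) ξ
    rw [coeff_val (hOI.mono hCN)]
    have := h1 ⟨c, hCN c.2⟩
    rw [hFc] at this
    exact this
  have hb : IsPBlock M (blockOf M (η₀ : N → ℂ)) := isPBlock_blockOf η₀
  set b := blockOf M (η₀ : N → ℂ) with hbdef
  have hval : ∀ η ∈ b, MemLocalIdeal M (F η - 1) := by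
    have h0 : MemLocalIdeal M (F η₀ - 1) := by
      have h2 := ideal_of_coeffFun_ideal hM hF2 η₀
      rw [Pi.sub_apply, Pi.mul_apply, ← mul_sub_one] at h2
      exact (ideal_or_of_mul hM (hFI.ring hM η₀)
        (ring_sub hM (hFI.ring hM η₀) (ring_one hM)) h2).resolve_left hη₀
    intro η hη
    simpa using ideal_add hM
      (hFI.congr_block hM (pblock_sameBlock hM hb hη (mem_blockOf_self hM η₀))) h0
  have hE : CI M (blockInd b * blockInd b - blockInd b) := by
    rw [blockInd_mul_self, sub_self]; exact CI.zero hM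
  have hbF : CI M (F * blockInd b - blockInd b) := by
    refine idem_congr hM (hFI.mul hM (cenInt_blockInd hM hb)) (cenInt_blockInd hM hb) ?_ hE
      fun η => ?_
    · rw [mul_mul_mul_comm, blockInd_mul_self, ← sub_mul]
      exact hF2.mul_right hM (cenInt_blockInd hM hb)
    · by_cases hη : η ∈ b
      · simpa [Pi.mul_apply, blockInd_of_mem hη] using hval η hη
      · simp only [Pi.mul_apply, blockInd_of_notMem hη, mul_zero, sub_self]
        exact ideal_zero hM
  -- the defect group of `b`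
  obtain ⟨D, hD⟩ := exists_isDefectGroup hM hb
  haveI : (P.subgroupOf N).Normal := normal_subgroupOf_normalizer P
  have hPD : P.subgroupOf N ≤ D :=
    normal_le_defectGroup hM hb hD (hx.1.comap_subtype)
  set E := D.map N.subtype with hEdef
  have hPE : P ≤ E := by
    rw [← map_subgroupOf_normalizer P]
    exact Subgroup.map_mono hPD
  have hEN : E ≤ N := by
    rintro _ ⟨d, -, rfl⟩
    exact d.2
  have hEp : IsPGroup p E := (IsDefectGroup.isPGroup hD).map _
  obtain ⟨c₀, hc₀, hne⟩ : ∃ c₀ ∈ Subgroup.centralizer (D : Set N),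
      ¬ MemLocalIdeal M (coeffFun (blockInd b) c₀) := by
    have := defectGroup_not_brZero hM hb hD
    rw [BrZero] at this
    push Not at this
    exact this
  have hc₀E : (c₀ : G) ∈ CG E := by
    rw [Subgroup.mem_centralizer_iff]
    rintro _ ⟨d, hd, rfl⟩
    exact congrArg Subtype.val (Subgroup.mem_centralizer_iff.1 hc₀ d hd)
  obtain ⟨c, hc, hOc⟩ : ∃ c ∈ CG E, ¬ MemLocalIdeal M (O c) := by
    by_contra hall
    push Not at hall
    letI := Fintype.ofFinite (CG E)
    apply hne
    have h1 := hbF c₀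
    rw [coeffFun_sub, coeffFun_mul, hFc, ← funext (blockCoeff_eq b), ← bc_res,
      ← conv_res N (bc N b) hOsN c₀] at h1
    have h2 := mul_congr hM hEp hOid.1 (bc_ring hM hb) (hOI.mono hEN)
      ((bc_inv_self N b).mono hEN) ⟨_, hc₀E⟩
    have h3 : MemLocalIdeal M (convFun (res (CG E) O) (res (CG E) (bc N b)) ⟨_, hc₀E⟩) :=
      ideal_sum hM fun y _ => ideal_mul_right hM (hall y y.2) (bc_ring hM hb _)
    have h4 := ideal_sub hM (ideal_add hM h2 h3) h1
    rw [bc_res, blockCoeff_eq] at h4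
    simpa using h4
  obtain ⟨φ, hφ, hφE, hφc⟩ : ∃ φ ∈ orb N (be x), Inv E φ ∧ ¬ MemLocalIdeal M (φ c) := by
    by_contra hall
    push Not at hall
    have h1 := sum_inv_congr hM hEp (orb N (be x)) (fun u hu φ hφ => orb_closed (hEN hu) hφ)
      (fun φ hφ g => by
        obtain ⟨f, hf, rfl, -⟩ := orb_pair hM hx hφ
        exact bc_ring hM hf g) hc
    have h2 : MemLocalIdeal M (∑ φ ∈ (orb N (be x)).filter (fun φ => Inv E φ), φ c) :=
      ideal_sum hM fun φ hφ => hall φ (Finset.mem_filter.1 hφ).1 (Finset.mem_filter.1 hφ).2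
    exact hOc (by simpa [hOdef, orbSum] using ideal_add hM h1 h2)
  have hEP : E = P := by
    obtain ⟨f, hf, rfl, n, hn, hnx⟩ := orb_pair hM hx hφ
    have hy := isMx_cjI hM h n
    rw [hnx] at hy
    exact (max_iff hM hy.1).1 hy E hEp hPE hEN hφE ⟨c, hc, hφc⟩
  have hDeq : D = P.subgroupOf N := by
    refine Subgroup.map_injective N.subtype_injective ?_
    rw [map_subgroupOf_normalizer]
    exact hEP
  subst hDeq
  obtain ⟨B', hB', hB'D, hind⟩ := normalizer_block_induces hM hx.1 hb hD
  suffices hBB : B' = B by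
    subst hBB
    exact ⟨hB'D, b, hb, hD, hind, fun η hη => by convert hval η hη⟩
  obtain ⟨χ, hχ⟩ := pblock_nonempty hM hB'
  suffices hmem : χ ∈ B by
    rw [pblock_eq_blockOf hM hB' hχ, pblock_eq_blockOf hM h.1.2.1 hmem]
  by_contra hχB
  set T : G → ℂ := fun g => if g ∈ CG P then blockCoeff B g else 0 with hTdef
  have hTs : Supp (CG P) T := fun g hg => if_neg hg
  have hTsN : Supp N T := fun g hg => hTs g fun hh => hg (hCN hh)
  have hTI : Inv N T := fun u hu g => by
    simp only [hTdef]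
    exact if_congr (cg_normalizer hu g).symm (blockCoeff_classFun B g u) rfl
  have hbr : brFun P N (blockInd B) = res N T := funext fun n => by
    simp only [brFun, hTdef, res_apply, blockCoeff_eq]
  have heI := cenInt_blockInd hM h.1.2.1
  have h1 : MemLocalIdeal M (resCen N (blockInd B) η₀ - blockInd B χ) :=
    induced_congr hM hind heI (mem_blockOf_self hM η₀) hχ
  rw [blockInd_of_notMem hχB, sub_zero] at h1
  have h2 : MemLocalIdeal M (resCen N (blockInd B) η₀ - brCen P N (blockInd B) η₀) :=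
    resCen_sub_brCen_ideal hM hx.1 Subgroup.le_normalizer le_rfl heI η₀
  have h3 : MemLocalIdeal M (omegaFun η₀ (res N T)) := by
    rw [← hbr, ← brCen_eq_omegaFun]
    simpa using ideal_sub hM h1 h2
  have hTO : ∀ n : N, MemLocalIdeal M (convFun (res N T) (res N O) n - res N O n) := by
    intro n
    rw [← conv_res N O hTsN n, res_apply]
    by_cases hn : (n : G) ∈ CG P
    · letI := Fintype.ofFinite (CG P)
      have h4 : convFun T O (n : G) = convFun (res (CG P) T) (res (CG P) O) ⟨_, hn⟩ :=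
        conv_res (CG P) O hTs ⟨_, hn⟩
      have hTres : res (CG P) T = res (CG P) (blockCoeff B) := funext fun c => if_pos c.2
      rw [h4, hTres]
      have hBid := blockCoeff_idem hM h.1.2.1
      have h5 := mul_congr hM hx.1 hBid.1 hOid.1 (inv_of_classFun (blockCoeff_classFun B) _)
        (hOI.mono Subgroup.le_normalizer) ⟨_, hn⟩
      have h6 : MemLocalIdeal M (convFun (blockCoeff B) O (n : G) - O n) := by
        show MemLocalIdeal M (convFun (blockCoeff B) (fun g => ∑ φ ∈ orb N (be x), φ g) (n : G) -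
          ∑ φ ∈ orb N (be x), φ (n : G))
        rw [conv_sum_right, ← Finset.sum_sub_distrib]
        refine ideal_sum hM fun φ hφ => ?_
        obtain ⟨f, hf, rfl, m, hm, hmx⟩ := orb_pair hM hx hφ
        have hy := ofB_cjI hM h.1 m
        rw [hmx] at hy
        exact holds_conv hM hy.1 hBid (inv_of_classFun (blockCoeff_classFun B) _)
          (inv_of_classFun (blockCoeff_classFun B) _) hy.2.2 hn
      simpa using ideal_sub hM h6 h5
    · rw [hTs.conv hOs _ hn, hOs _ hn, sub_self]
      exact ideal_zero hM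
  have h7 := omega_congr hM (convFun_classFun (res_classFun hTI) (res_classFun hOI))
    (res_classFun hOI) hTO η₀
  rw [omegaFun_convFun (res_classFun hOI)] at h7
  have h8 := ideal_mul_right hM h3 (hFI.ring hM η₀)
  have h9 := hval η₀ (mem_blockOf_self hM η₀)
  exact ideal_one hM (by simpa [hFdef] using ideal_sub hM (ideal_sub hM h8 h7) h9)

theorem defect_of_max (hM : IsPModular p M) {B : Set (IrrCharacter G)} {x : BrauerPairIdx G}
    (h : IsMx p M B x) : IsDefectGroup p M B x.1 := by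
  obtain ⟨P, e⟩ := x
  letI := Fintype.ofFinite (Subgroup.normalizer (P : Set G))
  exact (exists_normalizer_block hM h).1

theorem max_conj_normalizer (hM : IsPModular p M) {B : Set (IrrCharacter G)}
    {x x' : BrauerPairIdx G} (h : IsMx p M B x) (h' : IsMx p M B x') (he : x'.1 = x.1) :
    ∃ n ∈ Subgroup.normalizer (x.1 : Set G), x' = cjI n x := by
  classical
  haveI := Fact.mk (pmod_prime hM)
  obtain ⟨P, e⟩ := x
  obtain ⟨P', e'⟩ := x'
  obtain rfl : P' = P := he
  set N := Subgroup.normalizer (P' : Set G) with hNdef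
  letI := Fintype.ofFinite N
  obtain ⟨hD, b, hb, hbD, hind, hv⟩ :=
    exists_normalizer_block hM (P := P') (e := e) h
  obtain ⟨-, b', hb', hbD', hind', hv'⟩ :=
    exists_normalizer_block hM (P := P') (e := e') h'
  obtain rfl : b = b' :=
    (exists_unique_inducing hM h.1.2.1 hD).unique ⟨hb, hbD, hind⟩ ⟨hb', hbD', hind'⟩
  obtain ⟨η, hη⟩ := pblock_nonempty hM hb
  set S := orb N (be (⟨P', e⟩ : BrauerPairIdx G))
  set S' := orb N (be (⟨P', e'⟩ : BrauerPairIdx G))
  by_cases hcom : ∃ φ ∈ S, φ ∈ S'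
  · obtain ⟨φ, hφ, hφ'⟩ := hcom
    obtain ⟨f, hf, hbc, n, hn, hnx⟩ := orb_pair hM (x := ⟨P', e⟩) h.1.1 hφ
    obtain ⟨f', hf', hbc', n', hn', hnx'⟩ := orb_pair hM (x := ⟨P', e'⟩) h'.1.1 hφ'
    obtain rfl : f = f' := bc_inj (hbc.trans hbc'.symm)
    refine ⟨n'⁻¹ * n, mul_mem (inv_mem hn') hn, ?_⟩
    rw [← cjI_cjI, hnx, ← hnx', cjI_inv_cancel]
  push Not at hcom
  exfalso
  set O := orbSum N (be (⟨P', e⟩ : BrauerPairIdx G))
  set O' := orbSum N (be (⟨P', e'⟩ : BrauerPairIdx G))
  have hOs : Supp N O := fun g hg =>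
    orbSum_supp hM (x := ⟨P', e⟩) h.1.1 g fun hh => hg (cg_le_normalizer P' hh)
  have hzero : convFun O O' = 0 := funext fun g => by
    show convFun (fun g => ∑ ψ ∈ S, ψ g) (fun g => ∑ ψ ∈ S', ψ g) g = 0
    rw [conv_sum_left]
    refine Finset.sum_eq_zero fun φ hφ => ?_
    rw [conv_sum_right]
    refine Finset.sum_eq_zero fun ψ hψ => ?_
    have hne : φ ≠ ψ := fun he => hcom φ hφ (he ▸ hψ)
    obtain ⟨f, hf, rfl, -⟩ := orb_pair hM (x := ⟨P', e⟩) h.1.1 hφ
    obtain ⟨f', hf', rfl, -⟩ := orb_pair hM (x := ⟨P', e'⟩) h'.1.1 hψ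
    rw [bc_mul_ne hM hf hf' (fun he => hne (by rw [he])), Pi.zero_apply]
  have hw : omegaFun η (convFun (res N O) (res N O')) = 0 := by
    have : convFun (res N O) (res N O') = 0 := funext fun n => by
      rw [← conv_res N O' hOs n, hzero]; rfl
    rw [this]
    simp [omegaFun]
  rw [omegaFun_convFun (res_classFun (orbSum_inv N _))] at hw
  have h1 := hv η hη
  have h2 := hv' η hη
  rcases mul_eq_zero.1 hw with h0 | h0
  · refine ideal_one hM ?_
    have := ideal_neg h1
    rwa [h0, zero_sub, neg_neg] at this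
  · refine ideal_one hM ?_
    have := ideal_neg h2
    rwa [h0, zero_sub, neg_neg] at this

theorem max_conj (hM : IsPModular p M) {B : Set (IrrCharacter G)} {x x' : BrauerPairIdx G}
    (h : IsMx p M B x) (h' : IsMx p M B x') : ∃ g : G, x' = cjI g x := by
  obtain ⟨g, hg⟩ := defectGroup_conj hM h.1.2.1 (defect_of_max hM h) (defect_of_max hM h')
  obtain ⟨n, -, hn⟩ := max_conj_normalizer hM (isMx_cjI hM h g) h' hg.symm
  exact ⟨n * g, by rw [hn, cjI_cjI]⟩

theorem le_conj_max (hM : IsPModular p M) {B : Set (IrrCharacter G)} {a x : BrauerPairIdx G}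
    (ha : OfB p M B a) (hx : IsMx p M B x) : ∃ g : G, LE p M (cjI g a) x := by
  obtain ⟨y, hay, hy⟩ := exists_max_above hM ha
  obtain ⟨g, hg⟩ := max_conj hM hy hx
  exact ⟨g, hg ▸ le_cjI hM g hay⟩

/-! ### The principal pairs -/

/-- The principal pair on a subgroup. -/
noncomputable def prPair (M : Ideal AlgInt) (Q : Subgroup G) : BrauerPairIdx G :=
  ⟨Q, principalBlock M (CG Q)⟩

theorem isPr_prPair {Q : Subgroup G} (hQ : IsPGroup p Q) : IsPr p M (prPair M Q) :=
  ⟨hQ, isPBlock_principalBlock⟩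

theorem sum_cg_congr (hM : IsPModular p M) {Q : Subgroup G} (hQ : IsPGroup p Q)
    [Fintype (CG Q)] {a : G → ℂ} (ha : ∀ g, MemLocalRing M (a g)) (hi : Inv Q a) :
    MemLocalIdeal M ((∑ g : G, a g) - ∑ c : CG Q, a c) := by
  classical
  letI : MulAction Q G := MulAction.compHom G ((MulAut.conj (G := G)).comp Q.subtype)
  have hsmul : ∀ (u : Q) (g : G), u • g = (u : G) * g * (u : G)⁻¹ := fun u g => rfl
  have hfix : MulAction.fixedPoints Q G = (CG Q : Set G) := by
    ext g
    rw [MulAction.mem_fixedPoints, SetLike.mem_coe, Subgroup.mem_centralizer_iff]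
    exact ⟨fun h u hu => mul_inv_eq_iff_eq_mul.1 ((hsmul ⟨u, hu⟩ g).symm.trans (h ⟨u, hu⟩)),
      fun h u => by rw [hsmul, mul_inv_eq_iff_eq_mul]; exact h u u.2⟩
  have h := ideal_sum_sub_fixed hM hQ (F := a) ha (fun u g => by rw [hsmul]; exact hi u u.2 g)
  rw [hfix, finsum_mem_eq_sum_of_inter_support_eq _
    (t := Finset.univ.filter (fun g => g ∈ CG Q)) (by ext; simp),
    Finset.sum_subtype (Finset.univ.filter (fun g => g ∈ CG Q)) (p := fun g => g ∈ CG Q)
      (fun g => by simp)] at h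
  exact h

theorem omegaFun_trivial {W : Type u} [Group W] [Fintype W] (a : W → ℂ) :
    omegaFun (trivialIrr W) a = ∑ w : W, a w := by
  simp [omegaFun, trivialIrr]

theorem sum_principal_coeff (hM : IsPModular p M) (W : Type u) [Group W] [Fintype W] :
    ∑ w : W, blockCoeff (principalBlock M W) w = 1 := by
  rw [← omegaFun_trivial, funext (blockCoeff_eq _), omegaFun_coeffFun,
    blockInd_of_mem (trivial_mem_principalBlock hM)]

theorem holds_prPair_of_sum (hM : IsPModular p M) {Q : Subgroup G} (hQ : IsPGroup p Q)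
    {a : G → ℂ} (ha : ∀ g, MemLocalRing M (a g)) (hi : Inv Q a) (hiC : Inv (CG Q) a)
    (h1 : ∑ g : G, a g = 1) : Holds M (prPair M Q) a := by
  intro ξ hξ
  letI := Fintype.ofFinite (CG Q)
  show MemLocalIdeal M (val Q a ξ - 1)
  have h2 := (cenInt_val ha hiC).congr_block hM
    (pblock_sameBlock hM (isPBlock_principalBlock (M := M) (G := CG Q)) hξ
      (trivial_mem_principalBlock hM))
  have h3 : MemLocalIdeal M (val Q a (trivialIrr (CG Q)) - 1) := by
    rw [val_eq, omegaFun_trivial, ← h1]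
    exact ideal_sub_comm (sum_cg_congr hM hQ ha hi)
  simpa using ideal_add hM h2 h3

theorem prPair_ofB (hM : IsPModular p M) {Q : Subgroup G} (hQ : IsPGroup p Q) :
    OfB p M (principalBlock M G) (prPair M Q) :=
  ofB_of_holds isPBlock_principalBlock (isPr_prPair hQ)
    (holds_prPair_of_sum hM hQ (blockCoeff_ring hM isPBlock_principalBlock)
      (inv_of_classFun (blockCoeff_classFun _) _) (inv_of_classFun (blockCoeff_classFun _) _)
      (sum_principal_coeff hM G))

theorem cjI_prPair (hM : IsPModular p M) (x : G) {Q : Subgroup G} :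
    cjI x (prPair M Q) = prPair M (Q.map (MulAut.conj x).toMonoidHom) := by
  show (⟨_, conjBlock Q x (principalBlock M (CG Q))⟩ : BrauerPairIdx G) = ⟨_, _⟩
  congr 1
  rw [conjBlock_eq]
  set e := conjIso x (cg_map_conj x Q)
  have hmem : trivialIrr (CG (Q.map (MulAut.conj x).toMonoidHom)) ∈
      pullB e (principalBlock M (CG Q)) := by
    show irrPull e (trivialIrr _) ∈ principalBlock M (CG Q)
    rw [show irrPull e (trivialIrr _) = trivialIrr (CG Q) from Subtype.ext (funext fun _ => rfl)]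
    exact trivial_mem_principalBlock hM
  rw [pblock_eq_blockOf hM (isPBlock_pullB hM e isPBlock_principalBlock) hmem]
  rfl

theorem step_prPair (hM : IsPModular p M) {Q P : Subgroup G} (hP : IsPGroup p P) (hQP : Q ≤ P)
    (hN : P ≤ Subgroup.normalizer (Q : Set G)) :
    Step p M (prPair M Q) (prPair M P) := by
  have hQ : IsPGroup p Q := hP.to_le hQP
  have hinv : Inv P (be (prPair M Q)) := inv_iff_cfun.2 fun u hu => by
    rw [← be_cjI, cjI_prPair hM u, map_conj_eq_of_normalizer (hN hu)]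
  refine (step_iff hM).2 ⟨isPr_prPair hQ, isPr_prPair hP, hQP, hN, hinv, ?_⟩
  refine holds_prPair_of_sum hM hP (bc_ring hM isPBlock_principalBlock) hinv
    ((be_inv_cg (prPair M Q)).mono (Subgroup.centralizer_le hQP)) ?_
  classical
  letI := Fintype.ofFinite (CG Q)
  show ∑ g : G, bc (CG Q) (principalBlock M (CG Q)) g = 1
  rw [← Finset.sum_subset (Finset.subset_univ (Finset.univ.filter (fun g => g ∈ CG Q)))
    (fun g _ hg => bc_supp _ _ g (by simpa using hg)),
    Finset.sum_subtype (Finset.univ.filter (fun g => g ∈ CG Q)) (p := fun g => g ∈ CG Q)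
      (fun g => by simp)]
  simp only [bc_coe]
  exact sum_principal_coeff hM _

theorem le_prPair [Fact p.Prime] (hM : IsPModular p M) {P : Subgroup G} (hP : IsPGroup p P)
    {Q : Subgroup G} (hQ : Q ≤ P) : LE p M (prPair M Q) (prPair M P) := by
  suffices H : ∀ n, ∀ Q : Subgroup G, Q ≤ P → Nat.card P - Nat.card Q ≤ n →
      LE p M (prPair M Q) (prPair M P) from H _ Q hQ le_rfl
  intro n
  induction n with
  | zero =>
    intro Q hQ hn
    rw [Subgroup.eq_of_le_of_card_ge hQ (by omega)]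
  | succ n ih =>
    intro Q hQ hn
    rcases eq_or_lt_of_le hQ with rfl | hlt
    · exact Relation.ReflTransGen.refl
    have h1 := exists_normalizer_gt hP hlt
    have hcard : Nat.card Q < Nat.card ↥(P ⊓ Subgroup.normalizer (Q : Set G)) := by
      by_contra hh
      exact h1.ne (Subgroup.eq_of_le_of_card_ge h1.le (by omega))
    exact Relation.ReflTransGen.head (step_prPair hM (hP.to_le inf_le_left) h1.le inf_le_right)
      (ih _ inf_le_left (by omega))

/-- The subpairs of a principal pair are principal. -/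
theorem eq_prPair_of_le [Fact p.Prime] (hM : IsPModular p M) {P : Subgroup G}
    (hP : IsPGroup p P) {a : BrauerPairIdx G} (h : LE p M a (prPair M P)) :
    a = prPair M a.1 :=
  le_unique hM h (le_prPair hM hP (le_subgroup h)) rfl

theorem isMx_prPair_sylow [Fact p.Prime] (hM : IsPModular p M) (S : Sylow p G) :
    IsMx p M (principalBlock M G) (prPair M (S : Subgroup G)) := by
  refine ⟨prPair_ofB hM S.isPGroup', fun R g hR hle => ?_⟩
  exact S.3 hR.1.1 (le_subgroup hle)

/-- The pairs of the principal block are the principal pairs. -/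
theorem ofB_principal_iff [Fact p.Prime] (hM : IsPModular p M) {a : BrauerPairIdx G}
    (ha : IsPr p M a) : OfB p M (principalBlock M G) a ↔ a = prPair M a.1 := by
  refine ⟨fun h => ?_, fun h => h ▸ prPair_ofB hM ha.1⟩
  obtain ⟨S, -⟩ := ha.1.exists_le_sylow
  obtain ⟨g, hg⟩ := le_conj_max hM h (isMx_prPair_sylow hM S)
  have h1 := congrArg (cjI g⁻¹) (eq_prPair_of_le hM S.isPGroup' hg)
  have h2 : (cjI g a).1 = a.1.map (MulAut.conj g).toMonoidHom := rfl
  rwa [cjI_inv_cancel, cjI_prPair hM, h2, map_conj_conj, inv_mul_cancel, map_conj_one] at h1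

end Cfsg.Agent.Char.BP
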