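import Cfsg.Agent.Lib.Char.SmallDegreeCore

/-!
A faithful character of degree below `(p - 1) / 2` forces a normal Sylow subgroup of order `p`.
-/

open scoped ComplexConjugate

namespace Cfsg.Agent.Char.SmallDeg

open Cfsg Cfsg.Agent.Block Cfsg.Agent.Char.BP Cfsg.Agent.Char.Spec Cfsg.Agent.Char.DefectOne

set_option linter.unusedSectionVars false
set_option linter.style.haveILetI false
set_option maxHeartbeats 800000

universe u

variable {p : ℕ} [hp : Fact p.Prime]

theorem exists_normal (n : ℕ) : ∀ (G : Type u) [Group G] [Fintype G], Nat.card G = n →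
    p ∣ Nat.card G → ¬ p ^ 2 ∣ Nat.card G → ∀ χ : G → ℂ, IsCharacter G χ →
      (∀ g : G, χ g = χ 1 → g = 1) → 2 * charDegree χ + 3 ≤ p →
        ∃ H : Subgroup G, H.Normal ∧ Nat.card H = p := by
  induction n using Nat.strong_induction_on with
  | _ n ih =>
  intro G _ _ hn hdiv hsq χ hχ hfaith hsmall
  classical
  by_contra hcon
  push Not at hcon
  have hfac : (Nat.card G).factorization p = 1 := by
    have h1 := (hp.out.dvd_iff_one_le_factorization Nat.card_pos.ne').1 hdiv
    have h2 : ¬ 2 ≤ (Nat.card G).factorization p :=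
      fun h => hsq ((hp.out.pow_dvd_iff_le_factorization Nat.card_pos.ne').2 h)
    omega
  have hindex : ∀ Q : Subgroup G, Nat.card Q = p → ¬ p ∣ Q.index := fun Q hQ h => hsq (by
    rw [sq, ← Q.card_mul_index, hQ]
    exact mul_dvd_mul_left p h)
  have hmin : ∀ Q : Subgroup G, Nat.card Q = p → Minimal Q := fun Q hQ => by
    refine ⟨fun H hQH hH => ?_, fun h => hcon Q h hQ⟩
    letI : Fintype H := Fintype.ofFinite _
    have hlt : Nat.card H < n := by
      rw [← hn]
      exact lt_of_le_of_ne (Subgroup.card_le_card_group H)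
        fun h => hH (Subgroup.eq_top_of_card_eq H h)
    have hpH : p ∣ Nat.card H := hQ ▸ Subgroup.card_dvd_of_le hQH
    have hχH : charDegree (fun x : H => χ x) = charDegree χ := by
      simp [charDegree]
    obtain ⟨K, hK, hKp⟩ := ih _ hlt H rfl hpH (fun h => hsq (h.trans (Subgroup.card_subgroup_dvd_card H)))
      (fun x : H => χ x) (IsChar.res hχ H)
      (fun g hg => Subtype.ext (hfaith g (by simpa using hg))) (by rw [hχH]; exact hsmall)
    set K' := K.map H.subtype
    have hK'p : Nat.card K' = p := by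
      rw [Subgroup.card_map_of_injective H.subtype_injective, hKp]
    have hHN : H ≤ Subgroup.normalizer (K' : Set G) := by
      intro h hh
      refine Subgroup.mem_normalizer_iff.2 fun x => ?_
      constructor
      · rintro ⟨k, hk, rfl⟩
        exact ⟨_, hK.conj_mem k hk ⟨h, hh⟩, rfl⟩
      · rintro ⟨k, hk, hkx⟩
        refine ⟨_, hK.conj_mem k hk (⟨h, hh⟩ : H)⁻¹, ?_⟩
        have hkx' : (k : G) = h * x * h⁻¹ := hkx
        show h⁻¹ * (k : G) * (h⁻¹)⁻¹ = x
        rw [hkx']
        group
    rw [eq_of_le_normalizer hK'p (hindex _ hK'p) hQ (hQH.trans hHN)]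
    exact hHN
  obtain ⟨u, hu⟩ := exists_prime_orderOf_dvd_card' p hdiv
  have hPp : Nat.card (Subgroup.zpowers u) = p := by rw [Nat.card_zpowers, hu]
  have hPm := hmin _ hPp
  have hu1 : u ≠ 1 := fun h => hp.out.one_lt.ne (by rw [← hu, h, orderOf_one])
  refine hu1 (hPm.center_inter hPp (Subgroup.mem_zpowers u) ?_)
  obtain ⟨M, hM⟩ := exists_isPModular p hp.out
  obtain ⟨a, ha, hdec⟩ := IsChar.exists_decomp_inner hχ
  refine Subgroup.mem_center_iff.2 fun g => ?_
  have hcomm : u * g * u⁻¹ * g⁻¹ = 1 := by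
    refine hfaith _ ?_
    rw [hdec, sum_irr_apply, sum_irr_apply]
    refine Finset.sum_congr rfl fun ψ _ => ?_
    rcases Nat.eq_zero_or_pos (a ψ) with h0 | h0
    · simp [h0]
    congr 1
    have hdeg : charDegree (ψ : G → ℂ) ≤ charDegree χ := degree_le_of_constituent hχ ψ.2
      (by rw [ha]; exact Nat.cast_ne_zero.2 h0.ne') (charDeg_spec hχ) (charDeg_spec' ψ)
    have hψc := irr_isChar ψ
    haveI := charKer_normal hψc
    rw [← mem_charKer hψc]
    by_cases huK : u ∈ charKer hψc
    · rw [mul_assoc, mul_assoc u]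
      exact mul_mem huK (by
        rw [← mul_assoc]
        exact Subgroup.Normal.conj_mem inferInstance _ (inv_mem huK) g)
    -- the image is smaller
    by_cases hK : charKer hψc = ⊥
    · exact (no_small hM hmin hfac (φ := ψ) (fun x hx => by
        have := (mem_charKer hψc).2 hx
        rwa [hK, Subgroup.mem_bot] at this) (by omega)).elim
    set K := charKer hψc with hKdef
    have hpK : ¬ p ∣ Nat.card K := fun h => by
      obtain ⟨v, hv⟩ := exists_prime_orderOf_dvd_card' p h
      have hQ : Nat.card (Subgroup.zpowers (v : G)) = p := by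
        rw [Nat.card_zpowers, Subgroup.orderOf_coe, hv]
      have htop := (hmin _ hQ).eq_top hQ (hindex _ hQ) (K := K) (Subgroup.zpowers_le.2 v.2)
      exact huK (htop ▸ Subgroup.mem_top u)
    obtain ⟨ψ', hψ', hψ'eq⟩ := IsIrr.exists_factor_quotient ψ.2 K fun x hx => (mem_charKer hψc).1 hx
    letI : Fintype (G ⧸ K) := Fintype.ofFinite _
    have hcard : Nat.card G = Nat.card (G ⧸ K) * Nat.card K :=
      K.card_eq_card_quotient_mul_card_subgroup
    have hlt : Nat.card (G ⧸ K) < n := by
      rw [← hn, hcard]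
      exact (Nat.lt_mul_iff_one_lt_right Nat.card_pos).2 ((K.one_lt_card_iff_ne_bot).2 hK)
    have hpQ : p ∣ Nat.card (G ⧸ K) :=
      (hp.out.coprime_iff_not_dvd.2 hpK).dvd_of_dvd_mul_right (hcard ▸ hdiv)
    have hψ'1 : ψ' 1 = (ψ : G → ℂ) 1 := hψ'eq 1
    obtain ⟨Hb, hHb, hHbp⟩ := ih _ hlt (G ⧸ K) rfl hpQ (fun h => hsq (h.trans (hcard ▸ dvd_mul_right _ _)))
      ψ' (IsIrr.isCharacter hψ') (fun q hq => by
        induction q using QuotientGroup.induction_on with
        | _ x =>
          rw [hψ'eq, hψ'1] at hq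
          exact (QuotientGroup.eq_one_iff x).2 ((mem_charKer hψc).2 hq))
      (by
        have : charDegree ψ' = charDegree (ψ : G → ℂ) := Nat.cast_injective (R := ℂ) (by
          rw [← charDeg_spec (IsIrr.isCharacter hψ'), ← charDeg_spec', hψ'1])
        omega)
    set H := Hb.comap (QuotientGroup.mk' K)
    have hpH : p ∣ Nat.card H := by
      rw [← hHbp]
      have hsurj : Function.Surjective ((QuotientGroup.mk' K).subgroupComap Hb) := by
        rintro ⟨z, hz⟩
        obtain ⟨x, rfl⟩ := QuotientGroup.mk'_surjective K z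
        exact ⟨⟨x, hz⟩, rfl⟩
      exact Subgroup.card_dvd_of_surjective _ hsurj
    obtain ⟨v, hv⟩ := exists_prime_orderOf_dvd_card' p hpH
    have hQ : Nat.card (Subgroup.zpowers (v : G)) = p := by
      rw [Nat.card_zpowers, Subgroup.orderOf_coe, hv]
    haveI : H.Normal := hHb.comap _
    have htop := (hmin _ hQ).eq_top hQ (hindex _ hQ) (K := H) (Subgroup.zpowers_le.2 v.2)
    haveI : Fact (Nat.card Hb).Prime := ⟨hHbp ▸ hp.out⟩
    haveI := isCyclic_of_prime_card (α := Hb) rfl
    letI : CommGroup Hb := IsCyclic.commGroup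
    have hmem : ∀ x : G, (QuotientGroup.mk' K x) ∈ Hb := fun x =>
      Subgroup.mem_comap.1 ((htop ▸ Subgroup.mem_top x : x ∈ H))
    rw [← QuotientGroup.eq_one_iff]
    have h := congrArg Subtype.val (mul_comm (⟨_, hmem u⟩ : Hb) ⟨_, hmem g⟩)
    simp only [QuotientGroup.mk_mul, QuotientGroup.mk_inv]
    rw [show (u : G ⧸ K) * (g : G ⧸ K) = (g : G ⧸ K) * (u : G ⧸ K) from h, mul_inv_cancel_right,
      mul_inv_cancel]
  rw [mul_inv_eq_one, mul_inv_eq_iff_eq_mul] at hcomm
  exact hcomm.symm

end Cfsg.Agent.Char.SmallDeg
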