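import Cfsg.Agent.Lib.Char.NilpotentCount
import Cfsg.Agent.Lib.Char.Galois
import Cfsg.Agent.Lib.Char.Complete
import Cfsg.Agent.Lib.Char.Induce

/-!
Averages of squared absolute values of nonvanishing character values over Galois stable sets.
-/

open scoped ComplexConjugate

namespace Cfsg.Agent.Char.NormAvg

open Cfsg Cfsg.Agent.Char

universe u

theorem card_le_of_prod {ι : Type*} (s : Finset ι) (x : ι → ℝ) (hx : ∀ i ∈ s, 0 < x i)
    (hp : 1 ≤ ∏ i ∈ s, x i) :
    (s.card : ℝ) ≤ ∑ i ∈ s, x i ∧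
      ((∑ i ∈ s, x i = s.card) → ∀ i ∈ s, x i = 1) := by
  have hlog : 0 ≤ ∑ i ∈ s, Real.log (x i) := by
    rw [← Real.log_prod (fun i hi => (hx i hi).ne')]
    exact Real.log_nonneg hp
  have hle : ∀ i ∈ s, Real.log (x i) ≤ x i - 1 := fun i hi => Real.log_le_sub_one_of_pos (hx i hi)
  have h1 : ∑ i ∈ s, (x i - 1) = ∑ i ∈ s, x i - s.card := by
    rw [Finset.sum_sub_distrib, Finset.sum_const, nsmul_eq_mul, mul_one]
  refine ⟨by linarith [Finset.sum_le_sum hle], fun he i hi => ?_⟩
  by_contra hne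
  have hlt : ∑ i ∈ s, Real.log (x i) < ∑ i ∈ s, (x i - 1) :=
    Finset.sum_lt_sum hle ⟨i, hi, Real.log_lt_sub_one_of_pos (hx i hi) hne⟩
  linarith

variable {G : Type u} [Group G] [Fintype G]

theorem one_le_of_int {z : ℤ} {r : ℝ} (h : ((r : ℝ) : ℂ) = (z : ℂ)) (hr : 0 < r) : 1 ≤ r := by
  have h' : r = (z : ℝ) := by exact_mod_cast h
  rw [h'] at hr ⊢
  have : 0 < z := by exact_mod_cast hr
  exact_mod_cast this

theorem prod_int {χ : G → ℂ} (hχ : IsCharacter G χ) (s : Finset G)
    (hs : ∀ g : G, ∀ k : ℕ, k.Coprime (Nat.card G) → (g ^ k ∈ s ↔ g ∈ s)) :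
    ∃ z : ℤ, ∏ u ∈ s, χ u * conj (χ u) = z := by
  classical
  let g : s → G := fun u => (u : G)
  let Φ : (s → G) → ℂ := ∏ u : s, fun f : s → G => χ (f u) * conj (χ (f u))
  have hΦ : IsCharacter (s → G) Φ := Spec.isChar_prod _ _ fun u _ =>
    IsChar.comp (Pi.evalMonoidHom (fun _ : s => G) u) (IsChar.mul hχ (IsChar.conj hχ))
  have hval : ∀ f : G → G, Φ (fun u : s => f u) = ∏ u ∈ s, χ (f u) * conj (χ (f u)) := fun f => by
    simp only [Φ, Finset.prod_apply]
    exact Finset.prod_coe_sort s (fun u => χ (f u) * conj (χ (f u)))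
  obtain ⟨z, hz⟩ := IsChar.exists_int_of_fixed hΦ g fun k hk => by
    have hd : orderOf g ∣ Nat.card G := orderOf_dvd_of_pow_eq_one (funext fun u => pow_card_eq_one')
    obtain ⟨k', hk', hkk⟩ := exists_coprime_lift Nat.card_pos hd hk
    rw [← pow_eq_pow_iff_modEq.2 hkk, show g ^ k' = fun u : s => (u : G) ^ k' from rfl,
      hval (fun u => u ^ k'), show Φ g = _ from hval (fun u => u)]
    exact Finset.prod_equiv (powCoprime hk'.symm) (fun u => (hs u k' hk').symm) fun u _ => rfl
  exact ⟨z, by rw [← hz]; exact (hval fun u => u).symm⟩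

/-- The average of the squared absolute values over a Galois stable set of nonzero values is at
least one. -/
theorem card_le_sum {χ : G → ℂ} (hχ : IsCharacter G χ) (s : Finset G)
    (hs : ∀ g : G, ∀ k : ℕ, k.Coprime (Nat.card G) → (g ^ k ∈ s ↔ g ∈ s))
    (hne : ∀ u ∈ s, χ u ≠ 0) :
    (s.card : ℝ) ≤ ∑ u ∈ s, Complex.normSq (χ u) := by
  obtain ⟨z, hz⟩ := prod_int hχ s hs
  have hpos : ∀ u ∈ s, 0 < Complex.normSq (χ u) := fun u hu => Complex.normSq_pos.2 (hne u hu)
  refine (card_le_of_prod s _ hpos (one_le_of_int (z := z) ?_ (Finset.prod_pos hpos))).1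
  rw [← hz, Complex.ofReal_prod]
  exact Finset.prod_congr rfl fun u _ => (Complex.mul_conj (χ u)).symm

/-- The column of an element at which no irreducible character vanishes. -/
theorem column_bound (g : G) (hne : ∀ χ : IrrCharacter G, (χ : G → ℂ) g ≠ 0) :
    Nat.card (IrrCharacter G) ≤ Nat.card (Subgroup.centralizer ({g} : Set G)) ∧
      (Nat.card (IrrCharacter G) = Nat.card (Subgroup.centralizer ({g} : Set G)) →
        ∀ χ : IrrCharacter G, ‖(χ : G → ℂ) g‖ = 1) := by
  classical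
  let Φ : G → ℂ := ∏ χ : IrrCharacter G, fun v : G => (χ : G → ℂ) v * conj ((χ : G → ℂ) v)
  have hΦ : IsCharacter G Φ := Spec.isChar_prod _ _ fun χ _ =>
    IsChar.mul (IsIrr.isCharacter χ.2) (IsChar.conj (IsIrr.isCharacter χ.2))
  obtain ⟨z, hz⟩ := IsChar.exists_int_of_fixed hΦ g fun k hk => by
    obtain ⟨k', hk', hkk⟩ := exists_coprime_lift Nat.card_pos (orderOf_dvd_natCard g) hk
    rw [← pow_eq_pow_iff_modEq.2 hkk]
    obtain ⟨σ, hσ⟩ := exists_galois (G := G) k' hk'
    simp only [Φ, Finset.prod_apply]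
    let f : IrrCharacter G → IrrCharacter G := fun χ => ⟨fun v => (χ : G → ℂ) (v ^ k'), IsIrr.pow_map χ.2 hk'⟩
    have hf : Function.Injective f := fun a b h => by
      refine Subtype.ext (funext fun v => ?_)
      obtain ⟨w, rfl⟩ := (powCoprime hk'.symm).surjective v
      exact congrFun (congrArg Subtype.val h) w
    exact Fintype.prod_equiv (Equiv.ofBijective f (Finite.injective_iff_bijective.1 hf)) _ _
      fun χ => rfl
  have hpos : ∀ χ : IrrCharacter G, 0 < Complex.normSq ((χ : G → ℂ) g) := fun χ =>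
    Complex.normSq_pos.2 (hne χ)
  have hsum : ∑ χ : IrrCharacter G, Complex.normSq ((χ : G → ℂ) g) =
      (Nat.card (Subgroup.centralizer ({g} : Set G)) : ℝ) := by
    have h := sum_irr_mul_conj g g
    rw [if_pos (IsConj.refl g)] at h
    simp only [Complex.mul_conj] at h
    exact_mod_cast h
  have h := card_le_of_prod Finset.univ (fun χ : IrrCharacter G => Complex.normSq ((χ : G → ℂ) g))
    (fun χ _ => hpos χ) (one_le_of_int (z := z) (by
      rw [← hz, Complex.ofReal_prod]
      simp only [Φ, Finset.prod_apply]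
      exact Finset.prod_congr rfl fun u _ => (Complex.mul_conj _).symm)
      (Finset.prod_pos fun χ _ => hpos χ))
  rw [hsum, Finset.card_univ, ← Nat.card_eq_fintype_card] at h
  refine ⟨by exact_mod_cast h.1, fun he χ => ?_⟩
  have := h.2 (by exact_mod_cast he.symm) χ (Finset.mem_univ _)
  rwa [Complex.normSq_eq_norm_sq, sq_eq_one_iff, or_iff_left (fun h' => by
    linarith [norm_nonneg ((χ : G → ℂ) g)])] at this

end Cfsg.Agent.Char.NormAvg
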