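import Cfsg.Agent.Lib.Char.DefectOneGalois
import Mathlib.Data.Nat.ChineseRemainder

/-!
Blocks with a Sylow subgroup of order `p`: the exceptional characters form one class under the
automorphisms fixing the roots of unity of order prime to `p`.
-/

open scoped ComplexConjugate

namespace Cfsg.Agent.Char.DefectOne

open Cfsg Cfsg.Agent.Block Cfsg.Agent.Char.BP Cfsg.Agent.Char.Spec

set_option linter.unusedSectionVars false
set_option linter.style.haveILetI false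
set_option maxHeartbeats 800000

universe u

variable {G : Type u} [Group G] [Fintype G] {p : ℕ} [hp : Fact p.Prime] {M : Ideal AlgInt}

open scoped Classical in
/-- The sum over a coset. -/
noncomputable def cosum (R : Subgroup (ZMod p)ˣ) (q : (ZMod p)ˣ ⧸ R) (i : ZMod p) : ℂ :=
  ∑ j : (ZMod p)ˣ, if (j : (ZMod p)ˣ ⧸ R) = q then ψc (i * (j : ZMod p)) else 0

theorem cosum_smul (R : Subgroup (ZMod p)ˣ) (q : (ZMod p)ˣ ⧸ R) (s : (ZMod p)ˣ) (i : ZMod p) :
    cosum R q (i * (s : ZMod p)) = cosum R ((s : (ZMod p)ˣ ⧸ R) * q) i := by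
  classical
  refine Fintype.sum_equiv (Equiv.mulLeft s) _ _ fun j => ?_
  rw [Equiv.coe_mulLeft, QuotientGroup.mk_mul]
  simp only [mul_right_inj, Units.val_mul, mul_assoc]

theorem cosum_inj (R : Subgroup (ZMod p)ˣ) {q q' : (ZMod p)ˣ ⧸ R}
    (h : ∀ i : ZMod p, i ≠ 0 → cosum R q i = cosum R q' i) : q = q' := by
  classical
  have hzero : cosum R q 0 = cosum R q' 0 := by
    have := cosum_smul R q (Quotient.out (q' * q⁻¹)) 0
    rwa [zero_mul, QuotientGroup.out_eq', inv_mul_cancel_right] at this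
  have hinv : ∀ (r : (ZMod p)ˣ ⧸ R) (l : (ZMod p)ˣ),
      ∑ i : ZMod p, ψc (-(i * (l : ZMod p))) * cosum R r i =
        if (l : (ZMod p)ˣ ⧸ R) = r then (p : ℂ) else 0 := by
    intro r l
    simp only [cosum, Finset.mul_sum, mul_ite, mul_zero, ← AddChar.map_add_eq_mul]
    rw [Finset.sum_comm, Finset.sum_congr rfl (g := fun j : (ZMod p)ˣ =>
      if (j : (ZMod p)ˣ ⧸ R) = r then (if j = l then (p : ℂ) else 0) else 0) fun j _ => ?_]
    · rw [Finset.sum_eq_single l]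
      · rw [if_pos rfl]
      · intro j _ hj
        rw [if_neg hj, ite_self]
      · exact fun h => absurd (Finset.mem_univ _) h
    · split
      · rw [Finset.sum_congr rfl (g := fun i => ψc (i * ((j : ZMod p) - (l : ZMod p)))) fun i _ => by
          ring_nf, ψc_sum]
        simp only [sub_eq_zero, Units.val_inj]
      · simp
  have h1 := hinv q q.out
  have h2 := hinv q' q.out
  rw [Finset.sum_congr rfl (g := fun i => ψc (-(i * ((q.out : (ZMod p)ˣ) : ZMod p))) * cosum R q i)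
    fun i _ => by
      by_cases hi : i = 0
      · rw [hi, hzero]
      · rw [h i hi], h1, QuotientGroup.out_eq', if_pos rfl] at h2
  by_contra hne
  rw [if_neg hne] at h2
  exact Nat.cast_ne_zero.2 hp.out.ne_zero h2

/-- The automorphism raising the roots of unity of order `p` to a given power. -/
theorem exists_sigma (hfac : (Nat.card G).factorization p = 1) (s : (ZMod p)ˣ) :
    ∃ σ : ℂ ≃+* ℂ, FixesRoots p G σ ∧ ∀ z : ZMod p, σ (ψc z) = ψc ((s : ZMod p) * z) := by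
  have hn := Nat.ordProj_mul_ordCompl_eq_self (Nat.card G) p
  rw [hfac, pow_one] at hn
  have hpp : pp' p G = Nat.card G / p := by rw [pp', hfac, pow_one]
  have hcop : Nat.Coprime (Nat.card G / p) p := by
    have := Nat.coprime_ordCompl hp.out (Nat.card_pos (α := G)).ne'
    rw [hfac, pow_one] at this
    exact this.symm
  obtain ⟨k, hk1, hk2⟩ := Nat.chineseRemainder hcop 1 ((s : ZMod p).val)
  have hks : (k : ZMod p) = (s : ZMod p) := by
    rw [← ZMod.natCast_zmod_val (s : ZMod p)]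
    exact (ZMod.natCast_eq_natCast_iff _ _ _).2 hk2
  have hkc : k.Coprime (Nat.card G) := by
    rw [← hn]
    refine Nat.Coprime.mul_right ?_ ?_
    · refine (hp.out.coprime_iff_not_dvd.2 fun h => s.ne_zero ?_).symm
      rw [← hks]
      exact (ZMod.natCast_eq_zero_iff _ _).2 h
    · exact (Nat.ModEq.gcd_eq hk1).trans (Nat.gcd_one_left _)
  obtain ⟨σ, hσ⟩ := exists_ringAut_pow (Nat.card G) k Nat.card_pos hkc
  refine ⟨σ, fun ζ hζ => ?_, fun z => ?_⟩
  · rw [hpp] at hζ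
    rw [hσ ζ (by rw [← hn, mul_comm, pow_mul, hζ, one_pow]),
      pow_eq_pow_mod k hζ, show k % (Nat.card G / p) = 1 % (Nat.card G / p) from hk1,
      ← pow_eq_pow_mod 1 hζ, pow_one]
  · have hzp : (ψc z) ^ p = 1 := by
      rw [← AddChar.map_nsmul_eq_pow, nsmul_eq_mul, ZMod.natCast_self, zero_mul,
        AddChar.map_zero_eq_one]
    rw [hσ _ (by rw [← hn, pow_mul, hzp, one_pow]), ← AddChar.map_nsmul_eq_pow, nsmul_eq_mul, hks]

variable {P : Subgroup G} {b : Set (IrrCharacter (CG P))} {θ : IrrCharacter (CG P)}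
variable {B : Set (IrrCharacter G)} {T : Subgroup G} {u₀ : G} {R : Subgroup (ZMod p)ˣ}
  {X : Finset (IrrCharacter G)} {y : (ZMod p)ˣ ⧸ R → IrrCharacter G} {c : IrrCharacter G → ℤ}
  {ε : ℤ}

theorem twist_Y (hM : IsPModular p M) (hPp : Nat.card P = p) (hsyl : ¬ p ∣ P.index) (hθ : θ ∈ b)
    (hθP : ∀ x : CG P, (x : G) ∈ P → (θ : CG P → ℂ) x = (θ : CG P → ℂ) 1)
    (haB : OfB p M B (⟨P, b⟩ : BrauerPairIdx G))
    (hT : ∀ g : G, g ∈ T ↔ (g ∈ Subgroup.normalizer (P : Set G) ∧ ∀ c c' : CG P,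
      (c' : G) = g * c * g⁻¹ → (θ : CG P → ℂ) c' = (θ : CG P → ℂ) c))
    (hu₀ : u₀ ∈ P) (hu₁ : u₀ ≠ 1) (hD : Data M P B b θ T u₀ R X y c ε) {σ : ℂ ≃+* ℂ}
    (hσ : FixesRoots p G σ) (q : (ZMod p)ˣ ⧸ R) : ∃ q', twist σ (y q) = y q' := by
  rcases (hD.mem_iff _).1 (twist_mem hM haB.2.1 hσ ((hD.mem_iff _).2 (Or.inr ⟨q, rfl⟩))) with h | h
  · exfalso
    have h1 := twist_X hM hPp hsyl hθ hθP haB hT hu₀ hu₁ hD hσ.symm h
    rw [twist_symm] at h1
    exact hD.disj q (h1 ▸ h)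
  · obtain ⟨q', hq'⟩ := h
    exact ⟨q', hq'.symm⟩

/-- The exceptional characters are conjugate. -/
theorem exists_twist (hM : IsPModular p M) (hPp : Nat.card P = p) (hsyl : ¬ p ∣ P.index)
    (hθ : θ ∈ b) (hθP : ∀ x : CG P, (x : G) ∈ P → (θ : CG P → ℂ) x = (θ : CG P → ℂ) 1)
    (haB : OfB p M B (⟨P, b⟩ : BrauerPairIdx G))
    (hT : ∀ g : G, g ∈ T ↔ (g ∈ Subgroup.normalizer (P : Set G) ∧ ∀ c c' : CG P,
      (c' : G) = g * c * g⁻¹ → (θ : CG P → ℂ) c' = (θ : CG P → ℂ) c))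
    (hu₀ : u₀ ∈ P) (hu₁ : u₀ ≠ 1) (hD : Data M P B b θ T u₀ R X y c ε)
    (hfac : (Nat.card G).factorization p = 1) (q q' : (ZMod p)ˣ ⧸ R) :
    ∃ σ : ℂ ≃+* ℂ, FixesRoots p G σ ∧ twist σ (y q) = y q' := by
  classical
  obtain ⟨s, hs⟩ := QuotientGroup.mk_surjective (q' * q⁻¹)
  obtain ⟨σ, hσ, hσψ⟩ := exists_sigma (G := G) hfac s
  obtain ⟨r, hr⟩ := twist_Y hM hPp hsyl hθ hθP haB hT hu₀ hu₁ hD hσ q
  refine ⟨σ, hσ, ?_⟩
  rw [hr]
  congr 1
  refine cosum_inj R fun i hi => ?_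
  have h1 : (1 : CG P) = 1 → ¬ p ∣ orderOf (1 : CG P) := fun _ => by
    rw [orderOf_one]; exact hp.out.not_dvd_one
  have hL := hD.sct_Y r i hi 1 (h1 rfl)
  have hR := hD.sct_Y q i hi 1 (h1 rfl)
  have hmap := map_sct hM haB.1.2 hσ (y q) (pw u₀ i) ((1 : CG P) : G)
  rw [hr, hL, hR] at hmap
  have hσcos : σ (cosum R q i) = cosum R q' i := by
    rw [show q' = (s : (ZMod p)ˣ ⧸ R) * q by rw [hs, inv_mul_cancel_right], ← cosum_smul, cosum,
      map_sum]
    refine Finset.sum_congr rfl fun j _ => ?_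
    split
    · rw [hσψ]
      ring_nf
    · exact map_zero σ
  change (ε : ℂ) * cosum R r i * _ = σ ((ε : ℂ) * cosum R q i * _) at hmap
  rw [map_mul, map_mul, map_intCast, hσcos, charDeg_spec', map_natCast] at hmap
  refine mul_left_cancel₀ ?_ (mul_right_cancel₀ ?_ hmap)
  · exact Int.cast_ne_zero.2 (by rcases hD.ε_sign with h | h <;> rw [h] <;> decide)
  · exact Nat.cast_ne_zero.2 (charDeg_pos θ).ne'

end Cfsg.Agent.Char.DefectOne
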