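import Cfsg.Agent.Lib.Block.PiKernel
import Cfsg.Agent.Lib.Char.DefectOneBasics

/-!
A block of positive defect when `p` divides the order exactly once: the subgroup, the pair, the
canonical character and the stabilizer.
-/

namespace Cfsg.Agent.Char.DefectOne

open Cfsg Cfsg.Agent.Block Cfsg.Agent.Char.BP Cfsg.Agent.Char.Spec

set_option linter.unusedSectionVars false
set_option linter.style.haveILetI false

universe u

variable {G : Type u} [Group G] [Fintype G] {p : ℕ} [hp : Fact p.Prime] {M : Ideal AlgInt}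

theorem exists_setup (hM : IsPModular p M) {B : Set (IrrCharacter G)} (hB : IsPBlock M B)
    (hd : blockDefect p B ≠ 0) (hfac : (Nat.card G).factorization p = 1) :
    ∃ (P : Subgroup G) (b : Set (IrrCharacter (CG P))) (θ : IrrCharacter (CG P)) (T : Subgroup G)
      (u₀ : G), Nat.card P = p ∧ ¬ p ∣ P.index ∧ θ ∈ b ∧
      (∀ x : CG P, (x : G) ∈ P → (θ : CG P → ℂ) x = (θ : CG P → ℂ) 1) ∧
      OfB p M B (⟨P, b⟩ : BrauerPairIdx G) ∧
      (∀ g : G, g ∈ T ↔ (g ∈ Subgroup.normalizer (P : Set G) ∧ ∀ c c' : CG P,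
        (c' : G) = g * c * g⁻¹ → (θ : CG P → ℂ) c' = (θ : CG P → ℂ) c)) ∧
      u₀ ∈ P ∧ u₀ ≠ 1 := by
  classical
  obtain ⟨P, hD⟩ := exists_isDefectGroup hM hB
  have hd1 : blockDefect p B = 1 := by
    rw [blockDefect] at hd ⊢
    omega
  have hPp : Nat.card P = p := by rw [card_defectGroup hM hB hD, hd1, pow_one]
  have hsyl : ¬ p ∣ P.index := fun h => by
    have h2 : p * p ∣ Nat.card G := by
      rw [← P.card_mul_index, hPp]
      exact mul_dvd_mul_left p h
    rw [← sq, hp.out.pow_dvd_iff_le_factorization Nat.card_pos.ne', hfac] at h2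
    omega
  obtain ⟨b, hb⟩ := exists_max_at_defect hM hB hD
  -- the canonical character
  letI := Fintype.ofFinite (CG P)
  have hbB : IsPBlock M b := hb.1.1.2
  have hPC : P ≤ CG P := le_cg hPp
  set P' := P.subgroupOf (CG P) with hP'
  have hc' : ∀ d ∈ P', ∀ g : CG P, d * g = g * d := fun d hd g =>
    Subtype.ext (Subgroup.mem_centralizer_iff.1 g.2 (d : G) hd)
  haveI : P'.Normal := ⟨fun d hd g => by rwa [← hc' d hd g, mul_inv_cancel_right]⟩
  have hcard' : Nat.card P' = p := by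
    rw [Nat.card_congr (Subgroup.subgroupOfEquivOfLe hPC).toEquiv, hPp]
  obtain ⟨D, hDb⟩ := exists_isDefectGroup hM hbB
  have hle : P' ≤ D := normal_le_defectGroup hM hbB hDb
    (IsPGroup.of_card (n := 1) (by rw [hcard', pow_one]))
  have hDeq : P' = D := by
    refine Subgroup.eq_of_le_of_card_ge hle ?_
    obtain ⟨a, ha⟩ := (IsDefectGroup.isPGroup hDb).exists_card_eq
    rw [ha, hcard']
    rcases Nat.lt_or_ge a 2 with h | h
    · exact le_trans (Nat.pow_le_pow_right hp.out.pos (Nat.le_of_lt_succ h)) (pow_one p).le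
    · exfalso
      have h2 : p * p ∣ Nat.card G :=
        ((sq p ▸ pow_dvd_pow p h).trans (ha ▸ Subgroup.card_subgroup_dvd_card D)).trans
          (Subgroup.card_subgroup_dvd_card (CG P))
      rw [← P.card_mul_index, hPp] at h2
      exact hsyl ((Nat.mul_dvd_mul_iff_left hp.out.pos).1 h2)
  subst hDeq
  obtain ⟨⟨θ, ⟨hθ, hθP⟩, -⟩, -⟩ := sup_centralizer_block hM
    (eq_top_iff.2 fun g _ => Subgroup.mem_sup_right
      (Subgroup.mem_centralizer_iff.2 fun d hd => hc' d hd g)) hbB hDb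
  have hθP' : ∀ x : CG P, (x : G) ∈ P → (θ : CG P → ℂ) x = (θ : CG P → ℂ) 1 :=
    fun x hx => hθP x hx
  obtain ⟨u₀, hu₀, hu₁⟩ : ∃ u ∈ P, u ≠ 1 := by
    refine (Subgroup.bot_or_exists_ne_one P).resolve_left fun h => hp.out.one_lt.ne ?_
    rw [← hPp, h, Subgroup.card_bot]
  exact ⟨P, b, θ, stab (⟨P, b⟩ : BrauerPairIdx G), u₀, hPp, hsyl, hθ, hθP', hb.1,
    fun g => mem_stab_theta hM hPp hsyl hθ hθP' hbB g, hu₀, hu₁⟩

end Cfsg.Agent.Char.DefectOne
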