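import Cfsg.Agent.Lib.Char.SelfCentPrime
import Cfsg.Agent.Lib.Char.DefectOneSetup
import Cfsg.Agent.Lib.Char.ModP

/-!
An element of prime order equal to its own centralizer: the characters not vanishing there.
-/

namespace Cfsg.Agent.Char.SCP

open scoped ComplexConjugate
open Cfsg Cfsg.Agent.Block Cfsg.Agent.Char Cfsg.Agent.Char.BP Cfsg.Agent.Char.DefectOne

set_option linter.style.haveILetI false

universe u

/-- The squared norms of the periods. -/
theorem period_norm {p : ℕ} [hp : Fact p.Prime] (R : Subgroup (ZMod p)ˣ)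
    [Fintype ((ZMod p)ˣ ⧸ R)] {i : ZMod p} (hi : i ≠ 0) :
    ∑ q : (ZMod p)ˣ ⧸ R, (open Classical in
        ∑ j : (ZMod p)ˣ, if (j : (ZMod p)ˣ ⧸ R) = q then ψc (i * (j : ZMod p)) else 0) *
      conj (open Classical in
        ∑ j : (ZMod p)ˣ, if (j : (ZMod p)ˣ ⧸ R) = q then ψc (i * (j : ZMod p)) else 0) =
      (p : ℂ) - (Nat.card R : ℂ) := by
  classical
  simp only [map_sum, apply_ite (starRingEnd ℂ), map_zero, ψc_conj, Finset.sum_mul_sum]
  rw [Finset.sum_comm]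
  have h1 : ∀ j : (ZMod p)ˣ, ∑ q : (ZMod p)ˣ ⧸ R, ∑ j' : (ZMod p)ˣ,
      (if (j : (ZMod p)ˣ ⧸ R) = q then ψc (i * (j : ZMod p)) else 0) *
        (if (j' : (ZMod p)ˣ ⧸ R) = q then ψc (-(i * (j' : ZMod p))) else 0) =
      ∑ r : R, ψc ((j : ZMod p) * (i * (1 - ((r : (ZMod p)ˣ) : ZMod p)))) := by
    intro j
    rw [Finset.sum_eq_single (j : (ZMod p)ˣ ⧸ R)
      (fun q _ hq => Finset.sum_eq_zero fun j' _ => by rw [if_neg (Ne.symm hq), zero_mul])
      (fun h => absurd (Finset.mem_univ _) h)]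
    simp only [if_true, mul_ite, mul_zero, ← Finset.sum_filter]
    refine (Finset.sum_bij (fun (r : R) _ => j * (r : (ZMod p)ˣ)) (fun r _ => ?_)
      (fun r _ r' _ e1 => Subtype.ext (mul_left_cancel e1)) (fun j' hj' => ?_) fun r _ => ?_).symm
    · rw [Finset.mem_filter]
      exact ⟨Finset.mem_univ _, QuotientGroup.mk_mul_of_mem j r.2⟩
    · rw [Finset.mem_filter] at hj'
      exact ⟨⟨j⁻¹ * j', QuotientGroup.eq.1 hj'.2.symm⟩, Finset.mem_univ _, mul_inv_cancel_left _ _⟩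
    · rw [← AddChar.map_add_eq_mul, Units.val_mul]
      congr 1
      ring
  rw [Finset.sum_congr rfl fun j _ => h1 j, Finset.sum_comm]
  have h2 : ∀ r : R, ∑ j : (ZMod p)ˣ, ψc ((j : ZMod p) * (i * (1 - ((r : (ZMod p)ˣ) : ZMod p)))) =
      (if r = 1 then (p : ℂ) else 0) - 1 := by
    intro r
    set a := i * (1 - ((r : (ZMod p)ˣ) : ZMod p))
    have ha : a = 0 ↔ r = 1 := by
      simp only [a, mul_eq_zero, hi, false_or, sub_eq_zero]
      exact ⟨fun e1 => Subtype.ext (Units.ext e1.symm), fun e1 => by rw [e1]; rfl⟩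
    have h3 : ∑ j : (ZMod p)ˣ, ψc ((j : ZMod p) * a) =
        ∑ x ∈ Finset.univ.erase (0 : ZMod p), ψc (x * a) := by
      refine Finset.sum_bij (fun (j : (ZMod p)ˣ) _ => (j : ZMod p)) (fun j _ => by simp)
        (fun j _ j' _ e1 => Units.ext e1) (fun x hx => ?_) fun j _ => rfl
      exact ⟨Units.mk0 x (Finset.ne_of_mem_erase hx), Finset.mem_univ _, rfl⟩
    rw [h3, Finset.sum_erase_eq_sub (Finset.mem_univ _), ψc_sum, zero_mul, AddChar.map_zero_eq_one]
    simp only [ha]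
  rw [Finset.sum_congr rfl fun r _ => h2 r, Finset.sum_sub_distrib, Finset.sum_ite_eq' Finset.univ,
    if_pos (Finset.mem_univ _), Finset.sum_const, Finset.card_univ, nsmul_one,
    Nat.card_eq_fintype_card]

variable {G : Type u} [Group G] [Fintype G] {p : ℕ} [hp : Fact p.Prime] {x : G}

/-- The characters which do not vanish at `x`, and their degrees. -/
structure Chars (p : ℕ) (e : ℕ) (X Y : Finset (IrrCharacter G)) (c : IrrCharacter G → ℤ) (ε : ℤ) :
    Prop where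
  card_X : X.card = e
  card_Y : Y.card * e = p - 1
  disj : Disjoint X Y
  trivial_mem : trivialIrr G ∈ X ∪ Y
  ε_sign : ε = 1 ∨ ε = -1
  c_sign : ∀ χ ∈ X, c χ = 1 ∨ c χ = -1
  value : ∀ χ ∈ X, ∀ g : G, orderOf g = p → (χ : G → ℂ) g = -(c χ : ℂ)
  value_Y : e = p - 1 → ∀ χ ∈ Y, ∀ g : G, orderOf g = p → (χ : G → ℂ) g = -(ε : ℂ)
  deg_X : ∀ χ ∈ X, (charDegree (χ : G → ℂ) : ℤ) ≡ -c χ [ZMOD p]
  deg_Y : ∀ χ ∈ Y, (charDegree (χ : G → ℂ) : ℤ) ≡ ε * (e : ℤ) [ZMOD p]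
  vanish : ∀ χ ∉ X ∪ Y, ∀ g : G, orderOf g = p → (χ : G → ℂ) g = 0
  dvd_deg : ∀ χ ∉ X ∪ Y, p ∣ charDegree (χ : G → ℂ)
  regular : ∀ ψ ∈ Y, ∀ g : G, ¬ p ∣ orderOf g →
    ∑ χ ∈ X, (c χ : ℂ) * (χ : G → ℂ) g + (ε : ℂ) * (ψ : G → ℂ) g = 0

theorem exists_chars (h : Hyp p x) :
    ∃ (X Y : Finset (IrrCharacter G)) (c : IrrCharacter G → ℤ) (ε : ℤ),
      Chars p (e x) X Y c ε := by
  classical
  obtain ⟨M, hM⟩ := exists_isPModular p hp.out
  set B := principalBlock M G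
  have htriv : trivialIrr G ∈ B := trivial_mem_principalBlock hM
  have hfac := fac h
  have hd : blockDefect p B ≠ 0 := by
    have hd1 : charDegree ((trivialIrr G : IrrCharacter G) : G → ℂ) = 1 := by
      have h1 := charDeg_spec' (trivialIrr G)
      rw [show ((trivialIrr G : IrrCharacter G) : G → ℂ) = fun _ => 1 from rfl] at h1 ⊢
      exact Nat.cast_injective (R := ℂ) (h1.symm.trans Nat.cast_one.symm)
    have hz : sInf ((fun ψ : IrrCharacter G => (charDegree (ψ : G → ℂ)).factorization p) '' B) = 0 :=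
      Nat.le_zero.1 (Nat.sInf_le ⟨_, htriv, by simp [hd1]⟩)
    rw [blockDefect, hz, hfac, Nat.sub_zero]
    exact one_ne_zero
  have hB : IsPBlock M B := isPBlock_principalBlock
  obtain ⟨P', b, θ, T, u₀, hPp, hsyl, hθ, hθP, haB, hT, hu₀, hu₁⟩ := exists_setup hM hB hd hfac
  obtain ⟨R, Xs, y, c, ε, hD⟩ := exists_data hM hPp hsyl hθ hθP hB haB hd hT hu₀ hu₁
  have h' : Hyp p u₀ := hyp_of_ord h (orderOf_gen hPp hu₀ hu₁)
  obtain rfl : P' = Subgroup.zpowers u₀ := (mem_zpowers_of_prime hPp hu₀ hu₁).symm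
  have hCG : CG (Subgroup.zpowers u₀) = Subgroup.zpowers u₀ := cent_P h'
  have hθc : ∀ v : CG (Subgroup.zpowers u₀), (θ : CG (Subgroup.zpowers u₀) → ℂ) v =
      (θ : CG (Subgroup.zpowers u₀) → ℂ) 1 := fun v =>
    hθP v (by simpa only [hCG] using v.2)
  have hθ1 : (θ : CG (Subgroup.zpowers u₀) → ℂ) 1 = 1 := IsIrr.one_of_comm (fun a b => by
    have hb' : (b : G) ∈ Subgroup.zpowers u₀ := by simpa only [hCG] using b.2
    exact Subtype.ext (Subgroup.mem_centralizer_iff.1 a.2 (b : G) hb').symm) θ.2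
  have hθd : charDegree (θ : CG (Subgroup.zpowers u₀) → ℂ) = 1 :=
    Nat.cast_injective (R := ℂ) ((charDeg_spec' θ).symm.trans (hθ1.trans Nat.cast_one.symm))
  have hTN : T = Subgroup.normalizer (Subgroup.zpowers u₀ : Set G) := by
    ext g
    rw [hT]
    exact ⟨fun hg => hg.1, fun hg => ⟨hg, fun v v' _ => by rw [hθc v, hθc v']⟩⟩
  have he : (CG (Subgroup.zpowers u₀)).relIndex T = e x := by
    have h1 : (CG (Subgroup.zpowers u₀)).relIndex T = e u₀ := by rw [hCG, hTN]; rfl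
    rw [h1]
    have h2 := classes_mul_e h
    have h3 := classes_mul_e h'
    rw [← h2] at h3
    refine Nat.eq_of_mul_eq_mul_left (Nat.pos_of_ne_zero fun h4 => ?_) h3
    rw [h4, zero_mul] at h2
    have := hp.out.two_le
    omega
  obtain ⟨hdX, hdY⟩ := degrees hM hPp hsyl hθ hθP haB hT hu₀ hu₁ hD
  obtain ⟨hcnt, -, hquot⟩ := counts hD
  set N' := Subgroup.normalizer (Subgroup.zpowers u₀ : Set G) with hN'
  have hrel : T.relIndex N' = 1 := by rw [hTN, Subgroup.relIndex_self]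
  rw [hrel, hθd, he] at hdY
  rw [hrel, hθd] at hdX
  letI : Fintype (N' ⧸ T.subgroupOf N') := Fintype.ofFinite _
  haveI : Subsingleton (N' ⧸ T.subgroupOf N') := by
    rw [hTN, Subgroup.subgroupOf_self]
    exact QuotientGroup.subsingleton_quotient_top
  let q₀ : N' ⧸ T.subgroupOf N' := ((1 : N') : N' ⧸ T.subgroupOf N')
  have huniv : (Finset.univ : Finset (N' ⧸ T.subgroupOf N')) = {q₀} :=
    Finset.eq_singleton_iff_unique_mem.2 ⟨Finset.mem_univ _, fun q _ => Subsingleton.elim _ _⟩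
  have h1r : ¬ p ∣ orderOf (1 : CG (Subgroup.zpowers u₀)) := by
    rw [orderOf_one]; exact hp.out.not_dvd_one
  have hconj : ∀ g : G, orderOf g = p → ∃ a ∈ Subgroup.zpowers u₀, a ≠ 1 ∧
      ∀ χ : IrrCharacter G, (χ : G → ℂ) g = (χ : G → ℂ) a := by
    intro g hg
    obtain ⟨k, hk⟩ := exists_conj_mem h' hg
    refine ⟨_, hk, fun e1 => ?_, fun χ => IsClass.eq_of_isConj (irr_classFun χ) (isConj_iff.2 ⟨k, rfl⟩)⟩
    have : g = 1 := by simpa [mul_inv_eq_one] using e1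
    rw [this, orderOf_one] at hg
    exact hp.out.ne_one hg.symm
  -- values on the constant rows
  have hvX : ∀ χ ∈ Xs, ∀ a ∈ Subgroup.zpowers u₀, a ≠ 1 → (χ : G → ℂ) a = -(c χ : ℂ) := by
    intro χ hχ a ha ha1
    have h1 := value_X hM hPp hsyl hθ hθP haB hT hu₀ hu₁ hD hN'.symm.symm hχ ha ha1 h1r
    rw [OneMemClass.coe_one, mul_one] at h1
    rw [h1, huniv, Finset.sum_singleton, mul_one, inv_mul_cancel,
      extendByZero_of_mem _ (one_mem _)]
    rw [show (⟨1, one_mem _⟩ : CG (Subgroup.zpowers u₀)) = 1 from rfl, hθ1, mul_one]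
  -- values on the unit rows
  have hvY : ∀ a ∈ Subgroup.zpowers u₀, a ≠ 1 → ∃ i : ZMod p, i ≠ 0 ∧ ∀ q,
      (y q : G → ℂ) a = (ε : ℂ) * (open Classical in
        ∑ j : (ZMod p)ˣ, if (j : (ZMod p)ˣ ⧸ R) = q then ψc (i * (j : ZMod p)) else 0) := by
    intro a ha ha1
    have hz : (q₀.out : G)⁻¹ ∈ Subgroup.normalizer (Subgroup.zpowers u₀ : Set G) := inv_mem q₀.out.2
    have hx' : (q₀.out : G)⁻¹ * a * q₀.out ∈ Subgroup.zpowers u₀ := by
      simpa using (Subgroup.mem_normalizer_iff.1 hz a).1 ha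
    obtain ⟨i, hi⟩ := exists_pw hPp hu₀ hu₁ hx'
    have hi0 : i ≠ 0 := fun h0 => ha1 (by
      rw [h0, pw, ZMod.val_zero, pow_zero] at hi
      have := congrArg (fun w => (q₀.out : G) * w * (q₀.out : G)⁻¹) hi
      simpa [mul_assoc] using this.symm)
    refine ⟨i, hi0, fun q => ?_⟩
    have h1 := value_eq hM hPp hsyl haB (stab_eq hM hPp hsyl hθ hθP haB.1.2 hT) hN'.symm.symm
      ((hD.mem_iff _).2 (Or.inr ⟨q, rfl⟩)) ha ha1 (one_mem _)
      (by rw [orderOf_one]; exact hp.out.not_dvd_one)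
    rw [mul_one, huniv, Finset.sum_singleton, mul_one, inv_mul_cancel, ← hi,
      show (1 : G) = ((1 : CG (Subgroup.zpowers u₀)) : G) from rfl,
      hD.sct_Y q i hi0 1 h1r, hθ1, mul_one] at h1
    exact h1
  letI : Fintype ((ZMod p)ˣ ⧸ R) := Fintype.ofFinite _
  set Ys := Finset.univ.image y with hYs
  have hdisj : Disjoint Xs Ys := by
    rw [Finset.disjoint_left]
    intro χ hχ hχ'
    obtain ⟨q, -, rfl⟩ := Finset.mem_image.1 hχ'
    exact hD.disj q hχ
  have hzero : ∀ χ ∉ Xs ∪ Ys, ∀ g : G, orderOf g = p → (χ : G → ℂ) g = 0 := by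
    intro χ hχ g hg
    obtain ⟨a, ha, ha1, hga⟩ := hconj g hg
    rw [hga χ]
    obtain ⟨i, hi, hY⟩ := hvY a ha ha1
    have hcol := sum_irr_mul_conj a a
    rw [if_pos (IsConj.refl a), cent_of_mem h' ha ha1, card_P h'] at hcol
    have hX' : ∑ ψ ∈ Xs, (ψ : G → ℂ) a * conj ((ψ : G → ℂ) a) = (e x : ℂ) := by
      rw [Finset.sum_congr rfl (g := fun _ => (1 : ℂ)) fun ψ hψ => by
        rw [hvX ψ hψ a ha ha1]
        rcases hD.c_sign ψ hψ with h1 | h1 <;> simp [h1]]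
      rw [Finset.sum_const, hD.card_X, he, nsmul_one]
    have hY' : ∑ ψ ∈ Ys, (ψ : G → ℂ) a * conj ((ψ : G → ℂ) a) = (p : ℂ) - (e x : ℂ) := by
      rw [Finset.sum_image fun q _ q' _ e1 => hD.y_inj e1, ← he, ← hD.card_R, ← period_norm R hi]
      refine Finset.sum_congr rfl fun q _ => ?_
      rw [hY q, map_mul, map_intCast]
      rcases hD.ε_sign with h1 | h1 <;> simp [h1]
    rw [← Finset.sum_compl_add_sum (Xs ∪ Ys), Finset.sum_union hdisj, hX', hY',
      add_sub_cancel, add_eq_right] at hcol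
    have h2 : ∑ ψ ∈ (Xs ∪ Ys)ᶜ, Complex.normSq ((ψ : G → ℂ) a) = 0 := by
      apply Complex.ofReal_injective
      push_cast
      rw [← hcol]
      exact Finset.sum_congr rfl fun ψ _ => (Complex.mul_conj ((ψ : G → ℂ) a)).symm
    exact Complex.normSq_eq_zero.1 ((Finset.sum_eq_zero_iff_of_nonneg fun ψ _ => Complex.normSq_nonneg _).1
      h2 χ (Finset.mem_compl.2 hχ))
  refine ⟨Xs, Ys, c, ε, ⟨by rw [hD.card_X, he], ?_, hdisj, ?_, hD.ε_sign, hD.c_sign,
    fun χ hχ g hg => ?_, fun hep χ hχ g hg => ?_, fun χ hχ => by simpa using hdX χ hχ, fun χ hχ => ?_, hzero,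
    fun χ hχ => ?_, fun ψ hψ g hg => ?_⟩⟩
  · rw [Finset.card_image_of_injective _ hD.y_inj, Finset.card_univ, ← Nat.card_eq_fintype_card]
    have := R.card_eq_card_quotient_mul_card_subgroup
    rw [hD.card_R, he, Nat.card_eq_fintype_card, ZMod.card_units] at this
    exact this.symm
  · rcases (hD.mem_iff _).1 htriv with h1 | ⟨q, hq⟩
    · exact Finset.mem_union_left _ h1
    · exact Finset.mem_union_right _ (Finset.mem_image.2 ⟨q, Finset.mem_univ _, hq⟩)
  · obtain ⟨a, ha, ha1, hga⟩ := hconj g hg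
    rw [hga χ, hvX χ hχ a ha ha1]
  · obtain ⟨q, -, rfl⟩ := Finset.mem_image.1 hχ
    obtain ⟨a, ha, ha1, hga⟩ := hconj g hg
    obtain ⟨i, hi, hY⟩ := hvY a ha ha1
    have hR : R = ⊤ := Subgroup.eq_top_of_card_eq _ (by
      rw [hD.card_R, he, hep, Nat.card_eq_fintype_card, ZMod.card_units])
    have hq : ∀ j : (ZMod p)ˣ, (j : (ZMod p)ˣ ⧸ R) = q := fun j => by
      induction q using QuotientGroup.induction_on with | _ w => ?_
      exact QuotientGroup.eq.2 (hR ▸ Subgroup.mem_top _)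
    rw [hga, hY q, Finset.sum_congr rfl fun j _ => if_pos (hq j)]
    have h3 : ∑ j : (ZMod p)ˣ, ψc (i * (j : ZMod p)) =
        ∑ z ∈ Finset.univ.erase (0 : ZMod p), ψc (z * i) := by
      refine Finset.sum_bij (fun (j : (ZMod p)ˣ) _ => (j : ZMod p)) (fun j _ => by simp)
        (fun j _ j' _ e1 => Units.ext e1) (fun z hz => ?_) fun j _ => by rw [mul_comm]
      exact ⟨Units.mk0 z (Finset.ne_of_mem_erase hz), Finset.mem_univ _, rfl⟩
    rw [h3, Finset.sum_erase_eq_sub (Finset.mem_univ _), ψc_sum, if_neg hi, zero_mul,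
      AddChar.map_zero_eq_one]
    ring
  · obtain ⟨q, -, rfl⟩ := Finset.mem_image.1 hχ
    simpa using hdY q
  · have h0 := hzero χ hχ u₀ h'.ord
    have h1 := degree_congr hM χ (x := u₀) (z := 0) (by rw [← h'.ord, pow_orderOf_eq_one])
      (by rw [h0, Int.cast_zero, sub_zero]; exact ideal_zero hM)
    exact Int.natCast_dvd_natCast.1 (Int.modEq_zero_iff_dvd.1 h1)
  · obtain ⟨q, -, rfl⟩ := Finset.mem_image.1 hψ
    exact hD.regular q g hg

end Cfsg.Agent.Char.SCP
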