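import Cfsg.Agent.Lib.Char.SmallDegreeTools
import Cfsg.Agent.Lib.Char.DefectOneFamilies
import Cfsg.Agent.Lib.Char.PairMax

/-!
The principal section of `φ φ̄` for a member `φ` of the exceptional family.
-/

open scoped ComplexConjugate

namespace Cfsg.Agent.Char.SmallDeg

open Cfsg Cfsg.Agent.Block Cfsg.Agent.Char.BP Cfsg.Agent.Char.Spec Cfsg.Agent.Char.DefectOne

set_option linter.unusedSectionVars false
set_option linter.style.haveILetI false
set_option maxHeartbeats 800000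

universe u

variable {G : Type u} [Group G] [Fintype G] {p : ℕ} [hp : Fact p.Prime] {M : Ideal AlgInt}
variable {P : Subgroup G}

/-- The values of the principal block at the singular elements are the principal sections. -/
theorem value_principal (hM : IsPModular p M) (hPp : Nat.card P = p) {χ : IrrCharacter G}
    (hχ : χ ∈ principalBlock M G) {x : G} (hx : x ∈ P) (hx1 : x ≠ 1) {v : G} (hv : v ∈ CG P)
    (hvr : ¬ p ∣ orderOf v) :
    (χ : G → ℂ) (x * v) =
      sct (χ : G → ℂ) (⟨P, principalBlock M (CG P)⟩ : BrauerPairIdx G) x v := by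
  classical
  have hPg : IsPGroup p P := IsPGroup.of_card (n := 1) (by rw [hPp, pow_one])
  rw [value_eq_sum_blks hM P (χ : G → ℂ) x v, Finset.sum_eq_single (principalBlock M (CG P))]
  · intro b' hb' hne
    refine sct_eq_zero (a := (⟨P, b'⟩ : BrauerPairIdx G)) hM hχ isPBlock_principalBlock
      ⟨hPg, mem_blks.1 hb'⟩ (pPow_mem hPp hx) (mem_zpowers_of_prime hPp hx hx1).symm (fun h => hne ?_)
      hv hvr
    have h1 := (ofB_principal_iff hM (a := (⟨P, b'⟩ : BrauerPairIdx G)) ⟨hPg, mem_blks.1 hb'⟩).1 h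
    exact eq_of_heq (Sigma.mk.inj_iff.1 h1).2
  · exact fun h => absurd (mem_blks.2 isPBlock_principalBlock) h

variable {b : Set (IrrCharacter (CG P))} {θ : IrrCharacter (CG P)} {B : Set (IrrCharacter G)}
  {T : Subgroup G} {u₀ : G} {R : Subgroup (ZMod p)ˣ} {X : Finset (IrrCharacter G)}
  {y : (ZMod p)ˣ ⧸ R → IrrCharacter G} {c : IrrCharacter G → ℤ} {ε : ℤ}

/-- The values of an exceptional character. -/
theorem value_Y (hM : IsPModular p M) (hPp : Nat.card P = p) (hsyl : ¬ p ∣ P.index) (hθ : θ ∈ b)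
    (hθP : ∀ x : CG P, (x : G) ∈ P → (θ : CG P → ℂ) x = (θ : CG P → ℂ) 1)
    (haB : OfB p M B (⟨P, b⟩ : BrauerPairIdx G))
    (hT : ∀ g : G, g ∈ T ↔ (g ∈ Subgroup.normalizer (P : Set G) ∧ ∀ c c' : CG P,
      (c' : G) = g * c * g⁻¹ → (θ : CG P → ℂ) c' = (θ : CG P → ℂ) c))
    (hu₀ : u₀ ∈ P) (hu₁ : u₀ ≠ 1) (hD : Data M P B b θ T u₀ R X y c ε) {N : Subgroup G}
    (hN : N = Subgroup.normalizer (P : Set G)) [Fintype (N ⧸ T.subgroupOf N)]
    {r : N ⧸ T.subgroupOf N → (ZMod p)ˣ}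
    (hr : ∀ z, (z.out : G)⁻¹ * u₀ * z.out = pw u₀ (r z : ZMod p))
    (q : (ZMod p)ˣ ⧸ R) {i : ZMod p} (hi : i ≠ 0) {v : CG P} (hvr : ¬ p ∣ orderOf v) :
    (y q : G → ℂ) (pw u₀ i * (v : G)) = (ε : ℂ) * ∑ z : N ⧸ T.subgroupOf N,
      cosum R q (i * (r z : ZMod p)) *
        extendByZero (CG P) (θ : CG P → ℂ) ((z.out : G)⁻¹ * v * z.out) := by
  classical
  rw [value_eq hM hPp hsyl haB (stab_eq hM hPp hsyl hθ hθP haB.1.2 hT) hN
    ((hD.mem_iff _).2 (Or.inr ⟨q, rfl⟩)) (pw_mem hPp hu₀ hu₁ i) (pw_ne_one hPp hu₀ hu₁ hi) v.2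
    (by rwa [Subgroup.orderOf_coe]), Finset.mul_sum]
  refine Finset.sum_congr rfl fun z _ => ?_
  have hz : (z.out : G)⁻¹ ∈ Subgroup.normalizer (P : Set G) := inv_mem (hN ▸ z.out.2)
  set w : CG P := centEquiv hz v
  have hw : (w : G) = (z.out : G)⁻¹ * v * z.out := by rw [centEquiv_val, inv_inv]
  have hwr : ¬ p ∣ orderOf w := by rwa [MulEquiv.orderOf_eq]
  have hx : (z.out : G)⁻¹ * pw u₀ i * z.out = pw u₀ (i * (r z : ZMod p)) := by
    have := conj_pw hPp hu₀ hu₁ (x := (z.out : G)⁻¹) (r := (r z : ZMod p)) (by rw [inv_inv]; exact hr z) i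
    rw [inv_inv] at this
    rw [this, mul_comm]
  rw [← hw, hx, hD.sct_Y q _ (mul_ne_zero hi (r z).ne_zero) w hwr, extendByZero_of_mem _ w.2,
    mul_assoc]
  rfl

/-- The principal block of the centralizer. -/
theorem principal_coeff (hM : IsPModular p M) (hPp : Nat.card P = p) (hsyl : ¬ p ∣ P.index)
    {v : CG P} (hv : ¬ p ∣ orderOf v) :
    blockCoeff (principalBlock M (CG P)) v = (p : ℂ) / (Nat.card (CG P) : ℂ) := by
  classical
  letI := Fintype.ofFinite (CG P)
  obtain ⟨hcard, -, hreg⟩ := local_block hM hPp hsyl (isPBlock_principalBlock (M := M))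
    (θ := trivialIrr (CG P)) (trivial_mem_principalBlock hM) fun _ _ => rfl
  rw [blockCoeff, finsum_mem_block, Finset.sum_congr rfl (g := fun _ => (1 : ℂ)) fun ξ hξ => by
    obtain ⟨-, hξb⟩ := Finset.mem_filter.1 hξ
    rw [hreg ξ hξb 1 (by rw [orderOf_one]; exact hp.out.not_dvd_one), hreg ξ hξb v hv]
    show (1 : ℂ) * conj (1 : ℂ) = 1
    rw [map_one, mul_one], Finset.sum_const, nsmul_one,
    show (Finset.univ.filter (· ∈ principalBlock M (CG P))).card = p by
      rw [← hcard, Nat.card_eq_fintype_card, Fintype.card_subtype]]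
  ring

/-- The principal section of `φ φ̄`. -/
theorem sct_product (hM : IsPModular p M) (hPp : Nat.card P = p) (hsyl : ¬ p ∣ P.index)
    (hθ : θ ∈ b) (hθP : ∀ x : CG P, (x : G) ∈ P → (θ : CG P → ℂ) x = (θ : CG P → ℂ) 1)
    (haB : OfB p M B (⟨P, b⟩ : BrauerPairIdx G))
    (hT : ∀ g : G, g ∈ T ↔ (g ∈ Subgroup.normalizer (P : Set G) ∧ ∀ c c' : CG P,
      (c' : G) = g * c * g⁻¹ → (θ : CG P → ℂ) c' = (θ : CG P → ℂ) c))
    (hu₀ : u₀ ∈ P) (hu₁ : u₀ ≠ 1) (hD : Data M P B b θ T u₀ R X y c ε) (hε : ε = 1)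
    {N : Subgroup G} (hN : N = Subgroup.normalizer (P : Set G)) [Fintype (N ⧸ T.subgroupOf N)]
    {r : N ⧸ T.subgroupOf N → (ZMod p)ˣ}
    (hr : ∀ z, (z.out : G)⁻¹ * u₀ * z.out = pw u₀ (r z : ZMod p))
    (q : (ZMod p)ˣ ⧸ R) {i : ZMod p} (hi : i ≠ 0) :
    sct ((y q : G → ℂ) * fun g => conj ((y q : G → ℂ) g))
      (⟨P, principalBlock M (CG P)⟩ : BrauerPairIdx G) (pw u₀ i) 1 =
      ∑ z : N ⧸ T.subgroupOf N,
        cosum R q (i * (r z : ZMod p)) * conj (cosum R q (i * (r z : ZMod p))) := by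
  classical
  letI := Fintype.ofFinite (CG P)
  set S : N ⧸ T.subgroupOf N → ℂ := fun z => cosum R q (i * (r z : ZMod p))
  have hnz : ∀ z : N ⧸ T.subgroupOf N, (z.out : G)⁻¹ ∈ Subgroup.normalizer (P : Set G) :=
    fun z => inv_mem (hN ▸ z.out.2)
  set τ : N ⧸ T.subgroupOf N → CG P → ℂ := fun z k => (θ : CG P → ℂ) (centEquiv (hnz z) k)
  have hτi : ∀ z, IsIrrCharacter (CG P) (τ z) := fun z => IsIrr.comp_mulEquiv _ θ.2
  have hτinv : ∀ z, ∀ u : CG P, (u : G) ∈ P → ∀ k, τ z (u * k) = τ z k := fun z u hu k => by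
    simp only [τ, map_mul]
    refine char_mul_ker (irr_isChar θ) (hθP _ ?_) _
    rw [centEquiv_val]
    exact (Subgroup.mem_normalizer_iff.1 (hnz z) _).1 hu
  have hτne : ∀ z w, z ≠ w → τ z ≠ τ w := by
    intro z w hzw h
    refine hzw ?_
    rw [← QuotientGroup.out_eq' z, ← QuotientGroup.out_eq' w, QuotientGroup.eq,
      Subgroup.mem_subgroupOf, Subgroup.coe_mul, Subgroup.coe_inv, hT]
    refine ⟨mul_mem (hnz z) (hN ▸ w.out.2), fun k k' hk => ?_⟩
    have hk2 : ∀ s : CG P, (θ : CG P → ℂ) (centEquiv (hnz z) s) =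
        (θ : CG P → ℂ) (centEquiv (hnz w) s) := fun s => congrFun h s
    have e1 : k = centEquiv (hnz w) ((centEquiv (hnz w)).symm k) :=
      ((centEquiv (hnz w)).apply_symm_apply k).symm
    have e2 : k' = centEquiv (hnz z) ((centEquiv (hnz w)).symm k) := by
      refine Subtype.ext ?_
      rw [hk, centEquiv_val, inv_inv]
      have h3 := congrArg Subtype.val e1
      rw [centEquiv_val, inv_inv] at h3
      rw [h3]
      group
    rw [e2, hk2, ← e1]
  have hval : ∀ k : CG P, ¬ p ∣ orderOf k →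
      (y q : G → ℂ) (pw u₀ i * (k : G)) = ∑ z, S z * τ z k := fun k hk => by
    rw [value_Y hM hPp hsyl hθ hθP haB hT hu₀ hu₁ hD hN hr q hi hk, hε, Int.cast_one, one_mul]
    refine Finset.sum_congr rfl fun z _ => ?_
    congr 1
    have h1 : (z.out : G)⁻¹ * k * z.out = (centEquiv (hnz z) k : G) := by
      rw [centEquiv_val, inv_inv]
    rw [h1, extendByZero_apply]
  rw [sct_eq_sub]
  set Rg := Finset.univ.filter (fun k : CG P => ¬ p ∣ orderOf k)
  calc ∑ k : CG P, blockCoeff (principalBlock M (CG P)) k *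
        ((y q : G → ℂ) * fun g => conj ((y q : G → ℂ) g)) (pw u₀ i * (k : G) * 1)
      = ∑ k ∈ Rg, (p : ℂ) / (Nat.card (CG P) : ℂ) *
          ((∑ z, S z * τ z k) * conj (∑ w, S w * τ w k)) := by
        rw [← Finset.sum_subset (Finset.subset_univ Rg) fun k _ hk => by
          rw [DefectOne.blockCoeff_singular hM isPBlock_principalBlock (by simpa [Rg] using hk), zero_mul]]
        refine Finset.sum_congr rfl fun k hk => ?_
        have hkr := (Finset.mem_filter.1 hk).2
        rw [principal_coeff hM hPp hsyl hkr, mul_one, Pi.mul_apply, hval k hkr]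
    _ = (Nat.card (CG P) : ℂ)⁻¹ * ∑ z, ∑ w, S z * conj (S w) *
          ((p : ℂ) * ∑ k ∈ Rg, τ z k * conj (τ w k)) := by
        simp only [map_sum, map_mul, Finset.mul_sum, Finset.sum_mul]
        rw [Finset.sum_comm]
        refine Eq.trans ?_ (Finset.sum_comm (s := Finset.univ) (t := Finset.univ))
        refine Finset.sum_congr rfl fun w _ => ?_
        rw [Finset.sum_comm]
        exact Finset.sum_congr rfl fun z _ => Finset.sum_congr rfl fun k _ => by ring
    _ = (Nat.card (CG P) : ℂ)⁻¹ * ∑ z, ∑ w, S z * conj (S w) *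
          ((Nat.card (CG P) : ℂ) * if z = w then 1 else 0) := by
        refine congrArg _ (Finset.sum_congr rfl fun z _ => Finset.sum_congr rfl fun w _ => ?_)
        congr 1
        rw [← sum_cg_eq hPp hsyl (fun k => τ z k * conj (τ w k)) fun u hu k => by
          rw [hτinv z u hu, hτinv w u hu]]
        have h0 : (Nat.card (CG P) : ℂ) ≠ 0 := Nat.cast_ne_zero.2 Nat.card_pos.ne'
        rw [show ∑ k : CG P, τ z k * conj (τ w k) = (Nat.card (CG P) : ℂ) * classInner (τ z) (τ w) by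
          rw [classInner, mul_inv_cancel_left₀ h0]]
        congr 1
        split
        · next h => rw [h, classInner_self_irr (hτi w)]
        · next h => rw [classInner_irr_ne (hτi z) (hτi w) (hτne z w h)]
    _ = _ := by
        simp only [mul_ite, mul_one, mul_zero, Finset.sum_ite_eq, Finset.mem_univ, if_true,
          Finset.mul_sum]
        exact Finset.sum_congr rfl fun z _ => by
          field_simp [Nat.cast_ne_zero.2 (Nat.card_pos (α := CG P)).ne']
          rfl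

end Cfsg.Agent.Char.SmallDeg
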