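import Mathlib
import Cfsg.Prelude.Def_Solvable
import Cfsg.Agent.Lib.Grp.Cores
import Cfsg.Agent.Lib.Grp.Subnormal

/-!
An element of prime order equal to its own centralizer: the Sylow normalizer, the classes of
elements of order `p`, and the top of the group.
-/

namespace Cfsg.Agent.Char.SCP

open scoped commutatorElement

variable {G : Type*} [Group G] {p : ℕ} [hp : Fact p.Prime] {x : G}

/-- The subgroup generated by `x`. -/
abbrev P (x : G) : Subgroup G := Subgroup.zpowers x

/-- Its normalizer. -/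
abbrev N (x : G) : Subgroup G := Subgroup.normalizer (Subgroup.zpowers x : Set G)

/-- The index of `x` in its normalizer. -/
noncomputable def e (x : G) : ℕ := (P x).relIndex (N x)

/-- The hypotheses. -/
structure Hyp (p : ℕ) (x : G) : Prop where
  ord : orderOf x = p
  cent : Subgroup.centralizer ({x} : Set G) = Subgroup.zpowers x

variable (h : Hyp p x)
include h

theorem card_P : Nat.card (P x) = p := by rw [Nat.card_zpowers, h.ord]

theorem ne_one : x ≠ 1 := fun e1 => by
  have := h.ord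
  rw [e1, orderOf_one] at this
  exact hp.out.ne_one this.symm

theorem mem_P_of_comm {g : G} (hg : g * x = x * g) : g ∈ P x := by
  show g ∈ Subgroup.zpowers x
  rw [← h.cent]
  exact Subgroup.mem_centralizer_singleton_iff.2 hg

theorem zpowers_eq_of_mem {a : G} (ha : a ∈ P x) (ha1 : a ≠ 1) : Subgroup.zpowers a = P x := by
  haveI : Finite (P x) := Nat.finite_of_card_ne_zero (by rw [card_P h]; exact hp.out.ne_zero)
  refine Subgroup.eq_of_le_of_card_ge (Subgroup.zpowers_le.2 ha) ?_
  rw [card_P h, Nat.card_zpowers]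
  have h1 := Subgroup.orderOf_dvd_natCard _ ha
  rw [card_P h, Nat.dvd_prime hp.out] at h1
  rcases h1 with h1 | h1
  · exact absurd (orderOf_eq_one_iff.1 h1) ha1
  · exact h1.ge

theorem orderOf_of_mem {a : G} (ha : a ∈ P x) (ha1 : a ≠ 1) : orderOf a = p := by
  rw [← Nat.card_zpowers, zpowers_eq_of_mem h ha ha1, card_P h]

theorem cent_of_mem {a : G} (ha : a ∈ P x) (ha1 : a ≠ 1) :
    Subgroup.centralizer ({a} : Set G) = P x := by
  refine le_antisymm (fun g hg => ?_) fun g hg => ?_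
  · rw [Subgroup.mem_centralizer_singleton_iff] at hg
    refine mem_P_of_comm h ?_
    obtain ⟨k, hk⟩ : x ∈ Subgroup.zpowers a := by
      rw [zpowers_eq_of_mem h ha ha1]; exact Subgroup.mem_zpowers x
    simp only at hk
    rw [← hk]
    exact ((show Commute g a from hg).zpow_right k).eq
  · rw [Subgroup.mem_centralizer_singleton_iff]
    obtain ⟨i, rfl⟩ := hg
    obtain ⟨j, rfl⟩ := ha
    exact (((Commute.refl x).zpow_left i).zpow_right j).eq

theorem cent_P : Subgroup.centralizer (P x : Set G) = P x := by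
  refine le_antisymm (fun g hg => mem_P_of_comm h ?_) fun g hg => ?_
  · exact (Subgroup.mem_centralizer_iff.1 hg x (Subgroup.mem_zpowers x)).symm
  · rw [Subgroup.mem_centralizer_iff]
    intro a ha
    obtain ⟨i, rfl⟩ := hg
    obtain ⟨j, rfl⟩ := ha
    exact (((Commute.refl x).zpow_left j).zpow_right i).eq

variable [Finite G]

/-- `⟨x⟩` is a Sylow subgroup. -/
theorem exists_sylow : ∃ Q : Sylow p G, (Q : Subgroup G) = P x := by
  obtain ⟨Q, hQ⟩ := (IsPGroup.of_card (n := 1) (by rw [card_P h, pow_one]) :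
    IsPGroup p (P x)).exists_le_sylow
  refine ⟨Q, le_antisymm ?_ hQ⟩
  have hxQ : x ∈ (Q : Subgroup G) := hQ (Subgroup.mem_zpowers x)
  haveI : Nontrivial (Q : Subgroup G) := ⟨⟨⟨x, hxQ⟩, 1, fun e1 => ne_one h (congrArg Subtype.val e1)⟩⟩
  haveI := Q.isPGroup'.center_nontrivial
  obtain ⟨z, hz⟩ := exists_ne (1 : Subgroup.center (Q : Subgroup G))
  have hzP : ((z : (Q : Subgroup G)) : G) ∈ P x :=
    mem_P_of_comm h (congrArg Subtype.val (Subgroup.mem_center_iff.1 z.2 ⟨x, hxQ⟩)).symm
  have hz1 : ((z : (Q : Subgroup G)) : G) ≠ 1 := fun e1 => hz (Subtype.ext (Subtype.ext e1))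
  intro y hy
  rw [← cent_of_mem h hzP hz1, Subgroup.mem_centralizer_singleton_iff]
  exact congrArg Subtype.val (Subgroup.mem_center_iff.1 z.2 ⟨y, hy⟩)

theorem not_dvd_index : ¬ p ∣ (P x).index := by
  obtain ⟨Q, hQ⟩ := exists_sylow h
  rw [← hQ]
  exact Q.not_dvd_index

theorem dvd_card : p ∣ Nat.card G := card_P h ▸ Subgroup.card_subgroup_dvd_card _

theorem card_eq : Nat.card G = p * (P x).index := by
  rw [← Subgroup.card_mul_index (P x), card_P h]

theorem fac : (Nat.card G).factorization p = 1 := by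
  rw [card_eq h, Nat.factorization_mul hp.out.ne_zero Subgroup.index_ne_zero_of_finite,
    Finsupp.add_apply, hp.out.factorization_self,
    Nat.factorization_eq_zero_of_not_dvd (not_dvd_index h)]

theorem exists_conj_mem {g : G} (hg : orderOf g = p) : ∃ c : G, c * g * c⁻¹ ∈ P x := by
  obtain ⟨Q, hQ⟩ := exists_sylow h
  obtain ⟨R, hR⟩ := (IsPGroup.of_card (n := 1) (by rw [Nat.card_zpowers, hg, pow_one]) :
    IsPGroup p (Subgroup.zpowers g)).exists_le_sylow
  obtain ⟨c, hc⟩ := MulAction.exists_smul_eq G R Q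
  refine ⟨c, ?_⟩
  rw [← hQ, ← hc, Sylow.coe_subgroup_smul]
  exact ⟨g, hR (Subgroup.mem_zpowers g), rfl⟩

theorem hyp_of_ord {g : G} (hg : orderOf g = p) : Hyp p g := by
  obtain ⟨c, hc⟩ := exists_conj_mem h hg
  refine ⟨hg, le_antisymm (fun y hy => ?_) (Subgroup.zpowers_le.2
    (Subgroup.mem_centralizer_singleton_iff.2 rfl))⟩
  have hb1 : c * g * c⁻¹ ≠ 1 := fun e1 => by
    have : g = 1 := by simpa [mul_inv_eq_one] using e1
    rw [this, orderOf_one] at hg
    exact hp.out.ne_one hg.symm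
  rw [Subgroup.mem_centralizer_singleton_iff] at hy
  have h1 : c * y * c⁻¹ ∈ Subgroup.zpowers (c * g * c⁻¹) := by
    rw [zpowers_eq_of_mem h hc hb1, ← cent_of_mem h hc hb1, Subgroup.mem_centralizer_singleton_iff]
    calc c * y * c⁻¹ * (c * g * c⁻¹) = c * (y * g) * c⁻¹ := by group
      _ = c * (g * y) * c⁻¹ := by rw [hy]
      _ = c * g * c⁻¹ * (c * y * c⁻¹) := by group
  obtain ⟨i, hi⟩ := h1
  refine ⟨i, ?_⟩
  have hi' : (c * g * c⁻¹) ^ i = c * y * c⁻¹ := hi
  rw [conj_zpow] at hi'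
  simpa using hi'

theorem mem_N_of_conj {g a : G} (ha : a ∈ P x) (ha1 : a ≠ 1) (hga : g * a * g⁻¹ ∈ P x) :
    g ∈ N x := by
  have hb1 : g * a * g⁻¹ ≠ 1 := fun e1 => ha1 (by simpa [mul_inv_eq_one] using e1)
  rw [Subgroup.mem_normalizer_iff]
  intro y
  show y ∈ P x ↔ g * y * g⁻¹ ∈ P x
  constructor
  · intro hy
    rw [← zpowers_eq_of_mem h ha ha1] at hy
    obtain ⟨i, rfl⟩ := hy
    show g * a ^ i * g⁻¹ ∈ P x
    rw [← conj_zpow]
    exact (P x).zpow_mem hga i
  · intro hy
    rw [← zpowers_eq_of_mem h hga hb1] at hy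
    obtain ⟨i, hi⟩ := hy
    have hi' : (g * a * g⁻¹) ^ i = g * y * g⁻¹ := hi
    rw [conj_zpow] at hi'
    have : a ^ i = y := by simpa using hi'
    exact this ▸ (P x).zpow_mem ha i

theorem card_N : Nat.card (N x) = p * e x := by
  rw [e, ← card_P h, Subgroup.relIndex,
    ← Nat.card_congr (Subgroup.subgroupOfEquivOfLe (Subgroup.le_normalizer (H := P x))).toEquiv,
    Subgroup.card_mul_index]

theorem commutator_mem_P {n m : G} (hn : n ∈ N x) (hm : m ∈ N x) : ⁅n, m⁆ ∈ P x := by
  have hconj : ∀ g ∈ N x, ∃ i : ℕ, g * x * g⁻¹ = x ^ i := by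
    intro g hg
    obtain ⟨i, hi⟩ := (isOfFinOrder_of_finite x).mem_powers_iff_mem_zpowers.2
      ((Subgroup.mem_normalizer_iff.1 hg x).1 (Subgroup.mem_zpowers x))
    exact ⟨i, hi.symm⟩
  obtain ⟨i, hi⟩ := hconj n hn
  obtain ⟨j, hj⟩ := hconj m hm
  obtain ⟨i', hi'⟩ := hconj n⁻¹ (inv_mem hn)
  obtain ⟨j', hj'⟩ := hconj m⁻¹ (inv_mem hm)
  refine mem_P_of_comm h (mul_inv_eq_iff_eq_mul.1 ?_)
  simp only [inv_inv] at hi' hj'
  have e1 : n⁻¹ * (m⁻¹ * x * m) * n = x ^ (i' * j') := by
    rw [hj', show n⁻¹ * x ^ j' * n = n⁻¹ * x ^ j' * (n⁻¹)⁻¹ by rw [inv_inv], ← conj_pow, inv_inv,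
      hi', ← pow_mul]
  have e2 : m * (n⁻¹ * (m⁻¹ * x * m) * n) * m⁻¹ = x ^ (j * (i' * j')) := by
    rw [e1, ← conj_pow, hj, ← pow_mul]
  have e3 : n * (m * (n⁻¹ * (m⁻¹ * x * m) * n) * m⁻¹) * n⁻¹ = x ^ (i * (j * (i' * j'))) := by
    rw [e2, ← conj_pow, hi, ← pow_mul]
  have f1 : n⁻¹ * x * n = x ^ i' := hi'
  have f2 : m * (n⁻¹ * x * n) * m⁻¹ = x ^ (j * i') := by rw [f1, ← conj_pow, hj, ← pow_mul]
  have f3 : n * (n⁻¹ * x * n) * n⁻¹ = x := by group
  have k1 : x ^ (i * i') = x := by rw [pow_mul, ← hi, conj_pow, ← hi']; exact f3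
  have k2 : x ^ (j * j') = x := by
    rw [pow_mul, ← hj, conj_pow, ← hj']; group
  rw [show ⁅n, m⁆ * x * ⁅n, m⁆⁻¹ = n * (m * (n⁻¹ * (m⁻¹ * x * m) * n) * m⁻¹) * n⁻¹ by
    rw [commutatorElement_def]; group, e3,
    show i * (j * (i' * j')) = (i * i') * (j * j') by ring, pow_mul, k1, k2]

theorem N_index_eq : (N x).index = Nat.card {H : Subgroup G // Nat.card H = p} := by
  obtain ⟨Q, hQ⟩ := exists_sylow h
  have hQc : Nat.card (Q : Subgroup G) = p := by rw [hQ, card_P h]
  have h2 : (N x).index = Nat.card (Sylow p G) := by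
    rw [Q.card_eq_index_normalizer, ← Sylow.coe_coe Q, hQ]
  rw [h2]
  refine Nat.card_congr (Equiv.ofBijective (fun R => ⟨(R : Subgroup G), by
    rw [Sylow.card_eq_multiplicity, ← Q.card_eq_multiplicity, hQc]⟩) ⟨?_, ?_⟩)
  · exact fun a b e1 => Sylow.ext (congrArg Subtype.val e1 :)
  · rintro ⟨H, hH⟩
    obtain ⟨R, hR⟩ := (IsPGroup.of_card (n := 1) (by rw [hH, pow_one]) : IsPGroup p H).exists_le_sylow
    exact ⟨R, Subtype.ext (Subgroup.eq_of_le_of_card_ge hR (by
      rw [hH, Sylow.card_eq_multiplicity, ← Q.card_eq_multiplicity, hQc])).symm⟩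

theorem e_dvd : e x ∣ p - 1 := by
  haveI : IsCyclic (P x) := isCyclic_of_prime_card (card_P h)
  let f : N x →* MulAut (P x) := (P x).normalizerMonoidHom
  have hker : f.ker = (P x).subgroupOf (N x) := by
    rw [Subgroup.normalizerMonoidHom_ker, cent_P h]
  have h1 : e x = Nat.card f.range := by
    rw [e, Subgroup.relIndex, ← hker, Subgroup.index_ker]
  rw [h1]
  refine (Subgroup.card_subgroup_dvd_card f.range).trans ?_
  rw [IsCyclic.card_mulAut, card_P h, Nat.totient_prime hp.out]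

/-- The classes of elements of order `p`. -/
theorem classes_mul_e :
    Nat.card {C : ConjClasses G // ∃ g ∈ C.carrier, orderOf g = p} * e x = p - 1 := by
  classical
  haveI := Fintype.ofFinite G
  let S := {a : P x // (a : G) ≠ 1}
  let T := {C : ConjClasses G // ∃ g ∈ C.carrier, orderOf g = p}
  let cl : S → T := fun a => ⟨ConjClasses.mk (a.1 : G),
    (a.1 : G), ConjClasses.mem_carrier_mk, orderOf_of_mem h a.1.2 a.2⟩
  have hS : Nat.card S = p - 1 := by
    have : Nat.card {a : P x // ¬ (a : G) = 1} = Nat.card {a : P x // a ≠ 1} :=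
      Nat.card_congr (Equiv.subtypeEquivRight fun a => by simp)
    show Nat.card {a : P x // (a : G) ≠ 1} = _
    rw [this, Nat.card_eq_fintype_card, Fintype.card_subtype_compl, Fintype.card_subtype_eq,
      ← Nat.card_eq_fintype_card, card_P h]
  have hsurj : Function.Surjective cl := by
    rintro ⟨C, g, hg, ho⟩
    obtain ⟨c, hc⟩ := exists_conj_mem h ho
    refine ⟨⟨⟨_, hc⟩, fun e1 => ?_⟩, Subtype.ext ?_⟩
    · have : g = 1 := by simpa [mul_inv_eq_one] using e1
      rw [this, orderOf_one] at ho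
      exact hp.out.ne_one ho.symm
    · show ConjClasses.mk (c * g * c⁻¹) = C
      rw [← ConjClasses.mem_carrier_iff_mk_eq.1 hg]
      exact (ConjClasses.mk_eq_mk_iff_isConj.2 (isConj_iff.2 ⟨c, rfl⟩)).symm
  have hfib : ∀ t, Nat.card {a : S // cl a = t} = e x := by
    intro t
    obtain ⟨a₀, rfl⟩ := hsurj t
    let ψ : N x → {a : S // cl a = cl a₀} := fun n => ⟨⟨⟨(n : G) * (a₀.1 : G) * (n : G)⁻¹,
      (Subgroup.mem_normalizer_iff.1 n.2 _).1 a₀.1.2⟩, fun e1 => a₀.2 (by
        simpa [mul_inv_eq_one] using e1)⟩,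
      Subtype.ext (ConjClasses.mk_eq_mk_iff_isConj.2 (isConj_iff.2 ⟨(n : G), rfl⟩)).symm⟩
    have hψ : Function.Surjective ψ := by
      rintro ⟨b, hb⟩
      have hc : IsConj (a₀.1 : G) (b.1 : G) :=
        ConjClasses.mk_eq_mk_iff_isConj.1 (congrArg Subtype.val hb).symm
      obtain ⟨g, hg⟩ := isConj_iff.1 hc
      exact ⟨⟨g, mem_N_of_conj h a₀.1.2 a₀.2 (hg ▸ b.1.2)⟩, Subtype.ext (Subtype.ext (Subtype.ext hg))⟩
    have hker : ∀ n m : N x, ψ n = ψ m ↔ n⁻¹ * m ∈ (P x).subgroupOf (N x) := by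
      intro n m
      rw [Subgroup.mem_subgroupOf, ← cent_of_mem h a₀.1.2 a₀.2,
        Subgroup.mem_centralizer_singleton_iff]
      constructor
      · intro e1
        have e2 : (n : G) * a₀.1 * (n : G)⁻¹ = (m : G) * a₀.1 * (m : G)⁻¹ :=
          congrArg (fun z : {a : S // cl a = cl a₀} => ((z.1.1 : P x) : G)) e1
        have := congrArg (fun z => (n : G)⁻¹ * z * (m : G)) e2
        simpa [mul_assoc] using this.symm
      · intro e1
        refine Subtype.ext (Subtype.ext (Subtype.ext ?_))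
        show (n : G) * a₀.1 * (n : G)⁻¹ = (m : G) * a₀.1 * (m : G)⁻¹
        have := congrArg (fun z => (n : G) * z * (m : G)⁻¹) e1
        simpa [mul_assoc] using this.symm
    rw [e, Subgroup.relIndex, Subgroup.index]
    symm
    refine Nat.card_congr (Equiv.ofBijective (Quotient.lift ψ fun n m hnm =>
      (hker n m).2 (QuotientGroup.leftRel_apply.1 hnm)) ⟨?_, ?_⟩)
    · intro u v
      induction u using QuotientGroup.induction_on with | _ n => ?_
      induction v using QuotientGroup.induction_on with | _ m => ?_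
      intro e1
      exact QuotientGroup.eq.2 ((hker n m).1 e1)
    · intro b
      obtain ⟨n, hn⟩ := hψ b
      exact ⟨(n : N x ⧸ (P x).subgroupOf (N x)), hn⟩
  haveI := Fintype.ofFinite T
  rw [← hS, ← Nat.card_congr (Equiv.sigmaFiberEquiv cl), Nat.card_sigma,
    Finset.sum_congr rfl fun t _ => hfib t, Finset.sum_const, Finset.card_univ, smul_eq_mul,
    ← Nat.card_eq_fintype_card]

theorem t_eq_iff {t : ℕ} (ht : Nat.card {C : ConjClasses G // ∃ g ∈ C.carrier, orderOf g = p} = t) :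
    t = p - 1 ↔ e x = 1 := by
  have h1 := classes_mul_e h
  rw [ht] at h1
  have hp2 := hp.out.two_le
  constructor
  · intro ht'
    subst ht'
    exact (mul_eq_left₀ (show p - 1 ≠ 0 by omega)).1 h1
  · intro he
    rwa [he, mul_one] at h1

/-- A normal `p'`-subgroup meets the centralizer trivially. -/
theorem fix_of_coprime {S : Subgroup G} (hS : ¬ p ∣ Nat.card S) {s : G} (hs : s ∈ S)
    (hc : s * x = x * s) : s = 1 := by
  by_contra hne
  exact hS (orderOf_of_mem h (mem_P_of_comm h hc) hne ▸ S.orderOf_dvd_natCard hs)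

theorem inf_N_eq_bot {S : Subgroup G} [S.Normal] (hS : ¬ p ∣ Nat.card S) : S ⊓ N x = ⊥ := by
  rw [Subgroup.eq_bot_iff_forall]
  rintro s ⟨hs, hsN⟩
  refine fix_of_coprime h hS hs ?_
  have h1 : s * x * s⁻¹ * x⁻¹ ∈ S := by
    rw [mul_assoc s x, mul_assoc s]
    exact S.mul_mem hs (Subgroup.Normal.conj_mem ‹S.Normal› _ (S.inv_mem hs) x)
  have h2 : s * x * s⁻¹ * x⁻¹ ∈ P x :=
    mul_mem ((Subgroup.mem_normalizer_iff.1 hsN x).1 (Subgroup.mem_zpowers x))
      (inv_mem (Subgroup.mem_zpowers x))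
  by_contra hne
  have hne1 : s * x * s⁻¹ * x⁻¹ ≠ 1 := fun e1 => hne (by
    rwa [mul_inv_eq_one, mul_inv_eq_iff_eq_mul] at e1)
  exact hS (orderOf_of_mem h h2 hne1 ▸ S.orderOf_dvd_natCard h1)

/-- A normal `p'`-subgroup consists of commutators with `x`. -/
theorem le_comm_of_coprime {S : Subgroup G} [S.Normal] (hS : ¬ p ∣ Nat.card S) :
    S ≤ ⁅S, P x⁆ := by
  let f : S → S := fun s => ⟨⁅(s : G), x⁆, by
    rw [commutatorElement_def, mul_assoc (s : G) x, mul_assoc (s : G)]
    exact S.mul_mem s.2 (Subgroup.Normal.conj_mem ‹S.Normal› _ (S.inv_mem s.2) x)⟩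
  have hf : Function.Injective f := by
    intro a b e1
    have e2 : ⁅(a : G), x⁆ = ⁅(b : G), x⁆ := congrArg Subtype.val e1
    rw [commutatorElement_def, commutatorElement_def, mul_left_inj] at e2
    have := congrArg (fun z => (b : G)⁻¹ * z * (a : G)) e2
    have h1 := fix_of_coprime h hS (S.mul_mem (S.inv_mem b.2) a.2) (by simpa [mul_assoc] using this)
    exact Subtype.ext (inv_mul_eq_one.1 h1).symm
  intro s hs
  obtain ⟨a, ha⟩ := (Finite.injective_iff_surjective.1 hf) ⟨s, hs⟩
  rw [show s = ⁅(a : G), x⁆ from (congrArg Subtype.val ha).symm]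
  exact Subgroup.commutator_mem_commutator a.2 (Subgroup.mem_zpowers x)

omit h in
theorem commutator_le_top (A B : Subgroup G) : ⁅A, B⁆ ≤ commutator G := by
  rw [commutator_def]
  exact Subgroup.commutator_mono le_top le_top

theorem coprime_le_commutator {S : Subgroup G} [S.Normal] (hS : ¬ p ∣ Nat.card S) :
    S ≤ commutator G := (le_comm_of_coprime h hS).trans (commutator_le_top _ _)

/-- The normalizer together with a normal subgroup containing `x` is everything. -/
theorem frattini {K : Subgroup G} [K.Normal] (hxK : x ∈ K) : N x ⊔ K = ⊤ := by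
  obtain ⟨Q, hQ⟩ := exists_sylow h
  have := Sylow.normalizer_sup_eq_top' Q (N := K) (by rw [hQ]; exact Subgroup.zpowers_le.2 hxK)
  rwa [← Sylow.coe_coe Q, hQ] at this

theorem commutator_le_of_mem {K : Subgroup G} [K.Normal] (hxK : x ∈ K) : commutator G ≤ K := by
  rw [commutator_def, Subgroup.commutator_le]
  intro a _ b _
  rw [← QuotientGroup.eq_one_iff]
  have hrep : ∀ g : G, ∃ n ∈ N x, (QuotientGroup.mk n : G ⧸ K) = QuotientGroup.mk g := by
    intro g
    have hg : g ∈ N x ⊔ K := frattini h hxK ▸ Subgroup.mem_top g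
    rw [← SetLike.mem_coe, Subgroup.mul_normal] at hg
    obtain ⟨n, hn, k, hk, rfl⟩ := Set.mem_mul.1 hg
    exact ⟨n, hn, by rw [QuotientGroup.mk_mul, (QuotientGroup.eq_one_iff k).2 hk, mul_one]⟩
  obtain ⟨n, hn, en⟩ := hrep a
  obtain ⟨m, hm, em⟩ := hrep b
  refine (map_commutatorElement (QuotientGroup.mk' K) a b).trans ?_
  rw [QuotientGroup.mk'_apply, QuotientGroup.mk'_apply, ← en, ← em]
  exact (map_commutatorElement (QuotientGroup.mk' K) n m).symm.trans
    ((QuotientGroup.eq_one_iff _).2 (Subgroup.zpowers_le.2 hxK (commutator_mem_P h hn hm)))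

theorem exists_complement (he : e x = 1) : ∃ K : Subgroup G, K.Normal ∧ ¬ p ∣ Nat.card K ∧
    K.index = p := by
  obtain ⟨Q, hQ⟩ := exists_sylow h
  have hle : Subgroup.normalizer (Q : Set G) ≤ Subgroup.centralizer ((Q : Subgroup G) : Set G) := by
    rw [← Sylow.coe_coe Q, hQ, cent_P h]
    exact Subgroup.relIndex_eq_one.1 he
  refine ⟨(MonoidHom.transferSylow Q hle).ker, inferInstance,
    MonoidHom.not_dvd_card_ker_transferSylow Q hle, ?_⟩
  rw [(MonoidHom.ker_transferSylow_isComplement' Q hle).symm.index_eq_card, hQ, card_P h]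

theorem commutator_eq_core_of_one (he : e x = 1) :
    commutator G = Cfsg.pPrimeCore p G ∧ (commutator G).index = p := by
  obtain ⟨K, hK, hKp, hKi⟩ := exists_complement h he
  have h1 : commutator G ≤ K := by
    haveI : IsCyclic (G ⧸ K) := isCyclic_of_prime_card (p := p) (by rw [← Subgroup.index, hKi])
    letI : CommGroup (G ⧸ K) := IsCyclic.commGroup
    intro g hg
    rw [← QuotientGroup.eq_one_iff]
    exact MonoidHom.mem_ker.1 (Abelianization.commutator_subset_ker (QuotientGroup.mk' K) hg)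
  have h2 := coprime_le_commutator h hKp
  have h3 : commutator G = K := le_antisymm h1 h2
  refine ⟨le_antisymm ?_ ?_, by rw [h3, hKi]⟩
  · rw [h3]
    exact Cfsg.Agent.Grp.le_pPrimeCore hK (hp.out.coprime_iff_not_dvd.2 hKp).symm
  · haveI := Cfsg.Agent.Grp.pPrimeCore_isNormal (p := p) (G := G)
    exact coprime_le_commutator h Cfsg.Agent.Grp.pPrimeCore_not_dvd

theorem mem_commutator_of_ne_one (he : e x ≠ 1) : x ∈ commutator G := by
  by_contra hx
  refine he (Subgroup.relIndex_eq_one.2 fun n hn => mem_P_of_comm h ?_)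
  have h1 : ⁅n, x⁆ ∈ P x := commutator_mem_P h hn (Subgroup.le_normalizer (Subgroup.mem_zpowers x))
  have h2 : ⁅n, x⁆ ∈ commutator G :=
    commutator_le_top _ _ (Subgroup.commutator_mem_commutator (H₁ := ⊤) (H₂ := ⊤) trivial trivial)
  by_contra hne
  have h3 : ⁅n, x⁆ ≠ 1 := fun e1 => hne (commutatorElement_eq_one_iff_mul_comm.1 e1)
  refine hx ?_
  have h4 : x ∈ Subgroup.zpowers ⁅n, x⁆ := by
    rw [zpowers_eq_of_mem h h1 h3]; exact Subgroup.mem_zpowers x
  exact Subgroup.zpowers_le.2 h2 h4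

theorem index_commutator_dvd (he : e x ≠ 1) : (commutator G).index ∣ e x := by
  have hx := mem_commutator_of_ne_one h he
  have h1 : (commutator G).index = (commutator G).relIndex (N x) := by
    rw [← Subgroup.relIndex_top_right, ← frattini h hx, Subgroup.relIndex_sup_right]
  rw [h1, e, ← Subgroup.inf_relIndex_right,
    ← Subgroup.relIndex_mul_relIndex (P x) (commutator G ⊓ N x) (N x)
      (le_inf (Subgroup.zpowers_le.2 hx) Subgroup.le_normalizer) inf_le_right]
  exact dvd_mul_left _ _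

theorem not_mem_core : x ∉ Cfsg.pPrimeCore p G := fun hx => by
  have := Subgroup.orderOf_dvd_natCard _ hx
  rw [h.ord] at this
  exact Cfsg.Agent.Grp.pPrimeCore_not_dvd this

/-- Above the core, the derived group has no proper normal subgroup. -/
theorem normal_in_commutator (he : e x ≠ 1) (K : Subgroup G) (hK : K ≤ commutator G)
    (hn : (K.subgroupOf (commutator G)).Normal) :
    K ≤ Cfsg.pPrimeCore p G ∨ K = commutator G := by
  have hx := mem_commutator_of_ne_one h he
  have hsub : K.IsSubnormal := Subgroup.IsSubnormal.step K (commutator G) hK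
    (Subgroup.Normal.isSubnormal inferInstance) hn
  by_cases hd : p ∣ Nat.card K
  · refine Or.inr (le_antisymm hK ?_)
    obtain ⟨⟨y, hy⟩, hyo⟩ := exists_prime_orderOf_dvd_card' (G := K) p hd
    rw [Subgroup.orderOf_mk] at hyo
    haveI : K.normalCore.Normal := Subgroup.normalCore_normal K
    refine (commutator_le_of_mem h (K := K.normalCore) ?_).trans K.normalCore_le
    intro g
    -- all conjugates of `x` lie in `K`
    obtain ⟨Q, hQ⟩ := exists_sylow h
    have hall : ∀ z ∈ commutator G, orderOf z = p → z ∈ K := by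
      intro z hz hzo
      obtain ⟨R, hR⟩ := (IsPGroup.of_card (n := 1) (by rw [Nat.card_zpowers, Subgroup.orderOf_mk, hzo, pow_one]) :
        IsPGroup p (Subgroup.zpowers (⟨z, hz⟩ : commutator G))).exists_le_sylow
      obtain ⟨S, hS⟩ := (IsPGroup.of_card (n := 1) (by
          rw [Nat.card_zpowers, Subgroup.orderOf_mk, hyo, pow_one]) :
        IsPGroup p (Subgroup.zpowers (⟨y, hK hy⟩ : commutator G))).exists_le_sylow
      have hScard : Nat.card (S : Subgroup (commutator G)) ≤ p := by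
        obtain ⟨k, hk⟩ := S.isPGroup'.exists_card_eq
        have h1 : p ^ k ∣ Nat.card G := hk ▸
          (Subgroup.card_subgroup_dvd_card _).trans (Subgroup.card_subgroup_dvd_card _)
        rw [hp.out.pow_dvd_iff_le_factorization Nat.card_pos.ne', fac h] at h1
        rw [hk]
        exact (Nat.pow_le_pow_right hp.out.pos h1).trans (pow_one p).le
      have hSeq : (S : Subgroup (commutator G)) = Subgroup.zpowers ⟨y, hK hy⟩ :=
        (Subgroup.eq_of_le_of_card_ge hS (by
          rw [Nat.card_zpowers, Subgroup.orderOf_mk, hyo]; exact hScard)).symm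
      obtain ⟨c, hc⟩ := MulAction.exists_smul_eq (commutator G) S R
      have hzR : (⟨z, hz⟩ : commutator G) ∈ (R : Subgroup (commutator G)) :=
        hR (Subgroup.mem_zpowers _)
      rw [← hc, Sylow.coe_subgroup_smul, hSeq] at hzR
      obtain ⟨w, hw, hwz⟩ := hzR
      have hwK : w ∈ K.subgroupOf (commutator G) :=
        Subgroup.zpowers_le.2 (show (⟨y, hK hy⟩ : commutator G) ∈ K.subgroupOf (commutator G) from hy) hw
      have h5 := hn.conj_mem w hwK c
      have h6 : c * w * c⁻¹ = ⟨z, hz⟩ := hwz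
      rw [h6] at h5
      exact h5
    refine hall _ (Subgroup.Normal.conj_mem inferInstance _ hx g) ?_
    rw [← h.ord]
    exact (MulAut.conj g).orderOf_eq x
  · exact Or.inl (Cfsg.Agent.Grp.le_pPrimeCore_of_isSubnormal hsub
      (hp.out.coprime_iff_not_dvd.2 hd).symm)

end Cfsg.Agent.Char.SCP
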