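import Cfsg.Agent.Lib.Char.SmallDegreeShape
import Cfsg.Agent.Lib.Char.DefectOneSetup
import Cfsg.Agent.Lib.Char.ModP

/-!
No faithful irreducible character of degree below `(p - 1) / 2` when the Sylow subgroup of order `p`
is normal in every proper subgroup containing it but not in the group.
-/

open scoped ComplexConjugate

namespace Cfsg.Agent.Char.SmallDeg

open Cfsg Cfsg.Agent.Block Cfsg.Agent.Char.BP Cfsg.Agent.Char.Spec Cfsg.Agent.Char.DefectOne

set_option linter.unusedSectionVars false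
set_option linter.style.haveILetI false
set_option maxHeartbeats 1600000

universe u

variable {G : Type u} [Group G] [Fintype G] {p : ℕ} [hp : Fact p.Prime] {M : Ideal AlgInt}
variable {P : Subgroup G} {u₀ : G}

/-- A constituent of small exceptional type has large degree away from the trivial exponent. -/
theorem bad_bound (hPm : Minimal P) (hPp : Nat.card P = p) (hsyl : ¬ p ∣ P.index) (hu₀ : u₀ ∈ P)
    (hu₁ : u₀ ≠ 1) {f θd : ℕ} (hf : (CG P).relIndex (Subgroup.normalizer (P : Set G)) = f)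
    (hθd : 0 < θd) (hcen : θd ^ 2 * (p * Nat.card (Subgroup.center G)) ≤ Nat.card (CG P))
    (hsmall : 2 * (f * θd) + 3 ≤ p) (hfpos : 0 < f) {ξ : IrrCharacter G}
    (hZ : ∀ z ∈ Subgroup.center G, (ξ : G → ℂ) z = (ξ : G → ℂ) 1) (hξ : ξ ≠ trivialIrr G)
    {m : ZMod p → ℕ} (hm : ∀ i, (ξ : G → ℂ) (pw u₀ i) = ∑ l, (m l : ℂ) * ψc (i * l))
    {L : Finset (ZMod p)} (hL0 : (0 : ZMod p) ∉ L) (hL : L.card = p - 1 ∨ L.card = f)
    (hshape : ∀ l, (m l : ℤ) = (m 0 : ℤ) - if l ∈ L then 1 else 0) :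
    (θd : ℤ) * (p - 1) + 1 ≤ 2 * ((charDegree (ξ : G → ℂ) : ℤ) - m 0) := by
  classical
  letI := Fintype.ofFinite (CG P)
  have hp2 := hp.out.two_le
  have hpw0 : pw u₀ (0 : ZMod p) = 1 := by simp [pw]
  have hsum : (charDegree (ξ : G → ℂ) : ℤ) = ∑ l, (m l : ℤ) := by
    have h := hm 0
    rw [hpw0, charDeg_spec'] at h
    simp only [zero_mul, AddChar.map_zero_eq_one, mul_one, ← Nat.cast_sum] at h
    exact_mod_cast Nat.cast_injective h
  have hdeg : (charDegree (ξ : G → ℂ) : ℤ) = (p : ℤ) * m 0 - L.card := by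
    rw [hsum, Finset.sum_congr rfl fun l _ => hshape l, Finset.sum_sub_distrib, Finset.sum_const,
      Finset.card_univ, ZMod.card, nsmul_eq_mul, Finset.sum_ite_mem, Finset.univ_inter,
      Finset.sum_const, nsmul_one]
  have hLne : L.Nonempty := Finset.card_pos.1 (by rcases hL with h | h <;> omega)
  obtain ⟨l₀, hl₀⟩ := hLne
  have hm1 : 1 ≤ m 0 := by
    have := hshape l₀
    rw [if_pos hl₀] at this
    omega
  have hm2 : L.card = p - 1 → 2 ≤ m 0 := by
    intro hc
    by_contra h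
    refine hξ (hPm.eq_trivial hPp hsyl hu₀ hu₁ ?_)
    rw [← pw_one hPp hu₀ hu₁, ← hpw0, hm, hm]
    refine Finset.sum_congr rfl fun l _ => ?_
    by_cases hl : l = 0
    · simp [hl]
    · have h1 : L = Finset.univ.erase 0 := Finset.eq_of_subset_of_card_le
        (fun l hl' => Finset.mem_erase.2 ⟨fun h0 => hL0 (h0 ▸ hl'), Finset.mem_univ _⟩)
        (by rw [Finset.card_erase_of_mem (Finset.mem_univ _), Finset.card_univ, ZMod.card, hc])
      have h2 := hshape l
      rw [if_pos (h1 ▸ Finset.mem_erase.2 ⟨hl, Finset.mem_univ _⟩)] at h2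
      have h3 : m l = 0 := by omega
      simp [h3]
  have hexp : p - f ≤ (Finset.univ.filter fun l => m l ≠ 0).card := by
    rcases hL with hc | hc
    · have h : (Finset.univ.filter fun l => m l ≠ 0) = Finset.univ := Finset.filter_true_of_mem
        fun l _ => by
          have := hshape l
          have := hm2 hc
          split at * <;> omega
      rw [h, Finset.card_univ, ZMod.card]
      exact Nat.sub_le _ _
    · have h : Finset.univ \ L ⊆ Finset.univ.filter fun l => m l ≠ 0 := fun l hl => by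
        refine Finset.mem_filter.2 ⟨Finset.mem_univ _, ?_⟩
        have := hshape l
        rw [if_neg (Finset.mem_sdiff.1 hl).2] at this
        omega
      have h2 := Finset.card_le_card h
      rw [Finset.card_sdiff_of_subset (Finset.subset_univ L), Finset.card_univ, ZMod.card, hc] at h2
      exact h2
  have hLle : (L.card : ℤ) ≤ (p : ℤ) - 1 := by
    have hff : f ≤ f * θd := Nat.le_mul_of_pos_right f hθd
    rcases hL with h | h <;> omega
  by_contra hcon
  push Not at hcon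
  rw [hdeg] at hcon
  by_cases hθ1 : θd = 1
  · subst hθ1
    have h1 : (1 : ℤ) ≤ m 0 := by exact_mod_cast hm1
    have h3 : (2 * f + 3 : ℤ) ≤ p := by exact_mod_cast (by simpa using hsmall)
    rcases hL with hc | hc
    · have h2 : (2 : ℤ) ≤ m 0 := by exact_mod_cast hm2 hc
      have hc' : (L.card : ℤ) = (p : ℤ) - 1 := by omega
      rw [hc'] at hcon
      push_cast at hcon
      nlinarith
    · rw [hc] at hcon
      push_cast at hcon
      nlinarith
  -- the norm bound
  have hnorm := (card_exponents_le hPp hu₀ hu₁ (irr_isChar ξ) hm).trans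
    (hPm.norm_bound hPp hsyl hf ξ hZ)
  set C : ℝ := (Nat.card (CG P) : ℝ)
  set Z : ℝ := (Nat.card (Subgroup.center G) : ℝ)
  set D : ℝ := (charDegree (ξ : G → ℂ) : ℝ)
  have hZpos : 0 < Z := Nat.cast_pos.2 Nat.card_pos
  have hcenR : (θd : ℝ) ^ 2 * ((p : ℝ) * Z) ≤ C := by
    simp only [C, Z]
    exact_mod_cast hcen
  have hexpR : (p : ℝ) - f ≤ ((Finset.univ.filter fun l => m l ≠ 0).card : ℝ) := by
    have hfp : f ≤ p := le_trans (Nat.le_mul_of_pos_right f hθd) (by omega)
    rw [← Nat.cast_sub hfp]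
    exact_mod_cast hexp
  have hθ2 : (2 : ℝ) ≤ θd := by exact_mod_cast (by omega : 2 ≤ θd)
  have hsmallR : 2 * ((f : ℝ) * θd) + 3 ≤ p := by exact_mod_cast hsmall
  have hC0 : (0 : ℝ) ≤ C := Nat.cast_nonneg _
  have hp2f : (p : ℝ) + 3 ≤ 2 * ((p : ℝ) - 2 * f) := by
    have hfnn : (0 : ℝ) ≤ f := Nat.cast_nonneg f
    nlinarith
  have h1 : C * ((p : ℝ) - 2 * f) ≤ Z * D ^ 2 := by nlinarith
  have h2 : Z * ((θd : ℝ) ^ 2 * p * ((p : ℝ) - 2 * f)) ≤ Z * D ^ 2 := by
    refine le_trans ?_ h1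
    have hnn : (0 : ℝ) ≤ (p : ℝ) - 2 * f := by
      have : (0 : ℝ) ≤ p := Nat.cast_nonneg p
      linarith
    calc Z * ((θd : ℝ) ^ 2 * p * ((p : ℝ) - 2 * f)) =
        ((θd : ℝ) ^ 2 * ((p : ℝ) * Z)) * ((p : ℝ) - 2 * f) := by ring
      _ ≤ C * ((p : ℝ) - 2 * f) := mul_le_mul_of_nonneg_right hcenR hnn
  have h3 := le_of_mul_le_mul_left h2 hZpos
  -- the degree is small
  have h4 : 2 * (charDegree (ξ : G → ℂ) : ℤ) ≤ (θd : ℤ) * p + 2 := by
    rw [hdeg]
    have hpz : (2 : ℤ) ≤ p := by exact_mod_cast hp2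
    nlinarith
  have h4R : 2 * D ≤ (θd : ℝ) * p + 2 := by
    simp only [D]
    exact_mod_cast h4
  have hD0 : 0 ≤ D := Nat.cast_nonneg _
  have hp0 : (0 : ℝ) ≤ p := Nat.cast_nonneg p
  have h5 : (θd : ℝ) ^ 2 * p * ((p : ℝ) + 3) ≤ 2 * D ^ 2 := by
    have : (θd : ℝ) ^ 2 * p * ((p : ℝ) + 3) ≤ (θd : ℝ) ^ 2 * p * (2 * ((p : ℝ) - 2 * f)) :=
      mul_le_mul_of_nonneg_left hp2f (by positivity)
    linarith
  have h6 : (2 * D) ^ 2 ≤ ((θd : ℝ) * p + 2) ^ 2 := pow_le_pow_left₀ (by linarith) h4R 2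
  have h7 : (7 : ℝ) ≤ p := by
    have : (1 : ℝ) ≤ f := by exact_mod_cast hfpos
    nlinarith
  nlinarith [mul_le_mul hθ2 h7 (by norm_num) (by positivity)]

/-- A faithful character whose value at `u₀` has maximal absolute value makes `u₀` central. -/
theorem center_of_norm {φ : IrrCharacter G} (hfaith : ∀ g, (φ : G → ℂ) g = (φ : G → ℂ) 1 → g = 1)
    {u : G} (h : ‖(φ : G → ℂ) u‖ = (charDegree (φ : G → ℂ) : ℝ)) : u ∈ Subgroup.center G := by
  obtain ⟨φf, n, ρ, hρ, rfl⟩ := φ
  haveI := hρ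
  have hdeg : charDegree ρ.character = Module.finrank ℂ (Fin n → ℂ) := by
    have h1 := (charDeg_spec (χ := ρ.character) (isCharacter_character ρ)).symm
    rw [Representation.char_one] at h1
    exact_mod_cast h1
  simp only at h hfaith
  rw [hdeg] at h
  obtain ⟨c, hc⟩ := (norm_character_eq_iff ρ u).1 h
  refine Subgroup.mem_center_iff.2 fun g => ?_
  have hcomm : ρ g * ρ u = ρ u * ρ g := by
    rw [hc, ← Module.End.one_eq_id, mul_smul_comm, smul_mul_assoc, mul_one, one_mul]
  have h1 : ρ (g * u * g⁻¹ * u⁻¹) = 1 := by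
    rw [map_mul, map_mul, map_mul, hcomm, mul_assoc (ρ u), ← map_mul, mul_inv_cancel, map_one,
      mul_one, ← map_mul, mul_inv_cancel, map_one]
  have h2 := hfaith (g * u * g⁻¹ * u⁻¹) (by rw [Representation.character, h1, ← map_one ρ]; rfl)
  rwa [mul_inv_eq_one, mul_inv_eq_iff_eq_mul] at h2

/-- No faithful irreducible character of small degree. -/
theorem no_small (hM : IsPModular p M)
    (hmin : ∀ Q : Subgroup G, Nat.card Q = p → Minimal Q)
    (hfac : (Nat.card G).factorization p = 1) {φ : IrrCharacter G}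
    (hfaith : ∀ g, (φ : G → ℂ) g = (φ : G → ℂ) 1 → g = 1)
    (hsmall : 2 * charDegree (φ : G → ℂ) + 3 ≤ p) : False := by
  classical
  have hp2 := hp.out.two_le
  set B := blockOf M (φ : G → ℂ)
  have hB : IsPBlock M B := isPBlock_blockOf φ
  have hφB : φ ∈ B := mem_blockOf_self hM φ
  have hd : blockDefect p B ≠ 0 := by
    intro h
    rw [blockDefect, hfac] at h
    have h1 : 1 ≤ (charDegree (φ : G → ℂ)).factorization p :=
      le_trans (show 1 ≤ sInf ((fun χ : IrrCharacter G => (charDegree (χ : G → ℂ)).factorization p) ''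
        B) by omega) (Nat.sInf_le ⟨φ, hφB, rfl⟩)
    have h2 := Nat.le_of_dvd (charDeg_pos φ)
      ((hp.out.dvd_iff_one_le_factorization (charDeg_pos φ).ne').2 h1)
    omega
  obtain ⟨P, b, θ, T, u₀, hPp, hsyl, hθ, hθP, haB, hT, hu₀, hu₁⟩ := exists_setup hM hB hd hfac
  have hPm := hmin P hPp
  obtain ⟨R, X, y, c, ε, hD⟩ := exists_data hM hPp hsyl hθ hθP hB haB hd hT hu₀ hu₁
  letI := Fintype.ofFinite (CG P)
  have hPg : IsPGroup p P := IsPGroup.of_card (n := 1) (by rw [hPp, pow_one])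
  set N := Subgroup.normalizer (P : Set G) with hN
  -- the principal block
  have hθ0 : trivialIrr (CG P) ∈ principalBlock M (CG P) := trivial_mem_principalBlock hM
  have hθP0 : ∀ x : CG P, (x : G) ∈ P → (trivialIrr (CG P) : CG P → ℂ) x =
      (trivialIrr (CG P) : CG P → ℂ) 1 := fun _ _ => rfl
  have haB0 : OfB p M (principalBlock M G) (⟨P, principalBlock M (CG P)⟩ : BrauerPairIdx G) :=
    prPair_ofB hM hPg
  have hd0 : blockDefect p (principalBlock M G) ≠ 0 := by
    have h1 : sInf ((fun χ : IrrCharacter G => (charDegree (χ : G → ℂ)).factorization p) ''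
        principalBlock M G) = 0 := Nat.eq_zero_of_le_zero (Nat.sInf_le ⟨trivialIrr G,
      trivial_mem_principalBlock hM, by
        simp [show charDegree (trivialIrr G : G → ℂ) = 1 from Nat.cast_injective (R := ℂ)
          ((charDeg_spec' (trivialIrr G)).symm.trans (Nat.cast_one (R := ℂ)).symm)]⟩)
    rw [blockDefect, h1, hfac]
    omega
  have hT0 : ∀ g : G, g ∈ N ↔ (g ∈ Subgroup.normalizer (P : Set G) ∧ ∀ c c' : CG P,
      (c' : G) = g * c * g⁻¹ → (trivialIrr (CG P) : CG P → ℂ) c' =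
        (trivialIrr (CG P) : CG P → ℂ) c) :=
    fun g => ⟨fun h => ⟨h, fun c c' _ => rfl⟩, fun h => h.1⟩
  obtain ⟨R0, X0, y0, c0, ε0, hD0⟩ := exists_data hM hPp hsyl hθ0 hθP0 isPBlock_principalBlock
    haB0 hd0 hT0 hu₀ hu₁
  obtain ⟨-, hfdvd, -⟩ := counts hD0
  set f := (CG P).relIndex N with hf
  have hfpos : 0 < f := Nat.pos_of_dvd_of_pos hfdvd (by omega)
  set d := charDegree (φ : G → ℂ) with hddef
  set θd := charDegree (θ : CG P → ℂ) with hθd
  have hθpos : 0 < θd := charDeg_pos θ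
  obtain ⟨hε, q, O, hφq, hOcard, hdeg, hφval⟩ :=
    exists_shape hM hPm hPp hsyl hθ hθP haB hT hu₀ hu₁ hD hφB hfaith hsmall hf.symm hfdvd
  -- more than one exponent
  have hf2 : 2 ≤ f := by
    by_contra hcon
    obtain ⟨l, hl⟩ := Finset.card_eq_one.1 (hOcard.trans (by omega : f = 1))
    refine hu₁ (hPm.center_inter hPp hu₀ (center_of_norm hfaith ?_))
    rw [← pw_one hPp hu₀ hu₁, hφval, hl, Finset.sum_singleton, norm_mul, Complex.norm_natCast,
      norm_eq_one_of_pow_eq_one' hp.out.pos (c := ψc (1 * l)) (by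
        rw [← AddChar.map_nsmul_eq_pow, nsmul_eq_mul, ZMod.natCast_self, zero_mul,
          AddChar.map_zero_eq_one]), mul_one]
    rw [show f = 1 by omega, one_mul] at hdeg
    exact_mod_cast hdeg.symm
  -- the constituents of `φ φ̄`
  set F : G → ℂ := (φ : G → ℂ) * fun g => conj ((φ : G → ℂ) g) with hFdef
  obtain ⟨n, hn, hdecF⟩ := IsChar.exists_decomp_inner
    (IsChar.mul (irr_isChar φ) (IsChar.conj (irr_isChar φ)))
  have hFapply : ∀ g, F g = ∑ ξ : IrrCharacter G, (n ξ : ℂ) * (ξ : G → ℂ) g := fun g => by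
    have := congrFun hdecF g
    rw [sum_irr_apply] at this
    exact this
  have hn1 : n (trivialIrr G) = 1 := by
    apply Nat.cast_injective (R := ℂ)
    rw [← hn, Nat.cast_one, ← classInner_self_irr φ.2]
    simp [classInner, trivialIrr]
  have hFZ : ∀ z ∈ Subgroup.center G, F z = F 1 := fun z hz => by
    obtain ⟨s, hs, hsg⟩ := IsIrr.scalar_of_center φ.2 hz
    have h1 := hsg 1
    rw [mul_one] at h1
    simp only [hFdef, Pi.mul_apply, h1, map_mul]
    rw [mul_mul_mul_comm, Complex.mul_conj, Complex.normSq_eq_norm_sq, hs]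
    simp
  choose mξ hmξ using fun ξ : IrrCharacter G => exists_pmult hPp hu₀ hu₁ (irr_isChar ξ)
  have hpw0 : pw u₀ (0 : ZMod p) = 1 := by simp [pw]
  -- the trivial exponent in `φ φ̄`
  have hmF : (∑ ξ, n ξ * mξ ξ 0) = θd * θd * f := by
    have h := coeff_eq (f := fun l => ∑ ξ, (n ξ : ℂ) * (mξ ξ l : ℂ))
      (g := fun l => (θd : ℂ) * θd * (((O ×ˢ O).filter fun a => a.1 - a.2 = l).card : ℂ)) (fun i => ?_) 0
    · have hcard : ((O ×ˢ O).filter fun a => a.1 - a.2 = 0).card = f := by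
        rw [← hOcard, ← Finset.diag_card O]
        congr 1
        ext a
        simp only [sub_eq_zero, Finset.mem_filter, Finset.mem_product, Finset.mem_diag]
        exact ⟨fun h => ⟨h.1.1, h.2⟩, fun h => ⟨⟨h.1, h.2 ▸ h.1⟩, h.2⟩⟩
      simp only [hcard] at h
      exact_mod_cast h
    · calc ∑ l, (∑ ξ, (n ξ : ℂ) * (mξ ξ l : ℂ)) * ψc (i * l)
          = F (pw u₀ i) := by
            rw [hFapply]
            simp only [Finset.sum_mul, hmξ, Finset.mul_sum, mul_assoc]
            exact Finset.sum_comm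
        _ = _ := by
            simp only [hFdef, Pi.mul_apply, hφval, map_mul, map_sum, Complex.conj_natCast, ψc_conj]
            rw [mul_mul_mul_comm, Finset.sum_mul_sum, ← Finset.sum_product',
              ← Finset.sum_fiberwise (O ×ˢ O) (fun a => a.1 - a.2), Finset.mul_sum]
            refine Finset.sum_congr rfl fun l _ => ?_
            rw [Finset.sum_congr rfl (g := fun _ => ψc (i * l)) fun a ha => ?_, Finset.sum_const,
              nsmul_eq_mul, mul_assoc]
            · ring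
            · rw [← (Finset.mem_filter.1 ha).2, mul_sub, sub_eq_add_neg, AddChar.map_add_eq_mul]
  have hF1 : (∑ ξ, n ξ * charDegree (ξ : G → ℂ)) = d * d := by
    apply Nat.cast_injective (R := ℂ)
    push_cast
    rw [show ((d : ℂ) * d) = F 1 by
      simp only [hFdef, Pi.mul_apply, charDeg_spec', Complex.conj_natCast]; rfl, hFapply]
    exact Finset.sum_congr rfl fun ξ _ => by rw [charDeg_spec']
  -- the principal section
  letI : Fintype (N ⧸ T.subgroupOf N) := Fintype.ofFinite _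
  obtain ⟨r, hr⟩ := exists_multiplier hPp hu₀ hu₁ hN T
  set B0 := principalBlock M G
  set A := Finset.univ.filter (· ∈ B0)
  set L : (ZMod p)ˣ ⧸ R0 → Finset (ZMod p) := fun q' =>
    (Finset.univ.filter fun j : (ZMod p)ˣ => (j : (ZMod p)ˣ ⧸ R0) = q').image fun j : (ZMod p)ˣ => (j : ZMod p)
  have hcoset : ∀ (S : Subgroup (ZMod p)ˣ) (q' : (ZMod p)ˣ ⧸ S),
      (Finset.univ.filter fun j : (ZMod p)ˣ => (j : (ZMod p)ˣ ⧸ S) = q').card = Nat.card S := by
    intro S q'
    rw [Nat.card_eq_fintype_card, ← Finset.card_univ]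
    symm
    refine Finset.card_bij (fun (r : S) _ => q'.out * (r : (ZMod p)ˣ)) (fun r _ => ?_)
      (fun r _ r' _ h => Subtype.ext (mul_left_cancel h)) fun j hj => ?_
    · refine Finset.mem_filter.2 ⟨Finset.mem_univ _, ?_⟩
      rw [QuotientGroup.mk_mul_of_mem _ r.2, QuotientGroup.out_eq']
    · refine ⟨⟨q'.out⁻¹ * j, ?_⟩, Finset.mem_univ _, mul_inv_cancel_left _ _⟩
      rw [← QuotientGroup.eq, QuotientGroup.out_eq', (Finset.mem_filter.1 hj).2]
  have hLcard : ∀ q', (L q').card = f := fun q' => by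
    rw [Finset.card_image_of_injective _ fun a b h => Units.ext h, hcoset, hD0.card_R]
  have hL0 : ∀ q', (0 : ZMod p) ∉ L q' := fun q' h => by
    obtain ⟨j, -, hj⟩ := Finset.mem_image.1 h
    exact j.ne_zero hj
  -- the coefficient rows of the members
  have hrow : ∀ ξ ∈ A, ∃ s : ℤ, ∃ Ls : Finset (ZMod p), (0 : ZMod p) ∉ Ls ∧
      (∀ i : ZMod p, i ≠ 0 → (ξ : G → ℂ) (pw u₀ i) = (s : ℂ) * ∑ l ∈ Ls, ψc (i * l)) ∧
      ((Ls.card = p - 1 ∧ (s = 1 ∨ s = -1)) ∨ (Ls.card = f ∧ s = ε0)) := by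
    intro ξ hξ
    rcases (hD0.mem_iff ξ).1 (Finset.mem_filter.1 hξ).2 with hX | ⟨q', hq'⟩
    · refine ⟨c0 ξ, Finset.univ.erase 0, Finset.notMem_erase _ _, fun i hi => ?_, Or.inl ⟨?_, hD0.c_sign ξ hX⟩⟩
      · have h := value_principal hM hPp (Finset.mem_filter.1 hξ).2 (pw_mem hPp hu₀ hu₁ i)
          (pw_ne_one hPp hu₀ hu₁ hi) (one_mem (CG P))
          (by rw [orderOf_one]; exact hp.out.not_dvd_one)
        rw [mul_one] at h
        rw [h]
        have h1 := hD0.sct_X ξ hX i hi 1 (by rw [orderOf_one]; exact hp.out.not_dvd_one)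
        rw [OneMemClass.coe_one] at h1
        rw [h1]
        have hz : ∑ l : ZMod p, ψc (i * l) = 0 := by
          rw [Finset.sum_congr rfl (g := fun j => ψc (j * i)) (fun j _ => by rw [mul_comm i j]),
            ψc_sum, if_neg hi]
        rw [← Finset.add_sum_erase _ _ (Finset.mem_univ (0 : ZMod p)), mul_zero,
          AddChar.map_zero_eq_one] at hz
        rw [eq_neg_of_add_eq_zero_right hz]
        show -(c0 ξ : ℂ) * 1 = _
        ring
      · rw [Finset.card_erase_of_mem (Finset.mem_univ _), Finset.card_univ, ZMod.card]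
    · refine ⟨ε0, L q', hL0 q', fun i hi => ?_, Or.inr ⟨hLcard q', rfl⟩⟩
      have h := value_principal hM hPp (Finset.mem_filter.1 hξ).2 (pw_mem hPp hu₀ hu₁ i)
        (pw_ne_one hPp hu₀ hu₁ hi) (one_mem (CG P)) (by rw [orderOf_one]; exact hp.out.not_dvd_one)
      rw [mul_one] at h
      rw [h, ← hq']
      have h1 := hD0.sct_Y q' i hi 1 (by rw [orderOf_one]; exact hp.out.not_dvd_one)
      rw [OneMemClass.coe_one] at h1
      rw [h1, Finset.sum_image fun a _ b _ h => Units.ext h, Finset.sum_filter]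
      show _ * (1 : ℂ) = _
      rw [mul_one]
  choose! s Ls hLs0 hLsval hLscase using hrow
  -- the two expansions of the section
  set J := (Finset.univ : Finset (N ⧸ T.subgroupOf N)) ×ˢ
    ((Finset.univ.filter fun j : (ZMod p)ˣ => (j : (ZMod p)ˣ ⧸ R) = q) ×ˢ
      (Finset.univ.filter fun j : (ZMod p)ˣ => (j : (ZMod p)ˣ ⧸ R) = q))
  set δ : (N ⧸ T.subgroupOf N) × (ZMod p)ˣ × (ZMod p)ˣ → ZMod p := fun a =>
    (r a.1 : ZMod p) * ((a.2.1 : ZMod p) - (a.2.2 : ZMod p))
  set gL : ZMod p → ℤ := fun l => ∑ ξ ∈ A, (n ξ : ℤ) * if l ∈ Ls ξ then s ξ else 0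
  set gR : ZMod p → ℤ := fun l => ((J.filter fun a => δ a = l).card : ℤ)
  have hexp : ∀ i : ZMod p, i ≠ 0 →
      ∑ l, (gL l : ℂ) * ψc (i * l) = ∑ l, (gR l : ℂ) * ψc (i * l) := by
    intro i hi
    calc ∑ l, (gL l : ℂ) * ψc (i * l)
        = ∑ ξ ∈ A, (n ξ : ℂ) * sct (ξ : G → ℂ)
            (⟨P, principalBlock M (CG P)⟩ : BrauerPairIdx G) (pw u₀ i) 1 := by
          simp only [gL, Int.cast_sum, Int.cast_mul, Int.cast_natCast, Finset.sum_mul]
          rw [Finset.sum_comm]
          refine Finset.sum_congr rfl fun ξ hξ => ?_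
          have h := value_principal hM hPp (Finset.mem_filter.1 hξ).2 (pw_mem hPp hu₀ hu₁ i)
            (pw_ne_one hPp hu₀ hu₁ hi) (one_mem (CG P))
            (by rw [orderOf_one]; exact hp.out.not_dvd_one)
          rw [mul_one] at h
          rw [← h, hLsval ξ hξ i hi, Finset.mul_sum, Finset.mul_sum,
            ← Finset.sum_subset (Finset.subset_univ (Ls ξ)) fun l _ hl => by
              rw [if_neg hl, Int.cast_zero, mul_zero, zero_mul]]
          exact Finset.sum_congr rfl fun l hl => by rw [if_pos hl]; ring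
      _ = sct F (⟨P, principalBlock M (CG P)⟩ : BrauerPairIdx G) (pw u₀ i) 1 := by
          rw [Finset.sum_subset (Finset.subset_univ A) fun ξ _ hξ => ?_]
          · simp only [sct, hFapply, Finset.mul_sum]
            rw [Finset.sum_comm]
            exact Finset.sum_congr rfl fun k _ => Finset.sum_congr rfl fun ξ _ => by ring
          · rw [sct_eq_zero (a := (⟨P, principalBlock M (CG P)⟩ : BrauerPairIdx G)) hM
              (mem_blockOf_self hM ξ) (isPBlock_blockOf ξ) haB0.1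
              (pPow_mem hPp (pw_mem hPp hu₀ hu₁ i))
              (mem_zpowers_of_prime hPp (pw_mem hPp hu₀ hu₁ i) (pw_ne_one hPp hu₀ hu₁ hi)).symm
              (fun h' => hξ ?_) (one_mem _) (by rw [orderOf_one]; exact hp.out.not_dvd_one),
              mul_zero]
            refine Finset.mem_filter.2 ⟨Finset.mem_univ _, ?_⟩
            show ξ ∈ B0
            rw [ofB_unique hM haB0 h']
            exact mem_blockOf_self hM ξ
      _ = _ := by
          rw [hFdef, hφq, sct_product hM hPp hsyl hθ hθP haB hT hu₀ hu₁ hD hε hN hr q hi]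
          simp only [gR, Int.cast_natCast]
          rw [Finset.sum_congr rfl (g := fun l => ∑ a ∈ J.filter (fun a => δ a = l), ψc (i * δ a))
            (s₁ := Finset.univ) (f := fun l => ((J.filter fun a => δ a = l).card : ℂ) * ψc (i * l))
            fun l _ => ?_, Finset.sum_fiberwise, Finset.sum_product]
          · refine Finset.sum_congr rfl fun z _ => ?_
            simp only [cosum, ← Finset.sum_filter, map_sum, Finset.sum_mul_sum, ψc_conj]
            rw [Finset.sum_product]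
            refine Finset.sum_congr rfl fun j _ => Finset.sum_congr rfl fun k _ => ?_
            rw [← AddChar.map_add_eq_mul]
            congr 1
            simp only [δ]
            ring
          · rw [Finset.sum_congr rfl (g := fun _ => ψc (i * l)) fun a ha => by
              rw [(Finset.mem_filter.1 ha).2], Finset.sum_const, nsmul_eq_mul]
  have hgL0 : gL 0 = 0 := Finset.sum_eq_zero fun ξ hξ => by rw [if_neg (hLs0 ξ hξ), mul_zero]
  set K := T.relIndex N
  set e := Nat.card R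
  have hfeq : f = e * K := by
    show f = Nat.card R * K
    rw [hD.card_R, hf]
    exact (Subgroup.relIndex_mul_relIndex _ T _ (cg_le_T hθ hT) fun g hg => ((hT g).1 hg).1).symm
  have hKcard : Fintype.card (N ⧸ T.subgroupOf N) = K := by
    rw [← Nat.card_eq_fintype_card]; rfl
  have hgR0 : gR 0 = (f : ℤ) := by
    have h1 : (J.filter fun a => δ a = 0) = (Finset.univ : Finset (N ⧸ T.subgroupOf N)) ×ˢ
        (Finset.univ.filter fun j : (ZMod p)ˣ => (j : (ZMod p)ˣ ⧸ R) = q).diag := by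
      ext ⟨z, j, k⟩
      simp only [J, δ, Finset.mem_filter, Finset.mem_product, Finset.mem_diag, Finset.mem_univ,
        true_and, mul_eq_zero, Units.ne_zero, false_or, sub_eq_zero, Units.val_inj]
      exact ⟨fun h => ⟨h.1.1, h.2⟩, fun h => ⟨⟨h.1, h.2 ▸ h.1⟩, h.2⟩⟩
    simp only [gR, h1, Finset.card_product, Finset.diag_card, hcoset, Finset.card_univ, hKcard]
    rw [hfeq]
    push_cast
    ring
  have hsumR : ∑ l, gR l = (f : ℤ) * e := by
    simp only [gR]
    rw [← Nat.cast_sum, ← Finset.card_eq_sum_card_fiberwise fun a _ => Finset.mem_univ (δ a)]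
    simp only [J, Finset.card_product, hcoset, Finset.card_univ, hKcard]
    rw [hfeq]
    push_cast
    ring
  have hgdiff : ∀ l, gL l - gR l = -(f : ℤ) := fun l => by
    have h := diff_eq (f := fun l => (gL l : ℂ)) (g := fun l => (gR l : ℂ)) hexp l
    have h' : gL l - gR l = gL 0 - gR 0 := by
      apply Int.cast_injective (α := ℂ)
      push_cast
      exact h
    rw [h', hgL0, hgR0, zero_sub]
  have hsumL : ∑ ξ ∈ A, (n ξ : ℤ) * (s ξ * (Ls ξ).card) = (f : ℤ) * e - (p : ℤ) * f := by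
    have h1 : ∑ l, gL l = ∑ ξ ∈ A, (n ξ : ℤ) * (s ξ * (Ls ξ).card) := by
      simp only [gL]
      rw [Finset.sum_comm]
      refine Finset.sum_congr rfl fun ξ _ => ?_
      rw [← Finset.mul_sum, Finset.sum_ite_mem, Finset.univ_inter, Finset.sum_const, nsmul_eq_mul,
        mul_comm (s ξ)]
    have h2 : ∑ l, (gL l - gR l) = ∑ _l : ZMod p, -(f : ℤ) := Finset.sum_congr rfl fun l _ => hgdiff l
    rw [Finset.sum_sub_distrib, h1, hsumR, Finset.sum_const, Finset.card_univ, ZMod.card,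
      nsmul_eq_mul] at h2
    linarith
  -- the trivial character
  have htA : trivialIrr G ∈ A := Finset.mem_filter.2 ⟨Finset.mem_univ _, trivial_mem_principalBlock hM⟩
  have hshape : ∀ ξ ∈ A, ∀ l, (mξ ξ l : ℤ) - (if l ∈ Ls ξ then s ξ else 0) = mξ ξ 0 := by
    intro ξ hξ l
    have h := diff_eq (f := fun l => (mξ ξ l : ℂ))
      (g := fun l => if l ∈ Ls ξ then (s ξ : ℂ) else 0) (fun i hi => by
        rw [← hmξ, hLsval ξ hξ i hi]
        simp only [ite_mul, zero_mul, ← Finset.sum_filter, Finset.filter_mem_eq_inter,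
          Finset.univ_inter, Finset.mul_sum]) l
    rw [if_neg (hLs0 ξ hξ), sub_zero] at h
    apply Int.cast_injective (α := ℂ)
    push_cast
    exact h
  have hcen := degree_sq_le hPp (fun u hu hz => hPm.center_inter hPp hu hz) θ
  -- the excess degrees
  set Az : IrrCharacter G → ℤ := fun ξ => (charDegree (ξ : G → ℂ) : ℤ) - mξ ξ 0
  have hAz0 : ∀ ξ, 0 ≤ Az ξ := fun ξ => by
    have h := hmξ ξ 0
    rw [hpw0, charDeg_spec'] at h
    simp only [zero_mul, AddChar.map_zero_eq_one, mul_one, ← Nat.cast_sum] at h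
    have h1 : mξ ξ 0 ≤ charDegree (ξ : G → ℂ) := by
      rw [Nat.cast_injective h]
      exact Finset.single_le_sum (fun _ _ => Nat.zero_le _) (Finset.mem_univ (0 : ZMod p))
    simp only [Az]
    omega
  have hbad : ∀ ξ ∈ A.erase (trivialIrr G),
      -((θd : ℤ) * (p - 1) + 1) * ((n ξ : ℤ) * (s ξ * (Ls ξ).card)) ≤
        2 * ((p : ℤ) - 1) * ((n ξ : ℤ) * Az ξ) := by
    intro ξ hξ
    have hξA := Finset.mem_of_mem_erase hξ
    have hpz : (2 : ℤ) ≤ p := by exact_mod_cast hp2
    rcases Nat.eq_zero_or_pos (n ξ) with hn0 | hnpos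
    · simp [hn0]
    have hnz : (0 : ℤ) ≤ n ξ := Nat.cast_nonneg _
    have hsign : s ξ = 1 ∨ s ξ = -1 := by
      rcases hLscase ξ hξA with h | h
      · exact h.2
      · rw [h.2]; exact hD0.ε_sign
    rcases hsign with hs | hs
    · rw [hs, one_mul]
      have : 0 ≤ ((θd : ℤ) * (p - 1) + 1) * ((n ξ : ℤ) * ((Ls ξ).card : ℤ)) :=
        mul_nonneg (by nlinarith) (mul_nonneg hnz (Nat.cast_nonneg _))
      have : 0 ≤ 2 * ((p : ℤ) - 1) * ((n ξ : ℤ) * Az ξ) :=
        mul_nonneg (by linarith) (mul_nonneg hnz (hAz0 ξ))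
      linarith
    · have hZξ : ∀ z ∈ Subgroup.center G, (ξ : G → ℂ) z = (ξ : G → ℂ) 1 := fun z hz =>
        constituent_ker (IsChar.mul (irr_isChar φ) (IsChar.conj (irr_isChar φ))) ξ.2
          (by rw [hn]; exact Nat.cast_ne_zero.2 hnpos.ne') (hFZ z hz)
      have hb := bad_bound hPm hPp hsyl hu₀ hu₁ hf.symm hθpos hcen (hdeg ▸ hsmall) hfpos hZξ
        (Finset.ne_of_mem_erase hξ) (hmξ ξ) (hLs0 ξ hξA)
        (by rcases hLscase ξ hξA with h | h
            · exact Or.inl h.1
            · exact Or.inr h.1)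
        (fun l => by
          have := hshape ξ hξA l
          rw [hs] at this
          split at this <;> simp_all <;> linarith)
      have hcardle : ((Ls ξ).card : ℤ) ≤ (p : ℤ) - 1 := by
        have hff : f ≤ f * θd := Nat.le_mul_of_pos_right f hθpos
        have hsm : 2 * (f * θd) + 3 ≤ p := hdeg ▸ hsmall
        rcases hLscase ξ hξA with h | h <;> rw [h.1] <;> omega
      rw [hs]
      calc -((θd : ℤ) * (p - 1) + 1) * ((n ξ : ℤ) * (-1 * (Ls ξ).card))
          = (n ξ : ℤ) * (((Ls ξ).card : ℤ) * ((θd : ℤ) * (p - 1) + 1)) := by ring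
        _ ≤ (n ξ : ℤ) * (((p : ℤ) - 1) * (2 * Az ξ)) := by
            refine mul_le_mul_of_nonneg_left (mul_le_mul hcardle hb ?_ (by linarith)) hnz
            nlinarith
        _ = _ := by ring
  have hsum2 := Finset.sum_le_sum hbad
  rw [← Finset.mul_sum, ← Finset.mul_sum] at hsum2
  have hAzF : ∑ ξ ∈ A.erase (trivialIrr G), (n ξ : ℤ) * Az ξ ≤
      (d : ℤ) * d - (θd : ℤ) * θd * f := by
    have h1 : ∑ ξ, (n ξ : ℤ) * Az ξ = (d : ℤ) * d - (θd : ℤ) * θd * f := by
      simp only [Az, mul_sub, Finset.sum_sub_distrib]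
      have h2 : ∑ ξ, (n ξ : ℤ) * (charDegree (ξ : G → ℂ) : ℤ) = (d : ℤ) * d := by exact_mod_cast hF1
      have h3 : ∑ ξ, (n ξ : ℤ) * (mξ ξ 0 : ℤ) = (θd : ℤ) * θd * f := by exact_mod_cast hmF
      rw [h2, h3]
    rw [← h1]
    exact Finset.sum_le_sum_of_subset_of_nonneg (Finset.subset_univ _)
      fun ξ _ _ => mul_nonneg (Nat.cast_nonneg _) (hAz0 ξ)
  have htriv : (n (trivialIrr G) : ℤ) * (s (trivialIrr G) * (Ls (trivialIrr G)).card) =
      -((p : ℤ) - 1) := by
    have h1 := hmξ (trivialIrr G) 0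
    have hshp := hshape _ htA
    have hsum0 : ∑ l, mξ (trivialIrr G) l = 1 := by
      rw [hpw0] at h1
      simp only [zero_mul, AddChar.map_zero_eq_one, mul_one, ← Nat.cast_sum] at h1
      exact Nat.cast_injective (R := ℂ) (h1.symm.trans (Nat.cast_one (R := ℂ)).symm)
    have hm0 : ∀ l, (mξ (trivialIrr G) l : ℂ) = if l = 0 then 1 else 0 := coeff_eq fun i => by
      rw [← hmξ]
      simp [ite_mul]
      rfl
    have hm00 : mξ (trivialIrr G) 0 = 1 := by exact_mod_cast (by simpa using hm0 0 : (mξ (trivialIrr G) 0 : ℂ) = 1)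
    have hml : ∀ l, l ≠ 0 → l ∈ Ls (trivialIrr G) ∧ s (trivialIrr G) = -1 := fun l hl => by
      have h2 := hshp l
      have h3 : mξ (trivialIrr G) l = 0 := by
        exact_mod_cast (by simpa [hl] using hm0 l : (mξ (trivialIrr G) l : ℂ) = 0)
      rw [h3, hm00] at h2
      split at h2
      · next h => exact ⟨h, by omega⟩
      · omega
    have hLeq : Ls (trivialIrr G) = Finset.univ.erase 0 := Finset.Subset.antisymm
      (fun l hl => Finset.mem_erase.2 ⟨fun h => hLs0 _ htA (h ▸ hl), Finset.mem_univ _⟩)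
      fun l hl => (hml l (Finset.ne_of_mem_erase hl)).1
    rw [hn1, (hml 1 one_ne_zero).2, hLeq, Finset.card_erase_of_mem (Finset.mem_univ _),
      Finset.card_univ, ZMod.card, Nat.cast_sub (by omega)]
    push_cast
    ring
  rw [← Finset.add_sum_erase A _ htA, htriv] at hsumL
  have hez : (e : ℤ) ≤ f := by
    have hK : 0 < K := Nat.pos_of_ne_zero fun h => by rw [hfeq, h, mul_zero] at hfpos; omega
    have he : e ≤ f := hfeq ▸ Nat.le_mul_of_pos_right e hK
    exact_mod_cast he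
  have hfz : (2 : ℤ) ≤ f := by exact_mod_cast hf2
  have hθz : (1 : ℤ) ≤ θd := by exact_mod_cast hθpos
  have hdz : (d : ℤ) = (f : ℤ) * θd := by exact_mod_cast hdeg
  have hsz : 2 * ((f : ℤ) * θd) + 3 ≤ p := by rw [← hdz]; exact_mod_cast hsmall
  obtain ⟨t, ht⟩ := hfdvd
  have htz : (p : ℤ) - 1 = (f : ℤ) * t := by
    have h1 : ((p - 1 : ℕ) : ℤ) = (f : ℤ) * t := by exact_mod_cast ht
    rw [Nat.cast_sub (by omega)] at h1
    simpa using h1
  have hpf : 0 ≤ (p : ℤ) - 1 - f := by
    have : (f : ℤ) ≤ f * θd := le_mul_of_one_le_right (by linarith) hθz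
    linarith
  set SB := ∑ ξ ∈ A.erase (trivialIrr G), (n ξ : ℤ) * (s ξ * (Ls ξ).card)
  set SA := ∑ ξ ∈ A.erase (trivialIrr G), (n ξ : ℤ) * Az ξ
  have hSB : ((f : ℤ) - 1) * ((p : ℤ) - 1 - f) ≤ -SB := by
    have h1 : (f : ℤ) * e ≤ (f : ℤ) * f := mul_le_mul_of_nonneg_left hez (by linarith)
    linarith
  have hk1 : ((θd : ℤ) * (p - 1) + 1) * (((f : ℤ) - 1) * ((p : ℤ) - 1 - f)) ≤
      ((f : ℤ) - 1) * (2 * ((p : ℤ) - 1) * ((θd : ℤ) * θd * f)) := by
    have h1 : ((θd : ℤ) * (p - 1) + 1) * (((f : ℤ) - 1) * ((p : ℤ) - 1 - f)) ≤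
        ((θd : ℤ) * (p - 1) + 1) * -SB := mul_le_mul_of_nonneg_left hSB (by nlinarith)
    have h2 : 2 * ((p : ℤ) - 1) * SA ≤ 2 * ((p : ℤ) - 1) * ((d : ℤ) * d - (θd : ℤ) * θd * f) :=
      mul_le_mul_of_nonneg_left hAzF (by linarith)
    rw [hdz] at h2
    linarith
  rw [mul_left_comm] at hk1
  have hk2 := le_of_mul_le_mul_left hk1 (by linarith)
  have htb : 2 * (θd : ℤ) + 1 ≤ t := by
    by_contra h
    push Not at h
    have : (f : ℤ) * t ≤ (f : ℤ) * (2 * θd) := mul_le_mul_of_nonneg_left (by linarith) (by linarith)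
    linarith
  have hk3 : 2 * (θd : ℤ) * f ≤ (p : ℤ) - 1 - f := by
    rw [htz]
    have := mul_le_mul_of_nonneg_left htb (show (0 : ℤ) ≤ f by linarith)
    linarith
  have hk4 : ((θd : ℤ) * (p - 1)) * (2 * (θd : ℤ) * f) ≤ ((θd : ℤ) * (p - 1)) * ((p : ℤ) - 1 - f) :=
    mul_le_mul_of_nonneg_left hk3 (mul_nonneg (by linarith) (by linarith))
  have hk5 : (0 : ℤ) < (p : ℤ) - 1 - f := by
    have : 0 < 2 * (θd : ℤ) * f := by positivity
    linarith
  linarith

end Cfsg.Agent.Char.SmallDeg
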