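import Cfsg.Agent.Lib.Char.SibleyCoherence
import Cfsg.Agent.Lib.Char.KerNilpotent

/-!
Case analysis for a TI kernel with Frobenius normalizer: the exceptional cases of coherence.
-/

set_option autoImplicit false
set_option linter.unusedSectionVars false

namespace Cfsg.Agent.Char.KerSets

open scoped ComplexConjugate commutatorElement
open Cfsg Cfsg.Agent.Char.FrobTI Cfsg.Agent.Char.Coh

universe u

section
variable {L : Type u} [Group L] [Fintype L] (K : Subgroup L) [K.Normal]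
  (hC : ∀ k ∈ K, k ≠ 1 → Subgroup.centralizer ({k} : Set L) ≤ K)

include hC in
/-- An abelian kernel of order one more than its index is elementary abelian. -/
theorem exponent_prime (hD : (⁅K, K⁆ : Subgroup L) = ⊥) (hc : Nat.card K = K.index + 1) :
    ∃ p : ℕ, p.Prime ∧ IsPGroup p K ∧ (∀ a ∈ K, ∀ b ∈ K, a * b = b * a) ∧
      (∀ a ∈ K, a ^ p = 1) := by
  classical
  have hab : ∀ a ∈ K, ∀ b ∈ K, a * b = b * a := fun a ha b hb =>
    commutatorElement_eq_one_iff_mul_comm.1
      (Subgroup.mem_bot.1 (hD ▸ Subgroup.commutator_mem_commutator ha hb))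
  have hne : Nat.card K ≠ 1 := by
    have := Subgroup.index_ne_zero_of_finite (H := K)
    omega
  obtain ⟨p, hp, hpd⟩ := Nat.exists_prime_and_dvd hne
  haveI := Fact.mk hp
  let Om : Subgroup L :=
    { carrier := {x | x ∈ K ∧ x ^ p = 1}
      one_mem' := ⟨K.one_mem, one_pow p⟩
      mul_mem' := fun {a b} ha hb => ⟨K.mul_mem ha.1 hb.1, by
        rw [Commute.mul_pow (hab a ha.1 b hb.1), ha.2, hb.2, one_mul]⟩
      inv_mem' := fun {a} ha => ⟨K.inv_mem ha.1, by rw [inv_pow, ha.2, inv_one]⟩ }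
  haveI : Om.Normal := ⟨fun x hx g => ⟨(inferInstance : K.Normal).conj_mem x hx.1 g,
    by rw [conj_pow, hx.2, mul_one, mul_inv_cancel]⟩⟩
  obtain ⟨z, hz⟩ := exists_prime_orderOf_dvd_card' (G := K) p hpd
  have hzO : (z : L) ∈ Om := ⟨z.2, by
    rw [← SubmonoidClass.coe_pow, ← hz, pow_orderOf_eq_one, OneMemClass.coe_one]⟩
  have hOle : Om ≤ K := fun x hx => hx.1
  have hO : (⊥ : Subgroup L) < Om := bot_lt_iff_ne_bot.2 fun h => by
    have h1 : (z : L) = 1 := Subgroup.mem_bot.1 (h ▸ hzO)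
    rw [show z = 1 from Subtype.ext h1, orderOf_one] at hz
    exact hp.one_lt.ne hz
  have h1 := relIndex_ge K hC hO hOle
  rw [Subgroup.relIndex_bot_left] at h1
  have heq : Om = K := Subgroup.eq_of_le_of_card_ge hOle (hc.trans_le h1)
  have hexp : ∀ a ∈ K, a ^ p = 1 := fun a ha => ((heq.symm ▸ ha : a ∈ Om)).2
  refine ⟨p, hp, fun a => ⟨1, ?_⟩, hab, hexp⟩
  rw [pow_one]
  exact Subtype.ext (by rw [SubmonoidClass.coe_pow, OneMemClass.coe_one]; exact hexp _ a.2)

include hC in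
/-- In that case exactly one character is non-trivial on the kernel. -/
theorem card_TT_eq_one (hD : (⁅K, K⁆ : Subgroup L) = ⊥) (hc : Nat.card K = K.index + 1) :
    (TT K (⊥ : Subgroup L)).card = 1 := by
  have h := card_linear K hC
  rw [hD, Subgroup.relIndex_bot_left, hc] at h
  have he : 0 < K.index := Nat.pos_of_ne_zero Subgroup.index_ne_zero_of_finite
  exact Nat.eq_of_mul_eq_mul_right he (by omega)

end

variable {G : Type u} [Group G] [Fintype G] (K : Subgroup G)
variable [Fintype ↥(Subgroup.normalizer (K : Set G))]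
variable (hTI : ∀ g : G, g ∉ Subgroup.normalizer (K : Set G) → ∀ k ∈ K, g * k * g⁻¹ ∈ K → k = 1)
  (hlt : K < Subgroup.normalizer (K : Set G))
  (hC : ∀ k ∈ K, k ≠ 1 → Subgroup.centralizer ({k} : Set G) ≤ K)

theorem card_KN : Nat.card (KN K) = Nat.card K :=
  Nat.card_congr (Subgroup.subgroupOfEquivOfLe Subgroup.le_normalizer).toEquiv

theorem commutator_KN : (⁅KN K, KN K⁆ : Subgroup ↥(Subgroup.normalizer (K : Set G))) =
    (⁅K, K⁆ : Subgroup G).subgroupOf (Subgroup.normalizer (K : Set G)) := by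
  refine Subgroup.map_injective (Subgroup.subtype_injective _) ?_
  rw [Subgroup.map_commutator, Subgroup.map_subgroupOf_eq_of_le Subgroup.le_normalizer,
    Subgroup.map_subgroupOf_eq_of_le ((Subgroup.commutator_le_self K).trans Subgroup.le_normalizer)]

theorem relIndex_commutator_KN :
    (⁅KN K, KN K⁆ : Subgroup ↥(Subgroup.normalizer (K : Set G))).relIndex (KN K) =
      (⁅K, K⁆.subgroupOf K).index := by
  rw [commutator_KN]
  exact Subgroup.relIndex_subgroupOf Subgroup.le_normalizer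

include hTI hlt hC in
/-- The coherence alternatives for a nilpotent TI kernel. -/
theorem feit_sibley (hK : K ≠ ⊥) :
    IsCoherent (↑(TT (KN K) ⊥) : Set (↥(Subgroup.normalizer (K : Set G)) → ℂ)) {1}ᶜ
      (fun α => indFun (Subgroup.normalizer (K : Set G)) α) ∨
    ((TT (KN K) (⊥ : Subgroup ↥(Subgroup.normalizer (K : Set G)))).card = 1 ∧
      Nat.card K = (KN K).index + 1 ∧ ∃ p : ℕ, p.Prime ∧ IsPGroup p K ∧
        (∀ a ∈ K, ∀ b ∈ K, a * b = b * a) ∧ ∀ a ∈ K, a ^ p = 1) ∨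
    (IsPGroup 2 K ∧ Nat.card K = 2 ^ (Nat.card G).factorization 2 ∧
      (⁅K, K⁆.subgroupOf K).index < 4 * (KN K).index ^ 2) := by
  classical
  have hC' := cent_KN K hC
  have hKN1 : KN K ≠ ⊥ := fun h => hK (disjoint_self.1
    (Disjoint.mono_right Subgroup.le_normalizer (Subgroup.subgroupOf_eq_bot.1 h)))
  have hKNtop : KN K ≠ ⊤ := fun h => hlt.not_ge (Subgroup.subgroupOf_eq_top.1 h)
  haveI := isNilpotent (KN K) hC' hKNtop
  have hH := indHyp K hTI hlt hC (↑(TT (KN K) ⊥)) fun χ hχ =>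
    ⟨(mem_TT.1 hχ).1, (mem_TT.1 hχ).2.1⟩
  have hequ := Subgroup.subgroupOfEquivOfLe (Subgroup.le_normalizer (H := K))
  rcases feit (KN K) hC' hKN1 hKNtop hH with h | ⟨p, hp, hpK, hna, hle⟩ | ⟨hD, hcard⟩
  · exact Or.inl h
  swap
  · obtain ⟨p, hp, hpK, hab, hexp⟩ := exponent_prime (KN K) hC' hD hcard
    refine Or.inr (Or.inl ⟨card_TT_eq_one (KN K) hC' hD hcard, (card_KN K).symm.trans hcard,
      p, hp, hpK.of_equiv hequ, fun a ha b hb => ?_, fun a ha => ?_⟩)
    · exact congrArg Subtype.val (hab ⟨a, Subgroup.le_normalizer ha⟩ (Subgroup.mem_subgroupOf.2 ha)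
        ⟨b, Subgroup.le_normalizer hb⟩ (Subgroup.mem_subgroupOf.2 hb))
    · exact congrArg Subtype.val (hexp ⟨a, Subgroup.le_normalizer ha⟩ (Subgroup.mem_subgroupOf.2 ha))
  haveI := Fact.mk hp
  have hodde : Odd (KN K).index := Nat.not_even_iff_odd.1 fun he => hna (by
    rw [eq_bot_iff, Subgroup.commutator_le]
    intro a ha b hb
    rw [Subgroup.mem_bot, commutatorElement_eq_one_iff_mul_comm]
    exact comm_of_even (KN K) hC' (even_iff_two_dvd.1 he) a ha b hb)
  obtain ⟨m, hm⟩ := IsPGroup.iff_card.1 hpK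
  rcases hp.eq_two_or_odd' with rfl | hpodd
  swap
  · refine Or.inl (sibley K hTI hlt hC hK ?_)
    rw [← (KN K).card_mul_index, hm]
    exact Odd.mul hpodd.pow hodde
  have hK2 : IsPGroup 2 K := hpK.of_equiv hequ
  refine Or.inr (Or.inr ⟨hK2, ?_, ?_⟩)
  · obtain ⟨S, hS⟩ := hK2.exists_le_sylow
    rcases eq_or_lt_of_le hS with h | h
    · rw [h]; exact S.card_eq_multiplicity
    exfalso
    haveI : Group.IsNilpotent (S : Subgroup G) := S.isPGroup'.isNilpotent
    have h1 : (K.subgroupOf S) < ⊤ :=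
      lt_top_iff_ne_top.2 fun e => h.not_ge (Subgroup.subgroupOf_eq_top.1 e)
    obtain ⟨x, hx, hxK⟩ := SetLike.exists_of_lt (Group.normalizerCondition_of_isNilpotent _ h1)
    have hxN : (x : G) ∈ Subgroup.normalizer (K : Set G) := by
      refine Subgroup.mem_normalizer_iff.2 fun k => ⟨fun hk => ?_, fun hk => ?_⟩
      · exact (Subgroup.mem_normalizer_iff.1 hx ⟨k, hS hk⟩).1 hk
      · have hk' : k ∈ (S : Subgroup G) := by
          have := (S : Subgroup G).mul_mem ((S : Subgroup G).mul_mem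
            ((S : Subgroup G).inv_mem x.2) (hS hk)) x.2
          simpa [mul_assoc] using this
        exact (Subgroup.mem_normalizer_iff.1 hx ⟨k, hk'⟩).2 hk
    refine hxK ?_
    obtain ⟨i, hi⟩ := IsPGroup.iff_orderOf.1 S.isPGroup' x
    have h2 : orderOf (QuotientGroup.mk' (KN K) ⟨(x : G), hxN⟩) ∣ Nat.gcd (2 ^ i) (KN K).index := by
      refine Nat.dvd_gcd ((orderOf_map_dvd _ _).trans ?_) ?_
      · rw [← hi, ← Subgroup.orderOf_coe, Subgroup.orderOf_mk]
      · rw [Subgroup.index_eq_card]; exact orderOf_dvd_natCard _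
    rw [Nat.Coprime.gcd_eq_one (Nat.Coprime.pow_left i (Nat.coprime_two_left.2 hodde)),
      Nat.dvd_one, orderOf_eq_one_iff] at h2
    exact Subgroup.mem_subgroupOf.2 (Subgroup.mem_subgroupOf.1
      ((QuotientGroup.eq_one_iff (⟨(x : G), hxN⟩ : ↥(Subgroup.normalizer (K : Set G)))).1 h2))
  · rw [relIndex_commutator_KN] at hle
    obtain ⟨j, -, hj⟩ := (Nat.dvd_prime_pow hp).1 (hm ▸ card_KN K ▸
      (⁅K, K⁆.subgroupOf K).index_dvd_card)
    rw [hj] at hle ⊢
    have he1 : 2 ≤ (KN K).index := by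
      have := Subgroup.index_ne_zero_of_finite (H := KN K)
      have : (KN K).index ≠ 1 := fun h => hKNtop (Subgroup.index_eq_one.1 h)
      omega
    refine lt_of_le_of_ne ?_ ?_
    · rcases Nat.eq_zero_or_pos j with rfl | hj0
      · rw [pow_zero]; nlinarith
      · obtain ⟨r, hr⟩ : 2 ∣ 2 ^ j := dvd_pow_self 2 hj0.ne'
        omega
    · intro heq
      have h1 : (KN K).index ∣ 2 ^ j := by rw [heq, sq, ← mul_assoc]; exact dvd_mul_left _ _
      exact absurd h1 fun h1 => by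
        obtain ⟨l, -, hl⟩ := (Nat.dvd_prime_pow hp).1 h1
        rw [hl] at hodde he1
        rcases Nat.eq_zero_or_pos l with rfl | hl0
        · simp at he1
        · exact (Nat.not_even_iff_odd.2 hodde) (Nat.even_pow.2 ⟨even_two, hl0.ne'⟩)

end Cfsg.Agent.Char.KerSets
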