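import Cfsg.Agent.Lib.Char.BrauerInduction
import Cfsg.Agent.Lib.Char.Constituent
import Cfsg.Agent.Lib.Grp.PowerCount
import Mathlib.GroupTheory.Transfer
import Mathlib.GroupTheory.GroupAction.Quotient

/-!
The Brauer–Suzuki transfer theorem: a Hall subgroup controlling fusion and meeting a conjugate
of every elementary subgroup has a normal complement.
-/

set_option autoImplicit false

namespace Cfsg.Agent.Char.TS

open scoped ComplexConjugate
open Cfsg

universe u

variable {G : Type u} [Group G]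

/-- In a group with a central subgroup of index `q` the `q`-th power is a homomorphism. -/
theorem pow_index_mul [Finite G] (Z : Subgroup G) (hZ : Z ≤ Subgroup.center G) (x y : G) :
    (x * y) ^ Z.index = x ^ Z.index * y ^ Z.index := by
  haveI : IsMulCommutative Z :=
    ⟨⟨fun a b => Subtype.ext ((Subgroup.mem_center_iff.1 (hZ b.2) (a : G)))⟩⟩
  have key : ∀ (g : G) (k : ℕ) (g₀ : G), g₀⁻¹ * g ^ k * g₀ ∈ Z → g₀⁻¹ * g ^ k * g₀ = g ^ k := by
    intro g k g₀ hk
    have h := Subgroup.mem_center_iff.1 (hZ hk) g₀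
    calc g₀⁻¹ * g ^ k * g₀ = g₀⁻¹ * g ^ k * g₀ * g₀ * g₀⁻¹ := by group
      _ = g₀ * (g₀⁻¹ * g ^ k * g₀) * g₀⁻¹ := by rw [h]
      _ = g ^ k := by group
  open scoped IsMulCommutative in
  have e : ∀ g : G, ((MonoidHom.transfer (MonoidHom.id Z) g : Z) : G) = g ^ Z.index := fun g => by
    rw [MonoidHom.transfer_eq_pow (MonoidHom.id Z) g (key g)]
    rfl
  rw [← e, ← e, ← e, map_mul, Subgroup.coe_mul]

/-- In an elementary group the projection on the part of order dividing `n` is multiplicative. -/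
theorem pow_mul_of_elementary {E : Type u} [Group E] [Finite E] {p : ℕ} (hp : p.Prime)
    (hE : IsElementary p E) {n m a b : ℕ} (hpn : p ∣ n ∨ n.Coprime p)
    (hcop : n.Coprime m) (hdvd : Nat.card E ∣ n * m)
    (ha : a ≡ 1 [MOD n]) (ha' : a ≡ 0 [MOD m]) (hb : b ≡ 0 [MOD n]) (hb' : b ≡ 1 [MOD m])
    (x y : E) : (x * y) ^ a = x ^ a * y ^ a := by
  obtain ⟨z, hzc, hzp, k, hk⟩ := hE
  set Z := Subgroup.zpowers z with hZ
  have hZc : Z ≤ Subgroup.center E := Subgroup.zpowers_le.2 hzc
  haveI : Z.Normal := ⟨fun w hw g => by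
    rw [Subgroup.mem_center_iff.1 (hZc hw) g, mul_inv_cancel_right]; exact hw⟩
  -- exponent projecting on `Z`
  have hoq : (orderOf z).Coprime (p ^ k) := hzp.pow_right k
  obtain ⟨c, hc1, hc0⟩ := Nat.chineseRemainder hoq 1 0
  obtain ⟨c', rfl⟩ := Nat.modEq_zero_iff_dvd.1 hc0
  have hcmul : ∀ u v : E, (u * v) ^ (p ^ k * c') = u ^ (p ^ k * c') * v ^ (p ^ k * c') := by
    intro u v
    rw [pow_mul, pow_mul, pow_mul, ← hk, pow_index_mul Z hZc,
      Commute.mul_pow (Subgroup.mem_center_iff.1 (hZc (Z.pow_index_mem v)) _)]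
  have hfixZ : ∀ w ∈ Z, w ^ (p ^ k * c') = w := by
    intro w hw
    conv_rhs => rw [← pow_one w]
    refine pow_eq_pow_iff_modEq.2 (hc1.of_dvd ?_)
    rw [← Nat.card_zpowers z, ← Subgroup.orderOf_mk w hw]
    exact orderOf_dvd_natCard _
  have hinZ : ∀ w : E, ¬ p ∣ orderOf w → w ∈ Z := by
    intro w hw
    rw [← QuotientGroup.eq_one_iff, ← orderOf_eq_one_iff]
    refine Nat.eq_one_of_dvd_coprimes (Nat.Coprime.pow_left k (hp.coprime_iff_not_dvd.2 hw)) ?_
      (orderOf_map_dvd (QuotientGroup.mk' Z) w)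
    rw [← hk, Subgroup.index_eq_card]
    exact orderOf_dvd_natCard _
  have hsplit : ∀ u : E, u = u ^ a * u ^ b := by
    intro u
    rw [← pow_add]
    conv_lhs => rw [← pow_one u]
    refine pow_eq_pow_iff_modEq.2 (Nat.ModEq.of_dvd ((orderOf_dvd_natCard u).trans hdvd) ?_)
    refine ((Nat.modEq_and_modEq_iff_modEq_mul hcop).1 ⟨?_, ?_⟩).symm
    · simpa using ha.add hb
    · simpa using ha'.add hb'
  have hann : ∀ u : E, (u ^ a) ^ n = 1 := fun u => by
    rw [← pow_mul]
    refine orderOf_dvd_iff_pow_eq_one.1 ((orderOf_dvd_natCard u).trans (hdvd.trans ?_))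
    rw [mul_comm a n]
    exact Nat.mul_dvd_mul_left n (Nat.modEq_zero_iff_dvd.1 ha')
  have hbmm : ∀ u : E, (u ^ b) ^ m = 1 := fun u => by
    rw [← pow_mul]
    refine orderOf_dvd_iff_pow_eq_one.1 ((orderOf_dvd_natCard u).trans (hdvd.trans ?_))
    exact Nat.mul_dvd_mul_right (Nat.modEq_zero_iff_dvd.1 hb) m
  have hcent : ∀ (t : ℕ), (∀ u : E, u ^ t ∈ Z) → ∀ u v : E, (u * v) ^ t = u ^ t * v ^ t := by
    intro t ht u v
    have e : ∀ w : E, w ^ t = (w ^ (p ^ k * c')) ^ t := fun w => by
      rw [← pow_mul, mul_comm, pow_mul, hfixZ _ (ht w)]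
    rw [e (u * v), e u, e v, hcmul, Commute.mul_pow (Subgroup.mem_center_iff.1 (hZc ?_) _)]
    rw [pow_mul, ← hk]
    exact Z.pow_mem (Z.pow_index_mem v) _
  rcases hpn with hpn | hpn
  · -- the other part is central
    have hbZ : ∀ u : E, u ^ b ∈ Z := fun u => hinZ _ fun h => by
      have h1 := h.trans (orderOf_dvd_of_pow_eq_one (hbmm u))
      exact hp.ne_one (Nat.eq_one_of_dvd_coprimes hcop hpn h1)
    have e : ∀ u : E, u ^ a = u * (u ^ b)⁻¹ := fun u => eq_mul_inv_of_mul_eq (hsplit u).symm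
    have hzc' : ∀ u v : E, v * (u ^ b)⁻¹ = (u ^ b)⁻¹ * v := fun u v =>
      Subgroup.mem_center_iff.1 (hZc (inv_mem (hbZ u))) v
    rw [e (x * y), e x, e y, hcent b hbZ, mul_inv_rev]
    calc x * y * ((y ^ b)⁻¹ * (x ^ b)⁻¹) = x * (y * (y ^ b)⁻¹ * (x ^ b)⁻¹) := by group
      _ = x * ((x ^ b)⁻¹ * (y * (y ^ b)⁻¹)) := by rw [← hzc' x (y * (y ^ b)⁻¹)]
      _ = _ := by group
  · refine hcent a (fun u => hinZ _ fun h => ?_) x y
    have h1 := h.trans (orderOf_dvd_of_pow_eq_one (hann u))
    exact hp.ne_one (Nat.eq_one_of_dvd_coprimes hpn h1 dvd_rfl)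

section Main

variable [Fintype G] (H : Subgroup G)

/-- The hypotheses of the transfer theorem. -/
structure Data : Prop where
  hall : Nat.Coprime (Nat.card H) H.index
  fusion : ∀ x ∈ H, ∀ y ∈ H, IsConj x y → ∃ h ∈ H, h * x * h⁻¹ = y
  elem : ∀ (E : Subgroup G) (p : ℕ), p.Prime → IsElementary p E → Nat.card E ∣ Nat.card H →
    ∃ g : G, E.map (MulAut.conj g).toMonoidHom ≤ H

variable {H}

theorem Data.exists_conj (hD : Data H) {x : G} (hx : x ^ Nat.card H = 1) :
    ∃ g : G, g * x * g⁻¹ ∈ H := by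
  have hord : Nat.card (Subgroup.zpowers x) ∣ Nat.card H := by
    rw [Nat.card_zpowers]; exact orderOf_dvd_of_pow_eq_one hx
  obtain ⟨v, o, ho, hvo⟩ := Nat.exists_eq_pow_mul_and_not_dvd (orderOf_pos x).ne' 2 (by norm_num)
  let g₀ : Subgroup.zpowers x := ⟨x, Subgroup.mem_zpowers x⟩
  have hg₀ : orderOf g₀ = orderOf x := Subgroup.orderOf_mk _ _
  have hel : IsElementary 2 (Subgroup.zpowers x) := by
    refine ⟨g₀ ^ 2 ^ v, ?_, ?_, v, ?_⟩
    · exact Subgroup.mem_center_iff.2 fun w => by
        have := IsMulCommutative.is_comm (M := Subgroup.zpowers x)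
        exact this.comm _ _
    · rw [orderOf_pow' _ (by positivity), hg₀, hvo,
        Nat.gcd_eq_right (dvd_mul_right (2 ^ v) o), Nat.mul_div_cancel_left o (by positivity)]
      exact (Nat.odd_iff.2 (Nat.two_dvd_ne_zero.1 ho)).coprime_two_right
    · have h1 := (Subgroup.zpowers (g₀ ^ 2 ^ v)).card_mul_index
      rw [Nat.card_zpowers, orderOf_pow' _ (by positivity), hg₀, hvo,
        Nat.gcd_eq_right (dvd_mul_right (2 ^ v) o), Nat.mul_div_cancel_left o (by positivity),
        Nat.card_zpowers, hvo, mul_comm (2 ^ v) o] at h1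
      exact Nat.eq_of_mul_eq_mul_left (Nat.pos_of_ne_zero fun h => by simp [h] at ho) h1
  obtain ⟨g, hg⟩ := hD.elem _ 2 Nat.prime_two hel hord
  exact ⟨g, hg ⟨x, Subgroup.mem_zpowers x, rfl⟩⟩

/-- The centralizer of an element of `H` has its `H`-part inside `H`. -/
theorem Data.gcd_dvd (hD : Data H) {h : G} (hh : h ∈ H) :
    Nat.gcd (Nat.card H) (Nat.card (Subgroup.centralizer ({h} : Set G))) ∣
      Nat.card ↥(H ⊓ Subgroup.centralizer ({h} : Set G)) := by
  classical
  set C := Subgroup.centralizer ({h} : Set G) with hC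
  refine (Nat.dvd_iff_prime_pow_dvd_dvd _ _).2 fun p i hp hpi => ?_
  haveI := Fact.mk hp
  rcases Nat.eq_zero_or_pos i with rfl | hi0
  · simp
  have hpn : p ∣ Nat.card H :=
    (dvd_pow_self p hi0.ne').trans (hpi.trans (Nat.gcd_dvd_left _ _))
  have hpC : p ^ i ∣ Nat.card C := hpi.trans (Nat.gcd_dvd_right _ _)
  let T : Sylow p C := default
  set TG := (T : Subgroup C).map C.subtype with hTG
  have hTC : TG ≤ C := Subgroup.map_subtype_le _
  set E := Subgroup.zpowers h ⊔ TG with hE
  have hhC : h ∈ C := Subgroup.mem_centralizer_singleton_iff.2 rfl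
  have hEC : E ≤ C := sup_le (Subgroup.zpowers_le.2 hhC) hTC
  have hTGp : IsPGroup p TG := T.isPGroup'.map _
  obtain ⟨t, ht⟩ := IsPGroup.iff_card.1 hTGp
  obtain ⟨v, o, ho, hvo⟩ := Nat.exists_eq_pow_mul_and_not_dvd (orderOf_pos h).ne' p hp.ne_one
  let h₀ : E := ⟨h, Subgroup.mem_sup_left (Subgroup.mem_zpowers h)⟩
  have hh₀c : h₀ ∈ Subgroup.center E := Subgroup.mem_center_iff.2 fun w => Subtype.ext
    (Subgroup.mem_centralizer_singleton_iff.1 (hEC w.2))
  have hnorm : (Subgroup.zpowers h).subgroupOf E = Subgroup.zpowers h₀ := by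
    ext w
    rw [Subgroup.mem_subgroupOf]
    constructor
    · rintro ⟨r, hr⟩
      exact ⟨r, Subtype.ext (by simpa using hr)⟩
    · rintro ⟨r, hr⟩
      exact ⟨r, by simpa using congrArg Subtype.val hr⟩
  have hcardE : Nat.card E ∣ orderOf h * p ^ t := by
    haveI : (Subgroup.zpowers h₀).Normal := ⟨fun w hw g => by
      rw [Subgroup.mem_center_iff.1 (Subgroup.zpowers_le.2 hh₀c hw) g, mul_inv_cancel_right]
      exact hw⟩
    have h1 := (Subgroup.zpowers h₀).card_mul_index
    have h2 : (Subgroup.zpowers h₀).index ∣ p ^ t := by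
      have hsup : Subgroup.zpowers h₀ ⊔ TG.subgroupOf E = ⊤ := by
        rw [← hnorm, ← Subgroup.subgroupOf_sup le_sup_left le_sup_right]
        exact Subgroup.subgroupOf_self _
      have h3 := Subgroup.relIndex_sup_left (K := Subgroup.zpowers h₀) (H := TG.subgroupOf E)
      rw [hsup, Subgroup.relIndex_top_right] at h3
      rw [h3]
      refine (Subgroup.relIndex_dvd_card _ _).trans ?_
      rw [Nat.card_congr (Subgroup.subgroupOfEquivOfLe (le_sup_right : TG ≤ E)).toEquiv, ht]
    rw [← h1, Nat.card_zpowers, Subgroup.orderOf_mk]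
    exact Nat.mul_dvd_mul_left _ h2
  have hel : IsElementary p E := by
    refine ⟨h₀ ^ p ^ v, Subgroup.pow_mem _ hh₀c _, ?_, ?_⟩
    · rw [orderOf_pow' _ (pow_ne_zero _ hp.ne_zero), Subgroup.orderOf_mk, hvo,
        Nat.gcd_eq_right (dvd_mul_right (p ^ v) o),
        Nat.mul_div_cancel_left o (pow_pos hp.pos v)]
      exact (hp.coprime_iff_not_dvd.2 ho).symm
    · have h1 := (Subgroup.zpowers (h₀ ^ p ^ v)).card_mul_index
      rw [Nat.card_zpowers, orderOf_pow' _ (pow_ne_zero _ hp.ne_zero), Subgroup.orderOf_mk, hvo,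
        Nat.gcd_eq_right (dvd_mul_right (p ^ v) o),
        Nat.mul_div_cancel_left o (pow_pos hp.pos v)] at h1
      have h2 : o * (Subgroup.zpowers (h₀ ^ p ^ v)).index ∣ o * p ^ (v + t) := by
        rw [h1, pow_add]
        refine hcardE.trans (dvd_of_eq ?_)
        rw [hvo]; ring
      have h3 := Nat.dvd_of_mul_dvd_mul_left (Nat.pos_of_ne_zero fun h => by simp [h] at ho) h2
      obtain ⟨j, -, hj⟩ := (Nat.dvd_prime_pow hp).1 h3
      exact ⟨j, hj⟩
  have hEn : Nat.card E ∣ Nat.card H := by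
    refine Nat.Coprime.dvd_of_dvd_mul_right (k := Nat.card E) (n := H.index) ?_ ?_
    · refine Nat.Coprime.coprime_dvd_left hcardE (Nat.Coprime.mul_left ?_ ?_)
      · exact hD.hall.coprime_dvd_left (by
          rw [← Subgroup.orderOf_mk h hh]; exact orderOf_dvd_natCard _)
      · exact Nat.Coprime.pow_left _ (hD.hall.coprime_dvd_left hpn)
    · rw [H.card_mul_index]; exact E.card_subgroup_dvd_card
  obtain ⟨g, hg⟩ := hD.elem E p hp hel hEn
  have hh1 : g * h * g⁻¹ ∈ H := hg ⟨h, h₀.2, rfl⟩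
  obtain ⟨c, hc, hce⟩ := hD.fusion _ hh1 h hh
    ((isConj_iff.2 ⟨g, rfl⟩ : IsConj h (g * h * g⁻¹))).symm
  set s := c * g with hs
  have hsh : s * h * s⁻¹ = h := by rw [hs]; simpa [mul_assoc] using hce
  have hle : TG.map (MulAut.conj s).toMonoidHom ≤ H ⊓ C := by
    rintro _ ⟨w, hw, rfl⟩
    show s * w * s⁻¹ ∈ H ⊓ C
    refine ⟨?_, Subgroup.mem_centralizer_singleton_iff.2 ?_⟩
    · rw [hs, show c * g * w * (c * g)⁻¹ = c * (g * w * g⁻¹) * c⁻¹ by group]
      exact H.mul_mem (H.mul_mem hc (hg ⟨w, Subgroup.mem_sup_right hw, rfl⟩)) (H.inv_mem hc)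
    · have hwh : w * h = h * w := Subgroup.mem_centralizer_singleton_iff.1 (hTC hw)
      calc s * w * s⁻¹ * h = s * w * s⁻¹ * (s * h * s⁻¹) := by rw [hsh]
        _ = s * (w * h) * s⁻¹ := by group
        _ = s * (h * w) * s⁻¹ := by rw [hwh]
        _ = s * h * s⁻¹ * (s * w * s⁻¹) := by group
        _ = h * (s * w * s⁻¹) := by rw [hsh]
  refine dvd_trans ?_ (Subgroup.card_dvd_of_le hle)
  rw [Subgroup.card_map_of_injective (MulAut.conj s).injective, hTG,
    Subgroup.card_map_of_injective C.subtype_injective, T.card_eq_multiplicity]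
  exact pow_dvd_pow p ((hp.pow_dvd_iff_le_factorization Nat.card_pos.ne').1 hpC)

theorem card_conj [DecidableEq G] (h : H) :
    Nat.card {k : H // IsConj h k} * Nat.card ↥(H ⊓ Subgroup.centralizer ({(h : G)} : Set G)) =
      Nat.card H := by
  classical
  have h1 : Nat.card {k : H // IsConj h k} = Nat.card (MulAction.orbit (ConjAct H) h) :=
    Nat.card_congr (Equiv.subtypeEquivRight fun k => by
      rw [ConjAct.mem_orbit_conjAct, isConj_comm])
  have h2 := MulAction.card_orbit_mul_card_stabilizer_eq_card_group (ConjAct H) h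
  simp only [Fintype.card_eq_nat_card] at h2
  have h3 : Nat.card (MulAction.stabilizer (ConjAct H) h) =
      Nat.card ↥(H ⊓ Subgroup.centralizer ({(h : G)} : Set G)) :=
    Nat.card_congr
      { toFun := fun s => ⟨((ConjAct.ofConjAct s.1 : H) : G), (ConjAct.ofConjAct s.1).2, by
          have hs := MulAction.mem_stabilizer_iff.1 s.2
          rw [ConjAct.smul_def, mul_inv_eq_iff_eq_mul] at hs
          exact Subgroup.mem_centralizer_singleton_iff.2 (congrArg Subtype.val hs)⟩
        invFun := fun c => ⟨ConjAct.toConjAct (⟨c.1, c.2.1⟩ : H), MulAction.mem_stabilizer_iff.2 (by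
          rw [ConjAct.smul_def, ConjAct.ofConjAct_toConjAct, mul_inv_eq_iff_eq_mul]
          exact Subtype.ext (Subgroup.mem_centralizer_singleton_iff.1 c.2.2))⟩
        left_inv := fun s => rfl
        right_inv := fun c => rfl }
  rw [h1, ← h3, h2]
  exact Nat.card_congr ConjAct.toConjAct.toEquiv.symm

/-- The transfer theorem. -/
theorem Data.exists_complement (hD : Data H) :
    ∃ K : Subgroup G, K.Normal ∧ K ⊔ H = ⊤ ∧ K ⊓ H = ⊥ := by
  classical
  set n := Nat.card H with hn
  set m := H.index with hm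
  have hnm : n * m = Nat.card G := H.card_mul_index
  obtain ⟨a, ha, ha'⟩ := Nat.chineseRemainder hD.hall 1 0
  obtain ⟨b, hb, hb'⟩ := Nat.chineseRemainder hD.hall 0 1
  have hann : ∀ g : G, (g ^ a) ^ n = 1 := fun g => by
    rw [← pow_mul]
    refine orderOf_dvd_iff_pow_eq_one.1 ((orderOf_dvd_natCard g).trans ?_)
    rw [← hnm, mul_comm a n]
    exact Nat.mul_dvd_mul_left n (Nat.modEq_zero_iff_dvd.1 ha')
  have hafix : ∀ x : G, x ^ n = 1 → x ^ a = x := fun x hx => by
    conv_rhs => rw [← pow_one x]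
    exact pow_eq_pow_iff_modEq.2 (ha.of_dvd (orderOf_dvd_of_pow_eq_one hx))
  have hHn : ∀ h : H, (h : G) ^ n = 1 := fun h =>
    (congrArg Subtype.val (pow_card_eq_one' (x := h)) :)
  -- a representative in `H` of the projection
  have hr : ∀ g : G, ∃ h : H, IsConj (g ^ a) (h : G) := fun g => by
    obtain ⟨t, ht⟩ := hD.exists_conj (hann g)
    exact ⟨⟨_, ht⟩, isConj_iff.2 ⟨t, rfl⟩⟩
  choose r hr using hr
  have hfus : ∀ (g : G) (h : H), IsConj (g ^ a) (h : G) ↔ IsConj (r g) h := by
    intro g h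
    refine ⟨fun hc => ?_, fun hc => ?_⟩
    · obtain ⟨c, hc', hce⟩ := hD.fusion _ (r g).2 _ h.2 ((hr g).symm.trans hc)
      exact isConj_iff.2 ⟨⟨c, hc'⟩, Subtype.ext hce⟩
    · exact (hr g).trans (MonoidHom.map_isConj H.subtype hc)
  -- the class function attached to a class function of `H`
  have hval : ∀ (F : H → ℂ), IsClassFunction H F → ∀ (g : G) (h : H),
      IsConj (g ^ a) (h : G) → F (r g) = F h := fun F hF g h hc => by
    obtain ⟨c, hc'⟩ := isConj_iff.1 ((hfus g h).1 hc)
    rw [← hc', hF]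
  -- counting
  set cnt : H → ℕ := fun h => (Finset.univ.filter fun g : G => IsConj (g ^ a) (h : G)).card
  set kk : H → ℕ := fun h => (Finset.univ.filter fun k : H => IsConj h k).card
  have hkk : ∀ h : H, 0 < kk h := fun h =>
    Finset.card_pos.2 ⟨h, Finset.mem_filter.2 ⟨Finset.mem_univ _, IsConj.refl h⟩⟩
  have hlow : ∀ h : H, m * kk h ≤ cnt h := by
    intro h
    set C := Subgroup.centralizer ({(h : G)} : Set G) with hC
    set w : ℕ := (Finset.univ.filter fun g : G => g ^ a = (h : G)).card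
    have hsplit : cnt h = Nat.card {x : G // IsConj x (h : G)} * w := by
      have hmap : ∀ g ∈ Finset.univ.filter (fun g : G => IsConj (g ^ a) (h : G)),
          g ^ a ∈ Finset.univ.filter (fun x : G => IsConj x (h : G)) := fun g hg => by
        simpa using hg
      show (Finset.univ.filter fun g : G => IsConj (g ^ a) (h : G)).card = _
      rw [Finset.card_eq_sum_card_fiberwise hmap, Nat.card_eq_fintype_card, Fintype.card_subtype,
        ← smul_eq_mul, ← Finset.sum_const]
      refine Finset.sum_congr rfl fun x hx => ?_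
      simp only [Finset.mem_filter, Finset.mem_univ, true_and] at hx
      obtain ⟨s, hs⟩ := isConj_iff.1 hx
      refine Finset.card_bij (fun g _ => s * g * s⁻¹) (fun g hg => ?_) (fun g₁ _ g₂ _ he => ?_)
        (fun g hg => ?_)
      · simp only [Finset.mem_filter, Finset.mem_univ, true_and] at hg ⊢
        rw [conj_pow, hg.2, hs]
      · exact mul_left_cancel (mul_right_cancel he)
      · simp only [Finset.mem_filter, Finset.mem_univ, true_and] at hg ⊢
        refine ⟨s⁻¹ * g * s, ?_, by group⟩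
        have e : (s⁻¹ * g * s) ^ a = s⁻¹ * g ^ a * s := by
          simpa using conj_pow (a := s⁻¹) (b := g) (i := a)
        refine ⟨?_, ?_⟩
        · rw [e, hg]
          exact (isConj_iff.2 ⟨s, by rw [← hs]; group⟩)
        · rw [e, hg, ← hs]; group
    set d := Nat.gcd m (Nat.card C) with hd
    have hsol : d ≤ w := by
      have h1 : d ∣ Nat.card {u : C // u ^ d = 1} :=
        Cfsg.Agent.Grp.PowCount.dvd_card_sol _ C rfl d (Nat.gcd_dvd_right _ _)
      haveI : Nonempty {u : C // u ^ d = 1} := ⟨⟨1, one_pow _⟩⟩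
      refine (Nat.le_of_dvd Nat.card_pos h1).trans ?_
      have h2 : w = Nat.card {g : G // g ^ a = (h : G)} := by
        rw [Nat.card_eq_fintype_card, Fintype.card_subtype]
      rw [h2]
      refine Nat.card_le_card_of_injective
        (fun u => ⟨(h : G) * ((u.1 : C) : G), ?_⟩) fun u v huv => ?_
      · have hcomm : Commute (h : G) ((u.1 : C) : G) :=
          (Subgroup.mem_centralizer_singleton_iff.1 (u.1 : C).2).symm
        have hud : ((u.1 : C) : G) ^ d = 1 := by
          have := congrArg Subtype.val u.2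
          simpa using this
        rw [hcomm.mul_pow, hafix _ (hHn h)]
        obtain ⟨j, hj⟩ := (Nat.gcd_dvd_left m (Nat.card C)).trans (Nat.modEq_zero_iff_dvd.1 ha')
        rw [← hd] at hj
        rw [hj, pow_mul, hud, one_pow, mul_one]
      · exact Subtype.ext (Subtype.ext (mul_left_cancel (congrArg Subtype.val huv)))
    have hclass : Nat.card {x : G // IsConj x (h : G)} * Nat.card C = Nat.card G := by
      have h1 : Nat.card {x : G // IsConj x (h : G)} =
          Nat.card (MulAction.orbit (ConjAct G) (h : G)) :=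
        Nat.card_congr (Equiv.subtypeEquivRight fun x => by
          rw [ConjAct.mem_orbit_conjAct])
      have h2 := MulAction.card_orbit_mul_card_stabilizer_eq_card_group (ConjAct G) (h : G)
      simp only [Fintype.card_eq_nat_card] at h2
      rw [h1]
      rw [ConjAct.stabilizer_eq_centralizer] at h2
      refine Eq.trans ?_ (h2.trans (Nat.card_congr ConjAct.toConjAct.toEquiv.symm))
      rfl
    have hgcd : Nat.gcd n (Nat.card C) * d = Nat.card C := by
      rw [hd, Nat.gcd_comm n, Nat.gcd_comm m, ← Nat.Coprime.gcd_mul _ hD.hall, hnm,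
        Nat.gcd_eq_left C.card_subgroup_dvd_card]
    have hkH : kk h * Nat.card ↥(H ⊓ C) = n := by
      rw [show kk h = Nat.card {k : H // IsConj h k} by
        rw [Nat.card_eq_fintype_card, Fintype.card_subtype]]
      exact card_conj h
    have hle := Nat.le_of_dvd Nat.card_pos (hD.gcd_dvd h.2)
    refine le_trans ?_ (hsplit ▸ Nat.mul_le_mul_left _ hsol)
    have hC0 : 0 < Nat.gcd n (Nat.card C) := Nat.gcd_pos_of_pos_left _ Nat.card_pos
    refine Nat.le_of_mul_le_mul_right ?_ hC0
    calc m * kk h * Nat.gcd n (Nat.card C) ≤ m * kk h * Nat.card ↥(H ⊓ C) :=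
          Nat.mul_le_mul_left _ hle
      _ = Nat.card G := by rw [mul_assoc, hkH, ← hnm, mul_comm]
      _ = Nat.card {x : G // IsConj x (h : G)} * d * Nat.gcd n (Nat.card C) := by
          rw [mul_assoc, mul_comm d, hgcd, hclass]
  have hdouble : ∀ (F : H → ℂ), IsClassFunction H F →
      ∑ g : G, F (r g) = ∑ h : H, (cnt h : ℂ) / (kk h : ℂ) * F h := by
    intro F hF
    have e1 : ∀ h : H, (cnt h : ℂ) / (kk h : ℂ) * F h =
        ∑ g : G, if IsConj (g ^ a) (h : G) then F (r g) / (kk (r g) : ℂ) else 0 := by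
      intro h
      rw [← Finset.sum_filter, Finset.sum_congr rfl (g := fun _ => F h / (kk h : ℂ)) fun g hg => by
        have hc := (Finset.mem_filter.1 hg).2
        rw [hval F hF g h hc]
        congr 2
        exact congrArg Finset.card (Finset.filter_congr fun k _ =>
          ⟨((hfus g h).1 hc).symm.trans, ((hfus g h).1 hc).trans⟩), Finset.sum_const, nsmul_eq_mul]
      ring
    rw [Finset.sum_congr rfl fun h _ => e1 h, Finset.sum_comm]
    refine Finset.sum_congr rfl fun g _ => ?_
    rw [← Finset.sum_filter, Finset.sum_const, nsmul_eq_mul,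
      show (Finset.univ.filter fun h : H => IsConj (g ^ a) (h : G)) =
        Finset.univ.filter fun h : H => IsConj (r g) h from
        Finset.filter_congr fun h _ => hfus g h]
    show F (r g) = (kk (r g) : ℂ) * (F (r g) / (kk (r g) : ℂ))
    rw [mul_div_cancel₀ _ (Nat.cast_ne_zero.2 (hkk _).ne')]
  have heq : ∀ h : H, cnt h = m * kk h := by
    have h1 := hdouble (fun _ => 1) (fun _ _ => rfl)
    simp only [mul_one, Finset.sum_const, Finset.card_univ, nsmul_eq_mul] at h1
    have h2 : (Nat.card G : ℝ) = ∑ h : H, (cnt h : ℝ) / (kk h : ℝ) := by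
      apply Complex.ofReal_injective
      push_cast
      rw [Nat.card_eq_fintype_card, h1]
    have h3 : ∀ h ∈ (Finset.univ : Finset H), (m : ℝ) ≤ (cnt h : ℝ) / (kk h : ℝ) := fun h _ => by
      rw [le_div_iff₀ (by exact_mod_cast hkk h)]
      exact_mod_cast hlow h
    have h4 : ∑ _h : H, (m : ℝ) = ∑ h : H, (cnt h : ℝ) / (kk h : ℝ) := by
      rw [← h2, ← hnm, Finset.sum_const, Finset.card_univ, nsmul_eq_mul, Nat.cast_mul, hn,
        Nat.card_eq_fintype_card]
    intro h
    have h5 := (Finset.sum_eq_sum_iff_of_le h3).1 h4 h (Finset.mem_univ h)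
    rw [eq_div_iff (by exact_mod_cast (hkk h).ne')] at h5
    exact_mod_cast h5.symm
  have hsum : ∀ (F : H → ℂ), IsClassFunction H F → ∑ g : G, F (r g) = (m : ℂ) * ∑ h : H, F h := by
    intro F hF
    rw [hdouble F hF, Finset.mul_sum]
    refine Finset.sum_congr rfl fun h _ => ?_
    rw [heq, Nat.cast_mul, mul_div_cancel_right₀ _ (Nat.cast_ne_zero.2 (hkk h).ne')]
  -- the extensions are irreducible characters
  have hgen : ∀ θ : IrrCharacter H, IsGeneralizedCharacter G (fun g => (θ : H → ℂ) (r g)) := by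
    intro θ
    have hθ := IsIrr.classFun θ.2
    refine Brauer.isGenChar_of_elementary (fun g t => ?_) fun E ⟨p, hp, hEl⟩ => ?_
    · refine hval _ hθ _ (r g) ?_
      rw [conj_pow]
      exact (isConj_iff.2 ⟨t, rfl⟩ : IsConj (g ^ a) (t * g ^ a * t⁻¹)).symm.trans (hr g)
    · have hpn : p ∣ n ∨ n.Coprime p := by
        by_cases hpn : p ∣ n
        · exact Or.inl hpn
        · exact Or.inr (hp.coprime_iff_not_dvd.2 hpn).symm
      have hEd : Nat.card E ∣ n * m := hnm ▸ E.card_subgroup_dvd_card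
      let φ : E →* E :=
        { toFun := fun x => x ^ a
          map_one' := one_pow a
          map_mul' := fun x y => pow_mul_of_elementary hp hEl hpn hD.hall hEd ha ha' hb hb' x y }
      set Eπ := φ.range.map E.subtype with hEπ
      have hEπn : ∀ x ∈ Eπ, x ^ n = 1 := by
        rintro _ ⟨_, ⟨x, rfl⟩, rfl⟩
        show ((x ^ a : E) : G) ^ n = 1
        rw [SubmonoidClass.coe_pow]
        exact hann _
      have hEπe : IsElementary p Eπ :=
        Brauer.isElementary_of_injective hp hEl ((Subgroup.inclusion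
          (Subgroup.map_subtype_le φ.range : Eπ ≤ E))) (Subgroup.inclusion_injective _)
      have hEπd : Nat.card Eπ ∣ n := by
        refine Nat.Coprime.dvd_of_dvd_mul_right (k := Nat.card Eπ) (n := m) ?_
          (hnm ▸ Eπ.card_subgroup_dvd_card)
        refine Nat.coprime_of_dvd fun q hq hqE hqm => ?_
        haveI := Fact.mk hq
        obtain ⟨x, hx⟩ := exists_prime_orderOf_dvd_card' (G := Eπ) q hqE
        have h1 : q ∣ n := by
          rw [← hx, ← Subgroup.orderOf_coe]
          exact orderOf_dvd_of_pow_eq_one (hEπn _ x.2)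
        exact hq.ne_one (Nat.eq_one_of_dvd_coprimes hD.hall h1 hqm)
      obtain ⟨c, hc⟩ := hD.elem Eπ p hp hEπe hEπd
      let ψ : E →* H := ((MulAut.conj c).toMonoidHom.comp (E.subtype.comp φ)).codRestrict H
        fun x => hc ⟨_, ⟨φ x, ⟨x, rfl⟩, rfl⟩, rfl⟩
      have e : (fun x : E => (θ : H → ℂ) (r (x : G))) = fun x => (θ : H → ℂ) (ψ x) :=
        funext fun x => hval _ hθ _ (ψ x) (isConj_iff.2 ⟨c, by
          show c * (x : G) ^ a * c⁻¹ = c * ((x ^ a : E) : G) * c⁻¹
          rw [SubmonoidClass.coe_pow]⟩)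
      rw [e]
      exact IsGenChar.of_isCharacter (IsChar.comp ψ (IsIrr.isCharacter θ.2))
  have hr1 : r 1 = 1 := by
    have h1 := hr 1
    rw [one_pow, isConj_one_right] at h1
    exact Subtype.ext h1
  have hchar : ∀ θ : IrrCharacter H, IsCharacter G (fun g => (θ : H → ℂ) (r g)) := by
    intro θ
    have hθ := IsIrr.classFun θ.2
    have hnorm : classInner (fun g => (θ : H → ℂ) (r g)) (fun g => (θ : H → ℂ) (r g)) = 1 := by
      have h1 := classInner_self_irr θ.2
      simp only [classInner] at h1 ⊢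
      rw [hsum (fun h => (θ : H → ℂ) h * conj ((θ : H → ℂ) h)) (fun x y => by simp only [hθ x y]),
        ← hnm, Nat.cast_mul]
      have hm0 : (m : ℂ) ≠ 0 := Nat.cast_ne_zero.2 Subgroup.index_ne_zero_of_finite
      rw [mul_inv, mul_assoc, inv_mul_cancel_left₀ hm0]
      exact h1
    rcases IsGenChar.norm_one (hgen θ) hnorm with hi | hi
    · exact IsIrr.isCharacter hi
    · exfalso
      obtain ⟨d₁, hd₁, e₁⟩ := IsIrr.one_eq_pos θ.2
      obtain ⟨d₂, hd₂, e₂⟩ := IsIrr.one_eq_pos hi
      simp only [Pi.neg_apply, hr1, e₁] at e₂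
      have e3 : ((d₁ + d₂ : ℕ) : ℂ) = 0 := by push_cast; linear_combination -e₂
      rw [Nat.cast_eq_zero] at e3
      omega
  -- the kernel
  set Ψ : G → ℂ := ∑ θ : IrrCharacter H, (θ : H → ℂ) 1 • fun g => (θ : H → ℂ) (r g) with hΨ
  have hΨc : IsCharacter G Ψ := by
    refine IsChar.sum fun θ _ => ?_
    obtain ⟨d, -, hd⟩ := IsIrr.one_eq_pos θ.2
    rw [hd]
    exact IsChar.nsmul (hchar θ) d
  have hΨv : ∀ g, Ψ g = if r g = 1 then (n : ℂ) else 0 := fun g => by
    rw [hn, ← regular_expansion (r g), hΨ]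
    simp
  set K := charKer hΨc with hK
  have hmem : ∀ g, g ∈ K ↔ r g = 1 := fun g => by
    rw [hK, mem_charKer, hΨv, hΨv, hr1, if_pos rfl]
    by_cases h : r g = 1
    · simp [h]
    · rw [if_neg h]
      exact ⟨fun h0 => absurd h0.symm (Nat.cast_ne_zero.2 Nat.card_pos.ne'), fun h0 => absurd h0 h⟩
  have hinter : K ⊓ H = ⊥ := by
    rw [eq_bot_iff]
    rintro x ⟨hxK, hxH⟩
    have h1 := (hmem x).1 hxK
    have h2 : IsConj x ((r x : H) : G) := by
      have := hr x
      rwa [hafix x (hHn ⟨x, hxH⟩)] at this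
    rw [h1, OneMemClass.coe_one, isConj_one_left] at h2
    exact Subgroup.mem_bot.2 h2
  have hcardK : Nat.card K = m := by
    rw [← Nat.mul_one m]
    have h1 : cnt 1 = m * kk 1 := heq 1
    have h2 : kk 1 = 1 := by
      rw [show kk 1 = (Finset.univ.filter fun k : H => IsConj 1 k).card from rfl,
        Finset.card_eq_one]
      exact ⟨1, by ext k; simp [isConj_one_right, eq_comm]⟩
    rw [h2] at h1
    rw [← h1, Nat.card_eq_fintype_card,
      show cnt 1 = (Finset.univ.filter fun g : G => IsConj (g ^ a) ((1 : H) : G)).card from rfl,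
      ← Fintype.card_coe]
    refine Fintype.card_congr (Equiv.subtypeEquivRight fun g => ?_)
    rw [Finset.mem_filter, hmem]
    simp only [Finset.mem_univ, true_and, OneMemClass.coe_one]
    constructor
    · intro h; simpa [h] using hr g
    · intro h
      have h3 := (hfus g 1).1 (by simpa using h)
      exact isConj_one_left.1 h3
  refine ⟨K, charKer_normal hΨc, ?_, hinter⟩
  have hcompl : Subgroup.IsComplement' K H :=
    Subgroup.isComplement'_of_card_mul_and_disjoint (by rw [hcardK, mul_comm, hnm])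
      (disjoint_iff.2 hinter)
  exact hcompl.sup_eq_top

end Main

end Cfsg.Agent.Char.TS
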