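import Cfsg.Agent.Lib.Char.CoprimeDegree
import Cfsg.Agent.Lib.Char.Kernel
import Cfsg.Agent.Lib.Transfer.Tate
import Cfsg.Agent.Lib.Transfer.Residual
import Cfsg.Agent.Lib.Grp.Frattini

/-!
Kernels of characters of degree prime to `p`.
-/

namespace Cfsg.Agent.Char.PPrime

open scoped ComplexConjugate commutatorElement
open Cfsg Cfsg.Agent.Block

universe u

variable {G : Type u} [Group G] [Finite G]

/-- The kernel of an irreducible character. -/
theorem exists_kernel (χ : IrrCharacter G) :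
    ∃ K : Subgroup G, K.Normal ∧ ∀ g, g ∈ K ↔ (χ : G → ℂ) g = (χ : G → ℂ) 1 := by
  obtain ⟨n, ρ, -, h⟩ := χ.2
  refine ⟨MonoidHom.ker ρ, MonoidHom.normal_ker _, fun g => ?_⟩
  rw [MonoidHom.mem_ker, ← h, Representation.char_one, character_eq_finrank_iff,
    Module.End.one_eq_id]

/-- A character of degree prime to `p` has a constituent of degree prime to `p`. -/
theorem exists_constituent_pPrime [Fintype G] {p : ℕ} {χ : G → ℂ} (hχ : IsCharacter G χ) {d : ℕ}
    (hd : χ 1 = d) (hp : ¬ p ∣ d) :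
    ∃ ψ : IrrCharacter G, classInner χ (ψ : G → ℂ) ≠ 0 ∧ ¬ p ∣ charDegree (ψ : G → ℂ) := by
  obtain ⟨a, ha, hdec⟩ := IsChar.exists_decomp_inner hχ
  by_contra hno
  push Not at hno
  have h1 : d = ∑ φ : IrrCharacter G, a φ * charDegree (φ : G → ℂ) := by
    have := congrFun hdec 1
    rw [sum_irr_apply, hd] at this
    simp only [charDeg_spec'] at this
    exact_mod_cast this
  refine hp (h1 ▸ Finset.dvd_sum fun φ _ => ?_)
  by_cases h0 : a φ = 0
  · simp [h0]
  · exact (hno φ (by rw [ha]; exact Nat.cast_ne_zero.mpr h0)).mul_left _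

/-- Inside `R` with `R / L` a `p`-group, a constituent of `p'`-degree restricts to a multiple of
an invariant character. -/
theorem inertia_of_pPrime [Fintype G] {p : ℕ} [hp : Fact p.Prime] {L : Subgroup G} [L.Normal]
    [Fintype L] {k : ℕ} (hk : L.index = p ^ k) (ψ : IrrCharacter G)
    (hψ : ¬ p ∣ charDegree (ψ : G → ℂ)) (θ : IrrCharacter L)
    (h : classInner (fun m : L => (ψ : G → ℂ) m) (θ : L → ℂ) ≠ 0) :
    inertia L (θ : L → ℂ) = ⊤ ∧ charDegree (ψ : G → ℂ) = charDegree (θ : L → ℂ) := by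
  obtain ⟨e, he, hedvd⟩ := Ext.ratio_dvd_index' ψ.2 θ.2 h
  rw [charDeg_spec' ψ, charDeg_spec' θ, ← Nat.cast_mul, Nat.cast_inj] at he
  have he1 : e = 1 := by
    obtain ⟨j, -, rfl⟩ := (Nat.dvd_prime_pow hp.out).mp (hk ▸ hedvd)
    cases j with
    | zero => rw [pow_zero]
    | succ j => exact absurd (he ▸ (dvd_pow_self p j.succ_ne_zero).mul_right _) hψ
  refine ⟨?_, by rw [he, he1, one_mul]⟩
  have hc := clifford_one L ψ.2 θ.2 h
  obtain ⟨m, hm⟩ := IsChar.classInner_nat (IsChar.res (irr_isChar ψ) L) (irr_isChar θ)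
  rw [hm, charDeg_spec' ψ, charDeg_spec' θ, he, he1, one_mul, ← Nat.cast_mul, ← Nat.cast_mul,
    Nat.cast_inj] at hc
  have h2 : m * (inertia L (θ : L → ℂ)).index = 1 :=
    Nat.eq_of_mul_eq_mul_right (charDeg_pos θ) (by rw [one_mul, ← hc])
  exact Subgroup.index_eq_one.mp (Nat.eq_one_of_mul_eq_one_left h2)

omit [Finite G] in
theorem relIndex_sup_pow [Finite G] {p : ℕ} [Fact p.Prime] (P : Sylow p G) (L : Subgroup G) [L.Normal] :
    ∃ k, L.relIndex (L ⊔ (P : Subgroup G)) = p ^ k := by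
  rw [sup_comm, Subgroup.relIndex_sup_right]
  exact (P.isPGroup').index (L.subgroupOf (P : Subgroup G))

/-- The trivial character is the only invariant one when the fixed points are trivial. -/
theorem invariant_trivial_iff {p : ℕ} [Fact p.Prime] (P : Sylow p G) (L : Subgroup G) [hL : L.Normal]
    (hLp : ¬ p ∣ Nat.card L) :
    L ⊓ Subgroup.centralizer ((P : Subgroup G) : Set G) = ⊥ ↔
      ∀ θ : IrrCharacter L, (∀ s ∈ (P : Subgroup G), ∀ g g' : L, (g' : G) = s * g * s⁻¹ →
        (θ : L → ℂ) g' = (θ : L → ℂ) g) → (θ : L → ℂ) = fun _ => 1 := by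
  classical
  haveI := Fintype.ofFinite G
  haveI := Fintype.ofFinite L
  have hsolv : Group.IsSolvable (P : Subgroup G) := by
    haveI := P.isPGroup'.isNilpotent
    infer_instance
  have hnorm : ∀ s ∈ (P : Subgroup G), ∀ l ∈ L, s * l * s⁻¹ ∈ L := fun s _ l hl => hL.conj_mem l hl s
  have hcop : (Nat.card L).Coprime (Nat.card (P : Subgroup G)) := by
    obtain ⟨k, hk⟩ := IsPGroup.iff_card.mp P.isPGroup'
    rw [hk]
    exact Nat.Coprime.pow_right _ (((Fact.out : p.Prime).coprime_iff_not_dvd.mpr hLp).symm)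
  have hgood := (Glaub.good_conjHom L (P : Subgroup G) hnorm hcop hsolv).count
  rw [CopDeg.card_fixed_classes L (P : Subgroup G) hnorm hcop (Or.inl hsolv)] at hgood
  set C := L ⊓ Subgroup.centralizer ((P : Subgroup G) : Set G)
  have htriv : Glaub.Inv (Glaub.conjHom L (P : Subgroup G) hnorm).range
      ((trivialIrr L : IrrCharacter L) : L → ℂ) := fun a _ g => rfl
  constructor
  · intro hC θ hθ
    haveI : Subsingleton C := by rw [hC]; infer_instance
    haveI : Subsingleton (ConjClasses C) := ⟨fun x y => by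
      obtain ⟨a, rfl⟩ := x.exists_rep
      obtain ⟨b, rfl⟩ := y.exists_rep
      rw [Subsingleton.elim a b]⟩
    rw [Nat.card_eq_one_iff_unique.mpr ⟨inferInstance, ⟨ConjClasses.mk 1⟩⟩] at hgood
    obtain ⟨hs, -⟩ := Nat.card_eq_one_iff_unique.mp hgood
    have h := hs.elim ⟨θ, (Glaub.inv_conjHom_iff _ _ _ _).mpr hθ⟩ ⟨trivialIrr L, htriv⟩
    exact congrArg Subtype.val (congrArg Subtype.val h)
  · intro hall
    rw [eq_bot_iff]
    intro x hx
    have hsub : Nat.card {χ : IrrCharacter L // Glaub.Inv (Glaub.conjHom L (P : Subgroup G) hnorm).range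
        (χ : L → ℂ)} = 1 := by
      refine Nat.card_eq_one_iff_unique.mpr ⟨⟨fun a b => Subtype.ext (Subtype.ext ?_)⟩, ⟨⟨_, htriv⟩⟩⟩
      rw [hall a.1 ((Glaub.inv_conjHom_iff _ _ _ _).mp a.2),
        hall b.1 ((Glaub.inv_conjHom_iff _ _ _ _).mp b.2)]
    rw [hsub] at hgood
    obtain ⟨hs, -⟩ := Nat.card_eq_one_iff_unique.mp hgood.symm
    have h := ConjClasses.mk_eq_mk_iff_isConj.mp
      (hs.elim (ConjClasses.mk (⟨x, hx⟩ : C)) (ConjClasses.mk 1))
    exact Subgroup.mem_bot.mpr (congrArg Subtype.val (isConj_one_left.mp h) :)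

/-- Characters of degree prime to `p` contain `N` in the kernel. -/
theorem kills_coreless [Fintype G] {p : ℕ} [Fact p.Prime] (P : Sylow p G) (N : Subgroup G)
    [hN : N.Normal] (hNp : ¬ p ∣ Nat.card N)
    (hC : N ⊓ Subgroup.centralizer ((P : Subgroup G) : Set G) = ⊥) (χ : IrrCharacter G)
    (hχ : ¬ p ∣ charDegree (χ : G → ℂ)) :
    ∀ n ∈ N, (χ : G → ℂ) n = (χ : G → ℂ) 1 := by
  classical
  haveI := Fintype.ofFinite N
  set R := N ⊔ (P : Subgroup G) with hR
  haveI := Fintype.ofFinite R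
  obtain ⟨k, hk⟩ := relIndex_sup_pow P N
  set NR := N.subgroupOf R with hNR
  haveI : NR.Normal := Subgroup.Normal.subgroupOf inferInstance _
  haveI := Fintype.ofFinite NR
  have hd : (χ : G → ℂ) ((1 : R) : G) = (charDegree (χ : G → ℂ) : ℂ) := charDeg_spec' χ
  obtain ⟨ψ, hψc, hψp⟩ := exists_constituent_pPrime (IsChar.res (irr_isChar χ) R) hd hχ
  obtain ⟨θ, hθ⟩ := IsChar.exists_constituent' (IsChar.res (irr_isChar ψ) NR)
    (show (ψ : R → ℂ) ((1 : NR) : R) ≠ 0 from irr_one_ne_zero ψ)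
  obtain ⟨hI, -⟩ := inertia_of_pPrime (G := R) (L := NR) hk ψ hψp θ hθ
  let e : NR ≃* N := Subgroup.subgroupOfEquivOfLe le_sup_left
  let θN : IrrCharacter N := ⟨fun n => (θ : NR → ℂ) (e.symm n), IsIrr.comp_mulEquiv e.symm θ.2⟩
  have hθ1 : (θN : N → ℂ) = fun _ => 1 := by
    refine (invariant_trivial_iff P N hNp).mp hC θN fun s hs g g' hgg => ?_
    have h := congrFun ((mem_inertia NR).mp
      (hI.symm ▸ Subgroup.mem_top (⟨s, Subgroup.mem_sup_right hs⟩ : R))) (e.symm g)
    refine Eq.trans ?_ h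
    simp only [θN, conjN]
    exact congrArg _ (Subtype.ext (Subtype.ext hgg))
  -- the trivial character occurs in `χ` restricted to `N`
  have hne : classInner (fun m : N => (χ : G → ℂ) m) (fun _ => 1) ≠ 0 := by
    obtain ⟨a, ha, hdec⟩ := IsChar.exists_decomp_inner (IsChar.res (irr_isChar χ) R)
    have hb : ∀ φ : IrrCharacter R, ∃ b : ℕ,
        classInner (fun n : N => (φ : R → ℂ) ⟨n, Subgroup.mem_sup_left n.2⟩) (fun _ => 1) = b :=
      fun φ => IsChar.classInner_nat
        (IsChar.comp (Subgroup.inclusion le_sup_left) (irr_isChar φ)) IsChar.one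
    choose b hb using hb
    have h1 : (fun m : N => (χ : G → ℂ) m) = ∑ φ : IrrCharacter R,
        (a φ : ℂ) • fun n : N => (φ : R → ℂ) ⟨n, Subgroup.mem_sup_left n.2⟩ := by
      funext n
      have := congrFun hdec ⟨n, Subgroup.mem_sup_left n.2⟩
      rw [sum_irr_apply] at this
      rw [this]
      simp
    have h2 : classInner (fun m : N => (χ : G → ℂ) m) (fun _ => 1) =
        ((∑ φ : IrrCharacter R, a φ * b φ : ℕ) : ℂ) := by
      rw [h1, classInner_sum_left, Nat.cast_sum]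
      exact Finset.sum_congr rfl fun φ _ => by rw [classInner_smul_left, hb, Nat.cast_mul]
    rw [h2, Nat.cast_ne_zero]
    refine (Finset.sum_pos' (fun _ _ => Nat.zero_le _) ⟨ψ, Finset.mem_univ _,
      Nat.mul_pos (Nat.pos_of_ne_zero fun h => hψc (by rw [ha ψ, h, Nat.cast_zero]))
        (Nat.pos_of_ne_zero fun h => hθ ?_)⟩).ne'
    have e1 : classInner (fun n : N => (ψ : R → ℂ) ⟨n, Subgroup.mem_sup_left n.2⟩)
        (fun _ => 1) = 0 := by rw [hb, h, Nat.cast_zero]
    rw [← hθ1, ← classInner_comp_surjective e.toMonoidHom e.surjective] at e1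
    refine Eq.trans ?_ e1
    congr 1
  intro n hn
  have hc := congrFun (clifford N χ.2 (isIrr_one (G := N)) hne)
  have horb : conjOrbit N (fun _ : N => (1 : ℂ)) = {fun _ : N => (1 : ℂ)} := by
    ext φ
    rw [mem_conjOrbit, Finset.mem_singleton]
    exact ⟨fun ⟨g, hg⟩ => hg.symm, fun h => ⟨1, by rw [h]; rfl⟩⟩
  have e1 := hc ⟨n, hn⟩
  have e2 := hc 1
  simp only [horb, Finset.sum_singleton, Pi.smul_apply, smul_eq_mul, mul_one,
    Subgroup.coe_one] at e1 e2
  rw [e1, ← e2]

/-- Characters of degree prime to `p` kill normal subgroups inside `N P'`. -/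
theorem kills_core [Fintype G] {p : ℕ} [Fact p.Prime] (P : Sylow p G) (N : Subgroup G)
    [hN : N.Normal] (M : Subgroup G) [hM : M.Normal]
    (hMle : M ≤ N ⊔ ⁅(P : Subgroup G), (P : Subgroup G)⁆) (χ : IrrCharacter G)
    (hχ : ¬ p ∣ charDegree (χ : G → ℂ)) (hker : ∀ n ∈ N, (χ : G → ℂ) n = (χ : G → ℂ) 1) :
    ∀ x ∈ M, (χ : G → ℂ) x = (χ : G → ℂ) 1 := by
  classical
  haveI := Fintype.ofFinite M
  set R := N ⊔ (P : Subgroup G) with hR
  haveI := Fintype.ofFinite R
  obtain ⟨k, hk⟩ := relIndex_sup_pow P N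
  set NR := N.subgroupOf R with hNR
  haveI : NR.Normal := Subgroup.Normal.subgroupOf inferInstance _
  haveI := Fintype.ofFinite NR
  have hd : (χ : G → ℂ) ((1 : R) : G) = (charDegree (χ : G → ℂ) : ℂ) := charDeg_spec' χ
  obtain ⟨ψ, hψc, hψp⟩ := exists_constituent_pPrime (IsChar.res (irr_isChar χ) R) hd hχ
  have hψker : ∀ n : NR, (ψ : R → ℂ) n = (ψ : R → ℂ) 1 := fun n =>
    constituent_ker (IsChar.res (irr_isChar χ) R) ψ.2 hψc
      (show (χ : G → ℂ) ((n : R) : G) = (χ : G → ℂ) ((1 : R) : G) from hker _ n.2)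
  have hθ : classInner (fun n : NR => (ψ : R → ℂ) n) ((trivialIrr NR : IrrCharacter NR) : NR → ℂ) ≠ 0 := by
    have e : classInner (fun n : NR => (ψ : R → ℂ) n) ((trivialIrr NR : IrrCharacter NR) : NR → ℂ) =
        (ψ : R → ℂ) 1 := by
      simp [classInner, trivialIrr, hψker, Nat.card_pos.ne']
    rw [e]
    exact irr_one_ne_zero ψ
  obtain ⟨-, hdeg⟩ := inertia_of_pPrime (G := R) (L := NR) hk ψ hψp (trivialIrr NR) hθ
  have h1 : (ψ : R → ℂ) 1 = 1 := by
    rw [charDeg_spec' ψ, hdeg, ← charDeg_spec']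
    rfl
  obtain ⟨l, hl⟩ := linearHom_of_isCharacter (irr_isChar ψ) h1
  have hPR : (P : Subgroup G) ≤ R := le_sup_right
  have hkill : N ⊔ ⁅(P : Subgroup G), (P : Subgroup G)⁆ ≤ l.ker.map R.subtype := by
    refine sup_le (fun n hn => ⟨⟨n, Subgroup.mem_sup_left hn⟩, ?_, rfl⟩)
      (Subgroup.commutator_le.mpr fun a ha b hb => ?_)
    · refine MonoidHom.mem_ker.mpr (Units.ext ?_)
      rw [← congrFun hl, Units.val_one, ← h1]
      exact hψker ⟨⟨n, Subgroup.mem_sup_left hn⟩, hn⟩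
    · refine ⟨⁅(⟨a, hPR ha⟩ : R), ⟨b, hPR hb⟩⁆, MonoidHom.mem_ker.mpr ?_, rfl⟩
      rw [map_commutatorElement, commutatorElement_eq_one_iff_mul_comm, mul_comm]
  have hMR : M ≤ R := hMle.trans (sup_le le_sup_left
    ((Subgroup.commutator_le_self _).trans le_sup_right))
  have hne : classInner (fun m : M => (χ : G → ℂ) m) (fun _ => 1) ≠ 0 := by
    obtain ⟨a, ha, hdec⟩ := IsChar.exists_decomp_inner (IsChar.res (irr_isChar χ) R)
    have hb : ∀ φ : IrrCharacter R, ∃ b : ℕ,
        classInner (fun n : M => (φ : R → ℂ) ⟨n, hMR n.2⟩) (fun _ => 1) = b :=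
      fun φ => IsChar.classInner_nat
        (IsChar.comp (Subgroup.inclusion hMR) (irr_isChar φ)) IsChar.one
    choose b hb using hb
    have h3 : (fun m : M => (χ : G → ℂ) m) = ∑ φ : IrrCharacter R,
        (a φ : ℂ) • fun n : M => (φ : R → ℂ) ⟨n, hMR n.2⟩ := by
      funext n
      have := congrFun hdec ⟨n, hMR n.2⟩
      rw [sum_irr_apply] at this
      rw [this]
      simp
    have h2 : classInner (fun m : M => (χ : G → ℂ) m) (fun _ => 1) =
        ((∑ φ : IrrCharacter R, a φ * b φ : ℕ) : ℂ) := by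
      rw [h3, classInner_sum_left, Nat.cast_sum]
      exact Finset.sum_congr rfl fun φ _ => by rw [classInner_smul_left, hb, Nat.cast_mul]
    rw [h2, Nat.cast_ne_zero]
    refine (Finset.sum_pos' (fun _ _ => Nat.zero_le _) ⟨ψ, Finset.mem_univ _,
      Nat.mul_pos (Nat.pos_of_ne_zero fun h => hψc (by rw [ha ψ, h, Nat.cast_zero]))
        (Nat.pos_of_ne_zero fun h => one_ne_zero (α := ℂ) ?_)⟩).ne'
    have hone : ∀ m : M, (ψ : R → ℂ) ⟨m, hMR m.2⟩ = 1 := fun m => by
      obtain ⟨r, hr, hrm⟩ := hkill (hMle m.2)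
      rw [hl, show (⟨(m : G), hMR m.2⟩ : R) = r from Subtype.ext hrm.symm]
      show (l r : ℂ) = 1
      rw [MonoidHom.mem_ker.mp hr, Units.val_one]
    have e := hb ψ
    rw [h, Nat.cast_zero, funext hone, classInner_self_irr (isIrr_one (G := M))] at e
    exact e
  intro x hx
  have hc := congrFun (clifford M χ.2 (isIrr_one (G := M)) hne)
  have horb : conjOrbit M (fun _ : M => (1 : ℂ)) = {fun _ : M => (1 : ℂ)} := by
    ext φ
    rw [mem_conjOrbit, Finset.mem_singleton]
    exact ⟨fun ⟨g, hg⟩ => hg.symm, fun h => ⟨1, by rw [h]; rfl⟩⟩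
  have e1 := hc ⟨x, hx⟩
  have e2 := hc 1
  simp only [horb, Finset.sum_singleton, Pi.smul_apply, smul_eq_mul, mul_one,
    Subgroup.coe_one] at e1 e2
  rw [e1, ← e2]

/-- The kernels meet `P` inside `P'`, and only coreless normal `p'`-subgroups survive. -/
theorem kernel_le [Fintype G] {p : ℕ} [hp : Fact p.Prime] (P : Sylow p G) (K : Subgroup G) [hK : K.Normal]
    (hker : ∀ g ∈ K, ∀ χ : IrrCharacter G, ¬ p ∣ charDegree (χ : G → ℂ) →
      (χ : G → ℂ) g = (χ : G → ℂ) 1) :
    K ⊓ (P : Subgroup G) ≤ ⁅(P : Subgroup G), (P : Subgroup G)⁆ ∧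
    ∀ L : Subgroup G, L.Normal → L ≤ K → ¬ p ∣ Nat.card L →
      L ⊓ Subgroup.centralizer ((P : Subgroup G) : Set G) = ⊥ := by
  classical
  -- from an irreducible character of p'-degree of a subgroup of p'-index
  have hsurv : ∀ (R : Subgroup G) [Fintype R] (η : IrrCharacter R), ¬ p ∣ R.index →
      ¬ p ∣ charDegree (η : R → ℂ) → ∀ g : R, (g : G) ∈ K → (η : R → ℂ) g = (η : R → ℂ) 1 := by
    intro R _ η hR hη g hg
    have hd : indFun R (η : R → ℂ) 1 = ((R.index * charDegree (η : R → ℂ) : ℕ) : ℂ) := by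
      rw [indFun_one_eq, charDeg_spec' η, Nat.cast_mul]
    obtain ⟨χ, hχc, hχp⟩ := exists_constituent_pPrime (isCharacter_indFun R (irr_isChar η)) hd
      (fun h => (hp.out.dvd_mul.mp h).elim hR hη)
    rw [classInner_indFun R _ (irr_classFun χ), ← classInner_conj_symm, Ne, map_eq_zero] at hχc
    exact constituent_ker (IsChar.res (irr_isChar χ) R) η.2 hχc
      (show (χ : G → ℂ) (g : G) = (χ : G → ℂ) ((1 : R) : G) from hker _ hg χ hχp)
  constructor
  · intro x hx
    haveI := Fintype.ofFinite (P : Subgroup G)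
    set xP : (P : Subgroup G) := ⟨x, hx.2⟩
    have hab : ∀ a b : (P : Subgroup G) ⧸ commutator (P : Subgroup G), a * b = b * a :=
      (Subgroup.Normal.quotient_commutative_iff_commutator_le.mpr le_rfl).is_comm.comm
    have h1 : (xP : (P : Subgroup G) ⧸ commutator (P : Subgroup G)) = 1 := by
      refine eq_one_of_forall_linear hab fun l => Units.ext ?_
      let lP := l.comp (QuotientGroup.mk' (commutator (P : Subgroup G)))
      have h := hsurv (P : Subgroup G) ⟨fun g => (lP g : ℂ), isIrr_linear lP⟩ P.not_dvd_index (by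
        simp [charDegree, hp.out.ne_one]) xP hx.1
      simpa [lP] using h
    have h2 := (QuotientGroup.eq_one_iff _).mp h1
    have h3 : (commutator (P : Subgroup G)).map (P : Subgroup G).subtype =
        ⁅(P : Subgroup G), (P : Subgroup G)⁆ := Subgroup.map_subtype_commutator _
    rw [← h3]
    exact ⟨xP, h2, rfl⟩
  · intro L hL hLK hLp
    refine (invariant_trivial_iff P L hLp).mpr fun θ hθ => ?_
    haveI := Fintype.ofFinite L
    set R := L ⊔ (P : Subgroup G) with hR
    haveI := Fintype.ofFinite R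
    set LR := L.subgroupOf R with hLR
    haveI : LR.Normal := Subgroup.Normal.subgroupOf inferInstance _
    haveI := Fintype.ofFinite LR
    obtain ⟨k, hk⟩ := relIndex_sup_pow P L
    let e : LR ≃* L := Subgroup.subgroupOfEquivOfLe le_sup_left
    let θR : IrrCharacter LR := ⟨fun m => (θ : L → ℂ) (e m), IsIrr.comp_mulEquiv e θ.2⟩
    have hinv : ∀ (g : R) (n : LR),
        (θR : LR → ℂ) ⟨g * n * g⁻¹, (inferInstance : LR.Normal).conj_mem (n : R) n.2 g⟩ = (θR : LR → ℂ) n := by
      intro g n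
      obtain ⟨a, ha, b, hb, hab⟩ := Subgroup.mem_sup_of_normal_left.mp g.2
      have h1 := hθ b hb (e n) ⟨b * ((n : R) : G) * b⁻¹, hL.conj_mem _ n.2 b⟩ rfl
      have h2 := IsIrr.classFun θ.2 (⟨b * ((n : R) : G) * b⁻¹, hL.conj_mem _ n.2 b⟩ : L) ⟨a, ha⟩
      refine Eq.trans ?_ (h2.trans h1)
      refine congrArg (θ : L → ℂ) (Subtype.ext ?_)
      show (g : G) * ((n : R) : G) * (g : G)⁻¹ = a * (b * ((n : R) : G) * b⁻¹) * a⁻¹
      rw [← hab]
      group
    have hθdvd : charDegree (θR : LR → ℂ) ∣ Nat.card L :=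
      Nat.card_congr e.toEquiv ▸ CopDeg.degree_dvd_card' θR
    have hodvd : orderOf (detChar (θR : LR → ℂ)) ∣ Nat.card L := by
      obtain ⟨l, hl⟩ := isCharacter_detChar θR.2
      rw [hl, orderOf_unitsFun]
      refine orderOf_dvd_of_pow_eq_one (MonoidHom.ext fun g => ?_)
      show l g ^ Nat.card L = 1
      rw [← map_pow, ← Nat.card_congr e.toEquiv, pow_card_eq_one', map_one]
    have hcop : Nat.Coprime LR.index (orderOf (detChar (θR : LR → ℂ)) * charDegree (θR : LR → ℂ)) := by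
      rw [show LR.index = p ^ k from hk]
      exact Nat.Coprime.pow_left _ (Nat.Coprime.mul_right
        ((hp.out.coprime_iff_not_dvd.mpr fun h => hLp (h.trans hodvd)))
        ((hp.out.coprime_iff_not_dvd.mpr fun h => hLp (h.trans hθdvd))))
    obtain ⟨η, hη, hres⟩ := Ext.exists_extension_of_witness θR.2 hinv (charDeg_spec' θR)
      fun q hq => Ext.witness_of_coprime θR.2 hcop hq
    have hdeg : charDegree η = charDegree (θR : LR → ℂ) := by
      unfold charDegree
      rw [← hres 1, Subgroup.coe_one]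
    have hidx : ¬ p ∣ R.index := fun h =>
      P.not_dvd_index (h.trans (Subgroup.index_dvd_of_le le_sup_right))
    have hsR := hsurv R ⟨η, hη⟩ hidx (by
      show ¬ p ∣ charDegree η
      rw [hdeg]
      exact fun h => hLp (h.trans hθdvd))
    have hval : ∀ l : L, (θ : L → ℂ) l = (θ : L → ℂ) 1 := fun l => by
      have h1 := hsR ⟨l, Subgroup.mem_sup_left l.2⟩ (hLK l.2)
      have h2 := hres (e.symm l)
      have h3 := hres 1
      simp only [θR, MulEquiv.apply_symm_apply, map_one, Subgroup.coe_one] at h2 h3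
      rw [← h2, ← h3]
      exact h1
    funext l
    by_contra hne
    have h0 := classInner_irr_ne θ.2 (isIrr_one (G := L)) fun h => hne (congrFun h l)
    simp [classInner, hval, irr_one_ne_zero θ, Nat.card_pos.ne'] at h0

end Cfsg.Agent.Char.PPrime
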