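import Cfsg.Agent.Lib.Block.Residue
import Cfsg.Agent.Lib.Block.Central
import Cfsg.Agent.Lib.Char.Clifford
import Cfsg.Agent.Lib.Char.Schur

/-!
The Glauberman correspondence for a coprime action of a `p`-group, by congruences of orbit sums.
-/

namespace Cfsg.Agent.Char.Glaub

open scoped ComplexConjugate
open Cfsg Cfsg.Agent.Block

universe u

variable {G : Type u} [Group G] (A : Subgroup (MulAut G))

/-- The fixed points of `A`. -/
def fix : Subgroup G where
  carrier := {g | ∀ a ∈ A, a g = g}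
  one_mem' := fun a _ => map_one a
  mul_mem' {x y} hx hy a ha := by rw [map_mul, hx a ha, hy a ha]
  inv_mem' {x} hx a ha := by rw [map_inv, hx a ha]

theorem mem_fix {g : G} : g ∈ fix A ↔ ∀ a ∈ A, a g = g := Iff.rfl

/-- Invariance of a function. -/
def Inv (f : G → ℂ) : Prop := ∀ a ∈ A, ∀ g, f (a g) = f g

variable [Fintype G]

/-- The multiplicity of `β` in the restriction of `χ` to a subgroup. -/
noncomputable def mult (C : Subgroup G) (χ : G → ℂ) (β : C → ℂ) : ℕ :=
  haveI := Fintype.ofFinite C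
  ⌊(classInner (fun c : C => χ c) β).re⌋₊

theorem mult_spec (C : Subgroup G) [Fintype C] {χ : G → ℂ} (hχ : IsCharacter G χ) {β : C → ℂ}
    (hβ : IsCharacter C β) :
    classInner (fun c : C => χ c) β = (mult C χ β : ℂ) := by
  obtain ⟨n, hn⟩ := IsChar.classInner_nat (IsChar.res hχ C) hβ
  have e : mult C χ β = ⌊(classInner (fun c : C => χ c) β).re⌋₊ := by
    unfold mult
    congr!
  rw [e, hn]
  simp

theorem res_expansion (C : Subgroup G) [Fintype C] {χ : G → ℂ} (hχ : IsCharacter G χ) (c : C) :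
    χ c = ∑ β : IrrCharacter C, (mult C χ (β : C → ℂ) : ℂ) * (β : C → ℂ) c := by
  have h := congrFun (classFunction_expansion (IsChar.classFun (IsChar.res hχ C))) c
  rw [sum_irr_apply] at h
  rw [h]
  exact Finset.sum_congr rfl fun β _ => by rw [mult_spec C hχ (IsIrr.isCharacter β.2)]

variable {A} {p : ℕ} {M : Ideal AlgInt}

theorem card_dvd_ne (hcop : Nat.Coprime (Nat.card G) p) (hp : p.Prime) {n : ℕ}
    (hn : n ∣ Nat.card G) : ¬ p ∣ n := fun h =>
  hp.ne_one (Nat.eq_one_of_dvd_coprimes hcop (h.trans hn) dvd_rfl)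

/-- Sums of invariant functions reduce to the fixed points. -/
theorem sum_congr_fix (hM : IsPModular p M) (hA : IsPGroup p A) [Fintype (fix A)]
    {F : G → ℂ} (hr : ∀ g, MemLocalRing M (F g)) (hF : Inv A F) :
    MemLocalIdeal M (∑ g : G, F g - ∑ c : fix A, F c) := by
  classical
  haveI : Finite (MulAut G) := Finite.of_injective (fun a : MulAut G => (a : G → G)) DFunLike.coe_injective
  have h := ideal_sum_sub_fixed (α := G) (P := A) hM hA hr (fun u g => hF u u.2 g)
  convert h using 2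
  rw [finsum_mem_eq_sum_of_inter_support_eq _
    (t := Finset.univ.filter fun g : G => g ∈ fix A) ?_]
  · exact (Finset.sum_subtype _ (fun g => by simp) F).symm
  · ext g
    simp only [Set.mem_inter_iff, MulAction.mem_fixedPoints, Subtype.forall, Finset.coe_filter,
      Finset.mem_univ, true_and, Set.mem_setOf_eq, mem_fix]
    rfl

theorem card_congr_fix (hM : IsPModular p M) (hA : IsPGroup p A) :
    MemLocalIdeal M ((Nat.card G : ℂ) - (Nat.card (fix A) : ℂ)) := by
  haveI := Fintype.ofFinite (fix A)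
  have h := sum_congr_fix hM hA (F := fun _ => (1 : ℂ)) (fun _ => ring_one hM) (fun _ _ _ => rfl)
  simpa [Nat.card_eq_fintype_card] using h

section Fixed

variable [Fintype (fix A)]

/-- `∑ m(χ,β) m(χ',β) ≡ δ`. -/
theorem sum_mult_mul (hM : IsPModular p M) (hA : IsPGroup p A)
    (hcop : Nat.Coprime (Nat.card G) p) (χ χ' : IrrCharacter G) (hχ : Inv A (χ : G → ℂ))
    (hχ' : Inv A (χ' : G → ℂ)) :
    MemLocalIdeal M ((∑ β : IrrCharacter (fix A), (mult (fix A) (χ : G → ℂ) (β : fix A → ℂ) : ℂ) *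
      (mult (fix A) (χ' : G → ℂ) (β : fix A → ℂ) : ℂ)) - classInner (χ : G → ℂ) (χ' : G → ℂ)) := by
  classical
  set F : G → ℂ := fun g => (χ : G → ℂ) g * conj ((χ' : G → ℂ) g) with hF
  have hr : ∀ g, MemLocalRing M (F g) := fun g =>
    ring_mul hM (irr_ring hM χ g) (by rw [← irr_apply_inv]; exact irr_ring hM χ' g⁻¹)
  have h := sum_congr_fix hM hA hr (fun a ha g => by simp only [hF, hχ a ha g, hχ' a ha g])
  have hG : ∑ g : G, F g = (Nat.card G : ℂ) * classInner (χ : G → ℂ) (χ' : G → ℂ) := by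
    rw [classInner, mul_inv_cancel_left₀ (Nat.cast_ne_zero.mpr Nat.card_pos.ne')]
  have hC : ∑ c : fix A, F c = (Nat.card (fix A) : ℂ) *
      ∑ β : IrrCharacter (fix A), (mult (fix A) (χ : G → ℂ) (β : fix A → ℂ) : ℂ) *
        (mult (fix A) (χ' : G → ℂ) (β : fix A → ℂ) : ℂ) := by
    have e : classInner (fun c : fix A => (χ : G → ℂ) c) (fun c : fix A => (χ' : G → ℂ) c) =
        ∑ β : IrrCharacter (fix A), (mult (fix A) (χ : G → ℂ) (β : fix A → ℂ) : ℂ) *
          (mult (fix A) (χ' : G → ℂ) (β : fix A → ℂ) : ℂ) := by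
      have e1 : ∀ φ : IrrCharacter G, (fun c : fix A => (φ : G → ℂ) c) =
          ∑ β : IrrCharacter (fix A), (mult (fix A) (φ : G → ℂ) (β : fix A → ℂ) : ℂ) • (β : fix A → ℂ) :=
        fun φ => funext fun c => by rw [sum_irr_apply, res_expansion (fix A) (irr_isChar φ) c]
      rw [e1 χ, e1 χ', classInner_sum_sum]
      simp
    rw [← e, classInner, mul_inv_cancel_left₀ (Nat.cast_ne_zero.mpr Nat.card_pos.ne')]
  rw [hG, hC] at h
  set S := ∑ β : IrrCharacter (fix A), (mult (fix A) (χ : G → ℂ) (β : fix A → ℂ) : ℂ) *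
        (mult (fix A) (χ' : G → ℂ) (β : fix A → ℂ) : ℂ)
  have hδ : MemLocalRing M (classInner (χ : G → ℂ) (χ' : G → ℂ)) := by
    obtain ⟨n, hn⟩ := IsChar.classInner_nat (irr_isChar χ) (irr_isChar χ')
    rw [hn]; exact ring_natCast hM n
  have h2 : MemLocalIdeal M ((Nat.card (fix A) : ℂ) * (S - classInner (χ : G → ℂ) (χ' : G → ℂ))) := by
    have := ideal_sub hM (ideal_mul_right hM (card_congr_fix (A := A) hM hA) hδ) h
    convert this using 1
    ring
  refine (ideal_or_of_mul hM (ring_natCast hM _) (ring_sub hM ?_ hδ) h2).resolve_left fun h3 => ?_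
  · exact ring_sum hM fun β _ => ring_mul hM (ring_natCast hM _) (ring_natCast hM _)
  · exact card_dvd_ne hcop (pmod_prime hM) (Subgroup.card_subgroup_dvd_card _)
      ((ideal_natCast_iff hM _).mp h3)

/-- `m₀ m₁ β₀(1) ≡ δ m₀ χ(1)`. -/
theorem mult_product (hM : IsPModular p M) (hA : IsPGroup p A)
    (hcop : Nat.Coprime (Nat.card G) p) (χ : IrrCharacter G) (hχ : Inv A (χ : G → ℂ))
    (β₀ β₁ : IrrCharacter (fix A)) :
    MemLocalIdeal M ((mult (fix A) (χ : G → ℂ) (β₀ : fix A → ℂ) : ℂ) *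
      classInner (β₀ : fix A → ℂ) (β₁ : fix A → ℂ) / (β₀ : fix A → ℂ) 1 -
      (mult (fix A) (χ : G → ℂ) (β₀ : fix A → ℂ) : ℂ) *
        (mult (fix A) (χ : G → ℂ) (β₁ : fix A → ℂ) : ℂ) / (χ : G → ℂ) 1) := by
  classical
  have hp := pmod_prime hM
  set m : IrrCharacter (fix A) → ℂ := fun β => (mult (fix A) (χ : G → ℂ) (β : (fix A) → ℂ) : ℂ) with hm
  have hinvχ : MemLocalRing M ((χ : G → ℂ) 1)⁻¹ := by
    obtain ⟨n, -, hn⟩ := IsIrr.one_eq_pos χ.2
    rw [hn]
    exact ring_inv_natCast hM (card_dvd_ne hcop hp (IsIrr.degree_dvd_card χ.2 hn))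
  have hinvβ : ∀ β : IrrCharacter (fix A), MemLocalRing M ((β : (fix A) → ℂ) 1)⁻¹ := fun β => by
    obtain ⟨n, -, hn⟩ := IsIrr.one_eq_pos β.2
    rw [hn]
    exact ring_inv_natCast hM
      (card_dvd_ne hcop hp ((IsIrr.degree_dvd_card β.2 hn).trans (Subgroup.card_subgroup_dvd_card _)))
  have hconj : ∀ (β : IrrCharacter (fix A)) (b : (fix A)), MemLocalRing M (conj ((β : (fix A) → ℂ) b)) := fun β b => by
    rw [← irr_apply_inv]; exact irr_ring hM β _
  have key : ∀ b h : (fix A), MemLocalIdeal M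
      ((Nat.card (fix A) : ℂ) * ((χ : G → ℂ) b * (χ : G → ℂ) h / (χ : G → ℂ) 1) -
        (Nat.card (fix A) : ℂ) * ∑ β : IrrCharacter (fix A), m β * ((β : (fix A) → ℂ) b * (β : (fix A) → ℂ) h / (β : (fix A) → ℂ) 1)) := by
    intro b h
    have h1 := sum_congr_fix hM hA
      (F := fun a : G => (χ : G → ℂ) (a * (b : G) * a⁻¹ * (h : G))) (fun a => irr_ring hM χ _)
      (fun x hx g => by
        have e : x g * (b : G) * (x g)⁻¹ * (h : G) = x (g * (b : G) * g⁻¹ * (h : G)) := by
          rw [map_mul, map_mul, map_mul, map_inv, b.2 x hx, h.2 x hx]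
        simp only [e, hχ x hx])
    rw [sum_conj_apply χ.2 (b : G) (h : G)] at h1
    have e2 : ∑ a : (fix A), (χ : G → ℂ) ((a : G) * (b : G) * (a : G)⁻¹ * (h : G)) =
        (Nat.card (fix A) : ℂ) * ∑ β : IrrCharacter (fix A), m β * ((β : (fix A) → ℂ) b * (β : (fix A) → ℂ) h / (β : (fix A) → ℂ) 1) := by
      have e3 : ∀ a : (fix A), (χ : G → ℂ) ((a : G) * (b : G) * (a : G)⁻¹ * (h : G)) =
          ∑ β : IrrCharacter (fix A), m β * (β : (fix A) → ℂ) (a * b * a⁻¹ * h) := fun a =>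
        res_expansion (fix A) (irr_isChar χ) (a * b * a⁻¹ * h)
      rw [Finset.sum_congr rfl fun a _ => e3 a, Finset.sum_comm, Finset.mul_sum]
      refine Finset.sum_congr rfl fun β _ => ?_
      rw [← Finset.mul_sum, sum_conj_apply β.2 b h]
      ring
    rw [e2] at h1
    have hr : MemLocalRing M ((χ : G → ℂ) b * (χ : G → ℂ) h / (χ : G → ℂ) 1) := by
      rw [div_eq_mul_inv]
      exact ring_mul hM (ring_mul hM (irr_ring hM χ _) (irr_ring hM χ _)) hinvχ
    have := ideal_sub hM h1 (ideal_mul_right hM (card_congr_fix (A := A) hM hA) hr)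
    convert this using 1
    ring
  have hsum := ideal_sum hM (s := (Finset.univ : Finset ((fix A) × (fix A)))) (fun z _ =>
    ideal_mul_right hM (key z.1 z.2) (ring_mul hM (hconj β₀ z.1) (hconj β₁ z.2)))
  have hd : ∀ f : (fix A) → ℂ, ∀ β : IrrCharacter (fix A),
      ∑ b : (fix A), f b * conj ((β : (fix A) → ℂ) b) = (Nat.card (fix A) : ℂ) * classInner f (β : (fix A) → ℂ) := fun f β => by
    rw [classInner, mul_inv_cancel_left₀ (Nat.cast_ne_zero.mpr Nat.card_pos.ne')]
  have eval : ∑ z : (fix A) × (fix A), ((Nat.card (fix A) : ℂ) * ((χ : G → ℂ) z.1 * (χ : G → ℂ) z.2 / (χ : G → ℂ) 1) -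
        (Nat.card (fix A) : ℂ) * ∑ β : IrrCharacter (fix A), m β *
          ((β : (fix A) → ℂ) z.1 * (β : (fix A) → ℂ) z.2 / (β : (fix A) → ℂ) 1)) *
        (conj ((β₀ : (fix A) → ℂ) z.1) * conj ((β₁ : (fix A) → ℂ) z.2)) =
      (Nat.card (fix A) : ℂ) ^ 3 * (m β₀ * m β₁ / (χ : G → ℂ) 1 -
        m β₀ * classInner (β₀ : (fix A) → ℂ) (β₁ : (fix A) → ℂ) / (β₀ : (fix A) → ℂ) 1) := by
    have hprod : ∀ f : (fix A) → ℂ, ∀ f' : (fix A) → ℂ, ∑ z : (fix A) × (fix A), f z.1 * f' z.2 *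
        (conj ((β₀ : (fix A) → ℂ) z.1) * conj ((β₁ : (fix A) → ℂ) z.2)) =
        (Nat.card (fix A) : ℂ) * classInner f (β₀ : (fix A) → ℂ) * ((Nat.card (fix A) : ℂ) * classInner f' (β₁ : (fix A) → ℂ)) := by
      intro f f'
      rw [← hd, ← hd, Finset.sum_mul_sum, Fintype.sum_prod_type]
      exact Finset.sum_congr rfl fun x _ => Finset.sum_congr rfl fun y _ => by ring
    simp only [sub_mul, Finset.sum_sub_distrib, Finset.mul_sum, Finset.sum_mul]
    rw [Finset.sum_comm]
    have h1 : ∑ z : (fix A) × (fix A), (Nat.card (fix A) : ℂ) * ((χ : G → ℂ) z.1 * (χ : G → ℂ) z.2 / (χ : G → ℂ) 1) *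
        (conj ((β₀ : (fix A) → ℂ) z.1) * conj ((β₁ : (fix A) → ℂ) z.2)) =
        (Nat.card (fix A) : ℂ) / (χ : G → ℂ) 1 * ((Nat.card (fix A) : ℂ) * m β₀ * ((Nat.card (fix A) : ℂ) * m β₁)) := by
      simp only [hm, ← mult_spec (fix A) (irr_isChar χ) (IsIrr.isCharacter β₀.2),
        ← mult_spec (fix A) (irr_isChar χ) (IsIrr.isCharacter β₁.2)]
      rw [← hprod (fun c : (fix A) => (χ : G → ℂ) c) (fun c : (fix A) => (χ : G → ℂ) c), Finset.mul_sum]
      exact Finset.sum_congr rfl fun z _ => by ring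
    have h2 : ∀ β : IrrCharacter (fix A), ∑ z : (fix A) × (fix A), (Nat.card (fix A) : ℂ) *
        (m β * ((β : (fix A) → ℂ) z.1 * (β : (fix A) → ℂ) z.2 / (β : (fix A) → ℂ) 1)) *
        (conj ((β₀ : (fix A) → ℂ) z.1) * conj ((β₁ : (fix A) → ℂ) z.2)) =
        (Nat.card (fix A) : ℂ) * m β / (β : (fix A) → ℂ) 1 *
          ((Nat.card (fix A) : ℂ) * classInner (β : (fix A) → ℂ) (β₀ : (fix A) → ℂ) *
            ((Nat.card (fix A) : ℂ) * classInner (β : (fix A) → ℂ) (β₁ : (fix A) → ℂ))) := fun β => by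
      rw [← hprod (β : (fix A) → ℂ) (β : (fix A) → ℂ), Finset.mul_sum]
      exact Finset.sum_congr rfl fun z _ => by ring
    rw [h1, Finset.sum_congr rfl fun β _ => h2 β, Finset.sum_eq_single β₀ (fun β _ hne => by
      rw [classInner_irr_ne β.2 β₀.2 (Subtype.coe_ne_coe.mpr hne)]; ring) (by simp),
      classInner_self_irr β₀.2]
    ring
  rw [eval] at hsum
  have hr1 : MemLocalRing M (m β₀ * m β₁ / (χ : G → ℂ) 1) := by
    rw [div_eq_mul_inv]
    exact ring_mul hM (ring_mul hM (ring_natCast hM _) (ring_natCast hM _)) hinvχ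
  have hr2 : MemLocalRing M (m β₀ * classInner (β₀ : (fix A) → ℂ) (β₁ : (fix A) → ℂ) / (β₀ : (fix A) → ℂ) 1) := by
    obtain ⟨n, hn⟩ := IsChar.classInner_nat (irr_isChar β₀) (irr_isChar β₁)
    rw [div_eq_mul_inv, hn]
    exact ring_mul hM (ring_mul hM (ring_natCast hM _) (ring_natCast hM _)) (hinvβ β₀)
  refine ideal_sub_comm ((ideal_or_of_mul hM (ring_pow hM (ring_natCast hM _) 3)
    (ring_sub hM hr1 hr2) hsum).resolve_left fun h3 => ?_)
  exact card_dvd_ne hcop hp (Subgroup.card_subgroup_dvd_card _)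
    ((ideal_natCast_iff hM _).mp (ideal_of_pow hM (ring_natCast hM _) 3 h3))

/-- The correspondence relation. -/
def Corr (p : ℕ) (χ : IrrCharacter G) (β : IrrCharacter (fix A)) : Prop :=
  ¬ p ∣ mult (fix A) (χ : G → ℂ) (β : fix A → ℂ)

theorem corr_unique (hM : IsPModular p M) (hA : IsPGroup p A)
    (hcop : Nat.Coprime (Nat.card G) p) {χ : IrrCharacter G} (hχ : Inv A (χ : G → ℂ))
    {β β' : IrrCharacter (fix A)} (h : Corr p χ β) (h' : Corr p χ β') : β = β' := by
  by_contra hne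
  have hp := pmod_prime hM
  have hk := mult_product hM hA hcop χ hχ β β'
  rw [classInner_irr_ne β.2 β'.2 (Subtype.coe_ne_coe.mpr hne), mul_zero, zero_div, zero_sub] at hk
  obtain ⟨n, -, hn⟩ := IsIrr.one_eq_pos χ.2
  have := ideal_mul_right hM (ideal_neg hk) (irr_ring hM χ 1)
  rw [neg_neg, div_mul_cancel₀ _ (irr_one_ne_zero χ), ← Nat.cast_mul, ideal_natCast_iff hM] at this
  exact (hp.dvd_mul.mp this).elim h h'

theorem exists_corr (hM : IsPModular p M) (hA : IsPGroup p A)
    (hcop : Nat.Coprime (Nat.card G) p) {χ : IrrCharacter G} (hχ : Inv A (χ : G → ℂ)) :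
    ∃ β : IrrCharacter (fix A), Corr p χ β := by
  by_contra hc
  push Not at hc
  have h := sum_mult_mul hM hA hcop χ χ hχ hχ
  rw [classInner_self_irr χ.2] at h
  refine ideal_one hM ((ideal_congr hM (ideal_sub_comm h)).mpr ?_)
  exact ideal_sum hM fun β _ => ideal_mul_right hM
    ((ideal_natCast_iff hM _).mpr (not_not.mp (hc β))) (ring_natCast hM _)

theorem corr_sq (hM : IsPModular p M) (hA : IsPGroup p A)
    (hcop : Nat.Coprime (Nat.card G) p) {χ : IrrCharacter G} (hχ : Inv A (χ : G → ℂ))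
    {β : IrrCharacter (fix A)} (h : Corr p χ β) :
    MemLocalIdeal M ((mult (fix A) (χ : G → ℂ) (β : fix A → ℂ) : ℂ) ^ 2 - 1) := by
  classical
  have h1 := sum_mult_mul hM hA hcop χ χ hχ hχ
  rw [classInner_self_irr χ.2, ← Finset.add_sum_erase _ _ (Finset.mem_univ β)] at h1
  have h2 : MemLocalIdeal M (∑ x ∈ Finset.univ.erase β,
      (mult (fix A) (χ : G → ℂ) (x : fix A → ℂ) : ℂ) * (mult (fix A) (χ : G → ℂ) (x : fix A → ℂ) : ℂ)) := by
    refine ideal_sum hM fun x hx => ideal_mul_right hM ((ideal_natCast_iff hM _).mpr ?_) (ring_natCast hM _)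
    by_contra hc
    exact (Finset.mem_erase.mp hx).1 (corr_unique hM hA hcop hχ hc h)
  have := ideal_sub hM h1 h2
  convert this using 1
  ring

theorem corr_sign (hM : IsPModular p M) (hA : IsPGroup p A)
    (hcop : Nat.Coprime (Nat.card G) p) {χ : IrrCharacter G} (hχ : Inv A (χ : G → ℂ))
    {β : IrrCharacter (fix A)} (h : Corr p χ β) :
    ((mult (fix A) (χ : G → ℂ) (β : fix A → ℂ) : ℕ) : ℤ) ≡ 1 [ZMOD p] ∨
      ((mult (fix A) (χ : G → ℂ) (β : fix A → ℂ) : ℕ) : ℤ) ≡ -1 [ZMOD p] := by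
  set m : ℤ := ((mult (fix A) (χ : G → ℂ) (β : fix A → ℂ) : ℕ) : ℤ) with hm
  have h1 : (p : ℤ) ∣ (m - 1) * (m + 1) := by
    rw [← ideal_intCast_iff hM, hm]
    push_cast
    convert corr_sq hM hA hcop hχ h using 1
    ring
  rcases (Nat.prime_iff_prime_int.mp (pmod_prime hM)).dvd_mul.mp h1 with h2 | h2
  · exact Or.inl (Int.modEq_iff_dvd.mpr (by simpa using (dvd_neg.mpr h2)))
  · exact Or.inr (Int.modEq_iff_dvd.mpr (by
      have h3 := dvd_neg.mpr h2
      rwa [neg_add, add_comm, ← sub_eq_add_neg] at h3))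

theorem corr_inj (hM : IsPModular p M) (hA : IsPGroup p A)
    (hcop : Nat.Coprime (Nat.card G) p) {χ χ' : IrrCharacter G} (hχ : Inv A (χ : G → ℂ))
    (hχ' : Inv A (χ' : G → ℂ)) {β : IrrCharacter (fix A)} (h : Corr p χ β) (h' : Corr p χ' β) :
    χ = χ' := by
  classical
  by_contra hne
  have h1 := sum_mult_mul hM hA hcop χ χ' hχ hχ'
  rw [classInner_irr_ne χ.2 χ'.2 (Subtype.coe_ne_coe.mpr hne), sub_zero,
    ← Finset.add_sum_erase _ _ (Finset.mem_univ β)] at h1
  have h2 : MemLocalIdeal M (∑ x ∈ Finset.univ.erase β,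
      (mult (fix A) (χ : G → ℂ) (x : fix A → ℂ) : ℂ) * (mult (fix A) (χ' : G → ℂ) (x : fix A → ℂ) : ℂ)) := by
    refine ideal_sum hM fun x hx => ideal_mul_right hM ((ideal_natCast_iff hM _).mpr ?_) (ring_natCast hM _)
    by_contra hc
    exact (Finset.mem_erase.mp hx).1 (corr_unique hM hA hcop hχ hc h)
  have := ideal_sub hM h1 h2
  rw [add_sub_cancel_right, ← Nat.cast_mul, ideal_natCast_iff hM] at this
  exact ((pmod_prime hM).dvd_mul.mp this).elim h h'

omit [Fintype (fix A)] in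
theorem irr_comp_aut (χ : IrrCharacter G) (a : MulAut G) :
    IsIrrCharacter G (fun g => (χ : G → ℂ) (a g)) :=
  IsIrr.comp_surjective a.toMonoidHom a.surjective χ.2

/-- Transport of irreducible characters along automorphisms. -/
def autIrr (a : MulAut G) (χ : IrrCharacter G) : IrrCharacter G :=
  ⟨fun g => (χ : G → ℂ) (a g), irr_comp_aut χ a⟩

@[reducible] def irrAction : MulAction A (IrrCharacter G) where
  smul a χ := autIrr (a : MulAut G)⁻¹ χ
  one_smul χ := Subtype.ext (funext fun g => by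
    show (χ : G → ℂ) ((((1 : A) : MulAut G))⁻¹ g) = _
    simp)
  mul_smul a b χ := Subtype.ext (funext fun g => by
    show (χ : G → ℂ) ((((a * b : A) : MulAut G))⁻¹ g) = (χ : G → ℂ) ((b : MulAut G)⁻¹ ((a : MulAut G)⁻¹ g))
    rw [Subgroup.coe_mul, mul_inv_rev]
    rfl)

theorem surj_corr (hM : IsPModular p M) (hA : IsPGroup p A)
    (hcop : Nat.Coprime (Nat.card G) p) (β : IrrCharacter (fix A)) :
    ∃ χ : IrrCharacter G, Inv A (χ : G → ℂ) ∧ Corr p χ β := by
  classical
  by_contra hc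
  push Not at hc
  letI := irrAction (A := A)
  haveI : Finite (MulAut G) := Finite.of_injective (fun a : MulAut G => (a : G → G)) DFunLike.coe_injective
  let m : IrrCharacter G → ℂ := fun χ => (mult (fix A) (χ : G → ℂ) (β : (fix A) → ℂ) : ℂ)
  have hminv : ∀ (a : A) (χ : IrrCharacter G), m (a • χ) = m χ := by
    intro a χ
    simp only [m, ← mult_spec (fix A) (irr_isChar _) (IsIrr.isCharacter β.2)]
    congr 1
    funext c
    show (χ : G → ℂ) ((a : MulAut G)⁻¹ c) = _
    rw [c.2 _ (A.inv_mem a.2)]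
  have h1 := ideal_sum_sub_fixed (α := IrrCharacter G) (P := A) hM hA
    (F := fun χ => m χ * m χ) (fun χ => ring_mul hM (ring_natCast hM _) (ring_natCast hM _))
    (fun a χ => by simp only [hminv])
  have h2 : MemLocalIdeal M (∑ᶠ χ ∈ MulAction.fixedPoints A (IrrCharacter G), m χ * m χ) := by
    rw [finsum_mem_eq_sum_of_inter_support_eq _
      (t := Finset.univ.filter (· ∈ MulAction.fixedPoints A (IrrCharacter G))) (by ext; simp)]
    refine ideal_sum hM fun χ hχ => ideal_mul_right hM ?_ (ring_natCast hM _)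
    simp only [Finset.mem_filter, Finset.mem_univ, true_and, MulAction.mem_fixedPoints] at hχ
    refine (ideal_natCast_iff hM _).mpr (not_not.mp (hc χ fun a ha g => ?_))
    have := congrFun (congrArg Subtype.val (hχ ⟨a⁻¹, A.inv_mem ha⟩)) g
    change (χ : G → ℂ) ((a⁻¹)⁻¹ g) = _ at this
    simpa using this
  have hm2 : ∑ χ : IrrCharacter G, m χ * m χ =
      classInner (fun c : (fix A) => indFun (fix A) (β : (fix A) → ℂ) c) (β : (fix A) → ℂ) := by
    have hI : indFun (fix A) (β : (fix A) → ℂ) = ∑ χ : IrrCharacter G, m χ • (χ : G → ℂ) := by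
      conv_lhs => rw [classFunction_expansion (indFun_classFun (fix A) (β : (fix A) → ℂ))]
      refine Finset.sum_congr rfl fun χ _ => ?_
      congr 1
      rw [classInner_indFun (fix A) _ (irr_classFun χ), ← classInner_conj_symm,
        mult_spec (fix A) (irr_isChar χ) (IsIrr.isCharacter β.2), map_natCast]
    rw [← classInner_indFun_right (fix A) _ (indFun_classFun (fix A) (β : (fix A) → ℂ)), hI, classInner_sum_sum]
    simp [m]
  have h3 : MemLocalIdeal M (classInner (fun c : (fix A) => indFun (fix A) (β : (fix A) → ℂ) c) (β : (fix A) → ℂ)) := by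
    rw [← hm2]
    exact (ideal_congr hM h1).mpr h2
  have hval : (Nat.card (fix A) : ℂ) ^ 2 * classInner (fun c : (fix A) => indFun (fix A) (β : (fix A) → ℂ) c) (β : (fix A) → ℂ) =
      ∑ x : G, ∑ c : (fix A), extendByZero (fix A) (β : (fix A) → ℂ) (x⁻¹ * (c : G) * x) * conj ((β : (fix A) → ℂ) c) := by
    simp only [classInner, indFun, Finset.mul_sum, Finset.sum_mul]
    rw [Finset.sum_comm]
    refine Finset.sum_congr rfl fun x _ => Finset.sum_congr rfl fun c _ => ?_
    field_simp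
  have hext : ∀ a ∈ A, ∀ y, extendByZero (fix A) (β : (fix A) → ℂ) (a y) = extendByZero (fix A) (β : (fix A) → ℂ) y := by
    intro a ha y
    by_cases hy : y ∈ (fix A)
    · rw [hy a ha]
    · have : a y ∉ (fix A) := fun h => hy (by
        have h' := h a ha
        rwa [a.injective h'] at h)
      rw [extendByZero_not_mem _ hy, extendByZero_not_mem _ this]
  have hextr : ∀ y, MemLocalRing M (extendByZero (fix A) (β : (fix A) → ℂ) y) := fun y => by
    by_cases hy : y ∈ (fix A)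
    · rw [extendByZero_of_mem _ hy]; exact irr_ring hM β _
    · rw [extendByZero_not_mem _ hy]; exact ring_zero hM
  have h4 := sum_congr_fix hM hA
    (F := fun x => ∑ c : (fix A), extendByZero (fix A) (β : (fix A) → ℂ) (x⁻¹ * (c : G) * x) * conj ((β : (fix A) → ℂ) c))
    (fun x => ring_sum hM fun c _ => ring_mul hM (hextr _) (by rw [← irr_apply_inv]; exact irr_ring hM β _))
    (fun a ha x => Finset.sum_congr rfl fun c _ => by
      rw [show (a x)⁻¹ * (c : G) * a x = a (x⁻¹ * (c : G) * x) by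
        rw [map_mul, map_mul, map_inv, c.2 a ha], hext a ha])
  have e5 : ∀ x : (fix A), ∑ c : (fix A), extendByZero (fix A) (β : (fix A) → ℂ) ((x : G)⁻¹ * (c : G) * x) * conj ((β : (fix A) → ℂ) c) =
      (Nat.card (fix A) : ℂ) := by
    intro x
    have e : ∀ c : (fix A), extendByZero (fix A) (β : (fix A) → ℂ) ((x : G)⁻¹ * (c : G) * x) = (β : (fix A) → ℂ) c := fun c => by
      rw [show (x : G)⁻¹ * (c : G) * x = ((x⁻¹ * c * x : (fix A)) : G) by simp, extendByZero_apply]
      simpa using irr_classFun β c x⁻¹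
    simp only [e]
    have := classInner_self_irr β.2
    rw [classInner, inv_mul_eq_iff_eq_mul₀ (Nat.cast_ne_zero.mpr Nat.card_pos.ne'), mul_one] at this
    exact this
  rw [← hval, Finset.sum_congr rfl fun x _ => e5 x, Finset.sum_const, Finset.card_univ,
    nsmul_eq_mul, ← Nat.card_eq_fintype_card] at h4
  have h5 : MemLocalIdeal M ((Nat.card (fix A) : ℂ) * (Nat.card (fix A) : ℂ)) :=
    (ideal_congr hM h4).mp (ideal_mul_left hM (ring_pow hM (ring_natCast hM _) 2) h3)
  rw [← Nat.cast_mul, ideal_natCast_iff hM] at h5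
  have := card_dvd_ne hcop (pmod_prime hM) (Subgroup.card_subgroup_dvd_card (fix A))
  exact this (((pmod_prime hM).dvd_mul.mp h5).elim id id)

end Fixed

end Cfsg.Agent.Char.Glaub
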