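import Cfsg.Agent.Lib.Block.Height
import Cfsg.Agent.Lib.Char.Glauberman
import Cfsg.Agent.Lib.Char.Kernel
import Cfsg.Agent.Lib.Char.Galois
import Cfsg.Agent.Lib.Char.Induce
import Cfsg.Agent.Lib.Char.ModP

/-!
Sums of characters over p-regular elements: integrality away from p, and the Brauer–Feit bound.
-/

namespace Cfsg.Agent.Char.Contrib

open scoped ComplexConjugate
open Cfsg Cfsg.Agent.Block

universe u

variable {G : Type u} [Group G] [Fintype G]

theorem indFun_one_apply (Q : Subgroup G) (v : G) :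
    indFun Q (fun _ => (1 : ℂ)) v = (Nat.card {t : G ⧸ Q // v • t = t} : ℂ) := by
  classical
  have hset : ∀ x : G, x⁻¹ * v * x ∈ Q ↔ v • (x : G ⧸ Q) = (x : G ⧸ Q) := by
    intro x
    rw [show v • (x : G ⧸ Q) = ((v * x : G) : G ⧸ Q) from rfl, eq_comm, QuotientGroup.eq, mul_assoc]
  have hcount : Nat.card {x : G // x⁻¹ * v * x ∈ Q} =
      Nat.card Q * Nat.card {t : G ⧸ Q // v • t = t} := by
    rw [← Nat.card_prod]
    exact Nat.card_congr ((Equiv.subtypeEquivRight hset).trans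
      (QuotientGroup.preimageMkEquivSubgroupProdSet Q {t | v • t = t}))
  rw [indFun, inv_mul_eq_iff_eq_mul₀ (Nat.cast_ne_zero.mpr Nat.card_pos.ne'), ← Nat.cast_mul,
    ← hcount]
  have e1 : ∀ x : G, extendByZero Q (fun _ => (1 : ℂ)) (x⁻¹ * v * x) =
      if x⁻¹ * v * x ∈ Q then (1 : ℂ) else 0 := fun x => by
    split_ifs with h
    · exact extendByZero_of_mem _ h
    · exact extendByZero_not_mem _ h
  rw [Finset.sum_congr rfl fun x _ => e1 x, Finset.sum_boole, Nat.card_eq_fintype_card,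
    Fintype.card_subtype]

/-- Frobenius: the sum of a character over the q-elements. -/
theorem ring_sum_qElements {q : ℕ} [hq : Fact q.Prime] {N : Ideal AlgInt} (hN : IsPModular q N)
    [DecidableEq G] (e : ℕ) (he : (Nat.card G).factorization q ≤ e) {φ : G → ℂ}
    (hφ : IsCharacter G φ) :
    MemLocalRing N ((∑ v ∈ Finset.univ.filter (fun v : G => v ^ q ^ e = 1), φ v) /
      (Nat.card G : ℂ)) := by
  classical
  obtain ⟨Q⟩ : Nonempty (Sylow q G) := inferInstance
  set a := (Nat.card G).factorization q with ha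
  set n : G → ℕ := fun v => Nat.card {t : G ⧸ (Q : Subgroup G) // v • t = t} with hn
  set k := (q ^ a).totient with hk
  have hk0 : k ≠ 0 := (Nat.totient_pos.mpr (pow_pos hq.out.pos _)).ne'
  have hcard : Nat.card (Q : Subgroup G) = q ^ a := Q.card_eq_multiplicity
  have hsupp : ∀ v : G, n v ≠ 0 → v ^ q ^ e = 1 := by
    intro v hv
    obtain ⟨⟨t, ht⟩⟩ := (Nat.card_ne_zero.mp hv).1
    induction t using QuotientGroup.induction_on with
    | _ x =>
      rw [show v • (x : G ⧸ (Q : Subgroup G)) = ((v * x : G) : G ⧸ (Q : Subgroup G)) from rfl,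
        eq_comm, QuotientGroup.eq] at ht
      have h1 : (x⁻¹ * v * x) ^ q ^ e = 1 := by
        refine orderOf_dvd_iff_pow_eq_one.mp ((orderOf_dvd_iff_pow_eq_one.mpr ?_).trans
          (pow_dvd_pow q he))
        have h2 := congrArg Subtype.val
          (pow_card_eq_one' (G := (Q : Subgroup G)) (x := ⟨x⁻¹ * v * x, by rwa [mul_assoc]⟩))
        rw [hcard] at h2
        exact h2
      have e' : (x⁻¹ * v * x) ^ q ^ e = x⁻¹ * v ^ q ^ e * x := by
        simpa using conj_pow (a := x⁻¹) (b := v) (i := q ^ e)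
      rw [e'] at h1
      calc v ^ q ^ e = x * (x⁻¹ * v ^ q ^ e * x) * x⁻¹ := by group
        _ = 1 := by rw [h1]; group
  have hunit : ∀ v : G, v ^ q ^ e = 1 → Nat.Coprime (n v) (q ^ a) := by
    intro v hv
    have hP : IsPGroup q (Subgroup.zpowers v) := by
      obtain ⟨j, -, hj⟩ := (Nat.dvd_prime_pow hq.out).mp (orderOf_dvd_of_pow_eq_one hv)
      exact IsPGroup.of_card (n := j) (by rw [Nat.card_zpowers, hj])
    have hmod := hP.card_modEq_card_fixedPoints (G ⧸ (Q : Subgroup G))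
    have hfix : Nat.card (MulAction.fixedPoints (Subgroup.zpowers v) (G ⧸ (Q : Subgroup G))) = n v := by
      refine Nat.card_congr (Equiv.subtypeEquivRight fun t => ?_)
      constructor
      · intro h
        exact h ⟨v, Subgroup.mem_zpowers v⟩
      · intro h w
        exact Subgroup.zpowers_le.mpr (MulAction.mem_stabilizer_iff.mpr h) w.2
    rw [hfix, ← Subgroup.index_eq_card] at hmod
    refine Nat.Coprime.pow_right _ (Nat.Coprime.symm ?_)
    rw [hq.out.coprime_iff_not_dvd]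
    intro hd
    exact Q.not_dvd_index ((Nat.ModEq.dvd_iff hmod dvd_rfl).mpr hd)
  have hdiv : ∀ v : G, v ^ q ^ e = 1 → ∃ r : ℤ, ((n v : ℤ)) ^ k - 1 = (q : ℤ) ^ a * r := by
    intro v hv
    obtain ⟨r, hr⟩ := (Nat.modEq_iff_dvd.mp (Nat.ModEq.pow_totient (hunit v hv)).symm)
    exact ⟨r, by push_cast at hr; exact hr⟩
  choose r hr using hdiv
  have hπ : IsCharacter G (indFun (Q : Subgroup G) (fun _ => (1 : ℂ))) :=
    isCharacter_indFun _ (IsIrr.isCharacter (isIrr_one (G := (Q : Subgroup G))))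
  have hpow : ∀ j : ℕ, IsCharacter G (fun v => φ v * (n v : ℂ) ^ j) := by
    intro j
    induction j with
    | zero => simpa using hφ
    | succ j ih =>
      have h := IsChar.mul ih hπ
      simpa [pow_succ, mul_assoc, indFun_one_apply, hn, Pi.mul_def] using h
  obtain ⟨c, hc⟩ := IsChar.classInner_nat (hpow k) IsChar.one
  have hsum : ∑ v : G, φ v * (n v : ℂ) ^ k = (Nat.card G : ℂ) * c := by
    rw [← hc, classInner, ← mul_assoc, mul_inv_cancel₀ (Nat.cast_ne_zero.mpr Nat.card_pos.ne'),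
      one_mul]
    simp
  set E := Finset.univ.filter (fun v : G => v ^ q ^ e = 1) with hE
  have hsum' : ∑ v ∈ E, φ v * (n v : ℂ) ^ k = (Nat.card G : ℂ) * c := by
    rw [← hsum]
    refine Finset.sum_subset (Finset.subset_univ _) fun v _ hv => ?_
    have h0 : n v = 0 := by
      by_contra h
      exact hv (Finset.mem_filter.mpr ⟨Finset.mem_univ _, hsupp v h⟩)
    rw [h0, Nat.cast_zero, zero_pow hk0, mul_zero]
  have key : ∑ v ∈ E, φ v = (Nat.card G : ℂ) * c - ∑ v ∈ E, φ v * ((n v : ℂ) ^ k - 1) := by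
    rw [← hsum', ← Finset.sum_sub_distrib]
    exact Finset.sum_congr rfl fun v _ => by ring
  rw [key, sub_div, mul_div_cancel_left₀ _ (Nat.cast_ne_zero.mpr Nat.card_pos.ne'), Finset.sum_div]
  refine ring_sub hN (ring_natCast hN c) (ring_sum hN fun v hv => ?_)
  have e1 : ((n v : ℂ) ^ k - 1) = (q : ℂ) ^ a * (r v (Finset.mem_filter.mp hv).2 : ℂ) := by
    have := congrArg (fun z : ℤ => (z : ℂ)) (hr v (Finset.mem_filter.mp hv).2)
    push_cast at this
    exact this
  rw [e1, mul_div_assoc]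
  exact ring_mul hN (ring_of_integral hN (IsChar.isIntegral hφ v))
    (ring_pow_mul_div hN Nat.card_pos.ne' le_rfl (ring_intCast hN _))

/-- A regular sum of a character is divisible by the p'-part of the group order. -/
theorem ring_sum_regular_div [DecidableEq G] {p q : ℕ} [hp : Fact p.Prime] [hq : Fact q.Prime]
    (hpq : q ≠ p) {N : Ideal AlgInt} (hN : IsPModular q N) {f : G → ℂ} (hf : IsCharacter G f) :
    MemLocalRing N ((∑ x ∈ Finset.univ.filter (fun x : G => ¬ p ∣ orderOf x), f x) /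
      (Nat.card G : ℂ)) := by
  classical
  set e := (Nat.card G).factorization q with he
  set m := Nat.card G / q ^ e with hm
  have hG : Nat.card G = q ^ e * m := (Nat.ordProj_mul_ordCompl_eq_self (Nat.card G) q).symm
  have hco : Nat.Coprime (q ^ e) m := Nat.Coprime.pow_left _
    (hq.out.coprime_iff_not_dvd.mpr (Nat.not_dvd_ordCompl hq.out Nat.card_pos.ne'))
  obtain ⟨c, hc0, hc1⟩ := Nat.chineseRemainder hco 0 1
  rw [Nat.modEq_zero_iff_dvd] at hc0
  set R := Finset.univ.filter (fun x : G => ¬ p ∣ orderOf x) with hR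
  set F : G → ℂ := fun s => ∑ x ∈ R.filter (fun x => x ^ c = s), f x with hF
  have hFc : IsClassFunction G F := by
    intro s t
    refine (Finset.sum_equiv (MulAut.conj t).toEquiv (fun x => ?_) fun x _ => ?_).symm
    · simp only [R, Finset.mem_filter, Finset.mem_univ, true_and, MulEquiv.toEquiv_eq_coe,
        MulEquiv.coe_toEquiv, MulEquiv.orderOf_eq, ← map_pow]
      rw [show t * s * t⁻¹ = MulAut.conj t s from rfl, (MulAut.conj t).injective.eq_iff]
    · exact (IsChar.classFun hf x t).symm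
  have hsplit : ∑ x ∈ R, f x = ∑ s : G, F s := (Finset.sum_fiberwise R (fun x => x ^ c) f).symm
  cases nonempty_fintype (ConjClasses G)
  rw [hsplit, sum_classFun_conjClasses hFc, Finset.sum_div]
  refine ring_sum hN fun C _ => ?_
  set s : G := Quotient.out C with hs
  set H := Subgroup.centralizer ({s} : Set G) with hH
  have e1 : (H.index : ℂ) * F s / (Nat.card G : ℂ) = F s / (Nat.card H : ℂ) := by
    rw [show (Nat.card G : ℂ) = (H.index : ℂ) * (Nat.card H : ℂ) by
      exact_mod_cast (Subgroup.index_mul_card H).symm]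
    exact mul_div_mul_left _ _ (Nat.cast_ne_zero.mpr Subgroup.index_ne_zero_of_finite)
  rw [e1]
  rcases (R.filter (fun x => x ^ c = s)).eq_empty_or_nonempty with hemp | ⟨x₀, hx₀⟩
  · simp only [hF, hemp, Finset.sum_empty, zero_div]
    exact ring_zero hN
  obtain ⟨hx₀R, hx₀s⟩ := Finset.mem_filter.mp hx₀
  simp only [R, Finset.mem_filter, Finset.mem_univ, true_and] at hx₀R
  have hsreg : ¬ p ∣ orderOf s := fun h => hx₀R (h.trans (hx₀s ▸ orderOf_pow_dvd c))
  have hsm : s ^ m = 1 := by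
    rw [← hx₀s, ← pow_mul, ← orderOf_dvd_iff_pow_eq_one]
    exact (orderOf_dvd_natCard x₀).trans (hG ▸ Nat.mul_dvd_mul_right hc0 m)
  have hsc : s ^ c = s := by
    conv_rhs => rw [← pow_one s]
    exact pow_eq_pow_iff_modEq.mpr (hc1.of_dvd (orderOf_dvd_of_pow_eq_one hsm))
  have hxq : ∀ x : G, x ^ (c * q ^ e) = x ^ q ^ e := fun x => by
    refine pow_eq_pow_iff_modEq.mpr ((Nat.ModEq.of_dvd ?_ (hc1.mul_right' (q ^ e))).trans
      (by rw [one_mul]))
    rw [mul_comm, ← hG]
    exact orderOf_dvd_natCard x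
  have hfib : F s = ∑ v ∈ Finset.univ.filter (fun v : H => v ^ q ^ e = 1), f (s * v) := by
    symm
    refine Finset.sum_bij (fun v _ => s * (v : G)) (fun v hv => ?_) (fun v _ w _ h => ?_)
      (fun x hx => ?_) (fun v _ => rfl)
    · simp only [Finset.mem_filter, Finset.mem_univ, true_and, R] at hv ⊢
      have hcm : Commute s (v : G) := (Subgroup.mem_centralizer_singleton_iff.mp v.2).symm
      have hv' : (v : G) ^ q ^ e = 1 := by
        rw [← Subgroup.coe_pow, hv, Subgroup.coe_one]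
      refine ⟨fun h => ?_, ?_⟩
      · rcases hp.out.dvd_mul.mp ((h.trans (hcm.orderOf_mul_dvd_lcm)).trans (Nat.lcm_dvd_mul _ _))
          with h' | h'
        · exact hsreg h'
        · exact hpq ((Nat.prime_dvd_prime_iff_eq hp.out hq.out).mp
            (hp.out.dvd_of_dvd_pow (h'.trans (orderOf_dvd_of_pow_eq_one hv')))).symm
      · obtain ⟨d, hd⟩ := hc0
        rw [hcm.mul_pow, hsc, hd, pow_mul, hv', one_pow, mul_one]
    · exact Subtype.ext (mul_left_cancel h)
    · simp only [Finset.mem_filter, Finset.mem_univ, true_and, R] at hx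
      have hcx : Commute x s := hx.2 ▸ (Commute.refl x).pow_right c
      refine ⟨⟨s⁻¹ * x, Subgroup.mem_centralizer_singleton_iff.mpr
        ((Commute.refl s).inv_left.mul_left hcx).eq⟩, ?_, by simp⟩
      simp only [Finset.mem_filter, Finset.mem_univ, true_and]
      apply Subtype.ext
      show (s⁻¹ * x) ^ q ^ e = 1
      rw [hcx.symm.inv_left.mul_pow, inv_pow, inv_mul_eq_one, ← hxq x, pow_mul, hx.2]
  have hle : (Nat.card H).factorization q ≤ e :=
    (Nat.factorization_le_iff_dvd Nat.card_pos.ne' Nat.card_pos.ne').2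
      (Subgroup.card_subgroup_dvd_card H) q
  have hz : (⟨s, Subgroup.mem_centralizer_singleton_iff.mpr rfl⟩ : H) ∈ Subgroup.center H :=
    Subgroup.mem_center_iff.mpr fun v => Subtype.ext (Subgroup.mem_centralizer_singleton_iff.mp v.2)
  set z : H := ⟨s, Subgroup.mem_centralizer_singleton_iff.mpr rfl⟩ with hzdef
  have hexp : ∀ v : H, f (s * v) =
      ∑ φ : IrrCharacter H, ((Glaub.mult H f (φ : H → ℂ) : ℂ) * centralChar (φ : H → ℂ) z) *
        (φ : H → ℂ) v := by
    intro v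
    rw [show s * (v : G) = ((z * v : H) : G) from rfl, Glaub.res_expansion H hf (z * v)]
    refine Finset.sum_congr rfl fun φ _ => ?_
    obtain ⟨w, -, hw⟩ := IsIrr.scalar_of_center φ.2 hz
    have h1 : centralChar (φ : H → ℂ) z = w := by
      have htop : Subgroup.centralizer ({z} : Set H) = ⊤ := eq_top_iff.mpr fun y _ => by
        rw [Subgroup.mem_centralizer_singleton_iff]
        exact Subgroup.mem_center_iff.mp hz y
      have h2 := hw 1
      rw [mul_one] at h2
      rw [centralChar, htop, Subgroup.index_top, Nat.cast_one, one_mul, h2,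
        mul_div_cancel_right₀ _ (irr_one_ne_zero φ)]
    rw [h1, hw v]
    ring
  rw [hfib, Finset.sum_congr rfl fun v _ => hexp v, Finset.sum_comm, Finset.sum_div]
  refine ring_sum hN fun φ _ => ?_
  rw [← Finset.mul_sum, mul_div_assoc]
  exact ring_mul hN (ring_mul hN (ring_natCast hN _) (centralChar_ring hN φ z))
    (ring_sum_qElements hN e hle (irr_isChar φ))

theorem exists_rat_sum_regular (p : ℕ) {f : G → ℂ} (hf : IsCharacter G f) :
    ∃ r : ℚ, ∑ x ∈ Finset.univ.filter (fun x : G => ¬ p ∣ orderOf x), f x = r := by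
  classical
  obtain ⟨d, ρ, rfl⟩ := hf
  choose b c _ hc hk using fun x : G => exists_rep_eigenbasis ρ x
  set R := Finset.univ.filter (fun x : G => ¬ p ∣ orderOf x) with hR
  have h1 : ∀ j : ℕ, ∑ i ∈ R.sigma (fun x => (Finset.univ : Finset (Fin _))), c i.1 i.2 ^ j =
      ∑ x ∈ R, ρ.character (x ^ j) := fun j => by
    rw [Finset.sum_sigma]
    exact Finset.sum_congr rfl fun x _ => (hk x j).symm
  obtain ⟨r, hr⟩ := exists_rat_of_fixed (Nat.card_pos (α := G))
    (R.sigma (fun x => (Finset.univ : Finset (Fin (Module.finrank ℂ (Fin d → ℂ))))))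
    (fun i => c i.1 i.2)
    (fun i _ => by
      obtain ⟨k, hk'⟩ := orderOf_dvd_natCard i.1
      rw [hk', pow_mul, hc, one_pow])
    (fun j hj => by
      rw [h1 j, show ∑ i ∈ R.sigma (fun x => (Finset.univ : Finset (Fin _))), c i.1 i.2 =
        ∑ x ∈ R, ρ.character (x ^ 1) by rw [← h1 1]; simp]
      refine Finset.sum_equiv (powCoprime hj.symm) (fun x => ?_) (fun x _ => by simp [powCoprime])
      simp only [R, Finset.mem_filter, Finset.mem_univ, true_and, powCoprime, Equiv.coe_fn_mk]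
      rw [(hj.coprime_dvd_right (orderOf_dvd_natCard x)).symm.orderOf_pow])
  refine ⟨r, ?_⟩
  rw [← hr]
  have := h1 1
  simp only [pow_one] at this
  exact this.symm

theorem exists_int_of_local {t : ℂ} {r : ℚ} (ht : t = r)
    (h : ∀ q : ℕ, q.Prime → ∃ N, IsPModular q N ∧ MemLocalRing N t) : ∃ z : ℤ, t = z := by
  refine ⟨r.num, ?_⟩
  suffices hd : r.den = 1 by rw [ht, Rat.cast_def, hd, Nat.cast_one, div_one]
  by_contra hd
  obtain ⟨q, hq, hqd⟩ := Nat.exists_prime_and_dvd hd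
  obtain ⟨N, hN, hr⟩ := h q hq
  have e : ((r.num : ℤ) : ℂ) = t * (r.den : ℂ) := by
    rw [ht, Rat.cast_def, div_mul_cancel₀ _ (Nat.cast_ne_zero.mpr r.den_ne_zero)]
  have h1 := ideal_mul_left hN hr ((ideal_natCast_iff hN _).mpr hqd)
  rw [← e, ideal_intCast_iff hN] at h1
  exact hq.ne_one (Nat.eq_one_of_dvd_coprimes r.reduced (Int.natCast_dvd.mp h1) hqd)

variable {p : ℕ} [Fact p.Prime] {M : Ideal AlgInt}

theorem regSum_real (χ ξ : IrrCharacter G) :
    conj (regSum p (ξ : G → ℂ) (χ : G → ℂ)) = regSum p (ξ : G → ℂ) (χ : G → ℂ) := by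
  classical
  rw [regSum_eq_sum]
  obtain ⟨r, hr⟩ := exists_rat_sum_regular p
    (IsChar.mul (irr_isChar ξ) (IsChar.conj (irr_isChar χ)))
  simp only [Pi.mul_apply] at hr
  rw [hr, map_ratCast]

theorem regSum_swap (χ ξ : IrrCharacter G) :
    regSum p (χ : G → ℂ) (ξ : G → ℂ) = regSum p (ξ : G → ℂ) (χ : G → ℂ) := by
  conv_rhs => rw [← regSum_real χ ξ]
  rw [regSum_eq_sum, regSum_eq_sum, map_sum]
  exact Finset.sum_congr rfl fun x _ => by rw [map_mul, Complex.conj_conj, mul_comm]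

theorem exists_int_regSum (hM : IsPModular p M) {B : Set (IrrCharacter G)} (hB : IsPBlock M B)
    {χ ξ : IrrCharacter G} (hχ : χ ∈ B) (hξ : ξ ∈ B) (h0 : blockHeight p B (χ : G → ℂ) = 0) :
    ∃ z : ℤ, z ≠ 0 ∧ regSum p (ξ : G → ℂ) (χ : G → ℂ) * ((p : ℂ) ^ blockDefect p B) =
      (Nat.card G : ℂ) * (p : ℂ) ^ blockHeight p B (ξ : G → ℂ) * z := by
  classical
  have hp : p.Prime := Fact.out
  set d := blockDefect p B with hd
  set h := blockHeight p B (ξ : G → ℂ) with hh
  set R := regSum p (ξ : G → ℂ) (χ : G → ℂ) with hR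
  have hpc : (p : ℂ) ≠ 0 := Nat.cast_ne_zero.mpr hp.ne_zero
  have hG : (Nat.card G : ℂ) ≠ 0 := Nat.cast_ne_zero.mpr Nat.card_pos.ne'
  set t : ℂ := R * (p : ℂ) ^ d / ((Nat.card G : ℂ) * (p : ℂ) ^ h) with ht
  have hf := IsChar.mul (irr_isChar ξ) (IsChar.conj (irr_isChar χ))
  obtain ⟨r, hr⟩ := exists_rat_sum_regular p hf
  have hRr : R = r := by
    rw [hR, regSum_eq_sum, ← hr]
    rfl
  have e : t = regPair p χ ξ * (((charDegree (ξ : G → ℂ) * p ^ d : ℕ) : ℂ) /
      ((Nat.card G * p ^ h : ℕ) : ℂ)) := by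
    rw [ht, regPair, hR, charDeg_spec' ξ]
    have hξ0 : ((charDegree (ξ : G → ℂ) : ℕ) : ℂ) ≠ 0 := Nat.cast_ne_zero.mpr (charDeg_pos ξ).ne'
    push_cast
    field_simp
  have hne1 : charDegree (ξ : G → ℂ) * p ^ d ≠ 0 :=
    Nat.mul_ne_zero (charDeg_pos ξ).ne' (pow_ne_zero _ hp.ne_zero)
  have hne2 : Nat.card G * p ^ h ≠ 0 := Nat.mul_ne_zero Nat.card_pos.ne' (pow_ne_zero _ hp.ne_zero)
  have hval : (Nat.card G * p ^ h).factorization p =
      (charDegree (ξ : G → ℂ) * p ^ d).factorization p := by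
    rw [Nat.factorization_mul Nat.card_pos.ne' (pow_ne_zero _ hp.ne_zero),
      Nat.factorization_mul (charDeg_pos ξ).ne' (pow_ne_zero _ hp.ne_zero)]
    simp only [Finsupp.add_apply, Nat.Prime.factorization_pow hp, Finsupp.single_eq_same]
    have h1 := le_defect_add hM hB hξ
    rw [hh, blockHeight_eq hM hB hξ]
    omega
  have hringp : MemLocalRing M t :=
    e ▸ ring_mul hM ((cenInt_regPair hM χ).ring hM ξ) (ring_natDiv hM hne2 hne1 hval.le)
  have hunit : ¬ MemLocalIdeal M t := e ▸ ideal_notMem_mul hM ((cenInt_regPair hM χ).ring hM ξ)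
    (ring_natDiv hM hne2 hne1 hval.le) (regPair_unit hM hB hχ hξ h0)
    (natDiv_notMem hM hne2 hne1 hval)
  obtain ⟨z, hz⟩ := exists_int_of_local (t := t)
    (r := r * (p : ℚ) ^ d / ((Nat.card G : ℚ) * (p : ℚ) ^ h)) (by rw [ht, hRr]; push_cast; ring)
    fun q hq => by
      by_cases hqp : q = p
      · exact hqp ▸ ⟨M, hM, hringp⟩
      obtain ⟨N, hN⟩ := exists_isPModular q hq
      haveI := Fact.mk hq
      refine ⟨N, hN, ?_⟩
      have h1 := ring_sum_regular_div (p := p) hqp hN hf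
      have h2 : MemLocalRing N (((p ^ h : ℕ) : ℂ))⁻¹ := ring_inv_natCast hN fun hd' =>
        hqp ((Nat.prime_dvd_prime_iff_eq hq hp).mp (hq.dvd_of_dvd_pow hd'))
      have h3 := ring_mul hN h1 (ring_mul hN (ring_natCast hN (p ^ d)) h2)
      rw [hr, ← hRr] at h3
      rw [ht]
      convert h3 using 1
      push_cast
      field_simp
  refine ⟨z, fun hz0 => hunit (by rw [hz, hz0, Int.cast_zero]; exact ideal_zero hM), ?_⟩
  rw [← hz, ht, mul_div_cancel₀]
  exact mul_ne_zero hG (pow_ne_zero _ hpc)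

/-- The Brauer–Feit inequality, with heights. -/
theorem brauer_feit (hM : IsPModular p M) {B : Set (IrrCharacter G)} (hB : IsPBlock M B) :
    ∃ χ ∈ B, blockHeight p B (χ : G → ℂ) = 0 ∧
      4 * ∑ᶠ η ∈ B \ {χ}, p ^ (2 * blockHeight p B (η : G → ℂ)) ≤ p ^ (2 * blockDefect p B) := by
  classical
  have hp : p.Prime := Fact.out
  obtain ⟨χ, hχ, h0⟩ := exists_height_zero hM hB
  refine ⟨χ, hχ, h0, ?_⟩
  set A := Finset.univ.filter (· ∈ B) with hA
  have hset : B \ {χ} = ((A.erase χ : Finset (IrrCharacter G)) : Set (IrrCharacter G)) := by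
    ext η
    simp [A, and_comm]
  rw [hset, finsum_mem_coe_finset]
  set d := blockDefect p B with hd
  choose z hz0 hz using fun η (hη : η ∈ B) => exists_int_regSum hM hB hχ hη h0
  let w : IrrCharacter G → ℤ := fun η =>
    if hη : η ∈ B then (p : ℤ) ^ blockHeight p B (η : G → ℂ) * z η hη else 0
  have hw : ∀ η ∈ B, regSum p (η : G → ℂ) (χ : G → ℂ) * (p : ℂ) ^ d =
      (Nat.card G : ℂ) * (w η : ℂ) := fun η hη => by
    simp only [w, dif_pos hη]
    push_cast
    rw [hz η hη, mul_assoc]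
  have hsq := sum_sq_regSum (p := p) A (fun x y hx hy => by
    rw [← finsum_mem_block B]
    exact weak_orth hM hB hx hy) (χ := χ) (by simp [A, hχ])
  have hG : (Nat.card G : ℂ) ≠ 0 := Nat.cast_ne_zero.mpr Nat.card_pos.ne'
  have key : ∑ η ∈ A, (w η) ^ 2 = (p : ℤ) ^ d * w χ := by
    have h1 : ∀ η ∈ A, regSum p (χ : G → ℂ) (η : G → ℂ) * conj (regSum p (χ : G → ℂ) (η : G → ℂ)) *
        ((p : ℂ) ^ d) ^ 2 = (Nat.card G : ℂ) ^ 2 * (w η : ℂ) ^ 2 := fun η hη => by
      rw [regSum_swap χ η, regSum_real χ η, ← mul_pow, ← hw η (Finset.mem_filter.mp hη).2]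
      ring
    have h2 := congrArg (· * ((p : ℂ) ^ d) ^ 2) hsq
    simp only [Finset.sum_mul] at h2
    rw [Finset.sum_congr rfl h1, ← Finset.mul_sum,
      show (Nat.card G : ℂ) * regSum p (χ : G → ℂ) (χ : G → ℂ) * ((p : ℂ) ^ d) ^ 2 =
        (Nat.card G : ℂ) * (regSum p (χ : G → ℂ) (χ : G → ℂ) * (p : ℂ) ^ d) * (p : ℂ) ^ d by ring,
      hw χ hχ] at h2
    have h3 : ((∑ η ∈ A, (w η) ^ 2 : ℤ) : ℂ) = (((p : ℤ) ^ d * w χ : ℤ) : ℂ) := by
      push_cast
      refine mul_left_cancel₀ (pow_ne_zero 2 hG) ?_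
      rw [h2]
      ring
    exact_mod_cast h3
  rw [← Finset.add_sum_erase A _ (show χ ∈ A by simp [A, hχ])] at key
  have hle : ∑ η ∈ A.erase χ, ((p : ℤ) ^ (2 * blockHeight p B (η : G → ℂ))) ≤
      ∑ η ∈ A.erase χ, (w η) ^ 2 := by
    refine Finset.sum_le_sum fun η hη => ?_
    have hηB := (Finset.mem_filter.mp (Finset.mem_of_mem_erase hη)).2
    simp only [w, dif_pos hηB, mul_pow, ← pow_mul, mul_comm 2]
    refine le_mul_of_one_le_right (pow_nonneg (Int.natCast_nonneg p) _) ?_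
    have h1 : 0 < z η hηB ^ 2 := sq_pos_of_ne_zero (hz0 η hηB)
    omega
  have hbound : 4 * ∑ η ∈ A.erase χ, ((p : ℤ) ^ (2 * blockHeight p B (η : G → ℂ))) ≤
      (p : ℤ) ^ (2 * d) := by
    rw [mul_comm 2 d, pow_mul]
    nlinarith [hle, key, sq_nonneg ((p : ℤ) ^ d - 2 * w χ)]
  exact_mod_cast hbound

theorem card_le_bound (hM : IsPModular p M) {B : Set (IrrCharacter G)} (hB : IsPBlock M B) :
    4 * Nat.card B ≤ p ^ (2 * blockDefect p B) + 4 := by
  classical
  obtain ⟨χ, hχ, -, h⟩ := brauer_feit hM hB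
  have hset : B \ {χ} = ((B.toFinset.erase χ : Finset (IrrCharacter G)) : Set (IrrCharacter G)) := by
    ext η
    simp [and_comm]
  rw [hset, finsum_mem_coe_finset] at h
  have h1 : (B.toFinset.erase χ).card ≤
      ∑ η ∈ B.toFinset.erase χ, p ^ (2 * blockHeight p B (η : G → ℂ)) := by
    rw [Finset.card_eq_sum_ones]
    exact Finset.sum_le_sum fun η _ => Nat.one_le_pow _ _ (Fact.out : p.Prime).pos
  rw [Finset.card_erase_of_mem (Set.mem_toFinset.mpr hχ), Set.toFinset_card,
    ← Nat.card_eq_fintype_card] at h1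
  omega

theorem sum_height_le (hM : IsPModular p M) {B : Set (IrrCharacter G)} (hB : IsPBlock M B) :
    ∑ᶠ η ∈ B, p ^ (2 * blockHeight p B (η : G → ℂ)) ≤ p ^ (2 * blockDefect p B) / 4 + 1 := by
  classical
  obtain ⟨χ, hχ, h0, h⟩ := brauer_feit hM hB
  have e : insert χ (B \ {χ}) = B := by
    rw [Set.insert_diff_singleton, Set.insert_eq_of_mem hχ]
  rw [show ∑ᶠ η ∈ B, p ^ (2 * blockHeight p B (η : G → ℂ)) =
      ∑ᶠ η ∈ insert χ (B \ {χ}), p ^ (2 * blockHeight p B (η : G → ℂ)) by rw [e],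
    finsum_mem_insert _ (by simp) (Set.toFinite _), h0, mul_zero, pow_zero, add_comm]
  exact Nat.add_le_add_right ((Nat.le_div_iff_mul_le (by norm_num)).mpr (mul_comm 4 _ ▸ h)) 1

end Cfsg.Agent.Char.Contrib
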