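import Cfsg.Agent.Lib.Char.Eigen

/-!
Basic facts on complex characters and the inner product `classInner`.
-/

namespace Cfsg.Agent.Char

open scoped ComplexConjugate
open Module Representation Cfsg

universe u v w

variable {G : Type u} [Group G]
variable {V : Type v} [AddCommGroup V] [Module ℂ V] [FiniteDimensional ℂ V]

section Values

variable [Finite G]

omit [FiniteDimensional ℂ V] in
theorem rep_pow_card (ρ : Representation ℂ G V) (g : G) : ρ g ^ Nat.card G = 1 := by
  rw [← map_pow, pow_card_eq_one', map_one]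

theorem exists_rep_eigenbasis (ρ : Representation ℂ G V) (g : G) :
    ∃ (b : Basis (Fin (finrank ℂ V)) ℂ V) (c : Fin (finrank ℂ V) → ℂ),
      (∀ i, ρ g (b i) = c i • b i) ∧ (∀ i, c i ^ orderOf g = 1) ∧
      ∀ k : ℕ, ρ.character (g ^ k) = ∑ i, c i ^ k := by
  obtain ⟨b, c, hb, hc⟩ := exists_eigenbasis (ρ g) (orderOf_pos g)
    (by rw [← map_pow, pow_orderOf_eq_one, map_one])
  refine ⟨b, c, hb, hc, fun k => ?_⟩
  rw [Representation.character, map_pow]
  exact trace_of_eigenbasis _ b _ fun i => apply_pow_of_eigen (hb i) k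

theorem character_inv (ρ : Representation ℂ G V) (g : G) :
    ρ.character g⁻¹ = conj (ρ.character g) := by
  obtain ⟨b, c, -, hc, hk⟩ := exists_rep_eigenbasis ρ g
  have h1 := hk 1
  simp only [pow_one] at h1
  have h2 : g⁻¹ = g ^ (orderOf g - 1) := inv_eq_of_mul_eq_one_right
    (by rw [← pow_succ', Nat.sub_add_cancel (orderOf_pos g), pow_orderOf_eq_one])
  rw [h2, hk, h1, map_sum]
  exact Finset.sum_congr rfl fun i _ => (conj_eq_pow_pred (orderOf_pos g) (hc i)).symm

theorem norm_character_le (ρ : Representation ℂ G V) (g : G) :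
    ‖ρ.character g‖ ≤ (finrank ℂ V : ℝ) :=
  norm_trace_le (ρ g) Nat.card_pos (rep_pow_card ρ g)

theorem norm_character_eq_iff (ρ : Representation ℂ G V) (g : G) :
    ‖ρ.character g‖ = (finrank ℂ V : ℝ) ↔ ∃ ω : ℂ, ρ g = ω • LinearMap.id := by
  refine ⟨fun h => eq_smul_of_norm_trace_eq (ρ g) Nat.card_pos (rep_pow_card ρ g) h, ?_⟩
  rintro ⟨ω, hω⟩
  rcases Nat.eq_zero_or_pos (finrank ℂ V) with h0 | h0
  · exact le_antisymm (norm_character_le ρ g) (by rw [h0, Nat.cast_zero]; exact norm_nonneg _)
  · have hp := rep_pow_card ρ g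
    rw [hω, ← Module.End.one_eq_id, smul_pow, one_pow] at hp
    haveI : Nontrivial V := Module.nontrivial_of_finrank_pos (R := ℂ) h0
    obtain ⟨x, hx⟩ := exists_ne (0 : V)
    have hp2 : (ω ^ Nat.card G - 1) • x = 0 := by
      have := LinearMap.congr_fun hp x
      simp only [LinearMap.smul_apply, Module.End.one_apply] at this
      rw [sub_smul, one_smul, this, sub_self]
    have hω1 := norm_eq_one_of_pow_eq_one' Nat.card_pos
      (sub_eq_zero.mp ((smul_eq_zero.mp hp2).resolve_right hx))
    rw [Representation.character, hω, map_smul, LinearMap.trace_id, smul_eq_mul, norm_mul, hω1,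
      one_mul, Complex.norm_natCast]

theorem character_eq_finrank_iff (ρ : Representation ℂ G V) (g : G) :
    ρ.character g = (finrank ℂ V : ℂ) ↔ ρ g = LinearMap.id :=
  ⟨eq_one_of_trace_eq (ρ g) Nat.card_pos (rep_pow_card ρ g),
    fun h => by rw [Representation.character, h, LinearMap.trace_id]⟩

theorem isIntegral_character (ρ : Representation ℂ G V) (g : G) :
    IsIntegral ℤ (ρ.character g) := by
  obtain ⟨b, c, -, hc, hk⟩ := exists_rep_eigenbasis ρ g
  have h1 := hk 1
  simp only [pow_one] at h1
  rw [h1]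
  exact IsIntegral.sum _ fun i _ => isIntegral_of_pow_eq_one (orderOf_pos g) (hc i)

end Values

/-! ### coordinate models -/

/-- Transport of a representation to coordinates. -/
noncomputable def coordRep (ρ : Representation ℂ G V) :
    Representation ℂ G (Fin (finrank ℂ V) → ℂ) :=
  ((Module.finBasis ℂ V).equivFun.conjAlgEquiv ℂ).toMonoidHom.comp ρ

/-- The equivalence with the coordinate model. -/
noncomputable def coordEquiv (ρ : Representation ℂ G V) : ρ.Equiv (coordRep ρ) :=
  Representation.Equiv.mk (Module.finBasis ℂ V).equivFun fun g => by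
    ext x
    simp [coordRep, LinearEquiv.conjAlgEquiv_apply]

theorem coordRep_character (ρ : Representation ℂ G V) :
    (coordRep ρ).character = ρ.character :=
  (Representation.char_iso (coordEquiv ρ)).symm

omit [FiniteDimensional ℂ V] in
/-- Subrepresentation lattices of equivalent representations. -/
theorem irreducible_of_equiv {W : Type w} [AddCommGroup W] [Module ℂ W]
    {ρ : Representation ℂ G V} {σ : Representation ℂ G W} (φ : ρ.Equiv σ)
    (h : ρ.IsIrreducible) : σ.IsIrreducible := by
  obtain ⟨E, hE⟩ : ∃ E : V ≃ₗ[ℂ] W, ∀ (g : G) (v : V), E (ρ g v) = σ g (E v) :=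
    ⟨φ.toLinearEquiv, fun g v => LinearMap.congr_fun (φ.toIntertwiningMap.isIntertwining' g) v⟩
  have key : ∀ (g : G) (x : W), E.symm (σ g x) = ρ g (E.symm x) := fun g x =>
    E.injective (by rw [hE, E.apply_symm_apply, E.apply_symm_apply])
  let e : Subrepresentation σ ≃o Subrepresentation ρ :=
    { toFun := fun S => ⟨S.toSubmodule.map (E.symm : W →ₗ[ℂ] V), fun g v hv => by
        obtain ⟨x, hx, rfl⟩ := hv
        exact ⟨σ g x, S.apply_mem_toSubmodule g hx, key g x⟩⟩
      invFun := fun S => ⟨S.toSubmodule.map (E : V →ₗ[ℂ] W), fun g v hv => by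
        obtain ⟨x, hx, rfl⟩ := hv
        exact ⟨ρ g x, S.apply_mem_toSubmodule g hx, hE g x⟩⟩
      left_inv := fun S => Subrepresentation.toSubmodule_injective
        ((Submodule.map_comp _ _ _).symm.trans (by simp))
      right_inv := fun S => Subrepresentation.toSubmodule_injective
        ((Submodule.map_comp _ _ _).symm.trans (by simp))
      map_rel_iff' := fun {S T} =>
        Submodule.map_le_map_iff_of_injective E.symm.injective S.toSubmodule T.toSubmodule }
  exact (OrderIso.isSimpleOrder_iff e).mpr h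

theorem isCharacter_character (ρ : Representation ℂ G V) : IsCharacter G ρ.character :=
  ⟨_, coordRep ρ, coordRep_character ρ⟩

theorem isIrrCharacter_character (ρ : Representation ℂ G V) [h : ρ.IsIrreducible] :
    IsIrrCharacter G ρ.character :=
  ⟨_, coordRep ρ, irreducible_of_equiv (coordEquiv ρ) h, coordRep_character ρ⟩

theorem _root_.Cfsg.Agent.Char.IsIrr.isCharacter {χ : G → ℂ} (h : IsIrrCharacter G χ) :
    IsCharacter G χ := ⟨h.choose, h.choose_spec.choose, h.choose_spec.choose_spec.2⟩

omit [FiniteDimensional ℂ V] in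
theorem finrank_pos_of_irreducible [FiniteDimensional ℂ V] (ρ : Representation ℂ G V)
    [h : ρ.IsIrreducible] : 0 < finrank ℂ V := by
  rcases Nat.eq_zero_or_pos (finrank ℂ V) with h0 | h0
  · exfalso
    have hsub := Module.finrank_zero_iff.mp h0
    have hbt : (⊥ : Subrepresentation ρ) = ⊤ := Subrepresentation.toSubmodule_injective
      (Subsingleton.elim _ _)
    exact bot_ne_top hbt
  · exact h0

/-! ### closure properties -/

theorem isClassFunction_character (ρ : Representation ℂ G V) :
    IsClassFunction G ρ.character := fun g h => Representation.char_conj ρ g h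

theorem IsChar.classFun {χ : G → ℂ} (h : IsCharacter G χ) : IsClassFunction G χ := by
  obtain ⟨n, ρ, rfl⟩ := h
  exact isClassFunction_character ρ

theorem IsIrr.classFun {χ : G → ℂ} (h : IsIrrCharacter G χ) : IsClassFunction G χ :=
  IsChar.classFun (IsIrr.isCharacter h)

theorem IsChar.one_eq_nat {χ : G → ℂ} (h : IsCharacter G χ) : ∃ n : ℕ, χ 1 = n := by
  obtain ⟨n, ρ, rfl⟩ := h
  exact ⟨_, Representation.char_one ρ⟩

theorem IsChar.degree_spec {χ : G → ℂ} (h : IsCharacter G χ) :
    χ 1 = ((⌊(χ 1).re⌋₊ : ℕ) : ℂ) := by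
  obtain ⟨n, hn⟩ := IsChar.one_eq_nat h
  simp [hn]

theorem IsIrr.one_eq_pos {χ : G → ℂ} (h : IsIrrCharacter G χ) : ∃ n : ℕ, 0 < n ∧ χ 1 = n := by
  obtain ⟨n, ρ, hρ, rfl⟩ := h
  exact ⟨_, finrank_pos_of_irreducible ρ, Representation.char_one ρ⟩

theorem IsIrr.one_ne_zero {χ : G → ℂ} (h : IsIrrCharacter G χ) : χ 1 ≠ 0 := by
  obtain ⟨n, hn, hn'⟩ := IsIrr.one_eq_pos h
  rw [hn']
  exact_mod_cast hn.ne'

theorem IsChar.zero : IsCharacter G (0 : G → ℂ) :=
  ⟨0, 1, funext fun g => by
    rw [Representation.character, Subsingleton.elim ((1 : Representation ℂ G (Fin 0 → ℂ)) g) 0,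
      map_zero, Pi.zero_apply]⟩

theorem IsChar.add {χ ψ : G → ℂ} (hχ : IsCharacter G χ) (hψ : IsCharacter G ψ) :
    IsCharacter G (χ + ψ) := by
  obtain ⟨n, ρ, rfl⟩ := hχ
  obtain ⟨m, σ, rfl⟩ := hψ
  have h : (ρ.prod σ).character = ρ.character + σ.character :=
    funext fun g => LinearMap.trace_prodMap' (ρ g) (σ g)
  exact h ▸ isCharacter_character _

theorem IsChar.sum {ι : Type*} {s : Finset ι} {f : ι → G → ℂ}
    (h : ∀ i ∈ s, IsCharacter G (f i)) : IsCharacter G (∑ i ∈ s, f i) :=
  Finset.sum_induction _ _ (fun _ _ ha hb => IsChar.add ha hb) IsChar.zero h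

theorem IsChar.nsmul {χ : G → ℂ} (h : IsCharacter G χ) (n : ℕ) :
    IsCharacter G ((n : ℂ) • χ) := by
  induction n with
  | zero => simpa using IsChar.zero
  | succ n ih =>
    rw [Nat.cast_succ, add_smul, one_smul]
    exact IsChar.add ih h

theorem IsChar.mul {χ ψ : G → ℂ} (hχ : IsCharacter G χ) (hψ : IsCharacter G ψ) :
    IsCharacter G (χ * ψ) := by
  obtain ⟨n, ρ, rfl⟩ := hχ
  obtain ⟨m, σ, rfl⟩ := hψ
  exact (Representation.char_tensor ρ σ) ▸ isCharacter_character _

theorem IsChar.comp {H : Type w} [Group H] (φ : H →* G) {χ : G → ℂ} (h : IsCharacter G χ) :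
    IsCharacter H (fun x => χ (φ x)) := by
  obtain ⟨n, ρ, rfl⟩ := h
  exact ⟨n, ρ.comp φ, rfl⟩

theorem IsChar.res {χ : G → ℂ} (h : IsCharacter G χ) (H : Subgroup G) :
    IsCharacter H (fun x : H => χ x) := IsChar.comp H.subtype h

section FiniteValues

variable [Finite G]

theorem IsChar.apply_inv {χ : G → ℂ} (h : IsCharacter G χ) (g : G) : χ g⁻¹ = conj (χ g) := by
  obtain ⟨n, ρ, rfl⟩ := h
  exact character_inv ρ g

theorem IsIrr.apply_inv {χ : G → ℂ} (h : IsIrrCharacter G χ) (g : G) : χ g⁻¹ = conj (χ g) :=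
  IsChar.apply_inv (IsIrr.isCharacter h) g

theorem IsChar.isIntegral {χ : G → ℂ} (h : IsCharacter G χ) (g : G) : IsIntegral ℤ (χ g) := by
  obtain ⟨n, ρ, rfl⟩ := h
  exact isIntegral_character ρ g

theorem IsChar.norm_le {χ : G → ℂ} (h : IsCharacter G χ) (g : G) : ‖χ g‖ ≤ ‖χ 1‖ := by
  obtain ⟨n, ρ, rfl⟩ := h
  rw [Representation.char_one, Complex.norm_natCast]
  exact norm_character_le ρ g

theorem IsChar.conj {χ : G → ℂ} (h : IsCharacter G χ) :
    IsCharacter G (fun g => (starRingEnd ℂ) (χ g)) := by
  obtain ⟨n, ρ, rfl⟩ := h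
  have he : ρ.dual.character = fun g => (starRingEnd ℂ) (ρ.character g) :=
    funext fun g => by rw [Representation.char_dual, character_inv]
  exact he ▸ isCharacter_character _

end FiniteValues

/-! ### linear characters -/

/-- A homomorphism to the nonzero complex numbers, as a representation on `Fin 1 → ℂ`. -/
noncomputable def linRep (l : G →* ℂˣ) : Representation ℂ G (Fin 1 → ℂ) where
  toFun g := (l g : ℂ) • LinearMap.id
  map_one' := by simp [Module.End.one_eq_id]
  map_mul' a b := by ext x; simp [mul_assoc, mul_left_comm]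

theorem isIrr_linear (l : G →* ℂˣ) : IsIrrCharacter G (fun g => (l g : ℂ)) := by
  refine ⟨1, linRep l, ?_, funext fun g => ?_⟩
  · have hne : (⊥ : Subrepresentation (linRep l)) ≠ ⊤ := fun h => by
      have := congrArg Subrepresentation.toSubmodule h
      exact bot_ne_top (α := Submodule ℂ (Fin 1 → ℂ)) this
    haveI : Nontrivial (Subrepresentation (linRep l)) := ⟨⟨_, _, hne⟩⟩
    refine ⟨fun S => ?_⟩
    rcases eq_or_ne S.toSubmodule ⊥ with h | h
    · exact .inl (Subrepresentation.toSubmodule_injective h)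
    · refine .inr (Subrepresentation.toSubmodule_injective ?_)
      refine Submodule.eq_top_of_finrank_eq (le_antisymm (Submodule.finrank_le _) ?_)
      rw [Module.finrank_fin_fun]
      exact Submodule.one_le_finrank_iff.mpr h
  · rw [Representation.character, linRep]
    simp

theorem isIrr_one : IsIrrCharacter G (fun _ => (1 : ℂ)) := by
  simpa using isIrr_linear (1 : G →* ℂˣ)

theorem IsChar.one : IsCharacter G (fun _ => (1 : ℂ)) := IsIrr.isCharacter isIrr_one

theorem linearHom_of_isCharacter {χ : G → ℂ} (h : IsCharacter G χ) (h1 : χ 1 = 1) :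
    ∃ l : G →* ℂˣ, χ = fun g => (l g : ℂ) := by
  obtain ⟨n, ρ, rfl⟩ := h
  rw [Representation.char_one] at h1
  have hn : finrank ℂ (Fin n → ℂ) = 1 := by exact_mod_cast h1
  have key : ∀ g, ρ g = ρ.character g • LinearMap.id := fun g => by
    obtain ⟨c, hc, -⟩ := exists_smul_id_of_finrank_eq_one hn (ρ g)
    rw [Representation.character, hc, map_smul, LinearMap.trace_id, hn]
    simp
  let m : G →* ℂ :=
    { toFun := ρ.character
      map_one' := by rw [Representation.char_one, hn, Nat.cast_one]
      map_mul' := fun a b => by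
        have h2 := congrArg (LinearMap.trace ℂ (Fin n → ℂ))
          (show ρ (a * b) = (ρ.character a * ρ.character b) • LinearMap.id by
            rw [map_mul, key a, key b]
            ext x
            simp [mul_left_comm, mul_assoc])
        rw [map_smul, LinearMap.trace_id, hn] at h2
        simpa [Representation.character] using h2 }
  exact ⟨m.toHomUnits, rfl⟩
where
  exists_smul_id_of_finrank_eq_one {W : Type} [AddCommGroup W] [Module ℂ W]
      [FiniteDimensional ℂ W] (hn : finrank ℂ W = 1) (f : W →ₗ[ℂ] W) :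
      ∃ c : ℂ, f = c • LinearMap.id ∧ True := by
    obtain ⟨v, hv, hspan⟩ := finrank_eq_one_iff'.mp hn
    obtain ⟨c, hc⟩ := hspan (f v)
    refine ⟨c, LinearMap.ext fun x => ?_, trivial⟩
    obtain ⟨a, rfl⟩ := hspan x
    rw [map_smul, ← hc, LinearMap.smul_apply, LinearMap.id_apply, smul_comm]

/-! ### the inner product -/

section Inner

variable [Fintype G]

theorem classInner_add_left (a b c : G → ℂ) :
    classInner (a + b) c = classInner a c + classInner b c := by
  simp [classInner, add_mul, Finset.sum_add_distrib, mul_add]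

theorem classInner_smul_left (r : ℂ) (a c : G → ℂ) :
    classInner (r • a) c = r * classInner a c := by
  simp [classInner, mul_assoc, ← Finset.mul_sum]; ring

theorem classInner_add_right (a b c : G → ℂ) :
    classInner a (b + c) = classInner a b + classInner a c := by
  simp [classInner, mul_add, Finset.sum_add_distrib]

theorem classInner_smul_right (r : ℂ) (a c : G → ℂ) :
    classInner a (r • c) = conj r * classInner a c := by
  simp only [classInner, Pi.smul_apply, smul_eq_mul, map_mul, Finset.mul_sum]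
  exact Finset.sum_congr rfl fun g _ => by ring

theorem classInner_conj_symm (a b : G → ℂ) : conj (classInner a b) = classInner b a := by
  simp [classInner, mul_comm]

theorem classInner_zero_left (a : G → ℂ) : classInner 0 a = 0 := by simp [classInner]

theorem classInner_zero_right (a : G → ℂ) : classInner a 0 = 0 := by simp [classInner]

theorem classInner_sum_left {ι : Type*} (s : Finset ι) (f : ι → G → ℂ) (c : G → ℂ) :
    classInner (∑ i ∈ s, f i) c = ∑ i ∈ s, classInner (f i) c := by
  simp only [classInner, Finset.sum_apply, Finset.sum_mul, Finset.mul_sum]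
  exact Finset.sum_comm

theorem classInner_sum_right {ι : Type*} (s : Finset ι) (f : ι → G → ℂ) (c : G → ℂ) :
    classInner c (∑ i ∈ s, f i) = ∑ i ∈ s, classInner c (f i) := by
  simp only [classInner, Finset.sum_apply, map_sum, Finset.mul_sum]
  exact Finset.sum_comm

theorem classInner_sub_left (a b c : G → ℂ) :
    classInner (a - b) c = classInner a c - classInner b c := by
  simp [classInner, sub_mul, mul_sub]

theorem classInner_sub_right (a b c : G → ℂ) :
    classInner a (b - c) = classInner a b - classInner a c := by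
  simp [classInner, mul_sub]

theorem classInner_neg_left (a c : G → ℂ) : classInner (-a) c = - classInner a c := by
  simp [classInner]

theorem classInner_neg_right (a c : G → ℂ) : classInner a (-c) = - classInner a c := by
  simp [classInner]

theorem classInner_self (a : G → ℂ) :
    classInner a a = (((Nat.card G : ℝ)⁻¹ * ∑ g : G, ‖a g‖ ^ 2 : ℝ) : ℂ) := by
  simp [classInner, Complex.mul_conj, Complex.normSq_eq_norm_sq]

theorem classInner_self_re_nonneg (a : G → ℂ) : 0 ≤ (classInner a a).re := by
  rw [classInner_self, Complex.ofReal_re]; positivity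

theorem classInner_self_eq_zero (a : G → ℂ) : classInner a a = 0 ↔ a = 0 := by
  refine ⟨fun h => ?_, fun h => h ▸ classInner_zero_left _⟩
  rw [classInner_self, Complex.ofReal_eq_zero, mul_eq_zero] at h
  have h0 : ∑ g : G, ‖a g‖ ^ 2 = 0 :=
    h.resolve_left (inv_ne_zero (Nat.cast_ne_zero.mpr Nat.card_pos.ne'))
  funext g
  simpa using (Finset.sum_eq_zero_iff_of_nonneg fun g _ => sq_nonneg ‖a g‖).mp h0 g (Finset.mem_univ g)

noncomputable instance (priority := low) invertibleCard : Invertible (Nat.card G : ℂ) :=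
  invertibleOfNonzero (Nat.cast_ne_zero.mpr Nat.card_pos.ne')

theorem classInner_character {W : Type w} [AddCommGroup W] [Module ℂ W] [FiniteDimensional ℂ W]
    (ρ : Representation ℂ G V) (σ : Representation ℂ G W) :
    classInner ρ.character σ.character = (finrank ℂ (IntertwiningMap σ ρ) : ℂ) := by
  rw [← Representation.card_inv_mul_sum_char_mul_char_eq_finrank σ ρ, classInner]
  simp [character_inv]

theorem classInner_eq_inv_card_sum_inv {χ ψ : G → ℂ} (hψ : IsCharacter G ψ) :
    classInner χ ψ = (Nat.card G : ℂ)⁻¹ * ∑ g : G, χ g * ψ g⁻¹ := by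
  simp [classInner, IsChar.apply_inv hψ]

theorem IsChar.classInner_nat {χ ψ : G → ℂ} (hχ : IsCharacter G χ) (hψ : IsCharacter G ψ) :
    ∃ n : ℕ, classInner χ ψ = n := by
  obtain ⟨n, ρ, rfl⟩ := hχ
  obtain ⟨m, σ, rfl⟩ := hψ
  exact ⟨_, classInner_character ρ σ⟩

theorem classInner_self_irr {χ : G → ℂ} (hχ : IsIrrCharacter G χ) : classInner χ χ = 1 := by
  obtain ⟨n, ρ, hρ, rfl⟩ := hχ
  rw [classInner_character, IsIrreducible.finrank_intertwiningMap_self, Nat.cast_one]

theorem classInner_irr_ne {χ ψ : G → ℂ} (hχ : IsIrrCharacter G χ) (hψ : IsIrrCharacter G ψ)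
    (h : χ ≠ ψ) : classInner χ ψ = 0 := by
  obtain ⟨n, ρ, hρ, rfl⟩ := hχ
  obtain ⟨m, σ, hσ, rfl⟩ := hψ
  haveI : IsEmpty (σ.Equiv ρ) := ⟨fun e => h (Representation.char_iso e).symm⟩
  rw [classInner_character, finrank_zero_of_subsingleton, Nat.cast_zero]

theorem classInner_irr_eq_ite {χ ψ : G → ℂ} (hχ : IsIrrCharacter G χ) (hψ : IsIrrCharacter G ψ)
    [Decidable (χ = ψ)] : classInner χ ψ = if χ = ψ then 1 else 0 := by
  split_ifs with h
  · exact h ▸ classInner_self_irr hχ
  · exact classInner_irr_ne hχ hψ h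

theorem isIrrCharacter_equiv_of_eq {W : Type w} [AddCommGroup W] [Module ℂ W]
    [FiniteDimensional ℂ W] (ρ : Representation ℂ G V) (σ : Representation ℂ G W)
    [ρ.IsIrreducible] [σ.IsIrreducible] (h : ρ.character = σ.character) :
    Nonempty (ρ.Equiv σ) := by
  by_contra hne
  haveI : IsEmpty (ρ.Equiv σ) := not_nonempty_iff.mp hne
  have h1 := classInner_character σ ρ
  rw [finrank_zero_of_subsingleton, Nat.cast_zero, ← h, classInner_self_irr
    (isIrrCharacter_character ρ)] at h1
  exact one_ne_zero h1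

theorem irrCharacter_linearIndependent :
    LinearIndependent ℂ (fun χ : IrrCharacter G => (χ : G → ℂ)) := by
  classical
  rw [linearIndependent_iff']
  intro s c hc χ hχ
  have h := congrArg (fun f => classInner f (χ : G → ℂ)) hc
  simp only [classInner_sum_left, classInner_smul_left, classInner_zero_left] at h
  rw [Finset.sum_eq_single χ
    (fun ψ _ hne => by rw [classInner_irr_ne ψ.2 χ.2 (Subtype.coe_ne_coe.mpr hne), mul_zero])
    (fun h' => absurd hχ h'), classInner_self_irr χ.2, mul_one] at h
  exact h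

end Inner

instance finiteIrr [Finite G] : Finite (IrrCharacter G) := by
  haveI := Fintype.ofFinite G
  exact (irrCharacter_linearIndependent (G := G)).finite

noncomputable instance (priority := low) fintypeIrr [Finite G] : Fintype (IrrCharacter G) :=
  Fintype.ofFinite _

end Cfsg.Agent.Char
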