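import Cfsg.Agent.Lib.Char.DefectOneBasics

/-!
Tools for characters of small degree: multiplicities at an element of prime order, the norm on a
trivial intersection set, and bounds in the centralizer.
-/

open scoped ComplexConjugate

namespace Cfsg.Agent.Char.SmallDeg

open Cfsg Cfsg.Agent.Block Cfsg.Agent.Char.BP Cfsg.Agent.Char.Spec Cfsg.Agent.Char.DefectOne

set_option linter.unusedSectionVars false
set_option linter.style.haveILetI false
set_option maxHeartbeats 800000

universe u

variable {G : Type u} [Group G] [Fintype G] {p : ℕ} [hp : Fact p.Prime]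
variable {P : Subgroup G} {u₀ : G}

/-- A character on the powers of `u₀` through the multiplicities. -/
theorem exists_pmult (hPp : Nat.card P = p) (hu₀ : u₀ ∈ P) (hu₁ : u₀ ≠ 1) {χ : G → ℂ}
    (hχ : IsCharacter G χ) :
    ∃ m : ZMod p → ℕ, ∀ i, χ (pw u₀ i) = ∑ l, (m l : ℂ) * ψc (i * l) := by
  classical
  obtain ⟨n, ρ, rfl⟩ := hχ
  obtain ⟨b, c, -, hc, hk⟩ := exists_rep_eigenbasis ρ u₀
  choose j hj using fun a => exists_ψc (p := p) (z := c a)
    (by rw [← orderOf_gen hPp hu₀ hu₁]; exact hc a)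
  refine ⟨fun l => (Finset.univ.filter fun a => j a = l).card, fun i => ?_⟩
  rw [pw, hk, ← Finset.sum_fiberwise Finset.univ j]
  refine Finset.sum_congr rfl fun l _ => ?_
  rw [Finset.sum_congr rfl (g := fun _ => ψc (i * l)) fun a ha => ?_, Finset.sum_const, nsmul_eq_mul]
  rw [hj, (Finset.mem_filter.1 ha).2, ← AddChar.map_nsmul_eq_pow, nsmul_eq_mul,
    ZMod.natCast_zmod_val]

/-- Two expansions agreeing away from `0` differ by a constant. -/
theorem diff_eq {f g : ZMod p → ℂ}
    (h : ∀ i : ZMod p, i ≠ 0 → ∑ l, f l * ψc (i * l) = ∑ l, g l * ψc (i * l)) (l : ZMod p) :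
    f l - g l = f 0 - g 0 := by
  have key : ∀ l : ZMod p, (p : ℂ) * (f l - g l) = ∑ k, (f k - g k) := by
    intro l
    have h1 : ∑ i, ψc (-(i * l)) * ∑ k, (f k - g k) * ψc (i * k) = ∑ k, (f k - g k) := by
      rw [Finset.sum_eq_single 0]
      · simp
      · intro i _ hi
        simp only [sub_mul, Finset.sum_sub_distrib, h i hi, sub_self, mul_zero]
      · exact fun hn => absurd (Finset.mem_univ _) hn
    rw [← h1]
    simp only [Finset.mul_sum]
    rw [Finset.sum_comm, Finset.sum_congr rfl (g := fun k => (f k - g k) *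
      ∑ i, ψc (i * (k - l))) fun k _ => ?_]
    · simp only [ψc_sum, mul_ite, mul_zero, sub_eq_zero, Finset.sum_ite_eq', Finset.mem_univ,
        if_true]
      ring
    · rw [Finset.mul_sum]
      refine Finset.sum_congr rfl fun i _ => ?_
      rw [show i * (k - l) = -(i * l) + i * k by ring, AddChar.map_add_eq_mul]
      ring
  exact mul_left_cancel₀ (Nat.cast_ne_zero.2 hp.out.ne_zero) ((key l).trans (key 0).symm)

/-- Two expansions agreeing everywhere are equal. -/
theorem coeff_eq {f g : ZMod p → ℂ}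
    (h : ∀ i : ZMod p, ∑ l, f l * ψc (i * l) = ∑ l, g l * ψc (i * l)) (l : ZMod p) : f l = g l := by
  have hd := diff_eq fun i _ => h i
  have h0 := h 0
  simp only [zero_mul, AddChar.map_zero_eq_one, mul_one] at h0
  have h1 : ∑ k : ZMod p, (f k - g k) = 0 := by rw [Finset.sum_sub_distrib, h0, sub_self]
  rw [Finset.sum_congr rfl fun k _ => hd k, Finset.sum_const, Finset.card_univ, ZMod.card,
    nsmul_eq_mul, mul_eq_zero] at h1
  have h2 := hd l
  rw [h1.resolve_left (Nat.cast_ne_zero.2 hp.out.ne_zero), sub_eq_zero] at h2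
  exact h2

theorem sum_normSq_irr (χ : IrrCharacter G) :
    ∑ g : G, Complex.normSq ((χ : G → ℂ) g) = (Nat.card G : ℝ) := by
  have h := classInner_self_irr χ.2
  rw [classInner, inv_mul_eq_one₀ (Nat.cast_ne_zero.2 Nat.card_pos.ne')] at h
  simp only [Complex.mul_conj, ← Complex.ofReal_sum, ← Complex.ofReal_natCast,
    Complex.ofReal_inj] at h
  exact h.symm

/-- The norm of an irreducible character on a set which meets its conjugates only through `N`. -/
theorem sum_le_normalizer (χ : IrrCharacter G) (S : Finset G) (N : Subgroup G)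
    (h : ∀ g : G, ∀ y ∈ S, g * y * g⁻¹ ∈ S → g ∈ N) :
    ∑ y ∈ S, Complex.normSq ((χ : G → ℂ) y) ≤ (Nat.card N : ℝ) := by
  classical
  set F : G → ℝ := fun g => Complex.normSq ((χ : G → ℂ) g)
  have hG : (0 : ℝ) < Nat.card G := Nat.cast_pos.2 Nat.card_pos
  refine le_of_mul_le_mul_left ?_ hG
  have hconj : ∀ x y : G, F (x * y * x⁻¹) = F y := fun x y => by simp only [F, irr_classFun χ y x]
  calc (Nat.card G : ℝ) * ∑ y ∈ S, F y
      = ∑ q ∈ (Finset.univ : Finset G) ×ˢ S, F (q.1 * q.2 * q.1⁻¹) := by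
        rw [Finset.sum_product]
        simp only [hconj, Finset.sum_const, Finset.card_univ, nsmul_eq_mul, Nat.card_eq_fintype_card]
    _ = ∑ g : G, ∑ q ∈ ((Finset.univ : Finset G) ×ˢ S).filter
          (fun q => q.1 * q.2 * q.1⁻¹ = g), F g := by
        rw [← Finset.sum_fiberwise _ (fun q : G × G => q.1 * q.2 * q.1⁻¹)]
        exact Finset.sum_congr rfl fun g _ => Finset.sum_congr rfl fun q hq => by
          rw [(Finset.mem_filter.1 hq).2]
    _ ≤ ∑ g : G, (Nat.card N : ℝ) * F g := by
        refine Finset.sum_le_sum fun g _ => ?_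
        rw [Finset.sum_const, nsmul_eq_mul]
        refine mul_le_mul_of_nonneg_right ?_ (Complex.normSq_nonneg _)
        rw [Nat.cast_le]
        rcases Finset.eq_empty_or_nonempty (((Finset.univ : Finset G) ×ˢ S).filter
          (fun q => q.1 * q.2 * q.1⁻¹ = g)) with he | ⟨⟨x₀, y₀⟩, hq⟩
        · simp [he]
        obtain ⟨hq1, hq2⟩ := Finset.mem_filter.1 hq
        rw [Nat.card_eq_fintype_card, ← Fintype.card_coe]
        refine Fintype.card_le_of_injective (fun q => (⟨x₀⁻¹ * q.1.1, ?_⟩ : N)) fun q q' hqq => ?_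
        · obtain ⟨h1, h2⟩ := Finset.mem_filter.1 q.2
          refine h _ _ (Finset.mem_product.1 h1).2 ?_
          have e : x₀⁻¹ * q.1.1 * q.1.2 * (x₀⁻¹ * q.1.1)⁻¹ =
              x₀⁻¹ * (q.1.1 * q.1.2 * q.1.1⁻¹) * x₀ := by group
          rw [e, h2, ← hq2]
          simpa [mul_assoc] using (Finset.mem_product.1 hq1).2
        · have hx : q.1.1 = q'.1.1 := mul_left_cancel (congrArg Subtype.val hqq)
          have h2 := (Finset.mem_filter.1 q.2).2
          have h2' := (Finset.mem_filter.1 q'.2).2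
          have h3 := h2.trans h2'.symm
          rw [hx] at h3
          exact Subtype.ext (Prod.ext hx (mul_left_cancel (mul_right_cancel h3)))
    _ = (Nat.card G : ℝ) * (Nat.card N : ℝ) := by
        rw [← Finset.mul_sum, sum_normSq_irr]
        ring

/-- The norm on the centralizer is at least the number of the exponents occurring. -/
theorem card_exponents_le (hPp : Nat.card P = p) (hu₀ : u₀ ∈ P) (hu₁ : u₀ ≠ 1) {χ : G → ℂ}
    (hχ : IsCharacter G χ) {m : ZMod p → ℕ} (hm : ∀ i, χ (pw u₀ i) = ∑ l, (m l : ℂ) * ψc (i * l))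
    [Fintype (CG P)] :
    (Nat.card (CG P) : ℝ) * ((Finset.univ.filter fun l => m l ≠ 0).card : ℝ) ≤
      ∑ c : CG P, Complex.normSq (χ c) := by
  classical
  have hPC : P ≤ CG P := le_cg hPp
  obtain ⟨a, ha, hdec⟩ := IsChar.exists_decomp_inner (IsChar.res hχ (CG P))
  set z : CG P := ⟨u₀, hPC hu₀⟩
  have hzc : z ∈ Subgroup.center (CG P) := Subgroup.mem_center_iff.mpr fun t =>
    Subtype.ext (Subgroup.mem_centralizer_iff.1 t.2 u₀ hu₀).symm
  have hpow : ∀ (ξ : IrrCharacter (CG P)) (n : ℕ), (ξ : CG P → ℂ) (z ^ n) =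
      centralChar (ξ : CG P → ℂ) z ^ n * (ξ : CG P → ℂ) 1 := by
    intro ξ n
    induction n with
    | zero => simp
    | succ n ih => rw [pow_succ', centralChar_of_center hzc, ih, pow_succ', mul_assoc]
  have hzp : z ^ p = 1 := Subtype.ext (by
    have := orderOf_gen hPp hu₀ hu₁
    simp only [z, SubmonoidClass.coe_pow, OneMemClass.coe_one]
    rw [← this, pow_orderOf_eq_one])
  choose j hj using fun ξ : IrrCharacter (CG P) => exists_ψc (p := p)
    (z := centralChar (ξ : CG P → ℂ) z) (by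
      refine mul_right_cancel₀ (irr_one_ne_zero ξ) ?_
      rw [← hpow ξ p, hzp, one_mul])
  have hcoeff : ∀ l, (m l : ℂ) = ∑ ξ ∈ Finset.univ.filter (fun ξ => j ξ = l),
      (a ξ : ℂ) * (ξ : CG P → ℂ) 1 := by
    refine coeff_eq fun i => ?_
    rw [← hm, show pw u₀ i = ((z ^ i.val : CG P) : G) by simp [pw, z]]
    have h := congrFun hdec (z ^ i.val)
    rw [sum_irr_apply] at h
    rw [h, ← Finset.sum_fiberwise Finset.univ j]
    refine Finset.sum_congr rfl fun l _ => ?_
    rw [Finset.sum_mul]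
    refine Finset.sum_congr rfl fun ξ hξ => ?_
    rw [hpow, hj, (Finset.mem_filter.1 hξ).2, ← AddChar.map_nsmul_eq_pow, nsmul_eq_mul,
      ZMod.natCast_zmod_val]
    ring
  have hcard : (Finset.univ.filter fun l => m l ≠ 0).card ≤
      (Finset.univ.filter fun ξ : IrrCharacter (CG P) => a ξ ≠ 0).card := by
    refine Finset.card_le_card_of_surjOn j fun l hl => ?_
    have h0 : m l ≠ 0 := (Finset.mem_filter.1 (Finset.mem_coe.1 hl)).2
    by_contra hne
    refine h0 (Nat.cast_injective (R := ℂ) ?_)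
    rw [hcoeff, Nat.cast_zero]
    refine Finset.sum_eq_zero fun ξ hξ => ?_
    by_cases haξ : a ξ = 0
    · simp [haξ]
    · exact absurd ⟨ξ, Finset.mem_coe.2 (Finset.mem_filter.2 ⟨Finset.mem_univ _, haξ⟩),
        (Finset.mem_filter.1 hξ).2⟩ hne
  have hinner : classInner (fun c : CG P => χ c) (fun c : CG P => χ c) =
      ((∑ ξ : IrrCharacter (CG P), (a ξ : ℝ) * (a ξ : ℝ) : ℝ) : ℂ) := by
    conv_lhs => arg 1; rw [hdec]
    rw [classInner_sum_left, Complex.ofReal_sum]
    refine Finset.sum_congr rfl fun ξ _ => ?_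
    rw [classInner_smul_left, ← classInner_conj_symm (fun c : CG P => χ c) (ξ : CG P → ℂ), ha,
      Complex.conj_natCast]
    push_cast
    rfl
  rw [classInner, inv_mul_eq_iff_eq_mul₀ (Nat.cast_ne_zero.2 Nat.card_pos.ne')] at hinner
  simp only [Complex.mul_conj, ← Complex.ofReal_sum, ← Complex.ofReal_natCast,
    ← Complex.ofReal_mul, Complex.ofReal_inj] at hinner
  rw [hinner]
  refine mul_le_mul_of_nonneg_left ?_ (Nat.cast_nonneg _)
  calc ((Finset.univ.filter fun l => m l ≠ 0).card : ℝ)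
      ≤ ((Finset.univ.filter fun ξ : IrrCharacter (CG P) => a ξ ≠ 0).card : ℝ) :=
        Nat.cast_le.2 hcard
    _ = ∑ ξ ∈ Finset.univ.filter (fun ξ : IrrCharacter (CG P) => a ξ ≠ 0), (1 : ℝ) := by simp
    _ ≤ ∑ ξ ∈ Finset.univ.filter (fun ξ : IrrCharacter (CG P) => a ξ ≠ 0),
        (a ξ : ℝ) * (a ξ : ℝ) := by
        refine Finset.sum_le_sum fun ξ hξ => ?_
        have : (1 : ℝ) ≤ (a ξ : ℝ) := Nat.one_le_cast.2
          (Nat.pos_of_ne_zero (Finset.mem_filter.1 hξ).2)
        nlinarith
    _ ≤ _ := Finset.sum_le_sum_of_subset_of_nonneg (Finset.subset_univ _)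
        fun ξ _ _ => mul_self_nonneg _

/-- The degree of a character of the centralizer is bounded by the index of `P Z(G)`. -/
theorem degree_sq_le (hPp : Nat.card P = p) (hPZ : ∀ u ∈ P, u ∈ Subgroup.center G → u = 1)
    [Fintype (CG P)] (θ : IrrCharacter (CG P)) :
    charDegree (θ : CG P → ℂ) ^ 2 * (p * Nat.card (Subgroup.center G)) ≤ Nat.card (CG P) := by
  classical
  have hPC : P ≤ CG P := le_cg hPp
  have hZC : Subgroup.center G ≤ CG P := Subgroup.center_le_centralizer _
  letI := Fintype.ofFinite P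
  letI := Fintype.ofFinite (Subgroup.center G)
  let F : P × Subgroup.center G → CG P := fun q => ⟨(q.1 : G) * q.2, mul_mem (hPC q.1.2) (hZC q.2.2)⟩
  have hF : Function.Injective F := by
    rintro ⟨u, z⟩ ⟨u', z'⟩ h
    have h' : (u : G) * z = u' * z' := congrArg Subtype.val h
    have hu : (u' : G)⁻¹ * u = z' * (z : G)⁻¹ := by
      rw [eq_mul_inv_iff_mul_eq, mul_assoc, h', inv_mul_cancel_left]
    have h1 : (u' : G)⁻¹ * u = 1 := hPZ _ (mul_mem (inv_mem u'.2) u.2)
      (hu ▸ mul_mem z'.2 (inv_mem z.2))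
    obtain rfl : u = u' := Subtype.ext (inv_mul_eq_one.1 h1).symm
    exact Prod.ext rfl (Subtype.ext (mul_left_cancel h'))
  have hcen : ∀ q, F q ∈ Subgroup.center (CG P) := fun q => Subgroup.mem_center_iff.2 fun t =>
    Subtype.ext (by
      show (t : G) * ((q.1 : G) * q.2) = (q.1 : G) * q.2 * t
      rw [← mul_assoc, ← Subgroup.mem_centralizer_iff.1 t.2 _ q.1.2, mul_assoc,
        Subgroup.mem_center_iff.1 q.2.2 (t : G), mul_assoc])
  have hval : ∀ q, Complex.normSq ((θ : CG P → ℂ) (F q)) =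
      ((charDegree (θ : CG P → ℂ) ^ 2 : ℕ) : ℝ) := by
    intro q
    obtain ⟨c, hc, hcg⟩ := IsIrr.scalar_of_center θ.2 (hcen q)
    have h := hcg 1
    rw [mul_one] at h
    rw [h, map_mul, charDeg_spec', Complex.normSq_natCast, Complex.normSq_eq_norm_sq, hc]
    push_cast
    ring
  have h1 : ∑ q : P × Subgroup.center G, Complex.normSq ((θ : CG P → ℂ) (F q)) ≤
      ∑ c : CG P, Complex.normSq ((θ : CG P → ℂ) c) := by
    rw [← Finset.sum_image (f := fun c => Complex.normSq ((θ : CG P → ℂ) c)) (g := F)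
      fun x _ y _ h => hF h]
    exact Finset.sum_le_sum_of_subset_of_nonneg (Finset.subset_univ _)
      fun c _ _ => Complex.normSq_nonneg _
  rw [sum_normSq_irr, Finset.sum_congr rfl fun q _ => hval q, Finset.sum_const, nsmul_eq_mul,
    Finset.card_univ, Fintype.card_prod, ← Nat.card_eq_fintype_card, ← Nat.card_eq_fintype_card,
    hPp, ← Nat.cast_mul, Nat.cast_le] at h1
  rw [mul_comm]
  exact h1

/-- A function on the centralizer invariant under `P` sums to `p` times its regular part. -/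
theorem sum_cg_eq (hPp : Nat.card P = p) (hsyl : ¬ p ∣ P.index) [Fintype (CG P)] (F : CG P → ℂ)
    (hF : ∀ u : CG P, (u : G) ∈ P → ∀ c, F (u * c) = F c) :
    ∑ c : CG P, F c = (p : ℂ) * ∑ c ∈ Finset.univ.filter (fun c : CG P => ¬ p ∣ orderOf c), F c := by
  classical
  letI := Fintype.ofFinite P
  have hPC : P ≤ CG P := le_cg hPp
  set R := Finset.univ.filter (fun c : CG P => ¬ p ∣ orderOf c)
  have key : ∑ q ∈ (Finset.univ : Finset P) ×ˢ R,
      F ((⟨q.1, hPC q.1.2⟩ : CG P) * q.2) = ∑ c : CG P, F c := by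
    refine Finset.sum_bij (fun q _ => (⟨q.1, hPC q.1.2⟩ : CG P) * q.2) (fun q _ => Finset.mem_univ _)
      (fun q hq q' hq' h => ?_) (fun c _ => ?_) (fun q _ => rfl)
    · have hr := (Finset.mem_filter.1 (Finset.mem_product.1 hq).2).2
      have hr' := (Finset.mem_filter.1 (Finset.mem_product.1 hq').2).2
      have h' : (q.1 : G) * q.2 = q'.1 * q'.2 := congrArg Subtype.val h
      have hp1 : IsPPart p ((q.1 : G) * q.2) (q.1 : G) :=
        ⟨q.2, rfl, Subgroup.mem_centralizer_iff.1 q.2.2 _ q.1.2, pPow_mem hPp q.1.2,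
          by rwa [Subgroup.orderOf_coe]⟩
      have hp2 : IsPPart p ((q.1 : G) * q.2) (q'.1 : G) :=
        ⟨q'.2, h'.symm, Subgroup.mem_centralizer_iff.1 q'.2.2 _ q'.1.2, pPow_mem hPp q'.1.2,
          by rwa [Subgroup.orderOf_coe]⟩
      have h1 : (q.1 : G) = q'.1 := pPart_unique hp1 hp2
      rw [h1] at h'
      exact Prod.ext (Subtype.ext h1) (Subtype.ext (mul_left_cancel h'))
    · obtain ⟨u, v, huv, hc, ⟨k, hk⟩, hv, hu, -⟩ := exists_pPart_zpowers (p := p) c
      have huP : (u : G) ∈ P := by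
        have hcard : (Nat.card G).factorization p = 1 := by
          rw [← P.card_mul_index, hPp, Nat.factorization_mul hp.out.ne_zero
            Subgroup.index_ne_zero_of_finite, Finsupp.add_apply, hp.out.factorization_self,
            Nat.factorization_eq_zero_of_not_dvd hsyl]
        haveI : (P.subgroupOf (CG P)).Normal := ⟨fun d hd g => by
          have h1 : g * d * g⁻¹ = d := by
            refine Subtype.ext ?_
            show (g : G) * d * (g : G)⁻¹ = d
            rw [← Subgroup.mem_centralizer_iff.1 g.2 (d : G) hd, mul_inv_cancel_right]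
          rwa [h1]⟩
        let S : Sylow p (CG P) := IsPGroup.toSylow (P := P.subgroupOf (CG P))
          (IsPGroup.of_card (n := 1) (by
            rw [Nat.card_congr (Subgroup.subgroupOfEquivOfLe hPC).toEquiv, hPp, pow_one]))
          (fun h => hsyl (h.trans (Subgroup.relIndex_dvd_index_of_le hPC)))
        obtain ⟨S', hS'⟩ := (IsPGroup.of_card (n := k) (by rw [Nat.card_zpowers, hk]) :
          IsPGroup p (Subgroup.zpowers u)).exists_le_sylow
        haveI : Unique (Sylow p (CG P)) := Sylow.unique_of_normal S (by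
          show (P.subgroupOf (CG P)).Normal
          infer_instance)
        have h2 : u ∈ (S : Subgroup (CG P)) :=
          Subsingleton.elim S' S ▸ hS' (Subgroup.mem_zpowers u)
        exact h2
      exact ⟨(⟨u, huP⟩, v), Finset.mem_product.2 ⟨Finset.mem_univ _,
        Finset.mem_filter.2 ⟨Finset.mem_univ _, hv⟩⟩, Subtype.ext (by
          show (u : G) * v = c
          rw [← huv]; rfl)⟩
  rw [← key, Finset.sum_product, Finset.sum_congr rfl (g := fun _ => ∑ c ∈ R, F c) fun u _ =>
    Finset.sum_congr rfl fun c _ => hF _ u.2 c, Finset.sum_const, Finset.card_univ,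
    ← Nat.card_eq_fintype_card, hPp, nsmul_eq_mul]

end Cfsg.Agent.Char.SmallDeg
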