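import Cfsg.Agent.Lib.Grp.Coprime
import Cfsg.Agent.Lib.Grp.PSolvable
import Cfsg.Agent.Lib.Grp.Frattini
import Cfsg.Agent.Lib.Char.Glauberman
import Cfsg.Agent.Lib.Char.Det
import Cfsg.Agent.Lib.Char.Complete
import Cfsg.Agent.Lib.Char.Kernel
import Cfsg.Agent.Lib.Char.ModP
import Cfsg.Agent.Lib.Char.Quotient
import Cfsg.Agent.Lib.Char.Integral

/-!
Small faithful characters of p-soluble groups without a normal Sylow subgroup.
-/

open scoped ComplexConjugate commutatorElement

namespace Cfsg.Agent.Char.ItoSmall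

open Cfsg Cfsg.Agent.Char Module

set_option linter.unusedSectionVars false
set_option linter.style.haveILetI false

universe u v

/-- An endomorphism orthogonal to an irreducible image is zero. -/
theorem eq_zero_of_trace_orth {C : Type u} [Group C] [Fintype C] {V : Type v} [AddCommGroup V]
    [Module ℂ V] [FiniteDimensional ℂ V] (ρ : Representation ℂ C V) [ρ.IsIrreducible]
    (X : V →ₗ[ℂ] V) (hX : ∀ c : C, LinearMap.trace ℂ V (ρ c ∘ₗ X) = 0) : X = 0 := by
  classical
  set b := Module.finBasis ℂ V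
  refine LinearMap.ext fun v => ?_
  rw [LinearMap.zero_apply, ← b.forall_coord_eq_zero_iff]
  intro j
  set E : Fin (finrank ℂ V) → (V →ₗ[ℂ] V) := fun i => (b.coord i).smulRight v with hE
  set T : Fin (finrank ℂ V) → (V →ₗ[ℂ] V) := fun i => ∑ c : C, ρ c⁻¹ ∘ₗ E i ∘ₗ ρ c with hT
  have hscal : ∀ i, T i = ((Nat.card C : ℂ) / (finrank ℂ V : ℂ) * b.coord i v) • LinearMap.id := by
    intro i
    have hcomm : ∀ x, T i ∘ₗ ρ x = ρ x ∘ₗ T i := by
      intro x
      refine LinearMap.ext fun w => ?_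
      simp only [hT, LinearMap.comp_apply, LinearMap.sum_apply, map_sum]
      refine Fintype.sum_equiv (Equiv.mulRight x) _ _ fun c => ?_
      simp only [Equiv.coe_mulRight, ← Module.End.mul_apply, ← map_mul, mul_inv_rev]
      rw [← mul_assoc (ρ x), ← map_mul, mul_inv_cancel_left]
    obtain ⟨a, ha⟩ := schur_scalar ρ (T i) hcomm
    have htr := congrArg (LinearMap.trace ℂ V) ha
    rw [map_smul, LinearMap.trace_id, hT, map_sum, Finset.sum_congr rfl (g := fun _ => b.coord i v)
      fun c _ => by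
        rw [← LinearMap.trace_comp_comm' (ρ c⁻¹) (E i ∘ₗ ρ c), LinearMap.comp_assoc,
          ← Module.End.mul_eq_comp (ρ c), ← map_mul, mul_inv_cancel, map_one,
          ← Module.End.mul_eq_comp, mul_one, hE, LinearMap.trace_smulRight]] at htr
    rw [Finset.sum_const, Finset.card_univ, nsmul_eq_mul, smul_eq_mul, ← Nat.card_eq_fintype_card]
      at htr
    rw [ha]
    congr 1
    have h0 : (finrank ℂ V : ℂ) ≠ 0 := Nat.cast_ne_zero.2 (finrank_pos_of_irreducible ρ).ne'
    field_simp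
    linear_combination htr.symm
  have key : ∑ i, b.coord j (T i (X (b i))) = 0 := by
    have h1 : ∑ c : C, LinearMap.trace ℂ V (ρ c ∘ₗ X) * b.coord j (ρ c⁻¹ v) = 0 :=
      Finset.sum_eq_zero fun c _ => by rw [hX, zero_mul]
    rw [← h1]
    simp only [hT, hE, LinearMap.sum_apply, LinearMap.comp_apply, LinearMap.smulRight_apply,
      map_sum, map_smul, smul_eq_mul]
    rw [Finset.sum_comm]
    refine Finset.sum_congr rfl fun c _ => ?_
    rw [LinearMap.trace_eq_matrix_trace ℂ b, Matrix.trace, Finset.sum_mul]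
    exact Finset.sum_congr rfl fun i _ => by
      rw [Matrix.diag_apply, LinearMap.toMatrix_apply, LinearMap.comp_apply, Basis.coord_apply]
  simp only [hscal, LinearMap.smul_apply, LinearMap.id_apply, map_smul, smul_eq_mul, mul_assoc,
    ← Finset.mul_sum] at key
  have h2 : ∑ i, b.coord i v * b.coord j (X (b i)) = b.coord j (X v) := by
    conv_rhs => rw [← b.sum_repr v, map_sum, map_sum]
    exact Finset.sum_congr rfl fun i _ => by
      rw [map_smul, map_smul, smul_eq_mul, Basis.coord_apply]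
  rw [h2] at key
  exact (mul_eq_zero.1 key).resolve_left (div_ne_zero (Nat.cast_ne_zero.2 Nat.card_pos.ne')
    (Nat.cast_ne_zero.2 (finrank_pos_of_irreducible ρ).ne'))

/-- An invariant character irreducible on a fixed subgroup is constant on twisted cosets. -/
theorem invariant_value {Q : Type u} [Group Q] [Fintype Q] (C : Subgroup Q) {θ : Q → ℂ}
    (hθ : IsIrrCharacter Q θ) [Fintype C] (hC : IsIrrCharacter C (fun c : C => θ c)) (a : Q ≃* Q)
    (ha : ∀ c ∈ C, a c = c) (hinv : ∀ g, θ (a g) = θ g) (y : Q) : θ (a y * y⁻¹) = θ 1 := by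
  obtain ⟨n, ρ, hρ, rfl⟩ := hθ
  let ρC : Representation ℂ C (Fin n → ℂ) := ρ.comp C.subtype
  haveI : ρC.IsIrreducible := irreducible_of_character ρC hC
  have hzero : ρ (a y) - ρ y = 0 := eq_zero_of_trace_orth ρC _ fun c => by
    show LinearMap.trace ℂ _ (ρ (c : Q) ∘ₗ (ρ (a y) - ρ y)) = 0
    rw [LinearMap.comp_sub, map_sub, ← Module.End.mul_eq_comp, ← Module.End.mul_eq_comp, ← map_mul,
      ← map_mul, sub_eq_zero]
    show ρ.character ((c : Q) * a y) = ρ.character ((c : Q) * y)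
    rw [← hinv ((c : Q) * y), map_mul a, ha _ c.2]
  show LinearMap.trace ℂ _ (ρ (a y * y⁻¹)) = LinearMap.trace ℂ _ (ρ 1)
  rw [map_mul, sub_eq_zero.1 hzero, ← map_mul, mul_inv_cancel]

variable {G : Type u} [Group G] [Fintype G]

/-- A p-subgroup with a faithful character of degree less than p is abelian. -/
theorem comm_of_small {p : ℕ} (hp : p.Prime) {χ : G → ℂ} (hχ : IsCharacter G χ)
    (hfaith : ∀ g : G, χ g = χ 1 → g = 1) {n : ℕ} (hn : χ 1 = n) (hnp : n < p) (P : Subgroup G)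
    (hP : IsPGroup p P) {x y : G} (hx : x ∈ P) (hy : y ∈ P) : x * y = y * x := by
  classical
  haveI := Fact.mk hp
  letI := Fintype.ofFinite P
  rw [← commutatorElement_eq_one_iff_mul_comm]
  refine hfaith _ ?_
  obtain ⟨a, ha, hdec⟩ := IsChar.exists_decomp_inner (IsChar.res hχ P)
  have h1 := congrFun hdec ⁅(⟨x, hx⟩ : P), ⟨y, hy⟩⁆
  have h2 := congrFun hdec 1
  have e : (∑ φ : IrrCharacter P, (a φ : ℂ) • (φ : P → ℂ)) ⁅(⟨x, hx⟩ : P), ⟨y, hy⟩⁆ =
      (∑ φ : IrrCharacter P, (a φ : ℂ) • (φ : P → ℂ)) 1 := by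
    rw [sum_irr_apply, sum_irr_apply]
    refine Finset.sum_congr rfl fun φ _ => ?_
    rcases eq_or_ne (a φ) 0 with h0 | h0
    · rw [h0, Nat.cast_zero, zero_mul, zero_mul]
    · obtain ⟨f, d, ρ, hρ, rfl⟩ := φ
      haveI := hρ
      have hd : ρ.character 1 = (d : ℂ) := by simp [Representation.char_one]
      have hle := degree_le_of_constituent (IsChar.res hχ P) ⟨d, ρ, hρ, rfl⟩
        (by rw [ha ⟨ρ.character, d, ρ, hρ, rfl⟩]; exact Nat.cast_ne_zero.2 h0)
        (show χ ((1 : P) : G) = n from hn) hd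
      obtain ⟨k, hk⟩ := IsPGroup.iff_card.1 hP
      have hdvd : d ∣ p ^ k := by
        have h5 := degree_dvd_card ρ
        rwa [finrank_fin_fun, hk] at h5
      obtain ⟨j, -, hj⟩ := (Nat.dvd_prime_pow hp).1 hdvd
      have hd1 : d = 1 := by
        rcases Nat.eq_zero_or_pos j with hj0 | hj0
        · rw [hj, hj0, pow_zero]
        · have : p ≤ p ^ j := Nat.le_self_pow hj0.ne' p
          omega
      obtain ⟨l, hl⟩ := linearHom_of_isCharacter (χ := ρ.character) ⟨d, ρ, rfl⟩
        (by rw [hd, hd1, Nat.cast_one])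
      simp only [congrFun hl]
      rw [map_commutatorElement, map_one, commutatorElement_eq_one_iff_mul_comm.2 (mul_comm _ _)]
  rw [← h1, ← h2] at e
  simpa [commutatorElement_def] using e

/-- The centralized case: the Sylow subgroup is normal. -/
theorem normal_of_centralizes {p : ℕ} [Fact p.Prime] (hsolv : IsPSolvable p G) (P : Sylow p G)
    (hab : ∀ x ∈ (P : Subgroup G), ∀ y ∈ (P : Subgroup G), x * y = y * x)
    (hK : (P : Subgroup G) ≤ Subgroup.centralizer (pPrimeCore p G : Set G)) :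
    (P : Subgroup G).Normal := by
  haveI hKn : (pPrimeCore p G).Normal := Grp.pPrimeCore_isNormal
  set K := pPrimeCore p G with hKdef
  set f := QuotientGroup.mk' K
  have hfs : Function.Surjective f := QuotientGroup.mk'_surjective K
  have hcen := Grp.centralizer_pCore_le_of_pSolvable (G := G ⧸ K)
    (Grp.isPSolvable_map hsolv f hfs) (Grp.pPrimeCore_quotient_eq_bot)
  set P' := P.mapSurjective hfs
  have h1 : (P' : Subgroup (G ⧸ K)) ≤ pCore p (G ⧸ K) := by
    refine le_trans ?_ hcen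
    rintro _ ⟨a, ha, rfl⟩
    rw [Subgroup.mem_centralizer_iff]
    intro z hz
    obtain ⟨b, hb, rfl⟩ := (Grp.pCore_le_sylow P') hz
    rw [← map_mul, ← map_mul, hab b hb a ha]
  have hnorm : ((P : Subgroup G) ⊔ K).Normal := by
    have e : (P : Subgroup G) ⊔ K = (pCore p (G ⧸ K)).comap f := by
      rw [← le_antisymm h1 (Grp.pCore_le_sylow P'), Sylow.coe_mapSurjective,
        Subgroup.comap_map_eq, QuotientGroup.ker_mk']
    rw [e]
    exact (Grp.pCore_isNormal).comap f
  refine ⟨fun x hx g => ?_⟩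
  obtain ⟨a, ha, k, hk, hak⟩ := Subgroup.mem_sup_of_normal_right.1
    (hnorm.conj_mem x (Subgroup.mem_sup_left hx) g)
  have hcomm : Commute a k := (Subgroup.mem_centralizer_iff.1 (hK ha) k hk).symm
  have hpow : ∀ z ∈ (P : Subgroup G), z ^ Nat.card P = 1 := fun z hz => by
    exact congrArg Subtype.val (pow_card_eq_one' (G := (P : Subgroup G)) (x := ⟨z, hz⟩))
  have h2 : (g * x * g⁻¹) ^ Nat.card P = 1 := by
    rw [← MulAut.conj_apply, ← map_pow, hpow x hx, map_one]
  rw [← hak, hcomm.mul_pow, hpow a ha, one_mul] at h2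
  have hk1 : k = 1 := by
    rw [← orderOf_eq_one_iff]
    refine Nat.eq_one_of_dvd_coprimes ?_ (orderOf_dvd_of_pow_eq_one h2)
      (orderOf_dvd_of_mem hk)
    obtain ⟨j, hj⟩ := IsPGroup.iff_card.1 P.2
    rw [hj]
    exact (Grp.pPrimeCore_coprime (p := p) (G := G)).symm.pow_left j
  rw [← hak, hk1, mul_one]
  exact ha
where
  orderOf_dvd_of_mem {K : Subgroup G} {k : G} (hk : k ∈ K) : orderOf k ∣ Nat.card K := by
    rw [← Subgroup.orderOf_mk k hk]
    exact orderOf_dvd_natCard _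

/-- An invariant Sylow subgroup of the core that is not centralized. -/
theorem exists_moved {p : ℕ} [Fact p.Prime] (P : Sylow p G)
    (hab : ∀ x ∈ (P : Subgroup G), ∀ y ∈ (P : Subgroup G), x * y = y * x)
    (hK : ¬ (P : Subgroup G) ≤ Subgroup.centralizer (pPrimeCore p G : Set G)) :
    ∃ (q : ℕ) (Q : Subgroup G), q.Prime ∧ q ≠ p ∧ IsPGroup q Q ∧
      (P : Subgroup G) ≤ Subgroup.normalizer (Q : Set G) ∧
      ¬ (P : Subgroup G) ≤ Subgroup.centralizer (Q : Set G) := by
  haveI hKn : (pPrimeCore p G).Normal := Grp.pPrimeCore_isNormal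
  set K := pPrimeCore p G with hKdef
  by_contra hall
  refine hK (Subgroup.le_centralizer_iff.1 ?_)
  set D := K ⊓ Subgroup.centralizer ((P : Subgroup G) : Set G) with hD
  suffices h : D = K from fun x hx => (h.symm ▸ hx : x ∈ D).2
  have hcop : (Nat.card (P : Subgroup G)).Coprime (Nat.card K) := by
    obtain ⟨j, hj⟩ := IsPGroup.iff_card.1 P.2
    rw [hj]
    exact (Grp.pPrimeCore_coprime (p := p) (G := G)).symm.pow_left j
  have hPsolv : Group.IsSolvable (P : Subgroup G) :=
    isSolvable_of_comm fun a b => Subtype.ext (hab a a.2 b b.2)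
  refine Subgroup.eq_of_le_of_card_ge inf_le_left (Nat.le_of_dvd Nat.card_pos ?_)
  refine (Nat.dvd_iff_prime_pow_dvd_dvd _ _).mpr fun q k hq hk => ?_
  haveI := Fact.mk hq
  rcases Nat.eq_zero_or_pos k with rfl | hk0
  · simp
  have hqp : q ≠ p := fun e => Grp.pPrimeCore_not_dvd (p := p) (G := G) (by
    have h0 := (dvd_pow_self q hk0.ne').trans hk
    rw [e] at h0
    exact h0)
  obtain ⟨Q, ⟨hQK, hQp, hQidx⟩, hQn⟩ := Grp.exists_invariant_sylow (P : Subgroup G) K
    (by rw [Subgroup.normalizer_eq_top]; exact le_top) hcop (Or.inl hPsolv) q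
  have hQD : Q ≤ D := le_inf hQK (Subgroup.le_centralizer_iff.1 (by
    by_contra hne
    exact hall ⟨q, Q, hq, hqp, hQp, hQn, hne⟩))
  refine Dvd.dvd.trans ?_ (Subgroup.card_dvd_of_le hQD)
  have h2 : q ^ k ∣ Nat.card Q * Q.relIndex K := by
    rw [Subgroup.relIndex, ← Nat.card_congr (Subgroup.subgroupOfEquivOfLe hQK).toEquiv,
      Subgroup.card_mul_index]
    exact hk
  exact ((hq.coprime_iff_not_dvd.2 hQidx).pow_left k).dvd_of_dvd_mul_right h2

/-- The theorem of Itô. -/
theorem main {p : ℕ} [Fact p.Prime] (hsolv : IsPSolvable p G) {χ : G → ℂ} (hχ : IsCharacter G χ)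
    (hfaith : ∀ g : G, χ g = χ 1 → g = 1) {n : ℕ} (hn : χ 1 = n) (hnp : n + 1 ≤ p) (P : Sylow p G)
    (hP : ¬ (P : Subgroup G).Normal) :
    n + 1 = p ∧ (∃ k : ℕ, n = 2 ^ k) ∧ IsIrrCharacter G χ := by
  classical
  have hp : p.Prime := Fact.out
  have hab : ∀ x ∈ (P : Subgroup G), ∀ y ∈ (P : Subgroup G), x * y = y * x := fun x hx y hy =>
    comm_of_small hp hχ hfaith hn (by omega) P P.2 hx hy
  obtain ⟨q, Q, hq, hqp, hQ, hQn, hQc⟩ :=
    exists_moved P hab fun h => hP (normal_of_centralizes hsolv P hab h)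
  haveI := Fact.mk hq
  letI := Fintype.ofFinite Q
  obtain ⟨M, hM⟩ := exists_isPModular p hp
  let c : (P : Subgroup G) →* MulAut Q :=
    Q.normalizerMonoidHom.comp (Subgroup.inclusion hQn)
  set A := c.range with hA
  have hc : ∀ (g : (P : Subgroup G)) (y : Q), ((c g y : Q) : G) = (g : G) * y * (g : G)⁻¹ :=
    fun g y => rfl
  have hAp : IsPGroup p A := P.2.of_surjective c.rangeRestrict c.rangeRestrict_surjective
  have hcop : (Nat.card Q).Coprime p := by
    obtain ⟨j, hj⟩ := IsPGroup.iff_card.1 hQ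
    rw [hj]
    exact ((Nat.coprime_primes hq hp).2 hqp).pow_left j
  obtain ⟨m, hm, hdec⟩ := IsChar.exists_decomp_inner (IsChar.res hχ Q)
  choose d hd0 hd using fun θ : IrrCharacter Q => IsIrr.one_eq_pos θ.2
  have hsum : ∑ θ : IrrCharacter Q, m θ * d θ = n := by
    have h := congrFun hdec 1
    rw [sum_irr_apply, show χ ((1 : Q) : G) = n from hn] at h
    simp only [hd] at h
    exact_mod_cast h.symm
  -- the constituents are invariant
  have hinv : ∀ θ : IrrCharacter Q, m θ ≠ 0 → Glaub.Inv A (θ : Q → ℂ) := by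
    intro θ hθ
    letI : MulAction A (IrrCharacter Q) :=
      { smul := fun a ψ => ⟨fun y => (ψ : Q → ℂ) ((a : MulAut Q).symm y),
          IsIrr.comp_mulEquiv (a : MulAut Q).symm ψ.2⟩
        one_smul := fun ψ => Subtype.ext (funext fun y => rfl)
        mul_smul := fun a b ψ => Subtype.ext (funext fun y => rfl) }
    have hstab : ∀ (a : A) (ψ : IrrCharacter Q), m (a • ψ) = m ψ := by
      intro a ψ
      obtain ⟨g, hg⟩ := a.2
      have e : classInner (fun y : Q => χ y) ((a • ψ : IrrCharacter Q) : Q → ℂ) =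
          classInner (fun y : Q => χ y) (ψ : Q → ℂ) := by
        simp only [classInner]
        congr 1
        refine Fintype.sum_equiv (a : MulAut Q).symm.toEquiv _ _ fun y => ?_
        show χ y * conj ((ψ : Q → ℂ) ((a : MulAut Q).symm y)) =
          χ (((a : MulAut Q).symm y : Q) : G) * conj ((ψ : Q → ℂ) ((a : MulAut Q).symm y))
        congr 1
        conv_lhs => rw [← (a : MulAut Q).apply_symm_apply y, ← hg, hc]
        rw [IsChar.classFun hχ, hg]
      rw [hm, hm] at e
      exact_mod_cast e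
    obtain ⟨j, hj⟩ := hAp.card_orbit θ
    have hle : Nat.card (MulAction.orbit A θ) ≤ n := by
      rw [← hsum, Nat.card_eq_fintype_card, ← Set.toFinset_card]
      refine le_trans ?_ (Finset.sum_le_sum_of_subset (Finset.subset_univ (MulAction.orbit A θ).toFinset))
      rw [Finset.card_eq_sum_ones]
      refine Finset.sum_le_sum fun ψ hψ => ?_
      obtain ⟨a, rfl⟩ := Set.mem_toFinset.1 hψ
      show 1 ≤ m (a • θ) * d (a • θ)
      rw [hstab]
      exact Nat.one_le_iff_ne_zero.2 (mul_ne_zero hθ (hd0 _).ne')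
    rcases Nat.eq_zero_or_pos j with hj0 | hj0
    · intro a ha y
      rw [hj0, pow_zero] at hj
      haveI := (Nat.card_eq_one_iff_unique.1 hj).1
      have h := congrArg (fun z : MulAction.orbit A θ => (z.1 : Q → ℂ) y)
        (Subsingleton.elim (⟨(⟨a, ha⟩ : A)⁻¹ • θ, ⟨_, rfl⟩⟩ : MulAction.orbit A θ)
          ⟨θ, MulAction.mem_orbit_self θ⟩)
      exact h
    · have : p ≤ p ^ j := Nat.le_self_pow hj0.ne' p
      omega
  letI := Fintype.ofFinite (Glaub.fix A)
  by_cases hall : ∀ θ : IrrCharacter Q, m θ ≠ 0 →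
      IsIrrCharacter (Glaub.fix A) (fun y : Glaub.fix A => (θ : Q → ℂ) y)
  · exfalso
    refine hQc fun g hg => ?_
    rw [Subgroup.mem_centralizer_iff]
    intro y hy
    set a : MulAut Q := c ⟨g, hg⟩
    have hz : χ ((a ⟨y, hy⟩ * (⟨y, hy⟩ : Q)⁻¹ : Q) : G) = χ ((1 : Q) : G) := by
      have h1 := congrFun hdec (a ⟨y, hy⟩ * (⟨y, hy⟩ : Q)⁻¹)
      have h2 := congrFun hdec 1
      rw [h1, h2, sum_irr_apply, sum_irr_apply]
      refine Finset.sum_congr rfl fun θ _ => ?_
      rcases eq_or_ne (m θ) 0 with h0 | h0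
      · rw [h0, Nat.cast_zero, zero_mul, zero_mul]
      · rw [invariant_value (Glaub.fix A) θ.2 (hall θ h0) a
          (fun z hz => hz a ⟨_, rfl⟩) (hinv θ h0 a ⟨_, rfl⟩)]
    have h3 := hfaith _ hz
    rw [Subgroup.coe_mul, Subgroup.coe_inv, hc, mul_inv_eq_one] at h3
    exact (mul_inv_eq_iff_eq_mul.1 h3).symm
  push Not at hall
  obtain ⟨θ, hθ, hθC⟩ := hall
  obtain ⟨β, hβ⟩ := Glaub.exists_corr hM hAp hcop (hinv θ hθ)
  set e := Glaub.mult (Glaub.fix A) (θ : Q → ℂ) (β : Glaub.fix A → ℂ) with he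
  have hθn : d θ ≤ n := by
    rw [← hsum]
    refine le_trans (Nat.le_mul_of_pos_left _ (Nat.pos_of_ne_zero hθ)) ?_
    exact Finset.single_le_sum (f := fun θ => m θ * d θ) (fun _ _ => Nat.zero_le _)
      (Finset.mem_univ θ)
  -- degrees on the fixed points
  obtain ⟨b, hb0, hb⟩ := IsIrr.one_eq_pos β.2
  choose d' hd0' hd' using fun γ : IrrCharacter (Glaub.fix A) => IsIrr.one_eq_pos γ.2
  have hdeg : d θ = ∑ γ : IrrCharacter (Glaub.fix A),
      Glaub.mult (Glaub.fix A) (θ : Q → ℂ) (γ : Glaub.fix A → ℂ) * d' γ := by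
    have h := Glaub.res_expansion (Glaub.fix A) (IsIrr.isCharacter θ.2) 1
    simp only [Subgroup.coe_one, hd, hd'] at h
    exact_mod_cast h
  have hrest : ∀ γ : IrrCharacter (Glaub.fix A), γ ≠ β →
      Glaub.mult (Glaub.fix A) (θ : Q → ℂ) (γ : Glaub.fix A → ℂ) = 0 := by
    intro γ hγ
    by_contra h0
    have hpd : p ∣ Glaub.mult (Glaub.fix A) (θ : Q → ℂ)
        (γ : Glaub.fix A → ℂ) := by
      by_contra hc'
      exact hγ (Glaub.corr_unique hM hAp hcop (hinv θ hθ) hc' hβ)
    have h1 := Finset.single_le_sum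
      (f := fun γ : IrrCharacter (Glaub.fix A) =>
        Glaub.mult (Glaub.fix A) (θ : Q → ℂ) (γ : Glaub.fix A → ℂ) * d' γ)
      (fun _ _ => Nat.zero_le _) (Finset.mem_univ γ)
    rw [← hdeg] at h1
    have h2 := Nat.le_of_dvd (Nat.pos_of_ne_zero h0) hpd
    have h3 := Nat.le_mul_of_pos_right (Glaub.mult (Glaub.fix A) (θ : Q → ℂ)
      (γ : Glaub.fix A → ℂ)) (hd0' γ)
    omega
  rw [Finset.sum_eq_single β (fun γ _ hγ => by rw [hrest γ hγ, zero_mul])
    (fun h => absurd (Finset.mem_univ _) h)] at hdeg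
  have hed : e ≤ d θ := hdeg ▸ Nat.le_mul_of_pos_right e (hd0' β)
  have he1 : e ≠ 1 := by
    intro h1
    refine hθC (Eq.subst (motive := fun f => IsIrrCharacter (Glaub.fix A) f) ?_ β.2)
    funext y
    rw [Glaub.res_expansion (Glaub.fix A) (IsIrr.isCharacter θ.2) y,
      Finset.sum_eq_single β (fun γ _ hγ => by rw [hrest γ hγ, Nat.cast_zero, zero_mul])
        (fun h => absurd (Finset.mem_univ _) h), ← he, h1, Nat.cast_one, one_mul]
  have he0 : e ≠ 0 := fun h => hβ (by rw [← he, h]; exact dvd_zero p)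
  have hep : e + 1 = p := by
    rcases Glaub.corr_sign hM hAp hcop (hinv θ hθ) hβ with h | h
    · obtain ⟨z, hz⟩ := Int.modEq_iff_dvd.1 h
      rw [← he] at hz
      rcases lt_trichotomy z 0 with hz0 | hz0 | hz0
      · have := mul_le_mul_of_nonneg_left (show z ≤ -1 by omega) (Int.natCast_nonneg p)
        omega
      · rw [hz0] at hz; omega
      · have := mul_le_mul_of_nonneg_left (show 1 ≤ z by omega) (Int.natCast_nonneg p)
        omega
    · obtain ⟨z, hz⟩ := Int.modEq_iff_dvd.1 h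
      rw [← he] at hz
      rcases lt_trichotomy z (-1) with hz0 | hz0 | hz0
      · have := mul_le_mul_of_nonneg_left (show z ≤ -2 by omega) (Int.natCast_nonneg p)
        omega
      · rw [hz0] at hz; omega
      · have := mul_le_mul_of_nonneg_left (show 0 ≤ z by omega) (Int.natCast_nonneg p)
        omega
  have hdn : d θ = n := by omega
  have hnp' : n + 1 = p := by omega
  have hn2 : 2 ≤ n := by omega
  have hqpow : ∃ k, n = q ^ k := by
    obtain ⟨j, hj⟩ := IsPGroup.iff_card.1 hQ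
    obtain ⟨f, r, ρ, hρ, rfl⟩ := θ
    haveI := hρ
    have hr : d ⟨ρ.character, r, ρ, hρ, rfl⟩ = r := by
      have := hd ⟨ρ.character, r, ρ, hρ, rfl⟩
      simp only [Representation.char_one, finrank_fin_fun] at this
      exact_mod_cast this.symm
    have hdvd : r ∣ q ^ j := by
      have h5 := degree_dvd_card ρ
      rwa [finrank_fin_fun, hj] at h5
    obtain ⟨k, -, hk⟩ := (Nat.dvd_prime_pow hq).1 hdvd
    exact ⟨k, by rw [← hdn, hr, hk]⟩
  refine ⟨hnp', ?_, ?_⟩
  · obtain ⟨k, hk⟩ := hqpow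
    have hodd := hp.odd_of_ne_two (by omega)
    obtain ⟨r, hr⟩ := hodd
    have h2 : 2 ∣ q ^ k := ⟨r, by rw [← hk]; omega⟩
    rw [((Nat.prime_dvd_prime_iff_eq Nat.prime_two hq).1 (Nat.prime_two.dvd_of_dvd_pow h2)).symm]
      at hk
    exact ⟨k, hk⟩
  · -- a constituent fills the whole degree
    obtain ⟨ω, hω, hωθ⟩ : ∃ ω : IrrCharacter G, classInner χ (ω : G → ℂ) ≠ 0 ∧
        classInner (fun y : Q => (ω : G → ℂ) y) (θ : Q → ℂ) ≠ 0 := by
      by_contra hno
      push Not at hno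
      obtain ⟨a, ha, hadec⟩ := IsChar.exists_decomp_inner hχ
      refine Nat.cast_ne_zero.2 hθ ((hm θ).symm.trans ?_)
      have e : (fun y : Q => χ y) =
          ∑ ω : IrrCharacter G, (a ω : ℂ) • fun y : Q => (ω : G → ℂ) y := by
        funext y
        rw [congrFun hadec (y : G)]
        simp [Finset.sum_apply]
      rw [e, classInner_sum_left]
      refine Finset.sum_eq_zero fun ω _ => ?_
      rw [classInner_smul_left]
      rcases eq_or_ne (classInner χ (ω : G → ℂ)) 0 with h0 | h0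
      · rw [← ha, h0, zero_mul]
      · rw [hno ω h0, mul_zero]
    obtain ⟨w, hw⟩ := IsChar.one_eq_nat (IsIrr.isCharacter ω.2)
    have h1 : w ≤ n := degree_le_of_constituent hχ ω.2 hω hn hw
    have h2 : d θ ≤ w := degree_le_of_constituent (IsChar.res (IsIrr.isCharacter ω.2) Q) θ.2 hωθ
      (show (ω : G → ℂ) ((1 : Q) : G) = w from hw) (hd θ)
    rw [eq_of_constituent_degree hχ ω.2 hω (by rw [hn, hw]; congr 1; omega)]
    exact ω.2

end Cfsg.Agent.Char.ItoSmall
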