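import Cfsg.Agent.Lib.Char.SmallDegreeTools

/-!
Elementary facts about a group in which a subgroup of prime order is normal in every proper subgroup
containing it.
-/

open scoped ComplexConjugate

namespace Cfsg.Agent.Char.SmallDeg

open Cfsg Cfsg.Agent.Block Cfsg.Agent.Char.BP Cfsg.Agent.Char.Spec Cfsg.Agent.Char.DefectOne

set_option linter.unusedSectionVars false
set_option linter.style.haveILetI false

universe u

variable {G : Type u} [Group G] [Fintype G] {p : ℕ} [hp : Fact p.Prime]
variable {P : Subgroup G}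

/-- A subgroup of order `p` normalizing `P` is `P`. -/
theorem eq_of_le_normalizer (hPp : Nat.card P = p) (hsyl : ¬ p ∣ P.index) {Q : Subgroup G}
    (hQ : Nat.card Q = p) (hQN : Q ≤ Subgroup.normalizer (P : Set G)) : Q = P := by
  have hPg : IsPGroup p P := IsPGroup.of_card (n := 1) (by rw [hPp, pow_one])
  have hQg : IsPGroup p Q := IsPGroup.of_card (n := 1) (by rw [hQ, pow_one])
  obtain ⟨S, hS⟩ := (hPg.to_sup_of_normal_left' hQg hQN).exists_le_sylow
  have hfac : (Nat.card G).factorization p = 1 := by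
    rw [← P.card_mul_index, hPp, Nat.factorization_mul hp.out.ne_zero
      Subgroup.index_ne_zero_of_finite, Finsupp.add_apply, hp.out.factorization_self,
      Nat.factorization_eq_zero_of_not_dvd hsyl]
  have hcard : Nat.card (S : Subgroup G) = p := by
    rw [Sylow.card_eq_multiplicity, hfac, pow_one]
  have h1 : P = (S : Subgroup G) :=
    Subgroup.eq_of_le_of_card_ge (le_sup_left.trans hS) (by rw [hcard, hPp])
  have h2 : Q = (S : Subgroup G) :=
    Subgroup.eq_of_le_of_card_ge (le_sup_right.trans hS) (by rw [hcard, hQ])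
  rw [h2, ← h1]

theorem conj_le_normalizer (hPp : Nat.card P = p) (hsyl : ¬ p ∣ P.index) {g : G}
    (h : ∀ u ∈ P, g * u * g⁻¹ ∈ Subgroup.normalizer (P : Set G)) :
    g ∈ Subgroup.normalizer (P : Set G) := by
  have hQ : P.map (MulAut.conj g).toMonoidHom = P := by
    refine eq_of_le_normalizer hPp hsyl ((card_map_conj g P).trans hPp) ?_
    rintro _ ⟨u, hu, rfl⟩
    exact h u hu
  refine Subgroup.mem_normalizer_iff.2 fun u => ?_
  conv_rhs => rw [← hQ]
  exact conj_mem_map_conj.symm

/-- The hypothesis: `P` is normal in each proper subgroup containing it, and not in the group. -/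
structure Minimal (P : Subgroup G) : Prop where
  le_normalizer : ∀ H : Subgroup G, P ≤ H → H ≠ ⊤ → H ≤ Subgroup.normalizer (P : Set G)
  not_normal : ¬ P.Normal

theorem Minimal.center_inter (hPm : Minimal P) (hPp : Nat.card P = p) {u : G} (hu : u ∈ P)
    (huZ : u ∈ Subgroup.center G) : u = 1 := by
  by_contra hu1
  refine hPm.not_normal ⟨fun v hv g => ?_⟩
  rw [← mem_zpowers_of_prime hPp hu hu1] at hv ⊢
  obtain ⟨n, rfl⟩ := Subgroup.mem_zpowers_iff.1 hv
  rw [Subgroup.mem_center_iff.1 (Subgroup.zpow_mem _ huZ n) g, mul_inv_cancel_right]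
  exact Subgroup.zpow_mem_zpowers u n

/-- A normal subgroup containing `P` is the whole group. -/
theorem Minimal.eq_top (hPm : Minimal P) (hPp : Nat.card P = p) (hsyl : ¬ p ∣ P.index)
    {K : Subgroup G} [hK : K.Normal] (hPK : P ≤ K) : K = ⊤ := by
  by_contra hne
  refine hPm.not_normal (Subgroup.normalizer_eq_top_iff.1 (eq_top_iff.2 fun g _ => ?_))
  exact conj_le_normalizer hPp hsyl fun u hu =>
    hPm.le_normalizer K hPK hne (hK.conj_mem u (hPK hu) g)

/-- A character trivial at an element of `P` is principal. -/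
theorem Minimal.eq_trivial (hPm : Minimal P) (hPp : Nat.card P = p) (hsyl : ¬ p ∣ P.index)
    {χ : IrrCharacter G} {u : G} (hu : u ∈ P) (hu1 : u ≠ 1)
    (h : (χ : G → ℂ) u = (χ : G → ℂ) 1) : χ = trivialIrr G := by
  have hc := irr_isChar χ
  haveI := charKer_normal hc
  have htop := hPm.eq_top hPp hsyl (K := charKer hc) (by
    rw [← mem_zpowers_of_prime hPp hu hu1, Subgroup.zpowers_le, mem_charKer hc]
    exact h)
  have hconst : ∀ g, (χ : G → ℂ) g = (χ : G → ℂ) 1 := fun g =>
    (mem_charKer hc).1 (htop ▸ Subgroup.mem_top g)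
  have h1 := classInner_self_irr χ.2
  rw [classInner, inv_mul_eq_one₀ (Nat.cast_ne_zero.2 Nat.card_pos.ne'),
    Finset.sum_congr rfl fun g _ => by rw [hconst g, charDeg_spec', Complex.conj_natCast],
    Finset.sum_const, Finset.card_univ, ← Nat.card_eq_fintype_card, nsmul_eq_mul] at h1
  have h2 : charDegree (χ : G → ℂ) * charDegree (χ : G → ℂ) = 1 := by
    have h3 : (Nat.card G : ℂ) * ((charDegree (χ : G → ℂ) * charDegree (χ : G → ℂ) : ℕ) : ℂ) =
        (Nat.card G : ℂ) * ((1 : ℕ) : ℂ) := by push_cast; linear_combination -h1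
    exact_mod_cast mul_left_cancel₀ (Nat.cast_ne_zero.2 (Nat.card_pos (α := G)).ne') h3
  refine Subtype.ext (funext fun g => ?_)
  rw [hconst g, charDeg_spec', Nat.eq_one_of_mul_eq_one_left h2, Nat.cast_one]
  rfl

/-- The norm bound on the centralizer for a character trivial on the center. -/
theorem Minimal.norm_bound (hPm : Minimal P) (hPp : Nat.card P = p) (hsyl : ¬ p ∣ P.index) {f : ℕ}
    (hf : (CG P).relIndex (Subgroup.normalizer (P : Set G)) = f) [Fintype (CG P)] (ξ : IrrCharacter G)
    (hZ : ∀ z ∈ Subgroup.center G, (ξ : G → ℂ) z = (ξ : G → ℂ) 1) :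
    ∑ c : CG P, Complex.normSq ((ξ : G → ℂ) c) ≤ (f : ℝ) * (Nat.card (CG P) : ℝ) +
      (Nat.card (Subgroup.center G) : ℝ) * (charDegree (ξ : G → ℂ) : ℝ) ^ 2 := by
  classical
  have hPC : P ≤ CG P := le_cg hPp
  have hZC : Subgroup.center G ≤ CG P := Subgroup.center_le_centralizer _
  have hCN : CG P ≤ Subgroup.normalizer (P : Set G) := Subgroup.centralizer_le_normalizer _
  set F : G → ℝ := fun g => Complex.normSq ((ξ : G → ℂ) g)
  set S := Finset.univ.filter (fun g : G => g ∈ CG P ∧ g ∉ Subgroup.center G)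
  have hN : Nat.card (Subgroup.normalizer (P : Set G)) = Nat.card (CG P) * f := by
    rw [← hf, ← ((CG P).subgroupOf (Subgroup.normalizer (P : Set G))).card_mul_index,
      Nat.card_congr (Subgroup.subgroupOfEquivOfLe hCN).toEquiv]
    rfl
  have hS : ∑ g ∈ S, F g ≤ (f : ℝ) * (Nat.card (CG P) : ℝ) := by
    have h := sum_le_normalizer ξ S (Subgroup.normalizer (P : Set G)) fun g y hy hgy => ?_
    · rw [hN, Nat.cast_mul, mul_comm] at h
      exact h
    obtain ⟨-, hy1, hy2⟩ := Finset.mem_filter.1 hy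
    obtain ⟨-, hgy1, hgy2⟩ := Finset.mem_filter.1 hgy
    refine conj_le_normalizer hPp hsyl fun u hu => hPm.le_normalizer
      (Subgroup.centralizer ({g * y * g⁻¹} : Set G)) (fun v hv =>
        Subgroup.mem_centralizer_singleton_iff.2 (Subgroup.mem_centralizer_iff.1 hgy1 v hv))
      (fun htop => hgy2 (Subgroup.mem_center_iff.2 fun t =>
        Subgroup.mem_centralizer_singleton_iff.1 (htop ▸ Subgroup.mem_top t))) ?_
    rw [Subgroup.mem_centralizer_singleton_iff]
    have h1 : u * y = y * u := Subgroup.mem_centralizer_iff.1 hy1 u hu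
    calc g * u * g⁻¹ * (g * y * g⁻¹) = g * (u * y) * g⁻¹ := by group
      _ = g * (y * u) * g⁻¹ := by rw [h1]
      _ = _ := by group
  have hC : ∑ c : CG P, F c = ∑ g ∈ Finset.univ.filter (fun g : G => g ∈ CG P), F g :=
    (Finset.sum_subtype _ (fun g => by simp) F).symm
  have hsplit : ∑ g ∈ Finset.univ.filter (fun g : G => g ∈ CG P), F g =
      ∑ g ∈ S, F g + ∑ g ∈ Finset.univ.filter (fun g : G => g ∈ Subgroup.center G), F g := by
    rw [← Finset.sum_filter_add_sum_filter_not (Finset.univ.filter (fun g : G => g ∈ CG P))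
      (fun g => g ∉ Subgroup.center G), Finset.filter_filter, Finset.filter_filter]
    congr 1
    refine Finset.sum_congr (Finset.filter_congr fun g _ => ?_) fun _ _ => rfl
    exact ⟨fun h => not_not.1 h.2, fun h => ⟨hZC h, not_not.2 h⟩⟩
  have hZsum : ∑ g ∈ Finset.univ.filter (fun g : G => g ∈ Subgroup.center G), F g =
      (Nat.card (Subgroup.center G) : ℝ) * (charDegree (ξ : G → ℂ) : ℝ) ^ 2 := by
    rw [Finset.sum_congr rfl (g := fun _ => (charDegree (ξ : G → ℂ) : ℝ) ^ 2) fun g hg => by
      simp only [F]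
      rw [hZ g (Finset.mem_filter.1 hg).2, charDeg_spec', Complex.normSq_natCast, sq],
      Finset.sum_const, nsmul_eq_mul, ← Fintype.card_subtype, ← Nat.card_eq_fintype_card]
  show ∑ c : CG P, F c ≤ _
  rw [hC, hsplit, hZsum]
  linarith

end Cfsg.Agent.Char.SmallDeg
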