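import Cfsg.Agent.Lib.Char.SmallDegreeSection
import Cfsg.Agent.Lib.Char.SmallDegreeGroup

/-!
The shape of a small faithful character at the Sylow subgroup of prime order, and the lower bound
for the constituents of `φ φ̄` in the principal block.
-/

open scoped ComplexConjugate

namespace Cfsg.Agent.Char.SmallDeg

open Cfsg Cfsg.Agent.Block Cfsg.Agent.Char.BP Cfsg.Agent.Char.Spec Cfsg.Agent.Char.DefectOne

set_option linter.unusedSectionVars false
set_option linter.style.haveILetI false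
set_option maxHeartbeats 1600000

universe u

variable {G : Type u} [Group G] [Fintype G] {p : ℕ} [hp : Fact p.Prime] {M : Ideal AlgInt}
variable {P : Subgroup G} {b : Set (IrrCharacter (CG P))} {θ : IrrCharacter (CG P)}
  {B : Set (IrrCharacter G)} {T : Subgroup G} {u₀ : G} {R : Subgroup (ZMod p)ˣ}
  {X : Finset (IrrCharacter G)} {y : (ZMod p)ˣ ⧸ R → IrrCharacter G} {c : IrrCharacter G → ℤ}
  {ε : ℤ}

/-- The multipliers of the cosets of the stabilizer. -/
theorem exists_multiplier (hPp : Nat.card P = p) (hu₀ : u₀ ∈ P) (hu₁ : u₀ ≠ 1) {N : Subgroup G}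
    (hN : N = Subgroup.normalizer (P : Set G)) (T : Subgroup G) :
    ∃ r : N ⧸ T.subgroupOf N → (ZMod p)ˣ,
      ∀ z, (z.out : G)⁻¹ * u₀ * z.out = pw u₀ (r z : ZMod p) := by
  have hex : ∀ z : N ⧸ T.subgroupOf N, ∃ r : (ZMod p)ˣ,
      (z.out : G)⁻¹ * u₀ * z.out = pw u₀ (r : ZMod p) := by
    intro z
    have hz : (z.out : G)⁻¹ ∈ Subgroup.normalizer (P : Set G) := inv_mem (hN ▸ z.out.2)
    have h : (z.out : G)⁻¹ * u₀ * z.out ∈ P := by
      simpa using (Subgroup.mem_normalizer_iff.1 hz u₀).1 hu₀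
    obtain ⟨i, hi⟩ := exists_pw hPp hu₀ hu₁ h
    refine ⟨Units.mk0 i fun h0 => hu₁ ?_, hi.symm⟩
    rw [h0, pw, ZMod.val_zero, pow_zero] at hi
    have := congrArg (fun w => (z.out : G) * w * (z.out : G)⁻¹) hi
    simpa [mul_assoc] using this.symm
  exact Classical.axiomOfChoice hex

/-- Distinct cosets of the stabilizer move the coset `q` to disjoint sets. -/
theorem exponents_inj (hPp : Nat.card P = p) (hu₀ : u₀ ∈ P) (hu₁ : u₀ ≠ 1) (hθ : θ ∈ b)
    (hT : ∀ g : G, g ∈ T ↔ (g ∈ Subgroup.normalizer (P : Set G) ∧ ∀ c c' : CG P,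
      (c' : G) = g * c * g⁻¹ → (θ : CG P → ℂ) c' = (θ : CG P → ℂ) c))
    (hmem : ∀ r : (ZMod p)ˣ, r ∈ R ↔ ∃ x ∈ T, x * u₀ * x⁻¹ = pw u₀ (r : ZMod p)) {N : Subgroup G}
    (hN : N = Subgroup.normalizer (P : Set G)) {r : N ⧸ T.subgroupOf N → (ZMod p)ˣ}
    (hr : ∀ z, (z.out : G)⁻¹ * u₀ * z.out = pw u₀ (r z : ZMod p)) {q : (ZMod p)ˣ ⧸ R}
    {z w : N ⧸ T.subgroupOf N} {j k : (ZMod p)ˣ} (hj : (j : (ZMod p)ˣ ⧸ R) = q)
    (hk : (k : (ZMod p)ˣ ⧸ R) = q) (h : r z * j = r w * k) : z = w ∧ j = k := by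
  have hkj : k * j⁻¹ ∈ R := by
    rw [mul_comm, ← QuotientGroup.eq, hj, hk]
  obtain ⟨x, hxT, hx⟩ := (hmem _).1 hkj
  have h1 : r z = (k * j⁻¹) * r w := by
    rw [eq_comm, mul_comm, ← mul_assoc, ← h, mul_inv_cancel_right]
  -- both conjugations of `u₀` agree
  have h2 : (z.out : G)⁻¹ * u₀ * z.out = x * ((w.out : G)⁻¹ * u₀ * w.out) * x⁻¹ := by
    rw [hr z, hr w, conj_pw hPp hu₀ hu₁ hx, h1, Units.val_mul]
  have h3 : (w.out : G) * x⁻¹ * (z.out : G)⁻¹ ∈ CG P := by
    refine Subgroup.mem_centralizer_iff.2 fun v hv => ?_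
    rw [← mem_zpowers_of_prime hPp hu₀ hu₁] at hv
    obtain ⟨n, rfl⟩ := Subgroup.mem_zpowers_iff.1 hv
    refine (Commute.zpow_left ?_ n).eq
    show u₀ * ((w.out : G) * x⁻¹ * (z.out : G)⁻¹) = (w.out : G) * x⁻¹ * (z.out : G)⁻¹ * u₀
    calc u₀ * ((w.out : G) * x⁻¹ * (z.out : G)⁻¹)
        = (w.out : G) * x⁻¹ * (x * ((w.out : G)⁻¹ * u₀ * w.out) * x⁻¹) * (z.out : G)⁻¹ := by group
      _ = (w.out : G) * x⁻¹ * ((z.out : G)⁻¹ * u₀ * z.out) * (z.out : G)⁻¹ := by rw [h2]
      _ = _ := by group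
  have hzN : (z.out : G) ∈ Subgroup.normalizer (P : Set G) := hN ▸ z.out.2
  have h4 : (z.out : G)⁻¹ * ((w.out : G) * x⁻¹ * (z.out : G)⁻¹) * z.out ∈ CG P := by
    have := (centEquiv (inv_mem hzN) ⟨_, h3⟩).2
    rwa [centEquiv_val, inv_inv] at this
  have hzw : z = w := by
    rw [← QuotientGroup.out_eq' z, ← QuotientGroup.out_eq' w, QuotientGroup.eq,
      Subgroup.mem_subgroupOf]
    have h5 := mul_mem (cg_le_T hθ hT h4) hxT
    rw [show (z.out : G)⁻¹ * ((w.out : G) * x⁻¹ * (z.out : G)⁻¹) * z.out * x =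
      (z.out : G)⁻¹ * w.out by group] at h5
    exact h5
  subst hzw
  exact ⟨rfl, mul_left_cancel h⟩

/-- The shape of a faithful character of degree below `(p - 1) / 2`. -/
theorem exists_shape (hM : IsPModular p M) (hPm : Minimal P) (hPp : Nat.card P = p)
    (hsyl : ¬ p ∣ P.index) (hθ : θ ∈ b)
    (hθP : ∀ x : CG P, (x : G) ∈ P → (θ : CG P → ℂ) x = (θ : CG P → ℂ) 1)
    (haB : OfB p M B (⟨P, b⟩ : BrauerPairIdx G))
    (hT : ∀ g : G, g ∈ T ↔ (g ∈ Subgroup.normalizer (P : Set G) ∧ ∀ c c' : CG P,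
      (c' : G) = g * c * g⁻¹ → (θ : CG P → ℂ) c' = (θ : CG P → ℂ) c))
    (hu₀ : u₀ ∈ P) (hu₁ : u₀ ≠ 1) (hD : Data M P B b θ T u₀ R X y c ε) {φ : IrrCharacter G}
    (hφ : φ ∈ B) (hfaith : ∀ g, (φ : G → ℂ) g = (φ : G → ℂ) 1 → g = 1)
    (hsmall : 2 * charDegree (φ : G → ℂ) + 3 ≤ p) {f : ℕ}
    (hf : (CG P).relIndex (Subgroup.normalizer (P : Set G)) = f) (hfdvd : f ∣ p - 1) :
    ε = 1 ∧ ∃ (q : (ZMod p)ˣ ⧸ R) (O : Finset (ZMod p)), φ = y q ∧ O.card = f ∧
      charDegree (φ : G → ℂ) = f * charDegree (θ : CG P → ℂ) ∧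
      ∀ i : ZMod p, (φ : G → ℂ) (pw u₀ i) =
        (charDegree (θ : CG P → ℂ) : ℂ) * ∑ l ∈ O, ψc (i * l) := by
  classical
  set d := charDegree (φ : G → ℂ) with hd
  set θd := charDegree (θ : CG P → ℂ) with hθd
  set N := Subgroup.normalizer (P : Set G) with hN
  letI : Fintype (N ⧸ T.subgroupOf N) := Fintype.ofFinite _
  obtain ⟨m, hm⟩ := exists_pmult hPp hu₀ hu₁ (irr_isChar φ)
  have hpw0 : pw u₀ (0 : ZMod p) = 1 := by simp [pw]
  have hsum : ∑ l, m l = d := by
    have h := hm 0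
    rw [hpw0, charDeg_spec'] at h
    simp only [zero_mul, AddChar.map_zero_eq_one, mul_one, ← Nat.cast_sum] at h
    exact (Nat.cast_injective h).symm
  have hkill : ¬ ∀ l, l ≠ 0 → m l = 0 := by
    intro h
    refine hu₁ (hfaith u₀ ?_)
    rw [← pw_one hPp hu₀ hu₁, ← hpw0, hm, hm]
    refine Finset.sum_congr rfl fun l _ => ?_
    by_cases hl : l = 0
    · simp [hl]
    · simp [h l hl]
  have hbig : ¬ ∀ l, l ≠ 0 → 1 ≤ m l := by
    intro h
    have h1 : ∑ _l ∈ Finset.univ.erase (0 : ZMod p), 1 ≤ d := by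
      rw [← hsum]
      exact (Finset.sum_le_sum fun l hl => h l (Finset.ne_of_mem_erase hl)).trans
        (Finset.sum_le_sum_of_subset (Finset.erase_subset _ _))
    rw [Finset.sum_const, smul_eq_mul, mul_one, Finset.card_erase_of_mem (Finset.mem_univ _),
      Finset.card_univ, ZMod.card] at h1
    omega
  have h1r : ¬ p ∣ orderOf (1 : CG P) := by rw [orderOf_one]; exact hp.out.not_dvd_one
  rcases (hD.mem_iff φ).1 hφ with hX | ⟨q, hq⟩
  · exfalso
    set K : ℂ := -(c φ : ℂ) * ∑ z : N ⧸ T.subgroupOf N,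
      extendByZero (CG P) (θ : CG P → ℂ) ((z.out : G)⁻¹ * ((1 : CG P) : G) * z.out)
    have hconst : ∀ l, (m l : ℂ) - (if l = 0 then K else 0) =
        (m 0 : ℂ) - (if (0 : ZMod p) = 0 then K else 0) := fun l => by
      refine diff_eq (f := fun l => (m l : ℂ)) (g := fun l => if l = 0 then K else 0) (fun i hi => ?_) l
      rw [← hm, show pw u₀ i = pw u₀ i * ((1 : CG P) : G) by simp,
        value_X hM hPp hsyl hθ hθP haB hT hu₀ hu₁ hD hN hX (pw_mem hPp hu₀ hu₁ i)
          (pw_ne_one hPp hu₀ hu₁ hi) h1r]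
      simp only [ite_mul, zero_mul, Finset.sum_ite_eq', Finset.mem_univ, if_true, mul_zero,
        AddChar.map_zero_eq_one, mul_one]
      rfl
    have heq : ∀ l l' : ZMod p, l ≠ 0 → l' ≠ 0 → m l = m l' := fun l l' hl hl' => by
      have h1 := hconst l
      have h2 := hconst l'
      rw [if_neg hl, sub_zero] at h1
      rw [if_neg hl', sub_zero] at h2
      exact Nat.cast_injective (R := ℂ) (h1.trans h2.symm)
    by_cases h1 : m 1 = 0
    · exact hkill fun l hl => (heq l 1 hl one_ne_zero).trans h1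
    · exact hbig fun l hl => by rw [heq l 1 hl one_ne_zero]; omega
  obtain ⟨r, hr⟩ := exists_multiplier hPp hu₀ hu₁ hN T
  set J := (Finset.univ : Finset (N ⧸ T.subgroupOf N)) ×ˢ
    (Finset.univ.filter fun j : (ZMod p)ˣ => (j : (ZMod p)ˣ ⧸ R) = q)
  set ι : (N ⧸ T.subgroupOf N) × (ZMod p)ˣ → ZMod p := fun a => ((r a.1 * a.2 : (ZMod p)ˣ) : ZMod p)
  have hinj : Set.InjOn ι J := by
    rintro ⟨z, j⟩ ha ⟨w, k⟩ hb h
    obtain ⟨-, hj⟩ := Finset.mem_product.1 (Finset.mem_coe.1 ha)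
    obtain ⟨-, hk⟩ := Finset.mem_product.1 (Finset.mem_coe.1 hb)
    obtain ⟨h1, h2⟩ := exponents_inj hPp hu₀ hu₁ hθ hT hD.mem_R hN hr (Finset.mem_filter.1 hj).2
      (Finset.mem_filter.1 hk).2 (Units.ext h)
    exact Prod.ext h1 h2
  have hcoset : (Finset.univ.filter fun j : (ZMod p)ˣ => (j : (ZMod p)ˣ ⧸ R) = q).card =
      Nat.card R := by
    rw [Nat.card_eq_fintype_card, ← Finset.card_univ]
    symm
    refine Finset.card_bij (fun (r : R) _ => q.out * (r : (ZMod p)ˣ)) (fun r _ => ?_)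
      (fun r _ r' _ h => Subtype.ext (mul_left_cancel h)) fun j hj => ?_
    · refine Finset.mem_filter.2 ⟨Finset.mem_univ _, ?_⟩
      rw [QuotientGroup.mk_mul_of_mem _ r.2, QuotientGroup.out_eq']
    · refine ⟨⟨q.out⁻¹ * j, ?_⟩, Finset.mem_univ _, mul_inv_cancel_left _ _⟩
      rw [← QuotientGroup.eq, QuotientGroup.out_eq', (Finset.mem_filter.1 hj).2]
  set O := J.image ι
  have hOcard : O.card = f := by
    rw [Finset.card_image_of_injOn hinj, Finset.card_product, Finset.card_univ,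
      ← Nat.card_eq_fintype_card, hcoset, hD.card_R, ← hf,
      ← Subgroup.relIndex_mul_relIndex _ T _ (cg_le_T hθ hT) (fun g hg => ((hT g).1 hg).1), mul_comm]
    rfl
  have hO0 : (0 : ZMod p) ∉ O := fun h => by
    obtain ⟨a, -, ha⟩ := Finset.mem_image.1 h
    exact (r a.1 * a.2).ne_zero ha
  have hval : ∀ i : ZMod p, i ≠ 0 → (φ : G → ℂ) (pw u₀ i) =
      ∑ l, (if l ∈ O then (ε : ℂ) * (θd : ℂ) else 0) * ψc (i * l) := by
    intro i hi
    rw [← hq, show pw u₀ i = pw u₀ i * ((1 : CG P) : G) by simp,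
      value_Y hM hPp hsyl hθ hθP haB hT hu₀ hu₁ hD hN hr q hi h1r]
    simp only [ite_mul, zero_mul, ← Finset.sum_filter, Finset.filter_mem_eq_inter, Finset.univ_inter,
      O]
    rw [Finset.sum_image hinj, Finset.sum_product, Finset.mul_sum]
    refine Finset.sum_congr rfl fun z _ => ?_
    rw [OneMemClass.coe_one, mul_one, inv_mul_cancel, extendByZero_of_mem _ (one_mem _),
      Finset.sum_filter, cosum, Finset.sum_mul, Finset.mul_sum]
    refine Finset.sum_congr rfl fun j _ => ?_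
    split
    · rw [show (⟨1, one_mem _⟩ : CG P) = 1 from rfl, charDeg_spec']
      simp only [ι, Units.val_mul, mul_assoc]
      ring
    · rw [zero_mul, mul_zero]
  have hdiff : ∀ l, (m l : ℤ) - (if l ∈ O then ε * θd else 0) = m 0 := fun l => by
    have h := diff_eq (f := fun l => (m l : ℂ))
      (g := fun l => if l ∈ O then (ε : ℂ) * (θd : ℂ) else 0) (fun i hi => by rw [← hm, hval i hi]) l
    rw [if_neg hO0, sub_zero] at h
    apply Int.cast_injective (α := ℂ)
    push_cast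
    exact h
  have hdeg : (d : ℤ) = (p : ℤ) * m 0 + ε * θd * f := by
    have h : ∑ l, ((m l : ℤ) - (if l ∈ O then ε * θd else 0)) = ∑ _l : ZMod p, (m 0 : ℤ) :=
      Finset.sum_congr rfl fun l _ => hdiff l
    rw [Finset.sum_sub_distrib, ← Nat.cast_sum, hsum, Finset.sum_const, Finset.card_univ, ZMod.card,
      nsmul_eq_mul, Finset.sum_ite_mem, Finset.univ_inter, Finset.sum_const, hOcard,
      nsmul_eq_mul] at h
    linarith
  have hθpos : 0 < θd := charDeg_pos θ
  rcases hD.ε_sign with hε | hε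
  swap
  · exfalso
    have hfpos : 0 < f := Nat.pos_of_dvd_of_pos hfdvd (by have := hp.out.two_le; omega)
    obtain ⟨l₀, hl₀⟩ := Finset.card_pos.1 (hOcard ▸ hfpos)
    have h0 := hdiff l₀
    rw [if_pos hl₀, hε] at h0
    have hm0 : θd ≤ m 0 := by omega
    by_cases hfp : f = p - 1
    · have hall : ∀ l, l ≠ 0 → l ∈ O := fun l hl => by
        have h1 : O = Finset.univ.erase 0 := Finset.eq_of_subset_of_card_le
          (fun l hl' => Finset.mem_erase.2 ⟨fun h => hO0 (h ▸ hl'), Finset.mem_univ _⟩)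
          (by rw [Finset.card_erase_of_mem (Finset.mem_univ _), Finset.card_univ, ZMod.card, hOcard, hfp])
        rw [h1]
        exact Finset.mem_erase.2 ⟨hl, Finset.mem_univ _⟩
      rcases Nat.eq_or_lt_of_le hm0 with he | he
      · refine hkill fun l hl => ?_
        have := hdiff l
        rw [if_pos (hall l hl), hε] at this
        omega
      · refine hbig fun l hl => ?_
        have := hdiff l
        rw [if_pos (hall l hl), hε] at this
        omega
    · obtain ⟨t, ht⟩ := hfdvd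
      have ht2 : 2 ≤ t := by
        by_contra h
        interval_cases t
        · have := hp.out.two_le
          omega
        · exact hfp (by omega)
      have h2f : 2 * f ≤ p - 1 := by rw [ht, mul_comm 2 f]; exact Nat.mul_le_mul_left f ht2
      have h2 : (2 * f : ℤ) ≤ p - 1 := by omega
      have h3 : (2 * d + 3 : ℤ) ≤ p := by exact_mod_cast hsmall
      have h4 : (1 : ℤ) ≤ θd := by exact_mod_cast hθpos
      have h5 : (θd : ℤ) ≤ m 0 := by exact_mod_cast hm0
      rw [hε] at hdeg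
      nlinarith
  refine ⟨hε, q, O, hq.symm, hOcard, ?_, fun i => ?_⟩
  · rw [hε] at hdeg
    have hm00 : m 0 = 0 := by
      by_contra h
      have : p ≤ p * m 0 := Nat.le_mul_of_pos_right p (Nat.pos_of_ne_zero h)
      have h' : (p : ℤ) ≤ p * m 0 := by exact_mod_cast this
      have h3 : (2 * d + 3 : ℤ) ≤ p := by exact_mod_cast hsmall
      have h4 : (0 : ℤ) ≤ θd * f := by positivity
      linarith
    rw [hm00] at hdeg
    have : (d : ℤ) = ((f * θd : ℕ) : ℤ) := by push_cast at hdeg ⊢; linarith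
    exact_mod_cast this
  · have hm00 : m 0 = 0 := by
      by_contra h
      rw [hε] at hdeg
      have : p ≤ p * m 0 := Nat.le_mul_of_pos_right p (Nat.pos_of_ne_zero h)
      have h' : (p : ℤ) ≤ p * m 0 := by exact_mod_cast this
      have h3 : (2 * d + 3 : ℤ) ≤ p := by exact_mod_cast hsmall
      have h4 : (0 : ℤ) ≤ θd * f := by positivity
      linarith
    rw [hm, Finset.mul_sum, ← Finset.sum_subset (Finset.subset_univ O) fun l _ hl => ?_]
    · refine Finset.sum_congr rfl fun l hl => ?_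
      have h := hdiff l
      rw [if_pos hl, hε, hm00] at h
      have h' : m l = θd := by omega
      rw [h']
    · have h := hdiff l
      rw [if_neg hl, hm00] at h
      have h' : m l = 0 := by omega
      rw [h', Nat.cast_zero, zero_mul]

end Cfsg.Agent.Char.SmallDeg
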