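import Cfsg.Agent.Lib.Block.CentralDefect
import Cfsg.Agent.Lib.Block.ClassMul
import Cfsg.Agent.Lib.Block.Covering
import Cfsg.Agent.Lib.Char.ExtendMain
import Cfsg.Agent.Lib.Char.Kernel
import Cfsg.Agent.Lib.Grp.Basic

/-!
Pairs carrying a weight: the centre is the defect group, and the subgroup is the largest normal
`p`-subgroup of the stabiliser.
-/

open scoped ComplexConjugate

namespace Cfsg.Agent.Char.WeightPair

open Cfsg Cfsg.Agent.Block Cfsg.Agent.Char

set_option linter.unusedSectionVars false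
set_option linter.style.haveILetI false

universe u

variable {T : Type u} [Group T] [Finite T] {p : ℕ}

/-- A constituent on a normal subgroup of a character trivial on a smaller one. -/
theorem constituent_data [Fact p.Prime] (χ : IrrCharacter T) (Q H : Subgroup T) [H.Normal]
    [Fintype H] (hQH : Q ≤ H) (hker : ∀ q ∈ Q, (χ : T → ℂ) q = (χ : T → ℂ) 1) :
    ∃ η : IrrCharacter H, classInner (fun h : H => (χ : T → ℂ) h) (η : H → ℂ) ≠ 0 ∧
      (∀ q (hq : q ∈ Q), (η : H → ℂ) ⟨q, hQH hq⟩ = (η : H → ℂ) 1) ∧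
      (charDegree (χ : T → ℂ)).factorization p + (Nat.card H).factorization p ≤
        (charDegree (η : H → ℂ)).factorization p + (Nat.card T).factorization p := by
  classical
  cases nonempty_fintype T
  obtain ⟨η, hη⟩ := exists_constituent_res (N := H) χ
  refine ⟨η, hη, fun q hq => constituent_ker (IsChar.res (IsIrr.isCharacter χ.2) H) η.2 hη
    (g := ⟨q, hQH hq⟩) (hker q hq), ?_⟩
  obtain ⟨k, hk, hkd⟩ := Ext.ratio_dvd_index' χ.2 η.2 hη
  have h1 : charDegree (χ : T → ℂ) = k * charDegree (η : H → ℂ) := by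
    rw [charDeg_spec' χ, charDeg_spec' η] at hk
    exact_mod_cast hk
  have hidx : H.index ≠ 0 := Subgroup.index_ne_zero_of_finite
  have hk0 : k ≠ 0 := fun h => hidx (Nat.eq_zero_of_zero_dvd (h ▸ hkd))
  rw [h1, Nat.factorization_mul hk0 (charDeg_pos η).ne', ← Subgroup.card_mul_index H,
    Nat.factorization_mul Nat.card_pos.ne' hidx]
  simp only [Finsupp.coe_add, Pi.add_apply]
  have h2 : k.factorization p ≤ H.index.factorization p :=
    (Nat.factorization_le_iff_dvd hk0 hidx).2 hkd p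
  omega

/-- A character of defect zero modulo `Q` leaves no larger normal `p`-subgroup. -/
theorem eq_of_defectZero [Fact p.Prime] (χ : IrrCharacter T) (Q H : Subgroup T) [Q.Normal]
    [H.Normal] (hQH : Q ≤ H) (hH : IsPGroup p H)
    (hker : ∀ q ∈ Q, (χ : T → ℂ) q = (χ : T → ℂ) 1)
    (hdeg : (charDegree (χ : T → ℂ)).factorization p + (Nat.card Q).factorization p =
      (Nat.card T).factorization p) : H = Q := by
  classical
  have hp : p.Prime := Fact.out
  letI : Fintype H := Fintype.ofFinite _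
  obtain ⟨η, -, hηker, hle⟩ := constituent_data (p := p) χ Q H hQH hker
  set Q' : Subgroup H := Q.subgroupOf H
  haveI : Q'.Normal := Subgroup.Normal.subgroupOf inferInstance _
  letI : Fintype (H ⧸ Q') := Fintype.ofFinite _
  obtain ⟨ψ, hψ, hψη⟩ := IsIrr.exists_factor_quotient η.2 Q' fun k hk => hηker (k : T) hk
  have hcardQ' : Nat.card Q' = Nat.card Q :=
    Nat.card_congr (Subgroup.subgroupOfEquivOfLe hQH).toEquiv
  obtain ⟨m, hm⟩ := (IsPGroup.iff_card.1 (hH.to_quotient Q'))
  have hψdeg : ψ 1 = (charDegree (η : H → ℂ) : ℂ) := by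
    rw [← charDeg_spec' η, ← hψη, QuotientGroup.mk_one]
  obtain ⟨i, -, hi⟩ := (Nat.dvd_prime_pow hp).1 (hm ▸ IsIrr.degree_dvd_card hψ hψdeg)
  have hsq : charDegree (η : H → ℂ) ^ 2 ≤ p ^ m := by
    rw [← hm]
    have hspec : ∀ φ : IrrCharacter (H ⧸ Q'),
        (φ : H ⧸ Q' → ℂ) 1 ^ 2 = ((charDegree (φ : H ⧸ Q' → ℂ) ^ 2 : ℕ) : ℂ) := fun φ => by
      rw [charDeg_spec' φ]; push_cast; rfl
    have h := sum_degree_sq (G := H ⧸ Q')
    simp only [hspec] at h
    rw [← Nat.cast_sum, Nat.cast_inj] at h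
    rw [← h]
    have e : charDegree ψ = charDegree (η : H → ℂ) := by
      rw [charDegree, hψdeg]
      simp
    rw [← e]
    exact Finset.single_le_sum
      (f := fun φ : IrrCharacter (H ⧸ Q') => charDegree (φ : H ⧸ Q' → ℂ) ^ 2)
      (fun φ _ => Nat.zero_le _) (Finset.mem_univ (⟨ψ, hψ⟩ : IrrCharacter (H ⧸ Q')))
  rw [hi, ← pow_mul] at hsq
  have h2i : i * 2 ≤ m := (Nat.pow_le_pow_iff_right hp.one_lt).1 hsq
  have hcardH : Nat.card H = p ^ m * Nat.card Q := by
    rw [Subgroup.card_eq_card_quotient_mul_card_subgroup Q', hm, hcardQ']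
  rw [hcardH, hi, Nat.factorization_mul (pow_ne_zero _ hp.ne_zero) Nat.card_pos.ne',
    Nat.factorization_pow, Nat.factorization_pow] at hle
  simp only [Finsupp.coe_add, Pi.add_apply, Finsupp.coe_smul, Pi.smul_apply, smul_eq_mul,
    hp.factorization_self, mul_one] at hle
  have hm0 : m = 0 := by omega
  rw [hm0, pow_zero, one_mul] at hcardH
  exact (Subgroup.eq_of_le_of_card_ge hQH hcardH.le).symm

/-- Restriction to a normal subgroup keeps the characters of a block supported there inside it. -/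
theorem mem_of_constituent [Fintype T] {K : Type u} [Group K] [Fintype K] (j : K →* T)
    (hj : Function.Injective j) {F' : Set (IrrCharacter T)} {e : Set (IrrCharacter K)}
    (hcoe : ∀ c : K, blockCoeff F' (j c) = blockCoeff e c)
    (hsupp : ∀ t : T, t ∉ j.range → blockCoeff F' t = 0)
    {χ : IrrCharacter T} (hχ : χ ∈ F') {θ : IrrCharacter K}
    (hθ : classInner (fun c : K => (χ : T → ℂ) (j c)) (θ : K → ℂ) ≠ 0) : θ ∈ e := by
  classical
  have hω := omegaFun_coeffFun (blockInd F') χ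
  rw [blockInd_of_mem hχ, omegaFun, div_eq_one_iff_eq (irr_one_ne_zero χ)] at hω
  simp only [← blockCoeff_eq] at hω
  have h1 : ∑ c : K, blockCoeff e c * (χ : T → ℂ) (j c) = (χ : T → ℂ) 1 := by
    rw [← hω]
    refine Finset.sum_of_injOn j (fun a _ b _ h => hj h) (fun _ _ => Finset.mem_univ _)
      (fun t _ ht => ?_) (fun c _ => by rw [hcoe])
    rw [hsupp t (fun ⟨c, hc⟩ => ht ⟨c, Finset.mem_coe.2 (Finset.mem_univ c), hc⟩), zero_mul]
  have hχc : IsCharacter K (fun c => (χ : T → ℂ) (j c)) := IsChar.comp j (IsIrr.isCharacter χ.2)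
  have hn : ∀ φ : IrrCharacter K, ∃ k : ℕ,
      classInner (fun c => (χ : T → ℂ) (j c)) (φ : K → ℂ) = k := fun φ =>
    IsChar.classInner_nat hχc (IsIrr.isCharacter φ.2)
  choose a ha using hn
  have hexp : ∀ c, (χ : T → ℂ) (j c) = ∑ φ : IrrCharacter K, (a φ : ℂ) * (φ : K → ℂ) c := fun c => by
    have := congrFun (classFunction_expansion (IsChar.classFun hχc)) c
    simp only [Finset.sum_apply, Pi.smul_apply, smul_eq_mul, ha] at this
    exact this
  have homega : ∀ φ : IrrCharacter K,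
      ∑ c : K, blockCoeff e c * (φ : K → ℂ) c = blockInd e φ * (φ : K → ℂ) 1 := fun φ => by
    have h := omegaFun_coeffFun (blockInd e) φ
    rw [omegaFun, div_eq_iff (irr_one_ne_zero φ)] at h
    simp only [← blockCoeff_eq] at h
    exact h
  have h2 : ∑ φ : IrrCharacter K, (a φ : ℂ) * (blockInd e φ * (φ : K → ℂ) 1) =
      ∑ φ : IrrCharacter K, (a φ : ℂ) * (φ : K → ℂ) 1 := by
    rw [← hexp, map_one, ← h1]
    simp only [← homega, hexp, Finset.mul_sum]
    rw [Finset.sum_comm]
    exact Finset.sum_congr rfl fun c _ => Finset.sum_congr rfl fun φ _ => by ring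
  by_contra hne
  have h3 : (∑ φ : IrrCharacter K, if φ ∈ e then 0 else a φ * charDegree (φ : K → ℂ) : ℕ) = 0 := by
    have h4 : ∑ φ : IrrCharacter K,
        ((a φ : ℂ) * (φ : K → ℂ) 1 - (a φ : ℂ) * (blockInd e φ * (φ : K → ℂ) 1)) = 0 := by
      rw [Finset.sum_sub_distrib, h2, sub_self]
    refine Nat.cast_injective (R := ℂ) ?_
    rw [Nat.cast_zero, Nat.cast_sum, ← h4]
    refine Finset.sum_congr rfl fun φ _ => ?_
    by_cases hφ : φ ∈ e
    · rw [if_pos hφ, blockInd_of_mem hφ]; simp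
    · rw [if_neg hφ, blockInd_of_notMem hφ, Nat.cast_mul, ← charDeg_spec' φ]; ring
  have := (Finset.sum_eq_zero_iff.1 h3) θ (Finset.mem_univ _)
  rw [if_neg hne, mul_eq_zero] at this
  refine hθ ?_
  rw [ha, this.resolve_right (charDeg_pos θ).ne', Nat.cast_zero]

/-- A subgroup covering the quotient carries an irreducible constituent of full defect. -/
theorem exists_full_constituent [Fact p.Prime] (χ : IrrCharacter T) {K : Type u} [Group K]
    [Fintype K] (j : K →* T) (Q H : Subgroup T) [Q.Normal] [H.Normal] (hQH : Q ≤ H)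
    (hjH : ∀ c, j c ∈ H) (hcov : ∀ h ∈ H, ∃ c, (j c)⁻¹ * h ∈ Q)
    (hker : ∀ q ∈ Q, (χ : T → ℂ) q = (χ : T → ℂ) 1) :
    ∃ θ : IrrCharacter K, classInner (fun c => (χ : T → ℂ) (j c)) (θ : K → ℂ) ≠ 0 ∧
      (∀ c, j c ∈ Q → (θ : K → ℂ) c = (θ : K → ℂ) 1) ∧
      (charDegree (χ : T → ℂ)).factorization p + (Nat.card H).factorization p ≤
        (charDegree (θ : K → ℂ)).factorization p + (Nat.card T).factorization p := by
  classical
  letI : Fintype H := Fintype.ofFinite _
  obtain ⟨η, hη, hηker, hle⟩ := constituent_data (p := p) χ Q H hQH hker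
  set Q' : Subgroup H := Q.subgroupOf H
  haveI : Q'.Normal := Subgroup.Normal.subgroupOf inferInstance _
  letI : Fintype (H ⧸ Q') := Fintype.ofFinite _
  obtain ⟨ψ, hψ, hψη⟩ := IsIrr.exists_factor_quotient η.2 Q' fun k hk => hηker (k : T) hk
  obtain ⟨χ', hχ', hχ'e⟩ := IsChar.exists_factor (IsChar.res (IsIrr.isCharacter χ.2) H)
    (QuotientGroup.mk' Q') (QuotientGroup.mk'_surjective Q') fun k hk =>
      hker (k : T) ((QuotientGroup.eq_one_iff k).1 hk)
  set ι : K →* H ⧸ Q' := (QuotientGroup.mk' Q').comp (j.codRestrict H hjH)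
  have hι : Function.Surjective ι := fun x => by
    obtain ⟨⟨h, hh⟩, rfl⟩ := QuotientGroup.mk_surjective x
    obtain ⟨c, hc⟩ := hcov h hh
    exact ⟨c, (QuotientGroup.eq (s := Q')).2 hc⟩
  refine ⟨⟨fun c => ψ (ι c), IsIrr.comp_surjective ι hι hψ⟩, ?_, fun c hc => ?_, ?_⟩
  · have e1 : (fun c => (χ : T → ℂ) (j c)) = fun c => χ' (ι c) :=
      funext fun c => (hχ'e ⟨j c, hjH c⟩).symm
    rw [e1]
    show classInner (fun c => χ' (ι c)) (fun c => ψ (ι c)) ≠ 0
    rw [classInner_comp_surjective ι hι,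
      ← classInner_comp_surjective (QuotientGroup.mk' Q') (QuotientGroup.mk'_surjective Q')]
    simp only [hχ'e]
    simp only [QuotientGroup.mk'_apply, hψη]
    exact hη
  · show ψ (ι c) = ψ (ι 1)
    rw [map_one, show ι c = 1 from (QuotientGroup.eq_one_iff _).2 hc]
  · have e : charDegree (fun c => ψ (ι c)) = charDegree (η : H → ℂ) := by
      simp only [charDegree, map_one, ← hψη, QuotientGroup.mk_one]
    show _ ≤ (charDegree (fun c => ψ (ι c))).factorization p + _
    rw [e]
    exact hle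

/-- The degree of a character with a subgroup in its kernel divides the index. -/
theorem degree_dvd_index {K : Type u} [Group K] [Finite K] (θ : IrrCharacter K) (Z : Subgroup K)
    [Z.Normal] (hker : ∀ z ∈ Z, (θ : K → ℂ) z = (θ : K → ℂ) 1) :
    charDegree (θ : K → ℂ) ∣ Z.index := by
  cases nonempty_fintype (K ⧸ Z)
  obtain ⟨ψ, hψ, hψθ⟩ := IsIrr.exists_factor_quotient θ.2 Z hker
  exact IsIrr.degree_dvd_card hψ (n := charDegree (θ : K → ℂ))
    (by rw [← charDeg_spec' θ, ← hψθ, QuotientGroup.mk_one])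

end Cfsg.Agent.Char.WeightPair
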