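import Cfsg.Agent.Lib.Char.InductionRing
import Cfsg.Agent.Lib.Char.CliffordCorr
import Mathlib.GroupTheory.Nilpotent

/-!
Monomiality of nilpotent groups and Brauer's induction theorem.
-/

namespace Cfsg.Agent.Char.Brauer

open scoped ComplexConjugate Pointwise
open Cfsg Cfsg.Agent.Char

set_option linter.unusedSectionVars false
set_option linter.style.haveILetI false

universe u

/-- Induction from the whole group. -/
theorem indFun_top {G : Type u} [Group G] [Fintype G] {f : G → ℂ} (hf : IsClassFunction G f) :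
    indFun (⊤ : Subgroup G) (fun x : (⊤ : Subgroup G) => f x) = f := by
  funext g
  rw [indFun, Finset.sum_congr rfl fun x _ => (extendByZero_of_mem _ (Subgroup.mem_top _)).trans
    (show f (x⁻¹ * g * x) = f g by simpa using hf g x⁻¹), Finset.sum_const, Finset.card_univ,
    nsmul_eq_mul, ← Nat.card_eq_fintype_card, Subgroup.card_top, ← mul_assoc,
    inv_mul_cancel₀ (Nat.cast_ne_zero.mpr Nat.card_pos.ne'), one_mul]

/-! ### Nilpotent groups are monomial -/

theorem monomial_aux : ∀ (n : ℕ) (G : Type u) [Group G] [Fintype G], Nat.card G ≤ n →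
    Group.IsNilpotent G → ∀ χ : G → ℂ, IsIrrCharacter G χ →
      ∃ (H : Subgroup G) (l : H →* ℂˣ), χ = indFun H (fun h => (l h : ℂ)) := by
  intro n
  induction n with
  | zero => intro G _ _ hn; exact absurd hn (not_le_of_gt Nat.card_pos)
  | succ n ih =>
    intro G _ _ hn hnil χ hχ
    classical
    set K := charKer (IsIrr.isCharacter hχ) with hKdef
    haveI : K.Normal := charKer_normal _
    by_cases hab : ∀ a b : G ⧸ K, a * b = b * a
    · obtain ⟨ψ, hψ, hψχ⟩ := IsIrr.exists_factor_quotient hχ K fun k hk =>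
        (mem_charKer _).1 hk
      have h1 : χ 1 = 1 := by
        rw [← hψχ 1, QuotientGroup.mk_one]; exact IsIrr.one_of_comm hab hψ
      obtain ⟨l, hl⟩ := linearHom_of_isCharacter (IsIrr.isCharacter hχ) h1
      refine ⟨⊤, l.comp (⊤ : Subgroup G).subtype, ?_⟩
      rw [← indFun_top (IsIrr.classFun hχ)]
      congr 1
      funext x
      exact congrFun hl x
    -- a noncentral normal subgroup, abelian modulo the kernel
    haveI := hnil
    set π := QuotientGroup.mk' K
    obtain ⟨q, hq2, hq1⟩ : ∃ q : G ⧸ K, (∀ y, q * y * q⁻¹ * y⁻¹ ∈ Subgroup.center (G ⧸ K)) ∧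
        q ∉ Subgroup.center (G ⧸ K) := by
      haveI : Group.IsNilpotent (G ⧸ K) := inferInstance
      haveI : Nontrivial ((G ⧸ K) ⧸ Subgroup.center (G ⧸ K)) := by
        rw [← not_subsingleton_iff_nontrivial]
        intro hs
        refine hab fun a b => ?_
        have ha : a ∈ Subgroup.center (G ⧸ K) := (QuotientGroup.eq_one_iff a).1 (Subsingleton.elim _ _)
        exact (Subgroup.mem_center_iff.1 ha b).symm
      haveI : Nontrivial (Subgroup.center ((G ⧸ K) ⧸ Subgroup.center (G ⧸ K))) :=
        (Subgroup.nontrivial_iff_ne_bot _).2 (Group.IsNilpotent.center_ne_bot _)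
      obtain ⟨⟨z, hz⟩, hz1⟩ :=
        exists_ne (1 : Subgroup.center ((G ⧸ K) ⧸ Subgroup.center (G ⧸ K)))
      obtain ⟨q, rfl⟩ := QuotientGroup.mk_surjective z
      refine ⟨q, fun y => ?_, fun h => hz1 (Subtype.ext ((QuotientGroup.eq_one_iff q).2 h))⟩
      rw [← QuotientGroup.eq_one_iff, QuotientGroup.mk_mul, QuotientGroup.mk_mul,
        QuotientGroup.mk_mul, QuotientGroup.mk_inv, QuotientGroup.mk_inv,
        ← Subgroup.mem_center_iff.1 hz, mul_inv_cancel_right, mul_inv_cancel]
    set Ab : Subgroup (G ⧸ K) := Subgroup.center (G ⧸ K) ⊔ Subgroup.zpowers q with hAb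
    have hZA : Subgroup.center (G ⧸ K) ≤ Ab := le_sup_left
    have hqA : q ∈ Ab := le_sup_right (a := Subgroup.center (G ⧸ K)) (Subgroup.mem_zpowers q)
    haveI hAbn : Ab.Normal := by
      refine ⟨fun z hz y => ?_⟩
      obtain ⟨c, hc, w, hw, rfl⟩ := Subgroup.mem_sup_of_normal_left.1 hz
      have hcy : y * c * y⁻¹ = c := by
        rw [Subgroup.mem_center_iff.1 hc y, mul_inv_cancel_right]
      have h1 : y * q * y⁻¹ ∈ Ab := by
        have h := mul_mem (hZA (inv_mem (hq2 y))) hqA
        convert h using 1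
        group
      obtain ⟨j, rfl⟩ := Subgroup.mem_zpowers_iff.1 hw
      rw [show y * (c * q ^ j) * y⁻¹ = (y * c * y⁻¹) * (y * q * y⁻¹) ^ j by
        rw [← MulAut.conj_apply y q, ← map_zpow, MulAut.conj_apply]; group, hcy]
      exact mul_mem (hZA hc) (Subgroup.zpow_mem _ h1 j)
    have hAbc : ∀ a ∈ Ab, ∀ b ∈ Ab, a * b = b * a := by
      intro a ha b hb
      obtain ⟨c, hc, w, hw, rfl⟩ := Subgroup.mem_sup_of_normal_left.1 ha
      obtain ⟨d, hd, v, hv, rfl⟩ := Subgroup.mem_sup_of_normal_left.1 hb
      obtain ⟨i, rfl⟩ := Subgroup.mem_zpowers_iff.1 hw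
      obtain ⟨j, rfl⟩ := Subgroup.mem_zpowers_iff.1 hv
      have hc' := Subgroup.mem_center_iff.1 hc
      have hd' := Subgroup.mem_center_iff.1 hd
      have h1 : Commute c (d * q ^ j) := (hc' _).symm
      have h2 : Commute (q ^ i) d := hd' _
      exact (h1.mul_left (h2.mul_right ((Commute.refl q).zpow_zpow i j))).eq
    set A := Ab.comap π with hA
    haveI : A.Normal := hAbn.comap π
    haveI : Fintype A := Fintype.ofFinite A
    -- a linear constituent on it
    obtain ⟨θ, hθ⟩ := IsChar.exists_constituent' (IsChar.res (IsIrr.isCharacter hχ) A)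
      (show χ ((1 : A) : G) ≠ 0 from IsIrr.one_ne_zero hχ)
    have hθK : ∀ a : A, (a : G) ∈ K → (θ : A → ℂ) a = (θ : A → ℂ) 1 := by
      intro a ha
      have hcl := clifford A hχ θ.2 hθ
      have hK : ∀ x : A, (x : G) ∈ K → ∑ ψ ∈ conjOrbit A (θ : A → ℂ), ψ x =
          ∑ ψ ∈ conjOrbit A (θ : A → ℂ), ψ 1 := by
        intro x hx
        have e1 := congrFun hcl x
        have e2 := congrFun hcl 1
        simp only [Pi.smul_apply, Finset.sum_apply, smul_eq_mul] at e1 e2
        refine mul_left_cancel₀ hθ ?_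
        rw [← e1, ← e2]
        exact (mem_charKer _).1 hx
      have hsumchar : IsCharacter A (∑ ψ ∈ conjOrbit A (θ : A → ℂ), ψ) := IsChar.sum fun ψ hψ => by
        obtain ⟨g, rfl⟩ := (mem_conjOrbit A).mp hψ
        exact IsIrr.isCharacter (IsIrr.conjN A θ.2 g)
      have hle : ∀ ψ ∈ conjOrbit A (θ : A → ℂ), (ψ a).re ≤ (ψ 1).re := fun ψ hψ => by
        obtain ⟨g, rfl⟩ := (mem_conjOrbit A).mp hψ
        obtain ⟨d, ρ, -, hρ⟩ := IsIrr.conjN A θ.2 g
        rw [← hρ, Representation.char_one, Complex.natCast_re]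
        exact (Complex.re_le_norm _).trans (norm_character_le ρ a)
      have heq := congrArg Complex.re (hK a ha)
      rw [Complex.re_sum, Complex.re_sum] at heq
      have h1 := (Finset.sum_eq_sum_iff_of_le hle).1 heq _
        ((mem_conjOrbit A).mpr ⟨1, conjN_one A _⟩)
      obtain ⟨d, ρ, -, hρ⟩ := θ.2
      rw [← hρ, Representation.char_one, Complex.natCast_re] at h1
      rw [← hρ, Representation.char_one]
      have hn := norm_character_le ρ a
      refine Complex.ext (by rw [Complex.natCast_re]; exact h1) ?_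
      rw [Complex.natCast_im]
      have h2 := Complex.normSq_apply (ρ.character a)
      rw [← Complex.sq_norm, h1] at h2
      nlinarith [norm_nonneg (ρ.character a), sq_nonneg (ρ.character a).im, sq_abs (ρ.character a).im]
    have hθ1 : (θ : A → ℂ) 1 = 1 := by
      haveI : (K.subgroupOf A).Normal := Subgroup.Normal.subgroupOf inferInstance _
      obtain ⟨ψ, hψ, hψθ⟩ := IsIrr.exists_factor_quotient θ.2 (K.subgroupOf A) fun k hk =>
        hθK k (Subgroup.mem_subgroupOf.1 hk)
      rw [← hψθ 1, QuotientGroup.mk_one]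
      refine IsIrr.one_of_comm (fun a b => ?_) hψ
      obtain ⟨a, rfl⟩ := QuotientGroup.mk_surjective a
      obtain ⟨b, rfl⟩ := QuotientGroup.mk_surjective b
      rw [← QuotientGroup.mk_mul, ← QuotientGroup.mk_mul, QuotientGroup.eq,
        Subgroup.mem_subgroupOf, Subgroup.coe_mul, Subgroup.coe_inv, ← QuotientGroup.eq,
        Subgroup.coe_mul, Subgroup.coe_mul, QuotientGroup.mk_mul, QuotientGroup.mk_mul]
      exact hAbc _ a.2 _ b.2
    -- its inertia group is proper
    set T := inertia A (θ : A → ℂ) with hT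
    haveI : Fintype T := Fintype.ofFinite T
    have hTne : T ≠ ⊤ := by
      intro htop
      apply hq1
      obtain ⟨a, rfl⟩ := QuotientGroup.mk_surjective q
      obtain ⟨d, ρ, hρi, hρ⟩ := id hχ
      have hsc : ∃ ω : ℂ, ρ a = ω • LinearMap.id := by
        rw [← norm_character_eq_iff, hρ]
        have hcl := clifford A hχ θ.2 hθ
        have horb : conjOrbit A (θ : A → ℂ) = {(θ : A → ℂ)} := by
          refine Finset.eq_singleton_iff_unique_mem.mpr
            ⟨(mem_conjOrbit A).mpr ⟨1, conjN_one A _⟩, fun ψ hψ => ?_⟩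
          obtain ⟨g, rfl⟩ := (mem_conjOrbit A).mp hψ
          exact (mem_inertia A).1 (show g ∈ T from htop ▸ Subgroup.mem_top g)
        rw [horb, Finset.sum_singleton] at hcl
        have e1 := congrFun hcl ⟨a, hqA⟩
        have e2 := congrFun hcl 1
        simp only [Pi.smul_apply, smul_eq_mul, hθ1, mul_one, Subgroup.coe_one] at e1 e2
        rw [← e2] at e1
        obtain ⟨l, hl⟩ := linearHom_of_isCharacter (IsIrr.isCharacter θ.2) hθ1
        rw [e1, norm_mul, hl]
        have hord : (l ⟨a, hqA⟩ : ℂ) ^ Nat.card A = 1 := by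
          rw [← Units.val_pow_eq_pow_val, ← map_pow, pow_card_eq_one', map_one, Units.val_one]
        rw [Complex.norm_eq_one_of_pow_eq_one hord Nat.card_pos.ne', mul_one, ← hρ,
          Representation.char_one, Complex.norm_natCast]
      obtain ⟨ω, hω⟩ := hsc
      refine Subgroup.mem_center_iff.2 fun y => ?_
      obtain ⟨y, rfl⟩ := QuotientGroup.mk_surjective y
      rw [← QuotientGroup.mk_mul, ← QuotientGroup.mk_mul, QuotientGroup.eq, hKdef, mem_charKer, ← hρ,
        Representation.char_one, character_eq_finrank_iff]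
      have hc : ρ y * ρ a = ρ a * ρ y := by
        rw [hω, ← Module.End.one_eq_id, smul_mul_assoc, mul_smul_comm, one_mul, mul_one]
      rw [← Module.End.one_eq_id, map_mul, map_mul ρ a y, ← hc, ← map_mul ρ y a, ← map_mul,
        inv_mul_cancel, map_one]
    obtain ⟨ψ, hψ, hψχ, -⟩ := Corr.exists_correspondent A θ.2 hT
      (le_inertia A (IsIrr.classFun θ.2)) hχ hθ
    have hlt : Nat.card T ≤ n := by
      by_contra hh
      exact hTne ((Subgroup.card_eq_iff_eq_top T).1
        (le_antisymm (Subgroup.card_le_card_group T) (by omega)))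
    obtain ⟨H, l, hl⟩ := ih T hlt inferInstance ψ hψ
    refine ⟨H.map T.subtype,
      l.comp (H.equivMapOfInjective T.subtype T.subtype_injective).symm.toMonoidHom, ?_⟩
    rw [← hψχ, hl, indFun_indFun]
    rfl

/-- Irreducible characters of nilpotent groups are monomial. -/
theorem monomial {G : Type u} [Group G] [Fintype G] (hnil : Group.IsNilpotent G) {χ : G → ℂ}
    (hχ : IsIrrCharacter G χ) :
    ∃ (H : Subgroup G) (l : H →* ℂˣ), χ = indFun H (fun h => (l h : ℂ)) :=
  monomial_aux _ G le_rfl hnil χ hχ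

/-! ### Spans of induced characters -/

variable {G : Type u} [Group G] [Fintype G]

/-- The span of the characters induced from subgroups with a property. -/
noncomputable def indSpan (P : Subgroup G → Prop) : AddSubgroup (G → ℂ) :=
  AddSubgroup.closure {f | ∃ E : Subgroup G, P E ∧ ∃ φ, IsCharacter E φ ∧ f = indFun E φ}

theorem ind_mem {P : Subgroup G → Prop} {E : Subgroup G} (hE : P E) {φ : E → ℂ}
    (hφ : IsCharacter E φ) : indFun E φ ∈ indSpan P :=
  AddSubgroup.subset_closure ⟨E, hE, φ, hφ, rfl⟩

theorem indSpan_mono {P Q : Subgroup G → Prop} (h : ∀ E, P E → Q E) : indSpan P ≤ indSpan Q :=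
  AddSubgroup.closure_mono fun _ ⟨E, hE, r⟩ => ⟨E, h E hE, r⟩

theorem indSpan_mul {P : Subgroup G → Prop} {χ f : G → ℂ} (hχ : IsCharacter G χ)
    (hf : f ∈ indSpan P) : χ * f ∈ indSpan P := by
  induction hf using AddSubgroup.closure_induction with
  | mem f hf =>
    obtain ⟨E, hE, φ, hφ, rfl⟩ := hf
    rw [mul_indFun E φ (IsChar.classFun hχ)]
    exact ind_mem hE (IsChar.mul (IsChar.res hχ E) hφ)
  | zero => rw [mul_zero]; exact zero_mem _
  | add u v _ _ hu hv => rw [mul_add]; exact add_mem hu hv
  | neg u _ hu => rw [mul_neg]; exact neg_mem hu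

theorem indSpan_ind {P : Subgroup G → Prop} (T : Subgroup G) [Fintype T] {f : T → ℂ}
    (hf : f ∈ indSpan (fun E : Subgroup T => P (E.map T.subtype))) :
    indFun T f ∈ indSpan P := by
  induction hf using AddSubgroup.closure_induction with
  | mem f hf =>
    obtain ⟨E, hE, φ, hφ, rfl⟩ := hf
    rw [indFun_indFun]
    exact ind_mem hE (IsChar.comp
      (E.equivMapOfInjective T.subtype T.subtype_injective).symm.toMonoidHom hφ)
  | zero => rw [indFun_zero]; exact zero_mem _
  | add u v _ _ hu hv => rw [indFun_add]; exact add_mem hu hv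
  | neg u _ hu => rw [show -u = 0 - u by simp, indFun_sub, indFun_zero, zero_sub]; exact neg_mem hu

/-! ### Elementary groups -/

theorem isElementary_of_injective {p : ℕ} (hp : p.Prime) {E H : Type u} [Group E] [Finite E]
    [Group H] [Finite H] (hE : IsElementary p E) (f : H →* E) (hf : Function.Injective f) :
    IsElementary p H := by
  obtain ⟨x, hxc, hxp, k, hk⟩ := hE
  haveI : (Subgroup.zpowers x).Normal := ⟨fun z hz y => by
    obtain ⟨j, rfl⟩ := Subgroup.mem_zpowers_iff.1 hz
    rw [Subgroup.mem_center_iff.1 (zpow_mem hxc j) y, mul_inv_cancel_right]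
    exact Subgroup.zpow_mem_zpowers x j⟩
  set Z := (Subgroup.zpowers x).comap f with hZ
  haveI : IsCyclic Z := isCyclic_of_injective
    ((f.comp Z.subtype).codRestrict (Subgroup.zpowers x) fun z => z.2)
    fun a b h => Subtype.ext (hf (congrArg Subtype.val h : _))
  obtain ⟨y, hy⟩ := IsCyclic.exists_generator (α := Z)
  obtain ⟨j, hj⟩ := Subgroup.mem_zpowers_iff.1 y.2
  have hgen : Subgroup.zpowers (y : H) = Z := by
    refine le_antisymm (Subgroup.zpowers_le.2 y.2) fun z hz => ?_
    obtain ⟨i, hi⟩ := Subgroup.mem_zpowers_iff.1 (hy ⟨z, hz⟩)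
    exact Subgroup.mem_zpowers_iff.2 ⟨i, congrArg Subtype.val hi⟩
  refine ⟨(y : H), Subgroup.mem_center_iff.2 fun h => hf ?_, ?_, ?_⟩
  · rw [map_mul, map_mul, ← hj, Subgroup.mem_center_iff.1 (zpow_mem hxc j) (f h)]
  · refine hxp.coprime_dvd_left ?_
    rw [← orderOf_injective f hf, ← hj, ← Nat.card_zpowers, ← Nat.card_zpowers]
    exact Subgroup.card_dvd_of_le (Subgroup.zpowers_le.2 (Subgroup.zpow_mem_zpowers x j))
  · rw [hgen, hZ, Subgroup.index_comap]
    have h : (Subgroup.zpowers x).relIndex f.range ∣ p ^ k :=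
      hk ▸ Subgroup.relIndex_dvd_index_of_normal _ _
    obtain ⟨i, -, hi⟩ := (Nat.dvd_prime_pow hp).1 h
    exact ⟨i, hi⟩

theorem isNilpotent_of_elementary {p : ℕ} (hp : p.Prime) {E : Type u} [Group E] [Finite E]
    (hE : IsElementary p E) : Group.IsNilpotent E := by
  haveI := Fact.mk hp
  obtain ⟨x, hxc, -, k, hk⟩ := hE
  have hd : (Subgroup.center E).index ∣ p ^ k :=
    hk ▸ Subgroup.index_dvd_of_le (Subgroup.zpowers_le.2 hxc)
  obtain ⟨i, -, hi⟩ := (Nat.dvd_prime_pow hp).1 hd
  exact Group.of_quotient_center_nilpotent (IsPGroup.of_card (p := p) (n := i) hi).isNilpotent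

/-- An invariant linear character trivial on the fixed points of a `p`-group is trivial. -/
theorem linear_trivial_of_fixed {p : ℕ} [Fact p.Prime] (C P : Subgroup G) [hC : C.Normal]
    (hP : IsPGroup p P) (hcop : Nat.Coprime (Nat.card C) p) (l : C →* ℂˣ)
    (hinv : ∀ g ∈ P, ∀ c : C, l ⟨g * c * g⁻¹, hC.conj_mem (c : G) c.2 g⟩ = l c)
    (hker : ∀ c : C, (c : G) ∈ Subgroup.centralizer (P : Set G) → l c = 1) (c : C) : l c = 1 := by
  classical
  letI : MulAction P {d : C // l d = l c} :=
    { smul := fun u d => ⟨⟨(u : G) * (d : C) * (u : G)⁻¹, hC.conj_mem _ (d : C).2 u⟩, by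
        rw [hinv u u.2]; exact d.2⟩
      one_smul := fun d => Subtype.ext (Subtype.ext (by
        show (1 : G) * _ * 1⁻¹ = _
        simp))
      mul_smul := fun u v d => Subtype.ext (Subtype.ext (by
        show ((u : G) * v) * _ * ((u : G) * v)⁻¹ = (u : G) * ((v : G) * _ * (v : G)⁻¹) * (u : G)⁻¹
        group)) }
  have hnd : ¬ p ∣ Nat.card {d : C // l d = l c} := by
    intro hd
    have hdiv : Nat.card {d : C // l d = l c} ∣ Nat.card C := by
      rw [show Nat.card {d : C // l d = l c} = Nat.card l.ker from Nat.card_congr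
        { toFun := fun d => ⟨c⁻¹ * d.1, by
            rw [MonoidHom.mem_ker, map_mul, d.2, map_inv, inv_mul_cancel]⟩
          invFun := fun k => ⟨c * k.1, by rw [map_mul, MonoidHom.mem_ker.1 k.2, mul_one]⟩
          left_inv := fun d => Subtype.ext (mul_inv_cancel_left c d.1)
          right_inv := fun k => Subtype.ext (inv_mul_cancel_left c k.1) }]
      exact Subgroup.card_subgroup_dvd_card _
    exact ((Fact.out : p.Prime).coprime_iff_not_dvd.1 hcop.symm) (hd.trans hdiv)
  obtain ⟨d, hd⟩ := hP.nonempty_fixed_point_of_prime_not_dvd_card _ hnd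
  rw [← d.2]
  refine hker d.1 (Subgroup.mem_centralizer_iff.2 fun u hu => ?_)
  have h : u * ((d : C) : G) * u⁻¹ = ((d : C) : G) :=
    congrArg (fun e : {d : C // l d = l c} => ((e : C) : G)) (hd ⟨u, hu⟩)
  calc u * ((d : C) : G) = u * ((d : C) : G) * u⁻¹ * u := by rw [inv_mul_cancel_right]
    _ = _ := by rw [h]

theorem one_mem_of_qe : ∀ (n : ℕ) (G : Type u) [Group G] [Fintype G], Nat.card G ≤ n →
    ∀ (p : ℕ) [Fact p.Prime], QE p (⊤ : Subgroup G) →
      (fun _ : G => (1 : ℂ)) ∈ indSpan (fun E : Subgroup G => IsElementary p E) := by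
  intro n
  induction n with
  | zero => intro G _ _ hn; exact absurd hn (not_le_of_gt Nat.card_pos)
  | succ n ih =>
    intro G _ _ hn p _ hqe
    classical
    have hp : p.Prime := Fact.out
    obtain ⟨C, -, hCn, hcyc, hcop, hpow⟩ := hqe
    haveI hCN : C.Normal := Subgroup.normalizer_eq_top_iff.1 (top_le_iff.1 hCn)
    obtain ⟨P⟩ := Sylow.nonempty (p := p) (G := G)
    have hcomm : ∀ a ∈ C, ∀ b ∈ C, a * b = b * a := fun a ha b hb => by
      haveI := hcyc
      letI : CommGroup C := IsCyclic.commGroup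
      exact congrArg Subtype.val (mul_comm (⟨a, ha⟩ : C) ⟨b, hb⟩)
    have hCP : C ⊔ (P : Subgroup G) = ⊤ := by
      refine Subgroup.index_eq_one.1 (Nat.eq_one_of_dvd_coprimes (a := p ^ (Nat.card G)) (b :=
        (P : Subgroup G).index) (Nat.Coprime.pow_left _
        (hp.coprime_iff_not_dvd.2 (Sylow.not_dvd_index P))) ?_
        (Subgroup.index_dvd_of_le le_sup_right))
      refine (Subgroup.index_dvd_of_le le_sup_left).trans ?_
      have hpg : IsPGroup p (G ⧸ C) := by
        intro q
        obtain ⟨g, rfl⟩ := QuotientGroup.mk_surjective q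
        obtain ⟨k, hk⟩ := hpow g (Subgroup.mem_top g)
        exact ⟨k, by rw [← QuotientGroup.mk_pow, QuotientGroup.eq_one_iff]; exact hk⟩
      obtain ⟨k, hk⟩ := hpg.exists_card_eq
      rw [Subgroup.index_eq_card, hk]
      refine pow_dvd_pow p ?_
      have hle : Nat.card (G ⧸ C) ≤ Nat.card G := by
        rw [← Subgroup.index_eq_card, ← C.index_mul_card]
        exact Nat.le_mul_of_pos_right _ Nat.card_pos
      rw [hk] at hle
      exact (Nat.lt_pow_self hp.one_lt).le.trans hle
    set Z := C ⊓ Subgroup.centralizer ((P : Subgroup G) : Set G) with hZ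
    have hZc : ∀ z ∈ Z, z ∈ Subgroup.center G := by
      intro z hz
      refine Subgroup.mem_center_iff.2 fun g => ?_
      obtain ⟨c, hc, u, hu, rfl⟩ :=
        Subgroup.mem_sup_of_normal_left.1 (hCP ▸ Subgroup.mem_top g : g ∈ C ⊔ (P : Subgroup G))
      have h1 : Commute c z := hcomm c hc z hz.1
      have h2 : Commute u z := Subgroup.mem_centralizer_iff.1 hz.2 u hu
      exact (h1.mul_left h2).eq
    haveI : Z.Normal := ⟨fun z hz g => by
      rw [Subgroup.mem_center_iff.1 (hZc z hz) g, mul_inv_cancel_right]; exact hz⟩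
    set E := Z ⊔ (P : Subgroup G) with hE
    haveI : Fintype E := Fintype.ofFinite E
    have hEel : IsElementary p E := by
      haveI := hcyc
      haveI : IsCyclic (Z.subgroupOf E) := isCyclic_of_injective
        (((E.subtype).comp (Z.subgroupOf E).subtype).codRestrict C
          fun z => (Subgroup.mem_subgroupOf.1 z.2).1)
        fun a b h => Subtype.ext (Subtype.ext (congrArg Subtype.val h : _))
      obtain ⟨x, hx⟩ := IsCyclic.exists_generator (α := Z.subgroupOf E)
      have hgen : Subgroup.zpowers (x : E) = Z.subgroupOf E := by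
        refine le_antisymm (Subgroup.zpowers_le.2 x.2) fun z hz => ?_
        obtain ⟨i, hi⟩ := Subgroup.mem_zpowers_iff.1 (hx ⟨z, hz⟩)
        exact Subgroup.mem_zpowers_iff.2 ⟨i, congrArg Subtype.val hi⟩
      refine ⟨(x : E), Subgroup.mem_center_iff.2 fun e => Subtype.ext
        (Subgroup.mem_center_iff.1 (hZc _ (Subgroup.mem_subgroupOf.1 x.2)) e), ?_, ?_⟩
      · rw [← Subgroup.orderOf_coe]
        refine hcop.coprime_dvd_left ?_
        rw [← Nat.card_zpowers]
        exact Subgroup.card_dvd_of_le (Subgroup.zpowers_le.2 (Subgroup.mem_subgroupOf.1 x.2).1)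
      · rw [hgen]
        have h : Z.relIndex E ∣ Nat.card (P : Subgroup G) := by
          rw [hE, sup_comm, Subgroup.relIndex_sup_right]
          exact Subgroup.index_dvd_card _
        obtain ⟨a, ha⟩ := P.isPGroup'.exists_card_eq
        rw [ha] at h
        obtain ⟨i, -, hi⟩ := (Nat.dvd_prime_pow hp).1 h
        exact ⟨i, hi⟩
    obtain ⟨a, ha, hdec⟩ := IsChar.exists_decomp_inner
      (isCharacter_indFun E (IsChar.one (G := E)))
    set one : IrrCharacter G := ⟨fun _ => 1, isIrr_one⟩
    have ha1 : (a one : ℂ) = 1 := by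
      rw [← ha one, classInner_indFun E _ (IsIrr.classFun one.2), classInner_self_irr isIrr_one]
    have hrest : ∀ χ : IrrCharacter G, χ ≠ one → a χ ≠ 0 →
        (χ : G → ℂ) ∈ indSpan (fun E : Subgroup G => IsElementary p E) := by
      intro χ hχ1 haχ
      have hne : classInner (fun e : E => (χ : G → ℂ) e) (fun _ : E => (1 : ℂ)) ≠ 0 := by
        intro h0
        have := ha χ
        rw [classInner_indFun E _ (IsIrr.classFun χ.2), ← classInner_conj_symm, h0, map_zero] at this
        exact haχ (Nat.cast_eq_zero.1 this.symm)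
      haveI : Fintype C := Fintype.ofFinite C
      obtain ⟨θ, hθ⟩ := IsChar.exists_constituent' (IsChar.res (IsIrr.isCharacter χ.2) C)
        (show (χ : G → ℂ) ((1 : C) : G) ≠ 0 from IsIrr.one_ne_zero χ.2)
      set T := inertia C (θ : C → ℂ) with hT
      haveI : Fintype T := Fintype.ofFinite T
      have hTne : T ≠ ⊤ := by
        intro htop
        apply hχ1
        have hθ1 : (θ : C → ℂ) 1 = 1 :=
          IsIrr.one_of_comm (fun a b => Subtype.ext (hcomm a a.2 b b.2)) θ.2
        obtain ⟨l, hl⟩ := linearHom_of_isCharacter (IsIrr.isCharacter θ.2) hθ1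
        have horb : conjOrbit C (θ : C → ℂ) = {(θ : C → ℂ)} := by
          refine Finset.eq_singleton_iff_unique_mem.mpr
            ⟨(mem_conjOrbit C).mpr ⟨1, conjN_one C _⟩, fun ψ hψ => ?_⟩
          obtain ⟨g, rfl⟩ := (mem_conjOrbit C).mp hψ
          exact (mem_inertia C).1 (show g ∈ T from htop ▸ Subgroup.mem_top g)
        have hcl := clifford C χ.2 θ.2 hθ
        rw [horb, Finset.sum_singleton] at hcl
        have hscal : ∀ c : C, (χ : G → ℂ) c = (χ : G → ℂ) 1 * (l c : ℂ) := fun c => by
          have e1 := congrFun hcl c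
          have e2 := congrFun hcl 1
          simp only [Pi.smul_apply, smul_eq_mul, hθ1, mul_one, Subgroup.coe_one] at e1 e2
          rw [e1, ← e2, congrFun hl c]
        -- on the fixed points
        have hlZ : ∀ c : C, (c : G) ∈ Subgroup.centralizer ((P : Subgroup G) : Set G) → l c = 1 := by
          intro c hc
          obtain ⟨w, -, hw⟩ := IsIrr.scalar_of_center χ.2 (hZc _ ⟨c.2, hc⟩)
          have hwl : w = (l c : ℂ) := by
            have := hw 1
            rw [mul_one, hscal, mul_comm] at this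
            exact (mul_right_cancel₀ (IsIrr.one_ne_zero χ.2) this).symm
          have hcE : (c : G) ∈ E := le_sup_left (b := (P : Subgroup G)) ⟨c.2, hc⟩
          have hshift : ∑ e : E, (χ : G → ℂ) e = (l c : ℂ) * ∑ e : E, (χ : G → ℂ) e := by
            rw [Finset.mul_sum]
            refine (Fintype.sum_equiv (Equiv.mulLeft (⟨c, hcE⟩ : E)) _ _ fun e => ?_).symm
            rw [Equiv.coe_mulLeft, Subgroup.coe_mul, hw, hwl]
          have hS : ∑ e : E, (χ : G → ℂ) e ≠ 0 := fun h => hne (by
            simp only [classInner, map_one, mul_one, h, mul_zero])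
          exact Units.ext (mul_right_cancel₀ hS ((one_mul _).trans hshift)).symm
        have htriv := linear_trivial_of_fixed (p := p) C (P : Subgroup G) P.isPGroup' hcop l
          (fun g _ c => by
            have := congrFun ((mem_inertia C).1 (show g ∈ T from htop ▸ Subgroup.mem_top g)) c
            rw [conjN_apply, congrFun hl, congrFun hl] at this
            exact Units.ext this) hlZ
        obtain ⟨ψ, hψ, hψχ⟩ := IsIrr.exists_factor_quotient χ.2 C fun c hc => by
          rw [hscal ⟨c, hc⟩, htriv, Units.val_one, mul_one]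
        haveI : Fintype (G ⧸ C) := Fintype.ofFinite _
        have hsurj : Function.Surjective ((QuotientGroup.mk' C).comp E.subtype) := by
          intro q
          obtain ⟨g, rfl⟩ := QuotientGroup.mk_surjective q
          obtain ⟨c, hc, u, hu, rfl⟩ :=
            Subgroup.mem_sup_of_normal_left.1 (hCP ▸ Subgroup.mem_top g : g ∈ C ⊔ (P : Subgroup G))
          refine ⟨⟨u, le_sup_right (a := Z) hu⟩, ?_⟩
          show ((u : G) : G ⧸ C) = ((c * u : G) : G ⧸ C)
          rw [QuotientGroup.mk_mul, (QuotientGroup.eq_one_iff c).2 hc, one_mul]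
        have h1 : ψ = fun _ => 1 := by
          by_contra h
          apply hne
          rw [← classInner_irr_ne hψ isIrr_one h,
            ← classInner_comp_surjective _ hsurj ψ fun _ => 1]
          congr 1
          funext e
          exact (hψχ e).symm
        exact Subtype.ext (funext fun g => by rw [← hψχ g, h1])
      obtain ⟨ψ, hψ, hψχ, -⟩ := Corr.exists_correspondent C θ.2 hT
        (le_inertia C (IsIrr.classFun θ.2)) χ.2 hθ
      have hlt : Nat.card T ≤ n := by
        by_contra hh
        exact hTne ((Subgroup.card_eq_iff_eq_top T).1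
          (le_antisymm (Subgroup.card_le_card_group T) (by omega)))
      have hqT : QE p (⊤ : Subgroup T) := by
        haveI := hcyc
        refine ⟨C.subgroupOf T, le_top, fun t _ => ?_, isCyclic_of_injective
          (((T.subtype).comp (C.subgroupOf T).subtype).codRestrict C
            fun z => Subgroup.mem_subgroupOf.1 z.2)
          (fun a b h => Subtype.ext (Subtype.ext (congrArg Subtype.val h : _))), ?_, fun t _ => ?_⟩
        · haveI : (C.subgroupOf T).Normal := Subgroup.Normal.subgroupOf inferInstance _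
          rw [Subgroup.normalizer_eq_top]
          exact Subgroup.mem_top t
        · rw [Nat.card_congr (Subgroup.subgroupOfEquivOfLe
            (le_inertia C (IsIrr.classFun θ.2))).toEquiv]
          exact hcop
        · obtain ⟨k, hk⟩ := hpow t (Subgroup.mem_top _)
          exact ⟨k, Subgroup.mem_subgroupOf.2 (by rw [SubmonoidClass.coe_pow]; exact hk)⟩
      rw [← hψχ]
      refine indSpan_ind T (indSpan_mono (fun S hS => isElementary_of_injective hp hS
        (S.equivMapOfInjective T.subtype T.subtype_injective).symm.toMonoidHom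
        (S.equivMapOfInjective T.subtype T.subtype_injective).symm.injective) ?_)
      rw [← mul_one ψ]
      exact indSpan_mul (IsIrr.isCharacter hψ) (ih T hlt p hqT)
    have h := Finset.add_sum_erase Finset.univ (fun φ : IrrCharacter G => (a φ : ℂ) • (φ : G → ℂ))
      (Finset.mem_univ one)
    rw [← hdec, ha1, one_smul, eq_comm, ← sub_eq_iff_eq_add] at h
    rw [show (fun _ : G => (1 : ℂ)) = (one : G → ℂ) from rfl, ← h]
    refine sub_mem (ind_mem hEel IsChar.one) (AddSubgroup.sum_mem _ fun φ hφ => ?_)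
    by_cases h0 : a φ = 0
    · rw [h0, Nat.cast_zero, zero_smul]; exact zero_mem _
    · rw [Nat.cast_smul_eq_nsmul ℂ]
      exact AddSubgroup.nsmul_mem _ (hrest φ (Finset.ne_of_mem_erase hφ) h0) _

/-- Brauer's local statement. -/
theorem local_induction (p : ℕ) [Fact p.Prime] : ∃ m : ℤ, ¬ (p : ℤ) ∣ m ∧
    (fun _ : G => (m : ℂ)) ∈ indSpan (fun E : Subgroup G => IsElementary p E) := by
  obtain ⟨m, hm, hmem⟩ := exists_const_mem (G := G) p
  refine ⟨m, hm, ?_⟩
  revert hmem
  generalize (fun _ : G => (m : ℂ)) = f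
  intro hf
  induction hf using AddSubgroup.closure_induction with
  | mem f hf =>
    obtain ⟨H, hH, rfl⟩ := hf
    classical
    haveI : Fintype H := Fintype.ofFinite H
    refine indSpan_ind H (indSpan_mono (fun S hS => isElementary_of_injective Fact.out hS
      (S.equivMapOfInjective H.subtype H.subtype_injective).symm.toMonoidHom
      (S.equivMapOfInjective H.subtype H.subtype_injective).symm.injective)
      (one_mem_of_qe _ H le_rfl p ?_))
    obtain ⟨C, hCH, hN, hcyc, hcop, hpow⟩ := hH
    haveI := hcyc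
    refine ⟨C.subgroupOf H, le_top, fun t _ => ?_, isCyclic_of_injective
      (((H.subtype).comp (C.subgroupOf H).subtype).codRestrict C
        fun z => Subgroup.mem_subgroupOf.1 z.2)
      (fun a b h => Subtype.ext (Subtype.ext (congrArg Subtype.val h : _))), ?_, fun t _ => ?_⟩
    · refine Subgroup.mem_normalizer_iff.2 fun y => ?_
      exact Subgroup.mem_normalizer_iff.1 (hN t.2) (y : G)
    · rw [Nat.card_congr (Subgroup.subgroupOfEquivOfLe hCH).toEquiv]
      exact hcop
    · obtain ⟨k, hk⟩ := hpow t t.2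
      exact ⟨k, Subgroup.mem_subgroupOf.2 (by rw [SubmonoidClass.coe_pow]; exact hk)⟩
  | zero => exact zero_mem _
  | add u v _ _ hu hv => exact add_mem hu hv
  | neg u _ hu => exact neg_mem hu

/-- Elementary for some prime. -/
def Elem (E : Subgroup G) : Prop := ∃ p : ℕ, p.Prime ∧ IsElementary p E

/-- The constant function one is in the span of elementary inductions. -/
theorem one_mem : (fun _ : G => (1 : ℂ)) ∈ indSpan (G := G) Elem := by
  classical
  set S : AddSubgroup ℤ :=
    (indSpan (G := G) Elem).comap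
      { toFun := fun m : ℤ => (fun _ : G => (m : ℂ))
        map_zero' := funext fun _ => Int.cast_zero
        map_add' := fun a b => funext fun _ => Int.cast_add a b } with hS
  suffices (1 : ℤ) ∈ S by
    have h : (fun _ : G => ((1 : ℤ) : ℂ)) ∈ indSpan (G := G) Elem := this
    simpa using h
  obtain ⟨d, hd⟩ := Int.subgroup_cyclic S
  rw [hd, ← AddSubgroup.zmultiples_eq_closure, Int.mem_zmultiples_iff]
  by_contra hne
  have hd1 : d.natAbs ≠ 1 := fun h => hne (Int.natAbs_dvd.1 (by rw [h]; exact one_dvd _))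
  obtain ⟨q, hq, hqd⟩ := Nat.exists_prime_and_dvd hd1
  haveI := Fact.mk hq
  obtain ⟨m, hm, hmem⟩ := local_induction (G := G) q
  refine hm ?_
  have h1 : m ∈ S := indSpan_mono (fun E hE => ⟨q, hq, hE⟩) hmem
  rw [hd, ← AddSubgroup.zmultiples_eq_closure, Int.mem_zmultiples_iff] at h1
  exact (Int.natCast_dvd.2 hqd).trans h1

/-- Brauer's characterization of characters. -/
theorem isGenChar_of_elementary {θ : G → ℂ} (hθ : IsClassFunction G θ)
    (hE : ∀ E : Subgroup G, Elem E → IsGeneralizedCharacter E (fun e : E => θ e)) :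
    IsGeneralizedCharacter G θ := by
  suffices ∀ f ∈ indSpan (G := G) Elem, IsGeneralizedCharacter G (θ * f) by
    simpa [Pi.mul_def] using this _ (one_mem (G := G))
  intro f hf
  induction hf using AddSubgroup.closure_induction with
  | mem f hf =>
    obtain ⟨E, hEl, φ, hφ, rfl⟩ := hf
    rw [mul_indFun E φ hθ]
    exact IsGenChar.ind E (IsGenChar.mul (hE E hEl) (IsGenChar.of_isCharacter hφ))
  | zero => rw [mul_zero]; exact IsGenChar.zero
  | add u v _ _ hu hv => rw [mul_add]; exact IsGenChar.add hu hv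
  | neg u _ hu => rw [mul_neg]; exact IsGenChar.neg hu

/-- The span of inductions of linear characters of elementary subgroups. -/
noncomputable def linSpan (P : Subgroup G → Prop) : AddSubgroup (G → ℂ) :=
  AddSubgroup.closure
    {f | ∃ E : Subgroup G, P E ∧ ∃ l : E →* ℂˣ, f = indFun E (fun e => (l e : ℂ))}

/-- Brauer's induction theorem. -/
theorem mem_linSpan {χ : G → ℂ} (hχ : IsCharacter G χ) : χ ∈ linSpan (G := G) Elem := by
  classical
  have h : χ * (fun _ : G => (1 : ℂ)) ∈ indSpan (G := G) Elem := indSpan_mul hχ one_mem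
  rw [show χ * (fun _ : G => (1 : ℂ)) = χ from funext fun g => mul_one _] at h
  suffices indSpan (G := G) Elem ≤ linSpan Elem from this h
  refine (AddSubgroup.closure_le _).2 ?_
  rintro _ ⟨E, ⟨p, hp, hEp⟩, φ, hφ, rfl⟩
  haveI : Fintype E := Fintype.ofFinite E
  obtain ⟨a, hdec⟩ := IsChar.exists_decomp hφ
  rw [hdec, indFun_sum]
  refine AddSubgroup.sum_mem _ fun ψ _ => ?_
  rw [indFun_smul, Nat.cast_smul_eq_nsmul ℂ]
  refine AddSubgroup.nsmul_mem _ ?_ _
  obtain ⟨H, l, hl⟩ := monomial (isNilpotent_of_elementary hp hEp) ψ.2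
  rw [hl, indFun_indFun]
  exact AddSubgroup.subset_closure ⟨_, ⟨p, hp, isElementary_of_injective hp hEp
    (
      H.subtype.comp (H.equivMapOfInjective E.subtype E.subtype_injective).symm.toMonoidHom)
    (H.subtype_injective.comp
      (H.equivMapOfInjective E.subtype E.subtype_injective).symm.injective)⟩,
    l.comp (H.equivMapOfInjective E.subtype E.subtype_injective).symm.toMonoidHom, rfl⟩

end Cfsg.Agent.Char.Brauer
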