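import Cfsg.Agent.Lib.Char.PPrimeDegree
import Cfsg.Agent.Lib.Char.ExtendMain
import Cfsg.Agent.Lib.Block.Residue
import Cfsg.Agent.Lib.Block.CoveringBasic
import Cfsg.Agent.Lib.Invol.PResidual
import Mathlib.Data.ZMod.Basic

/-!
Characters of `p'`-degree and `p'`-determinantal order and the order of the `p`-residual.
-/

open scoped ComplexConjugate

namespace Cfsg.Agent.Char.ResDeg

open Cfsg Cfsg.Agent.Block Cfsg.Agent.Char

set_option linter.unusedSectionVars false
set_option linter.style.haveILetI false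

universe u

variable {G : Type u} [Group G] [Fintype G] {p : ℕ} [Fact p.Prime]

theorem residual_normal : (pResidual p G).Normal := by
  refine ⟨fun x hx g => ?_⟩
  have h : pResidual p G ≤ (pResidual p G).comap (MulAut.conj g).toMonoidHom :=
    (Subgroup.closure_le _).2 fun y hy => by
      show g * y * g⁻¹ ∈ pResidual p G
      refine Subgroup.subset_closure ?_
      show Nat.Coprime (orderOf (g * y * g⁻¹)) p
      rw [← MulAut.conj_apply, MulEquiv.orderOf_eq]
      exact hy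
  exact h hx

/-- A linear character of the residual has order prime to `p`. -/
theorem orderOf_linear_coprime (l : pResidual p G →* ℂˣ) : Nat.Coprime (orderOf l) p := by
  have hp : p.Prime := Fact.out
  set n := Nat.card G / p ^ (Nat.card G).factorization p with hn
  have hpn : ¬ p ∣ n := Nat.not_dvd_ordCompl hp Nat.card_pos.ne'
  have h : l ^ n = 1 := by
    refine MonoidHom.ext fun x => ?_
    obtain ⟨x, hx⟩ := x
    induction hx using Subgroup.closure_induction with
    | mem y hy =>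
      rw [MonoidHom.pow_apply, MonoidHom.one_apply, ← map_pow]
      convert map_one l
      refine Subtype.ext ?_
      show y ^ n = 1
      refine orderOf_dvd_iff_pow_eq_one.1 ?_
      refine ((show Nat.Coprime (orderOf y) p from hy).pow_right
        ((Nat.card G).factorization p)).dvd_of_dvd_mul_left ?_
      rw [hn, Nat.ordProj_mul_ordCompl_eq_self]
      exact orderOf_dvd_natCard y
    | one => exact map_one (l ^ n)
    | mul a b ha hb iha ihb =>
      rw [show (⟨a * b, mul_mem ha hb⟩ : pResidual p G) = ⟨a, ha⟩ * ⟨b, hb⟩ from rfl, map_mul, iha,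
        ihb]
      simp
    | inv a ha iha =>
      rw [show (⟨a⁻¹, inv_mem ha⟩ : pResidual p G) = ⟨a, ha⟩⁻¹ from rfl, map_inv, iha]
      simp
  exact ((hp.coprime_iff_not_dvd.2 hpn).symm).coprime_dvd_left (orderOf_dvd_of_pow_eq_one h)

theorem exists_index : ∃ k, (pResidual p G).index = p ^ k := by
  haveI := residual_normal (G := G) (p := p)
  exact IsPGroup.iff_card.1 (Cfsg.Agent.Invol.isPGroup_quotient_pResidual (p := p) (G := G))

theorem charDeg_of_one (θ : IrrCharacter G) {d : ℕ} (h : (θ : G → ℂ) 1 = d) :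
    charDegree (θ : G → ℂ) = d := by
  rw [charDeg_spec' θ] at h
  exact_mod_cast h

/-- Restriction to the residual. -/
theorem exists_restrict [(pResidual p G).Normal] [Fintype ↥(pResidual p G)] {χ : IrrCharacter G}
    (hd : ¬ p ∣ charDegree (χ : G → ℂ)) :
    ∃ θ : IrrCharacter ↥(pResidual p G),
      (∀ m : pResidual p G, (χ : G → ℂ) m = (θ : ↥(pResidual p G) → ℂ) m) ∧
      (∀ g : G, conjPerm (pResidual p G) g θ = θ) ∧
      charDegree (θ : ↥(pResidual p G) → ℂ) = charDegree (χ : G → ℂ) := by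
  obtain ⟨k, hk⟩ := exists_index (G := G) (p := p)
  obtain ⟨θ, hθ⟩ := exists_constituent_res (pResidual p G) χ
  obtain ⟨hin, hdeg⟩ := PPrime.inertia_of_pPrime hk χ hd θ hθ
  refine ⟨θ, fun m => congrFun (eq_of_constituent_degree
    (IsChar.res (irr_isChar χ) _) θ.2 hθ ?_) m, fun g => Subtype.ext ?_, hdeg.symm⟩
  · show (χ : G → ℂ) _ = _
    rw [Subgroup.coe_one, charDeg_spec' χ, charDeg_spec' θ, hdeg]
  · exact (mem_inertia _).1 (hin ▸ Subgroup.mem_top g)

theorem card_set_congr :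
    ((Nat.card (pResidual p G) : ℕ) : ZMod p) =
      ∑ᶠ χ ∈ {χ : IrrCharacter G | ¬ p ∣ charDegree (χ : G → ℂ) ∧ ¬ p ∣ detOrder (χ : G → ℂ)},
        ((charDegree (χ : G → ℂ) : ℕ) : ZMod p) ^ 2 := by
  classical
  have hp : p.Prime := Fact.out
  set N := pResidual p G with hN0
  haveI : N.Normal := residual_normal
  letI := Fintype.ofFinite ↥N
  obtain ⟨k, hk⟩ := exists_index (G := G) (p := p)
  have hcop : ∀ {d : ℕ}, ¬ p ∣ d → Nat.Coprime N.index d := fun hd => by
    rw [hk]; exact (hp.coprime_iff_not_dvd.2 hd).pow_left _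
  set T := Finset.univ.filter (fun θ : IrrCharacter ↥N =>
    (∀ g : G, conjPerm N g θ = θ) ∧ ¬ p ∣ charDegree (θ : ↥N → ℂ)) with hT
  set S := Finset.univ.filter (fun χ : IrrCharacter G =>
    ¬ p ∣ charDegree (χ : G → ℂ) ∧ ¬ p ∣ detOrder (χ : G → ℂ)) with hS
  rw [finsum_mem_eq_sum_of_inter_support_eq _ (t := S) (by ext χ; simp [hS])]
  -- the residual
  have hN : ((Nat.card N : ℕ) : ZMod p) =
      ∑ θ : IrrCharacter ↥N, ((charDegree (θ : ↥N → ℂ) : ℕ) : ZMod p) ^ 2 := by
    have h := sum_degree_sq (G := ↥N)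
    simp only [charDeg_spec'] at h
    have h2 : ∑ θ : IrrCharacter ↥N, charDegree (θ : ↥N → ℂ) ^ 2 = Nat.card N := by
      exact_mod_cast h
    rw [← h2]
    push_cast
    rfl
  obtain ⟨P⟩ : Nonempty (Sylow p G) := inferInstance
  letI act : MulAction (P : Subgroup G) (IrrCharacter ↥N) :=
    { smul := fun x θ => conjPerm N (x : G)⁻¹ θ
      one_smul := fun θ => by
        show conjPerm N ((1 : (P : Subgroup G)) : G)⁻¹ θ = θ
        rw [Subgroup.coe_one, inv_one, conjPerm_one]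
      mul_smul := fun x y θ => by
        show conjPerm N ((x * y : (P : Subgroup G)) : G)⁻¹ θ =
          conjPerm N (x : G)⁻¹ (conjPerm N (y : G)⁻¹ θ)
        rw [conjPerm_mul, Subgroup.coe_mul, mul_inv_rev] }
  have hfix : ∀ θ : IrrCharacter ↥N, θ ∈ MulAction.fixedPoints (P : Subgroup G) (IrrCharacter ↥N) ↔
      ∀ g : G, conjPerm N g θ = θ := by
    intro θ
    refine ⟨fun h g => ?_, fun h x => h _⟩
    have htop : N ⊔ (P : Subgroup G) = ⊤ := Cfsg.Agent.Invol.pResidual_sup_sylow P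
    have hle : N ⊔ (P : Subgroup G) ≤ inertia N (θ : ↥N → ℂ) := by
      refine sup_le (le_inertia N (IsIrr.classFun θ.2)) fun x hx => ?_
      have := congrArg Subtype.val (h ⟨x⁻¹, inv_mem hx⟩)
      change conjN N ((x⁻¹ : G)⁻¹) (θ : ↥N → ℂ) = (θ : ↥N → ℂ) at this
      rwa [inv_inv] at this
    exact Subtype.ext ((mem_inertia _).1 (hle (htop ▸ Subgroup.mem_top g)))
  rw [hN, sum_eq_sum_fixed (p := p) (fun x => by rw [nsmul_eq_mul, ZMod.natCast_self, zero_mul])
    P.2 _ (fun x θ => by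
      congr 2
      refine charDeg_of_one _ ?_
      rw [← charDeg_spec' θ]
      exact congrArg (θ : ↥N → ℂ) (Subtype.ext (by simp))),
    finsum_mem_eq_sum_of_inter_support_eq _ (t := T) (by
      ext θ
      simp only [Set.mem_inter_iff, Function.mem_support, Finset.coe_filter, Finset.mem_univ,
        true_and, Set.mem_ofPred_eq, hT, hfix]
      refine ⟨fun h => ⟨⟨h.1, fun hd => h.2 ?_⟩, h.2⟩, fun h => ⟨h.1.1, h.2⟩⟩
      rw [(ZMod.natCast_eq_zero_iff _ _).2 hd, zero_pow two_ne_zero])]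
  -- the bijection
  have hSmem : ∀ χ ∈ S, ∃ θ : IrrCharacter ↥N, (∀ m : N, (χ : G → ℂ) m = (θ : ↥N → ℂ) m) ∧
      θ ∈ T ∧ charDegree (θ : ↥N → ℂ) = charDegree (χ : G → ℂ) := fun χ hχ => by
    obtain ⟨θ, h1, h2, h3⟩ := exists_restrict (Finset.mem_filter.1 hχ).2.1
    exact ⟨θ, h1, Finset.mem_filter.2 ⟨Finset.mem_univ _, h2, h3 ▸ (Finset.mem_filter.1 hχ).2.1⟩, h3⟩
  choose F hF1 hF2 hF3 using hSmem
  refine (Finset.sum_bij F hF2 (fun χ hχ χ' hχ' he => ?_) (fun θ hθ => ?_)
    (fun χ hχ => by rw [hF3])).symm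
  · obtain ⟨-, hd, ho⟩ := Finset.mem_filter.1 hχ
    obtain ⟨-, -, ho'⟩ := Finset.mem_filter.1 hχ'
    obtain ⟨l, hl⟩ := isCharacter_detChar χ.2
    obtain ⟨l', hl'⟩ := isCharacter_detChar χ'.2
    have e1 := hF1 χ hχ
    have e2 : ∀ m : N, (χ' : G → ℂ) m = (F χ hχ : ↥N → ℂ) m := fun m => by
      rw [hF1 χ' hχ' m, he]
    have hll : l = l' := Ext.linear_unique (N := N) (fun m => Units.ext (by
        have a1 := detChar_comp χ.2 N.subtype (F χ hχ).2 e1 m
        have a2 := detChar_comp χ'.2 N.subtype (F χ hχ).2 e2 m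
        rw [hl] at a1
        rw [hl'] at a2
        exact a1.symm.trans a2))
      (hcop (by rwa [detOrder, hl, orderOf_unitsFun] at ho))
      (hcop (by rwa [detOrder, hl', orderOf_unitsFun] at ho'))
    exact Subtype.ext (Ext.ext_unique (F χ hχ).2 (d := charDegree (F χ hχ : ↥N → ℂ))
      (charDeg_spec' _) (hcop (hF3 χ hχ ▸ hd)) χ.2 χ'.2 e1 e2 (by rw [hl, hl', hll])).symm
  · obtain ⟨-, hinv, hd⟩ := Finset.mem_filter.1 hθ
    set d := charDegree (θ : ↥N → ℂ) with hd0
    obtain ⟨δ, hδ⟩ := isCharacter_detChar θ.2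
    have hδo : ¬ p ∣ orderOf δ := (hp.coprime_iff_not_dvd).1 (orderOf_linear_coprime δ).symm
    have hw : ∀ q : ℕ, q.Prime → Ext.Witness (θ : ↥N → ℂ) d q := fun q hq =>
      Ext.witness_of_coprime θ.2 (by
        rw [hδ, orderOf_unitsFun]
        exact Nat.Coprime.mul_right (hcop hδo) (hcop hd)) hq
    obtain ⟨η, hη, hres⟩ := Ext.exists_extension_of_witness θ.2
      (fun g n => congrFun (congrArg Subtype.val (hinv g)) n) (charDeg_spec' θ) hw
    obtain ⟨l₀, hl₀⟩ := isCharacter_detChar hη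
    have hl₀r : ∀ m : N, (l₀ m : ℂ) = detChar (θ : ↥N → ℂ) m := fun m => by
      rw [detChar_comp hη N.subtype θ.2 hres m, hl₀]; rfl
    obtain ⟨μ, hμ, hμo⟩ := Ext.exists_linear_adjust (N := N) l₀ (o := orderOf δ) (by
        rw [← orderOf_unitsFun δ, ← hδ]
        exact congrArg orderOf (funext hl₀r)) (hcop hδo)
    obtain ⟨χ, hχ, hχr, hχd⟩ := Ext.exists_ext_det θ.2 (charDeg_spec' θ) (hcop hd) hη hres μ
      (fun m => by rw [hμ, hl₀r])
    have hdeg : charDegree χ = d := charDeg_of_one ⟨χ, hχ⟩ (by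
      rw [← charDeg_spec' θ]; exact hχr 1)
    have hmem : (⟨χ, hχ⟩ : IrrCharacter G) ∈ S := Finset.mem_filter.2 ⟨Finset.mem_univ _,
      by rw [show charDegree ((⟨χ, hχ⟩ : IrrCharacter G) : G → ℂ) = d from hdeg]; exact hd,
      by rw [detOrder, show detChar ((⟨χ, hχ⟩ : IrrCharacter G) : G → ℂ) = _ from hχd,
        orderOf_unitsFun, hμo]; exact hδo⟩
    exact ⟨⟨χ, hχ⟩, hmem, Subtype.ext (funext fun m => by rw [← hF1 _ hmem m]; exact hχr m)⟩

end Cfsg.Agent.Char.ResDeg

namespace Cfsg.Agent.Char.ResDeg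

open Cfsg Cfsg.Agent.Block Cfsg.Agent.Char

universe v

variable {G : Type v} [Group G] [Fintype G] {p : ℕ} [Fact p.Prime]

/-- Thompson's theorem on degrees divisible by `p`. -/
theorem residual_coprime
    (hdeg : ∀ χ : IrrCharacter G, charDegree (χ : G → ℂ) ≠ 1 → p ∣ charDegree (χ : G → ℂ)) :
    (Nat.card (pResidual p G)).Coprime p := by
  classical
  have hp : p.Prime := Fact.out
  set n := Nat.card G / p ^ (Nat.card G).factorization p with hn
  have hpn : ¬ p ∣ n := Nat.not_dvd_ordCompl hp Nat.card_pos.ne'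
  let K : Subgroup (G →* ℂˣ) := (powMonoidHom n).ker
  have hpow : ∀ l : G →* ℂˣ, l ^ Nat.card G = 1 := fun l => MonoidHom.ext fun g => by
    rw [MonoidHom.pow_apply, ← map_pow, pow_card_eq_one', map_one, MonoidHom.one_apply]
  have hK : ∀ l : G →* ℂˣ, l ∈ K ↔ ¬ p ∣ orderOf l := fun l => by
    rw [MonoidHom.mem_ker, powMonoidHom_apply]
    refine ⟨fun h hd => hpn (hd.trans (orderOf_dvd_of_pow_eq_one h)), fun h => ?_⟩
    refine orderOf_dvd_iff_pow_eq_one.1 (((hp.coprime_iff_not_dvd.2 h).symm.pow_right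
      ((Nat.card G).factorization p)).dvd_of_dvd_mul_left ?_)
    rw [hn, Nat.ordProj_mul_ordCompl_eq_self]
    exact orderOf_dvd_of_pow_eq_one (hpow l)
  set S := {χ : IrrCharacter G | ¬ p ∣ charDegree (χ : G → ℂ) ∧ ¬ p ∣ detOrder (χ : G → ℂ)} with hS
  let F : K → S := fun l => ⟨⟨fun g => ((l : G →* ℂˣ) g : ℂ), isIrr_linear (l : G →* ℂˣ)⟩, by
    refine ⟨?_, ?_⟩
    · rw [charDeg_of_one (⟨fun g => ((l : G →* ℂˣ) g : ℂ), isIrr_linear (l : G →* ℂˣ)⟩ : IrrCharacter G)
        (d := 1) (by simp)]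
      exact hp.not_dvd_one
    · rw [detOrder]
      simp only [detChar_linear, orderOf_unitsFun]
      exact (hK _).1 l.2⟩
  have hF : Function.Bijective F := by
    refine ⟨fun a b h => ?_, fun χ => ?_⟩
    · have h' := congrArg Subtype.val (congrArg Subtype.val h :)
      exact Subtype.ext (MonoidHom.ext fun g => Units.ext (congrFun h' g))
    · obtain ⟨χ, hd, ho⟩ := χ
      have h1 : charDegree (χ : G → ℂ) = 1 := not_not.1 fun h => hd (hdeg χ h)
      obtain ⟨l, hl⟩ := linearHom_of_isCharacter (irr_isChar χ) (by rw [charDeg_spec' χ, h1, Nat.cast_one])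
      refine ⟨⟨l, (hK l).2 ?_⟩, Subtype.ext (Subtype.ext hl.symm)⟩
      rwa [detOrder, hl, detChar_linear, orderOf_unitsFun] at ho
  haveI : Finite K := Finite.of_injective F hF.1
  have hcard : ((Nat.card (pResidual p G) : ℕ) : ZMod p) = ((Nat.card K : ℕ) : ZMod p) := by
    rw [card_set_congr, Nat.card_congr (Equiv.ofBijective F hF), finsum_mem_eq_toFinset_sum,
      Nat.card_eq_card_toFinset S]
    rw [Finset.sum_congr rfl (g := fun _ => (1 : ZMod p)) fun χ hχ => by
      obtain ⟨hd, -⟩ := Set.mem_toFinset.1 hχ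
      rw [show charDegree (χ : G → ℂ) = 1 from not_not.1 fun h => hd (hdeg χ h), Nat.cast_one,
        one_pow], Finset.sum_const, nsmul_eq_mul, mul_one]
  refine (Nat.Coprime.symm ((hp.coprime_iff_not_dvd).2 fun hd => ?_))
  rw [(ZMod.natCast_eq_zero_iff _ _).2 hd] at hcard
  obtain ⟨l, hl⟩ := exists_prime_orderOf_dvd_card' p ((ZMod.natCast_eq_zero_iff _ _).1 hcard.symm)
  refine (hK (l : G →* ℂˣ)).1 l.2 ?_
  rw [Subgroup.orderOf_coe, hl]

end Cfsg.Agent.Char.ResDeg
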