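import Cfsg.Prelude.Def_OddOrderChar
import Cfsg.Agent.Lib.Char.Constituent

/-!
Coherence systems: splitting of images of differences and coherence for equal degrees.
-/

namespace Cfsg.Agent.Char.Coh

open scoped ComplexConjugate
open Cfsg

set_option linter.unusedSectionVars false

universe u v

variable {L : Type u} [Group L] [Fintype L] {G : Type v} [Group G] [Fintype G]
variable {χ φ ψ : L → ℂ} {S : Set (L → ℂ)} {τ : (L → ℂ) → (G → ℂ)} {R : (L → ℂ) → Finset (G → ℂ)}

theorem classInner_conjFun_self (f : L → ℂ) :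
    classInner (conjFun f) (conjFun f) = classInner f f := by
  simp only [classInner, conjFun, Complex.conj_conj]
  congr 1
  exact Finset.sum_congr rfl fun x _ => mul_comm _ _

theorem conjFun_conjFun (f : L → ℂ) : conjFun (conjFun f) = f := by
  funext x
  simp [conjFun]

theorem mem_zspanOn_one {α : L → ℂ} (h : α ∈ zspan S) (h1 : α 1 = 0) : α ∈ zspanOn S {1}ᶜ :=
  ⟨h, fun x hx => by
    rw [Set.mem_compl_iff, Set.mem_singleton_iff, not_not] at hx
    rw [hx, h1]⟩

theorem one_of_mem_zspanOn {α : L → ℂ} (h : α ∈ zspanOn S {1}ᶜ) : α 1 = 0 := h.2 1 (by simp)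

theorem sub_mem (hφ : φ ∈ S) (hψ : ψ ∈ S) (h1 : φ 1 = ψ 1) : φ - ψ ∈ zspanOn S {1}ᶜ :=
  mem_zspanOn_one (Submodule.sub_mem _ (Submodule.subset_span hφ) (Submodule.subset_span hψ))
    (by rw [Pi.sub_apply, h1, sub_self])

theorem conjFun_one (hS : IsCoherenceSystem S τ R) (hφ : φ ∈ S) : conjFun φ 1 = φ 1 := by
  obtain ⟨n, hn⟩ := IsChar.one_eq_nat (hS.isCharacter φ hφ)
  simp [conjFun, hn]

theorem one_ne_zero' (hS : IsCoherenceSystem S τ R) (hφ : φ ∈ S) : φ 1 ≠ 0 := fun h => by
  refine hS.conj_ne φ hφ (funext fun g => ?_)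
  have := IsChar.norm_le (hS.isCharacter φ hφ) g
  rw [h, norm_zero, norm_le_zero_iff] at this
  simp [conjFun, this]

theorem inner_sum_self (hS : IsCoherenceSystem S τ R) (hχ : χ ∈ S) (A : Finset (G → ℂ))
    (hA : A ⊆ R χ) : classInner (∑ α ∈ A, α) (∑ α ∈ A, α) = A.card := by
  classical
  rw [classInner_sum_left, Finset.sum_congr rfl (g := fun _ => (1 : ℂ))]
  · simp
  intro α hα
  rw [classInner_sum_right, Finset.sum_congr rfl fun β hβ => hS.orthonormal χ hχ α (hA hα) β (hA hβ),
    Finset.sum_ite_eq, if_pos hα]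

theorem card_R (hS : IsCoherenceSystem S τ R) (hχ : χ ∈ S) {n : ℕ} (hn : classInner χ χ = n) :
    (R χ).card = 2 * n := by
  have hc := hS.conj_mem χ hχ
  have hm := sub_mem hχ hc (conjFun_one hS hχ).symm
  have h := inner_sum_self hS hχ (R χ) subset_rfl
  rw [← hS.sum_eq χ hχ, hS.isometry.2.2.1 _ hm _ hm, classInner_sub_left, classInner_sub_right,
    classInner_sub_right, classInner_conjFun_self, hn,
    hS.orthogonal χ hχ _ hc (hS.conj_ne χ hχ).symm, hS.orthogonal _ hc χ hχ (hS.conj_ne χ hχ)] at h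
  have h' : ((2 * n : ℕ) : ℂ) = ((R χ).card : ℂ) := by rw [← h]; push_cast; ring
  exact (Nat.cast_injective h').symm

/-- The image of a difference of members of equal degree splits along the two orthonormal sets. -/
theorem split (hS : IsCoherenceSystem S τ R) (hχ : χ ∈ S) (hφ : φ ∈ S) (hdeg : χ 1 = φ 1)
    (hne : φ ≠ χ) (hne' : φ ≠ conjFun χ) {n : ℕ} (hn : classInner χ χ = n) :
    ∃ A B : Finset (G → ℂ), A ⊆ R χ ∧ B ⊆ R φ ∧ A.card = n ∧
      τ (χ - φ) = ∑ α ∈ A, α - ∑ β ∈ B, β := by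
  classical
  obtain ⟨m, hm⟩ := IsChar.classInner_nat (hS.isCharacter φ hφ) (hS.isCharacter φ hφ)
  have hc := hS.conj_mem χ hχ
  have hcφ := hS.conj_mem φ hφ
  have hD := sub_mem hχ hφ hdeg
  have o1 : classInner φ χ = 0 := hS.orthogonal φ hφ χ hχ hne
  have o2 : classInner φ (conjFun χ) = 0 := hS.orthogonal φ hφ _ hc hne'
  have o3 : classInner χ φ = 0 := hS.orthogonal χ hχ φ hφ hne.symm
  have o4 : classInner χ (conjFun φ) = 0 := hS.orthogonal χ hχ _ hcφ fun e => hne' (by
    rw [e, conjFun_conjFun])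
  have hdisj : ∀ β ∈ R φ, ∀ α ∈ R χ, classInner β α = 0 := hS.disjoint χ hχ φ hφ o1 o2
  have hdisj' : ∀ α ∈ R χ, ∀ β ∈ R φ, classInner α β = 0 := fun α hα β hβ => by
    rw [← classInner_conj_symm, hdisj β hβ α hα, map_zero]
  set D := τ (χ - φ) with hDdef
  have hDgen : IsGeneralizedCharacter G D := hS.isometry.2.2.2 _ hD
  choose a ha using fun (α : G → ℂ) (hα : α ∈ R χ) =>
    IsGenChar.classInner_int hDgen (hS.virtual χ hχ α hα)
  choose b hb using fun (β : G → ℂ) (hβ : β ∈ R φ) =>
    IsGenChar.classInner_int hDgen (hS.virtual φ hφ β hβ)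
  let a' : (G → ℂ) → ℤ := fun α => if h : α ∈ R χ then a α h else 0
  let b' : (G → ℂ) → ℤ := fun β => if h : β ∈ R φ then b β h else 0
  have ha' : ∀ α ∈ R χ, classInner D α = (a' α : ℂ) := fun α hα => by
    simp only [a', dif_pos hα]; exact ha α hα
  have hb' : ∀ β ∈ R φ, classInner D β = (b' β : ℂ) := fun β hβ => by
    simp only [b', dif_pos hβ]; exact hb β hβ
  have sa : ∑ α ∈ R χ, a' α = (n : ℤ) := by
    have h : classInner D (∑ α ∈ R χ, α) = (n : ℂ) := by
      rw [← hS.sum_eq χ hχ, hS.isometry.2.2.1 _ hD _ (sub_mem hχ hc (conjFun_one hS hχ).symm),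
        classInner_sub_left, classInner_sub_right, classInner_sub_right, hn, o1, o2,
        hS.orthogonal χ hχ _ hc (hS.conj_ne χ hχ).symm]
      ring
    rw [classInner_sum_right, Finset.sum_congr rfl ha'] at h
    exact_mod_cast h
  have sb : ∑ β ∈ R φ, b' β = -(m : ℤ) := by
    have h : classInner D (∑ β ∈ R φ, β) = -(m : ℂ) := by
      rw [← hS.sum_eq φ hφ, hS.isometry.2.2.1 _ hD _ (sub_mem hφ hcφ (conjFun_one hS hφ).symm),
        classInner_sub_left, classInner_sub_right, classInner_sub_right, hm, o3, o4,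
        hS.orthogonal φ hφ _ hcφ (hS.conj_ne φ hφ).symm]
      ring
    rw [classInner_sum_right, Finset.sum_congr rfl hb'] at h
    exact_mod_cast h
  have hDD : classInner D D = (n : ℂ) + (m : ℂ) := by
    rw [hDdef, hS.isometry.2.2.1 _ hD _ hD, classInner_sub_left, classInner_sub_right,
      classInner_sub_right, hn, hm, o1, o3]
    ring
  set P := ∑ α ∈ R χ, (a' α : ℂ) • α with hP
  set Q := ∑ β ∈ R φ, (b' β : ℂ) • β with hQ
  have hPβ : ∀ β ∈ R φ, classInner P β = 0 := fun β hβ => by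
    rw [hP, classInner_sum_left]
    exact Finset.sum_eq_zero fun α hα => by rw [classInner_smul_left, hdisj' α hα β hβ, mul_zero]
  have hQα : ∀ α ∈ R χ, classInner Q α = 0 := fun α hα => by
    rw [hQ, classInner_sum_left]
    exact Finset.sum_eq_zero fun β hβ => by rw [classInner_smul_left, hdisj β hβ α hα, mul_zero]
  have hPα : ∀ α ∈ R χ, classInner P α = (a' α : ℂ) := fun α hα => by
    rw [hP, classInner_sum_left, Finset.sum_congr rfl fun γ hγ => by
      rw [classInner_smul_left, hS.orthonormal χ hχ γ hγ α hα], Finset.sum_eq_single α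
      (fun γ _ h => by rw [if_neg h, mul_zero]) (fun h => absurd hα h), if_pos rfl, mul_one]
  have hQβ : ∀ β ∈ R φ, classInner Q β = (b' β : ℂ) := fun β hβ => by
    rw [hQ, classInner_sum_left, Finset.sum_congr rfl fun γ hγ => by
      rw [classInner_smul_left, hS.orthonormal φ hφ γ hγ β hβ], Finset.sum_eq_single β
      (fun γ _ h => by rw [if_neg h, mul_zero]) (fun h => absurd hβ h), if_pos rfl, mul_one]
  set V := D - P - Q with hV
  have hVα : ∀ α ∈ R χ, classInner V α = 0 := fun α hα => by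
    rw [hV, classInner_sub_left, classInner_sub_left, ha' α hα, hPα α hα, hQα α hα]; ring
  have hVβ : ∀ β ∈ R φ, classInner V β = 0 := fun β hβ => by
    rw [hV, classInner_sub_left, classInner_sub_left, hb' β hβ, hPβ β hβ, hQβ β hβ]; ring
  have hVP : classInner V P = 0 := by
    rw [hP, classInner_sum_right]
    exact Finset.sum_eq_zero fun α hα => by rw [classInner_smul_right, hVα α hα, mul_zero]
  have hVQ : classInner V Q = 0 := by
    rw [hQ, classInner_sum_right]
    exact Finset.sum_eq_zero fun β hβ => by rw [classInner_smul_right, hVβ β hβ, mul_zero]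
  have hVgen : IsGeneralizedCharacter G V := by
    refine IsGenChar.sub (IsGenChar.sub hDgen ?_) ?_
    · exact IsGenChar.sum fun α hα => IsGenChar.zsmul (hS.virtual χ hχ α hα) _
    · exact IsGenChar.sum fun β hβ => IsGenChar.zsmul (hS.virtual φ hφ β hβ) _
  obtain ⟨c, -, hc'⟩ := IsGenChar.exists_decomp hVgen
  have hVV : classInner V V =
      ((((n : ℤ) + m - ∑ α ∈ R χ, a' α ^ 2 - ∑ β ∈ R φ, b' β ^ 2 : ℤ)) : ℂ) := by
    have e1 : classInner V V = classInner V D := by
      conv_lhs => arg 2; rw [hV]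
      rw [classInner_sub_right, classInner_sub_right, hVP, hVQ, sub_zero, sub_zero]
    have e2 : classInner P D = ((∑ α ∈ R χ, a' α ^ 2 : ℤ) : ℂ) := by
      rw [hP, classInner_sum_left, Int.cast_sum]
      refine Finset.sum_congr rfl fun α hα => ?_
      rw [classInner_smul_left, ← classInner_conj_symm D α, ha' α hα, map_intCast]
      push_cast; ring
    have e3 : classInner Q D = ((∑ β ∈ R φ, b' β ^ 2 : ℤ) : ℂ) := by
      rw [hQ, classInner_sum_left, Int.cast_sum]
      refine Finset.sum_congr rfl fun β hβ => ?_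
      rw [classInner_smul_left, ← classInner_conj_symm D β, hb' β hβ, map_intCast]
      push_cast; ring
    rw [e1, hV, classInner_sub_left, classInner_sub_left, hDD, e2, e3]
    push_cast; ring
  have hsq : 0 ≤ (n : ℤ) + m - ∑ α ∈ R χ, a' α ^ 2 - ∑ β ∈ R φ, b' β ^ 2 := by
    rw [hc', IsGenChar.classInner_self_int] at hVV
    rw [← Int.cast_injective hVV]
    exact Finset.sum_nonneg fun _ _ => sq_nonneg _
  have ha2 : ∀ α ∈ R χ, a' α ≤ a' α ^ 2 := fun α _ => Int.le_self_sq _
  have hb2 : ∀ β ∈ R φ, -b' β ≤ b' β ^ 2 := fun β _ => by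
    have := Int.le_self_sq (-b' β); rwa [neg_sq] at this
  have ta := Finset.sum_le_sum ha2
  have tb := Finset.sum_le_sum hb2
  rw [Finset.sum_neg_distrib, sb, neg_neg] at tb
  rw [sa] at ta
  have eqa := (Finset.sum_eq_sum_iff_of_le ha2).1 (by rw [sa]; omega)
  have eqb := (Finset.sum_eq_sum_iff_of_le hb2).1 (by rw [Finset.sum_neg_distrib, sb, neg_neg]; omega)
  have hA01 : ∀ α ∈ R χ, a' α = 0 ∨ a' α = 1 := fun α hα => by
    have : a' α * (a' α - 1) = 0 := by linear_combination -(eqa α hα)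
    rcases mul_eq_zero.1 this with h | h
    · exact Or.inl h
    · exact Or.inr (by omega)
  have hB01 : ∀ β ∈ R φ, b' β = 0 ∨ b' β = -1 := fun β hβ => by
    have : b' β * (b' β + 1) = 0 := by linear_combination -(eqb β hβ)
    rcases mul_eq_zero.1 this with h | h
    · exact Or.inl h
    · exact Or.inr (by omega)
  have hV0 : V = 0 := by
    rw [← classInner_self_eq_zero, hVV, Int.cast_eq_zero]
    omega
  refine ⟨(R χ).filter fun α => a' α = 1, (R φ).filter fun β => b' β = -1, Finset.filter_subset _ _,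
    Finset.filter_subset _ _, ?_, ?_⟩
  · have h : ((((R χ).filter fun α => a' α = 1).card : ℕ) : ℤ) = n := by
      rw [← sa, Finset.card_filter, Nat.cast_sum]
      exact Finset.sum_congr rfl fun α hα => by rcases hA01 α hα with h | h <;> simp [h]
    exact_mod_cast h
  · have e : D = P + Q := by rw [← sub_eq_zero, ← hV0, hV]; abel
    rw [e, hP, hQ, Finset.sum_filter, Finset.sum_filter, sub_eq_add_neg, ← Finset.sum_neg_distrib]
    congr 1
    · exact Finset.sum_congr rfl fun α hα => by rcases hA01 α hα with h | h <;> simp [h]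
    · exact Finset.sum_congr rfl fun β hβ => by rcases hB01 β hβ with h | h <;> simp [h]

/-- With a suitable image of one member, every set of members of equal degree is coherent. -/
theorem equal_degree (hS : IsCoherenceSystem S τ R) (hdeg : ∀ φ ∈ S, ∀ ψ ∈ S, φ 1 = ψ 1) :
    IsCoherent S {1}ᶜ τ := by
  classical
  obtain ⟨χ, hχ⟩ := hS.nonempty
  obtain ⟨n, hn⟩ := IsChar.classInner_nat (hS.isCharacter χ hχ) (hS.isCharacter χ hχ)
  have hc := hS.conj_mem χ hχ
  obtain ⟨X, hXgen, hXX, hX⟩ : ∃ X : G → ℂ, IsGeneralizedCharacter G X ∧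
      classInner X X = n ∧ ∀ φ ∈ S, φ ≠ χ → classInner (τ (χ - φ)) X = n := by
    have hsum : ∀ A ⊆ R χ, A.card = n → classInner (τ (χ - conjFun χ)) (∑ α ∈ A, α) = n := by
      intro A hA hcard
      rw [hS.sum_eq χ hχ, classInner_sum_left, Finset.sum_congr rfl fun α hα => by
        rw [classInner_sum_right, Finset.sum_congr rfl fun β hβ =>
          hS.orthonormal χ hχ α hα β (hA hβ), Finset.sum_ite_eq],
        Finset.sum_boole, Finset.filter_mem_eq_inter, Finset.inter_eq_right.2 hA, hcard]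
    have hgenA : ∀ A ⊆ R χ, IsGeneralizedCharacter G (∑ α ∈ A, α) := fun A hA =>
      IsGenChar.sum fun α hα => hS.virtual χ hχ α (hA hα)
    by_cases hex : ∃ φ ∈ S, φ ≠ χ ∧ φ ≠ conjFun χ
    · obtain ⟨φ₀, hφ₀, h0, h0'⟩ := hex
      obtain ⟨A, B, hA, hB, hAn, he₀⟩ := split hS hχ hφ₀ (hdeg χ hχ φ₀ hφ₀) h0 h0' hn
      have hdisj₀ : ∀ β ∈ R φ₀, ∀ α ∈ R χ, classInner β α = 0 :=
        hS.disjoint χ hχ φ₀ hφ₀ (hS.orthogonal _ hφ₀ _ hχ h0) (hS.orthogonal _ hφ₀ _ hc h0')
      have hB0 : ∀ B ⊆ R φ₀, classInner (∑ β ∈ B, β) (∑ α ∈ A, α) = 0 := fun B hB => by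
        rw [classInner_sum_left]
        exact Finset.sum_eq_zero fun β hβ => by
          rw [classInner_sum_right]
          exact Finset.sum_eq_zero fun α hα => hdisj₀ β (hB hβ) α (hA hα)
      have hφ₀val : classInner (τ (χ - φ₀)) (∑ α ∈ A, α) = n := by
        rw [he₀, classInner_sub_left, hB0 B hB, inner_sum_self hS hχ A hA, hAn, sub_zero]
      refine ⟨_, hgenA A hA, by rw [inner_sum_self hS hχ A hA, hAn], fun φ hφ hφχ => ?_⟩
      by_cases h1 : φ = conjFun χ
      · rw [h1]; exact hsum A hA hAn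
      by_cases h2 : φ = φ₀
      · rw [h2]; exact hφ₀val
      by_cases h3 : φ = conjFun φ₀
      · have hc0 := hS.conj_mem φ₀ hφ₀
        have e : χ - φ = (χ - φ₀) + (φ₀ - conjFun φ₀) := by rw [h3]; abel
        rw [e, hS.isometry.1 _ (sub_mem hχ hφ₀ (hdeg χ hχ φ₀ hφ₀)) _
          (sub_mem hφ₀ hc0 (hdeg φ₀ hφ₀ _ hc0)), classInner_add_left, hφ₀val, hS.sum_eq φ₀ hφ₀,
          hB0 _ subset_rfl, add_zero]
      obtain ⟨A', B', hA', hB', -, he⟩ := split hS hχ hφ (hdeg χ hχ φ hφ) hφχ h1 hn
      have d1 : ∀ β ∈ R φ, ∀ α ∈ R χ, classInner β α = 0 :=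
        hS.disjoint χ hχ φ hφ (hS.orthogonal _ hφ _ hχ hφχ) (hS.orthogonal _ hφ _ hc h1)
      have d2 : ∀ β ∈ R φ, ∀ β₀ ∈ R φ₀, classInner β β₀ = 0 :=
        hS.disjoint φ₀ hφ₀ φ hφ (hS.orthogonal _ hφ _ hφ₀ h2)
          (hS.orthogonal _ hφ _ (hS.conj_mem φ₀ hφ₀) h3)
      have z1 : classInner (∑ β ∈ B', β) (∑ α ∈ A, α) = 0 := by
        rw [classInner_sum_left]
        exact Finset.sum_eq_zero fun β hβ => by
          rw [classInner_sum_right]
          exact Finset.sum_eq_zero fun α hα => d1 β (hB' hβ) α (hA hα)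
      have z2 : classInner (∑ β ∈ B', β) (∑ β ∈ B, β) = 0 := by
        rw [classInner_sum_left]
        exact Finset.sum_eq_zero fun β hβ => by
          rw [classInner_sum_right]
          exact Finset.sum_eq_zero fun β₀ hβ₀ => d2 β (hB' hβ) β₀ (hB hβ₀)
      have z3 : classInner (∑ α ∈ A', α) (∑ β ∈ B, β) = 0 := by
        rw [classInner_sum_left]
        exact Finset.sum_eq_zero fun α hα => by
          rw [classInner_sum_right]
          exact Finset.sum_eq_zero fun β hβ => by
            rw [← classInner_conj_symm, hdisj₀ β (hB hβ) α (hA' hα), map_zero]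
      have key := hS.isometry.2.2.1 _ (sub_mem hχ hφ (hdeg χ hχ φ hφ)) _
        (sub_mem hχ hφ₀ (hdeg χ hχ φ₀ hφ₀))
      rw [he, he₀] at key
      simp only [classInner_sub_left, classInner_sub_right, z1, z2, z3, sub_zero] at key
      rw [hn, hS.orthogonal χ hχ φ₀ hφ₀ (Ne.symm h0), hS.orthogonal φ hφ χ hχ hφχ,
        hS.orthogonal φ hφ φ₀ hφ₀ h2] at key
      rw [he, classInner_sub_left, z1, sub_zero, key]
      ring
    · obtain ⟨A, hA, hAn⟩ := Finset.exists_subset_card_eq (s := R χ) (n := n)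
        (by rw [card_R hS hχ hn]; omega)
      refine ⟨_, hgenA A hA, by rw [inner_sum_self hS hχ A hA, hAn], fun φ hφ hφχ => ?_⟩
      have : φ = conjFun χ := by
        by_contra h
        exact hex ⟨φ, hφ, hφχ, h⟩
      rw [this]; exact hsum A hA hAn
  -- integer coordinates
  have hint : ∀ α ∈ zspan S, ∃ z : ℤ, α 1 = (z : ℂ) * χ 1 := by
    intro α hα
    induction hα using Submodule.span_induction with
    | mem x hx => exact ⟨1, by rw [hdeg x hx χ hχ]; simp⟩
    | zero => exact ⟨0, by simp⟩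
    | add x y _ _ hx hy =>
      obtain ⟨a, ha⟩ := hx; obtain ⟨b, hb⟩ := hy
      exact ⟨a + b, by rw [Pi.add_apply, ha, hb]; push_cast; ring⟩
    | smul c x _ hx =>
      obtain ⟨a, ha⟩ := hx
      exact ⟨c * a, by rw [Pi.smul_apply, ha, zsmul_eq_mul]; push_cast; ring⟩
  have hd0 := one_ne_zero' hS hχ
  have hpair : ∀ β ∈ zspanOn S {1}ᶜ, classInner (τ β) X = classInner β χ := by
    intro β hβ
    have main : ∀ γ ∈ zspan S, ∀ z : ℤ, γ 1 = (z : ℂ) * χ 1 →
        classInner (τ (γ - z • χ)) X = classInner (γ - z • χ) χ := by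
      intro γ hγ
      induction hγ using Submodule.span_induction with
      | mem x hx =>
        intro z hz
        have hz1 : z = 1 := by
          rw [hdeg x hx χ hχ] at hz
          exact_mod_cast (mul_right_cancel₀ hd0 ((one_mul _).trans hz)).symm
        rw [hz1, one_smul]
        by_cases hxχ : x = χ
        · rw [hxχ]
          have h0 : (χ - χ : L → ℂ) = (0 : ℤ) • (χ - conjFun χ) := by simp
          rw [h0, hS.isometry.2.1 _ (sub_mem hχ hc (conjFun_one hS hχ).symm) 0]
          simp [classInner]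
        · rw [← neg_sub χ x, show -(χ - x) = (-1 : ℤ) • (χ - x) by simp,
            hS.isometry.2.1 _ (sub_mem hχ hx (hdeg χ hχ x hx)) (-1), neg_one_zsmul, neg_one_zsmul,
            classInner_neg_left, classInner_neg_left, hX x hx hxχ, classInner_sub_left,
            hn, hS.orthogonal x hx χ hχ hxχ, sub_zero]
      | zero =>
        intro z hz
        have hz0 : z = 0 := by
          rw [Pi.zero_apply] at hz
          exact_mod_cast (mul_eq_zero.1 hz.symm).resolve_right hd0
        rw [hz0, zero_smul, sub_zero]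
        have h0 : (0 : L → ℂ) = (0 : ℤ) • (χ - conjFun χ) := by simp
        rw [h0, hS.isometry.2.1 _ (sub_mem hχ hc (conjFun_one hS hχ).symm) 0]
        simp [classInner]
      | add x y hxs hys hx hy =>
        intro z hz
        obtain ⟨a, ha⟩ := hint x hxs
        obtain ⟨b, hb⟩ := hint y hys
        have hzab : z = a + b := by
          rw [Pi.add_apply, ha, hb, ← add_mul] at hz
          exact_mod_cast (mul_right_cancel₀ hd0 hz).symm
        have mx : x - a • χ ∈ zspanOn S {1}ᶜ := mem_zspanOn_one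
          (Submodule.sub_mem _ hxs (Submodule.smul_mem _ _ (Submodule.subset_span hχ)))
          (by rw [Pi.sub_apply, Pi.smul_apply, zsmul_eq_mul, ha, sub_self])
        have my : y - b • χ ∈ zspanOn S {1}ᶜ := mem_zspanOn_one
          (Submodule.sub_mem _ hys (Submodule.smul_mem _ _ (Submodule.subset_span hχ)))
          (by rw [Pi.sub_apply, Pi.smul_apply, zsmul_eq_mul, hb, sub_self])
        rw [hzab, add_smul, add_sub_add_comm, hS.isometry.1 _ mx _ my, classInner_add_left,
          hx a ha, hy b hb, ← classInner_add_left]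
      | smul c x hxs hx =>
        intro z hz
        obtain ⟨a, ha⟩ := hint x hxs
        have hzc : z = c * a := by
          rw [Pi.smul_apply, zsmul_eq_mul, ha, ← mul_assoc] at hz
          exact_mod_cast (mul_right_cancel₀ hd0 hz).symm
        have mx : x - a • χ ∈ zspanOn S {1}ᶜ := mem_zspanOn_one
          (Submodule.sub_mem _ hxs (Submodule.smul_mem _ _ (Submodule.subset_span hχ)))
          (by rw [Pi.sub_apply, Pi.smul_apply, zsmul_eq_mul, ha, sub_self])
        rw [hzc, mul_smul, ← smul_sub, hS.isometry.2.1 _ mx c, ← Int.cast_smul_eq_zsmul ℂ c (τ _),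
          ← Int.cast_smul_eq_zsmul ℂ c (x - a • χ), classInner_smul_left, classInner_smul_left,
          hx a ha]
    have := main β hβ.1 0 (by rw [one_of_mem_zspanOn hβ]; simp)
    simpa using this
  choose! z hz using hint
  let τ₁ : (L → ℂ) → (G → ℂ) := fun α => z α • X + τ (α - z α • χ)
  have hmem : ∀ α ∈ zspan S, α - z α • χ ∈ zspanOn S {1}ᶜ := fun α hα => mem_zspanOn_one
    (Submodule.sub_mem _ hα (Submodule.smul_mem _ _ (Submodule.subset_span hχ)))
    (by rw [Pi.sub_apply, Pi.smul_apply, zsmul_eq_mul, hz α hα, sub_self])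
  have hzuniq : ∀ {α : L → ℂ} {k : ℤ}, α ∈ zspan S → α 1 = (k : ℂ) * χ 1 → z α = k :=
    fun {α k} hα hk => by
      exact_mod_cast mul_right_cancel₀ hd0 ((hz α hα).symm.trans hk)
  refine ⟨⟨χ - conjFun χ, sub_mem hχ hc (conjFun_one hS hχ).symm,
    sub_ne_zero.2 (hS.conj_ne χ hχ).symm⟩, τ₁, ⟨fun α hα β hβ => ?_, fun α hα k => ?_,
    fun α hα β hβ => ?_, fun α hα => ?_⟩, fun α hα => ?_⟩
  · have e : z (α + β) = z α + z β := hzuniq (Submodule.add_mem _ hα hβ) (by
      rw [Pi.add_apply, hz α hα, hz β hβ]; push_cast; ring)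
    simp only [τ₁]
    rw [e, add_smul, add_smul, add_sub_add_comm, hS.isometry.1 _ (hmem α hα) _ (hmem β hβ)]
    abel
  · have e : z (k • α) = k * z α := hzuniq (Submodule.smul_mem _ _ hα) (by
      rw [Pi.smul_apply, zsmul_eq_mul, hz α hα]; push_cast; ring)
    simp only [τ₁]
    rw [e, mul_smul, mul_smul, ← smul_sub, hS.isometry.2.1 _ (hmem α hα) k, smul_add]
  · have p1 := hpair _ (hmem α hα)
    have p2 := hpair _ (hmem β hβ)
    have p2' : classInner X (τ (β - z β • χ)) = classInner χ (β - z β • χ) := by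
      rw [← classInner_conj_symm, p2, classInner_conj_symm]
    have hq := hS.isometry.2.2.1 _ (hmem α hα) _ (hmem β hβ)
    conv_rhs => rw [← add_sub_cancel (z α • χ) α, ← add_sub_cancel (z β • χ) β]
    simp only [τ₁, ← Int.cast_smul_eq_zsmul ℂ, classInner_add_left, classInner_add_right,
      classInner_smul_left, classInner_smul_right] at p1 p2' hq ⊢
    rw [p1, p2', hq, hXX, hn]
  · simp only [τ₁]
    rw [← Int.cast_smul_eq_zsmul ℂ (z α) X]
    exact IsGenChar.add (IsGenChar.zsmul hXgen _) (hS.isometry.2.2.2 _ (hmem α hα))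
  · simp only [τ₁]
    rw [hzuniq hα.1 (k := 0) (by rw [one_of_mem_zspanOn hα]; simp)]
    simp

end Cfsg.Agent.Char.Coh
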