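import Cfsg.Agent.Lib.Char.FeitCoherence
import Cfsg.Agent.Lib.Char.Coherence
import Cfsg.Agent.S1516

/-!
Coherence systems on characters induced from a soluble normal subgroup: the descent step.
-/

set_option autoImplicit false
set_option linter.unusedSectionVars false

namespace Cfsg.Agent.Char.Descent

open scoped ComplexConjugate commutatorElement
open Cfsg Cfsg.Agent.Char.FrobTI Cfsg.Agent.Char.KerSets Cfsg.Agent.Char.Coh

universe u v

section
variable {X : Type u} [Group X] [Fintype X]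

/-- The degree of a character is bounded by a subgroup central modulo its kernel. -/
theorem sq_le_index (Zc : Subgroup X) {φ : X → ℂ} (hφ : IsIrrCharacter X φ) {n : ℕ}
    (hn : φ 1 = (n : ℂ)) (hcen : ∀ z ∈ Zc, ∀ g : X, φ (z * g * z⁻¹ * g⁻¹) = φ 1) :
    n ^ 2 ≤ Zc.index := by
  classical
  have habs : ∀ z : X, z ∈ Zc → Complex.normSq (φ z) = (n : ℝ) ^ 2 := by
    intro z hz
    obtain ⟨c, hc, hmul⟩ := IsIrr.exists_scalar hφ (z := z) (hcen z hz)
    have h := hmul 1
    rw [mul_one, hn] at h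
    rw [h, Complex.normSq_mul, Complex.normSq_eq_norm_sq, hc, one_pow, one_mul, Complex.normSq_natCast]
    ring
  have hsum : ∑ k : X, Complex.normSq (φ k) = (Nat.card X : ℝ) := by
    have h := classInner_self_irr hφ
    rw [classInner, inv_mul_eq_iff_eq_mul₀ (Nat.cast_ne_zero.mpr Nat.card_pos.ne'), mul_one] at h
    simp only [Complex.mul_conj] at h
    exact_mod_cast h
  have hle : ((Nat.card Zc * n ^ 2 : ℕ) : ℝ) ≤ (Nat.card X : ℝ) := by
    rw [← hsum]
    refine le_trans (le_of_eq ?_) (Finset.sum_le_sum_of_subset_of_nonneg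
      (Finset.subset_univ (Finset.univ.filter fun k : X => k ∈ Zc))
      fun _ _ _ => Complex.normSq_nonneg _)
    rw [Finset.sum_congr rfl fun k hk => habs k (Finset.mem_filter.1 hk).2, Finset.sum_const,
      nsmul_eq_mul, Nat.card_eq_fintype_card, Fintype.card_subtype]
    simp
  have hle' : Nat.card Zc * n ^ 2 ≤ Nat.card X := by exact_mod_cast hle
  rw [← Zc.card_mul_index] at hle'
  exact Nat.le_of_mul_le_mul_left hle' Nat.card_pos

/-- An irreducible character with the derived subgroup in its kernel is linear. -/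
theorem one_of_commutator {φ : X → ℂ} (hφ : IsIrrCharacter X φ)
    (h : ∀ k ∈ commutator X, φ k = φ 1) : φ 1 = 1 := by
  obtain ⟨ψ, hψ, hf⟩ := IsIrr.exists_factor_quotient hφ (commutator X) h
  rw [← hf 1]
  exact IsIrr.one_of_comm (G := X ⧸ commutator X) (fun a b => Abelianization.commGroup (G := X) |>.mul_comm a b) hψ

theorem commutator_sup_ne_top [Group.IsSolvable X] {A : Subgroup X} [A.Normal] (hA : A ≠ ⊤) :
    commutator X ⊔ A ≠ ⊤ := by
  intro h
  haveI : Nontrivial (X ⧸ A) := QuotientGroup.nontrivial_iff.2 hA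
  refine (Group.IsSolvable.commutator_lt_top_of_nontrivial (X ⧸ A)).ne ?_
  have h2 := Subgroup.map_top_of_surjective (QuotientGroup.mk' A) (QuotientGroup.mk'_surjective A)
  rw [← h, Subgroup.map_sup, commutator_def, Subgroup.map_commutator,
    Subgroup.map_top_of_surjective _ (QuotientGroup.mk'_surjective A), QuotientGroup.map_mk'_self,
    sup_bot_eq] at h2
  rw [commutator_def]
  exact h2

/-- A soluble group has a nonprincipal linear character over a proper normal subgroup. -/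
theorem exists_linear [Group.IsSolvable X] {A : Subgroup X} [A.Normal] (hA : A ≠ ⊤) :
    ∃ φ : X → ℂ, φ ∈ TT ⊤ A ∧ φ 1 = 1 := by
  have h := sum_sq_TT (A := (⊤ : Subgroup X)) (B := commutator X ⊔ A) le_top
  have h1 : (commutator X ⊔ A).index ≠ 1 :=
    fun e => commutator_sup_ne_top hA (Subgroup.index_eq_one.1 e)
  rw [Subgroup.index_top] at h
  obtain ⟨φ, hφ⟩ : (TT ⊤ (commutator X ⊔ A)).Nonempty := by
    rw [Finset.nonempty_iff_ne_empty]
    intro he
    rw [he, Finset.sum_empty] at h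
    exact h1 (by omega)
  obtain ⟨hi, h2, h3⟩ := mem_TT.1 hφ
  refine ⟨φ, mem_TT.2 ⟨hi, h2, fun hc => h3 (nonTriv_mono le_sup_right hc)⟩, ?_⟩
  refine one_of_commutator hi fun k hk => by_contra fun hne => h3 ⟨k, ?_, hne⟩
  exact (le_sup_left : commutator X ≤ commutator X ⊔ A) hk

end

section
variable {L : Type u} [Group L] [Fintype L] {G : Type v} [Group G] [Fintype G]
variable (K : Subgroup L) [hK : K.Normal]

theorem conjFun_indFun (θ : K → ℂ) : conjFun (indFun K θ) = indFun K (conjFun θ) := by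
  funext g
  simp only [conjFun, indFun, map_mul, map_inv₀, map_natCast, map_sum]
  congr 1
  refine Finset.sum_congr rfl fun x _ => ?_
  by_cases h : x⁻¹ * g * x ∈ K
  · rw [extendByZero_of_mem _ h, extendByZero_of_mem _ h]; rfl
  · rw [extendByZero_not_mem _ h, extendByZero_not_mem _ h, map_zero]

theorem nonTriv_top_iff [Fintype K] {θ : K → ℂ} (hθ : IsIrrCharacter K θ) :
    NonTriv (⊤ : Subgroup K) θ ↔ θ ≠ fun _ => 1 := by
  refine ⟨fun ⟨k, _, hk⟩ h => hk (by rw [h]), fun h => ?_⟩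
  by_contra hc
  exact h (irr_const_eq_one hθ fun g => by_contra fun hne => hc ⟨g, Subgroup.mem_top g, hne⟩)

theorem mem_inducedIrrAbove [Fintype K] {A : Subgroup L} {f : L → ℂ} :
    f ∈ inducedIrrAbove K A ↔ ∃ θ ∈ TT (⊤ : Subgroup K) (A.subgroupOf K), f = indFun K θ := by
  constructor
  · rintro ⟨θ, hθ, hne, hA, rfl⟩
    refine ⟨θ, mem_TT.2 ⟨hθ, (nonTriv_top_iff K hθ).2 hne, ?_⟩, rfl⟩
    rintro ⟨a, ha, h⟩
    exact h (hA a ha)
  · rintro ⟨θ, hθ, rfl⟩
    obtain ⟨hi, hne, hA⟩ := mem_TT.1 hθ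
    exact ⟨θ, hi, (nonTriv_top_iff K hi).1 hne,
      fun a ha => by_contra fun h => hA ⟨a, ha, h⟩, rfl⟩

open scoped Classical in
/-- The induced characters above `A`, as a finite set. -/
noncomputable def SA [Fintype K] (A : Subgroup L) : Finset (L → ℂ) :=
  (TT (⊤ : Subgroup K) (A.subgroupOf K)).image (indFun K)

theorem coe_SA [Fintype K] (A : Subgroup L) :
    (↑(SA K A) : Set (L → ℂ)) = inducedIrrAbove K A := by
  classical
  ext f
  rw [mem_inducedIrrAbove]
  simp [SA, eq_comm]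

theorem mono_inducedIrrAbove {A B : Subgroup L} (h : B ≤ A) :
    inducedIrrAbove K A ⊆ inducedIrrAbove K B :=
  fun _ ⟨θ, hθ, hne, hA, e⟩ => ⟨θ, hθ, hne, fun a ha => hA a (h ha), e⟩

theorem conjFun_mem_above [Fintype K] {A : Subgroup L} {f : L → ℂ} (hf : f ∈ inducedIrrAbove K A) :
    conjFun f ∈ inducedIrrAbove K A := by
  obtain ⟨θ, hθ, rfl⟩ := (mem_inducedIrrAbove K).1 hf
  exact (mem_inducedIrrAbove K).2 ⟨conjFun θ, conjFun_mem hθ, conjFun_indFun K θ⟩

theorem dg_indFun [Fintype K] {θ : K → ℂ} (hθ : IsIrrCharacter K θ) :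
    dg (indFun K θ) = K.index * dg θ := by
  rw [dg, indFun_one_eq, dg_spec hθ, ← Nat.cast_mul, Complex.natCast_re, Nat.floor_natCast]

/-- The norm as a natural number. -/
noncomputable def nn (f : L → ℂ) : ℕ := ⌊(classInner f f).re⌋₊

theorem norm_spec [Fintype K] {θ : K → ℂ} (hθ : IsIrrCharacter K θ) :
    classInner (indFun K θ) (indFun K θ) = (K.relIndex (inertia K θ) : ℂ) := by
  have h := norm_indFun K hθ
  have hle : K ≤ inertia K θ := le_inertia K (IsIrr.classFun hθ)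
  have h2 := Subgroup.relIndex_mul_relIndex ⊥ K (inertia K θ) bot_le hle
  rw [Subgroup.relIndex_bot_left, Subgroup.relIndex_bot_left] at h2
  rw [← h2, Nat.cast_mul] at h
  exact mul_left_cancel₀ (Nat.cast_ne_zero.mpr Nat.card_pos.ne') h

theorem nn_spec [Fintype K] {A : Subgroup L} {f : L → ℂ} (hf : f ∈ inducedIrrAbove K A) :
    classInner f f = (nn f : ℂ) := by
  obtain ⟨θ, hθ, -, -, rfl⟩ := hf
  rw [nn, norm_spec K hθ, Complex.natCast_re, Nat.floor_natCast]

theorem dg_spec_above [Fintype K] {A : Subgroup L} {f : L → ℂ} (hf : f ∈ inducedIrrAbove K A) :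
    f 1 = (dg f : ℂ) := by
  obtain ⟨θ, hθ, -, -, rfl⟩ := hf
  rw [dg_indFun K hθ, indFun_one_eq, dg_spec hθ, Nat.cast_mul]

/-- The characters of the kernel inducing a given member form one orbit. -/
theorem fiber_eq [Fintype K] [DecidableEq (L → ℂ)] {A : Subgroup L} [A.Normal] {θ : K → ℂ}
    (hθ : θ ∈ TT (⊤ : Subgroup K) (A.subgroupOf K)) :
    (TT (⊤ : Subgroup K) (A.subgroupOf K)).filter (fun ψ => indFun K ψ = indFun K θ) =
      conjOrbit K θ := by
  classical
  obtain ⟨hi, hne, hA⟩ := mem_TT.1 hθ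
  ext ψ
  rw [Finset.mem_filter, mem_conjOrbit]
  constructor
  · rintro ⟨hψ, he⟩
    have h := classInner_indFun_indFun_irr K hi (mem_TT.1 hψ).1
    rw [he] at h
    by_contra hno
    haveI : IsEmpty {x : L // Char.conjN K x θ = ψ} := ⟨fun x => hno ⟨x.1, x.2⟩⟩
    rw [Nat.card_of_isEmpty (α := {x : L // Char.conjN K x θ = ψ}), Nat.cast_zero, mul_zero, norm_spec K hi] at h
    exact (K.subgroupOf (inertia K θ)).index_ne_zero_of_finite (Nat.cast_eq_zero.1 h)
  · rintro ⟨g, rfl⟩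
    refine ⟨mem_TT.2 ⟨IsIrr.conjN K hi g, ?_, ?_⟩, indFun_conjN K θ g⟩
    · obtain ⟨k, -, hk⟩ := hne
      refine ⟨conjEquivN K g⁻¹ k, Subgroup.mem_top _, fun h => hk ?_⟩
      rw [conjN_eq_comp] at h
      simpa [conjEquivN, map_one] using h
    · rintro ⟨a, ha, h⟩
      refine h ?_
      rw [conjN_eq_comp]
      simp only [conjEquivN_apply]
      have h1 : (⟨g * (a : L) * g⁻¹, hK.conj_mem a a.2 g⟩ : K) ∈ A.subgroupOf K :=
        Subgroup.mem_subgroupOf.2 ((inferInstance : A.Normal).conj_mem _ (Subgroup.mem_subgroupOf.1 ha) g)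
      rw [by_contra fun hne => hA ⟨_, h1, hne⟩]
      exact congrArg θ (Subtype.ext (by simp))

theorem sum_SA [Fintype K] (A : Subgroup L) [A.Normal] :
    ∑ f ∈ SA K A, ((dg f : ℝ) ^ 2 / (nn f : ℝ)) = (K.index : ℝ) * ((A.relIndex K : ℝ) - 1) := by
  classical
  have hsum := sum_sq_TT (A := (⊤ : Subgroup K)) (B := A.subgroupOf K) le_top
  rw [Subgroup.index_top] at hsum
  have hsum' : (A.relIndex K : ℝ) - 1 =
      ∑ ψ ∈ TT (⊤ : Subgroup K) (A.subgroupOf K), (dg ψ : ℝ) ^ 2 := by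
    rw [Subgroup.relIndex, ← hsum]; push_cast; ring
  rw [hsum', Finset.mul_sum, SA]
  refine Finset.sum_image' _ fun θ hθ => ?_
  have hi := (mem_TT.1 hθ).1
  rw [fiber_eq K hθ, Finset.sum_congr rfl fun ψ hψ => (show (K.index : ℝ) * (dg ψ : ℝ) ^ 2 =
      K.index * (dg θ : ℝ) ^ 2 by
    obtain ⟨g, rfl⟩ := (mem_conjOrbit K).1 hψ
    congr 3
    rw [dg, dg, conjN_apply]
    congr 2
    exact congrArg θ (Subtype.ext (by simp))), Finset.sum_const, card_conjOrbit, nsmul_eq_mul]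
  have hn : nn (indFun K θ) = K.relIndex (inertia K θ) := by
    rw [nn, norm_spec K hi, Complex.natCast_re, Nat.floor_natCast]
  have he : K.relIndex (inertia K θ) * (inertia K θ).index = K.index :=
    Subgroup.relIndex_mul_index (le_inertia K (IsIrr.classFun hi))
  have h0 : (K.relIndex (inertia K θ) : ℝ) ≠ 0 :=
    Nat.cast_ne_zero.mpr (K.subgroupOf (inertia K θ)).index_ne_zero_of_finite
  rw [hn, dg_indFun K hi, ← he, div_eq_iff h0]
  push_cast
  ring

/-- A nonempty closed part of a coherent set is coherent. -/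
theorem coherent_mono {S : Set (L → ℂ)} {τ : (L → ℂ) → (G → ℂ)} {R : (L → ℂ) → Finset (G → ℂ)}
    (hS : IsCoherenceSystem S τ R) {U V : Set (L → ℂ)} (hVU : V ⊆ U) {χ : L → ℂ} (hχ : χ ∈ V)
    (hχc : conjFun χ ∈ V) (hχS : χ ∈ S) (hU : IsCoherent U {1}ᶜ τ) : IsCoherent V {1}ᶜ τ := by
  obtain ⟨-, τ₁, hτ₁, hag⟩ := hU
  have hsub : zspan V ⊆ zspan U := Submodule.span_mono hVU
  exact ⟨⟨χ - conjFun χ, sub_mem hχ hχc (conjFun_one hS hχS).symm,
      sub_ne_zero.2 (hS.conj_ne χ hχS).symm⟩, τ₁,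
    ⟨fun a ha b hb => hτ₁.1 a (hsub ha) b (hsub hb), fun a ha => hτ₁.2.1 a (hsub ha),
      fun a ha b hb => hτ₁.2.2.1 a (hsub ha) b (hsub hb), fun a ha => hτ₁.2.2.2 a (hsub ha)⟩,
    fun a ha => hag a ⟨hsub ha.1, ha.2⟩⟩

/-- A nonempty closed part of a coherence system is one. -/
theorem system_mono {S V : Set (L → ℂ)} {τ : (L → ℂ) → (G → ℂ)} {R : (L → ℂ) → Finset (G → ℂ)}
    (hS : IsCoherenceSystem S τ R) (hV : V ⊆ S) (hne : V.Nonempty)
    (hc : ∀ χ ∈ V, conjFun χ ∈ V) : IsCoherenceSystem V τ R := by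
  have hsub : ∀ α ∈ zspanOn V {1}ᶜ, α ∈ zspanOn S {1}ᶜ := fun α hα =>
    ⟨Submodule.span_mono hV hα.1, hα.2⟩
  exact ⟨hne, fun χ h => hS.isCharacter χ (hV h), hc, fun χ h => hS.conj_ne χ (hV h),
    ⟨fun a ha b hb => hS.isometry.1 a (hsub a ha) b (hsub b hb),
      fun a ha => hS.isometry.2.1 a (hsub a ha),
      fun a ha b hb => hS.isometry.2.2.1 a (hsub a ha) b (hsub b hb),
      fun a ha => hS.isometry.2.2.2 a (hsub a ha)⟩,
    fun α hα => hS.map_one α (hsub α hα),
    fun χ h φ h' => hS.orthogonal χ (hV h) φ (hV h'), fun χ h => hS.orthonormal χ (hV h),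
    fun χ h => hS.virtual χ (hV h), fun χ h => hS.sum_eq χ (hV h),
    fun χ h φ h' => hS.disjoint χ (hV h) φ (hV h')⟩

theorem exists_degree_index [Fintype K] [Group.IsSolvable K] {A : Subgroup L} [A.Normal] (hA : A < K) :
    ∃ f ∈ inducedIrrAbove K A, dg f = K.index := by
  have hA' : A.subgroupOf K ≠ ⊤ := fun h => hA.not_ge (Subgroup.subgroupOf_eq_top.1 h)
  obtain ⟨φ, hφ, h1⟩ := exists_linear hA'
  refine ⟨_, (mem_inducedIrrAbove K).2 ⟨φ, hφ, rfl⟩, ?_⟩
  have h2 : dg φ = 1 := by simp [dg, h1]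
  rw [dg_indFun K (mem_TT.1 hφ).1, h2, mul_one]

theorem degree_bound [Fintype K] {B C D : Subgroup L} [B.Normal] (hDC : D ≤ C) (hCK : C ≤ K)
    (hcent : ∀ x ∈ D, ∀ y ∈ C, x * y * x⁻¹ * y⁻¹ ∈ B) {θ : K → ℂ} (hθ : IsIrrCharacter K θ)
    (hB : ∀ b : K, (b : L) ∈ B → θ b = θ 1) : dg θ ^ 2 ≤ C.relIndex K ^ 2 * D.relIndex C := by
  classical
  set C' := C.subgroupOf K with hC'
  have hres : IsCharacter C' (fun c : C' => θ c) := IsChar.comp C'.subtype (IsIrr.isCharacter hθ)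
  obtain ⟨φ, hφ⟩ := IsChar.exists_constituent' hres (IsIrr.one_ne_zero hθ)
  obtain ⟨m, -, hm⟩ := IsIrr.one_eq_pos φ.2
  have hD : m ^ 2 ≤ ((D.subgroupOf K).subgroupOf C').index := by
    refine sq_le_index _ φ.2 hm fun z hz g => constituent_ker hres φ.2 hφ ?_
    refine hB _ ?_
    have := hcent _ (Subgroup.mem_subgroupOf.1 (Subgroup.mem_subgroupOf.1 hz)) _
      (Subgroup.mem_subgroupOf.1 g.2)
    simpa using this
  have hDi : ((D.subgroupOf K).subgroupOf C').index = D.relIndex C :=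
    Subgroup.relIndex_subgroupOf hCK
  have hle : dg θ ≤ C'.index * m := by
    refine degree_le_of_constituent (isCharacter_indFun C' (IsIrr.isCharacter φ.2)) hθ ?_ ?_
      (dg_spec hθ)
    · rw [classInner_indFun C' _ (IsIrr.classFun hθ)]
      intro h
      exact hφ (by rw [← classInner_conj_symm, h, map_zero])
    · rw [indFun_one_eq, hm, Nat.cast_mul]
  calc dg θ ^ 2 ≤ (C'.index * m) ^ 2 := Nat.pow_le_pow_left hle 2
    _ = C'.index ^ 2 * m ^ 2 := by ring
    _ ≤ _ := Nat.mul_le_mul_left _ (hDi ▸ hD)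

/-- The descent step. -/
theorem descend [Fintype K] [Group.IsSolvable K] {τ : (L → ℂ) → (G → ℂ)}
    {R : (L → ℂ) → Finset (G → ℂ)} (hS : IsCoherenceSystem (inducedIrrAbove K ⊥) τ R)
    {A B C D : Subgroup L} [A.Normal] [B.Normal] (hAK : A < K) (hBK : B < K) (hDC : D ≤ C)
    (hCK : C ≤ K) (hcent : ∀ x ∈ D, ∀ y ∈ C, x * y * x⁻¹ * y⁻¹ ∈ B)
    (hA : IsCoherent (inducedIrrAbove K A) {1}ᶜ τ)
    (hlt : 4 * C.index ^ 2 * D.relIndex C < (A.relIndex K - 1) ^ 2) :
    IsCoherent (inducedIrrAbove K B) {1}ᶜ τ := by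
  classical
  have hsub : ∀ {M : Subgroup L}, inducedIrrAbove K M ⊆ inducedIrrAbove K ⊥ := fun {M} =>
    mono_inducedIrrAbove K bot_le
  set T := SA K A ∪ SA K B with hT
  have hTS : ∀ f ∈ T, f ∈ inducedIrrAbove K ⊥ := fun f hf => by
    rcases Finset.mem_union.1 hf with h | h <;>
      exact hsub ((coe_SA K _).subset (Finset.mem_coe.2 h))
  have hTc : ∀ f ∈ T, conjFun f ∈ T := fun f hf => by
    rcases Finset.mem_union.1 hf with h | h
    · exact Finset.mem_union_left _ (Finset.mem_coe.1 ((coe_SA K A).ge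
        (conjFun_mem_above K ((coe_SA K A).subset (Finset.mem_coe.2 h)))))
    · exact Finset.mem_union_right _ (Finset.mem_coe.1 ((coe_SA K B).ge
        (conjFun_mem_above K ((coe_SA K B).subset (Finset.mem_coe.2 h)))))
  set P : Finset (L → ℂ) → Prop := fun U => SA K A ⊆ U ∧ (∀ f ∈ U, conjFun f ∈ U) ∧
    IsCoherent (↑U : Set (L → ℂ)) {1}ᶜ τ with hP
  obtain ⟨U, hU, hUmax⟩ := (T.powerset.filter P).exists_max_image Finset.card ⟨SA K A, by
    refine Finset.mem_filter.2 ⟨Finset.mem_powerset.2 Finset.subset_union_left,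
      subset_rfl, fun f hf => ?_, by rw [coe_SA]; exact hA⟩
    exact Finset.mem_coe.1 ((coe_SA K A).ge
      (conjFun_mem_above K ((coe_SA K A).subset (Finset.mem_coe.2 hf))))⟩
  obtain ⟨hUT, hAU, hUc, hUcoh⟩ := Finset.mem_filter.1 hU
  rw [Finset.mem_powerset] at hUT
  obtain ⟨χ₁, hχ₁, hd₁⟩ := exists_degree_index K hAK
  obtain ⟨χB, hχB, -⟩ := exists_degree_index K hBK
  by_cases hall : T ⊆ U
  · refine coherent_mono hS ?_ hχB (conjFun_mem_above K hχB) (hsub hχB) hUcoh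
    rw [← coe_SA]
    exact Finset.coe_subset.2 (Finset.subset_union_right.trans hall)
  exfalso
  obtain ⟨χ, hχT, hχU⟩ := Finset.not_subset.1 hall
  have hχB' : χ ∈ inducedIrrAbove K B := by
    rcases Finset.mem_union.1 hχT with h | h
    · exact absurd (hAU h) hχU
    · exact (coe_SA K B).subset (Finset.mem_coe.2 h)
  have hχc : conjFun χ ∉ U := fun h => hχU (by simpa [conjFun_conjFun] using hUc _ h)
  obtain ⟨θ, hθ, -, hθB, hχe⟩ := id hχB'
  have hdχ : dg χ = K.index * dg θ := by rw [hχe, dg_indFun K hθ]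
  have hineq : (2 * dg χ * dg χ₁ : ℝ) < ∑ φ ∈ U, ((dg φ : ℝ) ^ 2 / (nn φ : ℝ)) := by
    refine lt_of_lt_of_le ?_ (Finset.sum_le_sum_of_subset_of_nonneg hAU fun _ _ _ => by positivity)
    rw [sum_SA, hd₁, hdχ]
    have h2 := degree_bound K hDC hCK hcent hθ hθB
    have h3 : C.index = C.relIndex K * K.index := (Subgroup.relIndex_mul_index hCK).symm
    have h4 : 2 * (K.index * dg θ) < A.relIndex K - 1 := by
      refine lt_of_pow_lt_pow_left₀ 2 (Nat.zero_le _) (lt_of_le_of_lt ?_ hlt)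
      rw [h3]
      calc (2 * (K.index * dg θ)) ^ 2 = 4 * K.index ^ 2 * dg θ ^ 2 := by ring
        _ ≤ 4 * K.index ^ 2 * (C.relIndex K ^ 2 * D.relIndex C) := Nat.mul_le_mul_left _ h2
        _ = _ := by ring
    have he : (0 : ℝ) < K.index :=
      Nat.cast_pos.2 (Nat.pos_of_ne_zero Subgroup.index_ne_zero_of_finite)
    have h5 : ((2 * (K.index * dg θ) : ℕ) : ℝ) < (A.relIndex K : ℝ) - 1 := by
      have h6 : 2 * (K.index * dg θ) + 1 < A.relIndex K := by omega
      have h7 : ((2 * (K.index * dg θ) + 1 : ℕ) : ℝ) < (A.relIndex K : ℝ) := Nat.cast_lt.2 h6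
      push_cast at h7 ⊢
      linarith
    push_cast at h5 ⊢
    nlinarith [mul_lt_mul_of_pos_left h5 he]
  have hcoh := Cfsg.Agent.S1516.result (inducedIrrAbove K ⊥) τ R hS dg nn
    (fun φ hφ => dg_spec_above K hφ) (fun φ hφ => nn_spec K hφ) U
    (fun f hf => hTS f (hUT hf)) hUc hUcoh χ (hsub hχB') hχU hχc χ₁
    (hAU (Finset.mem_coe.1 ((coe_SA K A).ge hχ₁))) (hd₁ ▸ hdχ ▸ dvd_mul_right _ _) hineq
  have hnew : U ∪ {χ, conjFun χ} ∈ T.powerset.filter P := by
    refine Finset.mem_filter.2 ⟨Finset.mem_powerset.2 (Finset.union_subset hUT ?_),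
      hAU.trans Finset.subset_union_left, ?_, ?_⟩
    · simp [Finset.insert_subset_iff, hχT, hTc χ hχT]
    · intro f hf
      simp only [Finset.mem_union, Finset.mem_insert, Finset.mem_singleton] at hf ⊢
      rcases hf with h | rfl | rfl
      · exact Or.inl (hUc f h)
      · exact Or.inr (Or.inr rfl)
      · exact Or.inr (Or.inl (conjFun_conjFun χ))
    · simpa [Finset.coe_union] using hcoh
  have hlt' : U.card < (U ∪ {χ, conjFun χ}).card := Finset.card_lt_card
    (Finset.ssubset_iff_subset_ne.2 ⟨Finset.subset_union_left, fun h => hχU (h ▸ by simp)⟩)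
  exact absurd (hUmax _ hnew) (not_le.2 hlt')

end

end Cfsg.Agent.Char.Descent
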