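import Cfsg.Agent.Lib.Char.DefectOneData
import Cfsg.Agent.Lib.Block.Separated
import Mathlib.NumberTheory.LegendreSymbol.AddCharacter

/-!
Blocks with a Sylow subgroup `P` of order `p`: the sections at the non-trivial elements of `P` have
integral coordinates in the orbit sums of the linear characters of `P`; their Gram matrix is
`1 + e`; they are orthogonal to the regular columns.
-/

open scoped ComplexConjugate

namespace Cfsg.Agent.Char.DefectOne

open Cfsg Cfsg.Agent.Block Cfsg.Agent.Char.BP Cfsg.Agent.Char.Spec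

set_option linter.unusedSectionVars false
set_option linter.style.haveILetI false
set_option maxHeartbeats 1600000

universe u

variable {G : Type u} [Group G] [Fintype G] {p : ℕ} [hp : Fact p.Prime] {M : Ideal AlgInt}
variable {P : Subgroup G}

/-- A power of a fixed element indexed by residues. -/
def pw (u₀ : G) (i : ZMod p) : G := u₀ ^ i.val

/-- The character of the residues. -/
noncomputable def ψc : AddChar (ZMod p) ℂ := ZMod.stdAddChar

theorem ψc_sum (b : ZMod p) : ∑ x : ZMod p, ψc (x * b) = if b = 0 then (p : ℂ) else 0 := by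
  show ∑ x, ZMod.stdAddChar (x * b) = _
  rw [AddChar.sum_mulShift b (ZMod.isPrimitive_stdAddChar p), ZMod.card]
  push_cast
  rfl

theorem ψc_conj (x : ZMod p) : conj (ψc x) = ψc (-x) := (AddChar.map_neg_eq_conj _ x).symm

theorem exists_ψc {z : ℂ} (hz : z ^ p = 1) : ∃ j : ZMod p, z = ψc j := by
  have h1 : (ψc (p := p) 1) ^ p = 1 := by
    rw [← AddChar.map_nsmul_eq_pow, nsmul_eq_mul, ZMod.natCast_self, zero_mul, AddChar.map_zero_eq_one]
  have hprim : IsPrimitiveRoot (ψc (p := p) 1) p := by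
    refine IsPrimitiveRoot.iff_orderOf.2 (orderOf_eq_prime h1 fun h => ?_)
    have h2 := ψc_sum (p := p) 1
    rw [if_neg one_ne_zero, Finset.sum_congr rfl (g := fun _ => (1 : ℂ)) fun x _ => ?_] at h2
    · simp [hp.out.ne_zero] at h2
    · rw [mul_one, ← ZMod.natCast_zmod_val x, ← nsmul_one x.val, AddChar.map_nsmul_eq_pow, h,
        one_pow]
  obtain ⟨i, -, hi⟩ := hprim.eq_pow_of_pow_eq_one hz
  exact ⟨i, by rw [← hi, ← AddChar.map_nsmul_eq_pow, nsmul_one]⟩

section element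

variable {u₀ : G} (hPp : Nat.card P = p) (hu₀ : u₀ ∈ P) (hu₁ : u₀ ≠ 1)

include hPp hu₀ hu₁

theorem orderOf_gen : orderOf u₀ = p := by
  rw [← Nat.card_zpowers, mem_zpowers_of_prime hPp hu₀ hu₁, hPp]

theorem pw_pow (i : ZMod p) (n : ℕ) : pw u₀ i ^ n = pw u₀ (i * (n : ZMod p)) := by
  rw [pw, pw, ← pow_mul, pow_eq_pow_iff_modEq, orderOf_gen hPp hu₀ hu₁]
  rw [← ZMod.natCast_eq_natCast_iff]
  push_cast
  simp [ZMod.natCast_zmod_val]

theorem pw_natCast (n : ℕ) : pw u₀ (n : ZMod p) = u₀ ^ n := by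
  rw [pw, pow_eq_pow_iff_modEq, orderOf_gen hPp hu₀ hu₁, ← ZMod.natCast_eq_natCast_iff,
    ZMod.natCast_zmod_val]

theorem pw_mem (i : ZMod p) : pw u₀ i ∈ P := pow_mem hu₀ _

theorem pw_inj {i j : ZMod p} (h : pw u₀ i = pw u₀ j) : i = j := by
  rw [pw, pw, pow_eq_pow_iff_modEq, orderOf_gen hPp hu₀ hu₁, ← ZMod.natCast_eq_natCast_iff,
    ZMod.natCast_zmod_val, ZMod.natCast_zmod_val] at h
  exact h

theorem pw_ne_one {i : ZMod p} (hi : i ≠ 0) : pw u₀ i ≠ 1 := fun h =>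
  hi (pw_inj hPp hu₀ hu₁ (h.trans (by simp [pw])))

theorem exists_pw {v : G} (hv : v ∈ P) : ∃ i : ZMod p, pw u₀ i = v := by
  rw [← mem_zpowers_of_prime hPp hu₀ hu₁] at hv
  obtain ⟨n, hn⟩ := mem_powers_iff_mem_zpowers.2 hv
  exact ⟨n, (pw_natCast hPp hu₀ hu₁ n).trans hn⟩

theorem pw_one : pw u₀ (1 : ZMod p) = u₀ := by
  have := pw_natCast hPp hu₀ hu₁ 1
  simpa using this

theorem conj_pw {x : G} {r : ZMod p} (h : x * u₀ * x⁻¹ = pw u₀ r) (i : ZMod p) :
    x * pw u₀ i * x⁻¹ = pw u₀ (r * i) := by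
  rw [show x * pw u₀ i * x⁻¹ = (x * u₀ * x⁻¹) ^ i.val by rw [pw, conj_pow], h,
    pw_pow hPp hu₀ hu₁, ZMod.natCast_zmod_val]

end element

variable (hM : IsPModular p M)

include hM in
theorem height_zero {B : Set (IrrCharacter G)} (hB : IsPBlock M B) (hd : blockDefect p B ≠ 0)
    (hcard : (Nat.card G).factorization p = 1) {χ : IrrCharacter G} (hχ : χ ∈ B) :
    blockHeight p B (χ : G → ℂ) = 0 := by
  classical
  obtain ⟨η, hη, hη0⟩ := exists_height_zero hM hB
  by_contra hne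
  have hmin : sInf ((fun ψ : IrrCharacter G => (charDegree (ψ : G → ℂ)).factorization p) '' B) ≤
      (charDegree (η : G → ℂ)).factorization p := Nat.sInf_le ⟨η, hη, rfl⟩
  have hχle := degree_factorization_le χ p
  rw [blockHeight] at hne hη0
  rw [blockDefect] at hd
  have hfull : (charDegree (χ : G → ℂ)).factorization p = (Nat.card G).factorization p := by omega
  have hneq : χ ≠ η := fun h => hne (h ▸ hη0)
  refine regPair_unit hM hB hη hχ (by rw [blockHeight]; exact hη0) ?_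
  have hz : regSum p (χ : G → ℂ) (η : G → ℂ) = 0 := by
    rw [regSum_eq_sum, Finset.sum_subset (Finset.filter_subset _ _) fun x _ hx => by
      rw [defectZero_vanish hM χ hfull (by simpa using hx), zero_mul]]
    have h1 := Cfsg.Agent.Char.classInner_irr_ne χ.2 η.2 (fun e => hneq (Subtype.ext e))
    rw [classInner, mul_eq_zero] at h1
    exact h1.resolve_left (inv_ne_zero (Nat.cast_ne_zero.2 Nat.card_pos.ne'))
  rw [regPair, hz, zero_div]
  exact ideal_zero hM

/-- The section at a pair in units of the canonical character. -/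
noncomputable def dd (b : Set (IrrCharacter (CG P))) (θ : IrrCharacter (CG P)) (χ : IrrCharacter G)
    (u : G) : ℂ :=
  sct (χ : G → ℂ) (⟨P, b⟩ : BrauerPairIdx G) u 1 / (θ : CG P → ℂ) 1

variable (hPp : Nat.card P = p) (hsyl : ¬ p ∣ P.index) {b : Set (IrrCharacter (CG P))}
  (hb : IsPBlock M b) {θ : IrrCharacter (CG P)} (hθ : θ ∈ b)
  (hθP : ∀ x : CG P, (x : G) ∈ P → (θ : CG P → ℂ) x = (θ : CG P → ℂ) 1)

include hM hPp hsyl hb hθ hθP in
/-- The multiplicities. -/
theorem exists_mult (χ : IrrCharacter G) {u₀ : G} (hu₀ : u₀ ∈ P) (hu₁ : u₀ ≠ 1) :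
    ∃ m : ZMod p → ℕ, ∀ i : ZMod p,
      dd b θ χ (pw u₀ i) = ∑ j, (m j : ℂ) * ψc (i * j) ∧
      ∀ v : CG P, ¬ p ∣ orderOf v →
        sct (χ : G → ℂ) (⟨P, b⟩ : BrauerPairIdx G) (pw u₀ i) v =
          dd b θ χ (pw u₀ i) * (θ : CG P → ℂ) v := by
  classical
  set a : BrauerPairIdx G := ⟨P, b⟩
  letI : Fintype (CG a.1) := Fintype.ofFinite _
  obtain ⟨m, hm⟩ := exists_sct_mult (irr_isChar χ) a
  obtain ⟨-, -, hreg⟩ := local_block hM hPp hsyl hb hθ hθP
  have hPC : P ≤ CG P := le_cg hPp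
  set z : CG P := ⟨u₀, hPC hu₀⟩
  have hzc : z ∈ Subgroup.center (CG P) := Subgroup.mem_center_iff.mpr fun t =>
    Subtype.ext (Subgroup.mem_centralizer_iff.1 t.2 u₀ hu₀).symm
  have hω : ∀ (ξ : IrrCharacter (CG P)) (n : ℕ),
      centralChar (ξ : CG P → ℂ) (z ^ n) = centralChar (ξ : CG P → ℂ) z ^ n := by
    intro ξ n
    have hval : ∀ n : ℕ, (ξ : CG P → ℂ) (z ^ n) =
        centralChar (ξ : CG P → ℂ) z ^ n * (ξ : CG P → ℂ) 1 := by
      intro n
      induction n with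
      | zero => simp
      | succ n ih => rw [pow_succ', centralChar_of_center hzc, ih, pow_succ', mul_assoc]
    have h1 := centralChar_of_center (η := ξ) (Subgroup.pow_mem _ hzc n) 1
    rw [mul_one, hval] at h1
    exact (mul_right_cancel₀ (irr_one_ne_zero ξ) h1).symm
  have hzp : z ^ p = 1 := Subtype.ext (by
    have := orderOf_gen hPp hu₀ hu₁
    simp only [z, SubmonoidClass.coe_pow, OneMemClass.coe_one]
    rw [← this, pow_orderOf_eq_one])
  choose j hj using fun ξ : IrrCharacter (CG P) => exists_ψc (p := p)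
    (z := centralChar (ξ : CG P → ℂ) z) (by rw [← hω ξ p, hzp, centralChar_one])
  refine ⟨fun l => ∑ ξ ∈ Finset.univ.filter (fun ξ => ξ ∈ b ∧ j ξ = l), m ξ, fun i => ?_⟩
  have hpw : pw u₀ i = ((z ^ i.val : CG P) : G) := by simp [pw, z]
  have hsum : ∀ v : CG P, ¬ p ∣ orderOf v → sct (χ : G → ℂ) a (pw u₀ i) v =
      (∑ l, ((∑ ξ ∈ Finset.univ.filter (fun ξ => ξ ∈ b ∧ j ξ = l), m ξ : ℕ) : ℂ) * ψc (i * l)) *
        (θ : CG P → ℂ) v := by
    intro v hv
    rw [hpw, hm (z ^ i.val) (hpw ▸ pw_mem hPp hu₀ hu₁ i) v]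
    simp only [Nat.cast_sum, Finset.sum_mul]
    rw [← Finset.sum_fiberwise (Finset.univ.filter (· ∈ a.2)) j]
    refine Finset.sum_congr rfl fun l _ => ?_
    rw [Finset.filter_filter]
    refine Finset.sum_congr rfl fun ξ hξ => ?_
    obtain ⟨-, hξb, hξl⟩ := Finset.mem_filter.1 hξ
    rw [hω, hj ξ, hξl, ← AddChar.map_nsmul_eq_pow, nsmul_eq_mul, ZMod.natCast_zmod_val,
      hreg ξ hξb v hv]
  have h1 := hsum 1 (by rw [orderOf_one]; exact hp.out.not_dvd_one)
  have hd : dd b θ χ (pw u₀ i) =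
      ∑ l, ((∑ ξ ∈ Finset.univ.filter (fun ξ => ξ ∈ b ∧ j ξ = l), m ξ : ℕ) : ℂ) * ψc (i * l) := by
    rw [dd, OneMemClass.coe_one] at *
    rw [h1, mul_div_assoc, div_self (irr_one_ne_zero θ), mul_one]
  exact ⟨hd, fun v hv => by rw [hd, hsum v hv]⟩

include hM in
/-- The regular columns are orthogonal to the sections. -/
theorem sum_sct_regular (hPp : Nat.card P = p) {B : Set (IrrCharacter G)} [DecidablePred (· ∈ B)]
    (haB : OfB p M B (⟨P, b⟩ : BrauerPairIdx G)) {u : G} (hu : u ∈ P) (hu1 : u ≠ 1) {h : G}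
    (hh : ¬ p ∣ orderOf h) :
    ∑ χ ∈ Finset.univ.filter (· ∈ B),
      sct (χ : G → ℂ) (⟨P, b⟩ : BrauerPairIdx G) u 1 * (χ : G → ℂ) h = 0 := by
  classical
  rw [Finset.sum_subset (Finset.subset_univ _) fun χ _ hχ => ?_]
  · simp only [sct, mul_one, Finset.sum_mul]
    rw [Finset.sum_comm]
    refine Finset.sum_eq_zero fun k _ => ?_
    simp only [mul_assoc, ← Finset.mul_sum]
    by_cases hk : be (⟨P, b⟩ : BrauerPairIdx G) k = 0
    · rw [hk, zero_mul]
    have hkC : k ∈ CG P := by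
      by_contra hk'
      exact hk (bc_supp _ _ _ hk')
    have hkr : ¬ p ∣ orderOf k := fun hd => hk (by
      show bc (CG P) b ((⟨k, hkC⟩ : CG P) : G) = 0
      rw [bc_coe]
      exact blockCoeff_singular hM haB.1.2 (by rwa [← Subgroup.orderOf_coe]))
    rw [Finset.sum_congr rfl (g := fun χ : IrrCharacter G =>
      (χ : G → ℂ) (u * k) * conj ((χ : G → ℂ) h⁻¹)) fun χ _ => by
        rw [← irr_apply_inv, inv_inv], Cfsg.Agent.Char.sum_irr_mul_conj, if_neg, mul_zero]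
    intro hconj
    obtain ⟨t, ht⟩ := isConj_iff.1 hconj
    have hcop : Nat.Coprime (orderOf u) (orderOf k) := by
      rw [← Nat.card_zpowers, mem_zpowers_of_prime hPp hu hu1, hPp]
      exact hp.out.coprime_iff_not_dvd.2 hkr
    have hord : p ∣ orderOf (u * k) := by
      have hc : Commute u k := Subgroup.mem_centralizer_iff.1 hkC u hu
      rw [hc.orderOf_mul_eq_mul_orderOf_of_coprime hcop, ← Nat.card_zpowers,
        mem_zpowers_of_prime hPp hu hu1, hPp]
      exact dvd_mul_right _ _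
    refine hh ?_
    rw [← orderOf_inv h, ← ht]
    rwa [show t * (u * k) * t⁻¹ = MulAut.conj t (u * k) from rfl, MulEquiv.orderOf_eq]
  · rw [sct_eq_zero hM (mem_blockOf_self hM χ) (isPBlock_blockOf χ) haB.1 (pPow_mem hPp hu)
      (mem_zpowers_of_prime hPp hu hu1).symm (fun h' => (by simpa using hχ : χ ∉ B) ?_) (one_mem _)
      (by rw [orderOf_one]; exact hp.out.not_dvd_one), zero_mul]
    rw [ofB_unique hM haB h']
    exact mem_blockOf_self hM χ

include hM hPp hsyl hθ hθP hb in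
open scoped Classical in
/-- The integral coordinates. -/
theorem exists_gram {B : Set (IrrCharacter G)} (hB : IsPBlock M B)
    (haB : OfB p M B (⟨P, b⟩ : BrauerPairIdx G)) (hd : blockDefect p B ≠ 0) {T : Subgroup G}
    (hT : ∀ g : G, g ∈ T ↔ (g ∈ Subgroup.normalizer (P : Set G) ∧ ∀ c c' : CG P,
      (c' : G) = g * c * g⁻¹ → (θ : CG P → ℂ) c' = (θ : CG P → ℂ) c))
    {u₀ : G} (hu₀ : u₀ ∈ P) (hu₁ : u₀ ≠ 1) :
    ∃ (R : Subgroup (ZMod p)ˣ) (a : IrrCharacter G → ZMod p → ℤ),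
      Nat.card R = (CG P).relIndex T ∧
      (∀ r : (ZMod p)ˣ, r ∈ R ↔ ∃ x ∈ T, x * u₀ * x⁻¹ = pw u₀ (r : ZMod p)) ∧
      (∀ χ : IrrCharacter G, a χ 0 = 0) ∧
      (∀ (χ : IrrCharacter G) (i : ZMod p), i ≠ 0 → ∀ v : CG P, ¬ p ∣ orderOf v →
        sct (χ : G → ℂ) (⟨P, b⟩ : BrauerPairIdx G) (pw u₀ i) v =
          (∑ j, (a χ j : ℂ) * ψc (i * j)) * (θ : CG P → ℂ) v) ∧
      (∀ j l : (ZMod p)ˣ, ∑ χ ∈ Finset.univ.filter (· ∈ B), a χ j * a χ l =
        (if j * l⁻¹ ∈ R then 1 else 0) + (Nat.card R : ℤ)) ∧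
      (∀ j : (ZMod p)ˣ, ∀ h : G, ¬ p ∣ orderOf h →
        ∑ χ ∈ Finset.univ.filter (· ∈ B), (a χ j : ℂ) * (χ : G → ℂ) h = 0) ∧
      (∀ χ ∈ B, ∃ j : (ZMod p)ˣ, a χ j ≠ 0) := by
  letI := Fintype.ofFinite (CG P)
  set A := Finset.univ.filter (· ∈ B)
  -- the action on the exponents
  have hTN : ∀ {x : G}, x ∈ T → x ∈ Subgroup.normalizer (P : Set G) := fun hx => ((hT _).1 hx).1
  have hex : ∀ x : T, ∃ r : (ZMod p)ˣ, (x : G) * u₀ * (x : G)⁻¹ = pw u₀ (r : ZMod p) := by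
    intro x
    obtain ⟨i, hi⟩ := exists_pw hPp hu₀ hu₁ ((Subgroup.mem_normalizer_iff.1 (hTN x.2) u₀).1 hu₀)
    have hi0 : i ≠ 0 := fun h => hu₁ (by
      rw [h] at hi
      simpa [pw] using hi.symm)
    exact ⟨Units.mk0 i hi0, hi.symm⟩
  choose φ₀ hφ₀ using hex
  let φ : T →* (ZMod p)ˣ :=
    MonoidHom.mk' φ₀ fun x y => Units.ext (pw_inj hPp hu₀ hu₁ (by
      rw [← hφ₀ (x * y), Units.val_mul, ← conj_pw hPp hu₀ hu₁ (hφ₀ x), ← hφ₀ y, Subgroup.coe_mul]
      group))
  have hCT : CG P ≤ T := fun c hc => (hT c).2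
    ⟨Subgroup.centralizer_le_normalizer _ hc, fun d d' h => by
      have h' : d' = (⟨c, hc⟩ : CG P) * d * (⟨c, hc⟩ : CG P)⁻¹ := Subtype.ext h
      rw [h', irr_classFun θ d]⟩
  have hker : φ.ker = (CG P).subgroupOf T := by
    ext x
    rw [MonoidHom.mem_ker, Subgroup.mem_subgroupOf]
    constructor
    · intro h
      refine Subgroup.mem_centralizer_iff.2 fun v hv => ?_
      obtain ⟨i, rfl⟩ := exists_pw hPp hu₀ hu₁ hv
      have h1 := conj_pw hPp hu₀ hu₁ (hφ₀ x) i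
      rw [show φ₀ x = 1 from h, Units.val_one, one_mul, mul_inv_eq_iff_eq_mul] at h1
      exact h1.symm
    · intro h
      refine Units.ext (pw_inj hPp hu₀ hu₁ ?_)
      show pw u₀ (φ₀ x : ZMod p) = pw u₀ ((1 : (ZMod p)ˣ) : ZMod p)
      rw [← hφ₀ x, Units.val_one, pw_one hPp hu₀ hu₁, ← Subgroup.mem_centralizer_iff.1 h u₀ hu₀,
        mul_inv_cancel_right]
  have hRiff : ∀ r : (ZMod p)ˣ, r ∈ φ.range ↔ ∃ x ∈ T, x * u₀ * x⁻¹ = pw u₀ (r : ZMod p) := by
    intro r
    constructor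
    · rintro ⟨x, rfl⟩
      exact ⟨x, x.2, hφ₀ x⟩
    · rintro ⟨x, hx, h⟩
      exact ⟨⟨x, hx⟩, Units.ext (pw_inj hPp hu₀ hu₁ ((hφ₀ ⟨x, hx⟩).symm.trans h))⟩
  choose m hm using fun χ => exists_mult hM hPp hsyl hb hθ hθP χ hu₀ hu₁
  let a : IrrCharacter G → ZMod p → ℤ := fun χ j => (m χ j : ℤ) - m χ 0
  have hDa : ∀ χ (i : ZMod p), i ≠ 0 → dd b θ χ (pw u₀ i) = ∑ j, (a χ j : ℂ) * ψc (i * j) := by
    intro χ i hi
    rw [(hm χ i).1]
    simp only [a, Int.cast_sub, Int.cast_natCast, sub_mul, Finset.sum_sub_distrib, ← Finset.mul_sum]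
    have hz : ∑ j : ZMod p, ψc (i * j) = 0 := by
      rw [Finset.sum_congr rfl (g := fun j => ψc (j * i)) (fun j _ => by rw [mul_comm i j]),
        ψc_sum, if_neg hi]
    rw [hz, mul_zero, sub_zero]
  -- the inversion
  have hinv : ∀ χ (j : ZMod p), j ≠ 0 → (p : ℂ) * (a χ j : ℂ) =
      ∑ i, dd b θ χ (pw u₀ i) * (ψc (-(i * j)) - 1) := by
    intro χ j hj
    have h1 : ∀ i : ZMod p, dd b θ χ (pw u₀ i) * (ψc (-(i * j)) - 1) =
        ∑ l, (a χ l : ℂ) * (ψc (i * (l - j)) - ψc (i * l)) := by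
      intro i
      by_cases hi : i = 0
      · subst hi
        rw [Finset.sum_eq_zero fun l _ => by simp]
        simp
      · rw [hDa χ i hi, Finset.sum_mul]
        refine Finset.sum_congr rfl fun l _ => ?_
        rw [show i * (l - j) = i * l + -(i * j) by ring, AddChar.map_add_eq_mul]
        ring
    rw [Finset.sum_congr rfl fun i _ => h1 i, Finset.sum_comm]
    have h2 : ∀ l : ZMod p, ∑ i, (a χ l : ℂ) * (ψc (i * (l - j)) - ψc (i * l)) =
        (if l = j then (p : ℂ) * (a χ l : ℂ) else 0) -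
          if l = 0 then (p : ℂ) * (a χ l : ℂ) else 0 := by
      intro l
      rw [← Finset.mul_sum, Finset.sum_sub_distrib, ψc_sum, ψc_sum]
      simp only [sub_eq_zero]
      split_ifs <;> ring
    rw [Finset.sum_congr rfl fun l _ => h2 l, Finset.sum_sub_distrib]
    simp [a]
  -- the Gram matrix of the sections
  set q : ℕ := Nat.card φ.range
  have hG : ∀ i i' : ZMod p, i ≠ 0 → i' ≠ 0 →
      ∑ χ ∈ A, dd b θ χ (pw u₀ i) * conj (dd b θ χ (pw u₀ i')) =
        (p : ℂ) * ∑ r : φ.range, (if i' = ((r : (ZMod p)ˣ) : ZMod p) * i then (1 : ℂ) else 0) := by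
    intro i i' hi hi'
    have h := sum_sct_mul hM hPp hsyl hB haB hθ hθP hT (pw_mem hPp hu₀ hu₁ i)
      (pw_ne_one hPp hu₀ hu₁ hi) (pw_mem hPp hu₀ hu₁ i') (pw_ne_one hPp hu₀ hu₁ hi')
    have hθ1 : conj ((θ : CG P → ℂ) 1) = (θ : CG P → ℂ) 1 := by
      rw [charDeg_spec', Complex.conj_natCast]
    have hθ0 := irr_one_ne_zero θ
    have hC0 : (Nat.card (CG P) : ℂ) ≠ 0 := Nat.cast_ne_zero.2 Nat.card_pos.ne'
    have hdd : ∑ χ ∈ A, dd b θ χ (pw u₀ i) * conj (dd b θ χ (pw u₀ i')) =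
        (∑ χ ∈ A, sct (χ : G → ℂ) (⟨P, b⟩ : BrauerPairIdx G) (pw u₀ i) 1 *
          conj (sct (χ : G → ℂ) (⟨P, b⟩ : BrauerPairIdx G) (pw u₀ i') 1)) /
          ((θ : CG P → ℂ) 1 * (θ : CG P → ℂ) 1) := by
      rw [Finset.sum_div]
      refine Finset.sum_congr rfl fun χ _ => ?_
      rw [dd, dd, map_div₀, hθ1, div_mul_div_comm]
    rw [hdd, h]
    by_cases hr : ∃ r : φ.range, i' = ((r : (ZMod p)ˣ) : ZMod p) * i
    · obtain ⟨r, hr⟩ := hr
      obtain ⟨x, hxT, hx⟩ := (hRiff r).1 r.2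
      have hx' : x * pw u₀ i * x⁻¹ = pw u₀ i' := by rw [conj_pw hPp hu₀ hu₁ hx i, hr]
      have hcard : (Finset.univ.filter fun y : G =>
          y ∈ T ∧ y * pw u₀ i * y⁻¹ = pw u₀ i').card = Nat.card (CG P) := by
        rw [Nat.card_eq_fintype_card, ← Finset.card_univ]
        symm
        refine Finset.card_bij (fun (c : CG P) _ => x * (c : G)) (fun c _ => ?_)
          (fun c _ c' _ h => Subtype.ext (mul_left_cancel h)) fun y hy => ?_
        · refine Finset.mem_filter.2 ⟨Finset.mem_univ _, T.mul_mem hxT (hCT c.2), ?_⟩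
          rw [← hx']
          have hc := Subgroup.mem_centralizer_iff.1 c.2 _ (pw_mem hPp hu₀ hu₁ i)
          calc x * (c : G) * pw u₀ i * (x * (c : G))⁻¹ =
              x * ((c : G) * pw u₀ i) * (c : G)⁻¹ * x⁻¹ := by group
            _ = x * (pw u₀ i * (c : G)) * (c : G)⁻¹ * x⁻¹ := by rw [hc]
            _ = _ := by group
        · obtain ⟨-, hyT, hy'⟩ := Finset.mem_filter.1 hy
          refine ⟨⟨x⁻¹ * y, ?_⟩, Finset.mem_univ _, by group⟩
          have hfix : (x⁻¹ * y) * pw u₀ i * (x⁻¹ * y)⁻¹ = pw u₀ i := by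
            calc (x⁻¹ * y) * pw u₀ i * (x⁻¹ * y)⁻¹ = x⁻¹ * (y * pw u₀ i * y⁻¹) * x := by group
              _ = pw u₀ i := by rw [hy', ← hx']; group
          refine Subgroup.mem_centralizer_iff.2 fun v hv => ?_
          rw [← mem_zpowers_of_prime hPp (pw_mem hPp hu₀ hu₁ i) (pw_ne_one hPp hu₀ hu₁ hi)] at hv
          obtain ⟨n, rfl⟩ := Subgroup.mem_zpowers_iff.1 hv
          exact ((show Commute (x⁻¹ * y) (pw u₀ i) from
            mul_inv_eq_iff_eq_mul.1 hfix).zpow_right n).eq.symm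
      rw [hcard, Finset.sum_eq_single r]
      · rw [if_pos hr]
        field_simp
      · intro r' _ hne
        refine if_neg fun h' => hne (Subtype.ext (Units.ext ?_))
        exact mul_right_cancel₀ hi (h'.symm.trans hr)
      · exact fun h => absurd (Finset.mem_univ _) h
    · rw [Finset.card_eq_zero.2 (Finset.filter_eq_empty_iff.2 fun y _ hy => hr ?_),
        Finset.sum_eq_zero fun r _ => if_neg fun h' => hr ⟨r, h'⟩]
      · simp
      · obtain ⟨hyT, hy'⟩ := hy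
        refine ⟨⟨φ ⟨y, hyT⟩, ⟨_, rfl⟩⟩, pw_inj hPp hu₀ hu₁ ?_⟩
        rw [← hy', conj_pw hPp hu₀ hu₁ (hφ₀ ⟨y, hyT⟩) i]
        rfl
  refine ⟨φ.range, a, ?_, hRiff, fun χ => by simp [a], fun χ i hi v hv => ?_, fun j l => ?_,
    fun j h hh => ?_, fun χ hχ => ?_⟩
  · rw [← Subgroup.index_ker φ, hker]
    rfl
  · rw [(hm χ i).2 v hv, hDa χ i hi]
  · have hp0 : (p : ℂ) ≠ 0 := Nat.cast_ne_zero.2 hp.out.ne_zero
    let w : (ZMod p)ˣ → ZMod p → ℂ := fun j i => ψc (-(i * (j : ZMod p))) - 1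
    have hw0 : ∀ j, w j 0 = 0 := fun j => by simp [w]
    have key : (p : ℂ) * p * ∑ χ ∈ A, ((a χ j : ℂ) * (a χ l : ℂ)) =
        (p : ℂ) * p * ((if j * l⁻¹ ∈ φ.range then 1 else 0) + (q : ℂ)) := by
      have h1 : ∀ χ, (p : ℂ) * p * ((a χ j : ℂ) * (a χ l : ℂ)) = ∑ i, ∑ i',
          dd b θ χ (pw u₀ i) * conj (dd b θ χ (pw u₀ i')) * (w j i * conj (w l i')) := by
        intro χ
        calc (p : ℂ) * p * ((a χ j : ℂ) * (a χ l : ℂ)) =
            ((p : ℂ) * (a χ j : ℂ)) * conj ((p : ℂ) * (a χ l : ℂ)) := by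
              rw [map_mul, Complex.conj_natCast, map_intCast]; ring
          _ = _ := by
              rw [hinv χ _ j.ne_zero, hinv χ _ l.ne_zero, map_sum, Finset.sum_mul]
              refine Finset.sum_congr rfl fun i _ => ?_
              rw [Finset.mul_sum]
              exact Finset.sum_congr rfl fun i' _ => by rw [map_mul]; ring
      rw [Finset.mul_sum, Finset.sum_congr rfl fun χ _ => h1 χ, Finset.sum_comm]
      have h2 : ∀ i, ∑ χ ∈ A, ∑ i',
          dd b θ χ (pw u₀ i) * conj (dd b θ χ (pw u₀ i')) * (w j i * conj (w l i')) =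
          (p : ℂ) * ∑ r : φ.range, w j i * conj (w l (((r : (ZMod p)ˣ) : ZMod p) * i)) := by
        intro i
        by_cases hi : i = 0
        · subst hi; simp [hw0]
        rw [Finset.sum_comm, Finset.sum_congr rfl (g := fun i' => (p : ℂ) *
          ∑ r : φ.range, (if i' = ((r : (ZMod p)ˣ) : ZMod p) * i then w j i * conj (w l i') else 0))
          fun i' _ => ?_]
        · rw [← Finset.mul_sum, Finset.sum_comm]
          simp
        · by_cases hi' : i' = 0
          · subst hi'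
            simp [hw0]
          · rw [← Finset.sum_mul, hG i i' hi hi', mul_assoc, Finset.sum_mul]
            exact congrArg _ (Finset.sum_congr rfl fun r _ => by rw [ite_mul, one_mul, zero_mul])
      rw [Finset.sum_congr rfl fun i _ => h2 i, ← Finset.mul_sum, Finset.sum_comm]
      have h3 : ∀ r : φ.range, ∑ i, w j i * conj (w l (((r : (ZMod p)ˣ) : ZMod p) * i)) =
          (p : ℂ) * ((if (r : (ZMod p)ˣ) = j * l⁻¹ then 1 else 0) + 1) := by
        intro r
        set c : ZMod p := ((r : (ZMod p)ˣ) : ZMod p) * (l : ZMod p)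
        have hc : c ≠ 0 := mul_ne_zero (r : (ZMod p)ˣ).ne_zero l.ne_zero
        have e : ∀ i : ZMod p, w j i * conj (w l (((r : (ZMod p)ˣ) : ZMod p) * i)) =
            ψc (i * (c - (j : ZMod p))) - ψc (i * c) - ψc (i * (-(j : ZMod p))) + 1 := by
          intro i
          simp only [w, map_sub, map_one, ψc_conj, neg_neg]
          rw [show ((r : (ZMod p)ˣ) : ZMod p) * i * (l : ZMod p) = i * c by simp [c]; ring,
            show i * (c - (j : ZMod p)) = -(i * (j : ZMod p)) + i * c by ring, AddChar.map_add_eq_mul,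
            show i * (-(j : ZMod p)) = -(i * (j : ZMod p)) by ring]
          ring
        rw [Finset.sum_congr rfl fun i _ => e i, Finset.sum_add_distrib, Finset.sum_sub_distrib,
          Finset.sum_sub_distrib, ψc_sum, ψc_sum, ψc_sum, if_neg hc,
          if_neg (neg_ne_zero.2 j.ne_zero), Finset.sum_const, Finset.card_univ, ZMod.card]
        have hiff : c - (j : ZMod p) = 0 ↔ (r : (ZMod p)ˣ) = j * l⁻¹ := by
          rw [sub_eq_zero, eq_mul_inv_iff_mul_eq, Units.ext_iff, Units.val_mul]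
        simp only [hiff]
        split <;> simp <;> ring
      rw [Finset.sum_congr rfl fun r _ => h3 r, ← Finset.mul_sum, Finset.sum_add_distrib,
        Finset.sum_const, Finset.card_univ, ← Nat.card_eq_fintype_card, nsmul_one, mul_assoc]
      congr 3
      by_cases hjl : j * l⁻¹ ∈ φ.range
      · rw [if_pos hjl, Finset.sum_eq_single (⟨_, hjl⟩ : φ.range)
          (fun r _ hr => if_neg fun h => hr (Subtype.ext h))
          (fun h => absurd (Finset.mem_univ _) h), if_pos rfl]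
      · rw [if_neg hjl, Finset.sum_eq_zero fun (r : φ.range) _ => if_neg fun (h : (r : (ZMod p)ˣ) = j * l⁻¹) => hjl (h ▸ r.2)]
    have h4 := mul_left_cancel₀ (mul_ne_zero hp0 hp0) key
    apply Int.cast_injective (α := ℂ)
    push_cast
    simpa [q] using h4
  · have hp0 : (p : ℂ) ≠ 0 := Nat.cast_ne_zero.2 hp.out.ne_zero
    refine (mul_eq_zero.1 (?_ : (p : ℂ) * _ = 0)).resolve_left hp0
    rw [Finset.mul_sum]
    simp only [← mul_assoc, hinv _ _ j.ne_zero, Finset.sum_mul]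
    rw [Finset.sum_comm]
    refine Finset.sum_eq_zero fun i _ => ?_
    by_cases hi : i = 0
    · subst hi; simp
    have h0 := sum_sct_regular hM hPp (b := b) haB (pw_mem hPp hu₀ hu₁ i)
      (pw_ne_one hPp hu₀ hu₁ hi) hh
    calc ∑ χ ∈ A, dd b θ χ (pw u₀ i) * (ψc (-(i * (j : ZMod p))) - 1) * (χ : G → ℂ) h
        = (ψc (-(i * (j : ZMod p))) - 1) / (θ : CG P → ℂ) 1 *
          ∑ χ ∈ A, sct (χ : G → ℂ) (⟨P, b⟩ : BrauerPairIdx G) (pw u₀ i) 1 * (χ : G → ℂ) h := by
          rw [Finset.mul_sum]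
          exact Finset.sum_congr rfl fun χ _ => by rw [dd]; ring
      _ = 0 := by rw [h0, mul_zero]
  · by_contra hall
    push Not at hall
    have hfac : (Nat.card G).factorization p = 1 := by
      rw [← P.card_mul_index, hPp, Nat.factorization_mul hp.out.ne_zero
        Subgroup.index_ne_zero_of_finite, Finsupp.add_apply, hp.out.factorization_self,
        Nat.factorization_eq_zero_of_not_dvd hsyl, add_zero]
    obtain ⟨v, hv, hvr, hne⟩ := exists_sct_ne_zero hM hχ (height_zero hM hB hd hfac hχ)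
      (a := (⟨P, b⟩ : BrauerPairIdx G)) (x := u₀) (mem_zpowers_of_prime hPp hu₀ hu₁).symm haB
    apply hne
    have h1 := (hm χ 1).2 ⟨v, hv⟩ (by rwa [Subgroup.orderOf_mk])
    rw [pw_one hPp hu₀ hu₁] at h1
    rw [h1]
    have h2 := hDa χ 1 one_ne_zero
    rw [pw_one hPp hu₀ hu₁] at h2
    rw [h2, Finset.sum_eq_zero (fun l _ => ?_), zero_mul]
    by_cases hl : l = 0
    · subst hl; simp [a]
    · rw [show a χ l = 0 from hall (Units.mk0 l hl), Int.cast_zero, zero_mul]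

end Cfsg.Agent.Char.DefectOne
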