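import Cfsg.Agent.Lib.Char.RegularIntegral

/-!
Scaled regular parts as integer combinations of the members of a block; blocks of rank one.
-/

namespace Cfsg.Agent.Char.Contrib

open scoped ComplexConjugate
open Cfsg Cfsg.Agent.Block

set_option linter.unusedSectionVars false
set_option linter.style.haveILetI false

universe u

variable {G : Type u} [Group G] [Fintype G] {p : ℕ} [Fact p.Prime] {M : Ideal AlgInt}
variable {B : Set (IrrCharacter G)}

theorem exists_coeff_reg (hM : IsPModular p M) (hB : IsPBlock M B) {χ : IrrCharacter G}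
    (hχ : χ ∈ B) {c : ℂ}
    (hc : ∀ ψ ∈ B, ∃ n : ℤ, c * regSum p (χ : G → ℂ) (ψ : G → ℂ) / (Nat.card G : ℂ) = n) :
    ∃ a : IrrCharacter G → ℤ, (∀ ψ, ψ ∉ B → a ψ = 0) ∧
      (fun x : G => if p ∣ orderOf x then (0 : ℂ) else c * (χ : G → ℂ) x) =
        fun x => ∑ ψ : IrrCharacter G, (a ψ : ℂ) * (ψ : G → ℂ) x := by
  classical
  choose n hn using hc
  refine ⟨fun ψ => if h : ψ ∈ B then n ψ h else 0, fun ψ hψ => dif_neg hψ, ?_⟩
  conv_lhs => rw [classFunction_expansion (reg_classFun c (IsIrr.classFun χ.2))]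
  funext x
  rw [Finset.sum_apply]
  refine Finset.sum_congr rfl fun ψ _ => ?_
  rw [Pi.smul_apply, smul_eq_mul, classInner_reg]
  congr 1
  by_cases h : ψ ∈ B
  · simp only [dif_pos h]
    exact hn ψ h
  · simp only [dif_neg h, regSum_eq_zero_of_not_mem hM hB hχ h]
    simp

theorem isGenChar_reg (hM : IsPModular p M) (hB : IsPBlock M B) {χ : IrrCharacter G}
    (hχ : χ ∈ B) {c : ℂ}
    (hc : ∀ ψ ∈ B, ∃ n : ℤ, c * regSum p (χ : G → ℂ) (ψ : G → ℂ) / (Nat.card G : ℂ) = n) :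
    IsGeneralizedCharacter G (fun x : G => if p ∣ orderOf x then (0 : ℂ) else c * (χ : G → ℂ) x) := by
  obtain ⟨a, -, he⟩ := exists_coeff_reg hM hB hχ hc
  rw [he, show (fun x : G => ∑ ψ : IrrCharacter G, (a ψ : ℂ) * (ψ : G → ℂ) x) =
      ∑ ψ : IrrCharacter G, (a ψ : ℂ) • (ψ : G → ℂ) by funext x; simp]
  exact IsGenChar.sum fun ψ _ => IsGenChar.zsmul (IsGenChar.of_isCharacter (irr_isChar ψ)) _

/-- The inner product of the scaled regular part with a member of the block. -/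
theorem exists_int_inner (hM : IsPModular p M) (hB : IsPBlock M B) {χ ξ : IrrCharacter G}
    (hχ : χ ∈ B) (hξ : ξ ∈ B) :
    ∃ z : ℤ, classInner (fun x : G => if p ∣ orderOf x then (0 : ℂ) else
        ((p ^ (Nat.card G).factorization p : ℕ) : ℂ) * (χ : G → ℂ) x) (ξ : G → ℂ) =
        (((p : ℤ) ^ (charDegree (ξ : G → ℂ)).factorization p * z : ℤ) : ℂ) ∧
      ((p : ℤ) ∣ z ↔ blockHeight p B (χ : G → ℂ) ≠ 0) := by
  obtain ⟨z, hz, hiff⟩ := exists_int_regSum_all hM hB hχ hξ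
  refine ⟨z, ?_, hiff⟩
  rw [classInner_reg, regSum_swap, div_eq_iff (Nat.cast_ne_zero.mpr Nat.card_pos.ne')]
  push_cast
  linear_combination hz

theorem padic_iff (hM : IsPModular p M) (hB : IsPBlock M B) {χ ξ : IrrCharacter G}
    (hχ : χ ∈ B) (hξ : ξ ∈ B) :
    (∃ n : ℤ, classInner (fun x : G => if p ∣ orderOf x then (0 : ℂ) else
        ((p ^ (Nat.card G).factorization p : ℕ) : ℂ) * (χ : G → ℂ) x) (ξ : G → ℂ) = (n : ℂ) ∧
      n ≠ 0 ∧ padicValInt p n = (charDegree (ξ : G → ℂ)).factorization p) ↔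
      blockHeight p B (χ : G → ℂ) = 0 := by
  obtain ⟨z, hz, hiff⟩ := exists_int_inner hM hB hχ hξ
  set b := (charDegree (ξ : G → ℂ)).factorization p
  have hpz : (p : ℤ) ≠ 0 := Int.natCast_ne_zero.2 (Fact.out : p.Prime).ne_zero
  constructor
  · rintro ⟨n, hn, hn0, hv⟩
    obtain rfl : (p : ℤ) ^ b * z = n := by exact_mod_cast hz.symm.trans hn
    by_contra h0
    obtain ⟨z', rfl⟩ := hiff.2 h0
    have h1 : (p : ℤ) ^ (b + 1) ∣ (p : ℤ) ^ b * ((p : ℤ) * z') := ⟨z', by ring⟩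
    rw [padicValInt_dvd_iff] at h1
    rcases h1 with h1 | h1
    · exact hn0 h1
    · omega
  · intro h0
    have hz0 : ¬ (p : ℤ) ∣ z := fun h => hiff.1 h h0
    refine ⟨(p : ℤ) ^ b * z, hz, mul_ne_zero (pow_ne_zero _ hpz) fun h => hz0 (h ▸ dvd_zero _), ?_⟩
    have h1 : (p : ℤ) ^ b ∣ (p : ℤ) ^ b * z := dvd_mul_right _ _
    have h2 : ¬ (p : ℤ) ^ (b + 1) ∣ (p : ℤ) ^ b * z := by
      rw [pow_succ, mul_dvd_mul_iff_left (pow_ne_zero _ hpz)]
      exact hz0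
    rw [padicValInt_dvd_iff] at h1 h2
    push Not at h2
    rcases h1 with h1 | h1
    · exact absurd h1 h2.1
    · omega

/-- In a block of rank one the restrictions to the regular elements are multiples of one integer
combination, and the sum of the squares of the multipliers is the order of a defect group. -/
theorem exists_rank_one (hM : IsPModular p M) (hB : IsPBlock M B) (hl : blockRank p B = 1) :
    ∃ φ : G → ℂ, ∃ d : IrrCharacter G → ℕ,
      (∃ n : IrrCharacter G → ℤ, ∀ x : G, φ x = ∑ᶠ ψ ∈ B, (n ψ : ℂ) * (ψ : G → ℂ) x) ∧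
      (∀ χ ∈ B, ∀ x : G, ¬ p ∣ orderOf x → (χ : G → ℂ) x = (d χ : ℂ) * φ x) ∧
      ∑ᶠ χ ∈ B, d χ ^ 2 = p ^ blockDefect p B := by
  classical
  have hp : p.Prime := Fact.out
  obtain ⟨χ₀, hχ₀, h0⟩ := exists_height_zero hM hB
  set D := fun η : IrrCharacter G => charDegree (η : G → ℂ) with hD
  have hprop : ∀ η ∈ B, ∀ x : G, ¬ p ∣ orderOf x →
      (η : G → ℂ) x * (D χ₀ : ℂ) = (D η : ℂ) * (χ₀ : G → ℂ) x := by
    intro η hη x hx
    set S := Submodule.span ℂ ((fun χ : IrrCharacter G => pRegularPart p (χ : G → ℂ)) '' B) with hS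
    have hr : Module.finrank ℂ S = 1 := hl
    have h1 : ¬ p ∣ orderOf (1 : G) := by rw [orderOf_one]; exact hp.not_dvd_one
    have hv : (⟨pRegularPart p (χ₀ : G → ℂ), Submodule.subset_span ⟨χ₀, hχ₀, rfl⟩⟩ : S) ≠ 0 := by
      intro h
      have h2 := congrFun (congrArg Subtype.val h) 1
      simp only [pRegularPart, ZeroMemClass.coe_zero, Pi.zero_apply] at h2
      rw [if_pos (show IsPRegular p (1 : G) from h1)] at h2
      exact irr_one_ne_zero χ₀ h2
    obtain ⟨c, hc⟩ := (finrank_eq_one_iff_of_nonzero' _ hv).1 hr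
      ⟨pRegularPart p (η : G → ℂ), Submodule.subset_span ⟨η, hη, rfl⟩⟩
    have hc' : ∀ y : G, ¬ p ∣ orderOf y → (η : G → ℂ) y = c * (χ₀ : G → ℂ) y := by
      intro y hy
      have h2 := congrFun (congrArg Subtype.val hc) y
      simp only [SetLike.val_smul, Pi.smul_apply, smul_eq_mul, pRegularPart] at h2
      rw [if_pos (show IsPRegular p y from hy), if_pos (show IsPRegular p y from hy)] at h2
      exact h2.symm
    have h3 := hc' 1 h1
    rw [charDeg_spec' η, charDeg_spec' χ₀] at h3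
    rw [hc' x hx]
    simp only [hD, h3]
    ring
  set A := Finset.univ.filter (· ∈ B) with hA
  have hχA : χ₀ ∈ A := by simp [A, hχ₀]
  obtain ⟨g, hgdef⟩ : ∃ g, g = A.gcd D := ⟨_, rfl⟩
  have hgd : ∀ η ∈ A, g ∣ D η := fun η hη => hgdef ▸ Finset.gcd_dvd hη
  have hg0 : g ≠ 0 := fun h => (charDeg_pos χ₀).ne' (Nat.eq_zero_of_zero_dvd (h ▸ hgd χ₀ hχA))
  obtain ⟨e, he⟩ : ∃ e : IrrCharacter G → ℤ, (g : ℤ) = ∑ η ∈ A, e η * (D η : ℤ) := by
    have h1 : (g : ℤ) = A.gcd (fun η => (D η : ℤ)) := by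
      rw [hgdef]
      refine Finset.induction_on A (by simp) fun a s _ ih => ?_
      rw [Finset.gcd_insert, Finset.gcd_insert, ← ih]
      rfl
    obtain ⟨e, he⟩ := Finset.gcd_eq_sum_mul A (fun η => (D η : ℤ))
    exact ⟨e, h1.trans (he.trans (Finset.sum_congr rfl fun η _ => mul_comm _ _))⟩
  set φ : G → ℂ := fun x => ∑ η ∈ A, (e η : ℂ) * (η : G → ℂ) x with hφ
  set d : IrrCharacter G → ℕ := fun η => D η / g with hd
  have hdg : ∀ η ∈ A, (D η : ℂ) = (d η : ℂ) * (g : ℂ) := fun η hη => by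
    rw [← Nat.cast_mul, hd, Nat.div_mul_cancel (hgd η hη)]
  have hval : ∀ χ ∈ B, ∀ x : G, ¬ p ∣ orderOf x → (χ : G → ℂ) x = (d χ : ℂ) * φ x := by
    intro χ hχ x hx
    have hD0 : (D χ₀ : ℂ) ≠ 0 := Nat.cast_ne_zero.2 (charDeg_pos χ₀).ne'
    have h1 : φ x * (D χ₀ : ℂ) = (g : ℂ) * (χ₀ : G → ℂ) x := by
      rw [show (g : ℂ) = ((∑ η ∈ A, e η * (D η : ℤ) : ℤ) : ℂ) by rw [← he, Int.cast_natCast],
        hφ, Finset.sum_mul]
      push_cast
      rw [Finset.sum_mul]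
      refine Finset.sum_congr rfl fun η hη => ?_
      rw [mul_assoc, hprop η (Finset.mem_filter.1 hη).2 x hx, ← mul_assoc]
    refine mul_right_cancel₀ hD0 ?_
    rw [mul_assoc, h1, ← mul_assoc, ← hdg χ (by simp [A, hχ]), hprop χ hχ x hx]
  refine ⟨φ, d, ⟨e, fun x => ?_⟩, hval, ?_⟩
  · rw [finsum_mem_eq_finite_toFinset_sum _ B.toFinite]
    exact Finset.sum_congr (by ext; simp [A]) fun _ _ => rfl
  -- the scalar of the pairing
  obtain ⟨w, hw, -, -, -, hdvd⟩ := exists_regMatrix hM hB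
  set N := regSum p φ φ with hN
  have hpair : ∀ χ ∈ B, ∀ η ∈ B, regSum p (χ : G → ℂ) (η : G → ℂ) = (d χ : ℂ) * (d η : ℂ) * N := by
    intro χ hχ η hη
    rw [hN, regSum_eq_sum, regSum_eq_sum, Finset.mul_sum]
    refine Finset.sum_congr rfl fun x hx => ?_
    rw [hval χ hχ x (Finset.mem_filter.1 hx).2, hval η hη x (Finset.mem_filter.1 hx).2, map_mul,
      map_natCast]
    ring
  set K := N * (p : ℂ) ^ blockDefect p B / (Nat.card G : ℂ) with hK
  have hG : (Nat.card G : ℂ) ≠ 0 := Nat.cast_ne_zero.mpr Nat.card_pos.ne'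
  have hwK : ∀ χ ∈ B, ∀ η ∈ B, (w χ η : ℂ) = (d χ : ℂ) * (d η : ℂ) * K := by
    intro χ hχ η hη
    have h1 := hw χ hχ η hη
    rw [hpair χ hχ η hη] at h1
    rw [hK, ← mul_right_inj' hG, ← h1]
    field_simp
  have he1 : ∑ η ∈ A, (e η : ℂ) * (d η : ℂ) = 1 := by
    refine mul_right_cancel₀ (Nat.cast_ne_zero.2 hg0 : (g : ℂ) ≠ 0) ?_
    rw [one_mul, Finset.sum_mul]
    conv_rhs => rw [show (g : ℂ) = ((∑ η ∈ A, e η * (D η : ℤ) : ℤ) : ℂ) by
      rw [← he, Int.cast_natCast]]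
    push_cast
    exact Finset.sum_congr rfl fun η hη => by rw [hdg η hη]; ring
  obtain ⟨k, hk⟩ : ∃ k : ℤ, K = k := by
    refine ⟨∑ χ ∈ A, ∑ η ∈ A, e χ * e η * w χ η, ?_⟩
    push_cast
    rw [Finset.sum_congr rfl fun χ hχ => Finset.sum_congr rfl fun η hη => by
      rw [hwK χ (Finset.mem_filter.1 hχ).2 η (Finset.mem_filter.1 hη).2]]
    have h2 : ∑ χ ∈ A, ∑ η ∈ A, (e χ : ℂ) * (e η : ℂ) * ((d χ : ℂ) * (d η : ℂ) * K) =
        (∑ χ ∈ A, (e χ : ℂ) * (d χ : ℂ)) * (∑ η ∈ A, (e η : ℂ) * (d η : ℂ)) * K := by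
      rw [Finset.sum_mul_sum, Finset.sum_mul]
      refine Finset.sum_congr rfl fun χ _ => ?_
      rw [Finset.sum_mul]
      exact Finset.sum_congr rfl fun η _ => by ring
    rw [h2, he1, one_mul, one_mul]
  have hsum : (∑ χ ∈ A, (d χ : ℂ) * (d χ : ℂ)) * K = (p : ℂ) ^ blockDefect p B := by
    have h1 := Spec.sum_regSum_self hM hB
    rw [hl, Nat.cast_one, mul_one, Finset.sum_congr rfl fun χ hχ =>
      hpair χ (Finset.mem_filter.1 hχ).2 χ (Finset.mem_filter.1 hχ).2, ← Finset.sum_mul] at h1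
    rw [hK, mul_div_assoc', ← mul_assoc, h1, mul_comm (Nat.card G : ℂ),
      mul_div_assoc, div_self hG, mul_one]
  have hcop : ¬ (p : ℤ) ∣ k := by
    intro hpk
    have h1 : w χ₀ χ₀ = (d χ₀ : ℤ) * (d χ₀ : ℤ) * k := by
      have h2 := hwK χ₀ hχ₀ χ₀ hχ₀
      rw [hk] at h2
      exact_mod_cast h2
    have h2 := (hdvd χ₀ hχ₀ χ₀ hχ₀).2
    rw [h0, zero_add, pow_one] at h2
    exact (h2.1 (h1 ▸ dvd_mul_of_dvd_right hpk _)) rfl
  have hint : ((∑ χ ∈ A, d χ ^ 2 : ℕ) : ℤ) * k = (p : ℤ) ^ blockDefect p B := by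
    have h2 := hsum
    rw [hk] at h2
    simp only [← sq] at h2
    exact_mod_cast h2
  rw [finsum_mem_eq_finite_toFinset_sum _ B.toFinite,
    Finset.sum_congr (show B.toFinite.toFinset = A by ext; simp [A]) fun _ _ => rfl]
  obtain ⟨j, hj, hkj⟩ := (Nat.dvd_prime_pow hp).1 (show k.natAbs ∣ p ^ blockDefect p B by
    have := Int.natAbs_dvd_natAbs.2 (Dvd.intro_left _ hint)
    simpa [Int.natAbs_pow] using this)
  have hj0 : j = 0 := by
    by_contra hj0
    exact hcop (Int.natCast_dvd.2 (hkj ▸ dvd_pow_self p hj0))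
  rw [hj0, pow_zero] at hkj
  rcases Int.natAbs_eq k with h | h <;> rw [hkj, Nat.cast_one] at h <;> rw [h] at hint
  · rw [mul_one] at hint
    exact_mod_cast hint
  · exfalso
    have h1 : (0 : ℤ) < (p : ℤ) ^ blockDefect p B := pow_pos (Int.natCast_pos.2 hp.pos) _
    have h2 : (0 : ℤ) ≤ ((∑ χ ∈ A, d χ ^ 2 : ℕ) : ℤ) := Int.natCast_nonneg _
    linarith

end Cfsg.Agent.Char.Contrib
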