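import Cfsg.Agent.Lib.Char.DefectOneCount
import Cfsg.Agent.Lib.Char.PairStab

/-!
Blocks with a Sylow subgroup of order `p`: the values at the singular elements and the degrees.
-/

open scoped ComplexConjugate

namespace Cfsg.Agent.Char.DefectOne

open Cfsg Cfsg.Agent.Block Cfsg.Agent.Char.BP Cfsg.Agent.Char.Spec

set_option linter.unusedSectionVars false
set_option linter.style.haveILetI false
set_option maxHeartbeats 1600000

universe u

variable {G : Type u} [Group G] [Fintype G] {p : ℕ} [hp : Fact p.Prime] {M : Ideal AlgInt}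
variable {P : Subgroup G}
variable (hM : IsPModular p M) (hPp : Nat.card P = p) (hsyl : ¬ p ∣ P.index)
  {b : Set (IrrCharacter (CG P))} {θ : IrrCharacter (CG P)} (hθ : θ ∈ b)
  (hθP : ∀ x : CG P, (x : G) ∈ P → (θ : CG P → ℂ) x = (θ : CG P → ℂ) 1)
  {B : Set (IrrCharacter G)}

/-- The exponent `0` or more is exhausted by `P`. -/
theorem isMx_of_card (hPp : Nat.card P = p) (hsyl : ¬ p ∣ P.index)
    {f : Set (IrrCharacter (CG P))} (h : OfB p M B (⟨P, f⟩ : BrauerPairIdx G)) :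
    IsMx p M B (⟨P, f⟩ : BrauerPairIdx G) := by
  refine ⟨h, fun R g hR hle => ?_⟩
  have hle' : P ≤ R := le_subgroup (p := p) (M := M)
    (a := (⟨P, f⟩ : BrauerPairIdx G)) (b := (⟨R, g⟩ : BrauerPairIdx G)) hle
  obtain ⟨k, hk⟩ := (hR.1.1 : IsPGroup p R).exists_card_eq
  refine (Subgroup.eq_of_le_of_card_ge hle' ?_).symm
  rw [hk, hPp]
  rcases Nat.lt_or_ge k 2 with hlt | hge
  · exact le_trans (Nat.pow_le_pow_right hp.out.pos (Nat.le_of_lt_succ hlt)) (pow_one p).le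
  · exfalso
    have h2 : p * p ∣ Nat.card G :=
      (sq p ▸ pow_dvd_pow p hge).trans (hk ▸ Subgroup.card_subgroup_dvd_card R)
    rw [← P.card_mul_index, hPp] at h2
    exact hsyl ((Nat.mul_dvd_mul_iff_left hp.out.pos).1 h2)

include hM hPp hsyl hθ hθP in
/-- The stabilizer of the block fixes the canonical character, and conversely. -/
theorem mem_stab_theta (hb : IsPBlock M b) (g : G) :
    g ∈ stab (⟨P, b⟩ : BrauerPairIdx G) ↔ (g ∈ Subgroup.normalizer (P : Set G) ∧ ∀ c c' : CG P,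
      (c' : G) = g * c * g⁻¹ → (θ : CG P → ℂ) c' = (θ : CG P → ℂ) c) := by
  classical
  obtain ⟨-, huniq, -⟩ := local_block hM hPp hsyl hb hθ hθP
  rw [mem_stab_iff hM (a := (⟨P, b⟩ : BrauerPairIdx G)) hb]
  refine and_congr_right fun hg => ?_
  constructor
  · rintro ⟨-, hst⟩ c c' hc
    obtain ⟨θ', hθ', hconj⟩ := hst θ hθ
    rw [huniq θ' hθ' fun x hx => ?_] at hconj
    · exact hconj c c' hc
    · obtain ⟨k, hk⟩ : ∃ k : CG P, (x : G) = g * (k : G) * g⁻¹ :=
        ⟨(centEquiv hg).symm x, by rw [← centEquiv_val hg, MulEquiv.apply_symm_apply]⟩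
      rw [hconj k x hk, hconj 1 1 (by simp)]
      refine hθP k ?_
      have h2 := (Subgroup.mem_normalizer_iff.1 hg (k : G)).2
      exact h2 (hk ▸ hx)
  · intro h
    refine ⟨mem_normalizer_cg (Q := P) hg, fun ξ hξ => ⟨irrPull (centEquiv hg).symm ξ, ?_, ?_⟩⟩
    · have hb' : IsPBlock M (pullB (centEquiv hg) b) := isPBlock_pullB hM _ hb
      have hmem : θ ∈ pullB (centEquiv hg) b := by
        show irrPull (centEquiv hg) θ ∈ b
        rw [show irrPull (centEquiv hg) θ = θ from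
          Subtype.ext (funext fun k => h k _ (centEquiv_val hg k))]
        exact hθ
      have heq : pullB (centEquiv hg) b = b := by
        rw [pblock_eq_blockOf hM hb' hmem, ← pblock_eq_blockOf hM hb hθ]
      rw [← heq]
      show irrPull (centEquiv hg) (irrPull (centEquiv hg).symm ξ) ∈ b
      rw [irrPull_symm_self]
      exact hξ
    · intro k k' hk
      rw [irrPull_apply]
      exact congrArg (ξ : CG P → ℂ) ((MulEquiv.symm_apply_eq _).2
        (Subtype.ext (hk.trans (centEquiv_val hg k).symm)))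

include hM hPp hsyl hθ hθP in
/-- The stabilizer of the block is the stabilizer of the canonical character. -/
theorem stab_eq (hb : IsPBlock M b) {T : Subgroup G}
    (hT : ∀ g : G, g ∈ T ↔ (g ∈ Subgroup.normalizer (P : Set G) ∧ ∀ c c' : CG P,
      (c' : G) = g * c * g⁻¹ → (θ : CG P → ℂ) c' = (θ : CG P → ℂ) c)) :
    stab (⟨P, b⟩ : BrauerPairIdx G) = T :=
  Subgroup.ext fun g => (mem_stab_theta hM hPp hsyl hθ hθP hb g).trans (hT g).symm

include hM hPp hsyl in
/-- The value at a singular element through the conjugates of the pair. -/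
theorem value_eq (haB : OfB p M B (⟨P, b⟩ : BrauerPairIdx G)) {T : Subgroup G}
    (hT : stab (⟨P, b⟩ : BrauerPairIdx G) = T) {N : Subgroup G}
    (hN : N = Subgroup.normalizer (P : Set G)) [Fintype (N ⧸ T.subgroupOf N)] {χ : IrrCharacter G}
    (hχ : χ ∈ B) {x : G} (hx : x ∈ P) (hx1 : x ≠ 1) {v : G} (hv : v ∈ CG P)
    (hvr : ¬ p ∣ orderOf v) :
    (χ : G → ℂ) (x * v) = ∑ q : N ⧸ T.subgroupOf N, sct (χ : G → ℂ) (⟨P, b⟩ : BrauerPairIdx G)
      ((q.out : G)⁻¹ * x * q.out) ((q.out : G)⁻¹ * v * q.out) := by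
  classical
  set a : BrauerPairIdx G := ⟨P, b⟩
  rw [value_eq_sum_blks hM P (χ : G → ℂ) x v]
  have hzero : ∀ b' ∈ blks M (CG P), ¬ OfB p M B (⟨P, b'⟩ : BrauerPairIdx G) →
      sct (χ : G → ℂ) (⟨P, b'⟩ : BrauerPairIdx G) x v = 0 := fun b' hb' hnot =>
    sct_eq_zero (a := (⟨P, b'⟩ : BrauerPairIdx G)) hM hχ haB.2.1 ⟨haB.1.1, mem_blks.1 hb'⟩
      (pPow_mem hPp hx) (mem_zpowers_of_prime hPp hx hx1).symm hnot hv hvr
  rw [← Finset.sum_subset (Finset.filter_subset
    (fun b' => OfB p M B (⟨P, b'⟩ : BrauerPairIdx G)) (blks M (CG P))) fun b' hb' hn =>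
      hzero b' hb' fun h => hn (Finset.mem_filter.2 ⟨hb', h⟩)]
  have hcos : ∀ q : N ⧸ T.subgroupOf N, ∃ b', cjI (q.out : G) a = (⟨P, b'⟩ : BrauerPairIdx G) := by
    intro q
    have hq : (q.out : G) ∈ Subgroup.normalizer (P : Set G) := hN ▸ q.out.2
    obtain ⟨R, f, hR⟩ : ∃ R f, cjI (q.out : G) a = (⟨R, f⟩ : BrauerPairIdx G) := ⟨_, _, rfl⟩
    obtain rfl : P = R := by
      rw [← map_conj_eq_of_normalizer hq]
      exact congrArg Sigma.fst hR
    exact ⟨f, hR⟩
  choose F hF using hcos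
  refine (Finset.sum_bij (fun q _ => F q) (fun q _ => ?_) (fun q _ q' _ h => ?_)
    (fun b' hb' => ?_) fun q _ => ?_).symm
  · have h1 := ofB_cjI hM haB (q.out : G)
    rw [hF q] at h1
    exact Finset.mem_filter.2 ⟨mem_blks.2 h1.1.2, h1⟩
  · have h1 : cjI (q.out : G) a = cjI (q'.out : G) a := by rw [hF, hF, h]
    rw [← QuotientGroup.out_eq' q, ← QuotientGroup.out_eq' q', QuotientGroup.eq,
      Subgroup.mem_subgroupOf]
    refine hT.le (mem_stab_of_cjI ?_ ?_)
    · exact hN ▸ (q.out⁻¹ * q'.out).2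
    · rw [Subgroup.coe_mul, Subgroup.coe_inv, ← cjI_cjI, ← h1, cjI_inv_cancel]
  · obtain ⟨-, hb'⟩ := Finset.mem_filter.1 hb'
    obtain ⟨n, hn, hnx⟩ := max_conj_normalizer hM (isMx_of_card hPp hsyl haB)
      (isMx_of_card hPp hsyl hb') rfl
    refine ⟨((⟨n, hN ▸ hn⟩ : N) : N ⧸ T.subgroupOf N), Finset.mem_univ _, ?_⟩
    set q : N ⧸ T.subgroupOf N := ((⟨n, hN ▸ hn⟩ : N) : N ⧸ T.subgroupOf N)
    have hmem : n⁻¹ * (q.out : G) ∈ stab a := by
      rw [hT]
      have h2 : (⟨n, hN ▸ hn⟩ : N)⁻¹ * q.out ∈ T.subgroupOf N :=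
        QuotientGroup.eq.1 (QuotientGroup.out_eq' q).symm
      exact h2
    have h1 : cjI (q.out : G) a = (⟨P, b'⟩ : BrauerPairIdx G) := by
      rw [hnx, show (q.out : G) = n * (n⁻¹ * q.out) by group, ← cjI_cjI, cjI_eq_of_stab hmem]
    rw [hF q] at h1
    exact eq_of_heq (Sigma.mk.inj_iff.1 h1).2
  · rw [← hF q]
    conv_rhs => rw [show x = (q.out : G) * ((q.out : G)⁻¹ * x * q.out) * (q.out : G)⁻¹ by group,
      show v = (q.out : G) * ((q.out : G)⁻¹ * v * q.out) * (q.out : G)⁻¹ by group]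
    rw [sct_conj (IsIrr.classFun χ.2)]

include hM in
/-- The degree is congruent to the value at an element of `p`-power order. -/
theorem degree_congr (χ : IrrCharacter G) {x : G} (hx : x ^ p = 1) {z : ℤ}
    (hz : MemLocalIdeal M ((χ : G → ℂ) x - (z : ℂ))) :
    (charDegree (χ : G → ℂ) : ℤ) ≡ z [ZMOD p] := by
  have h1 := value_pPart_congr hM (irr_isChar χ) (g := x) (u := x) (v := 1) (mul_one x)
    (Commute.one_right x) (k := 1) (by rw [pow_one, hx]) (one_mem _)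
  have h2 := ideal_sub hM hz h1
  rw [show (χ : G → ℂ) x - (z : ℂ) - ((χ : G → ℂ) x - (χ : G → ℂ) 1) =
      (((charDegree (χ : G → ℂ) : ℤ) - z : ℤ) : ℂ) by rw [charDeg_spec']; push_cast; ring,
    ideal_intCast_iff hM] at h2
  exact (Int.modEq_iff_dvd.2 h2).symm

variable {T : Subgroup G} {u₀ : G} {R : Subgroup (ZMod p)ˣ} {X : Finset (IrrCharacter G)}
  {y : (ZMod p)ˣ ⧸ R → IrrCharacter G} {c : IrrCharacter G → ℤ} {ε : ℤ}

include hM hPp hsyl hθ hθP in
/-- The values of the constant rows. -/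
theorem value_X (haB : OfB p M B (⟨P, b⟩ : BrauerPairIdx G))
    (hT : ∀ g : G, g ∈ T ↔ (g ∈ Subgroup.normalizer (P : Set G) ∧ ∀ c c' : CG P,
      (c' : G) = g * c * g⁻¹ → (θ : CG P → ℂ) c' = (θ : CG P → ℂ) c))
    (hu₀ : u₀ ∈ P) (hu₁ : u₀ ≠ 1) (hD : Data M P B b θ T u₀ R X y c ε) {N : Subgroup G}
    (hN : N = Subgroup.normalizer (P : Set G)) [Fintype (N ⧸ T.subgroupOf N)] {χ : IrrCharacter G}
    (hχ : χ ∈ X) {x : G} (hx : x ∈ P) (hx1 : x ≠ 1) {v : CG P} (hvr : ¬ p ∣ orderOf v) :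
    (χ : G → ℂ) (x * (v : G)) = -(c χ : ℂ) * ∑ q : N ⧸ T.subgroupOf N,
      extendByZero (CG P) (θ : CG P → ℂ) ((q.out : G)⁻¹ * v * q.out) := by
  classical
  rw [value_eq hM hPp hsyl haB (stab_eq hM hPp hsyl hθ hθP haB.1.2 hT) hN
    ((hD.mem_iff χ).2 (Or.inl hχ)) hx hx1 v.2 (by rwa [Subgroup.orderOf_coe]), Finset.mul_sum]
  refine Finset.sum_congr rfl fun q _ => ?_
  have hq : (q.out : G)⁻¹ ∈ Subgroup.normalizer (P : Set G) := inv_mem (hN ▸ q.out.2)
  set w : CG P := centEquiv hq v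
  have hw : (w : G) = (q.out : G)⁻¹ * v * q.out := by rw [centEquiv_val, inv_inv]
  have hx' : (q.out : G)⁻¹ * x * q.out ∈ P := by
    simpa using (Subgroup.mem_normalizer_iff.1 hq x).1 hx
  obtain ⟨i, hi⟩ := exists_pw hPp hu₀ hu₁ hx'
  have hi0 : i ≠ 0 := fun h => hx1 (by
    rw [h, pw, ZMod.val_zero, pow_zero] at hi
    have := congrArg (fun z => (q.out : G) * z * (q.out : G)⁻¹) hi
    simpa [mul_assoc] using this.symm)
  have hwr : ¬ p ∣ orderOf w := by rwa [MulEquiv.orderOf_eq]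
  rw [← hw, ← hi, hD.sct_X χ hχ i hi0 w hwr, extendByZero_of_mem _ w.2]

include hM hPp hsyl hθ hθP in
/-- The degrees modulo `p`. -/
theorem degrees (haB : OfB p M B (⟨P, b⟩ : BrauerPairIdx G))
    (hT : ∀ g : G, g ∈ T ↔ (g ∈ Subgroup.normalizer (P : Set G) ∧ ∀ c c' : CG P,
      (c' : G) = g * c * g⁻¹ → (θ : CG P → ℂ) c' = (θ : CG P → ℂ) c))
    (hu₀ : u₀ ∈ P) (hu₁ : u₀ ≠ 1) (hD : Data M P B b θ T u₀ R X y c ε) :
    (∀ χ ∈ X, (charDegree (χ : G → ℂ) : ℤ) ≡
      -c χ * ((T.relIndex (Subgroup.normalizer (P : Set G)) *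
        charDegree (θ : CG P → ℂ) : ℕ) : ℤ) [ZMOD p]) ∧
    ∀ q, (charDegree (y q : G → ℂ) : ℤ) ≡
      ε * (((CG P).relIndex T * T.relIndex (Subgroup.normalizer (P : Set G)) *
        charDegree (θ : CG P → ℂ) : ℕ) : ℤ) [ZMOD p] := by
  classical
  set N := Subgroup.normalizer (P : Set G) with hN
  letI : Fintype (N ⧸ T.subgroupOf N) := Fintype.ofFinite _
  have hK : Fintype.card (N ⧸ T.subgroupOf N) = T.relIndex N := by
    rw [← Nat.card_eq_fintype_card]
    rfl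
  have hu₀p : u₀ ^ p = 1 := by rw [← orderOf_gen hPp hu₀ hu₁, pow_orderOf_eq_one]
  have h1r : ¬ p ∣ orderOf (1 : CG P) := by rw [orderOf_one]; exact hp.out.not_dvd_one
  refine ⟨fun χ hχ => degree_congr hM χ hu₀p ?_, fun q => degree_congr hM (y q) hu₀p ?_⟩
  · have h := value_X hM hPp hsyl hθ hθP haB hT hu₀ hu₁ hD hN hχ hu₀ hu₁ h1r
    rw [OneMemClass.coe_one, mul_one] at h
    rw [h, Finset.sum_congr rfl (g := fun _ => (θ : CG P → ℂ) 1) fun q _ => by
      rw [mul_one, inv_mul_cancel]; exact extendByZero_of_mem _ (one_mem _), Finset.sum_const,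
      Finset.card_univ, hK, nsmul_eq_mul, charDeg_spec']
    push_cast
    rw [sub_eq_zero.2 (by ring)]
    exact ideal_zero hM
  · have h := value_eq hM hPp hsyl haB (stab_eq hM hPp hsyl hθ hθP haB.1.2 hT) hN
      ((hD.mem_iff _).2 (Or.inr ⟨q, rfl⟩)) hu₀ hu₁ (one_mem _)
      (by rw [orderOf_one]; exact hp.out.not_dvd_one)
    rw [mul_one] at h
    rw [h]
    have hterm : ∀ z : N ⧸ T.subgroupOf N, MemLocalIdeal M
        (sct (y q : G → ℂ) (⟨P, b⟩ : BrauerPairIdx G) ((z.out : G)⁻¹ * u₀ * z.out)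
          ((z.out : G)⁻¹ * 1 * z.out) - (ε * ((CG P).relIndex T * charDegree (θ : CG P → ℂ) : ℕ) :
            ℤ)) := by
      intro z
      have hz : (z.out : G)⁻¹ ∈ Subgroup.normalizer (P : Set G) := inv_mem z.out.2
      have hx' : (z.out : G)⁻¹ * u₀ * z.out ∈ P := by
        simpa using (Subgroup.mem_normalizer_iff.1 hz u₀).1 hu₀
      obtain ⟨i, hi⟩ := exists_pw hPp hu₀ hu₁ hx'
      have hi0 : i ≠ 0 := fun h => hu₁ (by
        rw [h, pw, ZMod.val_zero, pow_zero] at hi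
        have := congrArg (fun w => (z.out : G) * w * (z.out : G)⁻¹) hi
        simpa [mul_assoc] using this.symm)
      rw [mul_one, inv_mul_cancel, ← hi,
        show (1 : G) = ((1 : CG P) : G) from rfl, hD.sct_Y q i hi0 1 h1r, charDeg_spec',
        ← hD.card_R]
      have hcard : (Finset.univ.filter fun j : (ZMod p)ˣ => (j : (ZMod p)ˣ ⧸ R) = q).card =
          Nat.card R := by
        rw [Nat.card_eq_fintype_card, ← Finset.card_univ]
        symm
        refine Finset.card_bij (fun (r : R) _ => q.out * (r : (ZMod p)ˣ)) (fun r _ => ?_)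
          (fun r _ r' _ h => Subtype.ext (mul_left_cancel h)) fun j hj => ?_
        · refine Finset.mem_filter.2 ⟨Finset.mem_univ _, ?_⟩
          rw [QuotientGroup.mk_mul_of_mem _ r.2, QuotientGroup.out_eq']
        · refine ⟨⟨q.out⁻¹ * j, ?_⟩, Finset.mem_univ _, mul_inv_cancel_left _ _⟩
          rw [← QuotientGroup.eq, QuotientGroup.out_eq', (Finset.mem_filter.1 hj).2]
      rw [← Finset.sum_filter, Int.cast_mul, Int.cast_natCast, Nat.cast_mul,
        show (ε : ℂ) * (∑ j ∈ Finset.univ.filter fun j : (ZMod p)ˣ => (j : (ZMod p)ˣ ⧸ R) = q,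
            ψc (i * (j : ZMod p))) * (charDegree (θ : CG P → ℂ) : ℂ) -
          (ε : ℂ) * ((Nat.card R : ℂ) * (charDegree (θ : CG P → ℂ) : ℂ)) =
          ((ε * charDegree (θ : CG P → ℂ) : ℤ) : ℂ) *
            ∑ j ∈ Finset.univ.filter fun j : (ZMod p)ˣ => (j : (ZMod p)ˣ ⧸ R) = q,
              (ψc (i * (j : ZMod p)) - 1) by
          rw [Finset.sum_sub_distrib, Finset.sum_const, hcard, nsmul_one]; push_cast; ring]
      refine ideal_mul_left hM (ring_intCast hM _) (ideal_sum hM fun j _ => ?_)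
      refine ideal_root_sub_one hM (k := 1) ?_
      rw [pow_one, ← AddChar.map_nsmul_eq_pow, nsmul_eq_mul, ZMod.natCast_self, zero_mul,
        AddChar.map_zero_eq_one]
    have hsum := ideal_sum hM (s := Finset.univ) fun z _ => hterm z
    rw [Finset.sum_sub_distrib, Finset.sum_const, Finset.card_univ, hK, nsmul_eq_mul] at hsum
    refine (congrArg (MemLocalIdeal M) ?_).mpr hsum
    push_cast
    ring

end Cfsg.Agent.Char.DefectOne
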