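import Cfsg.Agent.Lib.Char.PairStab
import Cfsg.Prelude.Def_BlockFusion

/-!
The fusion system of a block: fully centralized, fully normalized and centric subgroups.
-/

namespace Cfsg.Agent.Char.BP

open Cfsg.Agent.Block

set_option linter.unusedSectionVars false
set_option linter.style.haveILetI false

universe u

variable {G : Type u} [Group G] [Fintype G] {p : ℕ} {M : Ideal AlgInt}
variable {B : Set (IrrCharacter G)} {P : Subgroup G} {e : Set (IrrCharacter (CG P))}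

theorem conjHom_range (Q : Subgroup G) (g : G) :
    (conjHom Q g).range = Q.map (MulAut.conj g).toMonoidHom := by
  rw [conjHom, MonoidHom.range_comp, Subgroup.range_subtype]

theorem range_of_conj {Q : Subgroup G} {φ : Q →* G} {g : G}
    (h : ∀ u : Q, φ u = g * (u : G) * g⁻¹) : φ.range = Q.map (MulAut.conj g).toMonoidHom := by
  rw [show φ = conjHom Q g from MonoidHom.ext h, conjHom_range]

theorem map_center (g : G) (Q : Subgroup G) :
    (Q ⊓ CG Q).map (MulAut.conj g).toMonoidHom =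
      Q.map (MulAut.conj g).toMonoidHom ⊓ CG (Q.map (MulAut.conj g).toMonoidHom) := by
  ext v
  rw [mem_map_conj, Subgroup.mem_inf, Subgroup.mem_inf, mem_map_conj,
    cg_map_conj g Q (g⁻¹ * v * g), show g * (g⁻¹ * v * g) * g⁻¹ = v by group]

theorem fs_isConj_iff [Fact p.Prime] (hM : IsPModular p M) {F : FusionSystem P}
    (hF : IsBlockFusionSystemOn p M B P e F) {a : BrauerPairIdx G}
    (ha : LE p M a (⟨P, e⟩ : BrauerPairIdx G)) {R : Subgroup G} :
    F.IsConj a.1 R ↔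
      ∃ g : G, (cjI g a).1 = R ∧ LE p M (cjI g a) (⟨P, e⟩ : BrauerPairIdx G) := by
  constructor
  · rintro ⟨φ, hφ, hr⟩
    obtain ⟨-, g, hg, -, f, hf, hfg⟩ := (hF.2 a.1 φ).1 hφ
    have hfa : (⟨a.1, f⟩ : BrauerPairIdx G) = a := le_unique hM hf ha rfl
    have hfg' : LE p M (cjI g (⟨a.1, f⟩ : BrauerPairIdx G)) (⟨P, e⟩ : BrauerPairIdx G) := hfg
    rw [hfa] at hfg'
    exact ⟨g, (range_of_conj hg).symm.trans hr, hfg'⟩
  · rintro ⟨g, rfl, hg⟩
    exact ⟨conjHom a.1 g, (hF.2 a.1 _).2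
      ⟨le_subgroup ha, g, fun _ => rfl, le_subgroup hg, a.2, ha, hg⟩, conjHom_range a.1 g⟩

theorem fullyCentralized_iff [Fact p.Prime] (hM : IsPModular p M) {F : FusionSystem P}
    (hF : IsBlockFusionSystemOn p M B P e F) {a : BrauerPairIdx G}
    (ha : LE p M a (⟨P, e⟩ : BrauerPairIdx G)) :
    F.IsFullyCentralized a.1 ↔
      IsDefectGroup p M a.2 ((P ⊓ CG a.1).subgroupOf (CG a.1)) := by
  have hx : IsMx p M B (⟨P, e⟩ : BrauerPairIdx G) := hF.1
  have hap := le_isPr ha hx.1.1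
  constructor
  · intro hfc
    obtain ⟨g, hg, hD⟩ := exists_conj_fully hM hx ha
    refine isDefect_inf_of_card hM (x := ⟨P, e⟩) hx.1.1 ha ?_
    rw [← blockDefect_cjI g a,
      ← card_of_isDefect_inf hM (a := cjI g a) (x := ⟨P, e⟩) (isPr_cjI hM g hap) hD]
    exact hfc.2 _ ((fs_isConj_iff hM hF ha).2 ⟨g, rfl, hg⟩)
  · intro hD
    refine ⟨le_subgroup ha, fun R hR => ?_⟩
    obtain ⟨g, rfl, hg⟩ := (fs_isConj_iff hM hF ha).1 hR
    have h1 := card_inf_cg_le hM (x := ⟨P, e⟩) hx.1.1 hg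
    rw [blockDefect_cjI, ← card_of_isDefect_inf hM (x := ⟨P, e⟩) hap hD] at h1
    exact h1

theorem fullyNormalized_iff_nMax [Fact p.Prime] (hM : IsPModular p M) {F : FusionSystem P}
    (hF : IsBlockFusionSystemOn p M B P e F) {a : BrauerPairIdx G}
    (ha : LE p M a (⟨P, e⟩ : BrauerPairIdx G)) :
    F.IsFullyNormalized a.1 ↔ NMax p M a (⟨P, e⟩ : BrauerPairIdx G) := by
  have hx : IsMx p M B (⟨P, e⟩ : BrauerPairIdx G) := hF.1
  have hap := le_isPr ha hx.1.1
  constructor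
  · intro hfn R hR
    obtain ⟨g, hg, hle⟩ := hR.conj_le hM hx ha
    rw [← card_map_conj g R]
    exact (Subgroup.card_le_of_le hle).trans
      (hfn.2 _ ((fs_isConj_iff hM hF ha).2 ⟨g, rfl, hg⟩))
  · intro hmax
    refine ⟨le_subgroup ha, fun R hR => ?_⟩
    obtain ⟨g, rfl, hg⟩ := (fs_isConj_iff hM hF ha).1 hR
    have h1 := (big_norm hM hx.1.1 hg).conj hM (isPr_cjI hM g hap) g⁻¹
    rw [cjI_inv_cancel] at h1
    have h2 := hmax _ h1
    rw [card_map_conj] at h2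
    exact h2

theorem fullyNormalized_iff_defect [Fact p.Prime] (hM : IsPModular p M) {F : FusionSystem P}
    (hF : IsBlockFusionSystemOn p M B P e F) {a : BrauerPairIdx G}
    (ha : LE p M a (⟨P, e⟩ : BrauerPairIdx G)) {T : Subgroup G}
    (hT : ∀ y : G, y ∈ T ↔
      y ∈ Subgroup.normalizer (a.1 : Set G) ∧ StabilizesBlock (CG a.1) a.2 y) :
    F.IsFullyNormalized a.1 ↔ ∃ F' : Set (IrrCharacter T), IsPBlock M F' ∧
      (∀ t : T, blockCoeff F' t = be a (t : G)) ∧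
      IsDefectGroup p M F' ((P ⊓ Subgroup.normalizer (a.1 : Set G)).subgroupOf T) := by
  have hap := le_isPr ha hF.1.1.1
  obtain rfl := eq_stab hM hap.2 hT
  rw [fullyNormalized_iff_nMax hM hF ha]
  constructor
  · intro h
    obtain ⟨F', hF', hFc⟩ := exists_block_between hM hap (self_le_stab a) (cg_le_stab a) le_rfl
    exact ⟨F', hF', hFc, (isDefect_norm_iff hM (x := ⟨P, e⟩) hF.1.1.1 ha hF' hFc).2 h⟩
  · rintro ⟨F', hF', hFc, hD⟩
    exact (isDefect_norm_iff hM (x := ⟨P, e⟩) hF.1.1.1 ha hF' hFc).1 hD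

theorem centric_iff [Fact p.Prime] (hM : IsPModular p M) {F : FusionSystem P}
    (hF : IsBlockFusionSystemOn p M B P e F) {a : BrauerPairIdx G}
    (ha : LE p M a (⟨P, e⟩ : BrauerPairIdx G)) :
    F.IsCentric a.1 ↔ IsDefectGroup p M a.2 ((a.1 ⊓ CG a.1).subgroupOf (CG a.1)) := by
  have hx : IsMx p M B (⟨P, e⟩ : BrauerPairIdx G) := hF.1
  have hap := le_isPr ha hx.1.1
  constructor
  · intro hc
    obtain ⟨g, hg, hD⟩ := exists_conj_fully hM hx ha
    have h1 : (P ⊓ CG (cjI g a).1 : Subgroup G) ≤ (cjI g a).1 :=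
      hc.2 _ ((fs_isConj_iff hM hF ha).2 ⟨g, rfl, hg⟩)
    have heq : (P ⊓ CG (cjI g a).1 : Subgroup G) = (a.1 ⊓ CG a.1).map (MulAut.conj g).toMonoidHom := by
      rw [map_center]
      exact le_antisymm (le_inf h1 inf_le_right) (inf_le_inf_right _ (le_subgroup hg))
    have hcard : Nat.card ↥(a.1 ⊓ CG a.1) = p ^ blockDefect p a.2 := by
      rw [← card_map_conj g (a.1 ⊓ CG a.1), ← heq, ← blockDefect_cjI g a]
      exact card_of_isDefect_inf hM (a := cjI g a) (x := ⟨P, e⟩) (isPr_cjI hM g hap) hD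
    have hPa : a.1 ⊓ CG a.1 = P ⊓ CG a.1 := by
      refine Subgroup.eq_of_le_of_card_ge (inf_le_inf_right _ (le_subgroup ha)) ?_
      rw [hcard]
      exact card_inf_cg_le hM (x := ⟨P, e⟩) hx.1.1 ha
    rw [hPa]
    refine isDefect_inf_of_card hM (x := ⟨P, e⟩) hx.1.1 ha ?_
    show p ^ blockDefect p a.2 ≤ Nat.card ↥(P ⊓ CG a.1)
    rw [← hPa, hcard]
  · intro hD
    refine ⟨le_subgroup ha, fun R hR => ?_⟩
    obtain ⟨g, rfl, hg⟩ := (fs_isConj_iff hM hF ha).1 hR
    have hcard : Nat.card ↥(a.1 ⊓ CG a.1) = p ^ blockDefect p a.2 := by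
      rw [← card_defectGroup hM hap.2 hD,
        Nat.card_congr (Subgroup.subgroupOfEquivOfLe (inf_le_right : a.1 ⊓ CG a.1 ≤ CG a.1)).toEquiv]
    have h1 : ((cjI g a).1 ⊓ CG (cjI g a).1 : Subgroup G) = P ⊓ CG (cjI g a).1 := by
      refine Subgroup.eq_of_le_of_card_ge (inf_le_inf_right _ (le_subgroup hg)) ?_
      have h2 : Nat.card ↥((cjI g a).1 ⊓ CG (cjI g a).1) = p ^ blockDefect p a.2 := by
        show Nat.card ↥(a.1.map (MulAut.conj g).toMonoidHom ⊓
          CG (a.1.map (MulAut.conj g).toMonoidHom)) = _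
        rw [← map_center, card_map_conj, hcard]
      rw [h2, ← blockDefect_cjI g a]
      exact card_inf_cg_le hM (x := ⟨P, e⟩) hx.1.1 hg
    intro z hz
    have : z ∈ P ⊓ CG (cjI g a).1 := hz
    rw [← h1] at this
    exact this.1

end Cfsg.Agent.Char.BP
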