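import Cfsg.Agent.Lib.Char.StarConstruction
import Cfsg.Agent.Lib.Char.PairFusion

/-!
A linear character of the defect group trivial on the focal subgroup of the block gives weights on
the sections of the block, invariant under conjugation.
-/

open scoped ComplexConjugate commutatorElement

namespace Cfsg.Agent.Char.Star

open Cfsg.Agent.Block Cfsg.Agent.Char Cfsg.Agent.Char.BP Cfsg.Agent.Char.Spec

set_option linter.unusedSectionVars false
set_option linter.style.haveILetI false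
set_option maxHeartbeats 1000000

universe u

variable {G : Type u} [Group G] [Fintype G] {p : ℕ} [Fact p.Prime] {M : Ideal AlgInt}
variable {B : Set (IrrCharacter G)} {P : Subgroup G} {e : Set (IrrCharacter (CG P))}
  {F : FusionSystem P}

/-- The value of a linear character at the copy in the defect group of a section. -/
noncomputable def lamW (p : ℕ) (M : Ideal AlgInt) (P : Subgroup G) (e : Set (IrrCharacter (CG P)))
    (l : P →* ℂˣ) (u : G) (a : BrauerPairIdx G) : ℂ := by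
  classical
  exact if h : ∃ g : G, LE p M (cjI g a) (⟨P, e⟩ : BrauerPairIdx G) ∧ g * u * g⁻¹ ∈ P then
    (l ⟨h.choose * u * h.choose⁻¹, h.choose_spec.2⟩ : ℂ) else 0

/-- The linear character is trivial on the focal subgroup. -/
def TrivFoc (F : FusionSystem P) (l : P →* ℂˣ) : Prop :=
  ∀ x : P, (x : G) ∈ F.focalSubgroup → l x = 1

/-- Inner automorphisms of the defect group lie in the fusion system. -/
theorem commutator_le_focal (hM : IsPModular p M) (hF : IsBlockFusionSystemOn p M B P e F) :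
    (commutator P).map P.subtype ≤ F.focalSubgroup := by
  rw [Subgroup.map_le_iff_le_comap, commutator_def, Subgroup.commutator_le]
  intro x _ q _
  set φ : P →* G := ((MulAut.conj (q : G)).toMonoidHom).comp P.subtype
  have hstab := self_le_stab (⟨P, e⟩ : BrauerPairIdx G) q.2
  have hcj := cjI_eq_of_stab hstab
  have hφ : φ ∈ F.Hom P := by
    refine (hF.2 P φ).2 ⟨le_rfl, (q : G), fun v => rfl, ?_, e, Relation.ReflTransGen.refl, ?_⟩
    · rintro _ ⟨v, hv, rfl⟩
      exact mul_mem (mul_mem q.2 hv) (inv_mem q.2)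
    · show LE p M (cjI (q : G) (⟨P, e⟩ : BrauerPairIdx G)) (⟨P, e⟩ : BrauerPairIdx G)
      rw [hcj]
  show P.subtype ⁅x, q⁆ ∈ F.focalSubgroup
  refine Subgroup.subset_closure ⟨P, φ, x⁻¹, hφ, ?_⟩
  simp [φ, commutatorElement_def, mul_assoc]

theorem trivFoc_comm (hM : IsPModular p M) (hF : IsBlockFusionSystemOn p M B P e F) {l : P →* ℂˣ}
    (hl : TrivFoc F l) (x y : P) : l (x * y * x⁻¹ * y⁻¹) = 1 :=
  hl _ (commutator_le_focal hM hF ⟨⁅x, y⁆, Subgroup.commutator_mem_commutator (Subgroup.mem_top x)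
    (Subgroup.mem_top y), rfl⟩)

/-- The weight does not depend on the conjugation into the maximal pair. -/
theorem lamW_eq (hM : IsPModular p M) (hF : IsBlockFusionSystemOn p M B P e F) {l : P →* ℂˣ}
    (hl : TrivFoc F l) {u g : G} {a : BrauerPairIdx G} (ha : a.1 = Subgroup.zpowers u)
    (hg : LE p M (cjI g a) (⟨P, e⟩ : BrauerPairIdx G)) :
    ∃ hm : g * u * g⁻¹ ∈ P, lamW p M P e l u a = (l ⟨g * u * g⁻¹, hm⟩ : ℂ) := by
  classical
  have hua : u ∈ a.1 := ha ▸ Subgroup.mem_zpowers u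
  have hm : g * u * g⁻¹ ∈ P := le_subgroup hg ⟨u, hua, rfl⟩
  have hex : ∃ g' : G, LE p M (cjI g' a) (⟨P, e⟩ : BrauerPairIdx G) ∧ g' * u * g'⁻¹ ∈ P :=
    ⟨g, hg, hm⟩
  refine ⟨hm, ?_⟩
  rw [lamW, dif_pos hex]
  congr 1
  set g' := hex.choose with hg'
  obtain ⟨hle', hm'⟩ := hex.choose_spec
  set h := g' * g⁻¹ with hh
  set r := cjI g a with hr
  set φ : r.1 →* G := ((MulAut.conj h).toMonoidHom).comp r.1.subtype with hφdef
  have hcj : cjI h r = cjI g' a := by rw [hr, cjI_cjI, hh, inv_mul_cancel_right]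
  have hφ : φ ∈ F.Hom r.1 := by
    refine (hF.2 r.1 φ).2 ⟨le_subgroup hg, h, fun v => rfl, ?_, r.2, hg, ?_⟩
    · have := le_subgroup hle'
      rw [← hcj] at this
      exact this
    · show LE p M (cjI h r) (⟨P, e⟩ : BrauerPairIdx G)
      rw [hcj]
      exact hle'
  have hfoc : (g * u * g⁻¹)⁻¹ * (g' * u * g'⁻¹) ∈ F.focalSubgroup :=
    Subgroup.subset_closure ⟨r.1, φ, ⟨g * u * g⁻¹, ⟨u, hua, rfl⟩⟩, hφ, by
      show _ = (g * u * g⁻¹)⁻¹ * (h * (g * u * g⁻¹) * h⁻¹)
      rw [hh]; group⟩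
  have h1 := hl ((⟨g * u * g⁻¹, hm⟩ : P)⁻¹ * ⟨g' * u * g'⁻¹, hm'⟩) hfoc
  rw [map_mul, map_inv, inv_mul_eq_one] at h1
  exact h1.symm

theorem lamW_of_not (hM : IsPModular p M) (hF : IsBlockFusionSystemOn p M B P e F) (l : P →* ℂˣ)
    {u : G} {a : BrauerPairIdx G} (h : ¬ OfB p M B a) : lamW p M P e l u a = 0 := by
  classical
  rw [lamW, dif_neg]
  rintro ⟨g, hg, -⟩
  refine h ?_
  have h1 := ofB_cjI hM ((ofB_le hM hg).1 hF.1.1) g⁻¹
  rwa [cjI_inv_cancel] at h1

theorem wConj_lamW (hM : IsPModular p M) (hF : IsBlockFusionSystemOn p M B P e F) {l : P →* ℂˣ}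
    (hl : TrivFoc F l) : WConj p M (lamW p M P e l) := by
  intro g u a hu ha hpr
  have ha' : (cjI g a).1 = Subgroup.zpowers (g * u * g⁻¹) := by
    show a.1.map (MulAut.conj g).toMonoidHom = _
    rw [ha, MonoidHom.map_zpowers]
    rfl
  by_cases hB : OfB p M B a
  · obtain ⟨t, ht⟩ := le_conj_max hM hB (x := (⟨P, e⟩ : BrauerPairIdx G)) hF.1
    obtain ⟨hm, he⟩ := lamW_eq hM hF hl ha ht
    obtain ⟨hm', he'⟩ := lamW_eq hM hF hl (g := t * g⁻¹) ha'
      (by rw [cjI_cjI, inv_mul_cancel_right]; exact ht)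
    rw [he, he']
    congr 3
    group
  · rw [lamW_of_not hM hF l hB, lamW_of_not hM hF l fun h => hB ?_]
    have h1 := ofB_cjI hM h g⁻¹
    rwa [cjI_inv_cancel] at h1

theorem isCharacter_hom {H : Type u} [Group H] (l : H →* ℂˣ) :
    IsCharacter H (fun h => (l h : ℂ)) :=
  IsIrr.isCharacter (isIrr_linear l)

theorem wLoc_lamW (hM : IsPModular p M) (hF : IsBlockFusionSystemOn p M B P e F) {l : P →* ℂˣ}
    (hl : TrivFoc F l) : WLoc p M (lamW p M P e l) := by
  intro r hr
  by_cases hB : OfB p M B r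
  · obtain ⟨g, hg⟩ := le_conj_max hM hB (x := (⟨P, e⟩ : BrauerPairIdx G)) hF.1
    let m : r.1 →* P :=
      (((MulAut.conj g).toMonoidHom).comp r.1.subtype).codRestrict P fun v =>
        le_subgroup hg ⟨v, v.2, rfl⟩
    refine ⟨fun v => ((l.comp m) v : ℂ), IsGenChar.of_isCharacter (isCharacter_hom _),
      fun v a ha hle => ?_⟩
    obtain ⟨hm, he⟩ := lamW_eq hM hF hl ha ((le_cjI hM g hle).trans hg)
    exact he
  · exact ⟨0, IsGenChar.zero, fun v a _ hle => lamW_of_not hM hF l fun h => hB ((ofB_le hM hle).2 h)⟩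

theorem isIntegral_lamW (hP : IsPGroup p P) (l : P →* ℂˣ) (u : G) (a : BrauerPairIdx G) :
    IsIntegral ℤ (lamW p M P e l u a) := by
  classical
  rw [lamW]
  split_ifs with h
  · exact IsChar.isIntegral (isCharacter_hom l) _
  · exact isIntegral_zero

theorem lamW_conj_self (hM : IsPModular p M) (hF : IsBlockFusionSystemOn p M B P e F)
    {l : P →* ℂˣ} (hl : TrivFoc F l) {u : G} {a : BrauerPairIdx G}
    (ha : a.1 = Subgroup.zpowers u) (hB : OfB p M B a) :
    lamW p M P e l u a * conj (lamW p M P e l u a) = 1 := by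
  obtain ⟨g, hg⟩ := le_conj_max hM hB (x := (⟨P, e⟩ : BrauerPairIdx G)) hF.1
  obtain ⟨hm, he⟩ := lamW_eq hM hF hl ha hg
  rw [he, ← IsChar.apply_inv (isCharacter_hom l), map_inv, ← Units.val_mul, mul_inv_cancel,
    Units.val_one]

theorem lamW_mul (l m : P →* ℂˣ) (u : G) (a : BrauerPairIdx G) :
    lamW p M P e (l * m) u a = lamW p M P e l u a * lamW p M P e m u a := by
  classical
  simp only [lamW]
  split_ifs with h
  · simp
  · rw [mul_zero]

theorem lamW_one (hM : IsPModular p M) (hF : IsBlockFusionSystemOn p M B P e F) {u : G}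
    {a : BrauerPairIdx G} (ha : a.1 = Subgroup.zpowers u) (hB : OfB p M B a) :
    lamW p M P e 1 u a = 1 := by
  obtain ⟨g, hg⟩ := le_conj_max hM hB (x := (⟨P, e⟩ : BrauerPairIdx G)) hF.1
  obtain ⟨hm, he⟩ := lamW_eq hM hF (l := 1) (fun x _ => rfl) ha hg
  rw [he]
  simp

/-- The weight at an element of the defect group, with its pair below the maximal one. -/
theorem lamW_self (hM : IsPModular p M) (hF : IsBlockFusionSystemOn p M B P e F) {l : P →* ℂˣ}
    (hl : TrivFoc F l) (v : P) {a : BrauerPairIdx G} (ha : a.1 = Subgroup.zpowers (v : G))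
    (hle : LE p M a (⟨P, e⟩ : BrauerPairIdx G)) : lamW p M P e l (v : G) a = (l v : ℂ) := by
  obtain ⟨hm, he⟩ := lamW_eq hM hF hl (g := 1) ha (by rwa [cjI_one])
  rw [he]
  congr 2
  exact Subtype.ext (by group)

end Cfsg.Agent.Char.Star
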