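import Cfsg.Agent.Lib.Char.ExtendMain
import Cfsg.Agent.Lib.Char.Clifford
import Cfsg.Agent.Lib.Char.Quotient
import Cfsg.Agent.Lib.Grp.PSolvable
import Cfsg.Agent.Lib.Grp.Coprime
import Cfsg.Agent.Lib.Grp.Real
import Cfsg.Agent.Lib.Block.PPartDerived

/-!
Degrees prime to p in p-soluble groups: Itô's theorem and its converse.
-/

namespace Cfsg.Agent.Char.PIto

open Cfsg

universe u

variable {p : ℕ}

theorem charDeg_eq {G : Type u} {χ : G → ℂ} [Group G] {d : ℕ} (h : χ 1 = (d : ℂ)) :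
    charDegree χ = d := by
  simp [charDegree, h]

theorem charDeg_cast {G : Type u} [Group G] [Finite G] (χ : IrrCharacter G) :
    (χ : G → ℂ) 1 = (charDegree (χ : G → ℂ) : ℂ) := by
  obtain ⟨d, hd⟩ := IsChar.one_eq_nat (IsIrr.isCharacter χ.2)
  rw [charDeg_eq hd, hd]

/-- Itô: degrees divide the index of an abelian normal subgroup. -/
theorem not_dvd_of_abelian {G : Type u} [Group G] [Finite G] (A : Subgroup G) [A.Normal]
    (hab : ∀ a ∈ A, ∀ b ∈ A, a * b = b * a) (hidx : ¬ p ∣ A.index) (χ : IrrCharacter G) :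
    ¬ p ∣ charDegree (χ : G → ℂ) := by
  haveI := Fintype.ofFinite G
  haveI := Fintype.ofFinite A
  have hres : IsCharacter A (fun a : A => (χ : G → ℂ) a) := IsChar.res (IsIrr.isCharacter χ.2) A
  obtain ⟨θ, hθ⟩ := IsChar.exists_constituent' hres (by
    simpa using IsIrr.one_ne_zero χ.2)
  obtain ⟨e, he, hdvd⟩ := Ext.ratio_dvd_index' χ.2 θ.2 hθ
  rw [IsIrr.one_of_comm (fun a b => Subtype.ext (hab a a.2 b b.2)) θ.2, mul_one] at he
  rw [charDeg_eq he]
  exact fun h => hidx (h.trans hdvd)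

theorem quot_deg {G : Type u} [Group G] [Finite G] (N : Subgroup G) [N.Normal]
    (h : ∀ χ : IrrCharacter G, ¬ p ∣ charDegree (χ : G → ℂ)) (ψ : IrrCharacter (G ⧸ N)) :
    ¬ p ∣ charDegree (ψ : G ⧸ N → ℂ) := by
  have := h ⟨_, IsIrr.comp_surjective (QuotientGroup.mk' N) (QuotientGroup.mk'_surjective N) ψ.2⟩
  simpa [charDegree] using this

theorem exists_above {G : Type u} [Group G] [Fintype G] (M : Subgroup G) [Fintype M]
    {θ : M → ℂ} (hθ : IsIrrCharacter M θ) :
    ∃ χ : IrrCharacter G, classInner (fun m : M => (χ : G → ℂ) m) θ ≠ 0 := by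
  have hind : IsCharacter G (indFun M θ) := isCharacter_indFun M (IsIrr.isCharacter hθ)
  obtain ⟨χ, hχ⟩ := IsChar.exists_constituent' hind (by
    rw [indFun_one_eq]
    exact mul_ne_zero (Nat.cast_ne_zero.2 Subgroup.index_ne_zero_of_finite) (IsIrr.one_ne_zero hθ))
  refine ⟨χ, fun h0 => hχ ?_⟩
  rw [classInner_indFun M θ (IsIrr.classFun χ.2), ← classInner_conj_symm, h0, map_zero]

theorem sub_deg {G : Type u} [Group G] [Finite G] (M : Subgroup G) [M.Normal]
    (h : ∀ χ : IrrCharacter G, ¬ p ∣ charDegree (χ : G → ℂ)) (θ : IrrCharacter M) :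
    ¬ p ∣ charDegree (θ : M → ℂ) := by
  haveI := Fintype.ofFinite G
  haveI := Fintype.ofFinite M
  obtain ⟨χ, hχ⟩ := exists_above M θ.2
  obtain ⟨e, he, -⟩ := Ext.ratio_dvd_index' χ.2 θ.2 hχ
  intro hd
  apply h χ
  rw [charDeg_cast θ, ← Nat.cast_mul] at he
  rw [charDeg_eq he]
  exact hd.mul_left e

/-- Characters of a normal subgroup of prime power index are invariant. -/
theorem invariant {G : Type u} [Group G] [Finite G] [Fact p.Prime] (N : Subgroup G) [hN : N.Normal]
    (hidx : ∃ k, N.index = p ^ k) (h : ∀ χ : IrrCharacter G, ¬ p ∣ charDegree (χ : G → ℂ))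
    (θ : IrrCharacter N) (g : G) : Char.conjN N g (θ : N → ℂ) = (θ : N → ℂ) := by
  haveI := Fintype.ofFinite G
  haveI := Fintype.ofFinite N
  obtain ⟨χ, hχ⟩ := exists_above N θ.2
  obtain ⟨m, hm⟩ := IsChar.classInner_nat (IsChar.res (IsIrr.isCharacter χ.2) N) (IsIrr.isCharacter θ.2)
  have h1 := clifford_one N χ.2 θ.2 hχ
  rw [hm, charDeg_cast θ, ← Nat.cast_mul, ← Nat.cast_mul] at h1
  have hI : (inertia N (θ : N → ℂ)).index = 1 := by
    obtain ⟨k, hk⟩ := hidx
    obtain ⟨j, -, hj⟩ := (Nat.dvd_prime_pow (Fact.out : p.Prime)).1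
      (hk ▸ Subgroup.index_dvd_of_le (le_inertia N (IsIrr.classFun θ.2)))
    rcases j with _ | j
    · rw [hj, pow_zero]
    · exfalso
      apply h χ
      rw [charDeg_eq h1, hj]
      exact ((dvd_pow_self p j.succ_ne_zero).mul_left m).mul_right _
  exact (mem_inertia N).1 ((Subgroup.index_eq_one.1 hI) ▸ Subgroup.mem_top g)

theorem isConj_of_forall {N : Type u} [Group N] [Finite N] {g h : N}
    (hv : ∀ χ : IrrCharacter N, (χ : N → ℂ) g = (χ : N → ℂ) h) : IsConj g h := by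
  classical
  by_contra hne
  have h1 := sum_irr_mul_conj g h
  rw [if_neg hne, Finset.sum_congr rfl fun χ _ => by rw [hv χ], sum_irr_mul_conj,
    if_pos (IsConj.refl h)] at h1
  exact Nat.card_pos.ne' (Nat.cast_eq_zero.1 h1)

/-- A p-group fixing all classes of a normal subgroup of order prime to p centralizes it. -/
theorem centralizes {G : Type u} [Group G] [Finite G] [Fact p.Prime] (N P : Subgroup G) [hN : N.Normal]
    (hP : IsPGroup p P) (hcop : (Nat.card P).Coprime (Nat.card N))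
    (hinv : ∀ (θ : IrrCharacter N) (g : G), Char.conjN N g (θ : N → ℂ) = (θ : N → ℂ)) :
    N ≤ Subgroup.centralizer (P : Set G) := by
  have hPs : Group.IsSolvable P := by
    have := hP.isNilpotent
    infer_instance
  have hconj : ∀ (x : N) (g : G), ∃ k ∈ N, k * (x : G) * k⁻¹ = g * x * g⁻¹ := by
    intro x g
    obtain ⟨k, hk⟩ := isConj_iff.1 (isConj_of_forall (g := x)
      (h := ⟨g * x * g⁻¹, hN.conj_mem x x.2 g⟩) fun θ => (congrFun (hinv θ g) x).symm)
    exact ⟨k, k.2, congrArg Subtype.val hk⟩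
  have hcover : ∀ x : N, ∃ g : N, g * x * g⁻¹ ∈ (Subgroup.centralizer (P : Set G)).subgroupOf N := by
    intro x
    letI : MulAction G {z : G // True} :=
      { smul := fun g z => ⟨g * z.1 * g⁻¹, trivial⟩
        one_smul := fun z => Subtype.ext (show (1 : G) * z.1 * 1⁻¹ = z.1 by simp)
        mul_smul := fun g g' z => Subtype.ext
          (show g * g' * z.1 * (g * g')⁻¹ = g * (g' * z.1 * g'⁻¹) * g⁻¹ by group) }
    obtain ⟨z, ⟨k, hk, hkz⟩, hfix⟩ := Cfsg.Agent.Grp.exists_fixed_point (X := {z : G // True}) P N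
      {z | ∃ k ∈ N, k * (x : G) * k⁻¹ = z.1} (by rw [Subgroup.normalizer_eq_top]; exact le_top)
      hcop (Or.inl hPs) ⟨⟨x, trivial⟩, 1, one_mem _, by simp⟩
      (fun a _ z ⟨k, hk, hkz⟩ => by
        obtain ⟨k', hk', hk''⟩ := hconj x a
        refine ⟨a * k * a⁻¹ * k', N.mul_mem (hN.conj_mem k hk a) hk', ?_⟩
        show _ = a * z.1 * a⁻¹
        rw [← hkz]
        calc a * k * a⁻¹ * k' * (x : G) * (a * k * a⁻¹ * k')⁻¹
            = a * k * a⁻¹ * (k' * x * k'⁻¹) * (a * k * a⁻¹)⁻¹ := by group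
          _ = a * (k * x * k⁻¹) * a⁻¹ := by rw [hk'']; group)
      (fun m hm z ⟨k, hk, hkz⟩ => ⟨m * k, N.mul_mem hm hk, by
        show _ = m * z.1 * m⁻¹
        rw [← hkz]; group⟩)
      (fun z ⟨k, hk, hkz⟩ w ⟨k', hk', hkw⟩ => ⟨k' * k⁻¹, N.mul_mem hk' (N.inv_mem hk), Subtype.ext (by
        show k' * k⁻¹ * z.1 * (k' * k⁻¹)⁻¹ = w.1
        rw [← hkz, ← hkw]; group)⟩)
    refine ⟨⟨k, hk⟩, ?_⟩
    show k * (x : G) * k⁻¹ ∈ Subgroup.centralizer (P : Set G)
    rw [hkz, Subgroup.mem_centralizer_iff]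
    intro a ha
    exact mul_inv_eq_iff_eq_mul.1 (congrArg Subtype.val (hfix a ha) :)
  exact Subgroup.subgroupOf_eq_top.1 (Cfsg.Agent.Grp.eq_top_of_conj_cover _ hcover)

theorem eq_of_linear {H : Type u} [Group H] [Finite H] (hlin : ∀ θ : IrrCharacter H, (θ : H → ℂ) 1 = 1)
    {x y : H} (hxy : IsConj x y) : x = y := by
  classical
  haveI := Fintype.ofFinite H
  have h1 := sum_irr_mul_conj (1 : H) 1
  have h2 : (Nat.card (IrrCharacter H) : ℂ) = (Nat.card H : ℂ) := by
    rw [if_pos (IsConj.refl _), Finset.sum_congr rfl (fun θ _ => by rw [hlin θ, map_one, mul_one]),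
      Finset.sum_const, Finset.card_univ, nsmul_eq_mul, mul_one] at h1
    rw [Nat.card_eq_fintype_card, h1]
    have : Subgroup.centralizer ({(1 : H)} : Set H) = ⊤ := by
      ext z; simp [Subgroup.mem_centralizer_singleton_iff]
    rw [this, Subgroup.card_top]
  rw [card_irrCharacter] at h2
  have hsurj : Function.Surjective (ConjClasses.mk : H → ConjClasses H) := ConjClasses.mk_surjective
  have hbij := (Nat.bijective_iff_surjective_and_card _).2 ⟨hsurj, (Nat.cast_injective h2).symm⟩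
  exact hbij.1 (ConjClasses.mk_eq_mk_iff_isConj.2 hxy)


/-- Converse of Itô's theorem for p-soluble groups. -/
theorem ito_converse [Fact p.Prime] : ∀ (n : ℕ) (G : Type u) [Group G] [Finite G], Nat.card G = n →
    IsPSolvable p G → (∀ χ : IrrCharacter G, ¬ p ∣ charDegree (χ : G → ℂ)) →
    ∀ P : Sylow p G, (P : Subgroup G).Normal ∧ ∀ a ∈ (P : Subgroup G), ∀ b ∈ (P : Subgroup G), a * b = b * a := by
  intro n
  induction n using Nat.strong_induction_on with
  | _ n ih =>
  intro G _ _ hn hsolv h P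
  have hp : p.Prime := Fact.out
  haveI := Fintype.ofFinite G
  by_cases h1 : (⊤ : Subgroup G) = ⊥
  · have hb : (P : Subgroup G) = ⊥ := le_bot_iff.1 (h1 ▸ le_top)
    exact ⟨hb ▸ inferInstance, fun a ha b hb' => by
      rw [hb, Subgroup.mem_bot] at ha hb'; rw [ha, hb']⟩
  have red : ∀ (N : Subgroup G) [N.Normal], N ≠ ⊥ →
      ((P : Subgroup G) ⊔ N).Normal ∧ ∀ a ∈ (P : Subgroup G), ∀ b ∈ (P : Subgroup G), a * b * (b * a)⁻¹ ∈ N := by
    intro N _ hN
    obtain ⟨hn', hc⟩ := ih _ (hn ▸ Cfsg.Agent.Grp.card_quotient_lt hN) (G ⧸ N) rfl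
      (Cfsg.Agent.Grp.isPSolvable_map hsolv _ (QuotientGroup.mk'_surjective N)) (quot_deg N h)
      (P.mapSurjective (QuotientGroup.mk'_surjective N))
    rw [Sylow.coe_mapSurjective] at hn' hc
    refine ⟨?_, fun a ha b hb => ?_⟩
    · have := hn'.comap (QuotientGroup.mk' N)
      rwa [Subgroup.comap_map_eq, QuotientGroup.ker_mk'] at this
    · rw [← QuotientGroup.eq_one_iff, QuotientGroup.mk_mul, QuotientGroup.mk_inv, mul_inv_eq_one]
      exact hc _ (Subgroup.mem_map_of_mem _ ha) _ (Subgroup.mem_map_of_mem _ hb)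
  have hPn : (P : Subgroup G).Normal → ∀ a ∈ (P : Subgroup G), ∀ b ∈ (P : Subgroup G), a * b = b * a := by
    intro hn' a ha b hb
    haveI := Fintype.ofFinite (P : Subgroup G)
    have hlin : ∀ θ : IrrCharacter (P : Subgroup G), (θ.1) 1 = 1 := by
      intro θ
      obtain ⟨k, hk⟩ := IsPGroup.iff_card.1 P.isPGroup'
      have hdv : charDegree θ.1 ∣ p ^ k := hk ▸ Cfsg.Agent.Block.charDeg_dvd θ
      obtain ⟨j, -, hj⟩ := (Nat.dvd_prime_pow hp).1 hdv
      rcases j with _ | j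
      · rw [charDeg_cast, hj, pow_zero, Nat.cast_one]
      · exact absurd (hj ▸ dvd_pow_self p j.succ_ne_zero) (sub_deg _ h θ)
    have hca : IsConj (⟨b, hb⟩ : (P : Subgroup G)) ⟨a * b * a⁻¹, mul_mem (mul_mem ha hb) (inv_mem ha)⟩ :=
      isConj_iff.2 ⟨⟨a, ha⟩, rfl⟩
    have := eq_of_linear hlin hca
    have e : b = a * b * a⁻¹ := congrArg Subtype.val this
    calc a * b = a * b * a⁻¹ * a := by group
      _ = b * a := by rw [← e]
  by_cases h2 : pPrimeCore p G = ⊥
  · have hc := Cfsg.Agent.Grp.pCore_isNormal (p := p) (G := G)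
    obtain ⟨hn', -⟩ := red (pCore p G) (fun e => h1 (Cfsg.Agent.Grp.isPSolvable_eq_top_of_cores hsolv e h2))
    rw [sup_eq_left.2 (Cfsg.Agent.Grp.pCore_le_sylow P)] at hn'
    exact ⟨hn', hPn hn'⟩
  have hNn := Cfsg.Agent.Grp.pPrimeCore_isNormal (p := p) (G := G)
  set N := pPrimeCore p G with hN
  obtain ⟨hMn, hab⟩ := red N h2
  set M := (P : Subgroup G) ⊔ N with hM
  by_cases htop : M = ⊤
  · have hcopN : (Nat.card N).Coprime p := Cfsg.Agent.Grp.pPrimeCore_coprime
    obtain ⟨k, hk⟩ := IsPGroup.iff_card.1 P.isPGroup'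
    have hcop : (Nat.card (P : Subgroup G)).Coprime (Nat.card N) := by
      rw [hk]; exact hcopN.symm.pow_left k
    have hidx : ∃ j, N.index = p ^ j := by
      have hd : N.index ∣ Nat.card (P : Subgroup G) := by
        rw [← Subgroup.relIndex_top_right, ← htop, hM, sup_comm, Subgroup.relIndex_sup_left]
        exact Subgroup.relIndex_dvd_card _ _
      rw [hk] at hd
      obtain ⟨j, -, hj⟩ := (Nat.dvd_prime_pow hp).1 hd
      exact ⟨j, hj⟩
    have hcent := centralizes N (P : Subgroup G) P.isPGroup' hcop (invariant N hidx h)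
    have hn' : (P : Subgroup G).Normal := by
      rw [← Subgroup.normalizer_eq_top_iff, eq_top_iff, ← htop]
      exact sup_le Subgroup.le_normalizer (hcent.trans (Subgroup.centralizer_le_normalizer _))
    exact ⟨hn', hPn hn'⟩
  · have hlt : Nat.card M < n := hn ▸ lt_of_le_of_ne (Subgroup.card_le_card_group M)
      (fun e => htop ((Subgroup.card_eq_iff_eq_top M).1 e))
    have hPM : (P : Subgroup G) ≤ M := le_sup_left
    obtain ⟨hn', -⟩ := ih _ hlt M rfl (Cfsg.Agent.Block.PPartDerived.isPSolvable_subgroup hsolv M) (sub_deg M h)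
      (P.subtype hPM)
    haveI := hn'
    have hchar : ((P.subtype hPM : Sylow p M) : Subgroup M).Characteristic :=
      Sylow.characteristic_of_normal _ hn'
    have hn'' : (((P.subtype hPM : Sylow p M) : Subgroup M).map M.subtype).Normal := inferInstance
    rw [Sylow.coe_subtype, Subgroup.map_subgroupOf_eq_of_le hPM] at hn''
    exact ⟨hn'', hPn hn''⟩
end Cfsg.Agent.Char.PIto
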