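import Cfsg.Agent.Lib.Block.QuaternionSylow
import Mathlib.GroupTheory.SpecificGroups.Quaternion
import Mathlib.GroupTheory.Commutator.Basic
import Mathlib.GroupTheory.SpecificGroups.Cyclic

/-!
The derived subgroup of a generalized quaternion Sylow 2-subgroup of order at least 16, its
centralizer and its normalizer.
-/

set_option autoImplicit false

namespace Cfsg.Agent.Char.QD

open QuaternionGroup

theorem xa_inv {m : ℕ} [NeZero m] (i : ZMod (2 * m)) :
    (xa i : QuaternionGroup m)⁻¹ = xa ((m : ZMod (2 * m)) + i) := by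
  refine inv_eq_of_mul_eq_one_right ?_
  rw [xa_mul_xa, one_def]
  congr 1
  have h : (m : ZMod (2 * m)) + m = 0 := by
    rw [← Nat.cast_add, ← two_mul, ZMod.natCast_self]
  rw [← h]
  ring

theorem a_inv {m : ℕ} (i : ZMod (2 * m)) : (a i : QuaternionGroup m)⁻¹ = a (-i) :=
  inv_eq_of_mul_eq_one_right (by rw [a_mul_a, add_neg_cancel, one_def])

theorem commutator_eq {m : ℕ} [NeZero m] :
    ⁅(⊤ : Subgroup (QuaternionGroup m)), (⊤ : Subgroup (QuaternionGroup m))⁆ =
      Subgroup.zpowers (a 2) := by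
  have hev : ∀ t : ZMod (2 * m), (a (2 * t) : QuaternionGroup m) ∈ Subgroup.zpowers (a 2) := by
    intro t
    obtain ⟨r, rfl⟩ := ZMod.natCast_zmod_surjective t
    have : ∀ r : ℕ, (a 2 : QuaternionGroup m) ^ r = a (2 * r) := by
      intro r
      induction r with
      | zero => simp only [pow_zero, one_def]; congr 1; simp
      | succ r ih => rw [pow_succ, ih, a_mul_a]; congr 1; push_cast; ring
    exact ⟨r, by show (a 2 : QuaternionGroup m) ^ (r : ℤ) = _; rw [zpow_natCast, this]⟩
  refine le_antisymm (Subgroup.commutator_le.2 fun g _ h _ => ?_) ?_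
  · have hm : (m : ZMod (2 * m)) + m = 0 := by
      rw [← Nat.cast_add, ← two_mul, ZMod.natCast_self]
    rcases g with i | i <;> rcases h with j | j <;>
      simp only [commutatorElement_def, a_inv, xa_inv, a_mul_a, a_mul_xa, xa_mul_a, xa_mul_xa]
    · convert hev 0 using 2; ring
    · convert hev i using 2; linear_combination hm
    · convert hev (-j) using 2; linear_combination hm
    · convert hev (j - i) using 2; linear_combination hm
  · rw [Subgroup.zpowers_le]
    have h := Subgroup.commutator_mem_commutator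
      (Subgroup.mem_top (a 1 : QuaternionGroup m)) (Subgroup.mem_top (xa 0 : QuaternionGroup m))
    convert h using 1
    simp only [commutatorElement_def, a_inv, xa_inv, a_mul_a, a_mul_xa, xa_mul_a, xa_mul_xa]
    congr 1
    have hm : (m : ZMod (2 * m)) + m = 0 := by
      rw [← Nat.cast_add, ← two_mul, ZMod.natCast_self]
    linear_combination -hm

theorem orderOf_a_two {m : ℕ} [NeZero m] : orderOf (a 2 : QuaternionGroup m) = m := by
  have h : (a 2 : QuaternionGroup m) = a 1 ^ 2 := by rw [a_one_pow]; norm_num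
  rw [h, orderOf_pow' _ two_ne_zero, orderOf_a_one, Nat.gcd_eq_right (dvd_mul_right 2 m),
    Nat.mul_div_cancel_left m two_pos]

theorem mem_zpowers_a_one {m : ℕ} [NeZero m] (i : ZMod (2 * m)) :
    (a i : QuaternionGroup m) ∈ Subgroup.zpowers (a 1) := by
  obtain ⟨r, rfl⟩ := ZMod.natCast_zmod_surjective i
  exact ⟨r, by show (a 1 : QuaternionGroup m) ^ (r : ℤ) = _; rw [zpow_natCast, a_one_pow]⟩

theorem not_commute_xa {m : ℕ} [NeZero m] (hm : 3 ≤ m) (i : ZMod (2 * m)) :
    ¬ Commute (xa i : QuaternionGroup m) (a 2) := by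
  intro h
  have h1 := h.eq
  rw [xa_mul_a, a_mul_xa] at h1
  have h2 : i + 2 = i - 2 := by simpa using h1
  have h3 : ((4 : ℕ) : ZMod (2 * m)) = 0 := by push_cast; linear_combination h2
  rw [ZMod.natCast_eq_zero_iff] at h3
  have := Nat.le_of_dvd (by norm_num) h3
  omega

universe u

variable {G : Type u} [Group G] [Finite G]

/-- What is used about the derived subgroup `D` of the Sylow 2-subgroup `S`. -/
structure Data (S : Sylow 2 G) (D : Subgroup G) (m : ℕ) where
  le : D ≤ (S : Subgroup G)
  card : Nat.card D = m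
  pos : 3 ≤ m
  pow : ∃ k, m = 2 ^ k
  cyclic : IsCyclic ↥((S : Subgroup G) ⊓ Subgroup.centralizer (D : Set G))
  index : Nat.card (S : Subgroup G) =
    2 * Nat.card ↥((S : Subgroup G) ⊓ Subgroup.centralizer (D : Set G))
  abelian : IsCyclic D
  normal : (S : Subgroup G) ≤ Subgroup.normalizer (D : Set G)

theorem data (S : Sylow 2 G) (n : ℕ) (e : (S : Subgroup G) ≃* QuaternionGroup (2 ^ (n + 2)))
    (D : Subgroup G) (hD : D = ⁅(S : Subgroup G), (S : Subgroup G)⁆) :
    Data S D (2 ^ (n + 2)) := by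
  haveI : NeZero (2 ^ (n + 2)) := ⟨by positivity⟩
  have hpos : 3 ≤ 2 ^ (n + 2) := by
    have : (2 : ℕ) ^ 2 ≤ 2 ^ (n + 2) := Nat.pow_le_pow_right two_pos (by omega)
    omega
  let f : QuaternionGroup (2 ^ (n + 2)) →* G :=
    (S : Subgroup G).subtype.comp e.symm.toMonoidHom
  have hf : Function.Injective f := Subtype.val_injective.comp e.symm.injective
  have hfr : (⊤ : Subgroup (QuaternionGroup (2 ^ (n + 2)))).map f = (S : Subgroup G) := by
    rw [← MonoidHom.range_eq_map, MonoidHom.range_comp, MonoidHom.range_eq_top.2 e.symm.surjective,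
      ← MonoidHom.range_eq_map, Subgroup.range_subtype]
  have hD' : D = Subgroup.zpowers (f (a 2)) := by
    rw [hD, ← hfr, ← Subgroup.map_commutator, commutator_eq, MonoidHom.map_zpowers]
  have hmemS : ∀ q, f q ∈ (S : Subgroup G) := fun q => (e.symm q).2
  have hC : (S : Subgroup G) ⊓ Subgroup.centralizer (D : Set G) =
      Subgroup.zpowers (f (a 1)) := by
    refine le_antisymm (fun x hx => ?_) ((Subgroup.zpowers_le).2 ⟨hmemS _, ?_⟩)
    · obtain ⟨hxS, hxC⟩ := hx
      obtain ⟨q, hq⟩ : ∃ q, f q = x := ⟨e ⟨x, hxS⟩, by simp [f]⟩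
      subst hq
      rcases q with i | i
      · rw [← MonoidHom.map_zpowers]
        exact Subgroup.mem_map_of_mem f (mem_zpowers_a_one i)
      · refine absurd (hf ?_) (not_commute_xa hpos i)
        rw [map_mul, map_mul]
        exact (Subgroup.mem_centralizer_iff.1 hxC _ (by
          rw [hD']; exact Subgroup.mem_zpowers _)).symm
    · rw [hD']
      show f (a 1) ∈ Subgroup.centralizer (Subgroup.zpowers (f (a 2)) : Set G)
      rw [Subgroup.mem_centralizer_iff]
      rintro y ⟨r, rfl⟩
      have hc : Commute (f (a 2)) (f (a 1)) := by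
        show f (a 2) * f (a 1) = f (a 1) * f (a 2)
        rw [← map_mul, ← map_mul, a_mul_a, a_mul_a]
        congr 2
        ring
      exact (hc.zpow_left r).eq
  refine ⟨hD ▸ ?_, ?_, hpos, ⟨_, rfl⟩, ?_, ?_, ?_, ?_⟩
  · exact Subgroup.commutator_le_self _
  · rw [hD', Nat.card_zpowers, orderOf_injective f hf, orderOf_a_two]
  · rw [hC]; exact Subgroup.isCyclic_zpowers _
  · rw [hC, Nat.card_zpowers, orderOf_injective f hf, orderOf_a_one, Nat.card_congr e.toEquiv,
      Nat.card_eq_fintype_card, QuaternionGroup.card]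
    ring
  · rw [hD']; exact Subgroup.isCyclic_zpowers _
  · rw [hD]
    refine Subgroup.le_normalizer_iff.2 fun s hs x hx => ?_
    have h1 : (S : Subgroup G).map (MulAut.conj s).toMonoidHom ≤ (S : Subgroup G) := by
      rintro _ ⟨y, hy, rfl⟩
      exact mul_mem (mul_mem hs hy) (inv_mem hs)
    have h2 := Subgroup.mem_map_of_mem (MulAut.conj s).toMonoidHom hx
    rw [Subgroup.map_commutator] at h2
    exact Subgroup.commutator_mono h1 h1 h2

variable {S : Sylow 2 G} {D : Subgroup G} {m : ℕ}

theorem centralizer_normal (D : Subgroup G) :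
    ((Subgroup.centralizer (D : Set G)).subgroupOf
      (Subgroup.normalizer (D : Set G))).Normal := by
  rw [← Subgroup.normalizerMonoidHom_ker D]
  infer_instance

theorem subgroup_eq {H : Subgroup G} [IsCyclic H] {A B : Subgroup G} (hA : A ≤ H) (hB : B ≤ H)
    (hc : Nat.card A = Nat.card B) : A = B := by
  classical
  letI : Fintype H := Fintype.ofFinite H
  have key : ∀ A' : Subgroup G, A' ≤ H → Nat.card A' = Nat.card A →
      ∀ x : H, x ^ Nat.card A = 1 → (x : G) ∈ A' := by
    intro A' hA' hcard x hx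
    have h1 : (Finset.univ.filter fun y : H => (y : G) ∈ A') =
        Finset.univ.filter fun y : H => y ^ Nat.card A = 1 := by
      refine Finset.eq_of_subset_of_card_le (fun y hy => ?_) ?_
      · rw [Finset.mem_filter] at hy ⊢
        refine ⟨Finset.mem_univ _, Subtype.ext ?_⟩
        rw [← hcard]
        have := congrArg Subtype.val (pow_card_eq_one' (x := (⟨(y : G), hy.2⟩ : A')))
        simp only [SubmonoidClass.coe_pow, OneMemClass.coe_one] at this ⊢
        exact this
      · letI : Fintype A' := Fintype.ofFinite A'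
        refine (IsCyclic.card_pow_eq_one_le Nat.card_pos).trans (le_of_eq ?_)
        rw [← hcard, Nat.card_eq_fintype_card (α := A'), ← Fintype.card_subtype]
        exact Fintype.card_congr
          { toFun := fun y => ⟨⟨y, hA' y.2⟩, y.2⟩
            invFun := fun y => ⟨(y.1 : G), y.2⟩
            left_inv := fun _ => rfl
            right_inv := fun _ => rfl }
    have h2 : x ∈ (Finset.univ.filter fun y : H => (y : G) ∈ A') := by
      rw [h1]; simp [hx]
    exact (Finset.mem_filter.1 h2).2
  refine le_antisymm (fun x hx => ?_) fun x hx => ?_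
  · refine key B hB hc.symm ⟨x, hA hx⟩ (Subtype.ext ?_)
    have := congrArg Subtype.val (pow_card_eq_one' (x := (⟨x, hx⟩ : A)))
    simp only [SubmonoidClass.coe_pow, OneMemClass.coe_one] at this ⊢
    exact this
  · refine key A hA rfl ⟨x, hB hx⟩ (Subtype.ext ?_)
    have := congrArg Subtype.val (pow_card_eq_one' (x := (⟨x, hx⟩ : B)))
    rw [hc]
    simp only [SubmonoidClass.coe_pow, OneMemClass.coe_one] at this ⊢
    exact this

theorem Data.sylow_inter (h : Data S D m) :
    ¬ 2 ∣ (((S : Subgroup G) ⊓ Subgroup.centralizer (D : Set G)).subgroupOf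
      (Subgroup.centralizer (D : Set G))).index := by
  haveI : Fact (Nat.Prime 2) := ⟨Nat.prime_two⟩
  set N := Subgroup.normalizer (D : Set G)
  set C := Subgroup.centralizer (D : Set G)
  have hCN : C ≤ N := Subgroup.centralizer_le_normalizer _
  haveI : (C.subgroupOf N).Normal := centralizer_normal D
  set SN : Sylow 2 N := S.subtype h.normal
  set T : Subgroup N := (SN : Subgroup N)
  set U : Subgroup N := C.subgroupOf N
  have e : ((S : Subgroup G) ⊓ C).relIndex C = T.relIndex U := by
    rw [show T = (S : Subgroup G).subgroupOf N from rfl, Subgroup.relIndex_subgroupOf hCN,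
      Subgroup.inf_relIndex_right]
  intro h2
  have h2' : 2 ∣ T.relIndex U := e ▸ h2
  have e1 : T.relIndex U * U.index = U.relIndex T * T.index := by
    rw [← Subgroup.inf_relIndex_right T U, Subgroup.relIndex_mul_index inf_le_right,
      ← Subgroup.inf_relIndex_right U T, inf_comm U T, Subgroup.relIndex_mul_index inf_le_left]
  obtain ⟨c, hc⟩ : U.relIndex T ∣ U.index := Subgroup.relIndex_dvd_index_of_normal U T
  rw [hc, ← mul_assoc, mul_comm _ (U.relIndex T), mul_assoc] at e1
  have hne : U.relIndex T ≠ 0 := Subgroup.index_ne_zero_of_finite (H := U.subgroupOf T)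
  exact SN.not_dvd_index (Nat.eq_of_mul_eq_mul_left (Nat.pos_of_ne_zero hne) e1 ▸ h2'.mul_right c)

theorem Data.exists_complement (h : Data S D m) :
    ∃ K : Subgroup G, Odd (Nat.card K) ∧ K ≤ Subgroup.centralizer (D : Set G) ∧
      Subgroup.normalizer (D : Set G) ≤ Subgroup.normalizer (K : Set G) ∧
      K ⊔ (S : Subgroup G) = Subgroup.normalizer (D : Set G) ∧
      K ⊔ ((S : Subgroup G) ⊓ Subgroup.centralizer (D : Set G)) =
        Subgroup.centralizer (D : Set G) ∧
      ((Subgroup.centralizer (D : Set G)).subgroupOf (Subgroup.normalizer (D : Set G))).index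
        = 2 := by
  classical
  haveI : Fact (Nat.Prime 2) := ⟨Nat.prime_two⟩
  set C := Subgroup.centralizer (D : Set G) with hC
  set N := Subgroup.normalizer (D : Set G) with hN
  set SC := (S : Subgroup G) ⊓ C with hSC
  haveI := h.abelian
  have hCN : C ≤ N := Subgroup.centralizer_le_normalizer _
  haveI hCn : (C.subgroupOf N).Normal := centralizer_normal D
  -- the automizer is a 2-group
  have hAut : ∃ k, (C.subgroupOf N).index = 2 ^ k := by
    obtain ⟨k, hk⟩ := h.pow
    have hk0 : 0 < k := by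
      rcases Nat.eq_zero_or_pos k with h0 | h0
      · rw [h0, pow_zero] at hk
        have := h.pos
        omega
      · exact h0
    have hker : (Subgroup.normalizerMonoidHom D).ker = C.subgroupOf N :=
      Subgroup.normalizerMonoidHom_ker D
    have h1 : (C.subgroupOf N).index ∣ Nat.card (MulAut D) := by
      rw [← hker, Subgroup.index_ker]
      exact Subgroup.card_subgroup_dvd_card _
    have h2 : Nat.card (MulAut D) = 2 ^ (k - 1) := by
      rw [IsCyclic.card_mulAut, h.card, hk, Nat.totient_prime_pow Nat.prime_two hk0]; simp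
    rw [h2] at h1
    obtain ⟨i, -, hi⟩ := (Nat.dvd_prime_pow Nat.prime_two).1 h1
    exact ⟨i, hi⟩
  have hSN : (S : Subgroup G) ≤ N := h.normal
  -- `S ∩ C` is a Sylow 2-subgroup of `C`
  set SN : Sylow 2 N := S.subtype hSN
  have hSCp : IsPGroup 2 (SC.subgroupOf C) :=
    (S.isPGroup'.to_le inf_le_left).of_equiv
      (Subgroup.subgroupOfEquivOfLe (inf_le_right : SC ≤ C)).symm
  have hSCi : ¬ 2 ∣ (SC.subgroupOf C).index := h.sylow_inter
  set Q : Sylow 2 C := hSCp.toSylow hSCi
  have hQc : IsCyclic (Q : Subgroup C) :=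
    (MulEquiv.isCyclic (Subgroup.subgroupOfEquivOfLe (inf_le_right : SC ≤ C))).2 h.cyclic
  obtain ⟨K₀, hK₀n, hK₀o, hK₀i⟩ := Cfsg.Agent.Block.cyclic_two_complement Q hQc
  set K := K₀.map C.subtype with hK
  have hKC : K ≤ C := Subgroup.map_subtype_le _
  have hKo : Odd (Nat.card K) := by
    rw [hK, Subgroup.card_map_of_injective C.subtype_injective, Nat.odd_iff]
    exact Nat.two_dvd_ne_zero.1 hK₀o
  have hKmem : ∀ x : C, (x ∈ K₀ ↔ Odd (orderOf x)) := fun x => by
    refine ⟨fun hx => ?_, fun hx => ?_⟩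
    · refine Odd.of_dvd_nat (Nat.odd_iff.2 (Nat.two_dvd_ne_zero.1 hK₀o)) ?_
      exact Subgroup.orderOf_dvd_natCard K₀ hx
    · rw [← QuotientGroup.eq_one_iff, ← orderOf_eq_one_iff]
      refine Nat.eq_one_of_dvd_coprimes ?_ (orderOf_map_dvd (QuotientGroup.mk' K₀) x)
        (orderOf_dvd_natCard (QuotientGroup.mk' K₀ x))
      rw [← Subgroup.index_eq_card, hK₀i]
      obtain ⟨i, hi⟩ := IsPGroup.iff_card.1 Q.isPGroup'
      rw [hi]
      exact Nat.Coprime.pow_right _ hx.coprime_two_right
  have hNK : N ≤ Subgroup.normalizer (K : Set G) := by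
    refine Subgroup.le_normalizer_iff.2 fun g hg x hx => ?_
    obtain ⟨x, hx, rfl⟩ := hx
    have hxC : g * (x : G) * g⁻¹ ∈ C := hCn.conj_mem ⟨x, hCN x.2⟩ x.2 ⟨g, hg⟩
    refine ⟨⟨_, hxC⟩, (hKmem _).2 ?_, rfl⟩
    have h1 := (hKmem x).1 hx
    rw [← Subgroup.orderOf_coe] at h1 ⊢
    simpa [MulEquiv.orderOf_eq, ← MulAut.conj_apply] using h1
  have hKsup : K ⊔ SC = C := by
    refine le_antisymm (sup_le hKC inf_le_right) ?_
    have h1 : K₀ ⊔ (Q : Subgroup C) = ⊤ := by
      have hd : Disjoint K₀ (Q : Subgroup C) := by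
        rw [disjoint_iff, ← Subgroup.card_eq_one]
        obtain ⟨i, hi⟩ := IsPGroup.iff_card.1 Q.isPGroup'
        refine Nat.eq_one_of_dvd_coprimes ?_ (Subgroup.card_dvd_of_le inf_le_left)
          (Subgroup.card_dvd_of_le inf_le_right)
        rw [hi]
        exact Nat.Coprime.pow_right _
          (Nat.odd_iff.2 (Nat.two_dvd_ne_zero.1 hK₀o)).coprime_two_right
      have hcomp : Subgroup.IsComplement' K₀ (Q : Subgroup C) := by
        refine Subgroup.isComplement'_of_card_mul_and_disjoint ?_ hd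
        rw [← hK₀i, K₀.card_mul_index]
      exact hcomp.sup_eq_top
    have h2 := congrArg (Subgroup.map C.subtype) h1
    rw [Subgroup.map_sup, ← MonoidHom.range_eq_map, Subgroup.range_subtype,
      show (Q : Subgroup C).map C.subtype = SC from Subgroup.map_subgroupOf_eq_of_le inf_le_right]
      at h2
    exact h2.ge
  have hSup : K ⊔ (S : Subgroup G) = N := by
    refine le_antisymm (sup_le (hKC.trans hCN) hSN) ?_
    have h1 : C.subgroupOf N ⊔ (SN : Subgroup N) = ⊤ := by
      rw [← Subgroup.index_eq_one]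
      obtain ⟨k, hk⟩ := hAut
      have a1 := (hk ▸ Subgroup.index_dvd_of_le (le_sup_left (b := (SN : Subgroup N))) :
        (C.subgroupOf N ⊔ (SN : Subgroup N)).index ∣ 2 ^ k)
      have a2 := Subgroup.index_dvd_of_le (le_sup_right (a := C.subgroupOf N)
        (b := (SN : Subgroup N)))
      obtain ⟨i, -, hi⟩ := (Nat.dvd_prime_pow Nat.prime_two).1 a1
      rcases Nat.eq_zero_or_pos i with h0 | h0
      · rw [hi, h0, pow_zero]
      · exact absurd ((dvd_pow_self 2 h0.ne').trans (hi ▸ a2)) SN.not_dvd_index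
    have h2 := congrArg (Subgroup.map N.subtype) h1
    rw [Subgroup.map_sup, ← MonoidHom.range_eq_map, Subgroup.range_subtype,
      Subgroup.map_subgroupOf_eq_of_le hCN] at h2
    rw [← h2]
    refine sup_le (hKsup ▸ sup_le le_sup_left (inf_le_left.trans le_sup_right)) ?_
    rw [show (SN : Subgroup N).map N.subtype = (S : Subgroup G) from
      Subgroup.map_subgroupOf_eq_of_le hSN]
    exact le_sup_right
  refine ⟨K, hKo, hKC, hNK, hSup, hKsup, ?_⟩
  -- the index
  have hKn : (K.subgroupOf N).Normal :=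
    Subgroup.normal_subgroupOf_iff_le_normalizer (hKC.trans hCN) |>.2 hNK
  have hN' : Nat.card N = Nat.card K * Nat.card (S : Subgroup G) := by
    have hd : Disjoint (K.subgroupOf N) (SN : Subgroup N) := by
      rw [disjoint_iff, ← Subgroup.card_eq_one]
      obtain ⟨i, hi⟩ := IsPGroup.iff_card.1 SN.isPGroup'
      refine Nat.eq_one_of_dvd_coprimes ?_ (Subgroup.card_dvd_of_le inf_le_left)
        (Subgroup.card_dvd_of_le inf_le_right)
      rw [hi, Nat.card_congr (Subgroup.subgroupOfEquivOfLe (hKC.trans hCN)).toEquiv]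
      exact Nat.Coprime.pow_right _ hKo.coprime_two_right
    have ht : K.subgroupOf N ⊔ (SN : Subgroup N) = ⊤ := by
      rw [show (SN : Subgroup N) = (S : Subgroup G).subgroupOf N from rfl,
        ← Subgroup.subgroupOf_sup (hKC.trans hCN) hSN, hSup, Subgroup.subgroupOf_self]
    have hc := Subgroup.isComplement'_of_disjoint_and_mul_eq_univ hd (by
      rw [← Subgroup.normal_mul, ht]; rfl)
    rw [← hc.card_mul, Nat.card_congr (Subgroup.subgroupOfEquivOfLe (hKC.trans hCN)).toEquiv,
      show (SN : Subgroup N) = (S : Subgroup G).subgroupOf N from rfl,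
      Nat.card_congr (Subgroup.subgroupOfEquivOfLe hSN).toEquiv]
  have hC' : Nat.card C = Nat.card K * Nat.card SC := by
    rw [← K₀.card_mul_index, hK₀i, hK, Subgroup.card_map_of_injective C.subtype_injective,
      show Nat.card (Q : Subgroup C) = Nat.card SC from
        Nat.card_congr (Subgroup.subgroupOfEquivOfLe (inf_le_right : SC ≤ C)).toEquiv]
  have h3 := (C.subgroupOf N).card_mul_index
  rw [Nat.card_congr (Subgroup.subgroupOfEquivOfLe hCN).toEquiv, hN', hC', h.index, ← hSC] at h3
  have hpos : 0 < Nat.card K * Nat.card SC := Nat.mul_pos Nat.card_pos Nat.card_pos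
  refine Nat.eq_of_mul_eq_mul_left hpos ?_
  rw [h3]
  ring

/-- Elements of order divisible by the order of `D` in its centralizer. -/
theorem Data.le_zpowers (h : Data S D m) (y : G) (hy : y ∈ Subgroup.centralizer (D : Set G))
    (hdvd : Nat.card D ∣ orderOf y) : D ≤ Subgroup.zpowers y := by
  classical
  haveI : Fact (Nat.Prime 2) := ⟨Nat.prime_two⟩
  obtain ⟨K, hKo, hKC, hNK, -, hC, -⟩ := h.exists_complement
  haveI := h.cyclic
  set C := Subgroup.centralizer (D : Set G) with hCdef
  set SC := (S : Subgroup G) ⊓ C with hSC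
  set z := y ^ (orderOf y / m) with hz
  rw [h.card] at hdvd
  have hzo : orderOf z = m := orderOf_pow_orderOf_div (orderOf_pos y).ne' hdvd
  have hzC : z ∈ C := pow_mem hy _
  have hzp : IsPGroup 2 (Subgroup.zpowers z) := by
    obtain ⟨k, hk⟩ := h.pow
    exact IsPGroup.of_card (n := k) (by rw [Nat.card_zpowers, hzo, hk])
  -- conjugate `z` into `S ∩ C`
  have hSCi : ¬ 2 ∣ (SC.subgroupOf C).index := h.sylow_inter
  set Q : Sylow 2 C := ((S.isPGroup'.to_le inf_le_left).of_equiv
    (Subgroup.subgroupOfEquivOfLe (inf_le_right : SC ≤ C)).symm).toSylow hSCi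
  have hzle : Subgroup.zpowers z ≤ C := (Subgroup.zpowers_le).2 hzC
  obtain ⟨P, hP⟩ := (hzp.of_equiv (Subgroup.subgroupOfEquivOfLe hzle).symm).exists_le_sylow
  obtain ⟨c, hc⟩ := MulAction.exists_smul_eq C P Q
  have hDcyc : IsCyclic SC := inferInstance
  set w := (c : G) * z * (c : G)⁻¹ with hw
  have hwSC : w ∈ SC := by
    have h1 : c * ⟨z, hzC⟩ * c⁻¹ ∈ (Q : Subgroup C) := by
      rw [← hc, Sylow.coe_subgroup_smul, Subgroup.mem_pointwise_smul_iff_inv_smul_mem]
      have : (MulAut.conj c)⁻¹ • (c * ⟨z, hzC⟩ * c⁻¹ : C) = ⟨z, hzC⟩ := by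
        simp [MulAut.smul_def]; group
      rw [this]
      exact hP (Subgroup.mem_zpowers z)
    exact h1
  have hDle : D ≤ SC := le_inf h.le (by
    haveI := h.abelian
    exact Subgroup.le_centralizer D)
  have heq : Subgroup.zpowers w = D := by
    refine subgroup_eq (H := SC) ((Subgroup.zpowers_le).2 hwSC) hDle ?_
    rw [h.card, Nat.card_zpowers, hw, ← MulAut.conj_apply, MulEquiv.orderOf_eq, hzo]
  intro d hd
  have hd' : (c : G) * d * (c : G)⁻¹ = d := by
    rw [← Subgroup.mem_centralizer_iff.1 c.2 d hd]; group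
  rw [← heq] at hd
  obtain ⟨r, hr⟩ := hd
  simp only at hr
  rw [hw, conj_zpow, ← hd'] at hr
  have hdz : z ^ r = d := mul_left_cancel (mul_right_cancel hr)
  rw [← hdz, hz]
  exact Subgroup.zpow_mem _ (Subgroup.pow_mem _ (Subgroup.mem_zpowers y) _) r

theorem Data.fusion (h : Data S D m) (g y : G) (hy : y ∈ Subgroup.centralizer (D : Set G))
    (hdvd : Nat.card D ∣ orderOf y) (hg : g * y * g⁻¹ ∈ Subgroup.centralizer (D : Set G)) :
    g ∈ Subgroup.normalizer (D : Set G) := by
  classical
  set y' := g * y * g⁻¹ with hy'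
  have ho : orderOf y' = orderOf y := by rw [hy', ← MulAut.conj_apply, MulEquiv.orderOf_eq]
  have h1 := h.le_zpowers y hy hdvd
  have h2 := h.le_zpowers y' hg (ho.symm ▸ hdvd)
  set Dg := D.map (MulAut.conj g).toMonoidHom with hDg
  have h3 : Dg ≤ Subgroup.zpowers y' := by
    refine (Subgroup.map_mono h1).trans ?_
    rw [MonoidHom.map_zpowers]
    exact le_of_eq rfl
  have h5 : Dg = D := subgroup_eq (H := Subgroup.zpowers y') h3 h2
    (by rw [hDg, Subgroup.card_map_of_injective (MulAut.conj g).injective])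
  rw [Subgroup.mem_normalizer_iff]
  intro x
  refine ⟨fun hx => h5 ▸ ⟨x, hx, rfl⟩, fun hx => ?_⟩
  rw [← h5] at hx
  obtain ⟨x', hx', he⟩ := hx
  rwa [← (MulAut.conj g).injective he]

omit [Finite G] in
theorem normalizer_conj {g y : G} (hg : g ∈ Subgroup.normalizer (D : Set G))
    (hy : y ∈ Subgroup.centralizer (D : Set G)) (hdvd : Nat.card D ∣ orderOf y) :
    g * y * g⁻¹ ∈ Subgroup.centralizer (D : Set G) ∧ Nat.card D ∣ orderOf (g * y * g⁻¹) := by
  refine ⟨Subgroup.mem_centralizer_iff.2 fun d hd => ?_, ?_⟩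
  · have hd' : g⁻¹ * d * g ∈ D := by
      have := (Subgroup.mem_normalizer_iff.1 (inv_mem hg) d).1 hd
      simpa using this
    have h := Subgroup.mem_centralizer_iff.1 hy _ hd'
    calc d * (g * y * g⁻¹) = g * ((g⁻¹ * d * g) * y) * g⁻¹ := by group
      _ = g * (y * (g⁻¹ * d * g)) * g⁻¹ := by rw [h]
      _ = g * y * g⁻¹ * d := by group
  · rw [← MulAut.conj_apply, MulEquiv.orderOf_eq]
    exact hdvd

end Cfsg.Agent.Char.QD
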