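import Cfsg.Agent.Lib.Char.DecompClasses

/-!
Brauer characters read off the classes of primitive idempotents: they are generalized characters
after projection on the regular part, dual to the classes, and the classes of a block are as many as
its regular rank.
-/

open scoped ComplexConjugate

namespace Cfsg.Agent.Char.Decomp

open Cfsg Cfsg.Agent.Block Cfsg.Agent.Char.Spec Cfsg.Agent.Char.BP Cfsg.Agent.Char.Res

set_option linter.unusedSectionVars false
set_option linter.style.haveILetI false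
set_option maxHeartbeats 800000

universe u

variable {G : Type u} [Group G] [Fintype G] [DecidableEq G] {p : ℕ} {M : Ideal AlgInt}

theorem ev_sum_fun {ι : Type*} (s : Finset ι) (f : ι → G → ℂ) (r : ι → ℂ)
    (a : MonoidAlgebra ℂ G) :
    ev (∑ c ∈ s, r c • f c) a = ∑ c ∈ s, r c * ev (f c) a := by
  simp only [ev, Finset.sum_apply, Pi.smul_apply, smul_eq_mul, Finset.mul_sum]
  rw [Finset.sum_comm]
  exact Finset.sum_congr rfl fun c _ => Finset.sum_congr rfl fun g _ => by ring

/-- The count of an idempotent in each class. -/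
theorem Classes.exists_cnt [Fact p.Prime] (hM : IsPModular p M) (C : Classes M G)
    {a : MonoidAlgebra ℂ G} (ha : AlgRing M a) (haa : a * a = a) :
    ∃ cnt : Fin C.n → ℕ, ∀ f : G → ℂ, IsClassFunction G f →
      ev f a = ∑ c, (cnt c : ℂ) * ev f (C.i c) := by
  classical
  obtain ⟨k, f, hf, hsum⟩ := exists_decomp (p := p) hM _ a le_rfl ha haa
  choose w hw using fun t => C.cover _ (hf t)
  refine ⟨fun c => (Finset.univ.filter fun t => w t = c).card, fun g hg => ?_⟩
  rw [← hsum, ev_sum, Finset.sum_congr rfl fun t _ => Eqv.ev_eq hM (hf t) (C.pr _) (hw t) hg,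
    ← Finset.sum_fiberwise Finset.univ w]
  refine Finset.sum_congr rfl fun c _ => ?_
  rw [Finset.sum_congr rfl (g := fun _ => ev g (C.i c)) fun t ht => by
    rw [(Finset.mem_filter.1 ht).2], Finset.sum_const, nsmul_eq_mul]

/-- The columns of the decomposition matrix are independent. -/
theorem Classes.indep [Fact p.Prime] (hM : IsPModular p M) (C : Classes M G) {z : Fin C.n → ℂ}
    (h : ∀ χ : IrrCharacter G, ∑ c, z c * ev (χ : G → ℂ) (C.i c) = 0) : z = 0 := by
  classical
  letI := resInst hM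
  choose τ hcl hsec hne hz using fun d => exists_functional hM (C.pr d)
  choose co hco using fun d => CycMod.exists_red_comb hM (τ d) (hcl d) (hsec d)
  choose L hLr hL using fun d χ =>
    red_surjective hM (co d χ * (∑ g, red hM ((C.i d).coeff g) * τ d g)⁻¹)
  let A : Matrix (Fin C.n) (Fin C.n) ℂ := fun d c => ∑ χ, L d χ * ev (χ : G → ℂ) (C.i c)
  have hevr : ∀ (χ : IrrCharacter G) c, MemLocalRing M (ev (χ : G → ℂ) (C.i c)) := fun χ c => by
    obtain ⟨m, hm⟩ := Spec.ev_idem_nat (irr_isChar χ) (C.pr c).idem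
    rw [hm]
    exact ring_natCast hM m
  have hAr : ∀ d c, MemLocalRing M (A d c) := fun d c =>
    ring_sum hM fun χ _ => ring_mul hM (hLr d χ) (hevr χ c)
  have hA : redMat hM A = 1 := by
    ext d c
    show red hM (A d c) = _
    simp only [A]
    rw [CycMod.red_sum_mul hM _ _ _ (hLr d) (fun χ => hevr χ c)]
    have h1 : ∀ χ : IrrCharacter G, red hM (ev (χ : G → ℂ) (C.i c)) =
        ∑ g, red hM ((C.i c).coeff g) * red hM ((χ : G → ℂ) g) := fun χ =>
      CycMod.red_sum_mul hM _ _ _ (C.pr c).ring (fun g => irr_ring hM χ g)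
    have h2 : ∑ χ : IrrCharacter G, red hM (L d χ) * red hM (ev (χ : G → ℂ) (C.i c)) =
        (∑ g, red hM ((C.i d).coeff g) * τ d g)⁻¹ * ∑ g, red hM ((C.i c).coeff g) * τ d g := by
      simp only [hco, hL, h1, Finset.mul_sum]
      rw [Finset.sum_comm]
      exact Finset.sum_congr rfl fun g _ => Finset.sum_congr rfl fun χ _ => by ring
    rw [h2, Matrix.one_apply]
    by_cases hdc : d = c
    · rw [if_pos hdc, ← hdc, inv_mul_cancel₀ (hne d)]
    · rw [if_neg hdc, hz d _ (C.pr c) (C.ne d c hdc), mul_zero]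
  refine Matrix.eq_zero_of_mulVec_eq_zero (det_ne_zero_of_red_eq_one hM hAr hA) (funext fun d => ?_)
  simp only [Matrix.mulVec, dotProduct, A, Finset.sum_mul, Pi.zero_apply]
  rw [Finset.sum_comm]
  refine Finset.sum_eq_zero fun χ _ => ?_
  rw [← mul_zero (L d χ), ← h χ, Finset.mul_sum]
  exact Finset.sum_congr rfl fun c _ => by ring

theorem ev_algOf {K : Type*} [Group K] [Fintype K] (ψ : K →* G) (a : K → ℂ) (f : G → ℂ) :
    ev f (algOf ψ a) = ∑ x : K, a x * f (ψ x) := by
  rw [algOf, ev_sum]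
  exact Finset.sum_congr rfl fun x _ => Spec.ev_single f _ _

/-- The idempotent of a linear character pushed along a map with regular image. -/
theorem linear_idem [Fact p.Prime] (hM : IsPModular p M) {K : Type u} [Group K] [Fintype K]
    (ψ : K →* G) (hreg : ∀ x, ¬ p ∣ orderOf (ψ x)) (l : K →* ℂˣ) :
    ∃ e : MonoidAlgebra ℂ G, AlgRing M e ∧ e * e = e ∧
      ∀ f : G → ℂ, ev f e = (Nat.card K : ℂ)⁻¹ * ∑ x : K, f (ψ x) * conj ((l x : ℂˣ) : ℂ) := by
  classical
  have hK : (Nat.card K : ℂ) ≠ 0 := Nat.cast_ne_zero.2 Nat.card_pos.ne'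
  have hroot : ∀ x, ((l x : ℂˣ) : ℂ) ^ Nat.card K = 1 := fun x => by
    rw [← Units.val_pow_eq_pow_val, ← map_pow, pow_card_eq_one', map_one, Units.val_one]
  have hconj : ∀ x, conj ((l x : ℂˣ) : ℂ) = ((l x⁻¹ : ℂˣ) : ℂ) := fun x => by
    rw [map_inv, Units.val_inv_eq_inv_val, Complex.inv_eq_conj]
    exact Complex.norm_eq_one_of_pow_eq_one (hroot x) Nat.card_pos.ne'
  set a : K → ℂ := fun x => (Nat.card K : ℂ)⁻¹ * ((l x⁻¹ : ℂˣ) : ℂ) with ha
  refine ⟨algOf ψ a, fun v => ?_, ?_, fun f => ?_⟩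
  · have hco : (algOf ψ a).coeff v = ∑ x ∈ Finset.univ.filter (fun x => ψ x = v), a x := by
      simp [algOf, MonoidAlgebra.coeff_sum, Finsupp.single_apply, Finset.sum_filter]
    rw [hco]
    by_cases hv : ∃ x₀, ψ x₀ = v
    · obtain ⟨x₀, hx₀⟩ := hv
      have hfib : ∑ x ∈ Finset.univ.filter (fun x => ψ x = v), a x =
          (Nat.card K : ℂ)⁻¹ * ((l x₀⁻¹ : ℂˣ) : ℂ) * ∑ u : ψ.ker, ((l (u : K)⁻¹ : ℂˣ) : ℂ) := by
        rw [Finset.mul_sum]
        refine Finset.sum_nbij' (fun x => if h : ψ x = v then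
            (⟨x * x₀⁻¹, by rw [MonoidHom.mem_ker, map_mul, map_inv, h, hx₀, mul_inv_cancel]⟩ : ψ.ker)
            else 1) (fun u => (u : K) * x₀) (fun x _ => Finset.mem_univ _) (fun u _ => ?_)
          (fun x hx => ?_) (fun u _ => ?_) (fun x hx => ?_)
        · rw [Finset.mem_filter]
          exact ⟨Finset.mem_univ _, by rw [map_mul, MonoidHom.mem_ker.1 u.2, one_mul, hx₀]⟩
        · simp only [dif_pos (Finset.mem_filter.1 hx).2, inv_mul_cancel_right]
        · simp [map_mul, MonoidHom.mem_ker.1 u.2, hx₀]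
        · simp only [dif_pos (Finset.mem_filter.1 hx).2, ha, mul_inv_rev, inv_inv, map_mul,
            Units.val_mul]
          rw [map_inv l x₀, ← mul_assoc, mul_assoc ((Nat.card K : ℂ)⁻¹), Units.inv_mul, mul_one]
      rw [hfib]
      by_cases htriv : ∀ u : ψ.ker, l (u : K) = 1
      · simp only [map_inv, htriv, inv_one, Units.val_one, Finset.sum_const, Finset.card_univ,
          nsmul_eq_mul, mul_one]
        have hcard := Subgroup.card_mul_index ψ.ker
        rw [Subgroup.index_ker, Nat.card_eq_fintype_card (α := ψ.ker)] at hcard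
        have hr : ¬ p ∣ Nat.card ψ.range := fun hd => by
          obtain ⟨y, hy⟩ := exists_prime_orderOf_dvd_card' p hd
          obtain ⟨x, hx⟩ := y.2
          refine hreg x ?_
          rw [hx, Subgroup.orderOf_coe, hy]
        rw [← hcard]
        push_cast
        rw [show ((Fintype.card ψ.ker : ℂ) * (Nat.card ψ.range : ℂ))⁻¹ *
            ((l x₀ : ℂˣ) : ℂ)⁻¹ * (Fintype.card ψ.ker : ℂ) =
            (Nat.card ψ.range : ℂ)⁻¹ * ((l x₀ : ℂˣ) : ℂ)⁻¹ by
          have h1 : (Fintype.card ψ.ker : ℂ) ≠ 0 := Nat.cast_ne_zero.2 Fintype.card_ne_zero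
          field_simp]
        rw [← Units.val_inv_eq_inv_val]
        refine ring_mul hM (ring_inv_natCast hM hr) (ring_of_integral hM ?_)
        rw [← map_inv]
        exact isIntegral_of_pow_eq_one Nat.card_pos (hroot _)
      · push Not at htriv
        obtain ⟨u₀, hu₀⟩ := htriv
        have h0 : ∑ u : ψ.ker, ((l (u : K)⁻¹ : ℂˣ) : ℂ) = 0 := by
          set S := ∑ u : ψ.ker, ((l (u : K)⁻¹ : ℂˣ) : ℂ) with hS
          have h1 : ((l (u₀ : K)⁻¹ : ℂˣ) : ℂ) * S = S := by
            rw [hS, Finset.mul_sum]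
            refine Fintype.sum_equiv (Equiv.mulRight u₀) _ _ fun u => ?_
            simp [mul_comm]
          have h2 : (((l (u₀ : K)⁻¹ : ℂˣ) : ℂ) - 1) * S = 0 := by rw [sub_mul, one_mul, h1, sub_self]
          refine (mul_eq_zero.1 h2).resolve_left fun h3 => hu₀ ?_
          rw [sub_eq_zero, Units.val_eq_one, map_inv, inv_eq_one] at h3
          exact h3
        rw [h0, mul_zero]
        exact ring_zero hM
    · rw [Finset.sum_eq_zero fun x hx => absurd ⟨x, (Finset.mem_filter.1 hx).2⟩ hv]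
      exact ring_zero hM
  · rw [← algOf_convFun]
    congr 1
    funext g
    simp only [convFun, ha]
    rw [Finset.sum_congr rfl (g := fun _ : K =>
      (Nat.card K : ℂ)⁻¹ * ((Nat.card K : ℂ)⁻¹ * ((l g⁻¹ : ℂˣ) : ℂ))) fun h _ => by
      simp only [map_inv, map_mul, mul_inv_rev, inv_inv, Units.val_mul]
      have h1 : (((l h)⁻¹ : ℂˣ) : ℂ) * ((l h : ℂˣ) : ℂ) = 1 := Units.inv_mul _
      linear_combination ((Nat.card K : ℂ)⁻¹ * (Nat.card K : ℂ)⁻¹ * (((l g)⁻¹ : ℂˣ) : ℂ)) * h1,
      Finset.sum_const, Finset.card_univ, nsmul_eq_mul, ← Nat.card_eq_fintype_card, ← mul_assoc,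
      mul_inv_cancel₀ hK, one_mul]
  · rw [ev_algOf, Finset.mul_sum]
    exact Finset.sum_congr rfl fun x _ => by rw [hconj, ha]; ring

theorem exists_phi_at [Fact p.Prime] (hM : IsPModular p M) (C : Classes M G) {v : G}
    (hv : ¬ p ∣ orderOf v) :
    ∃ φ : Fin C.n → ℂ, ∀ χ : IrrCharacter G,
      (χ : G → ℂ) v = ∑ c, φ c * ev (χ : G → ℂ) (C.i c) := by
  classical
  set m := orderOf v with hm
  have hm0 : 0 < m := orderOf_pos v
  have hζ := Complex.isPrimitiveRoot_exp m hm0.ne'
  set ζ := Complex.exp (2 * Real.pi * Complex.I / m) with hζdef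
  have hmc : (m : ℂ) ≠ 0 := Nat.cast_ne_zero.2 hm0.ne'
  let y : ℕ → MonoidAlgebra ℂ G := fun k => MonoidAlgebra.single v (ζ ^ k)
  let e : ℕ → MonoidAlgebra ℂ G := fun k => (m : ℂ)⁻¹ • ∑ l ∈ Finset.range m, y k ^ l
  have hy : ∀ k, y k ^ m = 1 := fun k => by
    simp only [y, MonoidAlgebra.single_pow, hm, pow_orderOf_eq_one]
    rw [← hm, ← pow_mul, mul_comm, pow_mul, hζ.pow_eq_one, one_pow, MonoidAlgebra.one_def]
  have hye : ∀ k, y k * e k = e k := fun k => by
    simp only [e, mul_smul_comm, Finset.mul_sum, ← pow_succ']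
    congr 1
    obtain ⟨q, hq⟩ : ∃ q, m = q + 1 := ⟨m - 1, by omega⟩
    rw [hq, Finset.sum_range_succ (fun l => y k ^ (l + 1)), ← hq, hy,
      hq, Finset.sum_range_succ' (fun l => y k ^ l), pow_zero]
  have hee : ∀ k, e k * e k = e k := fun k => by
    have h1 : ∀ l, y k ^ l * e k = e k := fun l => by
      induction l with
      | zero => rw [pow_zero, one_mul]
      | succ l ih => rw [pow_succ, mul_assoc, hye, ih]
    conv_lhs => arg 1; simp only [e]
    rw [smul_mul_assoc, Finset.sum_mul, Finset.sum_congr rfl fun l _ => h1 l, Finset.sum_const,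
      Finset.card_range, ← Nat.cast_smul_eq_nsmul ℂ, smul_smul, inv_mul_cancel₀ hmc, one_smul]
  have her : ∀ k, AlgRing M (e k) := fun k =>
    AlgRing.smul hM (ring_inv_natCast hM hv) (AlgRing.sum hM fun l _ => AlgRing.pow hM (fun g => by
      simp only [y, MonoidAlgebra.coeff_single, Finsupp.single_apply]
      split_ifs
      · exact ring_of_integral hM ((hζ.isIntegral hm0).pow k)
      · exact ring_zero hM) l)
  choose cnt hcnt using fun k => C.exists_cnt hM (her k) (hee k)
  refine ⟨fun c => ∑ k ∈ Finset.range m, (ζ⁻¹) ^ k * (cnt k c : ℂ), fun χ => ?_⟩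
  have hev : ∀ k, ev (χ : G → ℂ) (e k) =
      (m : ℂ)⁻¹ * ∑ l ∈ Finset.range m, (ζ ^ k) ^ l * (χ : G → ℂ) (v ^ l) := fun k => by
    simp only [e, y, MonoidAlgebra.single_pow]
    rw [Spec.ev_smul, ev_sum]
    congr 1
    exact Finset.sum_congr rfl fun l _ => Spec.ev_single _ _ _
  have hrhs : ∑ c, (∑ k ∈ Finset.range m, (ζ⁻¹) ^ k * (cnt k c : ℂ)) * ev (χ : G → ℂ) (C.i c) =
      ∑ k ∈ Finset.range m, (ζ⁻¹) ^ k * ev (χ : G → ℂ) (e k) := by
    simp only [hcnt _ _ (irr_classFun χ), Finset.sum_mul, Finset.mul_sum]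
    rw [Finset.sum_comm]
    exact Finset.sum_congr rfl fun k _ => Finset.sum_congr rfl fun c _ => by ring
  rw [hrhs]
  simp only [hev, Finset.mul_sum]
  rw [Finset.sum_comm]
  have hin : ∀ l, ∑ k ∈ Finset.range m, (ζ⁻¹) ^ k * ((m : ℂ)⁻¹ * ((ζ ^ k) ^ l * (χ : G → ℂ) (v ^ l))) =
      (m : ℂ)⁻¹ * (χ : G → ℂ) (v ^ l) * ∑ k ∈ Finset.range m, (ζ⁻¹ * ζ ^ l) ^ k := fun l => by
    rw [Finset.mul_sum]
    refine Finset.sum_congr rfl fun k _ => ?_
    rw [mul_pow, ← pow_mul, ← pow_mul, mul_comm k l]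
    ring
  simp only [hin]
  have hζ0 : ζ ≠ 0 := hζ.ne_zero hm0.ne'
  rw [Finset.sum_eq_single (1 % m) (fun l hl hne => ?_)
    (fun h => absurd (Finset.mem_range.2 (Nat.mod_lt 1 hm0)) h)]
  · have h1 : v ^ (1 % m) = v := by rw [hm, pow_mod_orderOf, pow_one]
    have h2 : ζ⁻¹ * ζ ^ (1 % m) = 1 := by
      rw [hζ.eq_orderOf, pow_mod_orderOf, pow_one, inv_mul_cancel₀ hζ0]
    rw [h1, h2]
    simp only [one_pow, Finset.sum_const, Finset.card_range, nsmul_eq_mul, mul_one]
    field_simp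
  · have hne1 : ζ⁻¹ * ζ ^ l ≠ 1 := fun h => hne (by
      have h2 : ζ ^ l = ζ ^ (1 % m) := by
        rw [hζ.eq_orderOf, pow_mod_orderOf, pow_one]
        field_simp at h
        exact h
      exact hζ.pow_inj (Finset.mem_range.1 hl) (Nat.mod_lt 1 hm0) h2)
    rw [geom_sum_eq hne1, mul_pow, ← pow_mul, mul_comm l m, pow_mul, inv_pow, hζ.pow_eq_one,
      one_pow, inv_one, mul_one, sub_self, zero_div, mul_zero]

/-- Projection on the regular part as a map on a nilpotent subgroup. -/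
theorem exists_regular_hom [Fact p.Prime] (E : Subgroup G) [Group.IsNilpotent E] {k : ℕ}
    (hk : ∀ x : G, orderOf x ∣ Nat.card G / p ^ (Nat.card G).factorization p → x ^ k = x)
    (hk' : ∀ x : G, orderOf x ∣ p ^ (Nat.card G).factorization p → x ^ k = 1) :
    ∃ ψ : E →* G, ∀ x, ψ x = (x : G) ^ k := by
  classical
  have hp : p.Prime := Fact.out
  set n := Nat.card G / p ^ (Nat.card G).factorization p with hn
  set m := p ^ (Nat.card G).factorization p with hm
  have hmn : Nat.card G = m * n := (Nat.ordProj_mul_ordCompl_eq_self _ p).symm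
  have hco : Nat.Coprime m n :=
    (hp.coprime_iff_not_dvd.2 (Nat.not_dvd_ordCompl hp Nat.card_pos.ne')).pow_left _
  have hdE : Nat.card E ∣ m * n := hmn ▸ Subgroup.card_subgroup_dvd_card E
  have hE2 : Nat.card E = (Nat.card E).gcd m * (Nat.card E).gcd n := by
    rw [← hco.gcd_mul, Nat.gcd_eq_left hdE]
  have hco2 : Nat.Coprime ((Nat.card E).gcd m) ((Nat.card E).gcd n) :=
    Nat.Coprime.coprime_dvd_left (Nat.gcd_dvd_right _ _)
      (hco.coprime_dvd_right (Nat.gcd_dvd_right _ _))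
  obtain ⟨A, hA, hAc⟩ := Brauer.exists_normal_pi hE2 hco2
  obtain ⟨B, hB, hBc⟩ := Brauer.exists_normal_pi (hE2.trans (mul_comm _ _)) hco2.symm
  have hd : Disjoint A B := disjoint_iff.2 (Subgroup.inf_eq_bot_of_coprime (by rwa [hAc, hBc]))
  have hbij : Function.Bijective (fun x : A × B => (x.1 : E) * x.2) := by
    rw [Fintype.bijective_iff_injective_and_card]
    refine ⟨Subgroup.mul_injective_of_disjoint hd, ?_⟩
    rw [Fintype.card_prod, ← Nat.card_eq_fintype_card, ← Nat.card_eq_fintype_card,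
      ← Nat.card_eq_fintype_card, hAc, hBc, ← hE2]
  have hcomm : ∀ (a : A) (b : B), Commute (a : E) (b : E) := fun a b =>
    Subgroup.commute_of_normal_of_disjoint A B hA hB hd _ _ a.2 b.2
  have hpow : ∀ (a : A) (b : B), (((a : E) * b : E) : G) ^ k = ((b : E) : G) := by
    intro a b
    have hc : Commute ((a : E) : G) ((b : E) : G) := (hcomm a b).map E.subtype
    rw [Subgroup.coe_mul, hc.mul_pow, hk' _ ?_, one_mul, hk _ ?_]
    · rw [Subgroup.orderOf_coe, Subgroup.orderOf_coe]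
      exact (orderOf_dvd_natCard b).trans (hBc ▸ Nat.gcd_dvd_right _ _)
    · rw [Subgroup.orderOf_coe, Subgroup.orderOf_coe]
      exact (orderOf_dvd_natCard a).trans (hAc ▸ Nat.gcd_dvd_right _ _)
  refine ⟨MonoidHom.mk' (fun x => (x : G) ^ k) fun x y => ?_, fun x => rfl⟩
  obtain ⟨⟨a, b⟩, rfl⟩ := hbij.2 x
  obtain ⟨⟨a', b'⟩, rfl⟩ := hbij.2 y
  have h1 : (a : E) * b * ((a' : E) * b') = ((a * a' : A) : E) * ((b * b' : B) : E) := by
    have := (hcomm a' b).eq
    simp only [Subgroup.coe_mul, mul_assoc]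
    rw [← mul_assoc (b : E) a' b', ← this, mul_assoc]
  show ((((a : E) * b * ((a' : E) * b')) : E) : G) ^ k = _
  rw [h1, hpow, hpow, hpow]
  simp

/-- The Brauer characters of the classes. -/
theorem Classes.exists_brauer [Fact p.Prime] (hM : IsPModular p M) (C : Classes M G) :
    ∃ φ : Fin C.n → G → ℂ,
      (∀ c, IsGeneralizedCharacter G (φ c)) ∧
      (∀ χ : IrrCharacter G, ∀ v, ¬ p ∣ orderOf v →
        (χ : G → ℂ) v = ∑ c, φ c v * ev (χ : G → ℂ) (C.i c)) ∧
      (∀ c k g, k ≡ 1 [MOD Nat.card G / p ^ (Nat.card G).factorization p] → φ c (g ^ k) = φ c g) ∧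
      ∀ c d, ev (φ c) (C.i d) = if c = d then 1 else 0 := by
  classical
  have hp : p.Prime := Fact.out
  set n := Nat.card G / p ^ (Nat.card G).factorization p with hn
  set m := p ^ (Nat.card G).factorization p with hm
  have hmn : Nat.card G = m * n := (Nat.ordProj_mul_ordCompl_eq_self _ p).symm
  have hpn : ¬ p ∣ n := Nat.not_dvd_ordCompl hp Nat.card_pos.ne'
  have hco : Nat.Coprime m n := (hp.coprime_iff_not_dvd.2 hpn).pow_left _
  obtain ⟨k₀, hk, hk'⟩ := Brauer.exists_projection_exponent (G := G) hco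
  have hordn : ∀ x : G, orderOf (x ^ k₀) ∣ n := fun x => by
    rw [orderOf_dvd_iff_pow_eq_one]
    have hc : orderOf (x ^ n) ∣ m := by
      rw [orderOf_dvd_iff_pow_eq_one, ← pow_mul, mul_comm, ← hmn, pow_card_eq_one']
    rw [← pow_mul, mul_comm, pow_mul, hk' _ hc]
  have hregk : ∀ x : G, ¬ p ∣ orderOf (x ^ k₀) := fun x h => hpn (h.trans (hordn x))
  have hfixk : ∀ v : G, ¬ p ∣ orderOf v → v ^ k₀ = v := fun v hv => hk v (Nat.Coprime.dvd_of_dvd_mul_left
    ((hp.coprime_iff_not_dvd.2 hv).symm.pow_right _) (hmn ▸ orderOf_dvd_natCard v))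
  choose ψ hψ using fun g : G => exists_phi_at hM C (hregk g)
  have huniq : ∀ (a b : Fin C.n → ℂ), (∀ χ : IrrCharacter G,
      ∑ c, a c * ev (χ : G → ℂ) (C.i c) = ∑ c, b c * ev (χ : G → ℂ) (C.i c)) → a = b := by
    intro a b h
    refine sub_eq_zero.1 (C.indep hM fun χ => ?_)
    simp only [Pi.sub_apply, sub_mul, Finset.sum_sub_distrib, h χ, sub_self]
  let φ : Fin C.n → G → ℂ := fun c g => ψ g c
  have hval : ∀ χ : IrrCharacter G, ∀ v, ¬ p ∣ orderOf v →
      (χ : G → ℂ) v = ∑ c, φ c v * ev (χ : G → ℂ) (C.i c) := fun χ v hv => by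
    conv_lhs => rw [← hfixk v hv]
    exact hψ v χ
  have hsame : ∀ g g' : G, g ^ k₀ = g' ^ k₀ → ∀ c, φ c g = φ c g' := fun g g' h c =>
    congrFun (huniq (ψ g) (ψ g') fun χ => by rw [← hψ, ← hψ, h]) c
  have hclass : ∀ c, IsClassFunction G (φ c) := fun c g t =>
    congrFun (huniq (ψ (t * g * t⁻¹)) (ψ g) fun χ => by
      rw [← hψ, ← hψ, conj_pow, irr_classFun χ]) c
  refine ⟨φ, fun c => ?_, hval, fun c k g hkn => hsame _ _ ?_ c, ?_⟩
  · refine Brauer.isGenChar_of_elementary (hclass c) fun E hEl => ?_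
    obtain ⟨q, hq, hqE⟩ := hEl
    haveI := Brauer.isNilpotent_of_elementary hq hqE
    letI := Fintype.ofFinite E
    refine Cfsg.Agent.Char.Star.isGenChar_of_inner (fun g t => by
      simpa using hclass c (g : G) (t : G)) fun θ => ?_
    obtain ⟨H, l, hl⟩ := Brauer.monomial (inferInstance : Group.IsNilpotent E) θ.2
    letI := Fintype.ofFinite H
    obtain ⟨ψE, hψE⟩ := exists_regular_hom (p := p) E hk hk'
    obtain ⟨e, her, hee, hev⟩ := linear_idem hM (ψE.comp H.subtype)
      (fun x => by simp only [MonoidHom.comp_apply, hψE]; exact hregk _) l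
    obtain ⟨cnt, hcnt⟩ := C.exists_cnt hM her hee
    have hclE : IsClassFunction E (fun x : E => φ c (x : G)) := fun g t => by
      simpa using hclass c (g : G) (t : G)
    refine ⟨cnt c, ?_⟩
    rw [hl, classInner_indFun_right H _ hclE]
    have hk2 : ∀ x : G, φ c (x ^ k₀) = φ c x := fun x => hsame _ _ (hfixk _ (hregk x)) c
    have key := huniq (fun c => (Nat.card H : ℂ)⁻¹ * ∑ x : H, φ c (((x : E) : G)) *
      conj ((l x : ℂˣ) : ℂ)) (fun c => (cnt c : ℂ)) fun χ => by
        rw [← hcnt _ (irr_classFun χ), hev]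
        simp only [Finset.mul_sum, Finset.sum_mul]
        rw [Finset.sum_comm]
        refine Finset.sum_congr rfl fun x _ => ?_
        simp only [MonoidHom.comp_apply, hψE, Subgroup.coe_subtype]
        rw [hval χ _ (hregk _), Finset.sum_mul, Finset.mul_sum]
        refine Finset.sum_congr rfl fun d _ => ?_
        rw [show φ d (((x : E) : G) ^ k₀) = φ d ((x : E) : G) from hsame _ _ (hfixk _ (hregk _)) d]
        ring
    simpa [classInner] using congrFun key c
  · rw [← pow_mul, mul_comm, pow_mul]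
    calc (g ^ k₀) ^ k = (g ^ k₀) ^ 1 := pow_eq_pow_iff_modEq.2 (hkn.of_dvd (hordn g))
      _ = g ^ k₀ := pow_one _
  · intro c d
    have key := huniq (fun c => ev (φ c) (C.i d)) (fun c => if c = d then (1 : ℂ) else 0) fun χ => by
      have h0 := ev_idem_eq_zero hM (C.pr d).ring (C.pr d).idem
        (f := (χ : G → ℂ) - ∑ c, ev (χ : G → ℂ) (C.i c) • φ c)
        (classFunction_sub (irr_classFun χ)
          (classFunction_sum fun c _ => classFunction_smul _ (hclass c))) fun g hg => by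
        simp only [Pi.sub_apply, Finset.sum_apply, Pi.smul_apply, smul_eq_mul]
        rw [hval χ g hg, sub_eq_zero]
        exact Finset.sum_congr rfl fun c _ => mul_comm _ _
      have h1 : ev (χ : G → ℂ) (C.i d) = ∑ c, ev (χ : G → ℂ) (C.i c) * ev (φ c) (C.i d) := by
        rw [← ev_sum_fun, ← sub_eq_zero]
        simp only [ev, ← Finset.sum_sub_distrib] at h0 ⊢
        rw [← h0]
        exact Finset.sum_congr rfl fun g _ => by simp only [Pi.sub_apply, mul_sub]
      simp only [ite_mul, one_mul, zero_mul, Finset.sum_ite_eq', Finset.mem_univ, if_true]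
      rw [h1]
      exact Finset.sum_congr rfl fun c _ => mul_comm _ _
    exact congrFun key c

end Cfsg.Agent.Char.Decomp
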