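import Cfsg.Agent.Lib.Char.PairNilpotentLocal
import Cfsg.Agent.Lib.Char.PairBlock
import Cfsg.Agent.Lib.Char.Contrib
import Cfsg.Agent.Lib.Block.SecondMain
import Cfsg.Agent.Lib.Block.SuzukiIdentity

/-!
Sections of the characters of a block through its Brauer pairs, and the count of the sections of a
block with inner fusion system over its defect group.
-/

open scoped ComplexConjugate

namespace Cfsg.Agent.Char.Spec

open Cfsg.Agent.Block Cfsg.Agent.Char.BP

set_option linter.unusedSectionVars false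
set_option linter.style.haveILetI false
set_option maxHeartbeats 800000

universe u

variable {G : Type u} [Group G] [Fintype G] {p : ℕ} {M : Ideal AlgInt}

/-- The part of a section at `x` belonging to a pair. -/
noncomputable def sct (f : G → ℂ) (a : BrauerPairIdx G) (x v : G) : ℂ :=
  ∑ k : G, be a k * f (x * k * v)

/-- The regular elements of the centralizer of a subgroup. -/
noncomputable def regs (p : ℕ) (Q : Subgroup G) : Finset G :=
  (Set.toFinite {v : G | v ∈ CG Q ∧ ¬ p ∣ orderOf v}).toFinset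

theorem mem_regs {Q : Subgroup G} {v : G} : v ∈ regs p Q ↔ v ∈ CG Q ∧ ¬ p ∣ orderOf v := by
  simp [regs]

/-- The pairing of two sections. -/
noncomputable def secT (p : ℕ) (f f' : G → ℂ) (a : BrauerPairIdx G) (x : G) : ℂ :=
  ∑ v ∈ regs p a.1, sct f a x v * conj (sct f' a x v)

theorem sct_conj {f : G → ℂ} (hf : IsClassFunction G f) (a : BrauerPairIdx G) (g x v : G) :
    sct f (cjI g a) (g * x * g⁻¹) (g * v * g⁻¹) = sct f a x v := by
  refine (Fintype.sum_equiv (MulAut.conj g).toEquiv _ _ fun k => ?_).symm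
  simp only [MulEquiv.toEquiv_eq_coe, MulEquiv.coe_toEquiv, MulAut.conj_apply]
  rw [be_cjI, show cfun g (be a) (g * k * g⁻¹) = be a k by simp [cfun, mul_assoc],
    show g * x * g⁻¹ * (g * k * g⁻¹) * (g * v * g⁻¹) = g * (x * k * v) * g⁻¹ by group, hf]

theorem secT_conj {f f' : G → ℂ} (hf : IsClassFunction G f) (hf' : IsClassFunction G f')
    (a : BrauerPairIdx G) (g x : G) :
    secT p f f' (cjI g a) (g * x * g⁻¹) = secT p f f' a x := by
  refine (Finset.sum_equiv (MulAut.conj g).toEquiv (fun v => ?_) fun v _ => ?_).symm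
  · simp only [mem_regs, MulEquiv.toEquiv_eq_coe, MulEquiv.coe_toEquiv, MulEquiv.orderOf_eq]
    exact and_congr_left fun _ => cg_map_conj g a.1 v
  · simp only [MulEquiv.toEquiv_eq_coe, MulEquiv.coe_toEquiv, MulAut.conj_apply]
    rw [sct_conj hf, sct_conj hf']

theorem sct_eq_sub (f : G → ℂ) (a : BrauerPairIdx G) [Fintype (CG a.1)] (x v : G) :
    sct f a x v = ∑ k : CG a.1, blockCoeff a.2 k * f (x * (k : G) * v) := by
  classical
  rw [sct, ← Finset.sum_subset (Finset.subset_univ (Finset.univ.filter (· ∈ CG a.1)))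
    (fun k _ hk => by
      rw [show be a k = 0 from bc_supp _ _ _ (fun h => hk (Finset.mem_filter.2 ⟨Finset.mem_univ _, h⟩)),
        zero_mul]),
    ← Finset.sum_subtype_eq_sum_filter, Finset.subtype_univ]
  exact Finset.sum_congr rfl fun k _ => congrArg (· * _) (bc_coe _ _ k)

theorem cg_zpowers (u : G) : CG (Subgroup.zpowers u) = Subgroup.centralizer ({u} : Set G) := by
  refine le_antisymm (Subgroup.centralizer_le
    (Set.singleton_subset_iff.2 (Subgroup.mem_zpowers u))) fun t ht =>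
      Subgroup.mem_centralizer_iff.2 fun w hw => ?_
  obtain ⟨i, rfl⟩ := Subgroup.mem_zpowers_iff.1 hw
  exact ((show Commute t u from Subgroup.mem_centralizer_singleton_iff.1 ht).zpow_right i).eq.symm

theorem self_mem_cg {a : BrauerPairIdx G} {x : G} (hx : a.1 = Subgroup.zpowers x) : x ∈ CG a.1 := by
  rw [hx, cg_zpowers]
  exact Subgroup.mem_centralizer_singleton_iff.2 rfl

theorem isPGroup_zpowers [Fact p.Prime] {x : G} (hx : ∃ k, orderOf x = p ^ k) :
    IsPGroup p (Subgroup.zpowers x) := by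
  obtain ⟨k, hk⟩ := hx
  exact IsPGroup.of_card (n := k) (by rw [Nat.card_zpowers, hk])

/-- A section is an integral combination of the characters of its block. -/
theorem exists_sct_coef {χ : G → ℂ} (hχ : IsCharacter G χ) {a : BrauerPairIdx G}
    [Fintype (CG a.1)] [DecidablePred (· ∈ a.2)] {x : G} (hx : x ∈ CG a.1) (hxa : x ∈ a.1) :
    ∃ c : IrrCharacter (CG a.1) → ℂ, (∀ ξ, IsIntegral ℤ (c ξ)) ∧ ∀ v : CG a.1,
      sct χ a x (v : G) = ∑ ξ ∈ Finset.univ.filter (· ∈ a.2), c ξ * (ξ : CG a.1 → ℂ) v := by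
  classical
  set z : CG a.1 := ⟨x, hx⟩ with hzdef
  have hz : z ∈ Subgroup.center (CG a.1) := Subgroup.mem_center_iff.mpr fun t =>
    Subtype.ext (Subgroup.mem_centralizer_iff.1 t.2 x hxa).symm
  refine ⟨fun ξ => (Glaub.mult (CG a.1) χ (ξ : CG a.1 → ℂ) : ℂ) * centralChar (ξ : CG a.1 → ℂ) z,
    fun ξ => IsIntegral.mul (by simpa using isIntegral_algebraMap (R := ℤ) (A := ℂ) (x := ((Glaub.mult (CG a.1) χ (ξ : CG a.1 → ℂ) : ℕ) : ℤ))) (centralChar_isIntegral ξ z), fun v => ?_⟩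
  have hexp : ∀ w : CG a.1, χ (x * (w : G)) = ∑ φ : IrrCharacter (CG a.1),
      ((Glaub.mult (CG a.1) χ (φ : CG a.1 → ℂ) : ℂ) * centralChar (φ : CG a.1 → ℂ) z) *
        (φ : CG a.1 → ℂ) w := by
    intro w
    rw [show x * (w : G) = ((z * w : CG a.1) : G) from rfl, Glaub.res_expansion _ hχ (z * w)]
    refine Finset.sum_congr rfl fun φ _ => ?_
    obtain ⟨s, -, hs⟩ := IsIrr.scalar_of_center φ.2 hz
    have h1 : centralChar (φ : CG a.1 → ℂ) z = s := by
      have htop : Subgroup.centralizer ({z} : Set (CG a.1)) = ⊤ := eq_top_iff.mpr fun y _ => by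
        rw [Subgroup.mem_centralizer_singleton_iff]
        exact Subgroup.mem_center_iff.mp hz y
      have h2 := hs 1
      rw [mul_one] at h2
      rw [centralChar, htop, Subgroup.index_top, Nat.cast_one, one_mul, h2,
        mul_div_cancel_right₀ _ (irr_one_ne_zero φ)]
    rw [h1, hs w]
    ring
  have hid : ∀ φ : IrrCharacter (CG a.1),
      ∑ k : CG a.1, blockCoeff a.2 k * (φ : CG a.1 → ℂ) (k * v) =
        blockInd a.2 φ * (φ : CG a.1 → ℂ) v := by
    intro φ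
    simp only [blockCoeff_eq]
    rw [sum_classFun_mul_apply φ.2 (coeffFun_classFun _) v,
      ← omegaFun_coeffFun (blockInd a.2) φ, omegaFun]
  rw [sct_eq_sub]
  simp only [mul_assoc x, ← Subgroup.coe_mul, hexp, Finset.mul_sum]
  rw [Finset.sum_comm, Finset.sum_filter]
  refine Finset.sum_congr rfl fun φ _ => ?_
  simp only [mul_left_comm (blockCoeff a.2 _), ← Finset.mul_sum, hid]
  by_cases hφ : φ ∈ a.2
  · rw [if_pos hφ, blockInd_of_mem hφ, one_mul]
  · rw [if_neg hφ, blockInd_of_notMem hφ, zero_mul, mul_zero]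

/-- The section of a character of `B` vanishes at the pairs of the other blocks. -/
theorem sct_eq_zero [Fact p.Prime] (hM : IsPModular p M) {B : Set (IrrCharacter G)}
    {η : IrrCharacter G} (hη : η ∈ B) (hB : IsPBlock M B) {a : BrauerPairIdx G}
    (ha : IsPr p M a) {x : G} (hx : ∃ k, orderOf x = p ^ k) (hax : a.1 = Subgroup.zpowers x)
    (hnot : ¬ OfB p M B a) {v : G} (hv : v ∈ CG a.1) (hvr : ¬ p ∣ orderOf v) :
    sct (η : G → ℂ) a x v = 0 := by
  classical
  letI := Fintype.ofFinite (CG a.1)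
  have hPH : a.1 ≤ CG a.1 := by rw [hax]; exact Subgroup.zpowers_le.2 (hax ▸ self_mem_cg hax)
  obtain ⟨B', hind⟩ := inducedBlockDefined_brauer hM ha.1 hPH le_rfl (cg_le_normalizer a.1) ha.2
  have hOf : OfB p M B' a := by
    refine ⟨ha, hind.2.1, fun ξ hξ => ?_⟩
    obtain ⟨χ₁, hχ₁⟩ := pblock_nonempty hM hind.2.1
    have h1 := induced_congr hM hind (cenInt_blockInd hM hind.2.1) hξ hχ₁
    have h2 := resCen_sub_brCen_ideal hM ha.1 hPH (cg_le_normalizer a.1)
      (cenInt_blockInd hM hind.2.1) ξ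
    rw [blockInd_of_mem hχ₁] at h1
    rw [brCen_eq_brauerOmega] at h2
    simpa using ideal_sub hM h1 h2
  have hη' : η ∉ B' := fun h => hnot <| by
    rwa [pblock_eq_blockOf hM hB hη, ← pblock_eq_blockOf hM hind.2.1 h]
  have hxv : Commute x v :=
    Subgroup.mem_centralizer_iff.1 hv x (hax ▸ Subgroup.mem_zpowers x)
  have hh : x * v ∈ CG a.1 := mul_mem (self_mem_cg hax) hv
  have h := nagao hM hind ⟨x * v, hh⟩ (fun z hz => by
    rw [pPart_unique hz (⟨v, rfl, hxv, hx, hvr⟩ : IsPPart p (x * v) x), hax, cg_zpowers]) hη'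
  rw [finsum_eq_sum_of_fintype] at h
  rw [sct_eq_sub, ← h]
  refine Finset.sum_congr rfl fun k _ => ?_
  have hk : x * (k : G) = (k : G) * x :=
    Subgroup.mem_centralizer_iff.1 k.2 x (hax ▸ Subgroup.mem_zpowers x)
  rw [hk, mul_assoc]

theorem value_eq_sum_blks (hM : IsPModular p M) (Q : Subgroup G) (f : G → ℂ) (x v : G) :
    f (x * v) = ∑ b ∈ blks M (CG Q), sct f (⟨Q, b⟩ : BrauerPairIdx G) x v := by
  classical
  simp only [sct]
  rw [Finset.sum_comm, Finset.sum_eq_single (1 : G)]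
  · rw [← Finset.sum_mul, show ∑ b ∈ blks M (CG Q), be (⟨Q, b⟩ : BrauerPairIdx G) 1 = (dlt : G → ℂ) 1 from
      sum_blks hM (CG Q) (one_mem _), dlt, if_pos rfl, one_mul, mul_one]
  · intro k _ hk
    rw [← Finset.sum_mul]
    by_cases hkC : k ∈ CG Q
    · rw [show ∑ b ∈ blks M (CG Q), be (⟨Q, b⟩ : BrauerPairIdx G) k = dlt k from
        sum_blks hM (CG Q) hkC, dlt, if_neg hk, zero_mul]
    · rw [Finset.sum_eq_zero fun b _ => bc_supp _ _ _ hkC, zero_mul]
  · exact fun h => absurd (Finset.mem_univ _) h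

theorem sum_regs_eq_regSum (Q : Subgroup G) [Fintype (CG Q)] (φ ψ : CG Q → ℂ) (Φ Ψ : G → ℂ)
    (hφ : ∀ v : CG Q, ¬ p ∣ orderOf v → Φ v = φ v)
    (hψ : ∀ v : CG Q, ¬ p ∣ orderOf v → Ψ v = ψ v) :
    ∑ v ∈ regs p Q, Φ v * conj (Ψ v) = regSum p φ ψ := by
  classical
  rw [regSum_eq_sum]
  symm
  refine Finset.sum_bij (fun v _ => (v : G)) (fun v hv => ?_)
    (fun v _ w _ h => Subtype.ext h) (fun v hv => ?_) fun v hv => ?_
  · rw [Finset.mem_filter] at hv
    exact mem_regs.2 ⟨v.2, by rw [Subgroup.orderOf_coe]; exact hv.2⟩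
  · obtain ⟨h1, h2⟩ := mem_regs.1 hv
    exact ⟨⟨v, h1⟩, Finset.mem_filter.2 ⟨Finset.mem_univ _, by rwa [Subgroup.orderOf_mk]⟩, rfl⟩
  · have h2 := (Finset.mem_filter.1 hv).2
    rw [hφ v h2, hψ v h2]

theorem cross_zero (hM : IsPModular p M) {Q : Subgroup G} {b b' : Set (IrrCharacter (CG Q))}
    (hb : IsPBlock M b) (hb' : IsPBlock M b') (hne : b ≠ b') {χ ψ : G → ℂ}
    (hχ : IsCharacter G χ) (hψ : IsCharacter G ψ) {x : G} (hx : x ∈ CG Q) (hxQ : x ∈ Q) :
    ∑ v ∈ regs p Q, sct χ (⟨Q, b⟩ : BrauerPairIdx G) x v *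
      conj (sct ψ (⟨Q, b'⟩ : BrauerPairIdx G) x v) = 0 := by
  classical
  letI := Fintype.ofFinite (CG Q)
  obtain ⟨c, -, hc⟩ := exists_sct_coef hχ (a := (⟨Q, b⟩ : BrauerPairIdx G)) hx hxQ
  obtain ⟨c', -, hc'⟩ := exists_sct_coef hψ (a := (⟨Q, b'⟩ : BrauerPairIdx G)) hx hxQ
  rw [sum_regs_eq_regSum Q _ _ _ _ (fun v _ => hc v) (fun v _ => hc' v), regSum_eq_sum]
  simp only [map_sum, map_mul, Finset.sum_mul, Finset.mul_sum]
  rw [Finset.sum_comm, Finset.sum_eq_zero]
  intro ξ' hξ'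
  rw [Finset.sum_comm, Finset.sum_eq_zero]
  intro ξ hξ
  have h0 := reg_orth (p := p) hM (χ := ξ) (ψ := ξ') fun hs => hne <| by
    rw [pblock_eq_blockOf hM hb (Finset.mem_filter.1 hξ).2,
      pblock_eq_blockOf hM hb' (Finset.mem_filter.1 hξ').2, blockOf_eq hM hs]
  rw [regSum_eq_sum] at h0
  rw [← mul_zero (c ξ * conj (c' ξ')), ← h0, Finset.mul_sum]
  exact Finset.sum_congr rfl fun v _ => by ring

/-- The sections of a block. -/
noncomputable def secs (p : ℕ) (M : Ideal AlgInt) (B : Set (IrrCharacter G)) :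
    Finset (G × BrauerPairIdx G) :=
  (Set.toFinite {s : G × BrauerPairIdx G |
    (∃ k, orderOf s.1 = p ^ k) ∧ s.2.1 = Subgroup.zpowers s.1 ∧ OfB p M B s.2}).toFinset

theorem mem_secs {B : Set (IrrCharacter G)} {s : G × BrauerPairIdx G} :
    s ∈ secs p M B ↔
      (∃ k, orderOf s.1 = p ^ k) ∧ s.2.1 = Subgroup.zpowers s.1 ∧ OfB p M B s.2 := by
  simp [secs]

/-- The inner product of two characters of a block, by sections. -/
theorem sum_eq_sum_secs [Fact p.Prime] (hM : IsPModular p M) {B : Set (IrrCharacter G)}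
    (hB : IsPBlock M B) {η η' : IrrCharacter G} (hη : η ∈ B) (hη' : η' ∈ B) :
    ∑ g : G, (η : G → ℂ) g * conj ((η' : G → ℂ) g) =
      ∑ s ∈ secs p M B, secT p (η : G → ℂ) (η' : G → ℂ) s.2 s.1 := by
  classical
  set X := Finset.univ.filter (fun x : G => ∃ k, orderOf x = p ^ k) with hX
  have h1 : ∑ g : G, (η : G → ℂ) g * conj ((η' : G → ℂ) g) =
      ∑ s ∈ X.sigma (fun x => regs p (Subgroup.zpowers x)),
        (η : G → ℂ) (s.1 * s.2) * conj ((η' : G → ℂ) (s.1 * s.2)) := by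
    symm
    have hpart : ∀ s ∈ X.sigma (fun x => regs p (Subgroup.zpowers x)),
        IsPPart p (s.1 * s.2) s.1 := fun s hs => by
      obtain ⟨hx, hv⟩ := Finset.mem_sigma.1 hs
      obtain ⟨hv1, hv2⟩ := mem_regs.1 hv
      exact ⟨s.2, rfl, Subgroup.mem_centralizer_iff.1 hv1 s.1 (Subgroup.mem_zpowers _),
        (Finset.mem_filter.1 hx).2, hv2⟩
    refine Finset.sum_bij (fun s _ => s.1 * s.2) (fun _ _ => Finset.mem_univ _)
      (fun s hs t ht h => ?_) (fun g _ => ?_) fun _ _ => rfl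
    · have he : s.1 = t.1 := pPart_unique (hpart s hs) (h ▸ hpart t ht)
      obtain ⟨s1, s2⟩ := s
      obtain ⟨t1, t2⟩ := t
      obtain rfl : s1 = t1 := he
      obtain rfl : s2 = t2 := mul_left_cancel (h : s1 * s2 = s1 * t2)
      rfl
    · obtain ⟨u, v, huv, hcomm, hu, hv, -, -⟩ := exists_pPart_zpowers (p := p) g
      refine ⟨⟨u, v⟩, Finset.mem_sigma.2 ⟨Finset.mem_filter.2 ⟨Finset.mem_univ _, hu⟩,
        mem_regs.2 ⟨?_, hv⟩⟩, huv⟩
      rw [cg_zpowers]
      exact Subgroup.mem_centralizer_singleton_iff.2 hcomm.symm.eq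
  rw [h1, Finset.sum_sigma, Finset.sum_finset_product (secs p M B) X
    (fun x => Finset.univ.filter fun a : BrauerPairIdx G =>
      a.1 = Subgroup.zpowers x ∧ OfB p M B a) (fun s => by simp [mem_secs, X])]
  refine Finset.sum_congr rfl fun x hx => ?_
  have hx' := (Finset.mem_filter.1 hx).2
  set Q := Subgroup.zpowers x with hQ
  set S := (blks M (CG Q)).filter (fun b => OfB p M B (⟨Q, b⟩ : BrauerPairIdx G)) with hS
  have hval : ∀ {ζ : IrrCharacter G}, ζ ∈ B → ∀ v ∈ regs p Q, (ζ : G → ℂ) (x * v) =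
      ∑ b ∈ S, sct (ζ : G → ℂ) (⟨Q, b⟩ : BrauerPairIdx G) x v := by
    intro ζ hζ v hv
    rw [value_eq_sum_blks hM Q (ζ : G → ℂ) x v, hS, Finset.sum_filter]
    refine Finset.sum_congr rfl fun b hb => ?_
    split_ifs with h
    · rfl
    · have hpr : IsPr p M (⟨Q, b⟩ : BrauerPairIdx G) :=
        ⟨isPGroup_zpowers hx', (mem_blks (M := M) (W := CG Q) (f := b)).1 hb⟩
      exact sct_eq_zero (a := (⟨Q, b⟩ : BrauerPairIdx G)) (x := x) (v := v) hM hζ hB hpr hx' rfl h
        (mem_regs.1 hv).1 (mem_regs.1 hv).2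
  have hprod : ∀ v ∈ regs p Q, (η : G → ℂ) (x * v) * conj ((η' : G → ℂ) (x * v)) =
      (∑ b ∈ S, sct (η : G → ℂ) (⟨Q, b⟩ : BrauerPairIdx G) x v) *
        conj (∑ b ∈ S, sct (η' : G → ℂ) (⟨Q, b⟩ : BrauerPairIdx G) x v) := fun v hv => by
    rw [hval hη v hv, hval hη' v hv]
  refine (Finset.sum_congr rfl hprod).trans ?_
  simp only [map_sum, Finset.sum_mul, Finset.mul_sum]
  rw [Finset.sum_comm]
  have hdiag : ∀ b' ∈ S, ∑ v ∈ regs p Q, ∑ b ∈ S, sct (η : G → ℂ) (⟨Q, b⟩ : BrauerPairIdx G) x v *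
      conj (sct (η' : G → ℂ) (⟨Q, b'⟩ : BrauerPairIdx G) x v) =
      secT p (η : G → ℂ) (η' : G → ℂ) (⟨Q, b'⟩ : BrauerPairIdx G) x := by
    intro b' hb'
    rw [Finset.sum_comm, Finset.sum_eq_single b']
    · rfl
    · intro b hb hne
      exact cross_zero hM (mem_blks.1 (Finset.mem_filter.1 hb).1)
        (mem_blks.1 (Finset.mem_filter.1 hb').1) hne (irr_isChar η) (irr_isChar η')
        (self_mem_cg (a := (⟨Q, b'⟩ : BrauerPairIdx G)) rfl) (Subgroup.mem_zpowers x)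
    · exact fun h => absurd hb' h
  rw [Finset.sum_congr rfl hdiag]
  refine Finset.sum_bij (fun b _ => (⟨Q, b⟩ : BrauerPairIdx G)) (fun b hb => ?_)
    (fun b _ b' _ h => eq_of_heq (Sigma.mk.inj_iff.1 h).2) (fun a ha => ?_) fun _ _ => rfl
  · exact Finset.mem_filter.2 ⟨Finset.mem_univ _, rfl, (Finset.mem_filter.1 hb).2⟩
  · obtain ⟨Q', b⟩ := a
    obtain ⟨h1, h2⟩ := (Finset.mem_filter.1 ha).2
    obtain rfl : Q' = Q := h1
    exact ⟨b, Finset.mem_filter.2 ⟨mem_blks.2 h2.1.2, h2⟩, rfl⟩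

variable {B : Set (IrrCharacter G)} {P : Subgroup G} {e : Set (IrrCharacter (CG P))}

theorem card_centralizer_coe (u : P) :
    Nat.card (P ⊓ CG (Subgroup.zpowers (u : G)) : Subgroup G) =
      Nat.card (Subgroup.centralizer ({u} : Set P)) := by
  refine Nat.card_congr
    { toFun := fun t => ⟨⟨t, t.2.1⟩, Subgroup.mem_centralizer_singleton_iff.2
        (Subtype.ext (Subgroup.mem_centralizer_iff.1 t.2.2 _ (Subgroup.mem_zpowers _)).symm)⟩
      invFun := fun t => ⟨((t : P) : G), (t : P).2, by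
        rw [cg_zpowers]
        exact Subgroup.mem_centralizer_singleton_iff.2
          (congrArg Subtype.val (Subgroup.mem_centralizer_singleton_iff.1 t.2))⟩
      left_inv := fun _ => rfl
      right_inv := fun _ => rfl }

/-- The sections of a block with inner fusion system are indexed by the defect group. -/
theorem sum_secs_inner [Fact p.Prime] (hM : IsPModular p M) {F : FusionSystem P}
    (hF : IsBlockFusionSystemOn p M B P e F) (hin : Fus.IsInner F) [Fintype P]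
    (fu : P → BrauerPairIdx G) (hfu1 : ∀ u, (fu u).1 = Subgroup.zpowers (u : G))
    (hfu : ∀ u, LE p M (fu u) (⟨P, e⟩ : BrauerPairIdx G)) (Φ : G → BrauerPairIdx G → ℂ)
    (hΦ : ∀ g x a, Φ (g * x * g⁻¹) (cjI g a) = Φ x a) :
    (Nat.card P : ℂ) * ∑ s ∈ secs p M B, Φ s.1 s.2 =
      (Nat.card G : ℂ) * ∑ u : P, (Nat.card (Subgroup.centralizer ({u} : Set P)) : ℂ) /
        (Nat.card (Subgroup.centralizer ({(u : G)} : Set G)) : ℂ) * Φ (u : G) (fu u) := by
  classical
  have hx : IsMx p M B (⟨P, e⟩ : BrauerPairIdx G) := hF.1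
  have hPp : IsPGroup p P := hx.1.1.1
  set cP : P → ℂ := fun u => (Nat.card (Subgroup.centralizer ({u} : Set P)) : ℂ) with hcP
  set cG : P → ℂ := fun u => (Nat.card (Subgroup.centralizer ({(u : G)} : Set G)) : ℂ) with hcG
  let π : G × P → G × BrauerPairIdx G := fun t => (t.1 * (t.2 : G) * t.1⁻¹, cjI t.1 (fu t.2))
  have hπ : ∀ t ∈ (Finset.univ : Finset (G × P)), π t ∈ secs p M B := by
    rintro ⟨g, u⟩ -
    refine mem_secs.2 ⟨?_, ?_, ofB_cjI hM ((ofB_le hM (hfu u)).1 hx.1) g⟩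
    · obtain ⟨k, hk⟩ := pPow_of_mem hPp u.2
      exact ⟨k, by rw [← hk]; exact MulEquiv.orderOf_eq (MulAut.conj g) (u : G)⟩
    · show ((fu u).1).map (MulAut.conj g).toMonoidHom = _
      rw [hfu1, MonoidHom.map_zpowers]
      rfl
  calc (Nat.card P : ℂ) * ∑ s ∈ secs p M B, Φ s.1 s.2
      = ∑ s ∈ secs p M B, ∑ t ∈ Finset.univ.filter (fun t => π t = s),
          cP t.2 / cG t.2 * Φ (t.2 : G) (fu t.2) := ?_
    _ = ∑ t : G × P, cP t.2 / cG t.2 * Φ (t.2 : G) (fu t.2) :=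
        Finset.sum_fiberwise_of_maps_to hπ _
    _ = _ := by
        rw [Fintype.sum_prod_type]
        simp only [Finset.sum_const, Finset.card_univ, nsmul_eq_mul, hcP, hcG,
          Nat.card_eq_fintype_card (α := G)]
  rw [Finset.mul_sum]
  refine Finset.sum_congr rfl fun s hs => ?_
  obtain ⟨x, a⟩ := s
  obtain ⟨hxp, hax, haB⟩ := mem_secs.1 hs
  obtain ⟨l, hl⟩ := le_conj_max hM haB hx
  have hu₀ : l * x * l⁻¹ ∈ P := le_subgroup hl (conj_mem_map_conj.2 (by
    show x ∈ a.1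
    rw [show a.1 = Subgroup.zpowers x from hax]
    exact Subgroup.mem_zpowers x))
  set u₀ : P := ⟨l * x * l⁻¹, hu₀⟩ with hu₀def
  have hcl : cjI l a = fu u₀ := by
    refine le_unique hM hl (hfu u₀) ?_
    rw [hfu1]
    show a.1.map (MulAut.conj l).toMonoidHom = _
    rw [show a.1 = Subgroup.zpowers x from hax, MonoidHom.map_zpowers]
    rfl
  have hstab : ∀ w : P, cjI (w : G) (fu (w⁻¹ * u₀ * w)) = fu u₀ := by
    intro w
    have h1 := le_cjI hM (w : G) (hfu (w⁻¹ * u₀ * w))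
    rw [cjI_eq_of_stab (self_le_stab _ w.2 : (w : G) ∈ stab (⟨P, e⟩ : BrauerPairIdx G))] at h1
    refine le_unique hM h1 (hfu u₀) ?_
    rw [hfu1]
    show ((fu _).1).map (MulAut.conj (w : G)).toMonoidHom = _
    rw [hfu1, MonoidHom.map_zpowers]
    refine congrArg Subgroup.zpowers ?_
    show (w : G) * ((w⁻¹ * u₀ * w : P) : G) * (w : G)⁻¹ = _
    push_cast
    group
  set fib := Finset.univ.filter (fun t => π t = (x, a)) with hfib
  set C := Subgroup.centralizer ({(u₀ : G)} : Set G) with hC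
  let ρ : P × C → G × P := fun t => (l⁻¹ * (t.2 : G) * (t.1 : G), t.1⁻¹ * u₀ * t.1)
  have hρ : ∀ t ∈ (Finset.univ : Finset (P × C)), ρ t ∈ fib := by
    rintro ⟨w, c⟩ -
    refine Finset.mem_filter.2 ⟨Finset.mem_univ _, Prod.ext ?_ ?_⟩
    · have hc := Subgroup.mem_centralizer_singleton_iff.1 c.2
      show l⁻¹ * (c : G) * (w : G) * ((w⁻¹ * u₀ * w : P) : G) * (l⁻¹ * (c : G) * (w : G))⁻¹ = x
      push_cast
      calc l⁻¹ * (c : G) * (w : G) * ((w : G)⁻¹ * (u₀ : G) * (w : G)) * (l⁻¹ * (c : G) * (w : G))⁻¹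
          = l⁻¹ * ((c : G) * (u₀ : G) * (c : G)⁻¹) * l := by group
        _ = l⁻¹ * (u₀ : G) * l := by rw [hc, mul_inv_cancel_right]
        _ = x := by rw [hu₀def]; group
    · show cjI (l⁻¹ * (c : G) * (w : G)) (fu (w⁻¹ * u₀ * w)) = a
      rw [← cjI_cjI, hstab, ← cjI_cjI, cjI_eq_of_stab (cg_le_stab (fu u₀) (by
        rw [hfu1, cg_zpowers]; exact c.2)), ← hcl, cjI_inv_cancel]
  have hfibre : ∀ t ∈ fib, ∃ w : P, ∃ c : C, ρ (w, c) = t := by
    rintro ⟨g, u⟩ ht
    have ht' := (Finset.mem_filter.1 ht).2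
    have hgx : g * (u : G) * g⁻¹ = x := congrArg Prod.fst ht'
    have hga : cjI g (fu u) = a := congrArg Prod.snd ht'
    have hmap : Fus.IsMap F (Subgroup.zpowers (u : G)) (fun v => l * g * v * (l * g)⁻¹) :=
      (isMap_iff hF).2 ⟨fu u, l * g, hfu1 u, hfu u, by
        rw [← cjI_cjI, hga, hcl]; exact hfu u₀, fun _ _ => rfl⟩
    obtain ⟨w, hw, hwe⟩ := hin _ _ hmap
    have h1 : l * g * (u : G) * (l * g)⁻¹ = w * (u : G) * w⁻¹ := hwe _ (Subgroup.mem_zpowers _)
    have h2 : l * g * (u : G) * (l * g)⁻¹ = (u₀ : G) := by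
      show _ = l * x * l⁻¹
      rw [← hgx]
      group
    refine ⟨⟨w, hw⟩, ⟨l * g * w⁻¹, Subgroup.mem_centralizer_singleton_iff.2 ?_⟩, Prod.ext ?_ ?_⟩
    · calc l * g * w⁻¹ * (u₀ : G) = l * g * w⁻¹ * (w * (u : G) * w⁻¹) := by rw [← h1, h2]
        _ = l * g * (u : G) * (l * g)⁻¹ * (l * g * w⁻¹) := by group
        _ = (u₀ : G) * (l * g * w⁻¹) := by rw [h2]
    · show l⁻¹ * (l * g * w⁻¹) * w = g
      group
    · refine Subtype.ext ?_
      show ((⟨w, hw⟩⁻¹ * u₀ * ⟨w, hw⟩ : P) : G) = (u : G)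
      push_cast
      rw [← h2, h1]
      group
  have hcard : ∀ t ∈ fib, (Finset.univ.filter (fun q => ρ q = t)).card =
      Nat.card (Subgroup.centralizer ({u₀} : Set P)) := by
    intro t ht
    obtain ⟨w, c, rfl⟩ := hfibre t ht
    rw [← Fintype.card_subtype, ← Nat.card_eq_fintype_card]
    symm
    refine Nat.card_congr (Equiv.ofBijective (fun r : Subgroup.centralizer ({u₀} : Set P) =>
      (⟨((r : P) * w, ⟨(c : G) * ((r : P) : G)⁻¹, mul_mem c.2 (inv_mem
        (Subgroup.mem_centralizer_singleton_iff.2 (congrArg Subtype.val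
          (Subgroup.mem_centralizer_singleton_iff.1 r.2))))⟩), ?_⟩ : {q // ρ q = ρ (w, c)}))
      ⟨fun r r' h => ?_, ?_⟩)
    · have hr := Subgroup.mem_centralizer_singleton_iff.1 r.2
      refine Prod.ext ?_ ?_
      · show l⁻¹ * ((c : G) * ((r : P) : G)⁻¹) * (((r : P) * w : P) : G) = l⁻¹ * (c : G) * (w : G)
        push_cast
        group
      · show ((r : P) * w)⁻¹ * u₀ * ((r : P) * w) = w⁻¹ * u₀ * w
        calc ((r : P) * w)⁻¹ * u₀ * ((r : P) * w) = w⁻¹ * (r : P)⁻¹ * (u₀ * (r : P)) * w := by group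
          _ = _ := by rw [← hr]; group
    · exact Subtype.ext (mul_right_cancel (congrArg (fun q => q.1.1) h))
    · rintro ⟨⟨w', c'⟩, hq⟩
      have hq1 : l⁻¹ * (c' : G) * (w' : G) = l⁻¹ * (c : G) * (w : G) := congrArg Prod.fst hq
      have hq2 : w'⁻¹ * u₀ * w' = w⁻¹ * u₀ * w := congrArg Prod.snd hq
      refine ⟨⟨w' * w⁻¹, Subgroup.mem_centralizer_singleton_iff.2 ?_⟩, Subtype.ext (Prod.ext
        (inv_mul_cancel_right w' w) (Subtype.ext ?_))⟩
      · calc w' * w⁻¹ * u₀ = w' * (w⁻¹ * u₀ * w) * w⁻¹ := by group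
          _ = _ := by rw [← hq2]; group
      · show (c : G) * (((w' * w⁻¹ : P) : G))⁻¹ = (c' : G)
        push_cast
        calc (c : G) * ((w' : G) * (w : G)⁻¹)⁻¹
            = l * (l⁻¹ * (c : G) * (w : G)) * (w' : G)⁻¹ := by group
          _ = _ := by rw [← hq1]; group
  have hN : Nat.card P * Nat.card C =
      fib.card * Nat.card (Subgroup.centralizer ({u₀} : Set P)) := by
    rw [← Nat.card_prod, Nat.card_eq_fintype_card, ← Finset.card_univ,
      Finset.card_eq_sum_card_fiberwise hρ, Finset.sum_congr rfl hcard, Finset.sum_const,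
      smul_eq_mul]
  have hsummand : ∀ t ∈ fib, cP t.2 / cG t.2 * Φ (t.2 : G) (fu t.2) =
      cP u₀ / cG u₀ * Φ x a := by
    intro t ht
    obtain ⟨w, c, hwc⟩ := hfibre t ht
    have hπt := (Finset.mem_filter.1 ht).2
    have hPhi : Φ (t.2 : G) (fu t.2) = Φ x a := by
      rw [← hΦ t.1 (t.2 : G) (fu t.2), show t.1 * (t.2 : G) * t.1⁻¹ = x from congrArg Prod.fst hπt,
        show cjI t.1 (fu t.2) = a from congrArg Prod.snd hπt]
    have hu : t.2 = w⁻¹ * u₀ * w := (congrArg Prod.snd hwc).symm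
    rw [hPhi]
    simp only [hcP, hcG, hu]
    have e1 := card_centralizer_conj (w⁻¹) u₀
    have e2 := card_centralizer_conj ((w : G)⁻¹) (u₀ : G)
    rw [inv_inv] at e1 e2
    rw [e1, show ((w⁻¹ * u₀ * w : P) : G) = (w : G)⁻¹ * (u₀ : G) * (w : G) by push_cast; rfl, e2]
  rw [Finset.sum_congr rfl hsummand, Finset.sum_const, nsmul_eq_mul, ← mul_assoc]
  congr 1
  have hne : cG u₀ ≠ 0 := Nat.cast_ne_zero.2 Nat.card_pos.ne'
  rw [mul_div, eq_div_iff hne]
  simp only [hcP, hcG]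
  exact_mod_cast hN

end Cfsg.Agent.Char.Spec
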