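import Cfsg.Agent.Lib.Char.SourceIdem
import Cfsg.Agent.Lib.Char.NilpotentSections

/-!
The numerical data of a nilpotent block: the generalized decomposition numbers at the elements of a
defect group, their orthogonality, and the characters cut out by a source idempotent.
-/

open scoped ComplexConjugate

namespace Cfsg.Agent.Char.Spec

open Cfsg.Agent.Block Cfsg.Agent.Char.BP

set_option linter.unusedSectionVars false
set_option linter.style.haveILetI false
set_option maxHeartbeats 800000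

universe u

variable {G : Type u} [Group G] [Fintype G] {p : ℕ} {M : Ideal AlgInt}

/-- All members of the block are natural multiples of any member of height zero on the regular
elements, and the square norm of such a member there is the index of a defect group. -/
def RankOne {H : Type u} [Group H] (p : ℕ) (b : Set (IrrCharacter H)) : Prop :=
  ∀ χ ∈ b, blockHeight p b (χ : H → ℂ) = 0 →
    regSum p (χ : H → ℂ) (χ : H → ℂ) * (p : ℂ) ^ blockDefect p b = (Nat.card H : ℂ) ∧
      ∀ η ∈ b, ∃ n : ℕ, ∀ v : H, ¬ p ∣ orderOf v → (η : H → ℂ) v = (n : ℂ) * (χ : H → ℂ) v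

/-- The normalized pairing on the regular elements. -/
noncomputable def mReg (p : ℕ) (P : Subgroup G) (η η' : IrrCharacter G) : ℂ :=
  (Nat.card P : ℂ) / (Nat.card G : ℂ) * regSum p (η : G → ℂ) (η' : G → ℂ)

open Classical in
/-- The central elements of a subgroup. -/
noncomputable def zs (P : Subgroup G) [Fintype P] : Finset P :=
  Finset.univ.filter (fun u => (u : G) ∈ Subgroup.center G)

open Classical in
/-- The noncentral elements of a subgroup. -/
noncomputable def us (P : Subgroup G) [Fintype P] : Finset P :=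
  Finset.univ.filter (fun u => ¬ (u : G) ∈ Subgroup.center G)

/-- What is used about a nilpotent block and its source idempotent. -/
structure SrcData (p : ℕ) (M : Ideal AlgInt) (B : Set (IrrCharacter G)) (χ : IrrCharacter G) :
    Type u where
  P : Subgroup G
  card_P : Nat.card P = p ^ blockDefect p B
  th : IrrCharacter G → P → ℂ
  d : IrrCharacter G → P → ℂ
  n : P → ℕ
  m : IrrCharacter G → ℕ
  th_char : ∀ η, IsCharacter P (th η)
  d_int : ∀ η u, IsIntegral ℤ (d η u)
  th_us : ∀ η ∈ B, ∀ u : P, (u : G) ∉ Subgroup.center G → th η u = d η u * (n u : ℂ)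
  th_zs : ∀ η ∈ B, ∀ u : P, (u : G) ∈ Subgroup.center G →
    th η u = centralChar (η : G → ℂ) u * (m η : ℂ)
  orth : ∀ η ∈ B, ∀ η' ∈ B, ∀ [Fintype P] [Decidable (η = η')],
    (Nat.card P : ℂ) * (if η = η' then 1 else 0) = ∑ u ∈ us P, d η u * conj (d η' u) +
      (∑ z ∈ zs P, centralChar (η : G → ℂ) z * conj (centralChar (η' : G → ℂ) z)) * mReg p P η η'
  m_unit : ¬ p ∣ m χ
  m_reg : ∀ η ∈ B, ∀ w : ℂ, (∀ v : G, ¬ p ∣ orderOf v → (η : G → ℂ) v = w * (χ : G → ℂ) v) →
    (m η : ℂ) = w * (m χ : ℂ)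

theorem centralChar_of_center {η : IrrCharacter G} {z : G} (hz : z ∈ Subgroup.center G) (g : G) :
    (η : G → ℂ) (z * g) = centralChar (η : G → ℂ) z * (η : G → ℂ) g := by
  obtain ⟨s, -, hs⟩ := IsIrr.scalar_of_center η.2 hz
  have htop : Subgroup.centralizer ({z} : Set G) = ⊤ := eq_top_iff.mpr fun y _ => by
    rw [Subgroup.mem_centralizer_singleton_iff]
    exact Subgroup.mem_center_iff.mp hz y
  have h2 := hs 1
  rw [mul_one] at h2
  rw [centralChar, htop, Subgroup.index_top, Nat.cast_one, one_mul, h2,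
    mul_div_cancel_right₀ _ (irr_one_ne_zero η), hs g]

section Algebra

variable [DecidableEq G]

theorem ev_algOf_mul (f h : G → ℂ) (a : MonoidAlgebra ℂ G) :
    ev h (algOf (MonoidHom.id G) f * a) = ev (fun c => ∑ k : G, f k * h (k * c)) a := by
  simp only [ev, coeff_mul_apply, algOf_coeff_id, Finset.sum_mul]
  rw [Finset.sum_comm]
  refine Finset.sum_congr rfl fun c _ => ?_
  rw [Finset.mul_sum]
  refine Fintype.sum_equiv (Equiv.mulRight c⁻¹) _ _ fun g => ?_
  simp only [Equiv.coe_mulRight, inv_mul_cancel_right]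
  ring

theorem ev_single_mul (f : G → ℂ) (z : G) (a : MonoidAlgebra ℂ G) :
    ev f (MonoidAlgebra.single z (1 : ℂ) * a) = ev (fun g => f (z * g)) a := by
  simp only [ev, MonoidAlgebra.coeff_single_mul_apply, one_mul]
  refine Fintype.sum_equiv (Equiv.mulLeft z⁻¹) _ _ fun g => ?_
  simp only [Equiv.coe_mulLeft, mul_inv_cancel_left]

theorem ev_const_mul (r : ℂ) (f : G → ℂ) (a : MonoidAlgebra ℂ G) :
    ev (fun g => r * f g) a = r * ev f a := by
  simp only [ev, Finset.mul_sum]
  exact Finset.sum_congr rfl fun g _ => by ring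

theorem ev_eq_of_regular [Fact p.Prime] (hM : IsPModular p M) {j : MonoidAlgebra ℂ G}
    (hj : AlgRing M j) (hjj : j * j = j) {f f' : G → ℂ} (hf : IsClassFunction G f)
    (hf' : IsClassFunction G f') (h : ∀ g, ¬ p ∣ orderOf g → f g = f' g) : ev f j = ev f' j := by
  have h1 := ev_idem_eq_zero hM hj hjj (classFunction_sub hf hf') fun g hg => by
    rw [Pi.sub_apply, h g hg, sub_self]
  simp only [ev, Pi.sub_apply, mul_sub, Finset.sum_sub_distrib, sub_eq_zero] at h1
  exact h1

theorem ev_idem_nat {χ : G → ℂ} (hχ : IsCharacter G χ) {a : MonoidAlgebra ℂ G} (haa : a * a = a) :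
    ∃ n : ℕ, ev χ a = n := by
  obtain ⟨n, hn⟩ := IsChar.one_eq_nat (isCharacter_cut hχ (P := ⊥) haa fun u hu => by
    obtain rfl := Subgroup.mem_bot.1 hu
    rw [← MonoidAlgebra.one_def]
    exact Commute.one_left a)
  refine ⟨n, ?_⟩
  rw [← hn]
  show _ = ev χ (MonoidAlgebra.single ((1 : (⊥ : Subgroup G)) : G) (1 : ℂ) * a)
  rw [OneMemClass.coe_one, ← MonoidAlgebra.one_def, one_mul]

end Algebra

variable {B : Set (IrrCharacter G)} {P : Subgroup G} {e : Set (IrrCharacter (CG P))}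

theorem sum_regs_const_mul (Q : Subgroup G) [Fintype (CG Q)] (χu : CG Q → ℂ) (Φ Ψ : G → ℂ)
    (r r' : ℂ) (hφ : ∀ v : CG Q, ¬ p ∣ orderOf v → Φ v = r * χu v)
    (hψ : ∀ v : CG Q, ¬ p ∣ orderOf v → Ψ v = r' * χu v) :
    ∑ v ∈ regs p Q, Φ v * conj (Ψ v) = r * conj r' * regSum p χu χu := by
  classical
  rw [sum_regs_eq_regSum Q _ _ _ _ hφ hψ, regSum_eq_sum, regSum_eq_sum, Finset.mul_sum]
  refine Finset.sum_congr rfl fun v _ => ?_
  rw [map_mul]
  ring

/-- The data at a noncentral element of the defect group. -/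
theorem exists_local_coef [Fact p.Prime] [DecidableEq G] (hM : IsPModular p M)
    (hnil : IsNilpotentBlock p M B)
    (hIH : ∀ H : Subgroup G, H ≠ ⊤ → ∀ b : Set (IrrCharacter H), IsNilpotentBlock p M b →
      RankOne p b)
    (hx : IsMx p M B (⟨P, e⟩ : BrauerPairIdx G)) {i : MonoidAlgebra ℂ G}
    (hi : Fx M P i) (hii : i * i = i)
    (hloc : ∀ {r : BrauerPairIdx G}, LE p M r (⟨P, e⟩ : BrauerPairIdx G) →
      BrEq M r.1 (i * pz r) i)
    (u : P) (hu : (u : G) ∉ Subgroup.center G) {a : BrauerPairIdx G}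
    (ha1 : a.1 = Subgroup.zpowers (u : G)) (ha : LE p M a (⟨P, e⟩ : BrauerPairIdx G)) :
    ∃ (n : ℕ) (d : IrrCharacter G → ℂ), (∀ η, IsIntegral ℤ (d η)) ∧
      (∀ η ∈ B, ev (η : G → ℂ) (MonoidAlgebra.single (u : G) (1 : ℂ) * i) = d η * n) ∧
      ∀ η ∈ B, ∀ η' ∈ B, (Nat.card (Subgroup.centralizer ({u} : Set P)) : ℂ) /
          (Nat.card (Subgroup.centralizer ({(u : G)} : Set G)) : ℂ) *
          secT p (η : G → ℂ) (η' : G → ℂ) a (u : G) = d η * conj (d η') := by
  classical
  letI := Fintype.ofFinite (CG a.1)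
  have haC : CG a.1 = Subgroup.centralizer ({(u : G)} : Set G) := by rw [ha1, cg_zpowers]
  have hne : CG a.1 ≠ ⊤ := fun h => hu <| Subgroup.mem_center_iff.2 fun t =>
    Subgroup.mem_centralizer_singleton_iff.1 (haC ▸ h ▸ Subgroup.mem_top t)
  have haB : OfB p M B a := (ofB_le hM ha).1 hx.1
  have hnb := nilpotent_pair hM hnil haB
  obtain ⟨χu, hχu, h0u⟩ := exists_height_zero hM hnb.1
  obtain ⟨hR, hn⟩ := hIH (CG a.1) hne a.2 hnb χu hχu h0u
  have hdef := card_defectGroup hM hnb.1 (defect_pair_of_nilpotent hM hnil hx ha)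
  rw [Nat.card_congr (Subgroup.subgroupOfEquivOfLe
    (inf_le_right : P ⊓ CG a.1 ≤ CG a.1)).toEquiv] at hdef
  have hcP : Nat.card (Subgroup.centralizer ({u} : Set P)) = p ^ blockDefect p a.2 := by
    rw [← card_centralizer_coe, ← ha1, hdef]
  have hua : (u : G) ∈ a.1 := ha1 ▸ Subgroup.mem_zpowers (u : G)
  have hcoef := fun η : IrrCharacter G => exists_sct_coef (irr_isChar η) (a := a)
    (self_mem_cg ha1) hua
  choose c hcint hc using hcoef
  choose nf hnf using hn
  let N : IrrCharacter (CG a.1) → ℕ := fun ξ => if h : ξ ∈ a.2 then nf ξ h else 0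
  let d : IrrCharacter G → ℂ := fun η => ∑ ξ ∈ Finset.univ.filter (· ∈ a.2), c η ξ * (N ξ : ℂ)
  have hd : ∀ (η : IrrCharacter G) (v : CG a.1), ¬ p ∣ orderOf v →
      sct (η : G → ℂ) a (u : G) (v : G) = d η * (χu : CG a.1 → ℂ) v := by
    intro η v hv
    simp only [d]
    rw [hc, Finset.sum_mul]
    refine Finset.sum_congr rfl fun ξ hξ => ?_
    simp only [N, dif_pos (Finset.mem_filter.1 hξ).2]
    rw [hnf ξ _ v hv, mul_assoc]
  obtain ⟨j, hj, hjj, hzj, hij⟩ :=
    exists_idem_centralizer hM (le_isPr ha hx.1.1) (hi.mono (le_subgroup ha)) hii (hloc ha)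
  obtain ⟨n, hn'⟩ := ev_idem_nat (irr_isChar χu) hjj
  obtain ⟨k, hk⟩ := pPow_of_mem hx.1.1.1 u.2
  refine ⟨n, d, fun η => IsIntegral.sum _ fun ξ _ => (hcint η ξ).mul ?_, fun η hη => ?_,
    fun η hη η' hη' => ?_⟩
  · simpa using isIntegral_algebraMap (R := ℤ) (A := ℂ) (x := ((N ξ : ℕ) : ℤ))
  · rw [ev_centralizer hM (le_isPr ha hx.1.1) ha1 hk (hi.mono (le_subgroup ha)) hii hj hjj hij
      (irr_classFun η)]
    show ev (fun c : CG a.1 => (η : G → ℂ) ((u : G) * (c : G))) j = _
    conv_lhs => rw [← hzj, ev_algOf_mul]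
    have hs : (fun c : CG a.1 => ∑ k : CG a.1,
        blockCoeff a.2 k * (η : G → ℂ) ((u : G) * ((k * c : CG a.1) : G))) =
        fun c : CG a.1 => sct (η : G → ℂ) a (u : G) (c : G) := funext fun c => by
      rw [sct_eq_sub]
      simp only [Subgroup.coe_mul, mul_assoc]
    rw [hs, ev_eq_of_regular hM hj hjj (f' := fun c => d η * (χu : CG a.1 → ℂ) c) ?_ ?_
      (fun v hv => hd η v hv), ev_const_mul, hn']
    · intro g t
      show sct (η : G → ℂ) a (u : G) ((t * g * t⁻¹ : CG a.1) : G) = sct (η : G → ℂ) a (u : G) (g : G)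
      rw [hc, hc]
      exact Finset.sum_congr rfl fun ξ _ => by rw [irr_classFun ξ g t]
    · intro g t
      show d η * (χu : CG a.1 → ℂ) (t * g * t⁻¹) = d η * (χu : CG a.1 → ℂ) g
      rw [irr_classFun χu g t]
  · rw [secT, sum_regs_const_mul a.1 (χu : CG a.1 → ℂ) _ _ (d η) (d η') (hd η) (hd η'), ← haC,
      hcP]
    rw [Nat.cast_pow, ← hR]
    have h1 : regSum p (χu : CG a.1 → ℂ) (χu : CG a.1 → ℂ) * (p : ℂ) ^ blockDefect p a.2 ≠ 0 := by
      rw [hR]; exact Nat.cast_ne_zero.2 Nat.card_pos.ne'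
    obtain ⟨hr, hp⟩ := ne_zero_and_ne_zero_of_mul h1
    field_simp

/-- The section of a block at a central element of its defect group is the whole section. -/
theorem sct_center [Fact p.Prime] (hM : IsPModular p M) (hB : IsPBlock M B)
    (hx : IsMx p M B (⟨P, e⟩ : BrauerPairIdx G)) {u : P} (hu : (u : G) ∈ Subgroup.center G)
    {a : BrauerPairIdx G} (ha1 : a.1 = Subgroup.zpowers (u : G))
    (ha : LE p M a (⟨P, e⟩ : BrauerPairIdx G)) {η : IrrCharacter G} (hη : η ∈ B) {v : G}
    (hv : ¬ p ∣ orderOf v) :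
    sct (η : G → ℂ) a (u : G) v = centralChar (η : G → ℂ) (u : G) * (η : G → ℂ) v := by
  classical
  have htop : ∀ t : G, t ∈ CG a.1 := fun t => by
    rw [ha1, cg_zpowers, Subgroup.mem_centralizer_singleton_iff]
    exact Subgroup.mem_center_iff.1 hu t
  obtain ⟨Q, f⟩ := a
  rw [← centralChar_of_center hu, value_eq_sum_blks hM Q (η : G → ℂ) (u : G) v,
    Finset.sum_eq_single f]
  · intro b hb hne
    have hpr : IsPr p M (⟨Q, b⟩ : BrauerPairIdx G) :=
      ⟨(le_isPr ha hx.1.1).1, (mem_blks (M := M) (W := CG Q) (f := b)).1 hb⟩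
    refine sct_eq_zero (a := (⟨Q, b⟩ : BrauerPairIdx G)) (x := (u : G)) (v := v) hM hη hB hpr
      (pPow_of_mem hx.1.1.1 u.2) ha1 (fun hof => hne ?_) (htop v) hv
    obtain ⟨l, hl⟩ := le_conj_max hM hof hx
    rw [cjI_eq_of_stab (cg_le_stab (⟨Q, b⟩ : BrauerPairIdx G) (htop l))] at hl
    exact eq_of_heq (Sigma.mk.inj_iff.1 (le_unique hM hl ha rfl)).2
  · exact fun h => absurd (mem_blks.2 (le_isPr ha hx.1.1).2) h

/-- A nilpotent block with a character of height zero gives the data. -/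
theorem exists_srcData [Fact p.Prime] (hM : IsPModular p M) (hnil : IsNilpotentBlock p M B)
    (hIH : ∀ H : Subgroup G, H ≠ ⊤ → ∀ b : Set (IrrCharacter H), IsNilpotentBlock p M b →
      RankOne p b)
    {χ : IrrCharacter G} (hχ : χ ∈ B) (h0 : blockHeight p B (χ : G → ℂ) = 0)
    {P : Subgroup G} (hD : IsDefectGroup p M B P) :
    ∃ S : SrcData p M B χ, S.P = P := by
  classical
  have hB := hnil.1
  letI := Fintype.ofFinite P
  obtain ⟨i, e, hi, hx, hu, htop⟩ := exists_source hM hB hχ h0 hD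
  have hP : IsPGroup p P := IsDefectGroup.isPGroup hD
  have hloc : ∀ {r : BrauerPairIdx G}, LE p M r (⟨P, e⟩ : BrauerPairIdx G) →
      BrEq M r.1 (i * pz r) i := fun {r} hr =>
    source_local hM hx.1.1 hi (not_brEq_zero hM hP (irr_isChar χ) hi.1 hu) htop hr
  obtain ⟨F, hF, -⟩ := exists_saturated hM hx
  have hin := inner_of_nilpotent hM hnil hF
  have hex : ∀ u : P, ∃ a : BrauerPairIdx G, a.1 = Subgroup.zpowers (u : G) ∧
      LE p M a (⟨P, e⟩ : BrauerPairIdx G) := fun u => by
    obtain ⟨a, ha1, ha⟩ := exists_le hM hx.1.1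
      (Q := Subgroup.zpowers (u : G)) (Subgroup.zpowers_le.2 u.2)
    exact ⟨a, ha1, ha⟩
  choose fu hfu1 hfu using hex
  have hloc' : ∀ u : P, ∃ (n : ℕ) (d : IrrCharacter G → ℂ), (∀ η, IsIntegral ℤ (d η)) ∧
      ((u : G) ∉ Subgroup.center G →
        (∀ η ∈ B, ev (η : G → ℂ) (MonoidAlgebra.single (u : G) (1 : ℂ) * i) = d η * n) ∧
        ∀ η ∈ B, ∀ η' ∈ B, (Nat.card (Subgroup.centralizer ({u} : Set P)) : ℂ) /
          (Nat.card (Subgroup.centralizer ({(u : G)} : Set G)) : ℂ) *
          secT p (η : G → ℂ) (η' : G → ℂ) (fu u) (u : G) = d η * conj (d η')) := by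
    intro u
    by_cases hu' : (u : G) ∈ Subgroup.center G
    · exact ⟨0, fun _ => 0, fun _ => isIntegral_zero, fun h => absurd hu' h⟩
    · obtain ⟨n, d, hd, h1, h2⟩ :=
        exists_local_coef hM hnil hIH hx hi.1 hi.2.1 hloc u hu' (hfu1 u) (hfu u)
      exact ⟨n, d, hd, fun _ => ⟨h1, h2⟩⟩
  choose n d hd hnd using hloc'
  choose m hm using fun η : IrrCharacter G => ev_idem_nat (irr_isChar η) hi.2.1
  refine ⟨{
    P := P
    card_P := card_defectGroup hM hB hD
    th := fun η u => ev (η : G → ℂ) (MonoidAlgebra.single (u : G) (1 : ℂ) * i)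
    d := fun η u => d u η
    n := n
    m := m
    th_char := fun η => isCharacter_cut (irr_isChar η) hi.2.1 hi.1.2
    d_int := fun η u => hd u η
    th_us := fun η hη u hu' => (hnd u hu').1 η hη
    th_zs := fun η _ u hu' => ?_
    orth := ?_
    m_unit := fun hp => hu ?_
    m_reg := fun η _ w hw => ?_ }, rfl⟩
  · rw [ev_single_mul, funext (centralChar_of_center hu'), ev_const_mul, hm]
  · intro η hη η' hη' inst inst'
    obtain rfl : inst = Fintype.ofFinite P := Subsingleton.elim _ _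
    set Φ : G → BrauerPairIdx G → ℂ := fun x a => secT p (η : G → ℂ) (η' : G → ℂ) a x
    have h1 := sum_secs_inner hM hF hin fu hfu1 hfu Φ
      fun g x a => secT_conj (irr_classFun η) (irr_classFun η') a g x
    rw [← sum_eq_sum_secs hM hB hη hη'] at h1
    have h2 : ∑ g : G, (η : G → ℂ) g * conj ((η' : G → ℂ) g) =
        (Nat.card G : ℂ) * (if η = η' then 1 else 0) := by
      have h := classInner_irr_eq_ite η.2 η'.2
      rw [classInner, inv_mul_eq_iff_eq_mul₀ (Nat.cast_ne_zero.2 Nat.card_pos.ne')] at h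
      rw [h]
      congr 1
      exact if_congr ⟨fun h' => Subtype.ext h', fun h' => congrArg Subtype.val h'⟩ rfl rfl
    rw [h2, mul_left_comm] at h1
    rw [mul_left_cancel₀ (Nat.cast_ne_zero.2 Nat.card_pos.ne') h1,
      ← Finset.sum_filter_not_add_sum_filter Finset.univ (fun u : P => (u : G) ∈ Subgroup.center G),
      Finset.sum_mul]
    refine congrArg₂ (· + ·) (Finset.sum_congr ?_ fun u hu' => ?_)
      (Finset.sum_congr ?_ fun u hu' => ?_)
    · simp [us]
    · exact (hnd u (by simpa [us] using hu')).2 η hη η' hη'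
    · simp [zs]
    · have hz : (u : G) ∈ Subgroup.center G := by simpa [zs] using hu'
      have hCP : Subgroup.centralizer ({u} : Set P) = ⊤ := eq_top_iff.mpr fun t _ =>
        Subgroup.mem_centralizer_singleton_iff.2 (Subtype.ext (Subgroup.mem_center_iff.1 hz t))
      have hCG : Subgroup.centralizer ({(u : G)} : Set G) = ⊤ := eq_top_iff.mpr fun t _ =>
        Subgroup.mem_centralizer_singleton_iff.2 (Subgroup.mem_center_iff.1 hz t)
      have hregs : regs p (fu u).1 = Finset.univ.filter (fun v : G => ¬ p ∣ orderOf v) := by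
        ext v
        rw [mem_regs, hfu1, cg_zpowers, hCG]
        simp
      simp only [hCP, hCG, Subgroup.card_top, Φ, secT, mReg, regSum_eq_sum, hregs, Finset.mul_sum]
      refine Finset.sum_congr rfl fun v hv => ?_
      rw [sct_center hM hB hx hz (hfu1 u) (hfu u) hη (Finset.mem_filter.1 hv).2,
        sct_center hM hB hx hz (hfu1 u) (hfu u) hη' (Finset.mem_filter.1 hv).2, map_mul]
      ring
  · rw [hm χ]
    exact (ideal_natCast_iff hM _).2 hp
  · rw [← hm, ← hm, ev_eq_of_regular hM hi.1.1 hi.2.1 (irr_classFun η)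
      (f' := fun g => w * (χ : G → ℂ) g)
      (fun g t => by show w * _ = w * _; rw [irr_classFun χ g t]) hw, ev_const_mul]

end Cfsg.Agent.Char.Spec
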