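import Mathlib.RingTheory.Idempotents
import Mathlib.Algebra.Algebra.Basic
import Mathlib.LinearAlgebra.FiniteDimensional.Basic

/-!
The corner of an algebra at an idempotent as an algebra.
-/

namespace Cfsg.Agent.Char.Corner

variable {K R : Type*} [Field K] [Ring R] [Algebra K R] {e : R}

theorem val_mem (he : IsIdempotentElem e) (x : he.Corner) : e * x.1 = x.1 ∧ x.1 * e = x.1 :=
  (Subsemigroup.mem_corner_iff he).1 x.2

noncomputable instance cornerAlgebra (he : IsIdempotentElem e) : Algebra K he.Corner where
  smul c x := ⟨c • x.1, (Subsemigroup.mem_corner_iff he).2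
    ⟨by rw [mul_smul_comm, (val_mem he x).1], by rw [smul_mul_assoc, (val_mem he x).2]⟩⟩
  algebraMap :=
    { toFun := fun c => ⟨c • e, (Subsemigroup.mem_corner_iff he).2
        ⟨by rw [mul_smul_comm, he.eq], by rw [smul_mul_assoc, he.eq]⟩⟩
      map_one' := Subtype.ext (one_smul K e)
      map_mul' := fun a b => Subtype.ext (show (a * b) • e = (a • e) * (b • e) by
        rw [smul_mul_smul_comm, he.eq])
      map_zero' := Subtype.ext (zero_smul K e)
      map_add' := fun a b => Subtype.ext (add_smul a b e) }
  commutes' c x := Subtype.ext (show (c • e) * x.1 = x.1 * (c • e) by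
    rw [mul_smul_comm, smul_mul_assoc, (val_mem he x).1, (val_mem he x).2])
  smul_def' c x := Subtype.ext (show c • x.1 = (c • e) * x.1 by
    rw [smul_mul_assoc, (val_mem he x).1])

/-- The inclusion of the corner. -/
noncomputable def incl (he : IsIdempotentElem e) : he.Corner →ₗ[K] R where
  toFun x := x.1
  map_add' _ _ := rfl
  map_smul' _ _ := rfl

theorem incl_apply (he : IsIdempotentElem e) (x : he.Corner) : incl (K := K) he x = x.1 := rfl

theorem incl_injective (he : IsIdempotentElem e) : Function.Injective (incl (K := K) he) :=
  Subtype.val_injective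

instance cornerFinite (he : IsIdempotentElem e) [Module.Finite K R] :
    Module.Finite K he.Corner :=
  FiniteDimensional.of_injective (incl he) (incl_injective he)

/-- The projection to the corner. -/
noncomputable def proj (he : IsIdempotentElem e) : R →ₗ[K] he.Corner where
  toFun x := ⟨e * x * e, x, rfl⟩
  map_add' x y := Subtype.ext (show e * (x + y) * e = e * x * e + e * y * e by
    rw [mul_add, add_mul])
  map_smul' c x := Subtype.ext (show e * (c • x) * e = c • (e * x * e) by
    rw [mul_smul_comm, smul_mul_assoc])

theorem proj_val (he : IsIdempotentElem e) (x : R) : (proj (K := K) he x).1 = e * x * e := rfl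

theorem proj_self (he : IsIdempotentElem e) (x : he.Corner) : proj (K := K) he x.1 = x :=
  Subtype.ext (by rw [proj_val, (val_mem he x).1, (val_mem he x).2])

theorem proj_mul_mid (he : IsIdempotentElem e) (u v : R) :
    proj (K := K) he (u * e * v) = proj (K := K) he u * proj (K := K) he v :=
  Subtype.ext (show e * (u * e * v) * e = (e * u * e) * (e * v * e) by
    simp only [mul_assoc]
    rw [← mul_assoc e e (v * e), he.eq])

theorem proj_mul_right (he : IsIdempotentElem e) (x : R) :
    proj (K := K) he (x * e) = proj (K := K) he x :=
  Subtype.ext (show e * (x * e) * e = e * x * e by rw [← mul_assoc, mul_assoc, he.eq])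

end Cfsg.Agent.Char.Corner
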