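import Mathlib.LinearAlgebra.Dual.Lemmas
import Mathlib.LinearAlgebra.Dimension.Constructions
import Mathlib.RingTheory.Artinian.Ring
import Mathlib.RingTheory.Jacobson.Ideal
import Mathlib.Algebra.Algebra.Operations
import Mathlib.RingTheory.Adjoin.Basic
import Mathlib.RingTheory.Nilpotent.Lemmas
import Mathlib.RingTheory.Nilpotent.Basic
import Mathlib.Tactic.FieldSimp
import Mathlib.Tactic.Ring
import Mathlib.Tactic.Module
import Mathlib.Tactic.LinearCombination

/-!
Local symmetric algebras: if the trace quotient has dimension at most four, the algebra is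
commutative.
-/

namespace Cfsg.Agent.Char.LocAlg

variable {K : Type*} [Field K] {A : Type*} [Ring A] [Algebra K A]

/-- Every element is a scalar plus a nilpotent. -/
def IsScalarLocal (K A : Type*) [Field K] [Ring A] [Algebra K A] : Prop :=
  ∀ a : A, ∃ c : K, IsNilpotent (a - algebraMap K A c)

/-- The span of the commutators. -/
def commSpan (K A : Type*) [Field K] [Ring A] [Algebra K A] : Submodule K A :=
  Submodule.span K {z | ∃ a b : A, z = a * b - b * a}

theorem comm_mem_commSpan (a b : A) : a * b - b * a ∈ commSpan K A :=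
  Submodule.subset_span ⟨a, b, rfl⟩

variable [FiniteDimensional K A]

theorem isUnit_of_scalar (hA : IsScalarLocal K A) {a : A} (h : ¬ IsNilpotent a) : IsUnit a := by
  obtain ⟨c, hc⟩ := hA a
  have hc0 : c ≠ 0 := fun h0 => h (by simpa [h0] using hc)
  have h1 := IsNilpotent.isUnit_add_left_of_commute hc ((IsUnit.mk0 c hc0).map (algebraMap K A))
    (Algebra.commutes c _).symm
  simpa using h1

theorem nilpotent_mul (hA : IsScalarLocal K A) {a : A} (ha : IsNilpotent a) (b : A) :
    IsNilpotent (a * b) ∧ IsNilpotent (b * a) := by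
  rcases subsingleton_or_nontrivial A with h | h
  · exact ⟨⟨1, Subsingleton.elim _ _⟩, ⟨1, Subsingleton.elim _ _⟩⟩
  haveI : IsArtinianRing A := IsArtinianRing.of_finite K A
  refine ⟨?_, ?_⟩ <;> by_contra hn
  · exact IsNilpotent.not_isUnit ha (isUnit_of_mul_isUnit_left (isUnit_of_scalar hA hn))
  · exact IsNilpotent.not_isUnit ha (isUnit_of_mul_isUnit_right (isUnit_of_scalar hA hn))

theorem nilpotent_add (hA : IsScalarLocal K A) {a b : A} (ha : IsNilpotent a)
    (hb : IsNilpotent b) : IsNilpotent (a + b) := by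
  rcases subsingleton_or_nontrivial A with h | h
  · exact ⟨1, Subsingleton.elim _ _⟩
  by_contra hn
  obtain ⟨u, hu⟩ := isUnit_of_scalar hA hn
  have h1 : (↑u⁻¹ : A) * b = 1 - ↑u⁻¹ * a := by
    rw [eq_sub_iff_add_eq, ← mul_add, add_comm b a, ← hu, Units.inv_mul]
  exact IsNilpotent.not_isUnit (nilpotent_mul hA hb _).2
    (h1 ▸ IsNilpotent.isUnit_one_sub (nilpotent_mul hA ha _).2)

/-- The maximal ideal. -/
def rad (hA : IsScalarLocal K A) : Submodule K A where
  carrier := {a | IsNilpotent a}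
  zero_mem' := IsNilpotent.zero
  add_mem' := fun ha hb => nilpotent_add hA ha hb
  smul_mem' := fun c a ha => by
    show IsNilpotent (c • a)
    rw [Algebra.smul_def]
    exact (nilpotent_mul hA ha _).2

theorem mem_rad {hA : IsScalarLocal K A} {a : A} : a ∈ rad hA ↔ IsNilpotent a := Iff.rfl

theorem rad_mul_mem (hA : IsScalarLocal K A) {a : A} (ha : a ∈ rad hA) (b : A) :
    a * b ∈ rad hA ∧ b * a ∈ rad hA := nilpotent_mul hA ha b

theorem exists_rad_pow_eq_bot (hA : IsScalarLocal K A) : ∃ n : ℕ, 0 < n ∧ rad hA ^ n = ⊥ := by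
  haveI : IsArtinianRing A := IsArtinianRing.of_finite K A
  obtain ⟨n, hn⟩ := IsArtinianRing.isNilpotent_jacobson_bot (R := A)
  refine ⟨n + 1, n.succ_pos, ?_⟩
  have hle : ∀ x ∈ rad hA, x ∈ Ideal.jacobson (⊥ : Ideal A) := fun x hx => by
    rw [Ideal.mem_jacobson_iff]
    intro y
    obtain ⟨u, hu⟩ := IsNilpotent.isUnit_add_one (nilpotent_mul hA hx y).2
    refine ⟨↑u⁻¹, ?_⟩
    rw [Ideal.mem_bot, mul_assoc, ← sub_eq_zero.2 (Units.inv_mul u), hu, mul_add, mul_one]
  have hpow : ∀ m : ℕ, 0 < m → ∀ x ∈ rad hA ^ m, x ∈ Ideal.jacobson (⊥ : Ideal A) ^ m := by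
    intro m hm
    induction m with
    | zero => omega
    | succ m ih =>
      intro x hx
      rcases m.eq_zero_or_pos with rfl | h0
      · rw [zero_add, Submodule.pow_one]
        exact hle x (by simpa using hx)
      · rw [pow_succ] at hx
        rw [Submodule.pow_succ]
        induction hx using Submodule.mul_induction_on' with
        | mem_mul_mem u hu v hv => exact Ideal.mul_mem_mul (ih h0 u hu) (hle v hv)
        | add u _ v _ hu hv => exact add_mem hu hv
  rw [Submodule.eq_bot_iff]
  intro x hx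
  have h1 := hpow (n + 1) n.succ_pos x hx
  rcases n.eq_zero_or_pos with rfl | h0
  · rw [Submodule.pow_zero] at hn
    exact (Submodule.mem_bot _).1 (hn.le (show x ∈ (1 : Ideal A) from by simp))
  rw [Submodule.pow_succ, hn, zero_mul] at h1
  exact h1

variable {hA : IsScalarLocal K A}

theorem rad_pow_anti {i j : ℕ} (hi : 0 < i) (hij : i ≤ j) : rad hA ^ j ≤ rad hA ^ i := by
  induction j, hij using Nat.le_induction with
  | base => exact le_rfl
  | succ j hij ih =>
    refine le_trans ?_ ih
    obtain ⟨j, rfl⟩ : ∃ k, j = k + 1 := ⟨j - 1, by omega⟩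
    rw [pow_succ (rad hA) (j + 1), pow_succ (rad hA) j, mul_assoc]
    exact mul_le_mul' le_rfl (Submodule.mul_le.2 fun a ha b _ => (rad_mul_mem hA ha b).1)

theorem eq_bot_of_rad_pow_le {i : ℕ} (hi : 0 < i) (h : rad hA ^ i ≤ rad hA ^ (i + 1)) :
    rad hA ^ i = ⊥ := by
  obtain ⟨n, hn, hn0⟩ := exists_rad_pow_eq_bot hA
  have h1 : ∀ m, rad hA ^ i ≤ rad hA ^ (i + m) := by
    intro m
    induction m with
    | zero => exact le_rfl
    | succ m ih =>
      refine ih.trans ?_
      have : rad hA ^ i * rad hA ^ m ≤ rad hA ^ (i + 1) * rad hA ^ m := mul_le_mul' h le_rfl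
      rwa [← pow_add, ← pow_add, show i + 1 + m = i + (m + 1) by omega] at this
  exact le_bot_iff.1 ((h1 n).trans ((rad_pow_anti hn (by omega)).trans hn0.le))

/-- A nonzero element of a given power killed by the radical on both sides. -/
theorem exists_socle (hA : IsScalarLocal K A) {i : ℕ} (hi : 0 < i) (h : rad hA ^ i ≠ ⊥) :
    ∃ s ∈ rad hA ^ i, s ≠ 0 ∧ ∀ a ∈ rad hA, s * a = 0 ∧ a * s = 0 := by
  classical
  obtain ⟨n, hn, hn0⟩ := exists_rad_pow_eq_bot hA
  have hex : ∃ m, rad hA ^ (i + m) = ⊥ := ⟨n, le_bot_iff.1 ((rad_pow_anti hn (by omega)).trans hn0.le)⟩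
  obtain ⟨m, hm, hmin⟩ : ∃ m, rad hA ^ (i + m) = ⊥ ∧ ∀ l < m, rad hA ^ (i + l) ≠ ⊥ :=
    ⟨Nat.find hex, Nat.find_spec hex, fun l hl => Nat.find_min hex hl⟩
  obtain ⟨m, rfl⟩ : ∃ l, m = l + 1 := ⟨m - 1, by
    rcases m with _ | m
    · exact absurd hm h
    · omega⟩
  obtain ⟨s, hs, hs0⟩ := (Submodule.ne_bot_iff _).1 (hmin m (Nat.lt_succ_self m))
  rw [← Nat.add_assoc] at hm
  refine ⟨s, rad_pow_anti hi (by omega) hs, hs0, fun a ha => ⟨?_, ?_⟩⟩
  · have h1 : s * a ∈ rad hA ^ (i + m + 1) := by
      rw [pow_succ]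
      exact Submodule.mul_mem_mul hs ha
    rwa [hm, Submodule.mem_bot] at h1
  · have h1 : a * s ∈ rad hA ^ (i + m + 1) := by
      rw [pow_succ']
      exact Submodule.mul_mem_mul ha hs
    rwa [hm, Submodule.mem_bot] at h1

theorem commSpan_le_sq (hA : IsScalarLocal K A) : commSpan K A ≤ rad hA ^ 2 := by
  refine Submodule.span_le.2 ?_
  rintro _ ⟨a, b, rfl⟩
  obtain ⟨c, hc⟩ := hA a
  obtain ⟨d, hd⟩ := hA b
  show a * b - b * a ∈ rad hA ^ 2
  have e : a * b - b * a = (a - algebraMap K A c) * (b - algebraMap K A d) -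
      (b - algebraMap K A d) * (a - algebraMap K A c) := by
    simp only [sub_mul, mul_sub, Algebra.commutes c b, Algebra.commutes d a,
      Algebra.commutes c (algebraMap K A d)]
    abel
  rw [e, pow_two]
  exact Submodule.sub_mem _ (Submodule.mul_mem_mul hc hd) (Submodule.mul_mem_mul hd hc)

theorem finrank_rad [Nontrivial A] (hA : IsScalarLocal K A) :
    Module.finrank K A = Module.finrank K (rad hA) + 1 := by
  have hc : IsCompl (rad hA) (Submodule.span K {(1 : A)}) := by
    refine ⟨Submodule.disjoint_def.2 fun x hx hx1 => ?_, codisjoint_iff.2 (eq_top_iff.2 fun x _ => ?_)⟩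
    · obtain ⟨c, rfl⟩ := Submodule.mem_span_singleton.1 hx1
      by_contra h
      have hc0 : c ≠ 0 := fun h0 => h (by rw [h0, zero_smul])
      have h1 := (rad hA).smul_mem c⁻¹ hx
      rw [inv_smul_smul₀ hc0] at h1
      exact IsNilpotent.not_isUnit (mem_rad.1 h1) isUnit_one
    · obtain ⟨c, hc⟩ := hA x
      rw [← sub_add_cancel x (algebraMap K A c)]
      exact Submodule.add_mem_sup hc (Submodule.mem_span_singleton.2
        ⟨c, (Algebra.algebraMap_eq_smul_one c).symm⟩)
  rw [← Submodule.finrank_add_eq_of_isCompl hc, finrank_span_singleton one_ne_zero]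

/-- If the radical is generated by one element, the algebra is commutative. -/
theorem comm_of_le_span (hA : IsScalarLocal K A) {x : A} (hx : x ∈ rad hA)
    (h : rad hA ≤ Submodule.span K {x} ⊔ rad hA ^ 2) (a b : A) : a * b = b * a := by
  have hpw : ∀ j : ℕ, Submodule.span K {x ^ j} ≤ rad hA ^ j := fun j =>
    (Submodule.span_singleton_le_iff_mem _ _).2 (Submodule.pow_mem_pow _ hx j)
  have hstep : ∀ j : ℕ, rad hA ^ (j + 1) ≤
      Submodule.span K {x ^ (j + 1)} ⊔ rad hA ^ (j + 2) := by
    intro j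
    induction j with
    | zero => simpa using h
    | succ j ih =>
      rw [pow_succ (rad hA) (j + 1)]
      refine (mul_le_mul' ih h).trans ?_
      rw [Submodule.sup_mul]
      refine sup_le ?_ ?_
      · rw [Submodule.mul_sup]
        refine sup_le ?_ ?_
        · rw [Submodule.span_mul_span, Set.singleton_mul_singleton, ← pow_succ]
          exact le_sup_left
        · refine le_trans ?_ le_sup_right
          calc Submodule.span K {x ^ (j + 1)} * rad hA ^ 2 ≤ rad hA ^ (j + 1) * rad hA ^ 2 :=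
                mul_le_mul' (hpw _) le_rfl
            _ = rad hA ^ (j + 1 + 2) := (pow_add _ _ _).symm
      · refine le_trans ?_ le_sup_right
        rw [show j + 1 + 2 = j + 2 + 1 from rfl, pow_succ (rad hA) (j + 2)]
        exact mul_le_mul' le_rfl (sup_le ((Submodule.span_singleton_le_iff_mem _ _).2 hx)
          ((rad_pow_anti one_pos one_le_two).trans (pow_one _).le))
  obtain ⟨n, hn, hn0⟩ := exists_rad_pow_eq_bot hA
  have hsub : ∀ i j : ℕ, n ≤ i + j + 1 → rad hA ^ (j + 1) ≤ (Algebra.adjoin K {x}).toSubmodule := by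
    intro i
    induction i with
    | zero =>
      intro j hj
      exact (rad_pow_anti hn (by omega)).trans (hn0.le.trans bot_le)
    | succ i ih =>
      intro j hj
      refine (hstep j).trans (sup_le ((Submodule.span_singleton_le_iff_mem _ _).2 ?_)
        (ih (j + 1) (by omega)))
      exact pow_mem (Algebra.subset_adjoin (R := K) (Set.mem_singleton x)) _
  have hall : ∀ y : A, y ∈ Algebra.adjoin K {x} := fun y => by
    obtain ⟨c, hc⟩ := hA y
    rw [← sub_add_cancel y (algebraMap K A c)]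
    exact add_mem (hsub n 0 (by omega) (by rw [zero_add, pow_one]; exact hc)) (Subalgebra.algebraMap_mem _ c)
  exact Algebra.commute_of_mem_adjoin_singleton_of_commute (hall b)
    (Algebra.commute_of_mem_adjoin_singleton_of_commute (hall a) (Commute.refl x)).symm |>.eq

theorem finrank_quot_commSpan_ge [Nontrivial A] (hA : IsScalarLocal K A) :
    Module.finrank K (A ⧸ commSpan K A) + Module.finrank K (commSpan K A) =
      Module.finrank K (rad hA) + 1 := by
  rw [Submodule.finrank_quotient_add_finrank, finrank_rad hA]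

theorem comm_of_finrank (hA : IsScalarLocal K A)
    (h : Module.finrank K (rad hA) ≤ Module.finrank K (rad hA ^ 2 : Submodule K A) + 1) (a b : A) :
    a * b = b * a := by
  classical
  by_cases h' : rad hA ≤ rad hA ^ 2
  · exact comm_of_le_span hA (x := 0) (rad hA).zero_mem (h'.trans le_sup_right) a b
  obtain ⟨x, hx, hxn⟩ := SetLike.not_le_iff_exists.1 h'
  refine comm_of_le_span hA hx (le_of_eq (Submodule.eq_of_le_of_finrank_le ?_ ?_).symm) a b
  · exact sup_le ((Submodule.span_singleton_le_iff_mem _ _).2 hx)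
      ((rad_pow_anti one_pos one_le_two).trans (pow_one _).le)
  · have h3 : rad hA ^ 2 < Submodule.span K {x} ⊔ rad hA ^ 2 :=
      right_lt_sup.2 fun hle => hxn (hle (Submodule.mem_span_singleton_self x))
    have h4 := Submodule.finrank_lt_finrank_of_lt h3
    omega

/-- A small trace quotient forces commutativity. -/
theorem comm_of_quot_le_two [Nontrivial A] (hA : IsScalarLocal K A)
    (hk : Module.finrank K (A ⧸ commSpan K A) ≤ 2) (a b : A) : a * b = b * a := by
  have h1 := finrank_quot_commSpan_ge hA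
  have h2 := Submodule.finrank_mono (commSpan_le_sq hA)
  exact comm_of_finrank hA (by omega) a b

/-- A symmetric nondegenerate form on a local algebra does not vanish on the socle. -/
theorem form_socle_ne_zero (hA : IsScalarLocal K A) {t : A →ₗ[K] K}
    (hnd : ∀ a, a ≠ 0 → ∃ b, t (a * b) ≠ 0) {s : A} (hs : s ≠ 0)
    (hsa : ∀ a ∈ rad hA, s * a = 0) : t s ≠ 0 := by
  intro h0
  obtain ⟨b, hb⟩ := hnd s hs
  obtain ⟨c, hc⟩ := hA b
  apply hb
  rw [← sub_add_cancel b (algebraMap K A c), mul_add, hsa _ hc, zero_add,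
    ← Algebra.commutes, ← Algebra.smul_def, map_smul, h0, smul_zero]

theorem socle_notMem_commSpan (hA : IsScalarLocal K A) {t : A →ₗ[K] K}
    (hsym : ∀ a b, t (a * b) = t (b * a)) (hnd : ∀ a, a ≠ 0 → ∃ b, t (a * b) ≠ 0) {s : A}
    (hs : s ≠ 0) (hsa : ∀ a ∈ rad hA, s * a = 0) : s ∉ commSpan K A := fun hm => by
  refine form_socle_ne_zero hA hnd hs hsa ?_
  have hle : commSpan K A ≤ LinearMap.ker t := Submodule.span_le.2 fun z ⟨a, b, hz⟩ => by
    rw [hz]
    simp [hsym a b]
  exact hle hm

/-- The cyclic invariance kills the trace functionals on the third power when the square of the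
radical is one-dimensional modulo the third, spanned by a commutator. -/
theorem cube_le_commSpan (hA : IsScalarLocal K A) {x y : A} (hx : x ∈ rad hA) (hy : y ∈ rad hA)
    (hgen : rad hA ^ 2 ≤ Submodule.span K {x * y - y * x} ⊔ rad hA ^ 3) :
    rad hA ^ 3 ≤ commSpan K A := by
  classical
  set z := x * y - y * x with hz
  obtain ⟨n, hn, hn0⟩ := exists_rad_pow_eq_bot hA
  have hβ : ∀ u v : A, ∃ b : K, u ∈ rad hA → v ∈ rad hA → u * v - b • z ∈ rad hA ^ 3 := by
    intro u v
    by_cases huv : u ∈ rad hA ∧ v ∈ rad hA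
    · obtain ⟨s, hs, r, hr, he⟩ := Submodule.mem_sup.1 (hgen (show u * v ∈ rad hA ^ 2 by
        rw [pow_two]; exact Submodule.mul_mem_mul huv.1 huv.2))
      obtain ⟨b, rfl⟩ := Submodule.mem_span_singleton.1 hs
      exact ⟨b, fun _ _ => by rw [← he, add_sub_cancel_left]; exact hr⟩
    · exact ⟨0, fun h1 h2 => absurd ⟨h1, h2⟩ huv⟩
  choose β hβ using hβ
  by_contra hcon
  obtain ⟨a, ha, hac⟩ := SetLike.not_le_iff_exists.1 hcon
  obtain ⟨σ, hσa, hσC⟩ := Submodule.exists_dual_map_eq_bot_of_notMem hac inferInstance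
  have hσC' : commSpan K A ≤ LinearMap.ker σ := fun c hc => by
    rw [LinearMap.mem_ker]
    simpa [hσC] using Submodule.mem_map_of_mem (f := σ) hc
  have htr : ∀ u v : A, σ (u * v) = σ (v * u) := fun u v => by
    rw [← sub_eq_zero, ← map_sub]
    exact hσC' (comm_mem_commSpan u v)
  refine hσa (LinearMap.mem_ker.1 ?_)
  suffices h : ∀ i j : ℕ, n ≤ i + j + 3 → rad hA ^ (j + 3) ≤ LinearMap.ker σ from
    h n 0 (by omega) ha
  intro i
  induction i with
  | zero =>
    intro j hj
    exact (rad_pow_anti hn (by omega)).trans (hn0.le.trans bot_le)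
  | succ i ih =>
    intro j hj
    have hnext : rad hA ^ (j + 4) ≤ LinearMap.ker σ := ih (j + 1) (by omega)
    have hkey : ∀ u ∈ rad hA, ∀ v ∈ rad hA, ∀ w ∈ rad hA, ∀ X ∈ rad hA ^ j,
        σ (u * v * w * X) = β u v * σ (z * w * X) ∧
        σ (u * v * w * X) = β v w * σ (u * z * X) := by
      intro u hu v hv w hw X hX
      have e1 : (u * v - β u v • z) * w * X ∈ LinearMap.ker σ := hnext (by
        rw [show j + 4 = 3 + 1 + j by omega, pow_add, pow_succ]
        exact Submodule.mul_mem_mul (Submodule.mul_mem_mul (hβ u v hu hv) hw) hX)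
      have e2 : u * (v * w - β v w • z) * X ∈ LinearMap.ker σ := hnext (by
        rw [show j + 4 = 1 + 3 + j by omega, pow_add, pow_add, pow_one]
        exact Submodule.mul_mem_mul (Submodule.mul_mem_mul hu (hβ v w hv hw)) hX)
      simp only [LinearMap.mem_ker, sub_mul, mul_sub, smul_mul_assoc, mul_smul_comm, map_sub,
        map_smul, sub_eq_zero, smul_eq_mul, ← mul_assoc] at e1 e2
      exact ⟨e1, e2⟩
    rw [pow_add (rad hA)]
    refine Submodule.mul_le.2 fun X hX q hq => ?_
    rw [LinearMap.mem_ker, htr]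
    suffices h : ∀ w ∈ rad hA, σ (z * w * X) = 0 by
      have hle : rad hA * rad hA * rad hA ≤ LinearMap.ker (σ ∘ₗ LinearMap.mulRight K X) := by
        refine Submodule.mul_le.2 fun uv huv w hw => ?_
        induction huv using Submodule.mul_induction_on' with
        | mem_mul_mem u hu v hv =>
          simp [(hkey u hu v hv w hw X hX).1, h w hw]
        | add u _ v _ h1 h2 => rw [add_mul]; exact add_mem h1 h2
      rw [pow_succ, pow_two] at hq
      simpa using hle hq
    intro w₀ hw₀
    by_contra hg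
    set m : A → K := fun v => β v w₀ / σ (z * w₀ * X) with hm
    set h : A → K := fun u => σ (u * z * X) with hh
    have hfac : ∀ u ∈ rad hA, ∀ v ∈ rad hA, β u v = h u * m v := fun u hu v hv => by
      have := (hkey u hu v hv w₀ hw₀ X hX).1.symm.trans (hkey u hu v hv w₀ hw₀ X hX).2
      rw [hm, hh]
      field_simp
      linear_combination this
    have hall : ∀ u ∈ rad hA, ∀ v ∈ rad hA, β u v = β v u := by
      intro u hu v hv
      by_cases hu0 : ∀ u' ∈ rad hA, h u' = 0
      · rw [hfac u hu v hv, hfac v hv u hu, hu0 u hu, hu0 v hv, zero_mul, zero_mul]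
      push Not at hu0
      obtain ⟨u₀, hu₀, hne⟩ := hu0
      have hmv : ∀ v ∈ rad hA, m v * σ (z * w₀ * X) = h v * m w₀ := fun v hv => by
        have := (hkey u₀ hu₀ v hv w₀ hw₀ X hX).1.symm.trans (hkey u₀ hu₀ v hv w₀ hw₀ X hX).2
        rw [hfac u₀ hu₀ v hv, hfac v hv w₀ hw₀] at this
        refine mul_left_cancel₀ hne ?_
        linear_combination this
      refine mul_right_cancel₀ hg ?_
      rw [hfac u hu v hv, hfac v hv u hu, mul_assoc (h u) (m v), mul_assoc (h v) (m u), hmv v hv,
        hmv u hu]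
      ring
    have hz3 : z ∈ rad hA ^ 3 := by
      have h1 := Submodule.sub_mem _ (hβ x y hx hy) (hβ y x hy hx)
      rw [hall x hx y hy, sub_sub_sub_cancel_right, ← hz] at h1
      exact h1
    have h2 : rad hA ^ 2 = ⊥ := eq_bot_of_rad_pow_le two_pos
      (hgen.trans (sup_le ((Submodule.span_singleton_le_iff_mem _ _).2 hz3) le_rfl))
    have hzw : z * w₀ * X = 0 := by
      have : z ∈ rad hA ^ 2 := rad_pow_anti two_pos (by omega) hz3
      rw [h2, Submodule.mem_bot] at this
      rw [this, zero_mul, zero_mul]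
    exact hg (by rw [hzw, map_zero])

theorem commSpan_eq_bot_iff : commSpan K A = ⊥ ↔ ∀ a b : A, a * b = b * a := by
  simp only [commSpan, Submodule.span_eq_bot, Set.mem_ofPred_eq]
  exact ⟨fun h a b => sub_eq_zero.1 (h _ ⟨a, b, rfl⟩),
    fun h z ⟨a, b, hz⟩ => by rw [hz, h a b, sub_self]⟩

/-- A local symmetric algebra with trace quotient of dimension at most four is commutative. -/
theorem comm_of_quot_le_four [Nontrivial A] (hA : IsScalarLocal K A) {t : A →ₗ[K] K}
    (hsym : ∀ a b, t (a * b) = t (b * a)) (hnd : ∀ a, a ≠ 0 → ∃ b, t (a * b) ≠ 0)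
    (hk : Module.finrank K (A ⧸ commSpan K A) ≤ 4) (a b : A) : a * b = b * a := by
  classical
  revert a b
  rw [← commSpan_eq_bot_iff (K := K)]
  by_contra hC
  have h1 := finrank_quot_commSpan_ge hA
  have hCle := commSpan_le_sq hA
  have hsoc : ∀ i, 0 < i → rad hA ^ i ≠ ⊥ → ∃ s ∈ rad hA ^ i, s ∉ commSpan K A := fun i hi h0 => by
    obtain ⟨s, hs, hs0, hsa⟩ := exists_socle hA hi h0
    exact ⟨s, hs, socle_notMem_commSpan hA hsym hnd hs0 fun a ha => (hsa a ha).1⟩
  have h2 : rad hA ^ 2 ≠ ⊥ := fun h0 => hC (le_bot_iff.1 (h0 ▸ hCle))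
  obtain ⟨s, hs, hsC⟩ := hsoc 2 two_pos h2
  have hlt : commSpan K A < rad hA ^ 2 := lt_of_le_of_ne hCle fun he => hsC (he ▸ hs)
  have hlt' := Submodule.finrank_lt_finrank_of_lt hlt
  have hgap : Module.finrank K (rad hA ^ 2 : Submodule K A) + 1 < Module.finrank K (rad hA) := by
    by_contra hle
    exact hC (commSpan_eq_bot_iff.2 (comm_of_finrank hA (by omega)))
  have h3 : rad hA ^ 3 ≠ ⊥ := by
    intro h0
    obtain ⟨c, hc, hc0⟩ := (Submodule.ne_bot_iff _).1 hC
    refine socle_notMem_commSpan hA hsym hnd hc0 (fun a ha => ?_) hc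
    have := Submodule.mul_mem_mul (hCle hc) ha
    rwa [← pow_succ, h0, Submodule.mem_bot] at this
  obtain ⟨s', hs', hs'C⟩ := hsoc 3 (by omega) h3
  have hsq : rad hA ^ 2 = commSpan K A ⊔ rad hA ^ 3 := by
    refine (Submodule.eq_of_le_of_finrank_le (sup_le hCle (rad_pow_anti two_pos (by omega))) ?_).symm
    have h4 := Submodule.finrank_lt_finrank_of_lt (show commSpan K A < commSpan K A ⊔ rad hA ^ 3 from
      left_lt_sup.2 fun hle => hs'C (hle hs'))
    omega
  -- two generators
  have h21 : rad hA ^ 2 ≤ rad hA := (rad_pow_anti one_pos one_le_two).trans (pow_one _).le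
  obtain ⟨x, hx, hxn⟩ := SetLike.not_le_iff_exists.1
    (fun hle : rad hA ≤ rad hA ^ 2 => by have := Submodule.finrank_mono hle; omega)
  set X := Submodule.span K {x} ⊔ rad hA ^ 2 with hX
  have hXle : X ≤ rad hA := sup_le ((Submodule.span_singleton_le_iff_mem _ _).2 hx) h21
  have hXlt := Submodule.finrank_lt_finrank_of_lt (show rad hA ^ 2 < X from
    right_lt_sup.2 fun hle => hxn (hle (Submodule.mem_span_singleton_self x)))
  obtain ⟨y, hy, hyn⟩ := SetLike.not_le_iff_exists.1 (fun hle : rad hA ≤ X => by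
    have h5 : Module.finrank K X ≤ Module.finrank K (rad hA ^ 2 : Submodule K A) + 1 := by
      refine (Submodule.finrank_add_le_finrank_add_finrank _ _).trans ?_
      have : Module.finrank K (Submodule.span K {x}) ≤ 1 := by
        simpa using finrank_span_le_card (R := K) ({x} : Set A)
      omega
    have := Submodule.finrank_mono hle
    omega)
  have hgens : rad hA ≤ Submodule.span K {y} ⊔ X := by
    refine (Submodule.eq_of_le_of_finrank_le (sup_le ((Submodule.span_singleton_le_iff_mem _ _).2 hy)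
      hXle) ?_).ge
    have h6 := Submodule.finrank_lt_finrank_of_lt (show X < Submodule.span K {y} ⊔ X from
      right_lt_sup.2 fun hle => hyn (hle (Submodule.mem_span_singleton_self y)))
    omega
  have hdec : ∀ u ∈ rad hA, ∃ c d : K, ∃ r ∈ rad hA ^ 2, u = c • x + d • y + r := fun u hu => by
    obtain ⟨y', hy', w, hw, rfl⟩ := Submodule.mem_sup.1 (hgens hu)
    obtain ⟨x', hx', r, hr, rfl⟩ := Submodule.mem_sup.1 hw
    obtain ⟨d, rfl⟩ := Submodule.mem_span_singleton.1 hy'
    obtain ⟨c, rfl⟩ := Submodule.mem_span_singleton.1 hx'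
    exact ⟨c, d, r, hr, by abel⟩
  have hgen : rad hA ^ 2 ≤ Submodule.span K {x * y - y * x} ⊔ rad hA ^ 3 := by
    rw [hsq]
    refine sup_le (Submodule.span_le.2 ?_) le_sup_right
    rintro _ ⟨a, b, rfl⟩
    obtain ⟨α, hα⟩ := hA a
    obtain ⟨γ, hγ⟩ := hA b
    obtain ⟨c, d, r, hr, hu⟩ := hdec _ hα
    obtain ⟨c', d', r', hr', hv⟩ := hdec _ hγ
    have e : a * b - b * a = (a - algebraMap K A α) * (b - algebraMap K A γ) -
        (b - algebraMap K A γ) * (a - algebraMap K A α) := by
      simp only [sub_mul, mul_sub, Algebra.commutes α b, Algebra.commutes γ a,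
        Algebra.commutes α (algebraMap K A γ)]
      abel
    rw [SetLike.mem_coe, e, hu, hv]
    have e2 : (c • x + d • y + r) * (c' • x + d' • y + r') -
        (c' • x + d' • y + r') * (c • x + d • y + r) = (c * d' - d * c') • (x * y - y * x) +
        ((c • x + d • y) * r' + r * (c' • x + d' • y + r') -
          ((c' • x + d' • y) * r + r' * (c • x + d • y + r))) := by
      simp only [mul_add, add_mul, smul_mul_assoc, mul_smul_comm, smul_smul, sub_smul, smul_sub]
      module
    rw [e2]
    have hR : ∀ p' ∈ rad hA, ∀ q' ∈ rad hA ^ 2, p' * q' ∈ rad hA ^ 3 ∧ q' * p' ∈ rad hA ^ 3 :=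
      fun p' hp' q' hq' => ⟨by rw [pow_succ']; exact Submodule.mul_mem_mul hp' hq',
        by rw [pow_succ]; exact Submodule.mul_mem_mul hq' hp'⟩
    have hlin : ∀ c d : K, c • x + d • y ∈ rad hA := fun c d =>
      add_mem (Submodule.smul_mem _ _ hx) (Submodule.smul_mem _ _ hy)
    refine Submodule.add_mem_sup (Submodule.smul_mem _ _ (Submodule.mem_span_singleton_self _)) ?_
    exact sub_mem (add_mem (hR _ (hlin c d) _ hr').1 (hR _ (add_mem (hlin c' d') (h21 hr')) _ hr).2)
      (add_mem (hR _ (hlin c' d') _ hr).1 (hR _ (add_mem (hlin c d) (h21 hr)) _ hr').2)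
  exact hs'C (cube_le_commSpan hA hx hy hgen hs')

/-- The dimension of the algebra is then at most that of the trace quotient. -/
theorem finrank_eq_of_comm (h : ∀ a b : A, a * b = b * a) :
    Module.finrank K (A ⧸ commSpan K A) = Module.finrank K A := by
  have h1 := Submodule.finrank_quotient_add_finrank (commSpan K A)
  rw [commSpan_eq_bot_iff.2 h, finrank_bot, add_zero] at h1
  rw [commSpan_eq_bot_iff.2 h]
  exact h1

end Cfsg.Agent.Char.LocAlg
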