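import Cfsg.Agent.Lib.Char.RankOneIdem
import Cfsg.Agent.Lib.Char.CornerAlgebra
import Cfsg.Agent.Lib.Char.LocalAlgebra

/-!
The basic algebra of a block of regular rank one: a local symmetric algebra whose dimension is a
square times the order of a defect group and whose trace quotient has at most as many dimensions as
the block has irreducible characters.
-/

namespace Cfsg.Agent.Char.Res

open Cfsg.Agent.Block Cfsg.Agent.Char.Spec Cfsg.Agent.Char.BP Cfsg.Agent.Char.Corner

set_option linter.unusedSectionVars false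
set_option linter.style.haveILetI false

universe u

variable {G : Type u} [Group G] [Fintype G] [DecidableEq G] {p : ℕ} {M : Ideal AlgInt}
variable {B : Set (IrrCharacter G)}

instance groupAlgFinite (K : Type*) [Field K] :
    Module.Finite K (MonoidAlgebra K G) :=
  Module.Finite.equiv (MonoidAlgebra.coeffLinearEquiv K).symm

theorem redA_idem (hM : IsPModular p M) {a : MonoidAlgebra ℂ G} (ha : AlgRing M a)
    (haa : a * a = a) : IsIdempotentElem (redA hM a) := by
  rw [IsIdempotentElem, ← redA_mul hM ha ha, haa]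

theorem sum_coeff_single {K : Type*} [CommSemiring K] (y : MonoidAlgebra K G) :
    ∑ g : G, y.coeff g • MonoidAlgebra.single g (1 : K) = y := by
  classical
  ext g
  simp [MonoidAlgebra.coeff_sum, Finsupp.single_apply]

theorem red_coeff_smul (hM : IsPModular p M) {x : MonoidAlgebra ℂ G} (g : G) :
    (redA hM x).coeff g = red hM (x.coeff g) := redA_coeff hM x g

/-- The matrix of cutting by an idempotent on both sides. -/
noncomputable def cutMat (i : MonoidAlgebra ℂ G) : Matrix G G ℂ :=
  Matrix.of fun g h => (i * MonoidAlgebra.single h 1 * i).coeff g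

theorem coeff_sum_mul (i : MonoidAlgebra ℂ G) (v : G → ℂ) (g : G) :
    ∑ h, (i * MonoidAlgebra.single h 1 * i).coeff g * v h =
      (i * algOf (MonoidHom.id G) v * i).coeff g := by
  simp only [algOf, MonoidHom.id_apply, Finset.mul_sum, Finset.sum_mul, MonoidAlgebra.coeff_sum,
    Finsupp.coe_finsetSum, Finset.sum_apply]
  refine Finset.sum_congr rfl fun h _ => ?_
  rw [show MonoidAlgebra.single h (v h) = v h • MonoidAlgebra.single h (1 : ℂ) by simp,
    mul_smul_comm, smul_mul_assoc, MonoidAlgebra.coeff_smul, Finsupp.smul_apply, smul_eq_mul,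
    mul_comm]

theorem cutMat_idem {i : MonoidAlgebra ℂ G} (hii : i * i = i) :
    cutMat i * cutMat i = cutMat i := by
  ext g l
  simp only [Matrix.mul_apply, cutMat, Matrix.of_apply]
  refine (coeff_sum_mul i (fun h => (i * MonoidAlgebra.single l 1 * i).coeff h) g).trans ?_
  have e : ∀ y : MonoidAlgebra ℂ G, algOf (MonoidHom.id G) (fun h => y.coeff h) = y := fun y =>
    MonoidAlgebra.ext (Finsupp.ext fun x => algOf_coeff_id _ x)
  refine congrArg (fun y : MonoidAlgebra ℂ G => y.coeff g)
    ((congrArg (fun y => i * y * i) (e (i * MonoidAlgebra.single l 1 * i))).trans ?_)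
  rw [← mul_assoc, ← mul_assoc, hii, mul_assoc _ i i, hii]

theorem cutMat_trace (i : MonoidAlgebra ℂ G) :
    (cutMat i).trace = ∑ χ : IrrCharacter G, ev (χ : G → ℂ) i ^ 2 := by
  classical
  set f : G → ℂ := fun a => ctr a⁻¹ i with hf
  have hfc : IsClassFunction G f := fun a t => by
    simp only [hf, ctr]
    refine Fintype.sum_equiv (Equiv.mulRight t) _ _ fun s => ?_
    simp only [Equiv.coe_mulRight]
    congr 1
    group
  have h1 : (cutMat i).trace = ev f i := by
    simp only [Matrix.trace, Matrix.diag_apply, cutMat, Matrix.of_apply, ev, hf, ctr, Finset.mul_sum]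
    simp only [coeff_mul_apply (i * _) i, MonoidAlgebra.coeff_mul_single_apply, mul_one]
    rw [Finset.sum_comm]
    refine Finset.sum_congr rfl fun a _ => Finset.sum_congr rfl fun s _ => ?_
    rw [mul_comm]
  rw [h1, classFunction_expansion hfc]
  simp only [ev, Finset.sum_apply, Pi.smul_apply, smul_eq_mul, Finset.mul_sum]
  rw [Finset.sum_comm]
  refine Finset.sum_congr rfl fun χ _ => ?_
  have h2 : classInner f (χ : G → ℂ) = ev (χ : G → ℂ) i := by
    have h3 := ev_eq_ctr (IsIrr.classFun χ.2) i
    simp only [classInner, hf]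
    rw [← mul_right_inj' (Nat.cast_ne_zero.2 Nat.card_pos.ne' : (Nat.card G : ℂ) ≠ 0), h3,
      mul_inv_cancel_left₀ (Nat.cast_ne_zero.2 Nat.card_pos.ne')]
    refine Fintype.sum_equiv (Equiv.inv G) _ _ fun g => ?_
    rw [Equiv.inv_apply, IsChar.apply_inv (irr_isChar χ) g, mul_comm]
  rw [h2, sq, ev, Finset.mul_sum]
  exact Finset.sum_congr rfl fun g _ => by ring

theorem finrank_corner [Fact p.Prime] (hM : IsPModular p M) (I : IdemData p M B)
    [DecidablePred (· ∈ B)] :
    letI := resInst hM
    (Module.finrank (ResField hM) (redA_idem hM I.prim.1.1 I.prim.2.1).Corner : ℂ) =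
      ((∑ χ ∈ Finset.univ.filter (· ∈ B), I.d χ ^ 2 : ℕ) : ℂ) * (I.n : ℂ) ^ 2 := by
  classical
  letI := resInst hM
  set i := I.i with hi
  have hir : AlgRing M i := I.prim.1.1
  have hP : ∀ g h, MemLocalRing M (cutMat i g h) := fun g h =>
    ((hir.mul hM (AlgRing.single hM h)).mul hM hir) g
  have he := redA_idem hM hir I.prim.2.1
  let φ : he.Corner →ₗ[ResField hM] (G → ResField hM) :=
    { toFun := fun x g => x.1.coeff g
      map_add' := fun x y => rfl
      map_smul' := fun c x => rfl }
  have hφinj : Function.Injective φ := fun x y h =>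
    Subtype.ext (MonoidAlgebra.ext (Finsupp.ext fun g => congrFun h g))
  have hPv : ∀ v : MonoidAlgebra (ResField hM) G,
      Matrix.toLin' (redMat hM (cutMat i)) (fun g => v.coeff g) =
        fun g => (redA hM i * v * redA hM i).coeff g := by
    intro v
    funext g
    conv_rhs => rw [← sum_coeff_single v]
    simp only [Finset.mul_sum, Finset.sum_mul, MonoidAlgebra.coeff_sum, Finsupp.coe_finsetSum,
      Finset.sum_apply, Matrix.toLin'_apply, Matrix.mulVec, dotProduct, redMat, Matrix.map_apply,
      mul_smul_comm, smul_mul_assoc, MonoidAlgebra.coeff_smul, Finsupp.smul_apply, smul_eq_mul]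
    refine Finset.sum_congr rfl fun h _ => ?_
    rw [cutMat, Matrix.of_apply, ← redA_coeff, redA_mul hM (hir.mul hM (AlgRing.single hM h)) hir,
      redA_mul hM hir (AlgRing.single hM h), redA_single, mul_comm]
  have hrange : LinearMap.range φ = LinearMap.range (Matrix.toLin' (redMat hM (cutMat i))) := by
    refine le_antisymm ?_ ?_
    · rintro _ ⟨x, rfl⟩
      refine ⟨fun g => x.1.coeff g, (hPv x.1).trans ?_⟩
      funext g
      show (redA hM i * x.1 * redA hM i).coeff g = x.1.coeff g
      rw [(val_mem he x).1, (val_mem he x).2]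
    · rintro _ ⟨v, rfl⟩
      let w : MonoidAlgebra (ResField hM) G :=
        MonoidAlgebra.ofCoeff (Finsupp.equivFunOnFinite.symm v)
      have hw : (fun g => w.coeff g) = v := by funext g; simp [w]
      rw [← hw, hPv]
      exact ⟨proj (K := ResField hM) he w, rfl⟩
  rw [← LinearMap.finrank_range_of_inj hφinj, hrange, finrank_range_red_idem hM hP
    (cutMat_idem I.prim.2.1), cutMat_trace, Nat.cast_sum, Finset.sum_mul, Finset.sum_filter]
  refine Finset.sum_congr rfl fun χ _ => ?_
  split_ifs with hχ
  · rw [I.val χ hχ]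
    push_cast
    ring
  · rw [hi, ← I.inBlock, ev_bz, if_neg hχ]
    ring

open Classical in
/-- The matrix of the projection of class functions to a block. -/
noncomputable def classMat (B : Set (IrrCharacter G)) : Matrix (ConjClasses G) (ConjClasses G) ℂ :=
  Matrix.of fun C C' => ∑ h : G, if ConjClasses.mk (C.out * h) = C' then blockCoeff B h else 0

theorem mk_classFun {R : Type*} (f : ConjClasses G → R) (g s : G) :
    f (ConjClasses.mk (s * g * s⁻¹)) = f (ConjClasses.mk g) :=
  congrArg f (ConjClasses.mk_eq_mk_iff_isConj.2 (isConj_iff.2 ⟨s, rfl⟩)).symm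

theorem classMat_apply [Fintype (ConjClasses G)] (f : ConjClasses G → ℂ) (C : ConjClasses G) :
    ∑ C', classMat B C C' * f C' =
      ev (fun g => f (ConjClasses.mk g)) (MonoidAlgebra.single C.out 1 * bz B) := by
  classical
  simp only [classMat, Matrix.of_apply, Finset.sum_mul, ev, MonoidAlgebra.coeff_single_mul_apply,
    one_mul, bz, algOf_coeff_id]
  rw [Finset.sum_comm]
  refine Fintype.sum_equiv (Equiv.mulLeft C.out) _ _ fun h => ?_
  simp only [Equiv.coe_mulLeft, inv_mul_cancel_left, ite_mul, zero_mul, Finset.sum_ite_eq,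
    Finset.mem_univ, if_true]

theorem classMat_ring (hM : IsPModular p M) (hB : IsPBlock M B) (C C' : ConjClasses G) :
    MemLocalRing M (classMat B C C') := by
  classical
  refine ring_sum hM fun h _ => ?_
  split_ifs
  · exact (blockCoeff_idem hM hB).1 h
  · exact ring_zero hM

theorem classMat_idem [Fintype (ConjClasses G)] (hM : IsPModular p M) (hB : IsPBlock M B) :
    classMat B * classMat B = classMat B := by
  classical
  ext C C''
  rw [Matrix.mul_apply, classMat_apply]
  set f : ConjClasses G → ℂ := fun C' => if C' = C'' then 1 else 0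
  have hf : ∀ C', classMat B C' C'' =
      ev (fun g => f (ConjClasses.mk g)) (MonoidAlgebra.single C'.out 1 * bz B) := fun C' => by
    rw [← classMat_apply]
    simp [f]
  have hq : ∀ g : G, classMat B (ConjClasses.mk g) C'' =
      ev (fun g => f (ConjClasses.mk g)) (MonoidAlgebra.single g 1 * bz B) := by
    intro g
    rw [hf]
    obtain ⟨s, hs⟩ := isConj_iff.1 (ConjClasses.mk_eq_mk_iff_isConj.1
      (Quotient.out_eq (ConjClasses.mk g)).symm)
    conv_lhs => rw [← hs]
    rw [show MonoidAlgebra.single (s * g * s⁻¹) (1 : ℂ) =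
      MonoidAlgebra.single (s * g) 1 * MonoidAlgebra.single s⁻¹ 1 by simp, mul_assoc,
      ev_mul_comm (fun a t => mk_classFun f a t), mul_assoc, (bz_comm B _).symm.eq, ← mul_assoc]
    simp
  simp only [hq]
  rw [hf C]
  have hlin : ∀ x, ev (fun g => ev (fun g => f (ConjClasses.mk g))
      (MonoidAlgebra.single g 1 * bz B)) x = ev (fun g => f (ConjClasses.mk g)) (x * bz B) := by
    intro x
    induction x using MonoidAlgebra.induction_on with
    | of g => rw [MonoidAlgebra.of_apply, ev_single, one_mul]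
    | add a b ha hb => rw [ev_add, ha, hb, add_mul, ev_add]
    | smul r a ha => rw [ev_smul, ha, smul_mul_assoc, ev_smul]
  rw [hlin, mul_assoc, bz_idem hM hB]

theorem classMat_trace [Fintype (ConjClasses G)] [DecidablePred (· ∈ B)] :
    (classMat B).trace = ((Finset.univ.filter (· ∈ B)).card : ℂ) := by
  classical
  let δ : ConjClasses G → G → ℂ := fun C g => if ConjClasses.mk g = C then 1 else 0
  have hδ : ∀ C, IsClassFunction G (δ C) := fun C g s => mk_classFun (fun C' => if C' = C then (1 : ℂ) else 0) g s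
  have hd : ∀ C, classMat B C C = ev (δ C) (MonoidAlgebra.single C.out 1 * bz B) := fun C => by
    have := classMat_apply (B := B) (fun C' => if C' = C then (1 : ℂ) else 0) C
    simpa [δ] using this
  have hexp : ∀ C, classMat B C C = ∑ χ ∈ Finset.univ.filter (· ∈ B),
      classInner (δ C) (χ : G → ℂ) * (χ : G → ℂ) C.out := by
    intro C
    rw [hd, classFunction_expansion (hδ C), Finset.sum_filter]
    simp only [ev, Finset.sum_apply, Pi.smul_apply, smul_eq_mul, Finset.mul_sum]
    rw [Finset.sum_comm]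
    refine Finset.sum_congr rfl fun χ _ => ?_
    have h2 : ev (χ : G → ℂ) (MonoidAlgebra.single C.out 1 * bz B) =
        if χ ∈ B then (χ : G → ℂ) C.out else 0 := by
      rw [(bz_comm B _).eq, ev_bz, ev_single, one_mul]
      by_cases hχ : χ ∈ B <;> simp [hχ]
    rw [← classFunction_expansion (hδ C),
      show (∑ g, (MonoidAlgebra.single C.out (1 : ℂ) * bz B).coeff g *
        (classInner (δ C) (χ : G → ℂ) * (χ : G → ℂ) g)) =
        classInner (δ C) (χ : G → ℂ) * ev (χ : G → ℂ) (MonoidAlgebra.single C.out 1 * bz B) by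
        rw [ev, Finset.mul_sum]; exact Finset.sum_congr rfl fun g _ => by ring, h2, mul_ite, mul_zero]
  simp only [Matrix.trace, Matrix.diag_apply, hexp]
  rw [Finset.sum_comm, Finset.card_eq_sum_ones, Nat.cast_sum, Nat.cast_one]
  refine Finset.sum_congr rfl fun χ _ => ?_
  have h1 : (χ : G → ℂ) = ∑ C : ConjClasses G, (χ : G → ℂ) C.out • δ C := by
    funext g
    simp only [Finset.sum_apply, Pi.smul_apply, smul_eq_mul, δ, mul_ite, mul_one, mul_zero,
      Finset.sum_ite_eq, Finset.mem_univ, if_true]
    exact IsClass.eq_of_isConj (IsIrr.classFun χ.2) (ConjClasses.mk_eq_mk_iff_isConj.1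
      (Quotient.out_eq (ConjClasses.mk g))).symm
  rw [← classInner_self_irr χ.2]
  conv_rhs => arg 1; rw [h1]
  rw [classInner_sum_left]
  exact Finset.sum_congr rfl fun C _ => by rw [classInner_smul_left, mul_comm]

theorem finrank_quot_le [Fact p.Prime] (hM : IsPModular p M) (hB : IsPBlock M B)
    (I : IdemData p M B) :
    letI := resInst hM
    Module.finrank (ResField hM) ((redA_idem hM I.prim.1.1 I.prim.2.1).Corner ⧸
      LocAlg.commSpan (ResField hM) (redA_idem hM I.prim.1.1 I.prim.2.1).Corner) ≤ Nat.card B := by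
  classical
  letI := resInst hM
  haveI : Fintype (ConjClasses G) := Fintype.ofFinite _
  set iK := redA hM I.i with hiK
  have he : IsIdempotentElem iK := redA_idem hM I.prim.1.1 I.prim.2.1
  set eK := redA hM (bz B) with heK
  have hecen : ∀ y, eK * y = y * eK := by
    intro y
    obtain ⟨x, hx, rfl⟩ := redA_surjective hM y
    rw [heK, ← redA_mul hM (bz_ring hM hB) hx, ← redA_mul hM hx (bz_ring hM hB), (bz_comm B x).eq]
  have hee : eK * eK = eK := redA_idem hM (bz_ring hM hB) (bz_idem hM hB)
  have hei : eK * iK = iK := by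
    rw [heK, hiK, ← redA_mul hM (bz_ring hM hB) I.prim.1.1, I.inBlock]
  obtain ⟨m, a, b, hab⟩ := exists_full hM hB I
  rw [← hiK, ← heK] at hab
  set Q := he.Corner ⧸ LocAlg.commSpan (ResField hM) he.Corner
  let L : Module.Dual (ResField hM) Q →ₗ[(ResField hM)] (MonoidAlgebra (ResField hM) G →ₗ[(ResField hM)] (ResField hM)) :=
    ((LocAlg.commSpan (ResField hM) he.Corner).mkQ.comp (proj (K := ResField hM) he)).dualMap
  have hLmid : ∀ ℓ u v, L ℓ (u * iK * v) = L ℓ (v * iK * u) := by
    intro ℓ u v
    show ℓ (Submodule.mkQ _ (proj he _)) = ℓ (Submodule.mkQ _ (proj he _))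
    rw [proj_mul_mid, proj_mul_mid]
    exact congrArg ℓ ((Submodule.Quotient.eq _).2 (LocAlg.comm_mem_commSpan _ _))
  let T : MonoidAlgebra (ResField hM) G →ₗ[(ResField hM)] (Fin m → MonoidAlgebra (ResField hM) G) :=
    LinearMap.pi fun r => (LinearMap.mulRight (ResField hM) (a r)).comp (LinearMap.mulLeft (ResField hM) (b r * eK))
  let S : Module.Dual (ResField hM) Q →ₗ[(ResField hM)] (MonoidAlgebra (ResField hM) G →ₗ[(ResField hM)] (ResField hM)) :=
    ∑ r, ((LinearMap.proj r).comp T).dualMap.comp L
  have hS : ∀ ℓ x, S ℓ x = ∑ r, L ℓ (b r * eK * x * a r) := fun ℓ x => by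
    simp [S, T, LinearMap.dualMap_apply, mul_assoc]
  have hins : ∀ u v, u * eK * v = ∑ s, u * a s * iK * (b s * v) := fun u v => by
    rw [← hab, Finset.mul_sum, Finset.sum_mul]
    exact Finset.sum_congr rfl fun s _ => by simp only [mul_assoc]
  have hStr : ∀ ℓ x y, S ℓ (x * y) = S ℓ (y * x) := by
    have hstep : ∀ ℓ x y, S ℓ (x * y) = ∑ r, ∑ s,
        L ℓ ((b r * eK * x) * a s * iK * (b s * (y * a r))) := by
      intro ℓ x y
      rw [hS]
      refine Finset.sum_congr rfl fun r _ => ?_
      rw [← map_sum, ← hins]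
      congr 1
      simp only [mul_assoc]
      rw [← mul_assoc x eK (y * a r), ← hecen x, mul_assoc, ← mul_assoc eK eK, hee]
    intro ℓ x y
    rw [hstep, hS, Finset.sum_comm]
    refine Finset.sum_congr rfl fun s _ => ?_
    rw [Finset.sum_congr rfl (g := fun r => L ℓ ((b s * y) * a r * iK * (b r * (eK * (x * a s)))))
      fun r _ => ?_, ← map_sum, ← hins]
    · congr 1
      simp only [mul_assoc]
      rw [← mul_assoc eK eK, hee, ← mul_assoc y eK, ← hecen y, mul_assoc]
    · rw [hLmid]
      congr 1
      simp only [mul_assoc]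
  have hrec : ∀ ℓ x, L ℓ x = S ℓ (iK * x * iK) := by
    intro ℓ x
    have h1 : ∀ r, L ℓ (b r * eK * (iK * x * iK) * a r) = L ℓ (x * iK * a r * iK * b r) := by
      intro r
      rw [← hLmid ℓ (b r) (x * iK * a r)]
      congr 1
      simp only [mul_assoc]
      rw [← mul_assoc eK iK, hei]
    rw [hS, Finset.sum_congr rfl fun r _ => h1 r, ← map_sum]
    have h2 : ∑ r, x * iK * a r * iK * b r = x * iK := by
      rw [Finset.sum_congr rfl fun r _ => (by simp only [mul_assoc] :
        x * iK * a r * iK * b r = (x * iK) * (a r * iK * b r)), ← Finset.mul_sum, hab, mul_assoc,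
        ← hecen iK, hei]
    rw [h2]
    show ℓ (Submodule.mkQ _ (proj he _)) = ℓ (Submodule.mkQ _ (proj he _))
    rw [proj_mul_right]
  let Φ : Module.Dual (ResField hM) Q →ₗ[(ResField hM)] (ConjClasses G → (ResField hM)) :=
    LinearMap.pi fun C => (LinearMap.applyₗ (MonoidAlgebra.single C.out (1 : (ResField hM)))).comp S
  have hmk : ∀ ℓ (g : G), S ℓ (MonoidAlgebra.single g 1) = Φ ℓ (ConjClasses.mk g) := by
    intro ℓ g
    obtain ⟨s, hs⟩ := isConj_iff.1 (ConjClasses.mk_eq_mk_iff_isConj.1
      (Quotient.out_eq (ConjClasses.mk g)).symm)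
    show _ = S ℓ (MonoidAlgebra.single (ConjClasses.mk g).out 1)
    conv_rhs => rw [← hs]
    rw [show MonoidAlgebra.single (s * g * s⁻¹) (1 : (ResField hM)) =
      MonoidAlgebra.single (s * g) 1 * MonoidAlgebra.single s⁻¹ 1 by simp, hStr]
    simp
  have hΦinj : Function.Injective Φ := by
    rw [← LinearMap.ker_eq_bot, LinearMap.ker_eq_bot']
    intro ℓ hℓ
    have hS0 : ∀ y, S ℓ y = 0 := fun y => by
      rw [← sum_coeff_single y, map_sum]
      refine Finset.sum_eq_zero fun g _ => ?_
      rw [map_smul, hmk, hℓ]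
      simp
    refine LinearMap.ext fun q => ?_
    obtain ⟨x, rfl⟩ := Submodule.mkQ_surjective _ q
    have h1 : L ℓ x.1 = 0 := by rw [hrec, hS0]
    have h2 : ℓ (Submodule.mkQ _ (proj he x.1)) = 0 := h1
    rwa [proj_self] at h2
  have hrange : LinearMap.range Φ ≤ LinearMap.range (Matrix.toLin' (redMat hM (classMat B))) := by
    rintro _ ⟨ℓ, rfl⟩
    refine ⟨Φ ℓ, ?_⟩
    funext C
    have h1 : S ℓ (MonoidAlgebra.single C.out 1 * eK) = Φ ℓ C := by
      show _ = S ℓ (MonoidAlgebra.single C.out 1)
      rw [hS, hS]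
      refine Finset.sum_congr rfl fun r _ => ?_
      have e1 : ∀ z, eK * (z * eK) = eK * z := fun z => by rw [← hecen z, ← mul_assoc, hee]
      rw [mul_assoc (b r) eK (_ * eK), e1, ← mul_assoc (b r) eK]
    rw [← h1]
    show _ = ((S ℓ).comp (LinearMap.mulLeft (ResField hM) (MonoidAlgebra.single C.out 1)))
      (redA hM (bz B))
    rw [trace_redA hM]
    simp only [Matrix.toLin'_apply, Matrix.mulVec, dotProduct, redMat, Matrix.map_apply,
      LinearMap.comp_apply, LinearMap.mulLeft_apply, MonoidAlgebra.single_mul_single, mul_one,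
      smul_eq_mul, bz, algOf_coeff_id, hmk]
    have hr : ∀ C', red hM (classMat B C C') = ∑ h : G,
        if ConjClasses.mk (C.out * h) = C' then red hM (blockCoeff B h) else 0 := fun C' => by
      rw [classMat, Matrix.of_apply, red_sum hM fun h _ => by
        split_ifs
        · exact (blockCoeff_idem hM hB).1 h
        · exact ring_zero hM]
      refine Finset.sum_congr rfl fun h _ => ?_
      split_ifs
      · rfl
      · exact red_zero hM
    simp only [hr, Finset.sum_mul, ite_mul, zero_mul]
    rw [Finset.sum_comm]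
    simp only [Finset.sum_ite_eq, Finset.mem_univ, if_true]
  have h1 : Module.finrank (ResField hM) (Module.Dual (ResField hM) Q) = Module.finrank (ResField hM) Q := Subspace.dual_finrank_eq
  rw [← h1, ← LinearMap.finrank_range_of_inj hΦinj]
  refine (Submodule.finrank_mono hrange).trans (le_of_eq ?_)
  have h2 := finrank_range_red_idem hM (classMat_ring hM hB) (classMat_idem hM hB)
  rw [classMat_trace, Nat.cast_inj] at h2
  rw [h2, Nat.card_eq_fintype_card, Fintype.card_subtype]

theorem corner_local [Fact p.Prime] (hM : IsPModular p M) (I : IdemData p M B) :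
    letI := resInst hM
    Nontrivial (redA_idem hM I.prim.1.1 I.prim.2.1).Corner ∧
      LocAlg.IsScalarLocal (ResField hM) (redA_idem hM I.prim.1.1 I.prim.2.1).Corner := by
  classical
  letI := resInst hM
  haveI := resField_isAlgClosed hM
  have hir := I.prim.1.1
  have hii := I.prim.2.1
  have he : IsIdempotentElem (redA hM I.i) := redA_idem hM hir hii
  have hne : (redA hM I.i) ≠ 0 := by
    intro h0
    have h1 := idem_eq_zero hM ((redA_eq_zero hM hir).1 h0) hii
    obtain ⟨χ, hχ⟩ : ∃ χ : IrrCharacter G, χ ∈ B := by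
      by_contra hn
      push Not at hn
      have := I.sum_sq
      rw [finsum_eq_zero_of_forall_eq_zero fun χ => by simp [hn χ]] at this
      exact (pow_ne_zero _ (Fact.out : p.Prime).ne_zero) this.symm
    have := I.val χ hχ
    rw [h1, ev_zero] at this
    rcases mul_eq_zero.1 this.symm with h | h
    · exact (I.pos χ hχ).ne' (Nat.cast_eq_zero.1 h)
    · exact I.unit (by rw [Int.cast_eq_zero.1 h]; exact dvd_zero _)
  haveI : Nontrivial he.Corner := ⟨⟨1, 0, fun h => hne (congrArg Subtype.val h)⟩⟩
  refine ⟨‹_›, fun x => ?_⟩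
  obtain ⟨c, hc⟩ := spectrum.nonempty_of_isAlgClosed_of_finiteDimensional (ResField hM) x
  refine ⟨c, ?_⟩
  rw [spectrum.mem_iff] at hc
  set y := x - algebraMap (ResField hM) he.Corner c with hy
  have hyn : ¬ IsUnit y := fun h => hc (by rw [← neg_sub]; exact h.neg)
  obtain ⟨X₀, hX₀, hX₀e⟩ := redA_surjective hM y.1
  set X := I.i * X₀ * I.i with hXdef
  have hX : AlgRing M X := (hir.mul hM hX₀).mul hM hir
  have hXred : redA hM X = y.1 := by
    rw [redA_mul hM (hir.mul hM hX₀) hir, redA_mul hM hir hX₀, hX₀e, (val_mem he y).1,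
      (val_mem he y).2]
  rcases prim_dichotomy hM I.prim (fx_bot hX) (by rw [hXdef, ← mul_assoc, ← mul_assoc, hii])
    (by rw [hXdef, mul_assoc, hii]) with ⟨w, hw, hwc, hxw⟩ | ⟨N, hN⟩
  · exfalso
    refine hyn ?_
    haveI : IsArtinianRing he.Corner := IsArtinianRing.of_finite (ResField hM) he.Corner
    have hwc' : redA hM w * (redA hM I.i) = (redA hM I.i) * redA hM w := by
      rw [← redA_mul hM hw.1 hir, ← redA_mul hM hir hw.1, hwc.eq]
    refine IsUnit.of_mul_eq_one (⟨(redA hM I.i) * redA hM w * (redA hM I.i), _, rfl⟩ : he.Corner) (Subtype.ext ?_)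
    show y.1 * ((redA hM I.i) * redA hM w * (redA hM I.i)) = (redA hM I.i)
    rw [← hwc', mul_assoc (redA hM w), he.eq, ← mul_assoc, ← hXred,
      ← redA_mul hM hX hw.1, ← redA_mul hM (hX.mul hM hw.1) hir, hxw]
  · refine ⟨N, Subtype.ext ?_⟩
    have hpow : ∀ n : ℕ, (y ^ n).1 = y.1 ^ n * (redA hM I.i) := by
      intro n
      induction n with
      | zero => rw [pow_zero, pow_zero, one_mul]; rfl
      | succ n ih =>
        rw [pow_succ]
        show (y ^ n).1 * y.1 = _
        rw [ih, mul_assoc, (val_mem he y).1, pow_succ, mul_assoc, (val_mem he y).2]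
    show (y ^ N).1 = 0
    rw [hpow, ← hXred, ← redA_pow hM hX, ← redA_mul hM (AlgRing.pow hM hX N) hir,
      (redA_eq_zero hM ((AlgRing.pow hM hX N).mul hM hir)).2 hN]

/-- In a block of regular rank one with at most four characters, the order of a defect group is the
number of characters. -/
theorem pow_defect_eq_card [Fact p.Prime] (hM : IsPModular p M) (hB : IsPBlock M B)
    {D : Subgroup G} (hD : IsDefectGroup p M B D) (hl : blockRank p B = 1)
    (hk : Nat.card B ≤ 4) : p ^ blockDefect p B = Nat.card B := by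
  classical
  letI := resInst hM
  obtain ⟨I⟩ := exists_idemData hM hB hD hl
  obtain ⟨hnt, hloc⟩ := corner_local hM I
  have he := redA_idem hM I.prim.1.1 I.prim.2.1
  haveI : Nontrivial he.Corner := hnt
  let t : he.Corner →ₗ[ResField hM] ResField hM :=
    { toFun := fun x => x.1.coeff 1
      map_add' := fun x y => rfl
      map_smul' := fun c x => rfl }
  have hswap : ∀ a b : MonoidAlgebra (ResField hM) G, (a * b).coeff 1 = (b * a).coeff 1 := by
    intro a b
    obtain ⟨x, hx, rfl⟩ := redA_surjective hM a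
    obtain ⟨y, hy, rfl⟩ := redA_surjective hM b
    rw [← redA_mul hM hx hy, ← redA_mul hM hy hx, redA_coeff, redA_coeff, coeff_mul_apply,
      coeff_mul_apply]
    congr 1
    refine Fintype.sum_equiv (Equiv.inv G) _ _ fun h => ?_
    simp [mul_comm]
  have hsym : ∀ x y, t (x * y) = t (y * x) := fun x y => hswap x.1 y.1
  have hnd : ∀ x, x ≠ 0 → ∃ y, t (x * y) ≠ 0 := by
    intro x hx
    obtain ⟨g, hg⟩ : ∃ g, x.1.coeff g ≠ 0 := by
      by_contra hn
      push Not at hn
      exact hx (Subtype.ext (MonoidAlgebra.ext (Finsupp.ext fun g => by rw [hn g]; rfl)))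
    refine ⟨proj (K := ResField hM) he (MonoidAlgebra.single g⁻¹ 1), ?_⟩
    show (x.1 * (redA hM I.i * MonoidAlgebra.single g⁻¹ 1 * redA hM I.i)).coeff 1 ≠ 0
    rw [← mul_assoc, ← mul_assoc, (val_mem he x).2, hswap, ← mul_assoc, (val_mem he x).1,
      MonoidAlgebra.coeff_mul_single_apply]
    simpa using hg
  have hq := finrank_quot_le hM hB I
  have hcomm := LocAlg.comm_of_quot_le_four hloc hsym hnd (hq.trans hk)
  rw [LocAlg.finrank_eq_of_comm hcomm] at hq
  set A := Finset.univ.filter (· ∈ B) with hA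
  have hsum : ∑ χ ∈ A, I.d χ ^ 2 = p ^ blockDefect p B := by
    rw [← I.sum_sq, finsum_mem_eq_sum_of_inter_support_eq _ (t := A) (by ext; simp [hA])]
  have hdim : (Module.finrank (ResField hM) he.Corner : ℤ) =
      ((∑ χ ∈ A, I.d χ ^ 2 : ℕ) : ℤ) * I.n ^ 2 := by
    have := finrank_corner hM I
    exact_mod_cast this
  have hn0 : I.n ≠ 0 := fun h => I.unit (h ▸ dvd_zero _)
  have hn1 : 1 ≤ I.n ^ 2 := by
    have : 0 < I.n ^ 2 := by positivity
    omega
  have hcard : Nat.card B = A.card := by rw [Nat.card_eq_fintype_card, Fintype.card_subtype]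
  refine le_antisymm ?_ ?_
  · have h1 : ((p ^ blockDefect p B : ℕ) : ℤ) ≤ Module.finrank (ResField hM) he.Corner := by
      rw [hdim, hsum]
      exact le_mul_of_one_le_right (Int.natCast_nonneg _) hn1
    have h2 : p ^ blockDefect p B ≤ Module.finrank (ResField hM) he.Corner := by exact_mod_cast h1
    exact h2.trans hq
  · rw [hcard, ← hsum, Finset.card_eq_sum_ones]
    exact Finset.sum_le_sum fun χ hχ => Nat.one_le_pow _ _ (I.pos χ (Finset.mem_filter.1 hχ).2)

/-- A block has positive regular rank. -/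
theorem blockRank_pos [Fact p.Prime] (hM : IsPModular p M) (hB : IsPBlock M B) :
    0 < blockRank p B := by
  obtain ⟨χ, hχ⟩ := pblock_nonempty hM hB
  refine Nat.pos_of_ne_zero fun h => irr_one_ne_zero χ ?_
  have hfin : Submodule.span ℂ ((fun χ : IrrCharacter G => pRegularPart p (χ : G → ℂ)) '' B) = ⊥ :=
    Submodule.finrank_eq_zero (R := ℂ) (M := G → ℂ) |>.1 h
  have hmem : pRegularPart p (χ : G → ℂ) ∈
      Submodule.span ℂ ((fun χ : IrrCharacter G => pRegularPart p (χ : G → ℂ)) '' B) :=
    Submodule.subset_span ⟨χ, hχ, rfl⟩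
  rw [hfin, Submodule.mem_bot] at hmem
  have h1 := congrFun hmem 1
  simpa [pRegularPart, IsPRegular, (Fact.out : p.Prime).not_dvd_one, (Fact.out : p.Prime).ne_one] using h1

end Cfsg.Agent.Char.Res
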