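import Mathlib.Algebra.Order.BigOperators.Ring.Finset
import Mathlib.Algebra.Ring.Parity
import Mathlib.Tactic.Linarith
import Mathlib.Tactic.Ring
import Mathlib.Tactic.LinearCombination
import Mathlib.Tactic.NormNum

/-!
The integer combinatorics behind the count of characters of a principal 2-block with elementary
Sylow subgroup of order 16 and inertial index 9: all columns of the free involution are signs.
-/

namespace Cfsg.Agent.Char.SecInner.Comb

variable {ι : Type*} [Fintype ι] [DecidableEq ι]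

theorem sq_ge_four {q : ℤ} (h : (4 : ℤ) ∣ q - 2) : 4 ≤ q ^ 2 ∧ (32 : ℤ) ∣ q ^ 2 - 4 := by
  obtain ⟨j, hj⟩ := h
  obtain ⟨e, he⟩ := Int.even_mul_succ_self j
  have hq : q ^ 2 - 4 = 32 * e := by
    have : q = 4 * j + 2 := by linarith
    subst this
    linear_combination (16 : ℤ) * he
  refine ⟨?_, ⟨e, hq⟩⟩
  have hne : q ≠ 0 := by omega
  rcases lt_or_gt_of_ne hne with h | h
  · have : q ≤ -2 := by omega
    nlinarith
  · have : 2 ≤ q := by omega
    nlinarith

/-- The shared hypotheses on one of the two middle sections. -/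
structure Side (X : ι → ι → ℤ) (D : ι → ℤ) : Prop where
  cong : ∀ χ η, (4 : ℤ) ∣ X χ η + D χ * D η
  symm : ∀ χ η, X χ η = X η χ
  idem : ∀ χ ψ, ∑ η, X χ η * X η ψ = 16 * X χ ψ
  orth : ∀ χ, ∑ η, X χ η * D η = 0
  trace : ∑ χ, X χ χ = 48
  dsq : ∑ χ, D χ ^ 2 = 16
  dia : ∀ χ, D χ ^ 2 = 4 → X χ χ = 4
  cases : ∀ χ, D χ ^ 2 = 1 ∨ D χ ^ 2 = 4

theorem Side.diag_nonneg {X : ι → ι → ℤ} {D : ι → ℤ} (h : Side X D) (χ : ι) : 0 ≤ X χ χ := by
  have h1 := h.idem χ χ
  have h2 : 0 ≤ ∑ η, X χ η * X η χ := Finset.sum_nonneg fun η _ => by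
    rw [← h.symm χ η]; exact mul_self_nonneg _
  omega

theorem Side.diag_three {X : ι → ι → ℤ} {D : ι → ℤ} (h : Side X D) {η : ι} (hη : D η ^ 2 = 1) :
    3 ≤ X η η ∧ (4 : ℤ) ∣ X η η - 3 := by
  have h1 := h.cong η η
  rw [← sq, hη] at h1
  have := h.diag_nonneg η
  omega

theorem Side.cross {X : ι → ι → ℤ} {D : ι → ℤ} (h : Side X D) {η χ : ι} (hη : D η ^ 2 = 1)
    (hχ : D χ ^ 2 = 4) : (4 : ℤ) ∣ X χ η - 2 := by
  have h1 := h.cong χ η
  have a : D η = 1 ∨ D η = -1 := by
    rcases sq_eq_one_iff.1 hη with e | e <;> simp [e]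
  have b : D χ = 2 ∨ D χ = -2 := by
    have : (D χ - 2) * (D χ + 2) = 0 := by linear_combination hχ
    rcases mul_eq_zero.1 this with e | e <;> omega
  rcases a with a | a <;> rcases b with b | b <;> rw [a, b] at h1 <;> omega

/-- At a character with contribution three the number of positive products is even. -/
theorem Side.even_pos {X : ι → ι → ℤ} {D : ι → ℤ} (h : Side X D) {η : ι} (hη : D η ^ 2 = 1)
    (h3 : X η η = 3) :
    Even ((Finset.univ.filter fun χ => D χ ^ 2 = 4 ∧ X χ η * D η * D χ = 4).card) ∧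
      ∀ χ, D χ ^ 2 = 4 → X χ η * D η * D χ = 4 ∨ X χ η * D η * D χ = -4 := by
  have hval : ∀ χ, D χ ^ 2 = 4 → X χ η ^ 2 = 4 := by
    intro χ hχ
    have hcs := Finset.sum_mul_sq_le_sq_mul_sq Finset.univ (fun ψ => X χ ψ) (fun ψ => X ψ η)
    have e1 : ∑ ψ, X χ ψ ^ 2 = 64 := by
      rw [Finset.sum_congr rfl fun ψ _ => show X χ ψ ^ 2 = X χ ψ * X ψ χ by rw [← h.symm χ ψ, sq],
        h.idem χ χ, h.dia χ hχ]
      norm_num
    have e2 : ∑ ψ, X ψ η ^ 2 = 48 := by
      rw [Finset.sum_congr rfl fun ψ _ => show X ψ η ^ 2 = X η ψ * X ψ η by rw [h.symm η ψ, sq],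
        h.idem η η, h3]
      norm_num
    rw [h.idem χ η, e1, e2] at hcs
    have hq := h.cross hη hχ
    set q := X χ η
    have h12 : q ^ 2 ≤ 12 := by nlinarith
    have hb1 : q ≤ 3 := by nlinarith
    have hb2 : -3 ≤ q := by nlinarith
    have : q = 2 ∨ q = -2 := by omega
    rcases this with e | e <;> rw [e] <;> norm_num
  have hpm : ∀ χ, D χ ^ 2 = 4 → X χ η * D η * D χ = 4 ∨ X χ η * D η * D χ = -4 := by
    intro χ hχ
    have : (X χ η * D η * D χ - 4) * (X χ η * D η * D χ + 4) = 0 := by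
      have e : (X χ η * D η * D χ) ^ 2 = 16 := by rw [mul_pow, mul_pow, hval χ hχ, hη, hχ]; norm_num
      linear_combination e
    rcases mul_eq_zero.1 this with e | e <;> omega
  refine ⟨?_, hpm⟩
  set F : ι → ℤ := fun χ => X χ η ^ 2 - 2 * (X χ η * D η * D χ) - 3 * D χ ^ 2 with hF
  have htot : ∑ χ, F χ = 0 := by
    simp only [hF, Finset.sum_sub_distrib, ← Finset.mul_sum, h.dsq]
    have e2 : ∑ ψ, X ψ η ^ 2 = 48 := by
      rw [Finset.sum_congr rfl fun ψ _ => show X ψ η ^ 2 = X η ψ * X ψ η by rw [h.symm η ψ, sq],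
        h.idem η η, h3]
      norm_num
    have e3 : ∑ χ, X χ η * D η * D χ = 0 := by
      rw [Finset.sum_congr rfl fun χ _ => show X χ η * D η * D χ = D η * (X η χ * D χ) by
        rw [h.symm χ η]; ring, ← Finset.mul_sum, h.orth, mul_zero]
    rw [e2, e3]; norm_num
  set S := Finset.univ.filter fun χ => D χ ^ 2 = 4 ∧ X χ η * D η * D χ = 4 with hS
  have hdiv : (32 : ℤ) ∣ ∑ χ, (F χ + if χ ∈ S then 16 else 0) := by
    refine Finset.dvd_sum fun χ _ => ?_
    rcases h.cases χ with hc | hc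
    · rw [if_neg fun hm => by rw [hS, Finset.mem_filter] at hm; omega]
      obtain ⟨j, hj⟩ : (4 : ℤ) ∣ X χ η * D η * D χ - 3 := by
        have h1 := h.cong χ η
        obtain ⟨j, hj⟩ := h1
        refine ⟨j * (D η * D χ) - 1, ?_⟩
        have e : D η ^ 2 * D χ ^ 2 = 1 := by rw [hη, hc]; norm_num
        linear_combination (D η * D χ) * hj - e
      obtain ⟨w, hw⟩ := Int.even_mul_succ_self j
      refine ⟨w, ?_⟩
      have e : X χ η ^ 2 = (X χ η * D η * D χ) ^ 2 := by rw [mul_pow, mul_pow, hη, hc]; ring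
      simp only [hF, e, hc]
      rw [show X χ η * D η * D χ = 4 * j + 3 by linarith]
      linear_combination (16 : ℤ) * hw
    · rcases hpm χ hc with e | e
      · rw [if_pos (by rw [hS, Finset.mem_filter]; exact ⟨Finset.mem_univ _, hc, e⟩)]
        simp only [hF, hval χ hc, e, hc]
        norm_num
      · rw [if_neg fun hm => by rw [hS, Finset.mem_filter] at hm; omega]
        simp only [hF, hval χ hc, e, hc]
        norm_num
  rw [Finset.sum_add_distrib, htot, zero_add, Finset.sum_ite_mem, Finset.univ_inter,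
    Finset.sum_const, nsmul_eq_mul] at hdiv
  obtain ⟨c, hc⟩ := hdiv
  rw [Nat.even_iff]
  omega

/-- One exceptional column value is impossible; two determine the row. -/
theorem Side.rows {X : ι → ι → ℤ} {D : ι → ℤ} (h : Side X D)
    (hm : (Finset.univ.filter fun χ => D χ ^ 2 = 4).card ≤ 2) {χ : ι} (hχ : D χ ^ 2 = 4) :
    ∀ η, X χ η = if D η ^ 2 = 4 then D χ * D η else -(D χ * D η) := by
  classical
  set S1 := Finset.univ.filter fun η => D η ^ 2 = 1 with hS1
  set S2 := Finset.univ.filter fun η => D η ^ 2 = 4 with hS2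
  have hsplit : ∀ f : ι → ℤ, ∑ η, f η = ∑ η ∈ S2, f η + ∑ η ∈ S1, f η := fun f => by
    rw [← Finset.sum_filter_add_sum_filter_not Finset.univ (fun η => D η ^ 2 = 4)]
    congr 1
    refine Finset.sum_congr (Finset.filter_congr fun η _ => ?_) fun _ _ => rfl
    rcases h.cases η with e | e <;> simp [e]
  have hc1 : (S1.card : ℤ) + 4 * S2.card = 16 := by
    have h1 := hsplit fun η => D η ^ 2
    rw [h.dsq, Finset.sum_congr rfl fun η (hη : η ∈ S2) => (Finset.mem_filter.1 hη).2,
      Finset.sum_congr rfl fun η (hη : η ∈ S1) => (Finset.mem_filter.1 hη).2, Finset.sum_const,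
      Finset.sum_const, nsmul_eq_mul, nsmul_eq_mul] at h1
    linarith
  have hq : ∀ η ∈ S1, (4 : ℤ) ∣ X χ η - 2 := fun η hη => h.cross (Finset.mem_filter.1 hη).2 hχ
  have hχm : χ ∈ S2 := Finset.mem_filter.2 ⟨Finset.mem_univ _, hχ⟩
  have hrow : ∑ η ∈ S2, X χ η ^ 2 + ∑ η ∈ S1, X χ η ^ 2 = 64 := by
    rw [← hsplit, Finset.sum_congr rfl fun ψ _ => show X χ ψ ^ 2 = X χ ψ * X ψ χ by
      rw [← h.symm χ ψ, sq], h.idem χ χ, h.dia χ hχ]
    norm_num
  have horth : ∑ η ∈ S2, X χ η * D η + ∑ η ∈ S1, X χ η * D η = 0 := by rw [← hsplit, h.orth]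
  have htr : ∑ η ∈ S1, X η η = 48 - 4 * (S2.card : ℤ) := by
    have h1 := hsplit fun η => X η η
    rw [h.trace, Finset.sum_congr rfl fun η (hη : η ∈ S2) => h.dia η (Finset.mem_filter.1 hη).2,
      Finset.sum_const, nsmul_eq_mul] at h1
    linarith
  have hP : ∀ η ∈ S1, X χ η ^ 2 = 4 → X χ η * D η * D χ = 4 ∨ X χ η * D η * D χ = -4 := by
    intro η hη hsq
    have : (X χ η * D η * D χ - 4) * (X χ η * D η * D χ + 4) = 0 := by
      have e : (X χ η * D η * D χ) ^ 2 = 16 := by
        rw [mul_pow, mul_pow, hsq, (Finset.mem_filter.1 hη).2, hχ]; norm_num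
      linear_combination e
    rcases mul_eq_zero.1 this with e | e <;> omega
  obtain h1 | h2 : S2.card = 1 ∨ S2.card = 2 := by
    have := Finset.card_pos.2 ⟨χ, hχm⟩
    omega
  · exfalso
    obtain ⟨c, hc⟩ := Finset.card_eq_one.1 h1
    obtain rfl : χ = c := by simpa [hc] using hχm
    rw [h1] at hc1 htr
    push_cast at hc1 htr
    rw [hc, Finset.sum_singleton, h.dia χ hχ] at hrow horth
    have hall : ∀ η ∈ S1, (4 : ℤ) = X χ η ^ 2 := by
      refine (Finset.sum_eq_sum_iff_of_le fun η hη => (sq_ge_four (hq η hη)).1).1 ?_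
      rw [Finset.sum_const, nsmul_eq_mul]
      linarith
    have hsum : ∑ η ∈ S1, X χ η * D η * D χ = -16 := by
      rw [← Finset.sum_mul]
      linear_combination (D χ) * horth - 4 * hχ
    have hle : ∀ η ∈ S1, X χ η * D η * D χ + 4 ≤ 2 * (X η η - 3) := by
      intro η hη
      have hd := h.diag_three (Finset.mem_filter.1 hη).2
      rcases hP η hη (hall η hη).symm with e | e
      · rw [e]
        by_contra hlt
        have h3 : X η η = 3 := by omega
        obtain ⟨hev, -⟩ := h.even_pos (Finset.mem_filter.1 hη).2 h3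
        have : (Finset.univ.filter fun ψ => D ψ ^ 2 = 4 ∧ X ψ η * D η * D ψ = 4) = {χ} := by
          rw [← hc, hS2]
          refine Finset.filter_congr fun ψ _ => ⟨fun hh => hh.1, fun hh => ⟨hh, ?_⟩⟩
          have : ψ ∈ S2 := Finset.mem_filter.2 ⟨Finset.mem_univ _, hh⟩
          rw [hc, Finset.mem_singleton] at this
          rw [this]; exact e
        rw [this, Finset.card_singleton] at hev
        exact absurd hev (by decide)
      · rw [e]; omega
    have := Finset.sum_le_sum hle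
    rw [Finset.sum_add_distrib, hsum, ← Finset.mul_sum, Finset.sum_sub_distrib, htr,
      Finset.sum_const, Finset.sum_const, nsmul_eq_mul, nsmul_eq_mul] at this
    linarith
  · obtain ⟨a, b, hab, hcab⟩ := Finset.card_eq_two.1 h2
    obtain ⟨χ', hne, hc⟩ : ∃ χ', χ ≠ χ' ∧ S2 = {χ, χ'} := by
      have := hχm
      rw [hcab, Finset.mem_insert, Finset.mem_singleton] at this
      rcases this with rfl | rfl
      · exact ⟨b, hab, hcab⟩
      · exact ⟨a, hab.symm, by rw [hcab, Finset.pair_comm]⟩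
    have hχ' : D χ' ^ 2 = 4 := by
      have : χ' ∈ S2 := by rw [hc]; simp
      exact (Finset.mem_filter.1 this).2
    rw [h2] at hc1 htr
    push_cast at hc1 htr
    rw [hc, Finset.sum_pair hne, h.dia χ hχ] at hrow horth
    set c := X χ χ' with hcdef
    have hDD : (D χ * D χ') ^ 2 = 16 := by rw [mul_pow, hχ, hχ']; norm_num
    have hc4 : (4 : ℤ) ∣ c := by
      have h1 := h.cong χ χ'
      have : D χ * D χ' = 4 ∨ D χ * D χ' = -4 := by
        have : (D χ * D χ' - 4) * (D χ * D χ' + 4) = 0 := by linear_combination hDD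
        rcases mul_eq_zero.1 this with e | e <;> omega
      rw [← hcdef] at h1
      omega
    have hge : (32 : ℤ) ≤ ∑ η ∈ S1, X χ η ^ 2 := by
      have := Finset.sum_le_sum (s := S1) (f := fun _ => (4 : ℤ))
        (g := fun η => X χ η ^ 2) fun η hη => (sq_ge_four (hq η hη)).1
      rw [Finset.sum_const, nsmul_eq_mul] at this
      linarith
    have hdv : (32 : ℤ) ∣ ∑ η ∈ S1, X χ η ^ 2 - 32 := by
      have := Finset.dvd_sum fun η hη => (sq_ge_four (hq η hη)).2
      rw [Finset.sum_sub_distrib, Finset.sum_const, nsmul_eq_mul] at this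
      obtain ⟨w, hw⟩ := this
      exact ⟨w, by linarith⟩
    have hc16 : c ^ 2 = 16 := by
      obtain ⟨j, hj⟩ := hc4
      obtain ⟨w, hw⟩ := hdv
      rw [hj] at hrow ⊢
      have : j ^ 2 ≤ 1 := by nlinarith
      have hj1 : j = 1 ∨ j = -1 := by
        have h1 : j ≤ 1 := by nlinarith
        have h2 : -1 ≤ j := by nlinarith
        rcases eq_or_ne j 0 with e | e
        · subst e; omega
        · omega
      rcases hj1 with e | e <;> rw [e] <;> norm_num
    have hall : ∀ η ∈ S1, (4 : ℤ) = X χ η ^ 2 := by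
      refine (Finset.sum_eq_sum_iff_of_le fun η hη => (sq_ge_four (hq η hη)).1).1 ?_
      rw [Finset.sum_const, nsmul_eq_mul]
      linarith
    have hprop : ∀ η, 4 * X χ' η = c * X χ η := by
      intro η
      have h0 : ∑ ψ, (4 * X χ' ψ - c * X χ ψ) ^ 2 = 0 := by
        rw [Finset.sum_congr rfl fun ψ _ => show (4 * X χ' ψ - c * X χ ψ) ^ 2 =
          16 * (X χ' ψ * X ψ χ') - 8 * c * (X χ ψ * X ψ χ') + c ^ 2 * (X χ ψ * X ψ χ) by
            rw [← h.symm χ' ψ, ← h.symm χ ψ]; ring]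
        rw [Finset.sum_add_distrib, Finset.sum_sub_distrib, ← Finset.mul_sum, ← Finset.mul_sum,
          ← Finset.mul_sum, h.idem, h.idem, h.idem, h.dia χ hχ, h.dia χ' hχ', ← hcdef]
        linear_combination (-64 : ℤ) * hc16
      have := (Finset.sum_eq_zero_iff_of_nonneg fun ψ _ => sq_nonneg _).1 h0 η (Finset.mem_univ _)
      have := sq_eq_zero_iff.1 this
      linarith
    have hsign : c = D χ * D χ' := by
      have : (c - D χ * D χ') * (c + D χ * D χ') = 0 := by linear_combination hc16 - hDD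
      rcases mul_eq_zero.1 this with e | e
      · linarith
      exfalso
      have h7 : ∀ η ∈ S1, (7 : ℤ) ≤ X η η := by
        intro η hη
        have hd := h.diag_three (Finset.mem_filter.1 hη).2
        by_contra hlt
        have h3 : X η η = 3 := by omega
        obtain ⟨hev, -⟩ := h.even_pos (Finset.mem_filter.1 hη).2 h3
        have hrel : X χ' η * D η * D χ' = -(X χ η * D η * D χ) := by
          have he : c = -(D χ * D χ') := by linarith
          have h4 := hprop η
          rw [he] at h4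
          refine Int.eq_of_mul_eq_mul_left (show (4 : ℤ) ≠ 0 by norm_num) ?_
          linear_combination (D η * D χ') * h4 - (D χ * X χ η * D η) * hχ'
        have hsub : (Finset.univ.filter fun ψ => D ψ ^ 2 = 4 ∧ X ψ η * D η * D ψ = 4).card = 1 := by
          rcases hP η hη (hall η hη).symm with e₁ | e₁
          · rw [Finset.card_eq_one]
            refine ⟨χ, Finset.ext fun ψ => ?_⟩
            simp only [Finset.mem_filter, Finset.mem_univ, true_and, Finset.mem_singleton]
            refine ⟨fun hh => ?_, fun hh => hh ▸ ⟨hχ, e₁⟩⟩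
            have hm' : ψ ∈ S2 := Finset.mem_filter.2 ⟨Finset.mem_univ _, hh.1⟩
            rw [hc, Finset.mem_insert, Finset.mem_singleton] at hm'
            rcases hm' with rfl | rfl
            · rfl
            · exfalso; rw [hrel, e₁] at hh; norm_num at hh
          · rw [Finset.card_eq_one]
            refine ⟨χ', Finset.ext fun ψ => ?_⟩
            simp only [Finset.mem_filter, Finset.mem_univ, true_and, Finset.mem_singleton]
            refine ⟨fun hh => ?_, fun hh => hh ▸ ⟨hχ', by rw [hrel, e₁]; norm_num⟩⟩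
            have hm' : ψ ∈ S2 := Finset.mem_filter.2 ⟨Finset.mem_univ _, hh.1⟩
            rw [hc, Finset.mem_insert, Finset.mem_singleton] at hm'
            rcases hm' with rfl | rfl
            · exfalso; rw [e₁] at hh; norm_num at hh
            · rfl
        rw [hsub] at hev
        exact absurd hev (by decide)
      have := Finset.sum_le_sum h7
      rw [Finset.sum_const, nsmul_eq_mul, htr] at this
      linarith
    have hneg : ∀ η ∈ S1, X χ η * D η * D χ = -4 := by
      have hsum : ∑ η ∈ S1, (X χ η * D η * D χ) = ∑ η ∈ S1, (-4 : ℤ) := by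
        rw [← Finset.sum_mul, Finset.sum_const, nsmul_eq_mul]
        linear_combination (D χ) * horth - 4 * hχ - (D χ * D χ') * hsign - hDD + 4 * hc1
      have hge' : ∀ η ∈ S1, (-4 : ℤ) ≤ X χ η * D η * D χ := fun η hη => by
        rcases hP η hη (hall η hη).symm with e | e <;> rw [e] <;> norm_num
      exact fun η hη => ((Finset.sum_eq_sum_iff_of_le hge').1 hsum.symm η hη).symm
    intro η
    rcases h.cases η with e | e
    · rw [if_neg (by omega)]
      have hη : η ∈ S1 := Finset.mem_filter.2 ⟨Finset.mem_univ _, e⟩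
      refine Int.eq_of_mul_eq_mul_left (show (4 : ℤ) ≠ 0 by norm_num) ?_
      have := hneg η hη
      linear_combination (D η * D χ) * this - (X χ η * D η ^ 2) * hχ - 4 * X χ η * e
    · rw [if_pos e]
      have hm' : η ∈ S2 := Finset.mem_filter.2 ⟨Finset.mem_univ _, e⟩
      rw [hc, Finset.mem_insert, Finset.mem_singleton] at hm'
      rcases hm' with rfl | rfl
      · rw [h.dia _ hχ, ← sq, hχ]
      · rw [← hsign]

/-- All columns of the free involution are signs. -/
theorem card_sixteen (o : ι) (A₁ X Z : ι → ι → ℤ) (D : ι → ℤ)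
    (hsum : ∀ χ η, A₁ χ η + X χ η + Z χ η + D χ * D η = if χ = η then 16 else 0)
    (d1 : ∀ χ η, (4 : ℤ) ∣ A₁ χ η + X χ η) (d2 : ∀ χ η, (4 : ℤ) ∣ A₁ χ η + Z χ η)
    (sX : ∀ χ η, X χ η = X η χ) (sZ : ∀ χ η, Z χ η = Z η χ)
    (iX : ∀ χ ψ, ∑ η, X χ η * X η ψ = 16 * X χ ψ)
    (iZ : ∀ χ ψ, ∑ η, Z χ η * Z η ψ = 16 * Z χ ψ)
    (oXZ : ∀ χ ψ, ∑ η, X χ η * Z η ψ = 0)
    (oX : ∀ χ, ∑ η, X χ η * D η = 0) (oZ : ∀ χ, ∑ η, Z χ η * D η = 0)
    (tX : ∑ χ, X χ χ = 48) (tZ : ∑ χ, Z χ χ = 48) (ho : D o = 1) (hD : ∀ χ, D χ ≠ 0)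
    (hpos : ∀ χ, 0 < A₁ χ χ) (hDsq : ∑ χ, D χ ^ 2 = 16) (hk : 9 ≤ Fintype.card ι) :
    Fintype.card ι = 16 := by
  classical
  have hDX : ∀ χ η, (4 : ℤ) ∣ X χ η + D χ * D η := fun χ η => by
    have := d2 χ η; have := hsum χ η
    split_ifs at this <;> omega
  have hDZ : ∀ χ η, (4 : ℤ) ∣ Z χ η + D χ * D η := fun χ η => by
    have := d1 χ η; have := hsum χ η
    split_ifs at this <;> omega
  have hone : ∀ χ, (1 : ℤ) ≤ D χ ^ 2 := fun χ => sq_pos_of_ne_zero (hD χ)
  have hsq : ∀ χ, D χ ^ 2 - 1 ≤ 7 := by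
    intro χ
    have h1 := Finset.single_le_sum (f := fun χ => D χ ^ 2 - 1)
      (fun η _ => by have := hone η; linarith) (Finset.mem_univ χ)
    rw [Finset.sum_sub_distrib, hDsq, Finset.sum_const, nsmul_eq_mul, mul_one,
      Finset.card_univ] at h1
    have : (9 : ℤ) ≤ (Fintype.card ι : ℤ) := by exact_mod_cast hk
    linarith
  have hcases : ∀ χ, D χ ^ 2 = 1 ∨ D χ ^ 2 = 4 := by
    intro χ
    have h8 := hsq χ
    have h1 : D χ ≤ 2 := by nlinarith
    have h2 : -2 ≤ D χ := by nlinarith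
    have := hD χ
    rcases (by omega : D χ = 1 ∨ D χ = -1 ∨ D χ = 2 ∨ D χ = -2) with e | e | e | e <;>
      rw [e] <;> norm_num
  have hdia : ∀ χ, D χ ^ 2 = 4 → X χ χ = 4 ∧ Z χ χ = 4 := by
    intro χ hχ
    have hev : D χ = 2 ∨ D χ = -2 := by
      have : (D χ - 2) * (D χ + 2) = 0 := by linear_combination hχ
      rcases mul_eq_zero.1 this with e | e <;> omega
    have key : ∀ W : ι → ι → ℤ, (∀ a b, (4 : ℤ) ∣ W a b + D a * D b) → (∀ a b, W a b = W b a) →
        (∀ a b, ∑ η, W a η * W η b = 16 * W a b) → 4 ≤ W χ χ := by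
      intro W hW sW iW
      have hne : W χ o ≠ 0 := fun h0 => by
        have h1 := hW χ o
        rw [h0, ho] at h1
        rcases hev with e | e <;> rw [e] at h1 <;> norm_num at h1
      have h2 : 0 < ∑ η, W χ η * W η χ := by
        refine Finset.sum_pos' (fun η _ => by rw [← sW χ η]; exact mul_self_nonneg _)
          ⟨o, Finset.mem_univ _, ?_⟩
        rw [← sW χ o]; exact mul_self_pos.2 hne
      rw [iW] at h2
      have h3 := hW χ χ
      rw [← sq, hχ] at h3
      omega
    have hx := key X hDX sX iX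
    have hz := key Z hDZ sZ iZ
    have h1 := hsum χ χ
    rw [if_pos rfl, ← sq, hχ] at h1
    have := hDX χ χ
    rw [← sq, hχ] at this
    have := d1 χ χ
    have := hpos χ
    omega
  have hcard : ((Finset.univ.filter fun χ => D χ ^ 2 = 4).card : ℤ) * 3 =
      16 - Fintype.card ι := by
    have : ∑ χ, (D χ ^ 2 - 1) = ∑ χ, if D χ ^ 2 = 4 then (3 : ℤ) else 0 :=
      Finset.sum_congr rfl fun χ _ => by rcases hcases χ with e | e <;> simp [e]
    rw [Finset.sum_sub_distrib, hDsq, Finset.sum_const, nsmul_eq_mul, mul_one, ← Finset.sum_filter,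
      Finset.sum_const, nsmul_eq_mul, Finset.card_univ] at this
    linarith
  have hm : (Finset.univ.filter fun χ => D χ ^ 2 = 4).card ≤ 2 := by omega
  rcases Nat.eq_zero_or_pos (Finset.univ.filter fun χ => D χ ^ 2 = 4).card with h0 | hp
  · omega
  exfalso
  obtain ⟨χ, hχ⟩ := Finset.card_pos.1 hp
  have hχ4 := (Finset.mem_filter.1 hχ).2
  have hX : Side X D := ⟨hDX, sX, iX, oX, tX, hDsq, fun a ha => (hdia a ha).1, hcases⟩
  have hZ : Side Z D := ⟨hDZ, sZ, iZ, oZ, tZ, hDsq, fun a ha => (hdia a ha).2, hcases⟩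
  have h1 := oXZ χ χ
  rw [Finset.sum_congr rfl fun η _ => show X χ η * Z η χ = X χ η * X η χ by
    rw [← sZ χ η, ← sX χ η, hX.rows hm hχ4 η, hZ.rows hm hχ4 η], iX, (hdia χ hχ4).1] at h1
  norm_num at h1

end Cfsg.Agent.Char.SecInner.Comb
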