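import Cfsg.Agent.Lib.Char.SecInner
import Cfsg.Agent.Lib.Char.RankOneBasic
import Cfsg.Agent.Lib.Char.SecSixteenComb

/-!
Principal 2-blocks with an elementary Sylow subgroup of order 16: rank three when the inertial
index is 3 with fixed subgroup of order 4.
-/

open scoped ComplexConjugate

namespace Cfsg.Agent.Char.SecInner

open Cfsg.Agent.Block Cfsg.Agent.Char Cfsg.Agent.Char.BP Cfsg.Agent.Char.Spec Cfsg.Agent.Char.Star
open Cfsg.Agent.Transfer

set_option linter.unusedSectionVars false
set_option linter.style.haveILetI false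

universe u

section General

variable {G : Type u} [Group G] [Fintype G] {p : ℕ} [Fact p.Prime] {M : Ideal AlgInt}

theorem ppow_of_mem (P : Sylow p G) {u : G} (hu : u ∈ (P : Subgroup G)) :
    ∃ k, orderOf u = p ^ k := by
  obtain ⟨k, hk⟩ := IsPGroup.iff_orderOf.1 P.isPGroup' ⟨u, hu⟩
  exact ⟨k, by rwa [Subgroup.orderOf_mk] at hk⟩

theorem ppt_eq_one_iff (g : G) : IsConj 1 (ppt p g) ↔ ¬ p ∣ orderOf g := by
  rw [isConj_one_right, eq_comm]
  obtain ⟨v, hv, -, -, hr⟩ := ppt_spec (p := p) g
  refine ⟨fun h => ?_, fun h => ?_⟩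
  · rw [← h, one_mul] at hv
    rwa [← hv]
  · exact (pPart_unique (p := p) (ppt_spec g) (⟨g, one_mul g, Commute.one_left g, ⟨0, by simp⟩, h⟩ :
      IsPPart p g 1)).symm

/-- The trace at the identity. -/
theorem sum_T_one (hM : IsPModular p M) [DecidablePred (· ∈ principalBlock M G)] :
    ∑ χ ∈ Finset.univ.filter (· ∈ principalBlock M G), T p 1 (χ : G → ℂ) (χ : G → ℂ) =
      (blockRank p (principalBlock M G) : ℂ) := by
  classical
  have key := sum_regSum_self hM (isPBlock_principalBlock (M := M) (G := G))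
  have hT : ∀ χ : IrrCharacter G, T p 1 (χ : G → ℂ) (χ : G → ℂ) =
      (Nat.card G : ℂ)⁻¹ * regSum p (χ : G → ℂ) (χ : G → ℂ) := by
    intro χ
    rw [T, regSum_eq_sum, Finset.sum_filter]
    congr 1
    exact Finset.sum_congr rfl fun g _ => if_congr (ppt_eq_one_iff g) rfl rfl
  rw [Finset.sum_congr rfl fun χ _ => hT χ, ← Finset.mul_sum, key,
    inv_mul_cancel_left₀ (Nat.cast_ne_zero.2 Nat.card_pos.ne')]

theorem rank_cent_one (hM : IsPModular p M) :
    blockRank p (principalBlock M (Subgroup.centralizer ({(1 : G)} : Set G))) =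
      blockRank p (principalBlock M G) := by
  classical
  exact_mod_cast (sum_T_self hM (u := (1 : G)) ⟨0, by simp⟩).symm.trans (sum_T_one hM)

theorem centralizer_eq_top {u : G} (hu : u ∈ Subgroup.center G) :
    Subgroup.centralizer ({u} : Set G) = ⊤ :=
  eq_top_iff.2 fun g _ => Subgroup.mem_centralizer_singleton_iff.2 (Subgroup.mem_center_iff.1 hu g)

/-- A central involution has the rank of the identity. -/
theorem rank_cent_central (hM : IsPModular p M) {u : G} (hu : u ∈ Subgroup.center G)
    (hu2 : u * u = 1) (hup : ∃ k, orderOf u = p ^ k) :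
    blockRank p (principalBlock M (Subgroup.centralizer ({u} : Set G))) =
      blockRank p (principalBlock M G) := by
  classical
  have h : ∀ χ : IrrCharacter G, T p u (χ : G → ℂ) (χ : G → ℂ) =
      T p 1 (χ : G → ℂ) (χ : G → ℂ) := by
    intro χ
    have h1 : ⊤ = Subgroup.centralizer ({(1 : G)} : Set G) :=
      (centralizer_eq_top (one_mem _)).symm
    cases nonempty_fintype (Subgroup.centralizer ({u} : Set G))
    cases nonempty_fintype (Subgroup.centralizer ({(1 : G)} : Set G))
    have he : Subgroup.centralizer ({u} : Set G) = Subgroup.centralizer ({(1 : G)} : Set G) := by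
      rw [centralizer_eq_top hu, h1]
    set w := centralChar (χ : G → ℂ) u with hw
    have hw2 : w * w = 1 := by
      have e1 : (χ : G → ℂ) 1 = w * (χ : G → ℂ) u := by
        rw [← centralChar_of_center hu u, hu2]
      have e2 : (χ : G → ℂ) u = w * (χ : G → ℂ) 1 := by
        rw [← centralChar_of_center hu 1, mul_one]
      rw [e2, ← mul_assoc] at e1
      exact mul_right_cancel₀ (irr_one_ne_zero χ) (by rw [one_mul]; exact e1.symm)
    have hconj : w * conj w = 1 := by
      rcases mul_self_eq_one_iff.1 hw2 with e | e <;> rw [e] <;> simp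
    rw [T_eq_cent hup (irr_classFun χ) (irr_classFun χ),
      T_eq_cent ⟨0, by simp⟩ (irr_classFun χ) (irr_classFun χ),
      Nat.card_congr (MulEquiv.subgroupCongr he).toEquiv]
    congr 1
    refine Finset.sum_nbij' (MulEquiv.subgroupCongr he) (MulEquiv.subgroupCongr he).symm
      (fun c hc => ?_) (fun c hc => ?_) (fun c _ => by simp) (fun c _ => by simp) fun c _ => ?_
    · simp only [Finset.mem_coe, Finset.mem_filter, MulEquiv.orderOf_eq]
      exact ⟨Finset.mem_univ _, (Finset.mem_filter.1 hc).2⟩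
    · simp only [Finset.mem_coe, Finset.mem_filter, MulEquiv.orderOf_eq]
      exact ⟨Finset.mem_univ _, (Finset.mem_filter.1 hc).2⟩
    · rw [one_mul, centralChar_of_center hu (c : G), ← hw, map_mul]
      show w * (χ : G → ℂ) c * (conj w * conj ((χ : G → ℂ) c)) = _
      rw [show w * (χ : G → ℂ) c * (conj w * conj ((χ : G → ℂ) c)) =
        (w * conj w) * ((χ : G → ℂ) c * conj ((χ : G → ℂ) c)) by ring, hconj, one_mul]
      rfl
  have h2 := sum_T_self hM (u := u) hup
  rw [Finset.sum_congr rfl fun χ _ => h χ, sum_T_one hM] at h2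
  exact_mod_cast h2.symm

/-- Conjugation inside the centralizer of an element of an abelian Sylow subgroup. -/
theorem conj_in_cent (P : Sylow p G) (hab : IsMulCommutative (P : Subgroup G)) {u v w : G}
    (hu : u ∈ (P : Subgroup G)) (hv : v ∈ (P : Subgroup G)) (hw : w ∈ (P : Subgroup G))
    (h : ∃ g : G, g * u * g⁻¹ = u ∧ g * v * g⁻¹ = w) :
    ∃ t ∈ Subgroup.normalizer (P : Set G), t * u * t⁻¹ = u ∧ t * v * t⁻¹ = w := by
  obtain ⟨g, hgu, hgv⟩ := h
  have hPC : (P : Subgroup G) ≤ Subgroup.centralizer ({u} : Set G) := fun a ha =>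
    Subgroup.mem_centralizer_singleton_iff.2
      (congrArg Subtype.val (hab.is_comm.comm ⟨a, ha⟩ ⟨u, hu⟩))
  have hgC : g ∈ Subgroup.centralizer ({u} : Set G) :=
    Subgroup.mem_centralizer_singleton_iff.2 (mul_inv_eq_iff_eq_mul.1 hgu)
  have hab' : IsMulCommutative ↥((P.subtype hPC : Sylow p (Subgroup.centralizer ({u} : Set G))) :
      Subgroup (Subgroup.centralizer ({u} : Set G))) :=
    ⟨⟨fun a b => Subtype.ext (Subtype.ext
      (congrArg Subtype.val (hab.is_comm.comm ⟨_, a.2⟩ ⟨_, b.2⟩) :))⟩⟩
  obtain ⟨n, hn, hne⟩ := exists_normalizer_conj_of_abelian (P.subtype hPC) hab'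
    (x := ⟨v, hPC hv⟩) (g := ⟨g, hgC⟩) hv (show g * v * g⁻¹ ∈ (P : Subgroup G) from hgv ▸ hw)
  refine ⟨n, ?_, mul_inv_eq_iff_eq_mul.2 (Subgroup.mem_centralizer_singleton_iff.1 n.2), ?_⟩
  · refine Subgroup.mem_set_normalizer_iff.2 fun a => ?_
    show a ∈ (P : Subgroup G) ↔ _ ∈ (P : Subgroup G)
    constructor
    · intro ha
      exact (Subgroup.mem_set_normalizer_iff.1 hn ⟨a, hPC ha⟩).1 ha
    · intro ha
      have hmem : a ∈ Subgroup.centralizer ({u} : Set G) := by
        have := mul_mem (mul_mem (inv_mem n.2) (hPC ha)) n.2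
        simpa [mul_assoc] using this
      exact (Subgroup.mem_set_normalizer_iff.1 hn ⟨a, hmem⟩).2 ha
  · exact (congrArg Subtype.val hne).trans hgv

/-- Burnside's criterion in a centralizer. -/
theorem complement_cent (P : Sylow p G) (hab : IsMulCommutative (P : Subgroup G)) {u : G}
    (hu : u ∈ (P : Subgroup G))
    (hfree : ∀ t ∈ Subgroup.normalizer (P : Set G), t * u * t⁻¹ = u →
      t ∈ Subgroup.centralizer (P : Set G)) :
    HasNormalPComplement p (Subgroup.centralizer ({u} : Set G)) := by
  have hPC : (P : Subgroup G) ≤ Subgroup.centralizer ({u} : Set G) := fun a ha =>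
    Subgroup.mem_centralizer_singleton_iff.2
      (congrArg Subtype.val (hab.is_comm.comm ⟨a, ha⟩ ⟨u, hu⟩))
  refine hasNormalPComplement_of_control (P.subtype hPC) fun x hx y hy ⟨g, hg⟩ => ?_
  obtain ⟨t, ht, htu, htv⟩ := conj_in_cent P hab hu (show (x : G) ∈ _ from hx)
    (show (y : G) ∈ _ from hy)
    ⟨g, mul_inv_eq_iff_eq_mul.2 (Subgroup.mem_centralizer_singleton_iff.1 g.2),
      congrArg Subtype.val hg⟩
  refine ⟨1, one_mem _, ?_⟩
  have h := Subgroup.mem_centralizer_iff.1 (hfree t ht htu) (x : G) hx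
  rw [← h, mul_inv_cancel_right] at htv
  simpa using Subtype.ext htv

/-- With a normal complement, conjugate elements of an abelian Sylow subgroup are equal. -/
theorem eq_of_complement (P : Sylow p G) (hab : IsMulCommutative (P : Subgroup G))
    (hc : HasNormalPComplement p G) {v w : G} (hv : v ∈ (P : Subgroup G))
    (hw : w ∈ (P : Subgroup G)) (h : IsConj v w) : v = w := by
  obtain ⟨N, hN, hd, k, hk⟩ := hasNormalPComplement_iff_exists.1 hc
  haveI := hN
  obtain ⟨g, hg⟩ := isConj_iff.1 h
  have hint : ∀ a ∈ (P : Subgroup G), a ∈ N → a = 1 := fun a ha haN => by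
    obtain ⟨j, hj⟩ := ppow_of_mem P ha
    have h2 : orderOf a ∣ Nat.card N := by
      rw [← Subgroup.orderOf_mk a haN]; exact orderOf_dvd_natCard _
    rcases Nat.eq_zero_or_pos j with rfl | hj0
    · exact orderOf_eq_one_iff.1 (by simpa using hj)
    · exact absurd ((dvd_pow_self p hj0.ne').trans (hj ▸ h2)) hd
  let f : (P : Subgroup G) →* G ⧸ N := (QuotientGroup.mk' N).comp (P : Subgroup G).subtype
  have hinj : Function.Injective f := (injective_iff_map_eq_one f).2 fun a ha =>
    Subtype.ext (hint a a.2 ((QuotientGroup.eq_one_iff (a : G)).1 ha))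
  have hsurj : Function.Surjective f := by
    refine ((Nat.bijective_iff_injective_and_card f).2 ⟨hinj, ?_⟩).2
    have hqk : Nat.card (G ⧸ N) = p ^ k := by rw [← Subgroup.index_eq_card, hk]
    have h1 : Nat.card G = Nat.card N * p ^ k := by rw [← hk, mul_comm, N.index_mul_card]
    rw [hqk, Sylow.card_eq_multiplicity P, h1,
      Nat.factorization_mul Nat.card_pos.ne' (pow_ne_zero _ (Fact.out : p.Prime).ne_zero),
      Finsupp.add_apply, Nat.factorization_eq_zero_of_not_dvd hd, zero_add,
      Nat.Prime.factorization_pow (Fact.out : p.Prime), Finsupp.single_eq_same]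
  obtain ⟨a, ha⟩ := hsurj (QuotientGroup.mk' N g)
  have e : f ⟨w, hw⟩ = f ⟨v, hv⟩ := by
    show QuotientGroup.mk' N w = QuotientGroup.mk' N v
    rw [← hg, map_mul, map_mul, map_inv, ← ha,
      show QuotientGroup.mk' N v = f ⟨v, hv⟩ from rfl, ← map_inv, ← map_mul, ← map_mul,
      hab.is_comm.comm a ⟨v, hv⟩, mul_inv_cancel_right]
  exact (congrArg Subtype.val (hinj e)).symm

open Classical in
/-- The count of the characters by traces. -/
theorem card_eq_traces (hM : IsPModular p M) (P : Sylow p G) :
    (Nat.card (principalBlock M G) : ℂ) =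
      ∑ v ∈ Finset.univ.filter (fun v : G => v ∈ (P : Subgroup G)),
        (blockRank p (principalBlock M (Subgroup.centralizer ({v} : Set G))) : ℂ) /
          (cnum P v : ℂ) := by
  classical
  rw [Finset.sum_congr rfl fun v hv => by
    rw [← sum_T_self hM (ppow_of_mem P (Finset.mem_filter.1 hv).2), Finset.sum_div],
    Finset.sum_comm, Finset.sum_congr rfl fun (χ : IrrCharacter G) _ =>
      sum_T P (χ : G → ℂ) (χ : G → ℂ),
    Finset.sum_congr rfl fun (χ : IrrCharacter G) _ => classInner_self_irr χ.2, Finset.sum_const,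
    nsmul_eq_mul, mul_one, Nat.cast_inj, Nat.card_eq_fintype_card]
  exact Fintype.card_of_subtype _ fun χ => by simp

end General

section Two

variable {G : Type u} [Group G] [Fintype G] {M : Ideal AlgInt}

/-- The column of a rank-one involution: nonzero integers whose squares sum to the order of the
Sylow subgroup. -/
theorem exists_column (hM : IsPModular 2 M) (P : Sylow 2 G)
    (hab : IsMulCommutative (P : Subgroup G)) {y : G} (hy : y ∈ (P : Subgroup G)) (hy2 : y * y = 1)
    (hc : HasNormalPComplement 2 (Subgroup.centralizer ({y} : Set G)))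
    [DecidablePred (· ∈ principalBlock M G)] :
    ∃ D : IrrCharacter G → ℤ, (∀ χ : IrrCharacter G, (χ : G → ℂ) y = D χ) ∧
      (∀ χ ∈ principalBlock M G, D χ ≠ 0) ∧
      ∑ χ ∈ Finset.univ.filter (· ∈ principalBlock M G), D χ ^ 2 =
        (Nat.card (P : Subgroup G) : ℤ) := by
  classical
  haveI : Fact (Nat.Prime 2) := ⟨Nat.prime_two⟩
  choose D hD using fun χ : IrrCharacter G => char_involution_int χ hy2
  have hPC : (P : Subgroup G) ≤ Subgroup.centralizer ({y} : Set G) := fun a ha =>
    Subgroup.mem_centralizer_singleton_iff.2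
      (congrArg Subtype.val (hab.is_comm.comm ⟨a, ha⟩ ⟨y, hy⟩))
  refine ⟨D, hD, fun χ hχ h0 => value_ne_zero hM P hPC hχ (by rw [hD χ, h0, Int.cast_zero]), ?_⟩
  have h1 := sum_T_self hM (u := y) (ppow_of_mem P hy)
  rw [rank_one_of_complement hM hc, Finset.sum_congr rfl fun (χ : IrrCharacter G) hχ => T_rank_one hM P hy hab hc
      (Finset.mem_filter.1 hχ).2 (Finset.mem_filter.1 hχ).2, ← Finset.sum_div,
    Finset.sum_congr rfl fun (χ : IrrCharacter G) _ => show (χ : G → ℂ) y * conj ((χ : G → ℂ) y) = (D χ : ℂ) ^ 2 by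
      rw [hD χ, map_intCast, sq], Nat.cast_one,
    div_eq_one_iff_eq (Nat.cast_ne_zero.2 Nat.card_pos.ne')] at h1
  exact_mod_cast h1

theorem column_card (hM : IsPModular 2 M) (P : Sylow 2 G) (hcard : Nat.card (P : Subgroup G) = 16)
    (hab : IsMulCommutative (P : Subgroup G)) {y : G} (hy : y ∈ (P : Subgroup G)) (hy2 : y * y = 1)
    (hc : HasNormalPComplement 2 (Subgroup.centralizer ({y} : Set G))) :
    Nat.card (principalBlock M G) ≤ 16 ∧ Nat.card (principalBlock M G) ≠ 12 ∧
      Nat.card (principalBlock M G) ≠ 14 := by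
  classical
  obtain ⟨D, -, h0, hs⟩ := exists_column hM P hab hy hy2 hc
  rw [hcard] at hs
  set S := Finset.univ.filter (· ∈ principalBlock M G) with hS
  have hk : Nat.card (principalBlock M G) = S.card := by
    rw [Nat.card_eq_fintype_card]
    exact Fintype.card_of_subtype _ fun χ => by simp [S]
  have h1 : ∀ χ ∈ S, 1 ≤ D χ ^ 2 := fun χ hχ => sq_pos_of_ne_zero (h0 χ (Finset.mem_filter.1 hχ).2)
  have hsum : ∑ χ ∈ S, (D χ ^ 2 - 1) = 16 - (S.card : ℤ) := by
    rw [Finset.sum_sub_distrib, hs, Finset.sum_const, nsmul_eq_mul, mul_one]; norm_num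
  have hle : (S.card : ℤ) ≤ 16 := by
    have := Finset.sum_nonneg fun χ (hχ : χ ∈ S) => sub_nonneg.2 (h1 χ hχ)
    linarith
  rw [hk]
  refine ⟨by omega, ?_⟩
  by_contra hcon
  have hbig : ∀ χ ∈ S, D χ ^ 2 - 1 = 0 ∨ D χ ^ 2 - 1 = 3 := by
    intro χ hχ
    have h2 := Finset.single_le_sum (f := fun χ => D χ ^ 2 - 1)
      (fun η hη => sub_nonneg.2 (h1 η hη)) hχ
    have h4 : (D χ) ^ 2 - 1 ≤ 4 := by omega
    have a1 : D χ ≤ 2 := by nlinarith
    have a2 : -2 ≤ D χ := by nlinarith
    have := h0 χ (Finset.mem_filter.1 hχ).2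
    rcases (by omega : D χ = 1 ∨ D χ = -1 ∨ D χ = 2 ∨ D χ = -2) with e | e | e | e <;>
      rw [e] <;> norm_num
  have h3 : (3 : ℤ) ∣ ∑ χ ∈ S, (D χ ^ 2 - 1) := Finset.dvd_sum fun χ hχ => by
    rcases hbig χ hχ with e | e <;> rw [e] <;> norm_num
  omega

open Classical in
/-- The hypotheses: inertial index three, fixed subgroup `F` of order four. -/
structure Three (P : Sylow 2 G) (F : Subgroup G) : Prop where
  card : Nat.card (P : Subgroup G) = 16
  sq : ∀ v ∈ (P : Subgroup G), v * v = 1
  le : F ≤ (P : Subgroup G)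
  cardF : Nat.card F = 4
  fixed : ∀ f ∈ F, ∀ w ∈ (P : Subgroup G), IsConj f w → w = f
  orbit : ∀ v ∈ (P : Subgroup G), v ∉ F → cnum P v = 3
  nil : ∀ v ∈ (P : Subgroup G), v ∉ F →
    HasNormalPComplement 2 (Subgroup.centralizer ({v} : Set G))

theorem Three.comm {P : Sylow 2 G} {F : Subgroup G} (h : Three P F) :
    IsMulCommutative (P : Subgroup G) :=
  ⟨⟨fun a b => Subtype.ext (Commute.of_orderOf_dvd_two (fun g : (P : Subgroup G) =>
    orderOf_dvd_of_pow_eq_one (by rw [pow_two]; exact Subtype.ext (h.sq g g.2))) a b ▸ rfl)⟩⟩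

theorem Three.exists_out {P : Sylow 2 G} {F : Subgroup G} (h : Three P F) :
    ∃ v ∈ (P : Subgroup G), v ∉ F := by
  by_contra hc
  push Not at hc
  have := Subgroup.card_le_of_le (show (P : Subgroup G) ≤ F from hc)
  rw [h.card, h.cardF] at this
  omega

theorem Three.count (hM : IsPModular 2 M) {P : Sylow 2 G} {F : Subgroup G} (h : Three P F)
    [DecidablePred (· ∈ F)] :
    (Nat.card (principalBlock M G) : ℕ) = (∑ f ∈ Finset.univ.filter (fun v : G => v ∈ F),
      blockRank 2 (principalBlock M (Subgroup.centralizer ({f} : Set G)))) + 4 := by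
  classical
  haveI : Fact (Nat.Prime 2) := ⟨Nat.prime_two⟩
  suffices H : (Nat.card (principalBlock M G) : ℂ) =
      ((∑ f ∈ Finset.univ.filter (fun v : G => v ∈ F),
        blockRank 2 (principalBlock M (Subgroup.centralizer ({f} : Set G)))) + 4 : ℕ) by
    exact_mod_cast H
  rw [card_eq_traces hM P,
    ← Finset.sum_filter_add_sum_filter_not (Finset.univ.filter fun v : G => v ∈ (P : Subgroup G))
      (fun v => v ∈ F), Nat.cast_add, Nat.cast_sum]
  congr 1
  · refine Finset.sum_congr ?_ fun f hf => ?_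
    · ext v
      simp only [Finset.mem_filter, Finset.mem_univ, true_and]
      exact ⟨fun hv => hv.2, fun hv => ⟨h.le hv, hv⟩⟩
    · simp only [Finset.mem_filter, Finset.mem_univ, true_and] at hf
      have : cnum P f = 1 := by
        rw [cnum, Finset.card_eq_one]
        refine ⟨f, Finset.ext fun w => ?_⟩
        simp only [Finset.mem_filter, Finset.mem_univ, true_and, Finset.mem_singleton]
        refine ⟨fun hw => h.fixed f hf w hw.1 hw.2, ?_⟩
        rintro rfl
        exact ⟨h.le hf, IsConj.refl _⟩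
      rw [this, Nat.cast_one, div_one]
  · rw [Finset.sum_congr rfl fun v hv => show _ = ((1 : ℂ) / 3) by
      simp only [Finset.mem_filter, Finset.mem_univ, true_and] at hv
      rw [h.orbit v hv.1 hv.2, rank_one_of_complement hM (h.nil v hv.1 hv.2)]
      norm_num]
    rw [Finset.sum_const, nsmul_eq_mul]
    have hP : (Finset.univ.filter fun v : G => v ∈ (P : Subgroup G)).card = 16 := by
      rw [← h.card, Nat.card_eq_fintype_card]; exact (Fintype.card_subtype _).symm
    have hF : ((Finset.univ.filter fun v : G => v ∈ (P : Subgroup G)).filter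
        fun v => v ∈ F).card = 4 := by
      rw [← h.cardF, Nat.card_eq_fintype_card, Finset.filter_filter]
      refine (Eq.trans ?_ (Fintype.card_subtype _).symm)
      exact congrArg Finset.card (Finset.filter_congr fun v _ =>
        ⟨fun hv => hv.2, fun hv => ⟨h.le hv, hv⟩⟩)
    have hs := Finset.card_filter_add_card_filter_not
      (s := Finset.univ.filter fun v : G => v ∈ (P : Subgroup G)) (fun v => v ∈ F)
    rw [hP, hF] at hs
    rw [show ((Finset.univ.filter fun v : G => v ∈ (P : Subgroup G)).filter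
      fun v => ¬ v ∈ F).card = 12 by omega]
    norm_num

theorem Three.rank_ne_one (hM : IsPModular 2 M) {P : Sylow 2 G} {F : Subgroup G} (h : Three P F) :
    blockRank 2 (principalBlock M G) ≠ 1 := by
  classical
  haveI : Fact (Nat.Prime 2) := ⟨Nat.prime_two⟩
  intro h1
  obtain ⟨v, hv, hvF⟩ := h.exists_out
  have := h.orbit v hv hvF
  have hle : cnum P v ≤ 1 := by
    refine Finset.card_le_one.2 fun a ha b hb => ?_
    simp only [Finset.mem_filter, Finset.mem_univ, true_and] at ha hb
    exact eq_of_complement P h.comm (complement_of_rank_one hM h1) ha.1 hb.1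
      (ha.2.symm.trans hb.2)
  omega

/-- All fixed elements central. -/
theorem Three.rank_central (hM : IsPModular 2 M) {P : Sylow 2 G} {F : Subgroup G} (h : Three P F)
    (hcen : ∀ f ∈ F, f ∈ Subgroup.center G) : blockRank 2 (principalBlock M G) = 3 := by
  classical
  haveI : Fact (Nat.Prime 2) := ⟨Nat.prime_two⟩
  have hk := h.count hM
  rw [Finset.sum_congr rfl fun f hf => rank_cent_central hM (hcen f (Finset.mem_filter.1 hf).2)
    (h.sq f (h.le (Finset.mem_filter.1 hf).2)) (ppow_of_mem P (h.le (Finset.mem_filter.1 hf).2)),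
    Finset.sum_const, smul_eq_mul,
    show (Finset.univ.filter fun v : G => v ∈ F).card = 4 by
      rw [← h.cardF, Nat.card_eq_fintype_card]; exact (Fintype.card_subtype _).symm] at hk
  obtain ⟨v, hv, hvF⟩ := h.exists_out
  obtain ⟨h1, h2, -⟩ := column_card hM P h.card h.comm hv (h.sq v hv) (h.nil v hv hvF)
  have := h.rank_ne_one hM
  have := Res.blockRank_pos hM (isPBlock_principalBlock (M := M) (G := G))
  omega

/-- The hypotheses pass to the centralizer of a fixed element. -/
theorem Three.cent {P : Sylow 2 G} {F : Subgroup G} (h : Three P F) {f : G} (hf : f ∈ F)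
    [Fintype (Subgroup.centralizer ({f} : Set G))]
    (hPC : (P : Subgroup G) ≤ Subgroup.centralizer ({f} : Set G)) :
    Three (P.subtype hPC) (F.subgroupOf (Subgroup.centralizer ({f} : Set G))) := by
  classical
  haveI : Fact (Nat.Prime 2) := ⟨Nat.prime_two⟩
  have hmem : ∀ v : Subgroup.centralizer ({f} : Set G),
      v ∈ ((P.subtype hPC : Sylow 2 _) : Subgroup _) ↔ (v : G) ∈ (P : Subgroup G) := fun v => Iff.rfl
  refine ⟨?_, fun v hv => Subtype.ext (h.sq _ hv), fun v hv => h.le hv, ?_,
    fun a ha w hw hc => Subtype.ext (h.fixed _ ha _ hw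
      ((Subgroup.centralizer ({f} : Set G)).subtype.map_isConj hc)),
    fun v hv hvF => ?_, fun v hv hvF => ?_⟩
  · rw [← h.card]
    exact Nat.card_congr (Subgroup.subgroupOfEquivOfLe hPC).toEquiv
  · rw [← h.cardF]
    exact Nat.card_congr (Subgroup.subgroupOfEquivOfLe (h.le.trans hPC)).toEquiv
  · rw [← h.orbit (v : G) hv hvF]
    simp only [cnum]
    refine Finset.card_bij (fun w _ => (w : G)) (fun w hw => ?_)
      (fun a _ b _ e => Subtype.ext e) fun w hw => ?_
    · simp only [Finset.mem_filter, Finset.mem_univ, true_and] at hw ⊢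
      exact ⟨hw.1, (Subgroup.centralizer ({f} : Set G)).subtype.map_isConj hw.2⟩
    · simp only [Finset.mem_filter, Finset.mem_univ, true_and] at hw
      obtain ⟨g, hg⟩ := isConj_iff.1 hw.2
      obtain ⟨n, hn, hne⟩ := exists_normalizer_conj_of_abelian P h.comm
        (show (v : G) ∈ (P : Subgroup G) from hv) (g := g) (by rw [hg]; exact hw.1)
      have hnf : n * f * n⁻¹ = f := h.fixed f hf _
        ((Subgroup.mem_set_normalizer_iff.1 hn f).1 (h.le hf)) (isConj_iff.2 ⟨n, rfl⟩)
      have hnC : n ∈ Subgroup.centralizer ({f} : Set G) :=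
        Subgroup.mem_centralizer_singleton_iff.2 (mul_inv_eq_iff_eq_mul.1 hnf)
      refine ⟨⟨w, hPC hw.1⟩, ?_, rfl⟩
      simp only [Finset.mem_filter, Finset.mem_univ, true_and]
      exact ⟨hw.1, isConj_iff.2 ⟨⟨n, hnC⟩, Subtype.ext (hne.trans hg)⟩⟩
  · let j : Subgroup.centralizer ({v} : Set (Subgroup.centralizer ({f} : Set G))) →*
        Subgroup.centralizer ({(v : G)} : Set G) :=
      ((Subgroup.centralizer ({f} : Set G)).subtype.comp (Subgroup.subtype _)).codRestrict _
        fun c => Subgroup.mem_centralizer_singleton_iff.2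
          (congrArg Subtype.val (Subgroup.mem_centralizer_singleton_iff.1 c.2))
    exact hasNormalPComplement_of_injective j
      (fun a b e => Subtype.ext (Subtype.ext
        (congrArg (fun q : Subgroup.centralizer ({(v : G)} : Set G) => (q : G)) e :))) (h.nil _ hv hvF)

/-- Rank three. -/
theorem Three.rank (hM : IsPModular 2 M) {P : Sylow 2 G} {F : Subgroup G} (h : Three P F)
    {x : G} (hxF : x ∈ F) (hx1 : x ≠ 1) (hxc : x ∈ Subgroup.center G) :
    blockRank 2 (principalBlock M G) = 3 := by
  classical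
  haveI : Fact (Nat.Prime 2) := ⟨Nat.prime_two⟩
  set L := blockRank 2 (principalBlock M G)
  have hr : ∀ f ∈ F, f ≠ 1 → f ≠ x →
      blockRank 2 (principalBlock M (Subgroup.centralizer ({f} : Set G))) = 3 := by
    intro f hf hf1 hfx
    cases nonempty_fintype (Subgroup.centralizer ({f} : Set G))
    have hPC : (P : Subgroup G) ≤ Subgroup.centralizer ({f} : Set G) := fun a ha =>
      Subgroup.mem_centralizer_singleton_iff.2
        (congrArg Subtype.val (h.comm.is_comm.comm ⟨a, ha⟩ ⟨f, h.le hf⟩))
    refine (h.cent hf hPC).rank_central hM fun a ha => Subgroup.mem_center_iff.2 fun c => ?_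
    refine Subtype.ext ?_
    have hcf : Commute (c : G) f := Subgroup.mem_centralizer_singleton_iff.1 c.2
    have hcx : Commute (c : G) x := (Subgroup.mem_center_iff.1 hxc c)
    have hS : ({1, f, x, f * x} : Finset G) = Finset.univ.filter fun v : G => v ∈ F := by
      refine Finset.eq_of_subset_of_card_le ?_ ?_
      · intro v hv
        simp only [Finset.mem_insert, Finset.mem_singleton] at hv
        simp only [Finset.mem_filter, Finset.mem_univ, true_and]
        rcases hv with rfl | rfl | rfl | rfl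
        exacts [one_mem _, hf, hxF, mul_mem hf hxF]
      · have h4 : (Finset.univ.filter fun v : G => v ∈ F).card = 4 := by
          rw [← h.cardF, Nat.card_eq_fintype_card]; exact (Fintype.card_subtype _).symm
        have a1 : f * x ≠ 1 := fun e => hfx (by
          rw [mul_eq_one_iff_eq_inv.1 e, ← mul_eq_one_iff_eq_inv.1 (h.sq x (h.le hxF))])
        rw [h4, Finset.card_insert_of_notMem (by simp [hf1.symm, hx1.symm, a1.symm]),
          Finset.card_insert_of_notMem (by simp [hfx, hx1]),
          Finset.card_insert_of_notMem (by simp [hf1]), Finset.card_singleton]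
    have hm : (a : G) ∈ ({1, f, x, f * x} : Finset G) := by
      rw [hS, Finset.mem_filter]; exact ⟨Finset.mem_univ _, ha⟩
    simp only [Finset.mem_insert, Finset.mem_singleton] at hm
    show (c : G) * (a : G) = (a : G) * c
    rcases hm with e | e | e | e <;> rw [e]
    · simp
    · exact hcf.eq
    · exact hcx.eq
    · exact (hcf.mul_right hcx).eq
  have hk := h.count hM
  have hsplit : ∑ f ∈ Finset.univ.filter (fun v : G => v ∈ F),
      blockRank 2 (principalBlock M (Subgroup.centralizer ({f} : Set G))) = 2 * L + 6 := by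
    have h4 : (Finset.univ.filter fun v : G => v ∈ F).card = 4 := by
      rw [← h.cardF, Nat.card_eq_fintype_card]; exact (Fintype.card_subtype _).symm
    have hsub : ({1, x} : Finset G) ⊆ Finset.univ.filter fun v : G => v ∈ F := by
      simp [Finset.insert_subset_iff, hxF, F.one_mem]
    rw [← Finset.sum_sdiff hsub, Finset.sum_congr rfl (g := fun _ => 3) fun f hf => ?_,
      Finset.sum_const,
      Finset.card_sdiff_of_subset hsub, h4, Finset.card_pair hx1.symm, Finset.sum_pair hx1.symm,
      rank_cent_one hM, rank_cent_central hM hxc (h.sq x (h.le hxF)) (ppow_of_mem P (h.le hxF))]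
    · simp only [smul_eq_mul]; ring
    · simp only [Finset.mem_sdiff, Finset.mem_filter, Finset.mem_univ, true_and, Finset.mem_insert,
        Finset.mem_singleton, not_or] at hf
      exact hr f hf.1 hf.2.1 hf.2.2
  rw [hsplit] at hk
  obtain ⟨v, hv, hvF⟩ := h.exists_out
  obtain ⟨h1, -, h2⟩ := column_card hM P h.card h.comm hv (h.sq v hv) (h.nil v hv hvF)
  have := h.rank_ne_one hM
  have := Res.blockRank_pos hM (isPBlock_principalBlock (M := M) (G := G))
  omega

end Two

end Cfsg.Agent.Char.SecInner
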