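import Cfsg.Agent.Lib.Char.Glauberman
import Cfsg.Agent.Lib.Char.Quotient
import Cfsg.Agent.Lib.Char.ModP
import Cfsg.Agent.Lib.Grp.Solvable

/-!
Coprime solvable operator groups: invariant characters and fixed classes.
-/

namespace Cfsg.Agent.Char.Glaub

open scoped ComplexConjugate
open Cfsg Cfsg.Agent.Block

universe u v

variable {G : Type u} [Group G]

theorem finite_mulAut [Finite G] : Finite (MulAut G) :=
  Finite.of_injective (fun a : MulAut G => (a : G → G)) DFunLike.coe_injective

/-- Restriction of operators to an invariant subgroup. -/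
def restrictHom (A : Subgroup (MulAut G)) (H : Subgroup G)
    (h : ∀ a ∈ A, ∀ x ∈ H, a x ∈ H) : A →* MulAut H where
  toFun a :=
    { toFun := fun x => ⟨(a : MulAut G) x, h a a.2 x x.2⟩
      invFun := fun x => ⟨(a : MulAut G)⁻¹ x, h _ (A.inv_mem a.2) x x.2⟩
      left_inv := fun x => Subtype.ext (by simp)
      right_inv := fun x => Subtype.ext (by simp)
      map_mul' := fun x y => Subtype.ext (by simp) }
  map_one' := by ext x; rfl
  map_mul' a b := by ext x; rfl

theorem restrictHom_apply (A : Subgroup (MulAut G)) (H : Subgroup G)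
    (h : ∀ a ∈ A, ∀ x ∈ H, a x ∈ H) (a : A) (x : H) :
    ((restrictHom A H h a x : H) : G) = (a : MulAut G) x := rfl

theorem fix_invariant {A T : Subgroup (MulAut G)}
    (hTA : ∀ a ∈ A, ∀ t ∈ T, a * t * a⁻¹ ∈ T) :
    ∀ a ∈ A, ∀ x ∈ fix T, a x ∈ fix T := by
  intro a ha x hx t ht
  have h1 := hTA a⁻¹ (A.inv_mem ha) t ht
  rw [inv_inv] at h1
  have h := congrArg a (hx _ h1)
  simpa using h

theorem inv_comp_aut {A T : Subgroup (MulAut G)} (hTA : ∀ a ∈ A, ∀ t ∈ T, a * t * a⁻¹ ∈ T)
    {f : G → ℂ} (hf : Inv T f) {a : MulAut G} (ha : a ∈ A) : Inv T (fun g => f (a g)) := by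
  intro t ht g
  show f (a (t g)) = f (a g)
  have e : a (t g) = (a * t * a⁻¹) (a g) := by simp
  rw [e, hf _ (hTA a ha t ht)]

section Finite

variable [Fintype G]

theorem mult_comp_aut {T : Subgroup (MulAut G)} [Fintype (fix T)] (χ : IrrCharacter G)
    (β β' : IrrCharacter (fix T)) (a : MulAut G) (e : MulAut (fix T))
    (he : ∀ c : fix T, ((e c : fix T) : G) = a c)
    (hβ : ∀ c, (β' : fix T → ℂ) c = (β : fix T → ℂ) (e c)) :
    mult (fix T) (autIrr a χ : G → ℂ) (β' : fix T → ℂ) =
      mult (fix T) (χ : G → ℂ) (β : fix T → ℂ) := by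
  have h : classInner (fun c : fix T => (autIrr a χ : G → ℂ) c) (β' : fix T → ℂ) =
      classInner (fun c : fix T => (χ : G → ℂ) c) (β : fix T → ℂ) := by
    rw [← classInner_comp_surjective e.toMonoidHom e.surjective
      (fun c : fix T => (χ : G → ℂ) c) (β : fix T → ℂ)]
    congr 1
    · funext c
      show (χ : G → ℂ) (a c) = (χ : G → ℂ) ((e c : fix T) : G)
      rw [he]
    · exact funext hβ
  rw [mult_spec _ (irr_isChar _) (irr_isChar β'), mult_spec _ (irr_isChar χ) (irr_isChar β)] at h
  exact_mod_cast h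

variable {p : ℕ} {M : Ideal AlgInt}

/-- The correspondent, as a function. -/
theorem exists_corrFun (hM : IsPModular p M) {T : Subgroup (MulAut G)} [Fintype (fix T)]
    (hT : IsPGroup p T) (hcop : Nat.Coprime (Nat.card G) p) :
    ∃ f : {χ : IrrCharacter G // Inv T (χ : G → ℂ)} → IrrCharacter (fix T),
      Function.Bijective f ∧ ∀ χ β, f χ = β ↔ Corr p (χ : IrrCharacter G) β := by
  choose f hf using fun χ : {χ : IrrCharacter G // Inv T (χ : G → ℂ)} =>
    exists_corr hM hT hcop χ.2
  have hiff : ∀ χ β, f χ = β ↔ Corr p (χ : IrrCharacter G) β := fun χ β =>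
    ⟨fun h => h ▸ hf χ, fun h => corr_unique hM hT hcop χ.2 (hf χ) h⟩
  refine ⟨f, ⟨fun χ χ' h => Subtype.ext (corr_inj hM hT hcop χ.2 χ'.2 (hf χ) ?_), fun β => ?_⟩, hiff⟩
  · exact h ▸ hf χ'
  · obtain ⟨χ, hχ, hc⟩ := surj_corr hM hT hcop β
    exact ⟨⟨χ, hχ⟩, (hiff _ _).mpr hc⟩

end Finite

section Classes

variable [Finite G]

theorem class_map_inj {p : ℕ} [Fact p.Prime] {T : Subgroup (MulAut G)} (hT : IsPGroup p T)
    (hcop : Nat.Coprime (Nat.card G) p) :
    Function.Injective (ConjClasses.map (fix T).subtype) := by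
  intro C D h
  obtain ⟨x, rfl⟩ := C.exists_rep
  obtain ⟨y, rfl⟩ := D.exists_rep
  obtain ⟨g, hg⟩ := isConj_iff.mp (ConjClasses.mk_eq_mk_iff_isConj.mp h :
    IsConj ((x : fix T) : G) ((y : fix T) : G))
  let X := {z : G // z * (x : G) * z⁻¹ = (y : G)}
  letI : MulAction T X :=
    { smul := fun t z => ⟨(t : MulAut G) z.1, by
        have := congrArg (t : MulAut G) z.2
        rw [map_mul, map_mul, map_inv, x.2 t t.2, y.2 t t.2] at this
        exact this⟩
      one_smul := fun z => Subtype.ext rfl
      mul_smul := fun s t z => Subtype.ext rfl }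
  have hcard : Nat.card X = Nat.card (Subgroup.centralizer ({(x : G)} : Set G)) :=
    Nat.card_congr
      { toFun := fun z => ⟨g⁻¹ * z.1, by
          rw [Subgroup.mem_centralizer_singleton_iff]
          calc g⁻¹ * z.1 * (x : G) = g⁻¹ * (z.1 * (x : G) * z.1⁻¹) * z.1 := by group
            _ = g⁻¹ * (g * (x : G) * g⁻¹) * z.1 := by rw [z.2, hg]
            _ = _ := by group⟩
        invFun := fun c => ⟨g * c, by
          have hc := Subgroup.mem_centralizer_singleton_iff.mp c.2
          calc g * (c : G) * (x : G) * (g * (c : G))⁻¹ = g * ((c : G) * (x : G)) * (c : G)⁻¹ * g⁻¹ := by group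
            _ = g * (x : G) * g⁻¹ := by rw [hc]; group
            _ = _ := hg⟩
        left_inv := fun z => Subtype.ext (by simp)
        right_inv := fun c => Subtype.ext (by simp) }
  haveI := finite_mulAut (G := G)
  haveI := Fintype.ofFinite G
  obtain ⟨⟨z, hz⟩, hfx⟩ := hT.nonempty_fixed_point_of_prime_not_dvd_card X (by
    rw [hcard]
    exact card_dvd_ne hcop Fact.out (Subgroup.card_subgroup_dvd_card _))
  have hzC : z ∈ fix T := fun t ht => congrArg Subtype.val (hfx ⟨t, ht⟩)
  exact ConjClasses.mk_eq_mk_iff_isConj.mpr (isConj_iff.mpr ⟨⟨z, hzC⟩, Subtype.ext hz⟩)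

theorem class_map_fixed {p : ℕ} [Fact p.Prime] {T : Subgroup (MulAut G)} (hT : IsPGroup p T)
    (hcop : Nat.Coprime (Nat.card G) p) (K : ConjClasses G) :
    (∀ t ∈ T, ConjClasses.map (MulEquiv.toMonoidHom (t : MulAut G)) K = K) ↔
      ∃ C, ConjClasses.map (fix T).subtype C = K := by
  constructor
  · intro hK
    obtain ⟨g, rfl⟩ := K.exists_rep
    let X := {z : G // IsConj g z}
    letI : MulAction T X :=
      { smul := fun t z => ⟨(t : MulAut G) z.1, by
          have h1 := ConjClasses.mk_eq_mk_iff_isConj.mp (hK t t.2)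
          exact h1.symm.trans ((MulEquiv.toMonoidHom (t : MulAut G)).map_isConj z.2)⟩
        one_smul := fun z => Subtype.ext rfl
        mul_smul := fun s t z => Subtype.ext rfl }
    haveI := finite_mulAut (G := G)
    haveI := Fintype.ofFinite G
    have hcard : Nat.card X ∣ Nat.card G := by
      rw [card_conjClass g]
      exact Subgroup.index_dvd_card _
    obtain ⟨⟨z, hz⟩, hfx⟩ :=
      hT.nonempty_fixed_point_of_prime_not_dvd_card X (card_dvd_ne hcop Fact.out hcard)
    refine ⟨ConjClasses.mk ⟨z, fun t ht => congrArg Subtype.val (hfx ⟨t, ht⟩)⟩, ?_⟩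
    exact (ConjClasses.mk_eq_mk_iff_isConj.mpr hz).symm
  · rintro ⟨C, rfl⟩ t ht
    obtain ⟨c, rfl⟩ := C.exists_rep
    exact congrArg ConjClasses.mk (c.2 t ht)

end Classes

/-- What is proved by induction on the operator group. -/
structure Good (A : Subgroup (MulAut G)) [Fintype G] : Prop where
  count : Nat.card {χ : IrrCharacter G // Inv A (χ : G → ℂ)} =
    Nat.card {K : ConjClasses G //
      ∀ a ∈ A, ConjClasses.map (MulEquiv.toMonoidHom (a : MulAut G)) K = K}
  above : ∀ (N : Subgroup G) [N.Normal] [Fintype N], (∀ a ∈ A, ∀ n ∈ N, a n ∈ N) →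
    ∀ θ : IrrCharacter N,
      (∀ a ∈ A, ∀ n n' : N, (n' : G) = a n → (θ : N → ℂ) n' = (θ : N → ℂ) n) →
      ∃ χ : IrrCharacter G, Inv A (χ : G → ℂ) ∧
        classInner (fun n : N => (χ : G → ℂ) n) (θ : N → ℂ) ≠ 0

theorem good_bot [Fintype G] : Good (⊥ : Subgroup (MulAut G)) := by
  constructor
  · have e1 : Nat.card {χ : IrrCharacter G // Inv (⊥ : Subgroup (MulAut G)) (χ : G → ℂ)} =
        Nat.card (IrrCharacter G) :=
      Nat.card_congr (Equiv.subtypeUnivEquiv fun χ a ha g => by
        rw [Subgroup.mem_bot.mp ha]; rfl)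
    have e2 : Nat.card {K : ConjClasses G // ∀ a ∈ (⊥ : Subgroup (MulAut G)),
        ConjClasses.map (MulEquiv.toMonoidHom (a : MulAut G)) K = K} = Nat.card (ConjClasses G) :=
      Nat.card_congr (Equiv.subtypeUnivEquiv fun K a ha => by
        obtain ⟨g, rfl⟩ := K.exists_rep
        rw [Subgroup.mem_bot.mp ha]; rfl)
    rw [e1, e2, card_irrCharacter]
  · intro N _ _ _ θ _
    obtain ⟨χ, hχ⟩ := IsChar.exists_constituent' (isCharacter_indFun N (irr_isChar θ))
      (by
        rw [indFun_one_eq]
        exact mul_ne_zero (Nat.cast_ne_zero.mpr Subgroup.index_ne_zero_of_finite) (irr_one_ne_zero θ))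
    refine ⟨χ, fun a ha g => by rw [Subgroup.mem_bot.mp ha]; rfl, ?_⟩
    rw [classInner_indFun N _ (irr_classFun χ), ← classInner_conj_symm, Ne, map_eq_zero] at hχ
    exact hχ

theorem good_of_solvable : ∀ (n : ℕ) {G : Type u} [Group G] [Fintype G] (A : Subgroup (MulAut G)),
    Nat.card A = n → Group.IsSolvable A → (Nat.card G).Coprime (Nat.card A) → Good A := by
  intro n
  induction n using Nat.strong_induction_on with
  | _ n ih =>
    intro G _ _ A hn hsolv hcop
    classical
    haveI := finite_mulAut (G := G)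
    by_cases hA : A = ⊥
    · exact hA ▸ good_bot
    haveI : Nontrivial A := A.nontrivial_iff_ne_bot.mpr hA
    obtain ⟨T₀, hT₀, -, hT₀min⟩ : ∃ T : Subgroup A, (T.Normal ∧ T ≠ ⊥) ∧ True ∧
        ∀ U : Subgroup A, U.Normal ∧ U ≠ ⊥ → U ≤ T → U = T := by
      obtain ⟨T, hT⟩ := (Set.toFinite {T : Subgroup A | T.Normal ∧ T ≠ ⊥}).exists_minimal
        ⟨⊤, inferInstance, top_ne_bot⟩
      exact ⟨T, hT.1, trivial, fun U hU hle => le_antisymm hle (hT.2 hU hle)⟩
    haveI := hT₀.1
    haveI := hsolv
    obtain ⟨p, hp, hTp⟩ := Grp.minimal_normal_solvable_isPGroup (N := T₀) inferInstance hT₀.2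
      (fun U hU hle => or_iff_not_imp_left.mpr fun hU0 => hT₀min U ⟨hU, hU0⟩ hle)
    haveI : Fact p.Prime := ⟨hp⟩
    set T : Subgroup (MulAut G) := T₀.map A.subtype with hTdef
    have hT : IsPGroup p T := hTp.map _
    have hTA : T ≤ A := Subgroup.map_subtype_le _
    have hnorm : ∀ a ∈ A, ∀ t ∈ T, a * t * a⁻¹ ∈ T := by
      rintro a ha _ ⟨t, ht, rfl⟩
      exact ⟨⟨a, ha⟩ * t * ⟨a, ha⟩⁻¹, hT₀.1.conj_mem t ht _, rfl⟩
    have hpA : p ∣ Nat.card A := by
      obtain ⟨k, hk⟩ := IsPGroup.iff_card.mp hTp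
      have hk0 : k ≠ 0 := fun h => hT₀.2 (Subgroup.card_eq_one.mp (by rw [hk, h, pow_zero]))
      exact (dvd_pow_self p hk0).trans (hk ▸ Subgroup.card_subgroup_dvd_card T₀)
    have hcopp : Nat.Coprime (Nat.card G) p := hcop.coprime_dvd_right hpA
    obtain ⟨M, hM⟩ := exists_isPModular p hp
    have hCinv := fix_invariant (A := A) hnorm
    let r := restrictHom A (fix T) hCinv
    set A' := r.range with hA'def
    have hker : T₀ ≤ r.ker := fun t ht => MonoidHom.mem_ker.mpr (MulEquiv.ext fun c => Subtype.ext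
      (c.2 (t : MulAut G) ⟨t, ht, rfl⟩))
    have hsmall : Nat.card A' < n := by
      have h1 : r.ker.index = Nat.card A' := Subgroup.index_ker r
      have h2 := r.ker.index_mul_card
      rw [h1, hn] at h2
      have h3 : 1 < Nat.card r.ker := by
        rw [Finite.one_lt_card_iff_nontrivial, Subgroup.nontrivial_iff_ne_bot]
        exact fun h => hT₀.2 (le_bot_iff.mp (h ▸ hker))
      rw [← h2]
      exact lt_mul_of_one_lt_right Nat.card_pos h3
    haveI : Fintype (fix T) := Fintype.ofFinite _
    have hcop' : (Nat.card (fix T)).Coprime (Nat.card A') :=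
      (hcop.coprime_dvd_left (Subgroup.card_subgroup_dvd_card _)).coprime_dvd_right (Subgroup.card_range_dvd r)
    have IH : Good A' := ih _ hsmall A' rfl
      (solvable_of_surjective r.rangeRestrict_surjective) hcop'
    obtain ⟨f, hf, hfc⟩ := exists_corrFun hM hT hcopp
    have hequiv : ∀ (χ : IrrCharacter G) (β : IrrCharacter (fix T)) (a : A), Corr p χ β →
        Corr p (autIrr (a : MulAut G) χ) (autIrr (r a) β) := by
      intro χ β a h
      unfold Corr at h ⊢
      rwa [mult_comp_aut χ β _ (a : MulAut G) (r a) (fun c => rfl) (fun c => rfl)]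
    have hInvT : ∀ χ : IrrCharacter G, Inv A (χ : G → ℂ) → Inv T (χ : G → ℂ) :=
      fun χ h t ht g => h t (hTA ht) g
    have hdown : ∀ χ : {χ : IrrCharacter G // Inv T (χ : G → ℂ)},
        Inv A (χ.1 : G → ℂ) ↔ Inv A' (f χ : fix T → ℂ) := by
      intro χ
      constructor
      · rintro h _ ⟨a, rfl⟩ c
        have e : autIrr (a : MulAut G) χ.1 = χ.1 := Subtype.ext (funext fun g => h a a.2 g)
        have h2 := hequiv χ.1 (f χ) a ((hfc χ _).mp rfl)
        rw [e] at h2
        exact congrFun (congrArg Subtype.val ((hfc χ _).mpr h2).symm) c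
      · intro h a ha g
        have e : autIrr (r ⟨a, ha⟩) (f χ) = f χ :=
          Subtype.ext (funext fun c => h _ ⟨⟨a, ha⟩, rfl⟩ c)
        have h2 := hequiv χ.1 (f χ) ⟨a, ha⟩ ((hfc χ _).mp rfl)
        rw [e] at h2
        have h3 := corr_inj hM hT hcopp (χ := autIrr a χ.1) (χ' := χ.1)
          (inv_comp_aut hnorm χ.2 ha) χ.2 h2 ((hfc χ _).mp rfl)
        exact congrFun (congrArg Subtype.val h3) g
    constructor
    · have e1 : Nat.card {χ : IrrCharacter G // Inv A (χ : G → ℂ)} =
          Nat.card {β : IrrCharacter (fix T) // Inv A' (β : fix T → ℂ)} := by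
        refine Nat.card_congr (Equiv.ofBijective (fun χ =>
          ⟨f ⟨χ.1, hInvT _ χ.2⟩, (hdown _).mp χ.2⟩) ⟨?_, ?_⟩)
        · intro χ χ' h
          exact Subtype.ext (congrArg Subtype.val (hf.1 (congrArg Subtype.val h)) :)
        · rintro ⟨β, hβ⟩
          obtain ⟨χ, rfl⟩ := hf.2 β
          exact ⟨⟨χ.1, (hdown χ).mpr hβ⟩, rfl⟩
      have e2 : Nat.card {K : ConjClasses G //
            ∀ a ∈ A, ConjClasses.map (MulEquiv.toMonoidHom (a : MulAut G)) K = K} =
          Nat.card {C : ConjClasses (fix T) //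
            ∀ a ∈ A', ConjClasses.map (MulEquiv.toMonoidHom (a : MulAut (fix T))) C = C} := by
        have hcomm : ∀ (a : A) (C : ConjClasses (fix T)),
            ConjClasses.map (MulEquiv.toMonoidHom (a : MulAut G))
              (ConjClasses.map (fix T).subtype C) =
            ConjClasses.map (fix T).subtype (ConjClasses.map (MulEquiv.toMonoidHom (r a)) C) := by
          intro a C
          obtain ⟨c, rfl⟩ := C.exists_rep
          rfl
        refine (Nat.card_congr (Equiv.ofBijective (fun C =>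
          (⟨ConjClasses.map (fix T).subtype C.1, fun a ha => by
            rw [hcomm ⟨a, ha⟩, C.2 _ ⟨⟨a, ha⟩, rfl⟩]⟩ :
            {K : ConjClasses G //
              ∀ a ∈ A, ConjClasses.map (MulEquiv.toMonoidHom (a : MulAut G)) K = K})) ⟨?_, ?_⟩)).symm
        · intro C D h
          exact Subtype.ext (class_map_inj hT hcopp (congrArg Subtype.val h))
        · rintro ⟨K, hK⟩
          obtain ⟨C, rfl⟩ := (class_map_fixed hT hcopp K).mp fun t ht => hK t (hTA ht)
          refine ⟨⟨C, ?_⟩, rfl⟩
          rintro _ ⟨a, rfl⟩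
          exact class_map_inj hT hcopp ((hcomm a C).symm.trans (hK a a.2))
      rw [e1, e2, IH.count]
    · intro N _ _ hN θ hθ
      have hNT : ∀ t ∈ T, ∀ n ∈ N, t n ∈ N := fun t ht => hN t (hTA ht)
      let rN := restrictHom T N hNT
      set TN := rN.range with hTNdef
      haveI : Fintype (fix TN) := Fintype.ofFinite _
      have hTN : IsPGroup p TN := hT.of_surjective _ rN.rangeRestrict_surjective
      have hcopN : Nat.Coprime (Nat.card N) p :=
        hcopp.coprime_dvd_left (Subgroup.card_subgroup_dvd_card _)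
      have hθT : Inv TN (θ : N → ℂ) := by
        rintro _ ⟨t, rfl⟩ n
        exact hθ t (hTA t.2) n _ rfl
      obtain ⟨θs, hθs⟩ := exists_corr hM hTN hcopN hθT
      -- `N ∩ C` inside `C` and inside `N`
      set E : Subgroup (fix T) := N.subgroupOf (fix T) with hE
      haveI : E.Normal := Subgroup.Normal.subgroupOf inferInstance _
      haveI : Fintype E := Fintype.ofFinite _
      have hmem : ∀ n : N, n ∈ fix TN ↔ (n : G) ∈ fix T := by
        intro n
        constructor
        · intro h t ht
          exact congrArg Subtype.val (h _ ⟨⟨t, ht⟩, rfl⟩)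
        · rintro h _ ⟨t, rfl⟩
          exact Subtype.ext (h t t.2)
      let e : E ≃* fix TN :=
        { toFun := fun x => ⟨⟨((x : fix T) : G), x.2⟩, (hmem _).mpr (x : fix T).2⟩
          invFun := fun y => ⟨⟨((y : N) : G), (hmem _).mp y.2⟩, (y : N).2⟩
          left_inv := fun x => rfl
          right_inv := fun y => rfl
          map_mul' := fun x y => rfl }
      let θE : IrrCharacter E := ⟨fun x => (θs : fix TN → ℂ) (e x),
        IsIrr.comp_surjective e.toMonoidHom e.surjective θs.2⟩
      have hEinv : ∀ b ∈ A', ∀ x ∈ E, b x ∈ E := by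
        rintro _ ⟨a, rfl⟩ x hx
        exact hN a a.2 _ hx
      have hθEinv : ∀ b ∈ A', ∀ x x' : E, (x' : fix T) = b x → (θE : E → ℂ) x' = (θE : E → ℂ) x := by
        rintro _ ⟨a, rfl⟩ x x' hxx
        let aN : MulAut N := restrictHom A N hN a
        have haN : ∀ c ∈ fix TN, aN c ∈ fix TN := by
          intro c hc
          rw [hmem] at hc ⊢
          exact hCinv a a.2 _ hc
        let aC : MulAut (fix TN) :=
          { toFun := fun c => ⟨aN c, haN c c.2⟩
            invFun := fun c => ⟨aN⁻¹ c, by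
              rw [hmem]
              exact hCinv _ (A.inv_mem a.2) _ ((hmem _).mp c.2)⟩
            left_inv := fun c => Subtype.ext (by simp)
            right_inv := fun c => Subtype.ext (by simp)
            map_mul' := fun c d => Subtype.ext (by simp) }
        have hfixθ : autIrr aN θ = θ := Subtype.ext (funext fun n => hθ a a.2 n _ rfl)
        have h2 : Corr p θ (autIrr aC θs) := by
          have h3 : mult (fix TN) (autIrr aN θ : N → ℂ) (autIrr aC θs : fix TN → ℂ) =
              mult (fix TN) (θ : N → ℂ) (θs : fix TN → ℂ) :=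
            mult_comp_aut θ θs _ aN aC (fun c => rfl) (fun c => rfl)
          unfold Corr at hθs ⊢
          rw [hfixθ] at h3
          rwa [h3]
        have h4 := corr_unique hM hTN hcopN hθT h2 hθs
        have hx' : e x' = aC (e x) :=
          Subtype.ext (Subtype.ext (congrArg (fun z : fix T => (z : G)) hxx))
        show (θs : fix TN → ℂ) (e x') = (θs : fix TN → ℂ) (e x)
        rw [hx']
        exact congrFun (congrArg Subtype.val h4) (e x)
      obtain ⟨ψ, hψ, hψE⟩ := IH.above E hEinv θE hθEinv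
      obtain ⟨χ, hχf⟩ := hf.2 ψ
      refine ⟨χ.1, (hdown χ).mpr (hχf ▸ hψ), fun h0 => ?_⟩
      have hcorr : Corr p χ.1 ψ := (hfc χ ψ).mp hχf
      -- the multiplicity of `θE` in `χ`, computed through `fix T`
      set K := classInner (fun x : E => (χ.1 : G → ℂ) ((x : fix T) : G)) (θE : E → ℂ) with hK
      have hKC : K = ∑ β : IrrCharacter (fix T), (mult (fix T) (χ.1 : G → ℂ) (β : fix T → ℂ) : ℂ) *
          (mult E (β : fix T → ℂ) (θE : E → ℂ) : ℂ) := by
        have h1 : (fun x : E => (χ.1 : G → ℂ) ((x : fix T) : G)) =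
            ∑ β : IrrCharacter (fix T), (mult (fix T) (χ.1 : G → ℂ) (β : fix T → ℂ) : ℂ) •
              fun x : E => (β : fix T → ℂ) x := by
          funext x
          rw [res_expansion (fix T) (irr_isChar χ.1)]
          simp
        rw [hK, h1, classInner_sum_left]
        exact Finset.sum_congr rfl fun β _ => by
          rw [classInner_smul_left, mult_spec E (irr_isChar β) (irr_isChar θE)]
      have hunit : ¬ MemLocalIdeal M K := by
        rw [hKC, ← Finset.add_sum_erase _ _ (Finset.mem_univ ψ)]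
        intro h
        have h1 : MemLocalIdeal M (∑ β ∈ Finset.univ.erase ψ,
            (mult (fix T) (χ.1 : G → ℂ) (β : fix T → ℂ) : ℂ) * (mult E (β : fix T → ℂ) (θE : E → ℂ) : ℂ)) := by
          refine ideal_sum hM fun β hβ => ideal_mul_right hM ((ideal_natCast_iff hM _).mpr ?_) (ring_natCast hM _)
          by_contra hc
          exact (Finset.mem_erase.mp hβ).1 (corr_unique hM hT hcopp χ.2 hc hcorr)
        have h2 := ideal_sub hM h h1
        rw [add_sub_cancel_right, ← Nat.cast_mul, ideal_natCast_iff hM] at h2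
        rcases hp.dvd_mul.mp h2 with h3 | h3
        · exact hcorr h3
        · have hcl := clifford_one E ψ.2 θE.2 hψE
          rw [mult_spec E (irr_isChar ψ) (irr_isChar θE)] at hcl
          obtain ⟨d, -, hd⟩ := IsIrr.one_eq_pos θE.2
          obtain ⟨d', -, hd'⟩ := IsIrr.one_eq_pos ψ.2
          rw [hd, hd', ← Nat.cast_mul, ← Nat.cast_mul, Nat.cast_inj] at hcl
          refine card_dvd_ne hcopp hp ((IsIrr.degree_dvd_card ψ.2 hd').trans (Subgroup.card_subgroup_dvd_card _)) ?_
          rw [hcl]
          exact (h3.mul_right _).mul_right _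
      -- the same, computed through `N`
      apply hunit
      letI := irrAction (A := TN)
      have hKN : K = ∑ φ : IrrCharacter N, (mult N (χ.1 : G → ℂ) (φ : N → ℂ) : ℂ) *
          (mult (fix TN) (φ : N → ℂ) (θs : fix TN → ℂ) : ℂ) := by
        have h1 : classInner (fun y : fix TN => (χ.1 : G → ℂ) ((y : N) : G)) (θs : fix TN → ℂ) = K := by
          rw [hK, ← classInner_comp_surjective e.toMonoidHom e.surjective
            (fun y : fix TN => (χ.1 : G → ℂ) ((y : N) : G)) (θs : fix TN → ℂ)]
          rfl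
        have h2 : (fun y : fix TN => (χ.1 : G → ℂ) ((y : N) : G)) =
            ∑ φ : IrrCharacter N, (mult N (χ.1 : G → ℂ) (φ : N → ℂ) : ℂ) •
              fun y : fix TN => (φ : N → ℂ) y := by
          funext y
          rw [res_expansion N (irr_isChar χ.1)]
          simp
        rw [← h1, h2, classInner_sum_left]
        exact Finset.sum_congr rfl fun φ _ => by
          rw [classInner_smul_left, mult_spec (fix TN) (irr_isChar φ) (irr_isChar θs)]
      haveI := finite_mulAut (G := N)
      have hs := ideal_sum_sub_fixed (α := IrrCharacter N) (P := TN) hM hTN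
        (F := fun φ => (mult N (χ.1 : G → ℂ) (φ : N → ℂ) : ℂ) *
          (mult (fix TN) (φ : N → ℂ) (θs : fix TN → ℂ) : ℂ))
        (fun φ => ring_mul hM (ring_natCast hM _) (ring_natCast hM _)) (by
          rintro ⟨_, t, rfl⟩ φ
          have ha : ((rN t)⁻¹ : MulAut N) = rN t⁻¹ := (map_inv rN t).symm
          congr 1
          · have h1 : mult N (χ.1 : G → ℂ) (autIrr ((rN t)⁻¹) φ : N → ℂ) =
                mult N (χ.1 : G → ℂ) (φ : N → ℂ) := by
              have h2 : classInner (fun n : N => (χ.1 : G → ℂ) n) (autIrr ((rN t)⁻¹) φ : N → ℂ) =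
                  classInner (fun n : N => (χ.1 : G → ℂ) n) (φ : N → ℂ) := by
                conv_rhs => rw [← classInner_comp_surjective ((rN t)⁻¹).toMonoidHom
                  (MulEquiv.surjective _) (fun n : N => (χ.1 : G → ℂ) n) (φ : N → ℂ)]
                congr 1
                funext n
                show _ = (χ.1 : G → ℂ) ((((rN t)⁻¹ : MulAut N) n : N) : G)
                rw [ha]
                exact (χ.2 _ (T.inv_mem t.2) (n : G)).symm
              rw [mult_spec N (irr_isChar χ.1) (irr_isChar _), mult_spec N (irr_isChar χ.1) (irr_isChar φ)] at h2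
              exact_mod_cast h2
            exact congrArg Nat.cast h1
          · exact congrArg Nat.cast (mult_comp_aut φ θs θs ((rN t)⁻¹) 1
              (fun c => (c.2 _ (TN.inv_mem ⟨t, rfl⟩)).symm) (fun c => rfl)))
      rw [← hKN] at hs
      refine (ideal_congr hM hs).mpr ?_
      rw [finsum_mem_eq_sum_of_inter_support_eq _
        (t := Finset.univ.filter (· ∈ MulAction.fixedPoints TN (IrrCharacter N))) (by ext; simp)]
      refine ideal_sum hM fun φ hφ => ?_
      simp only [Finset.mem_filter, Finset.mem_univ, true_and, MulAction.mem_fixedPoints] at hφ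
      by_cases hφθ : φ = θ
      · subst hφθ
        have : mult N (χ.1 : G → ℂ) (φ : N → ℂ) = 0 := by
          have := mult_spec N (irr_isChar χ.1) (irr_isChar φ)
          rw [h0] at this
          exact_mod_cast this.symm
        rw [this, Nat.cast_zero, zero_mul]
        exact ideal_zero hM
      · have hφinv : Inv TN (φ : N → ℂ) := by
          intro a ha n
          have := congrFun (congrArg Subtype.val (hφ ⟨a⁻¹, TN.inv_mem ha⟩)) n
          change (φ : N → ℂ) ((a⁻¹)⁻¹ n) = _ at this
          simpa using this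
        refine ideal_mul_left hM (ring_natCast hM _) ((ideal_natCast_iff hM _).mpr ?_)
        by_contra hc
        exact hφθ (corr_inj hM hTN hcopN hφinv hθT hc hθs)

/-! ### operators given by conjugation inside a bigger group -/

variable {Γ : Type v} [Group Γ]

/-- Conjugation by `S` on a normalised subgroup `G`. -/
def conjHom (G S : Subgroup Γ) (h : ∀ s ∈ S, ∀ g ∈ G, s * g * s⁻¹ ∈ G) : S →* MulAut G where
  toFun s :=
    { toFun := fun g => ⟨(s : Γ) * g * (s : Γ)⁻¹, h s s.2 g g.2⟩
      invFun := fun g => ⟨(s : Γ)⁻¹ * g * (s : Γ), by simpa using h _ (S.inv_mem s.2) g g.2⟩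
      left_inv := fun g => Subtype.ext (by simp [mul_assoc])
      right_inv := fun g => Subtype.ext (by simp [mul_assoc])
      map_mul' := fun g g' => Subtype.ext (by simp [mul_assoc]) }
  map_one' := by ext g; simp
  map_mul' s t := by ext g; simp [mul_assoc]

theorem inv_conjHom_iff (G S : Subgroup Γ) (h : ∀ s ∈ S, ∀ g ∈ G, s * g * s⁻¹ ∈ G) (f : G → ℂ) :
    Inv (conjHom G S h).range f ↔
      ∀ s ∈ S, ∀ g g' : G, (g' : Γ) = s * g * s⁻¹ → f g' = f g := by
  constructor
  · intro hf s hs g g' e
    rw [← hf _ ⟨⟨s, hs⟩, rfl⟩ g]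
    exact congrArg f (Subtype.ext e)
  · rintro hf _ ⟨s, rfl⟩ g
    exact hf s s.2 g _ rfl

theorem coprime_conjHom_range {G S : Subgroup Γ} (h : ∀ s ∈ S, ∀ g ∈ G, s * g * s⁻¹ ∈ G) {k : ℕ}
    (hcop : k.Coprime (Nat.card S)) : k.Coprime (Nat.card (conjHom G S h).range) :=
  hcop.coprime_dvd_right (Subgroup.card_range_dvd _)

theorem good_conjHom {Γ : Type v} [Group Γ] [Finite Γ] (G S : Subgroup Γ) [Fintype G]
    (h : ∀ s ∈ S, ∀ g ∈ G, s * g * s⁻¹ ∈ G) (hcop : (Nat.card G).Coprime (Nat.card S))
    (hsolv : Group.IsSolvable S) : Good (conjHom G S h).range :=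
  haveI := hsolv
  good_of_solvable _ _ rfl (solvable_of_surjective (conjHom G S h).rangeRestrict_surjective)
    (coprime_conjHom_range h hcop)

end Cfsg.Agent.Char.Glaub
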