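import Cfsg.Agent.Lib.Char.ExtendMain
import Cfsg.Agent.Lib.Char.GlaubermanSolvable
import Cfsg.Agent.Lib.Grp.Coprime

/-!
Characters of degree prime to the index of a normal Hall subgroup; invariant classes under
coprime solvable operators.
-/

namespace Cfsg.Agent.Char.CopDeg

open scoped ComplexConjugate
open Cfsg Cfsg.Agent.Char.Ext Cfsg.Agent.Block

universe u

variable {G : Type u} [Group G] [Finite G]

theorem degree_dvd_card' {K : Type u} [Group K] [Finite K] (θ : IrrCharacter K) :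
    charDegree (θ : K → ℂ) ∣ Nat.card K := by
  haveI := Fintype.ofFinite K
  exact IsIrr.degree_dvd_card θ.2 (charDeg_spec' θ)

/-- Coprime-degree characters factor through invariant characters and linear ones. -/
theorem card_coprime_degree (K : Subgroup G) [hK : K.Normal]
    (hcop : (Nat.card K).Coprime K.index) :
    Nat.card {χ : IrrCharacter G // (charDegree (χ : G → ℂ)).Coprime K.index} =
      Nat.card {θ : IrrCharacter K // ∀ (g : G) (n : K),
        (θ : K → ℂ) ⟨g * n * g⁻¹, hK.conj_mem (n : G) n.2 g⟩ = (θ : K → ℂ) n} *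
      Nat.card {l : G →* ℂˣ // ∀ k : K, l k = 1} := by
  classical
  haveI := Fintype.ofFinite G
  haveI := Fintype.ofFinite K
  let T := {θ : IrrCharacter K // ∀ (g : G) (n : K),
    (θ : K → ℂ) ⟨g * n * g⁻¹, hK.conj_mem (n : G) n.2 g⟩ = (θ : K → ℂ) n}
  let L := {l : G →* ℂˣ // ∀ k : K, l k = 1}
  have hdet : ∀ θ : IrrCharacter K, orderOf (detChar (θ : K → ℂ)) ∣ Nat.card K := fun θ => by
    obtain ⟨l, hl⟩ := isCharacter_detChar θ.2
    rw [hl, orderOf_unitsFun]
    refine orderOf_dvd_of_pow_eq_one (MonoidHom.ext fun g => ?_)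
    show l g ^ Nat.card K = 1
    rw [← map_pow, pow_card_eq_one', map_one]
  have hext : ∀ θ : T, ∃ χ : G → ℂ, IsIrrCharacter G χ ∧ ∀ m : K, χ m = (θ.1 : K → ℂ) m := fun θ => by
    refine exists_extension_of_witness θ.1.2 θ.2 (charDeg_spec' θ.1) fun p hp =>
      witness_of_coprime θ.1.2 ?_ hp
    exact (Nat.Coprime.mul_right (hcop.symm.coprime_dvd_right (hdet θ.1))
      (hcop.symm.coprime_dvd_right (degree_dvd_card' θ.1)))
  choose η hη hηres using hext
  have hη1 : ∀ θ : T, η θ 1 = (charDegree (θ.1 : K → ℂ) : ℂ) := fun θ => by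
    rw [← charDeg_spec' θ.1]
    exact hηres θ 1
  let F : T × L → IrrCharacter G := fun x =>
    ⟨fun g => (x.2.1 g : ℂ) * η x.1 g, IsIrr.mul_linear (hη x.1) x.2.1⟩
  have hFres : ∀ x : T × L, ∀ m : K, (F x : G → ℂ) m = (x.1.1 : K → ℂ) m := fun x m => by
    show (x.2.1 (m : G) : ℂ) * η x.1 m = _
    rw [x.2.2, Units.val_one, one_mul, hηres]
  have hFdeg : ∀ x : T × L, (charDegree (F x : G → ℂ)).Coprime K.index := fun x => by
    have e : charDegree (F x : G → ℂ) = charDegree (x.1.1 : K → ℂ) := by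
      unfold charDegree
      rw [← hFres x 1]
      rfl
    rw [e]
    exact Nat.Coprime.coprime_dvd_left (degree_dvd_card' x.1.1) hcop
  rw [← Nat.card_prod]
  refine (Nat.card_congr (Equiv.ofBijective (fun x : T × L =>
    (⟨F x, hFdeg x⟩ : {χ : IrrCharacter G // (charDegree (χ : G → ℂ)).Coprime K.index})) ⟨?_, ?_⟩)).symm
  · intro x y h
    have h' : (F x : G → ℂ) = (F y : G → ℂ) := congrArg Subtype.val (congrArg Subtype.val h)
    have hθ : x.1 = y.1 := Subtype.ext (Subtype.ext (funext fun m => by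
      rw [← hFres x m, ← hFres y m, h']))
    refine Prod.ext hθ (Subtype.ext ?_)
    obtain ⟨δ, hδ⟩ := isCharacter_detChar (hη x.1)
    have hc : Nat.Coprime K.index (charDegree (x.1.1 : K → ℂ)) :=
      hcop.symm.coprime_dvd_right (degree_dvd_card' x.1.1)
    have hd := congrArg detChar h'
    simp only [F] at hd
    rw [← hθ, detChar_mul_linear (hη x.1) (hη1 x.1), detChar_mul_linear (hη x.1) (hη1 x.1), hδ] at hd
    have e1 : ∀ g, (x.2.1 g * (y.2.1 g)⁻¹) ^ charDegree (x.1.1 : K → ℂ) = 1 := fun g => by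
      have h2 := mul_right_cancel₀ (δ g).ne_zero (congrFun hd g)
      rw [mul_pow, inv_pow, mul_inv_eq_one]
      exact Units.ext (by simpa using h2)
    have e2 : ∀ g, (x.2.1 g * (y.2.1 g)⁻¹) ^ K.index = 1 := fun g => by
      have := DFunLike.congr_fun (pow_index_eq_one (N := K) (x.2.1 * y.2.1⁻¹)
        fun m => by simp [x.2.2, y.2.2]) g
      exact this
    refine MonoidHom.ext fun g => mul_inv_eq_one.mp (orderOf_eq_one_iff.mp ?_)
    exact Nat.eq_one_of_dvd_coprimes hc (orderOf_dvd_of_pow_eq_one (e2 g))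
      (orderOf_dvd_of_pow_eq_one (e1 g))
  · rintro ⟨χ, hχd⟩
    obtain ⟨θ, hθ⟩ := IsChar.exists_constituent' (IsChar.res (irr_isChar χ) K)
      (show (χ : G → ℂ) ((1 : K) : G) ≠ 0 from irr_one_ne_zero χ)
    obtain ⟨e, he, hedvd⟩ := ratio_dvd_index' χ.2 θ.2 hθ
    rw [charDeg_spec' χ, charDeg_spec' θ, ← Nat.cast_mul, Nat.cast_inj] at he
    have he1 : e = 1 := Nat.eq_one_of_dvd_coprimes hχd (Dvd.intro _ he.symm) hedvd
    have hres : (fun n : K => (χ : G → ℂ) n) = (θ : K → ℂ) :=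
      eq_of_constituent_degree (IsChar.res (irr_isChar χ) K) θ.2 hθ (by
        show (χ : G → ℂ) ((1 : K) : G) = _
        rw [Subgroup.coe_one, charDeg_spec' χ, charDeg_spec' θ, he, he1, one_mul])
    have hθinv : ∀ (g : G) (n : K),
        (θ : K → ℂ) ⟨g * n * g⁻¹, hK.conj_mem (n : G) n.2 g⟩ = (θ : K → ℂ) n := fun g n => by
      rw [← congrFun hres, ← congrFun hres]
      exact irr_classFun χ n g
    set t : T := ⟨θ, hθinv⟩
    have hres' : (fun n : K => η t n) = (θ : K → ℂ) := funext (hηres t)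
    obtain ⟨hL, hmul⟩ := gallagher (N := K) (hη t) χ.2 (hres'.symm ▸ θ.2)
      (by rw [hres', hres, classInner_self_irr θ.2]; exact one_ne_zero)
    set A := avgN K ((χ : G → ℂ) * fun g => conj (η t g)) with hA
    have hA1 : A 1 = 1 := by
      refine mul_left_cancel₀ (IsIrr.one_ne_zero (hη t)) ?_
      rw [mul_one, show η t 1 * A 1 = (η t * A) 1 from rfl, hmul]
      exact (congrFun hres 1).trans (congrFun hres' 1).symm
    obtain ⟨l, hl⟩ := linearHom_of_isCharacter (IsIrr.isCharacter hL) hA1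
    have hlK : ∀ m : K, l (m : G) = 1 := fun m => Units.ext (by
      rw [← congrFun hl (m : G), Units.val_one, ← hA1, ← mul_one (m : G)]
      exact avgN_mul_left K _ m 1)
    refine ⟨(t, ⟨l, hlK⟩), Subtype.ext (Subtype.ext (funext fun g => ?_))⟩
    show (l g : ℂ) * η t g = (χ : G → ℂ) g
    rw [← hmul, hl, mul_comm]
    rfl

omit [Finite G] in
/-- Linear characters trivial on a complemented normal subgroup. -/
theorem card_linear_of_complement {K H : Subgroup G} [hK : K.Normal]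
    (h : Subgroup.IsComplement' H K) :
    Nat.card {l : G →* ℂˣ // ∀ k : K, l k = 1} = Nat.card (H →* ℂˣ) := by
  refine Nat.card_congr
    { toFun := fun l => l.1.comp H.subtype
      invFun := fun ψ => ⟨ψ.comp (h.QuotientMulEquiv.toMonoidHom.comp (QuotientGroup.mk' K)),
        fun k => by
          rw [MonoidHom.comp_apply, MonoidHom.comp_apply, QuotientGroup.mk'_apply,
            (QuotientGroup.eq_one_iff _).mpr k.2, map_one, map_one]⟩
      left_inv := fun l => Subtype.ext (MonoidHom.ext fun g => ?_)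
      right_inv := fun ψ => MonoidHom.ext fun x => ?_ }
  · show l.1 ((h.QuotientMulEquiv (g : G ⧸ K) : H) : G) = l.1 g
    set y : H := h.QuotientMulEquiv (g : G ⧸ K) with hy
    have e : ((y : G) : G ⧸ K) = (g : G ⧸ K) := h.QuotientMulEquiv.symm_apply_apply (g : G ⧸ K)
    have hk : (y : G)⁻¹ * g ∈ K := QuotientGroup.eq.mp e
    have := l.2 ⟨_, hk⟩
    rw [map_mul, map_inv, inv_mul_eq_one] at this
    exact this
  · show ψ (h.QuotientMulEquiv ((x : G) : G ⧸ K)) = ψ x
    congr 1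
    exact h.QuotientMulEquiv.apply_symm_apply x

/-- Classes of `K` fixed by `H` correspond to classes of `K ∩ C(H)`. -/
theorem card_fixed_classes (K H : Subgroup G) (hnorm : ∀ h ∈ H, ∀ k ∈ K, h * k * h⁻¹ ∈ K)
    (hcop : (Nat.card K).Coprime (Nat.card H))
    (hsolv : Group.IsSolvable H ∨ Group.IsSolvable K) :
    Nat.card {C : ConjClasses K // ∀ a ∈ (Glaub.conjHom K H hnorm).range,
      ConjClasses.map (MulEquiv.toMonoidHom (a : MulAut K)) C = C} =
    Nat.card (ConjClasses ((K ⊓ Subgroup.centralizer (H : Set G) : Subgroup G))) := by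
  classical
  set C₀ : Subgroup G := K ⊓ Subgroup.centralizer (H : Set G) with hC₀
  have hHK : H ≤ Subgroup.normalizer (K : Set G) := by
    intro a ha
    rw [Subgroup.mem_normalizer_iff]
    refine fun k => ⟨hnorm a ha k, fun hk => ?_⟩
    have := hnorm a⁻¹ (H.inv_mem ha) _ hk
    simpa [mul_assoc] using this
  let X := ConjAct G
  let i : C₀ →* K := Subgroup.inclusion inf_le_left
  have hfix : ∀ (c : C₀) (a : H), (a : G) * (c : G) * (a : G)⁻¹ = (c : G) := fun c a =>
    mul_inv_eq_iff_eq_mul.mpr (Subgroup.mem_centralizer_iff.mp c.2.2 a a.2)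
  refine (Nat.card_congr (Equiv.ofBijective (fun D => (⟨ConjClasses.map i D, ?_⟩ :
    {C : ConjClasses K // ∀ a ∈ (Glaub.conjHom K H hnorm).range,
      ConjClasses.map (MulEquiv.toMonoidHom (a : MulAut K)) C = C})) ⟨?_, ?_⟩)).symm
  · rintro _ ⟨a, rfl⟩
    obtain ⟨c, rfl⟩ := D.exists_rep
    exact congrArg ConjClasses.mk (Subtype.ext (hfix c a))
  · intro D D' h
    obtain ⟨x, rfl⟩ := D.exists_rep
    obtain ⟨y, rfl⟩ := D'.exists_rep
    have h' : IsConj (i x) (i y) :=
      ConjClasses.mk_eq_mk_iff_isConj.mp (congrArg Subtype.val h :)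
    obtain ⟨k, hk⟩ := isConj_iff.mp h'
    letI : MulAction G {z : G // True} :=
      { smul := fun g z => ⟨g * z.1 * g⁻¹, trivial⟩
        one_smul := fun z => Subtype.ext (show (1 : G) * z.1 * 1⁻¹ = z.1 by simp)
        mul_smul := fun g g' z => Subtype.ext
          (show g * g' * z.1 * (g * g')⁻¹ = g * (g' * z.1 * g'⁻¹) * g⁻¹ by group) }
    obtain ⟨c, hc, hcxy⟩ := Cfsg.Agent.Grp.exists_centralizer_smul (X := {z : G // True}) H K
      {z | ∃ m ∈ K, m * (x : G) * m⁻¹ = z.1} hHK hcop.symm hsolv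
      (by
        rintro z ⟨m, hm, hmz⟩ w ⟨m', hm', hmw⟩
        refine ⟨m' * m⁻¹, K.mul_mem hm' (K.inv_mem hm), Subtype.ext ?_⟩
        show m' * m⁻¹ * z.1 * (m' * m⁻¹)⁻¹ = w.1
        rw [← hmz, ← hmw]
        group)
      (x := ⟨x, trivial⟩) (y := ⟨y, trivial⟩) ⟨1, K.one_mem, by simp⟩
      ⟨k, k.2, congrArg Subtype.val hk⟩ (fun a ha => Subtype.ext (hfix x ⟨a, ha⟩))
      (fun a ha => Subtype.ext (hfix y ⟨a, ha⟩))
    exact ConjClasses.mk_eq_mk_iff_isConj.mpr (isConj_iff.mpr ⟨⟨c, hc⟩, Subtype.ext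
      (congrArg Subtype.val hcxy :)⟩)
  · rintro ⟨D, hD⟩
    obtain ⟨x, rfl⟩ := D.exists_rep
    letI : MulAction G {z : G // True} :=
      { smul := fun g z => ⟨g * z.1 * g⁻¹, trivial⟩
        one_smul := fun z => Subtype.ext (show (1 : G) * z.1 * 1⁻¹ = z.1 by simp)
        mul_smul := fun g g' z => Subtype.ext
          (show g * g' * z.1 * (g * g')⁻¹ = g * (g' * z.1 * g'⁻¹) * g⁻¹ by group) }
    obtain ⟨z, ⟨m, hm, hmz⟩, hzfix⟩ := Cfsg.Agent.Grp.exists_fixed_point (X := {z : G // True}) H K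
      {z | ∃ m ∈ K, m * (x : G) * m⁻¹ = z.1} hHK hcop.symm hsolv
      ⟨⟨x, trivial⟩, 1, K.one_mem, by simp⟩
      (by
        rintro a ha z ⟨m, hm, hmz⟩
        have h1 := ConjClasses.mk_eq_mk_iff_isConj.mp (hD _ ⟨⟨a, ha⟩, rfl⟩)
        obtain ⟨k, hk⟩ := isConj_iff.mp h1.symm
        have hk' : (k : G) * x * (k : G)⁻¹ = a * x * a⁻¹ := congrArg Subtype.val hk
        refine ⟨a * m * a⁻¹ * k, K.mul_mem (hnorm a ha m hm) k.2, ?_⟩
        show _ = a * z.1 * a⁻¹
        rw [← hmz, show a * m * a⁻¹ * k * (x : G) * (a * m * a⁻¹ * k)⁻¹ =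
          a * m * a⁻¹ * ((k : G) * x * (k : G)⁻¹) * (a * m * a⁻¹)⁻¹ by group, hk']
        group)
      (by
        rintro k hk z ⟨m, hm, hmz⟩
        refine ⟨k * m, K.mul_mem hk hm, ?_⟩
        show _ = k * z.1 * k⁻¹
        rw [← hmz]
        group)
      (by
        rintro z ⟨m, hm, hmz⟩ w ⟨m', hm', hmw⟩
        refine ⟨m' * m⁻¹, K.mul_mem hm' (K.inv_mem hm), Subtype.ext ?_⟩
        show m' * m⁻¹ * z.1 * (m' * m⁻¹)⁻¹ = w.1
        rw [← hmz, ← hmw]
        group)
    have hzK : z.1 ∈ K := hmz ▸ K.mul_mem (K.mul_mem hm x.2) (K.inv_mem hm)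
    refine ⟨ConjClasses.mk ⟨z.1, hzK, Subgroup.mem_centralizer_iff.mpr fun a ha =>
      mul_inv_eq_iff_eq_mul.mp (congrArg Subtype.val (hzfix a ha) :)⟩, Subtype.ext ?_⟩
    exact ConjClasses.mk_eq_mk_iff_isConj.mpr
      (isConj_iff.mpr ⟨⟨m, hm⟩, Subtype.ext hmz⟩).symm

end Cfsg.Agent.Char.CopDeg
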