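import Cfsg.Agent.Lib.Char.Extend
import Cfsg.Agent.Lib.Char.Average
import Cfsg.Agent.Lib.Char.Kernel
import Cfsg.Agent.Lib.Char.GlaubermanSolvable
import Mathlib.GroupTheory.SchurZassenhaus

/-!
An invariant character above an invariant character when the operating quotient is solvable and
coprime: pass to the finite cover, where the obstruction becomes a central subgroup.
-/

namespace Cfsg.Agent.Char.InvCover

open scoped ComplexConjugate
open Cfsg

set_option linter.unusedSectionVars false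
set_option linter.style.haveILetI false

universe u

/-- The averaged squared absolute value of a character irreducible on the subgroup. -/
theorem avgN_absSq {G : Type u} [Group G] [Fintype G] (N : Subgroup G) [N.Normal] [Fintype N]
    {θ : G → ℂ} (hθ : IsIrrCharacter G θ) (hθN : IsIrrCharacter N (fun n : N => θ n)) :
    avgN N (θ * fun g => conj (θ g)) = fun _ => 1 := by
  have hne : classInner (fun n : N => θ n) (fun n : N => θ n) ≠ 0 := by
    rw [classInner_self_irr hθN]; exact one_ne_zero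
  refine eq_of_constituent_irr (gallagher N hθ hθ hθN hne).1 isIrr_one ?_
  have e : avgN N (fun _ : G => (1 : ℂ)) = fun _ => 1 := by
    funext g; simp [avgN]
  rw [classInner_avgN, e]
  have : classInner (θ * fun g => conj (θ g)) (fun _ => 1) = classInner θ θ := by
    simp [classInner]
  rw [this, classInner_self_irr hθ]
  exact one_ne_zero

/-- A central element acts through the linear character below. -/
theorem central_scalar {H : Type u} [Group H] [Fintype H] {Z : Subgroup H} [Fintype Z]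
    (hZ : Z ≤ Subgroup.center H) {χ : H → ℂ} (hχ : IsIrrCharacter H χ) (l : Z →* ℂˣ)
    (hne : classInner (fun z : Z => χ z) (fun z => (l z : ℂ)) ≠ 0) (z : Z) (x : H) :
    χ ((z : H) * x) = (l z : ℂ) * χ x := by
  obtain ⟨c, -, hc⟩ := IsIrr.scalar_of_center hχ (hZ z.2)
  suffices c = (l z : ℂ) by rw [hc, this]
  have hn : conj (l z : ℂ) * (l z : ℂ) = 1 := by
    have h : (l z⁻¹ : ℂ) = conj (l z : ℂ) := IsIrr.apply_inv (isIrr_linear l) z
    rw [← h, map_inv, Units.inv_mul]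
  set S := ∑ w : Z, χ w * conj (l w : ℂ) with hS
  have hS0 : S ≠ 0 := fun h => hne (by
    simp only [classInner]
    rw [← hS, h, mul_zero])
  have hshift : S = c * conj (l z : ℂ) * S := by
    rw [hS, Finset.mul_sum]
    refine (Fintype.sum_equiv (Equiv.mulLeft z) _ _ fun w => ?_).symm
    rw [Equiv.coe_mulLeft, Subgroup.coe_mul, hc, map_mul, Units.val_mul, map_mul]
    ring
  have h1 : c * conj (l z : ℂ) = 1 := mul_right_cancel₀ hS0 (hshift.symm.trans (one_mul S).symm)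
  calc c = c * (conj (l z : ℂ) * (l z : ℂ)) := by rw [hn, mul_one]
    _ = (l z : ℂ) := by rw [← mul_assoc, h1, one_mul]

/-- An invariant character over a linear character of a central subgroup of coprime index. -/
theorem central_case {Q : Type u} [Group Q] [Fintype Q] (G Z : Subgroup Q) [G.Normal] [Fintype G]
    (hZc : Z ≤ Subgroup.center Q) (hZG : Z ≤ G) (hcop : G.index.Coprime (Z.relIndex G))
    (hsolv : Group.IsSolvable (Q ⧸ G)) (l : Z →* ℂˣ) :
    ∃ ξ : IrrCharacter G,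
      (∀ (q : Q) (x x' : G), (x' : Q) = q * x * q⁻¹ → (ξ : G → ℂ) x' = (ξ : G → ℂ) x) ∧
      ∀ (z : Z) (x x' : G), (x' : Q) = z * x → (ξ : G → ℂ) x' = (l z : ℂ) * (ξ : G → ℂ) x := by
  classical
  set m := G.index
  have hcomm : ∀ z ∈ Z, ∀ y : Q, z * y = y * z := fun z hz y =>
    (Subgroup.mem_center_iff.1 (hZc hz) y).symm
  -- the part of the central subgroup built from the primes of the index
  let Z₂ : Subgroup Q :=
    { carrier := {z | z ∈ Z ∧ ∃ k : ℕ, z ^ (m ^ k) = 1}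
      one_mem' := ⟨one_mem _, 0, one_pow _⟩
      mul_mem' := by
        rintro a b ⟨ha, j, hj⟩ ⟨hb, k, hk⟩
        refine ⟨mul_mem ha hb, j + k, ?_⟩
        rw [(show Commute a b from hcomm a ha b).mul_pow, pow_add, pow_mul, hj, one_pow, one_mul,
          mul_comm, pow_mul, hk, one_pow]
      inv_mem' := by
        rintro a ⟨ha, k, hk⟩
        exact ⟨Z.inv_mem ha, k, by rw [inv_pow, hk, inv_one]⟩ }
  have hZ₂Z : Z₂ ≤ Z := fun z hz => hz.1
  have hZ₂p : ∀ p : ℕ, p.Prime → p ∣ Nat.card Z₂ → p ∣ m := by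
    intro p hp hpd
    haveI := Fact.mk hp
    obtain ⟨⟨z, hzZ, k, hk⟩, hz⟩ := exists_prime_orderOf_dvd_card' (G := Z₂) p hpd
    have h := orderOf_dvd_of_pow_eq_one hk
    rw [← Subgroup.orderOf_mk, hz] at h
    exact hp.dvd_of_dvd_pow h
    exact ⟨hzZ, k, hk⟩
  have hZ₂q : ∀ p : ℕ, p.Prime → p ∣ Z₂.relIndex Z → ¬ p ∣ m := by
    intro p hp hpd hpm
    haveI := Fact.mk hp
    haveI : (Z₂.subgroupOf Z).Normal := ⟨fun x hx g => by
      rwa [show g * x * g⁻¹ = x from Subtype.ext (by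
        show (g : Q) * x * (g : Q)⁻¹ = x
        rw [← hcomm x x.2, mul_inv_cancel_right])]⟩
    haveI : Finite (Z ⧸ Z₂.subgroupOf Z) := inferInstance
    rw [show Z₂.relIndex Z = (Z₂.subgroupOf Z).index from rfl, Subgroup.index_eq_card] at hpd
    obtain ⟨y, hy⟩ := exists_prime_orderOf_dvd_card' (G := Z ⧸ Z₂.subgroupOf Z) p hpd
    obtain ⟨z, rfl⟩ := QuotientGroup.mk'_surjective _ y
    have h1 := pow_orderOf_eq_one (QuotientGroup.mk' (Z₂.subgroupOf Z) z)
    rw [hy, ← map_pow, QuotientGroup.mk'_apply, QuotientGroup.eq_one_iff] at h1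
    obtain ⟨-, k, hk⟩ := h1
    have h2 : z ∈ Z₂.subgroupOf Z := by
      refine ⟨z.2, k + 1, ?_⟩
      obtain ⟨c, hc⟩ := hpm
      have hk' : (z : Q) ^ (p * m ^ k) = 1 := by rw [pow_mul]; exact hk
      show (z : Q) ^ (m ^ (k + 1)) = 1
      rw [pow_succ', show m * m ^ k = p * m ^ k * c by rw [hc]; ring, pow_mul, hk', one_pow]
    have h3 : orderOf (QuotientGroup.mk' (Z₂.subgroupOf Z) z) = 1 := by
      rw [orderOf_eq_one_iff, QuotientGroup.mk'_apply, QuotientGroup.eq_one_iff]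
      exact h2
    exact hp.one_lt.ne (h3.symm.trans hy)
  have hidx : Z₂.relIndex G = Z₂.relIndex Z * Z.relIndex G :=
    (Subgroup.relIndex_mul_relIndex _ _ _ hZ₂Z hZG).symm
  have hm_rel : m.Coprime (Z₂.relIndex G) := by
    rw [hidx]
    exact Nat.Coprime.mul_right (Nat.coprime_of_dvd fun p hp h1 h2 => hZ₂q p hp h2 h1) hcop
  have hZ₂cop : (Nat.card Z₂).Coprime (Z₂.relIndex G) :=
    Nat.coprime_of_dvd fun p hp h1 h2 =>
      hp.one_lt.ne' (Nat.dvd_one.1 (hm_rel ▸ Nat.dvd_gcd (hZ₂p p hp h1) h2))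
  set Z₂' := Z₂.subgroupOf G
  have hZ₂'card : Nat.card Z₂' = Nat.card Z₂ :=
    Nat.card_congr (Subgroup.subgroupOfEquivOfLe (hZ₂Z.trans hZG)).toEquiv
  haveI : Z₂'.Normal := ⟨fun x hx g => by
    rwa [show g * x * g⁻¹ = x from Subtype.ext (by
      show (g : Q) * x * (g : Q)⁻¹ = x
      rw [← hcomm x (hZ₂Z hx), mul_inv_cancel_right])]⟩
  obtain ⟨H₀, hH₀⟩ := Subgroup.exists_right_complement'_of_coprime (N := Z₂')
    (by rw [hZ₂'card]; exact hZ₂cop)
  have hH₀card : Nat.card H₀ = Z₂.relIndex G := by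
    have h1 := hH₀.card_mul
    have h2 := Subgroup.card_mul_index Z₂'
    exact Nat.eq_of_mul_eq_mul_left Nat.card_pos (h1.trans h2.symm)
  set H : Subgroup Q := H₀.map G.subtype
  have hHG : H ≤ G := Subgroup.map_subtype_le _
  have hHcard : Nat.card H = Z₂.relIndex G := by
    rw [Subgroup.card_map_of_injective G.subtype_injective, hH₀card]
  -- unique decomposition
  have hdec : ∀ x ∈ G, ∃ w ∈ Z₂, ∃ h ∈ H, w * h = x := by
    intro x hx
    obtain ⟨⟨⟨a, ha⟩, ⟨b, hb⟩⟩, hab⟩ := hH₀.2 (⟨x, hx⟩ : G)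
    exact ⟨a, ha, b, ⟨b, hb, rfl⟩, congrArg Subtype.val hab⟩
  have hinf : ∀ y ∈ Z₂, y ∈ H → y = 1 := by
    rintro y hy ⟨b, hb, rfl⟩
    have : b ∈ Z₂' ⊓ H₀ := ⟨hy, hb⟩
    have hb1 := hH₀.disjoint.le_bot this
    rw [Subgroup.mem_bot] at hb1
    rw [hb1, map_one]
  have hmemH : ∀ x ∈ G, x ^ Nat.card H = 1 → x ∈ H := by
    intro x hx hxp
    obtain ⟨w, hw, h, hh, rfl⟩ := hdec x hx
    rw [(show Commute w h from hcomm w (hZ₂Z hw) h).mul_pow,
      show h ^ Nat.card H = 1 from congrArg Subtype.val (pow_card_eq_one' (x := (⟨h, hh⟩ : H))),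
      mul_one] at hxp
    have h1 : orderOf (⟨w, hw⟩ : Z₂) ∣ 1 := by
      rw [← hZ₂cop.gcd_eq_one, ← hHcard]
      exact Nat.dvd_gcd (orderOf_dvd_natCard _) (orderOf_dvd_of_pow_eq_one (Subtype.ext hxp))
    rw [Nat.dvd_one, orderOf_eq_one_iff] at h1
    rw [show w = 1 from congrArg Subtype.val h1, one_mul]
    exact hh
  haveI hHn : H.Normal := ⟨fun h hh q => hmemH _ (‹G.Normal›.conj_mem h (hHG hh) q) (by
    rw [conj_pow, show h ^ Nat.card H = 1 from
      congrArg Subtype.val (pow_card_eq_one' (x := (⟨h, hh⟩ : H))), mul_one, mul_inv_cancel])⟩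
  have hHidx : (Nat.card H).Coprime H.index := by
    have h1 : H.index = Nat.card Z₂ * m := by
      refine Nat.eq_of_mul_eq_mul_left (Nat.card_pos (α := H)) ?_
      rw [Subgroup.card_mul_index, hHcard, ← hH₀card, ← mul_assoc, mul_comm (Nat.card H₀),
        ← hZ₂'card, hH₀.card_mul, Subgroup.card_mul_index]
    rw [h1, hHcard]
    exact Nat.Coprime.mul_right hZ₂cop.symm hm_rel.symm
  obtain ⟨K, hK⟩ := Subgroup.exists_right_complement'_of_coprime (N := H) hHidx
  have hKsolv : Group.IsSolvable K := by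
    let f : K →* Q ⧸ G := (QuotientGroup.mk' G).comp K.subtype
    letI : CommGroup f.ker := { (inferInstance : Group f.ker) with
      mul_comm := fun a b => by
        have ha : ((a : K) : Q) ∈ G := (QuotientGroup.eq_one_iff _).1 a.2
        have hb : ((b : K) : Q) ∈ G := (QuotientGroup.eq_one_iff _).1 b.2
        obtain ⟨w, hw, h, hh, hwa⟩ := hdec _ ha
        obtain ⟨v, hv, g, hg, hvb⟩ := hdec _ hb
        set x : Q := ((a : K) : Q) * (b : K) * ((a : K) : Q)⁻¹ * ((b : K) : Q)⁻¹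
        have hxH : x ∈ H := by
          have e : x = h * g * h⁻¹ * g⁻¹ := by
            simp only [x, ← hwa, ← hvb]
            have cw := hcomm w (hZ₂Z hw)
            have cv := hcomm v (hZ₂Z hv)
            calc w * h * (v * g) * (w * h)⁻¹ * (v * g)⁻¹
                = w * (h * (v * g) * h⁻¹) * w⁻¹ * (g⁻¹ * v⁻¹) := by group
              _ = h * (v * g) * h⁻¹ * (g⁻¹ * v⁻¹) := by rw [cw, mul_inv_cancel_right]
              _ = (h * v) * g * h⁻¹ * (g⁻¹ * v⁻¹) := by group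
              _ = v * (h * g * h⁻¹ * g⁻¹) * v⁻¹ := by rw [← cv h]; group
              _ = h * g * h⁻¹ * g⁻¹ := by rw [cv, mul_inv_cancel_right]
          rw [e]
          exact H.mul_mem (H.mul_mem (H.mul_mem hh hg) (H.inv_mem hh)) (H.inv_mem hg)
        have hxK : x ∈ K :=
          K.mul_mem (K.mul_mem (K.mul_mem (a : K).2 (b : K).2) (K.inv_mem (a : K).2))
            (K.inv_mem (b : K).2)
        have hx1 := hK.disjoint.le_bot ⟨hxH, hxK⟩
        rw [Subgroup.mem_bot] at hx1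
        refine Subtype.ext (Subtype.ext ?_)
        have := mul_inv_eq_one.1 hx1
        exact mul_inv_eq_iff_eq_mul.1 this }
    exact solvable_of_ker_le_range f.ker.subtype f (by rw [Subgroup.range_subtype])
  haveI : Fintype H := Fintype.ofFinite _
  have hgood := Glaub.good_conjHom H K (fun k _ h hh => hHn.conj_mem h hh k)
    (hHidx.coprime_dvd_right (by rw [hK.symm.index_eq_card])) hKsolv
  set Z₁ : Subgroup H := Z.subgroupOf H
  have hZ₁c : Z₁ ≤ Subgroup.center H := fun z hz => Subgroup.mem_center_iff.2 fun y =>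
    Subtype.ext (hcomm z hz y).symm
  haveI : Z₁.Normal := ⟨fun x hx y => by
    rwa [Subgroup.mem_center_iff.1 (hZ₁c hx) y, mul_inv_cancel_right]⟩
  haveI : Fintype Z₁ := Fintype.ofFinite _
  let l₁ : Z₁ →* ℂˣ := l.comp
    { toFun := fun z => ⟨((z : H) : Q), z.2⟩
      map_one' := rfl
      map_mul' := fun _ _ => rfl }
  obtain ⟨ξ₀, hξinv, hξne⟩ := hgood.above Z₁
    (fun a ha n hn => by
      obtain ⟨k, rfl⟩ := ha
      show (k : Q) * n * (k : Q)⁻¹ ∈ Z
      rw [← hcomm (n : Q) hn, mul_inv_cancel_right]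
      exact hn)
    ⟨fun z => (l₁ z : ℂ), isIrr_linear l₁⟩
    (fun a ha n n' he => by
      obtain ⟨k, rfl⟩ := ha
      have h : n' = n := by
        refine Subtype.ext (he.trans (Subtype.ext ?_))
        show (k : Q) * (n : H) * (k : Q)⁻¹ = (n : H)
        rw [← hcomm ((n : H) : Q) n.2, mul_inv_cancel_right]
      rw [h])
  rw [Glaub.inv_conjHom_iff] at hξinv
  have hscal := central_scalar hZ₁c ξ₀.2 l₁ hξne
  -- the product decomposition
  let φ : H × Z₂ →* G :=
    { toFun := fun p => ⟨(p.1 : Q) * p.2, G.mul_mem (hHG p.1.2) (hZG p.2.2.1)⟩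
      map_one' := Subtype.ext (one_mul 1)
      map_mul' := fun p r => Subtype.ext (by
        show (p.1 : Q) * r.1 * ((p.2 : Q) * r.2) = p.1 * p.2 * ((r.1 : Q) * r.2)
        rw [mul_assoc (p.1 : Q), ← mul_assoc (r.1 : Q), ← hcomm p.2 p.2.2.1 r.1]
        group) }
  have hφb : Function.Bijective φ := by
    constructor
    · rw [injective_iff_map_eq_one]
      rintro ⟨h, w⟩ he
      have he' : (h : Q) * w = 1 := congrArg Subtype.val he
      have hw : (w : Q) = 1 := hinf _ w.2 (by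
        rw [← inv_eq_of_mul_eq_one_right he']; exact H.inv_mem h.2)
      rw [hw, mul_one] at he'
      exact Prod.ext (Subtype.ext he') (Subtype.ext hw)
    · intro x
      obtain ⟨w, hw, h, hh, e⟩ := hdec x x.2
      exact ⟨(⟨h, hh⟩, ⟨w, hw⟩), Subtype.ext ((hcomm w (hZ₂Z hw) h).symm.trans e)⟩
  let eφ := (MulEquiv.ofBijective φ hφb).symm
  let l₂ : Z₂ →* ℂˣ := l.comp (Subgroup.inclusion hZ₂Z)
  haveI : Fintype Z₂ := Fintype.ofFinite _
  let F : H × Z₂ → ℂ :=
    fun p => ((l₂.comp (MonoidHom.snd H Z₂)) p : ℂ) * (ξ₀ : H → ℂ) (MonoidHom.fst H Z₂ p)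
  have hprod : IsIrrCharacter (H × Z₂) F :=
    IsIrr.mul_linear (IsIrr.comp_surjective (MonoidHom.fst H Z₂) Prod.fst_surjective ξ₀.2) _
  have hdef : ∀ (h : H) (w : Z₂) (x : G), (x : Q) = h * w → eφ x = (h, w) := fun h w x hx => by
    rw [MulEquiv.symm_apply_eq]
    exact Subtype.ext hx
  refine ⟨⟨_, IsIrr.comp_mulEquiv eφ hprod⟩, ?_, ?_⟩
  · intro q x x' he
    obtain ⟨⟨h, w⟩, rfl⟩ := hφb.2 x
    obtain ⟨⟨⟨h₀, hh₀⟩, ⟨k, hk⟩⟩, hq⟩ := hK.2 q
    set h' : H := ⟨q * h * q⁻¹, hHn.conj_mem h h.2 q⟩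
    have e1 : (ξ₀ : H → ℂ) h' = (ξ₀ : H → ℂ) h := by
      have e2 := hξinv k hk h ⟨k * h * k⁻¹, hHn.conj_mem h h.2 k⟩ rfl
      rw [← e2, ← IsIrr.classFun ξ₀.2 ⟨k * h * k⁻¹, hHn.conj_mem h h.2 k⟩ ⟨h₀, hh₀⟩]
      refine congrArg (ξ₀ : H → ℂ) (Subtype.ext ?_)
      show q * h * q⁻¹ = h₀ * (k * h * k⁻¹) * h₀⁻¹
      rw [← show h₀ * k = q from hq]
      group
    show F (eφ x') = F (eφ (φ (h, w)))
    rw [hdef h' w x' (by
        rw [he]
        show q * ((h : Q) * w) * q⁻¹ = q * h * q⁻¹ * w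
        rw [mul_assoc _ q⁻¹, ← hcomm w w.2.1 q⁻¹]
        group),
      hdef h w (φ (h, w)) rfl]
    exact congrArg (fun t => ((l₂ w : ℂˣ) : ℂ) * t) e1
  · intro z x x' he
    obtain ⟨⟨h, w⟩, rfl⟩ := hφb.2 x
    obtain ⟨w₀, hw₀, h₀, hh₀, e⟩ := hdec z (hZG z.2)
    have hh₀Z : h₀ ∈ Z := by
      rw [show h₀ = w₀⁻¹ * z from eq_inv_mul_of_mul_eq e]
      exact Z.mul_mem (Z.inv_mem (hZ₂Z hw₀)) z.2
    set z₁ : Z₁ := ⟨⟨h₀, hh₀⟩, hh₀Z⟩
    show F (eφ x') = _ * F (eφ (φ (h, w)))
    rw [hdef ((z₁ : H) * h) (⟨w₀, hw₀⟩ * w) x' (by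
        rw [he, ← e]
        show w₀ * h₀ * ((h : Q) * w) = h₀ * h * (w₀ * w)
        rw [hcomm w₀ (hZ₂Z hw₀), mul_assoc h₀, ← mul_assoc w₀, hcomm w₀ (hZ₂Z hw₀)]
        group),
      hdef h w (φ (h, w)) rfl]
    show ((l₂ (⟨w₀, hw₀⟩ * w) : ℂˣ) : ℂ) * _ = _
    rw [show (MonoidHom.fst H Z₂) ((z₁ : H) * h, ⟨w₀, hw₀⟩ * w) = (z₁ : H) * h from rfl,
      hscal, map_mul, Units.val_mul,
      show (l z : ℂ) = (l₂ ⟨w₀, hw₀⟩ : ℂ) * (l₁ z₁ : ℂ) by
        rw [← Units.val_mul]
        refine congrArg Units.val ?_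
        show l z = l ⟨w₀, hZ₂Z hw₀⟩ * l ⟨h₀, hh₀Z⟩
        rw [← map_mul]
        exact congrArg l (Subtype.ext e.symm)]
    show _ = _ * ((l₂ w : ℂ) * (ξ₀ : H → ℂ) h)
    ring

/-- Invariant constituents above for a coprime solvable operating quotient. -/
theorem exists_inv_cover {Γ : Type u} [Group Γ] [Fintype Γ] (G N : Subgroup Γ) [G.Normal]
    [N.Normal] [Fintype G] [Fintype N] (hNG : N ≤ G) (hcop : G.index.Coprime (N.relIndex G))
    (hsolv : Group.IsSolvable (Γ ⧸ G)) (θ : IrrCharacter N)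
    (hinv : ∀ (x : Γ) (n : N), (θ : N → ℂ) (conjEquivN N x n) = (θ : N → ℂ) n) :
    ∃ χ : IrrCharacter G, classInner (fun n : N => (χ : G → ℂ) ⟨n, hNG n.2⟩) (θ : N → ℂ) ≠ 0 ∧
      ∀ (x : Γ) (g g' : G), (g' : Γ) = x * g * x⁻¹ → (χ : G → ℂ) g' = (χ : G → ℂ) g := by
  classical
  obtain ⟨d, ρ, hρ, hθ⟩ := θ.2
  haveI := hρ
  haveI := Ext.finite_cover N ρ
  haveI := Fintype.ofFinite (Ext.cover N ρ)
  set C := Ext.cover N ρ
  set π := Ext.coverFst N ρ
  have hπ : Function.Surjective π := Ext.coverFst_surjective N ρ (fun g m => by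
    rw [hθ]; exact hinv g m)
  set L := (Ext.coverEmb N ρ).range
  haveI : L.Normal := Ext.embRange_normal N ρ
  let f₀ : C ⧸ L →* Γ ⧸ N := QuotientGroup.lift L ((QuotientGroup.mk' N).comp π) (by
    rintro _ ⟨m, rfl⟩
    exact (QuotientGroup.eq_one_iff _).mpr m.2)
  let f : C ⧸ L →* Γ ⧸ G := QuotientGroup.lift L ((QuotientGroup.mk' G).comp π) (by
    rintro _ ⟨m, rfl⟩
    exact (QuotientGroup.eq_one_iff _).mpr (hNG m.2))
  have hfs : Function.Surjective f := fun y => by
    obtain ⟨g, rfl⟩ := QuotientGroup.mk'_surjective G y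
    obtain ⟨x, rfl⟩ := hπ g
    exact ⟨x, rfl⟩
  have hfidx : f.ker.index = G.index := by
    rw [Subgroup.index_ker, MonoidHom.range_eq_top.mpr hfs, Subgroup.card_top,
      ← Subgroup.index_eq_card]
  let i : π.ker →* C ⧸ L := (QuotientGroup.mk' L).comp π.ker.subtype
  have hi : Function.Injective i := by
    rw [injective_iff_map_eq_one]
    intro z hz
    obtain ⟨m, hm⟩ := (QuotientGroup.eq_one_iff _).mp hz
    have h1 : (m : Γ) = 1 := by
      rw [← Ext.coverFst_emb N ρ m, hm]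
      exact MonoidHom.mem_ker.mp z.2
    refine Subtype.ext (hm.symm.trans ?_)
    rw [show m = 1 from Subtype.ext h1, map_one]
    rfl
  have hker0 : i.range = f₀.ker := by
    refine le_antisymm ?_ ?_
    · rintro _ ⟨z, rfl⟩
      show QuotientGroup.mk' N (π z) = 1
      rw [MonoidHom.mem_ker.mp z.2, map_one]
    · intro y hy
      induction y using QuotientGroup.induction_on with
      | _ x =>
        have hx : π x ∈ N := (QuotientGroup.eq_one_iff _).mp hy
        have hz : x * (Ext.coverEmb N ρ ⟨_, hx⟩)⁻¹ ∈ π.ker := by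
          rw [MonoidHom.mem_ker, map_mul, map_inv, Ext.coverFst_emb]
          exact mul_inv_cancel _
        exact ⟨⟨_, hz⟩, QuotientGroup.eq.mpr ⟨⟨_, hx⟩, by
          show Ext.coverEmb N ρ ⟨_, hx⟩ = (x * (Ext.coverEmb N ρ ⟨_, hx⟩)⁻¹)⁻¹ * x
          rw [mul_inv_rev, inv_inv, mul_assoc, inv_mul_cancel, mul_one]⟩⟩
  have hZc : i.range ≤ Subgroup.center (C ⧸ L) :=
    hker0.trans_le (Ext.ker_lift_central N ρ f₀ fun x => rfl)
  have hZG : i.range ≤ f.ker := by
    rintro _ ⟨z, rfl⟩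
    show QuotientGroup.mk' G (π z) = 1
    rw [MonoidHom.mem_ker.mp z.2, map_one]
  have hrel : i.range.relIndex f.ker = N.relIndex G := by
    have hmap : f.ker.map f₀ = G.map (QuotientGroup.mk' N) := by
      refine le_antisymm ?_ ?_
      · rintro _ ⟨y, hy, rfl⟩
        induction y using QuotientGroup.induction_on with
        | _ x => exact ⟨π x, (QuotientGroup.eq_one_iff _).mp hy, rfl⟩
      · rintro _ ⟨g, hg, rfl⟩
        obtain ⟨x, rfl⟩ := hπ g
        exact ⟨(x : C ⧸ L), (QuotientGroup.eq_one_iff _).mpr hg, rfl⟩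
    rw [hker0, ← MonoidHom.comap_bot, Subgroup.relIndex_comap, hmap, ← Subgroup.relIndex_comap,
      MonoidHom.comap_bot, QuotientGroup.ker_mk']
  haveI : Fintype (C ⧸ L) := Fintype.ofFinite _
  haveI : Fintype f.ker := Fintype.ofFinite _
  obtain ⟨ξ, hξinv, hξl⟩ := central_case f.ker i.range hZc hZG (by rw [hfidx, hrel]; exact hcop)
    (by
      haveI := hsolv
      exact solvable_of_surjective
        (f := (QuotientGroup.quotientKerEquivOfSurjective f hfs).symm.toMonoidHom)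
        (MulEquiv.surjective _))
    ((Ext.scalar N ρ)⁻¹.comp (MonoidHom.ofInjective hi).symm.toMonoidHom)
  -- the character of the preimage
  set E := G.comap π
  haveI : Fintype E := Fintype.ofFinite _
  let emb : N →* E := (Ext.coverEmb N ρ).codRestrict E fun m => hNG m.2
  let R : Representation ℂ E (Fin d → ℂ) := (Ext.coverRep N ρ).comp E.subtype
  haveI : R.IsIrreducible := Ext.isIrr_of_comp N ρ R emb fun m => rfl
  let qE : E →* f.ker := ((QuotientGroup.mk' L).comp E.subtype).codRestrict f.ker fun x =>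
    (QuotientGroup.eq_one_iff _).mpr x.2
  have hqE : Function.Surjective qE := by
    rintro ⟨y, hy⟩
    induction y using QuotientGroup.induction_on with
    | _ x => exact ⟨⟨x, (QuotientGroup.eq_one_iff (π x)).mp (MonoidHom.mem_ker.mp hy)⟩, rfl⟩
  set ψ : E → ℂ := fun x => (ξ : f.ker → ℂ) (qE x)
  have hψ : IsIrrCharacter E ψ := IsIrr.comp_surjective qE hqE ξ.2
  set L' : Subgroup E := L.subgroupOf E
  haveI : Fintype L' := Fintype.ofFinite _
  let eN : N →* L' := emb.codRestrict L' fun m => ⟨m, rfl⟩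
  have heN : Function.Bijective eN := by
    refine ⟨fun a b h => Subtype.ext (congrArg (fun x : L' => π ((x : E) : C)) h :), ?_⟩
    rintro ⟨x, m, hm⟩
    exact ⟨m, Subtype.ext (Subtype.ext hm)⟩
  set θE := R.character
  have hθE : IsIrrCharacter E θE := isIrrCharacter_character R
  have hθL : IsIrrCharacter L' (fun x : L' => θE x) := by
    refine Eq.subst (motive := fun F => IsIrrCharacter L' F) ?_
      (IsIrr.comp_mulEquiv (MulEquiv.ofBijective eN heN).symm (isIrrCharacter_character ρ))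
    funext x
    obtain ⟨m, rfl⟩ := heN.2 x
    rw [show (MulEquiv.ofBijective eN heN).symm (eN m) = m from
      (MulEquiv.ofBijective eN heN).symm_apply_apply m]
    rfl
  have hprod : IsIrrCharacter E (θE * ψ) := by
    refine IsChar.irr_of_norm_one (IsChar.mul (IsIrr.isCharacter hθE) (IsIrr.isCharacter hψ)) ?_
    have e1 : classInner (θE * ψ) (θE * ψ) = classInner (θE * fun g => conj (θE g))
        (ψ * fun g => conj (ψ g)) := by
      simp only [classInner, Pi.mul_apply, map_mul, Complex.conj_conj]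
      congr 1
      exact Finset.sum_congr rfl fun g _ => by ring
    have e2 : avgN L' (ψ * fun g => conj (ψ g)) = ψ * fun g => conj (ψ g) := by
      funext g
      have hq : ∀ n : L', ψ ((n : E) * g) = ψ g := fun n => by
        refine congrArg (ξ : f.ker → ℂ) (Subtype.ext ?_)
        show QuotientGroup.mk' L (((n : E) : C) * g) = QuotientGroup.mk' L g
        rw [map_mul, show QuotientGroup.mk' L ((n : E) : C) = 1 from
          (QuotientGroup.eq_one_iff _).2 n.2, one_mul]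
      simp [avgN, hq]
    rw [e1, ← e2, ← classInner_avgN, avgN_absSq L' hθE hθL]
    have e3 : classInner (fun _ : E => (1 : ℂ)) (ψ * fun g => conj (ψ g)) = classInner ψ ψ := by
      simp only [classInner, Pi.mul_apply, map_mul, Complex.conj_conj]
      congr 1
      exact Finset.sum_congr rfl fun g _ => by ring
    rw [e3, classInner_self_irr hψ]
  let πE : E →* G := (π.comp E.subtype).codRestrict G fun x => x.2
  have hπE : Function.Surjective πE := by
    rintro ⟨g, hg⟩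
    obtain ⟨x, rfl⟩ := hπ g
    exact ⟨⟨x, hg⟩, rfl⟩
  obtain ⟨χ, hχ, hχe⟩ := IsIrr.exists_factor hprod πE hπE fun z hz => by
    have hzk : (z : C) ∈ π.ker := congrArg Subtype.val (MonoidHom.mem_ker.mp hz)
    have hzs := Ext.coverRep_ker N ρ ⟨z, hzk⟩
    have hψz : ψ z = ((Ext.scalar N ρ ⟨z, hzk⟩)⁻¹ : ℂˣ) * ψ 1 := by
      have h := hξl ⟨i ⟨z, hzk⟩, ⟨z, hzk⟩, rfl⟩ 1 (qE z) (mul_one _).symm
      refine h.trans (congrArg₂ _ ?_ (congrArg (ξ : f.ker → ℂ) (map_one qE).symm))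
      show ((((Ext.scalar N ρ)⁻¹) ((MonoidHom.ofInjective hi).symm _) : ℂˣ) : ℂ) = _
      rw [show (MonoidHom.ofInjective hi).symm ⟨i ⟨z, hzk⟩, ⟨z, hzk⟩, rfl⟩ = ⟨(z : C), hzk⟩ from
        (MonoidHom.ofInjective hi).symm_apply_apply _]
      rfl
    simp only [Pi.mul_apply, θE, R, Representation.character, MonoidHom.comp_apply,
      Subgroup.coe_subtype, map_one]
    rw [hzs, map_smul, LinearMap.trace_id, LinearMap.trace_one, hψz, smul_eq_mul, mul_mul_mul_comm,
      Units.mul_inv, one_mul]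
  refine ⟨⟨χ, hχ⟩, ?_, fun x g g' he => ?_⟩
  · have hres : (fun n : N => χ ⟨n, hNG n.2⟩) = ψ 1 • (θ : N → ℂ) := by
      funext n
      rw [show (⟨(n : Γ), hNG n.2⟩ : G) = πE (emb n) from rfl, hχe, Pi.mul_apply,
        show ψ (emb n) = ψ 1 from congrArg (ξ : f.ker → ℂ) (Subtype.ext (by
          show QuotientGroup.mk' L (Ext.coverEmb N ρ n) = _
          rw [map_one, Subgroup.coe_one]
          exact (QuotientGroup.eq_one_iff _).2 ⟨n, rfl⟩)), Pi.smul_apply, smul_eq_mul, ← hθ,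
        mul_comm]
      rfl
    show classInner (fun n : N => χ ⟨n, hNG n.2⟩) (θ : N → ℂ) ≠ 0
    rw [hres, classInner_smul_left, classInner_self_irr θ.2, mul_one]
    exact IsIrr.one_ne_zero hψ
  · obtain ⟨x', rfl⟩ := hπ x
    obtain ⟨y, rfl⟩ := hπE g
    have hy : x' * (y : C) * x'⁻¹ ∈ E := by
      show π _ ∈ G
      rw [map_mul, map_mul, map_inv]
      exact ‹G.Normal›.conj_mem _ y.2 _
    set y' : E := ⟨x' * y * x'⁻¹, hy⟩
    have hg' : g' = πE y' := Subtype.ext (he.trans (by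
      show π x' * π y * (π x')⁻¹ = π (x' * y * x'⁻¹)
      rw [map_mul, map_mul, map_inv]))
    show χ g' = χ (πE y)
    rw [hg', hχe, hχe, Pi.mul_apply, Pi.mul_apply]
    refine congrArg₂ (· * ·) ?_ (hξinv (x' : C ⧸ L) (qE y) (qE y') rfl)
    show (Ext.coverRep N ρ).character (x' * y * x'⁻¹) = _
    rw [Representation.char_conj]
    rfl

end Cfsg.Agent.Char.InvCover
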