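import Cfsg.Agent.Lib.Char.FrobTI
import Cfsg.Agent.Lib.Char.Integral
import Cfsg.Agent.S1487
import Cfsg.Agent.S1528
import Cfsg.Agent.Lib.Block.SchurIndicator

/-!
Characters of a Frobenius group sorted by the normal subgroups in their kernels.
-/

set_option autoImplicit false
set_option linter.unusedSectionVars false

namespace Cfsg.Agent.Char.KerSets

open scoped ComplexConjugate commutatorElement
open Cfsg Cfsg.Agent.Char.FrobTI

universe u

variable {L : Type u} [Group L] [Fintype L]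

/-- The degree as a natural number. -/
noncomputable def dg (f : L → ℂ) : ℕ := ⌊(f 1).re⌋₊

theorem dg_spec {f : L → ℂ} (hf : IsIrrCharacter L f) : f 1 = (dg f : ℂ) := by
  obtain ⟨n, -, hn⟩ := IsIrr.one_eq_pos hf
  rw [dg, hn, Complex.natCast_re, Nat.floor_natCast]

theorem dg_pos {f : L → ℂ} (hf : IsIrrCharacter L f) : 0 < dg f := Nat.pos_of_ne_zero fun h =>
  IsIrr.one_ne_zero hf (by rw [dg_spec hf, h, Nat.cast_zero])

open Classical in
/-- The irreducible characters nonconstant on `A` and constant on `B`. -/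
noncomputable def TT (A B : Subgroup L) : Finset (L → ℂ) :=
  (Finset.univ.filter fun χ : IrrCharacter L =>
    NonTriv A (χ : L → ℂ) ∧ ¬ NonTriv B (χ : L → ℂ)).map
    ⟨Subtype.val, Subtype.val_injective⟩

theorem mem_TT {A B : Subgroup L} {f : L → ℂ} :
    f ∈ TT A B ↔ IsIrrCharacter L f ∧ NonTriv A f ∧ ¬ NonTriv B f := by
  classical
  simp only [TT, Finset.mem_map, Finset.mem_filter, Finset.mem_univ, true_and,
    Function.Embedding.coeFn_mk]
  constructor
  · rintro ⟨χ, h, rfl⟩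
    exact ⟨χ.2, h⟩
  · rintro ⟨h1, h2⟩
    exact ⟨⟨f, h1⟩, h2, rfl⟩

theorem nonTriv_mono {A B : Subgroup L} (h : A ≤ B) {f : L → ℂ} (hf : NonTriv A f) : NonTriv B f := by
  obtain ⟨k, hk, hne⟩ := hf
  exact ⟨k, h hk, hne⟩

theorem not_nonTriv_bot (f : L → ℂ) : ¬ NonTriv (⊥ : Subgroup L) f := by
  rintro ⟨k, hk, hne⟩
  exact hne (by rw [Subgroup.mem_bot.1 hk])

open Classical in
theorem TT_union {A B C : Subgroup L} (hBA : B ≤ A) (hCB : C ≤ B) : TT A C = TT A B ∪ TT B C := by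
  ext f
  simp only [Finset.mem_union, mem_TT]
  constructor
  · rintro ⟨hi, hA, hC⟩
    by_cases hB : NonTriv B f
    · exact Or.inr ⟨hi, hB, hC⟩
    · exact Or.inl ⟨hi, hA, hB⟩
  · rintro (⟨hi, hA, hB⟩ | ⟨hi, hB, hC⟩)
    · exact ⟨hi, hA, fun h => hB (nonTriv_mono hCB h)⟩
    · exact ⟨hi, nonTriv_mono hBA hB, hC⟩

theorem TT_disjoint {A B C : Subgroup L} : Disjoint (TT A B) (TT B C) :=
  Finset.disjoint_left.2 fun _ h1 h2 => (mem_TT.1 h1).2.2 (mem_TT.1 h2).2.1

/-- The squares of the degrees. -/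
theorem sum_sq_TT {A B : Subgroup L} [A.Normal] [B.Normal] (hBA : B ≤ A) :
    ∑ f ∈ TT A B, dg f ^ 2 + A.index = B.index := by
  classical
  have h1 := sum_sq_triv A
  have h2 := sum_sq_triv B
  have hsplit := Finset.sum_filter_add_sum_filter_not
    (Finset.univ.filter fun χ : IrrCharacter L => ¬ NonTriv B (χ : L → ℂ))
    (fun χ : IrrCharacter L => NonTriv A (χ : L → ℂ))
    (fun χ => (χ : L → ℂ) 1 * (χ : L → ℂ) 1)
  rw [h2, Finset.filter_filter, Finset.filter_filter] at hsplit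
  have e2 : (Finset.univ.filter fun χ : IrrCharacter L =>
      ¬ NonTriv B (χ : L → ℂ) ∧ ¬ NonTriv A (χ : L → ℂ)) =
      Finset.univ.filter fun χ : IrrCharacter L => ¬ NonTriv A (χ : L → ℂ) :=
    Finset.filter_congr fun χ _ => ⟨fun h => h.2, fun h => ⟨fun hB => h (nonTriv_mono hBA hB), h⟩⟩
  rw [e2, h1] at hsplit
  have e1 : ((∑ f ∈ TT A B, dg f ^ 2 : ℕ) : ℂ) = ∑ χ ∈ Finset.univ.filter
      (fun χ : IrrCharacter L => ¬ NonTriv B (χ : L → ℂ) ∧ NonTriv A (χ : L → ℂ)),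
      (χ : L → ℂ) 1 * (χ : L → ℂ) 1 := by
    rw [TT, Finset.sum_map, Nat.cast_sum]
    refine Finset.sum_congr (Finset.filter_congr fun χ _ => and_comm) fun χ _ => ?_
    show ((dg (χ : L → ℂ) ^ 2 : ℕ) : ℂ) = _
    rw [dg_spec χ.2]; push_cast; ring
  rw [← e1] at hsplit
  exact_mod_cast hsplit

/-- The regular relation on a normal subgroup. -/
theorem sum_mul_apply {Z : Subgroup L} [Z.Normal] {z : L} (hz : z ∈ Z) (hz1 : z ≠ 1) :
    ∑ f ∈ TT Z ⊥, f 1 * (f 1 - f z) = (Nat.card L : ℂ) := by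
  classical
  have h0 := regular_expansion (G := L) z
  rw [if_neg hz1, ← Finset.sum_filter_add_sum_filter_not Finset.univ
    (fun χ : IrrCharacter L => NonTriv Z (χ : L → ℂ))] at h0
  rw [Finset.sum_congr rfl (s₁ := Finset.univ.filter fun χ : IrrCharacter L => ¬ NonTriv Z (χ : L → ℂ))
    (g := fun χ : IrrCharacter L => (χ : L → ℂ) 1 * (χ : L → ℂ) 1) fun χ hχ => by
      have h := (Finset.mem_filter.1 hχ).2
      simp only [NonTriv, not_exists, not_and, not_not] at h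
      rw [h z hz], sum_sq_triv Z] at h0
  have h2 := sum_sq_nonTriv Z
  rw [TT, Finset.sum_map]
  simp only [Function.Embedding.coeFn_mk, not_nonTriv_bot, not_false_eq_true, and_true, mul_sub,
    Finset.sum_sub_distrib]
  rw [h2]
  linear_combination -h0

/-! ### Frobenius groups -/

variable (K : Subgroup L) [K.Normal]
  (hC : ∀ k ∈ K, k ≠ 1 → Subgroup.centralizer ({k} : Set L) ≤ K)

include hC in
/-- Every member comes from the kernel. -/
theorem exists_src {A B : Subgroup L} [B.Normal] (hAK : A ≤ K) (hBK : B ≤ K) {f : L → ℂ}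
    (hf : f ∈ TT A B) : ∃ (φ : K → ℂ) (n : ℕ), IsIrrCharacter K φ ∧ f = indFun K φ ∧
      (∀ b : K, (b : L) ∈ B → φ b = φ 1) ∧ φ 1 = (n : ℂ) ∧ 0 < n ∧ dg f = K.index * n ∧
      n ∣ Nat.card K := by
  obtain ⟨hi, hA, hB⟩ := mem_TT.1 hf
  obtain ⟨k, hk, hne⟩ := nonTriv_mono hAK hA
  obtain ⟨φ, hφ, he⟩ := Cfsg.Agent.S1528.result K hC f hi ⟨k, hk, hne⟩
  obtain ⟨n, hn, hn'⟩ := IsIrr.one_eq_pos hφ
  simp only [NonTriv, not_exists, not_and, not_not] at hB
  refine ⟨φ, n, hφ, he, ?_, hn', hn, ?_, IsIrr.degree_dvd_card hφ hn'⟩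
  · refine (Cfsg.Agent.S1487.result B K hBK φ hφ).2 fun a ha => ?_
    rw [← he]; exact hB a ha
  · have h := dg_spec hi
    conv_lhs at h => rw [he]
    rw [indFun_one_eq, hn', ← Nat.cast_mul] at h
    exact (Nat.cast_injective h).symm

include hC in
theorem index_dvd_dg {A B : Subgroup L} [B.Normal] (hAK : A ≤ K) (hBK : B ≤ K) {f : L → ℂ}
    (hf : f ∈ TT A B) : K.index ∣ dg f := by
  obtain ⟨φ, n, -, -, -, -, -, h, -⟩ := exists_src K hC hAK hBK hf
  exact ⟨n, h⟩

include hC in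
/-- The bound by a subgroup central modulo the kernel. -/
theorem sq_le_relIndex {A B Zc : Subgroup L} [B.Normal] (hAK : A ≤ K) (hBK : B ≤ K) (hZK : Zc ≤ K)
    (hcen : ∀ z ∈ Zc, ∀ k ∈ K, z * k * z⁻¹ * k⁻¹ ∈ B) {f : L → ℂ} (hf : f ∈ TT A B) :
    ∃ n : ℕ, 0 < n ∧ dg f = K.index * n ∧ n ^ 2 ≤ Zc.relIndex K ∧ n ∣ Nat.card K := by
  classical
  obtain ⟨φ, n, hφ, -, htriv, hn', hn, hdeg, hdvd⟩ := exists_src K hC hAK hBK hf
  refine ⟨n, hn, hdeg, ?_, hdvd⟩
  letI : Fintype K := Fintype.ofFinite _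
  have habs : ∀ z : K, (z : L) ∈ Zc → Complex.normSq (φ z) = (n : ℝ) ^ 2 := by
    intro z hz
    obtain ⟨c, hc, hmul⟩ := IsIrr.exists_scalar hφ (z := z) fun g =>
      htriv _ (by simpa using hcen _ hz _ g.2)
    have h := hmul 1
    rw [mul_one, hn'] at h
    rw [h, Complex.normSq_mul, Complex.normSq_eq_norm_sq, hc, one_pow, one_mul, Complex.normSq_natCast]
    ring
  have hsum : ∑ k : K, Complex.normSq (φ k) = (Nat.card K : ℝ) := by
    have h := classInner_self_irr hφ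
    rw [classInner, inv_mul_eq_iff_eq_mul₀ (Nat.cast_ne_zero.mpr Nat.card_pos.ne'), mul_one] at h
    simp only [Complex.mul_conj] at h
    exact_mod_cast h
  have hle : ((Nat.card (Zc.subgroupOf K) * n ^ 2 : ℕ) : ℝ) ≤ (Nat.card K : ℝ) := by
    rw [← hsum]
    refine le_trans (le_of_eq ?_) (Finset.sum_le_sum_of_subset_of_nonneg
      (Finset.subset_univ (Finset.univ.filter fun k : K => (k : L) ∈ Zc))
      fun _ _ _ => Complex.normSq_nonneg _)
    rw [Finset.sum_congr rfl fun k hk => habs k (Finset.mem_filter.1 hk).2, Finset.sum_const,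
      nsmul_eq_mul, Nat.card_eq_fintype_card, Fintype.card_subtype]
    simp [Subgroup.mem_subgroupOf]
  have hle' : Nat.card (Zc.subgroupOf K) * n ^ 2 ≤ Nat.card K := by exact_mod_cast hle
  rw [← (Zc.subgroupOf K).card_mul_index] at hle'
  exact Nat.le_of_mul_le_mul_left hle' Nat.card_pos

include hC in
theorem index_sq_dvd {A B : Subgroup L} [A.Normal] [B.Normal] (hBA : B ≤ A) (hAK : A ≤ K) :
    ∃ t : ℕ, B.index = A.index + K.index ^ 2 * t := by
  refine ⟨∑ f ∈ TT A B, (dg f / K.index) ^ 2, ?_⟩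
  rw [← sum_sq_TT hBA, Finset.mul_sum, add_comm]
  congr 1
  refine Finset.sum_congr rfl fun f hf => ?_
  rw [← mul_pow, Nat.mul_div_cancel' (index_dvd_dg K hC hAK (hBA.trans hAK) hf)]

include hC in
theorem index_dvd_card_sub_one : K.index ∣ Nat.card K - 1 := by
  obtain ⟨t, ht⟩ := index_sq_dvd K hC (A := K) (B := ⊥) bot_le le_rfl
  rw [Subgroup.index_bot, ← K.card_mul_index] at ht
  refine ⟨t, Nat.eq_of_mul_eq_mul_right (Nat.pos_of_ne_zero Subgroup.index_ne_zero_of_finite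
    : 0 < K.index) ?_⟩
  rw [Nat.sub_mul, one_mul, ht, Nat.add_sub_cancel_left]
  ring

include hC in
theorem coprime_card_index : (Nat.card K).Coprime K.index := by
  obtain ⟨t, ht⟩ := index_dvd_card_sub_one K hC
  refine Nat.coprime_of_dvd fun p hp h1 h2 => ?_
  have h3 : p ∣ Nat.card K - 1 := h2.trans ⟨t, ht⟩
  have := Nat.card_pos (α := K)
  exact hp.not_dvd_one (by simpa [Nat.sub_sub_self this] using Nat.dvd_sub h1 h3)

include hC in
/-- Sections of the kernel have order congruent to one. -/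
theorem index_dvd_relIndex_sub_one {A B : Subgroup L} [A.Normal] [B.Normal] (hBA : B ≤ A)
    (hAK : A ≤ K) : K.index ∣ B.relIndex A - 1 := by
  obtain ⟨t, ht⟩ := index_sq_dvd K hC hBA hAK
  have e1 : B.relIndex A * A.index = B.index := Subgroup.relIndex_mul_index hBA
  have e2 : A.relIndex K * K.index = A.index := Subgroup.relIndex_mul_index hAK
  have h1 : (B.relIndex A - 1) * A.relIndex K = K.index * t := by
    refine Nat.eq_of_mul_eq_mul_right (Nat.pos_of_ne_zero Subgroup.index_ne_zero_of_finite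
      : 0 < K.index) ?_
    rw [mul_assoc, e2, Nat.sub_mul, one_mul, e1, ht, Nat.add_sub_cancel_left]
    ring
  refine (Nat.Coprime.dvd_of_dvd_mul_right ?_ ⟨t, h1⟩)
  exact ((coprime_card_index K hC).symm.coprime_dvd_right
    ((A.subgroupOf K).index_dvd_card))

include hC in
theorem relIndex_ge {A B : Subgroup L} [A.Normal] [B.Normal] (hBA : B < A) (hAK : A ≤ K) :
    K.index + 1 ≤ B.relIndex A := by
  have h1 : B.relIndex A ≠ 1 := fun h => hBA.not_ge (Subgroup.relIndex_eq_one.1 h)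
  have h2 : B.relIndex A ≠ 0 := (B.subgroupOf A).index_ne_zero_of_finite
  have h3 := Nat.le_of_dvd (by omega) (index_dvd_relIndex_sub_one K hC hBA.le hAK)
  omega

theorem conjFun_mem {A B : Subgroup L} {f : L → ℂ} (hf : f ∈ TT A B) : conjFun f ∈ TT A B := by
  obtain ⟨hi, ⟨k, hk, hne⟩, hB⟩ := mem_TT.1 hf
  refine mem_TT.2 ⟨IsIrr.conj hi, ⟨k, hk, fun h => hne ((starRingEnd ℂ).injective h)⟩, ?_⟩
  rintro ⟨b, hb, hne'⟩
  exact hB ⟨b, hb, fun h => hne' (by show conj (f b) = conj (f 1); rw [h])⟩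

theorem conjFun_ne (hodd : Odd (Nat.card L)) {A B : Subgroup L} {f : L → ℂ} (hf : f ∈ TT A B) :
    conjFun f ≠ f := by
  intro h
  obtain ⟨hi, ⟨k, hk, hne⟩, -⟩ := mem_TT.1 hf
  have h1 := Cfsg.Agent.Block.FS.eq_one_of_real_of_odd hodd ⟨f, hi⟩ fun g => congrFun h g
  exact hne (by have := congrFun h1; simp_all)

end Cfsg.Agent.Char.KerSets
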