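import Cfsg.Agent.Lib.Char.CohBasic
import Cfsg.Agent.Lib.Char.KerSets
import Cfsg.Agent.Lib.Transfer.CN.MinSimple
import Cfsg.Agent.Lib.Transfer.MaxAbelianExponent
import Cfsg.Agent.Lib.Grp.Frattini

/-!
Feit's coherence theorem for a Frobenius group with nilpotent kernel.
-/

set_option autoImplicit false
set_option linter.unusedSectionVars false

namespace Cfsg.Agent.Char.KerSets

open scoped ComplexConjugate commutatorElement
open Cfsg Cfsg.Agent.Char.FrobTI Cfsg.Agent.Char.Coh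

universe u v

variable {L : Type u} [Group L] [Fintype L] {G : Type v} [Group G] [Fintype G]
variable (K : Subgroup L) [K.Normal]
  (hC : ∀ k ∈ K, k ≠ 1 → Subgroup.centralizer ({k} : Set L) ≤ K)

theorem commutator_lt [Group.IsNilpotent K] {M : Subgroup L} [M.Normal] (hMK : M ≤ K) (hM : M ≠ ⊥) :
    ⁅M, K⁆ < M := by
  have h := Transfer.MaxAbelianExponent.commutator_lt_of_normal (G := K) (N := M.subgroupOf K)
    fun e => hM (disjoint_self.1 (Disjoint.mono_right hMK (Subgroup.subgroupOf_eq_bot.1 e)))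
  have h2 := (Subgroup.map_lt_map_iff_of_injective K.subtype_injective).2 h
  rwa [Subgroup.map_commutator, Subgroup.map_subgroupOf_eq_of_le hMK, ← MonoidHom.range_eq_map,
    Subgroup.range_subtype] at h2

theorem commutator_relIndex_ne_one [Group.IsNilpotent K] (hK1 : K ≠ ⊥) :
    ⁅K, K⁆ < K := commutator_lt K le_rfl hK1

include hC in
/-- The characters with the derived subgroup in the kernel have degree the index. -/
theorem dg_eq_index {f : L → ℂ} (hf : f ∈ TT K ⁅K, K⁆) : dg f = K.index := by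
  obtain ⟨n, hn, hdeg, hle, -⟩ := sq_le_relIndex K hC le_rfl (Subgroup.commutator_le_left K K)
    (le_refl K) (fun z hz k hk => Subgroup.commutator_mem_commutator hz hk) hf
  rw [Subgroup.relIndex_self] at hle
  have h1 : n = 1 := by nlinarith
  rw [hdeg, h1, mul_one]

include hC in
theorem card_linear : (TT K ⁅K, K⁆).card * K.index + 1 = ⁅K, K⁆.relIndex K := by
  classical
  have h := sum_sq_TT (A := K) (B := ⁅K, K⁆) (Subgroup.commutator_le_left K K)
  rw [Finset.sum_congr rfl fun f hf => by rw [dg_eq_index K hC hf], Finset.sum_const, smul_eq_mul,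
    ← Subgroup.relIndex_mul_index (Subgroup.commutator_le_left K K)] at h
  refine Nat.eq_of_mul_eq_mul_right (Nat.pos_of_ne_zero Subgroup.index_ne_zero_of_finite
    : 0 < K.index) ?_
  rw [← h]; ring

include hC in
/-- One descent step. -/
theorem descent {τ : (L → ℂ) → (G → ℂ)} (hH : Hyp (↑(TT K ⊥) : Set (L → ℂ)) τ) {M B Zc : Subgroup L}
    [M.Normal] [B.Normal] (hM : M ≤ ⁅K, K⁆) (hBM : B ≤ M) (hZK : Zc ≤ K)
    (hcen : ∀ z ∈ Zc, ∀ k ∈ K, z * k * z⁻¹ * k⁻¹ ∈ B)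
    (hnum : 4 * K.index ^ 2 * Zc.relIndex K < (M.relIndex K - 1) ^ 2)
    (hne : (TT K ⁅K, K⁆).Nonempty)
    (hcoh : IsCoherent (↑(TT K M) : Set (L → ℂ)) {1}ᶜ τ) :
    IsCoherent (↑(TT K B) : Set (L → ℂ)) {1}ᶜ τ := by
  classical
  have hK' : (⁅K, K⁆ : Subgroup L) ≤ K := Subgroup.commutator_le_left K K
  have hMK : M ≤ K := hM.trans hK'
  rw [TT_union hMK hBM, Finset.coe_union]
  obtain ⟨ψ, hψ⟩ := hne
  have hψM : ψ ∈ TT K M := by rw [TT_union hK' hM]; exact Finset.mem_union_left _ hψ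
  refine extend_many (TT K M) dg hψM hcoh _ TT_disjoint (hH.mono ?_)
    (fun ξ hξ => dg_spec (mem_TT.1 hξ).1) (fun ξ hξ => dg_spec (mem_TT.1 hξ).1) fun χ hχ => ?_
  · rw [← Finset.coe_union, ← TT_union hMK hBM]
    intro f hf
    obtain ⟨h1, h2, -⟩ := mem_TT.1 hf
    exact mem_TT.2 ⟨h1, h2, not_nonTriv_bot f⟩
  obtain ⟨n, hn, hdeg, hle, -⟩ := sq_le_relIndex K hC hMK (hBM.trans hMK) hZK hcen hχ
  rw [dg_eq_index K hC hψ, hdeg]
  refine ⟨⟨n, rfl⟩, ?_⟩
  have hsum := sum_sq_TT (A := K) (B := M) hMK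
  rw [← Subgroup.relIndex_mul_index hMK] at hsum
  have hc : 1 ≤ M.relIndex K := Nat.one_le_iff_ne_zero.2 (M.subgroupOf K).index_ne_zero_of_finite
  have h1 : 2 * (K.index * n) < M.relIndex K - 1 := by
    refine lt_of_pow_lt_pow_left₀ 2 (Nat.zero_le _) (lt_of_le_of_lt ?_ hnum)
    have : K.index ^ 2 * n ^ 2 ≤ K.index ^ 2 * Zc.relIndex K := Nat.mul_le_mul_left _ hle
    nlinarith
  have he : 0 < K.index := Nat.pos_of_ne_zero Subgroup.index_ne_zero_of_finite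
  have h2 : ∑ f ∈ TT K M, dg f ^ 2 = K.index * (M.relIndex K - 1) := by
    rw [Nat.mul_sub, mul_one, Nat.mul_comm K.index]
    omega
  rw [h2]
  calc 2 * K.index * (K.index * n) = K.index * (2 * (K.index * n)) := by ring
    _ < _ := Nat.mul_lt_mul_of_pos_left h1 he

include hC in
/-- The centre of the section strictly contains the bottom unless a single prime occurs. -/
theorem exists_larger_center [Group.IsNilpotent K] {M : Subgroup L} [M.Normal]
    (hM : M ≤ ⁅K, K⁆) (hM1 : M ≠ ⊥) (hnp : ¬ ∃ p : ℕ, p.Prime ∧ IsPGroup p K) :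
    ∃ B Zc : Subgroup L, B.Normal ∧ Zc.Normal ∧ B < M ∧ M < Zc ∧ Zc < K ∧
      ∀ z ∈ Zc, ∀ k ∈ K, z * k * z⁻¹ * k⁻¹ ∈ B := by
  classical
  have hMK : M ≤ K := hM.trans (Subgroup.commutator_le_left K K)
  obtain ⟨B, ⟨hBn, hBge, hBlt⟩, hBmax⟩ := (Set.toFinite
    {B : Subgroup L | B.Normal ∧ ⁅M, K⁆ ≤ B ∧ B < M}).exists_maximal
    ⟨⁅M, K⁆, inferInstance, le_rfl, commutator_lt K hMK hM1⟩
  haveI := hBn
  set π := QuotientGroup.mk' B with hπ
  set Mb := M.map π with hMb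
  set Kb := K.map π with hKb
  have hker : ∀ x, π x = 1 ↔ x ∈ B := fun x => QuotientGroup.eq_one_iff x
  have hcomm : ∀ m ∈ M, ∀ k ∈ K, π m * π k = π k * π m := fun m hm k hk =>
    commutatorElement_eq_one_iff_mul_comm.1 (by
      rw [← map_commutatorElement, hker]
      exact hBge (Subgroup.commutator_mem_commutator hm hk))
  haveI : Mb.Normal := Subgroup.Normal.map inferInstance π (QuotientGroup.mk'_surjective B)
  haveI : Kb.Normal := Subgroup.Normal.map inferInstance π (QuotientGroup.mk'_surjective B)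
  -- a prime of the bottom section
  obtain ⟨m, hm, hmB⟩ := SetLike.exists_of_lt hBlt
  have hMbne : Mb ≠ ⊥ := fun h => hmB ((hker m).1 (Subgroup.mem_bot.1 (h ▸ ⟨m, hm, rfl⟩)))
  obtain ⟨r, hr, hrd⟩ := Nat.exists_prime_and_dvd fun h => hMbne (Subgroup.card_eq_one.1 h)
  haveI := Fact.mk hr
  have hMbcomm : ∀ a ∈ Mb, ∀ b ∈ Mb, a * b = b * a := by
    rintro _ ⟨a, ha, rfl⟩ _ ⟨b, hb, rfl⟩
    exact hcomm a ha b (hMK hb)
  let Ω : Subgroup (L ⧸ B) :=
    { carrier := {x | x ∈ Mb ∧ x ^ r = 1}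
      one_mem' := ⟨Mb.one_mem, one_pow r⟩
      mul_mem' := fun {a b} ha hb => ⟨Mb.mul_mem ha.1 hb.1, by
        rw [Commute.mul_pow (hMbcomm a ha.1 b hb.1), ha.2, hb.2, one_mul]⟩
      inv_mem' := fun {a} ha => ⟨Mb.inv_mem ha.1, by rw [inv_pow, ha.2, inv_one]⟩ }
  have hexp : ∀ x ∈ Mb, x ^ r = 1 := by
    haveI : Ω.Normal := ⟨fun x hx g => ⟨(inferInstance : Mb.Normal).conj_mem x hx.1 g,
      by rw [conj_pow, hx.2, mul_one, mul_inv_cancel]⟩⟩
    obtain ⟨z, hz⟩ := exists_prime_orderOf_dvd_card' (G := Mb) r hrd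
    have hzΩ : ((z : L ⧸ B)) ∈ Ω := ⟨z.2, by
      rw [← SubmonoidClass.coe_pow, ← hz, pow_orderOf_eq_one, OneMemClass.coe_one]⟩
    set B' := Ω.comap π with hB'
    have hBB' : B ≤ B' := fun x hx => by
      show π x ∈ Ω
      rw [(hker x).2 hx]; exact Ω.one_mem
    have hB'M : B' ≤ M := fun x hx => by
      obtain ⟨y, hy, hyx⟩ := (hx : π x ∈ Ω).1
      have : y⁻¹ * x ∈ B := (QuotientGroup.eq).1 hyx
      simpa using M.mul_mem hy (hBlt.le this)
    have hne : ¬ B' ≤ B := fun h => by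
      obtain ⟨y, hy⟩ := QuotientGroup.mk'_surjective B (z : L ⧸ B)
      have hy' : y ∈ B' := by
        show π y ∈ Ω
        rw [hπ, hy]; exact hzΩ
      have h1 : (z : L ⧸ B) = 1 := by rw [← hy]; exact (hker y).2 (h hy')
      rw [Subtype.ext (a2 := (1 : Mb)) h1, orderOf_one] at hz
      exact hr.one_lt.ne hz
    have hB'n : B'.Normal := Subgroup.Normal.comap inferInstance π
    intro x hx
    obtain ⟨y, hy, rfl⟩ := hx
    rcases eq_or_lt_of_le hB'M with h | h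
    · exact ((h ▸ hy : y ∈ B') : π y ∈ Ω).2
    · exact absurd (hBmax ⟨hB'n, hBge.trans hBB', h⟩ hBB') hne
  -- another prime
  obtain ⟨q, hq, hqr, hqK⟩ : ∃ q : ℕ, q.Prime ∧ q ≠ r ∧ q ∣ Nat.card K := by
    by_contra h
    push Not at h
    exact hnp ⟨r, hr, IsPGroup.iff_card.2 ⟨_, Nat.eq_prime_pow_of_unique_prime_dvd Nat.card_pos.ne'
      fun {d} hd hdK => by_contra fun hne => h d hd hne hdK⟩⟩
  haveI := Fact.mk hq
  obtain ⟨Q⟩ : Nonempty (Sylow q K) := inferInstance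
  have hQK' : ¬ (Q : Subgroup K) ≤ commutator K := fun h =>
    Q.ne_bot_of_dvd_card hqK (Transfer.CN.sylow_eq_bot_of_le_commutator Q h)
  obtain ⟨x, hxQ, hxK'⟩ := SetLike.not_le_iff_exists.1 hQK'
  obtain ⟨i, hi⟩ := IsPGroup.iff_orderOf.1 Q.isPGroup' ⟨x, hxQ⟩
  rw [Subgroup.orderOf_mk] at hi
  have hxB : π (x : L) ≠ 1 := fun h => hxK' (by
    have h1 : (x : L) ∈ ⁅K, K⁆ := (hBlt.le.trans hM) ((hker _).1 h)
    rw [← Subgroup.map_subtype_commutator] at h1
    obtain ⟨y, hy, hyx⟩ := h1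
    rwa [Subtype.ext hyx] at hy)
  have hqKb : q ∣ Nat.card Kb := by
    have h1 : orderOf (π (x : L)) ∣ q ^ i := by
      rw [← hi, ← Subgroup.orderOf_coe]; exact orderOf_map_dvd π _
    obtain ⟨j, -, hj⟩ := (Nat.dvd_prime_pow hq).1 h1
    refine dvd_trans ?_ (Kb.orderOf_dvd_natCard (Subgroup.mem_map_of_mem π x.2))
    rw [hj]
    refine dvd_pow_self q fun h0 => hxB ?_
    rw [← orderOf_eq_one_iff, hj, h0, pow_zero]
  haveI : Group.IsNilpotent Kb :=
    Group.nilpotent_of_surjective (π.subgroupMap K) (π.subgroupMap_surjective K)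
  obtain ⟨R⟩ : Nonempty (Sylow q Kb) := inferInstance
  haveI : (R : Subgroup Kb).Normal :=
    Sylow.normal_of_normalizerCondition Group.normalizerCondition_of_isNilpotent R
  obtain ⟨z, ⟨hzR, hzc⟩, hz1⟩ := (Subgroup.bot_or_exists_ne_one _).resolve_left
    (Grp.inf_center_ne_bot (R : Subgroup Kb) (R.ne_bot_of_dvd_card hqKb))
  have hzM : (z : L ⧸ B) ∉ Mb := fun h => by
    obtain ⟨j, hj⟩ := IsPGroup.iff_orderOf.1 R.isPGroup' ⟨z, hzR⟩
    rw [Subgroup.orderOf_mk] at hj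
    have h2 : orderOf z ∣ r := by
      rw [← Subgroup.orderOf_coe]; exact orderOf_dvd_of_pow_eq_one (hexp _ h)
    rcases (Nat.dvd_prime hr).1 h2 with h3 | h3
    · exact hz1 (orderOf_eq_one_iff.1 h3)
    · rw [h3] at hj
      exact hqr (((Nat.prime_dvd_prime_iff_eq hr hq).1 (hr.dvd_of_dvd_pow (dvd_of_eq hj))).symm)
  set Zc := K ⊓ (Subgroup.centralizer (Kb : Set (L ⧸ B))).comap π with hZc
  have hcen : ∀ z ∈ Zc, ∀ k ∈ K, z * k * z⁻¹ * k⁻¹ ∈ B := fun z hz k hk => by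
    rw [← hker, map_mul, map_mul, map_mul, map_inv, map_inv,
      ← Subgroup.mem_centralizer_iff.1 hz.2 _ (Subgroup.mem_map_of_mem π hk)]
    group
  have hZn : Zc.Normal := by
    haveI : ((Subgroup.centralizer (Kb : Set (L ⧸ B))).comap π).Normal :=
      Subgroup.Normal.comap Subgroup.normal_centralizer π
    exact Subgroup.normal_inf_normal _ _
  refine ⟨B, Zc, hBn, hZn, hBlt, ?_, ?_, hcen⟩
  · refine lt_of_le_of_ne (fun m hm => ⟨hMK hm, ?_⟩) fun e => ?_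
    · refine Subgroup.mem_centralizer_iff.2 ?_
      rintro _ ⟨k, hk, rfl⟩
      exact (hcomm m hm k hk).symm
    · obtain ⟨y, hy, hyz⟩ := z.2
      refine hzM ?_
      rw [← hyz]
      refine Subgroup.mem_map_of_mem π ?_
      rw [e]
      refine ⟨hy, Subgroup.mem_centralizer_iff.2 fun w hw => ?_⟩
      rw [hyz]
      exact congrArg Subtype.val (Subgroup.mem_center_iff.1 hzc ⟨w, hw⟩)
  · refine lt_of_le_of_ne inf_le_left fun e => hBlt.not_ge (hM.trans ?_)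
    rw [Subgroup.commutator_le]
    intro a ha b hb
    rw [commutatorElement_def]
    exact hcen a (e.symm ▸ ha) b hb

include hC in
/-- Feit's theorem. -/
theorem feit [Group.IsNilpotent K] (hK1 : K ≠ ⊥) (hKtop : K ≠ ⊤) {τ : (L → ℂ) → (G → ℂ)}
    (hH : Hyp (↑(TT K ⊥) : Set (L → ℂ)) τ) :
    IsCoherent (↑(TT K ⊥) : Set (L → ℂ)) {1}ᶜ τ ∨
    (∃ p : ℕ, p.Prime ∧ IsPGroup p K ∧ (⁅K, K⁆ : Subgroup L) ≠ ⊥ ∧
      ⁅K, K⁆.relIndex K ≤ 4 * K.index ^ 2 + 1) ∨
    ((⁅K, K⁆ : Subgroup L) = ⊥ ∧ Nat.card K = K.index + 1) := by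
  classical
  by_cases hfail : ∃ p : ℕ, p.Prime ∧ IsPGroup p K ∧ (⁅K, K⁆ : Subgroup L) ≠ ⊥ ∧
      ⁅K, K⁆.relIndex K ≤ 4 * K.index ^ 2 + 1
  · exact Or.inr (Or.inl hfail)
  have hK' : (⁅K, K⁆ : Subgroup L) < K := commutator_lt K le_rfl hK1
  have he2 : 2 ≤ K.index := by
    have := Subgroup.index_ne_zero_of_finite (H := K)
    have : K.index ≠ 1 := fun h => hKtop (Subgroup.index_eq_one.1 h)
    omega
  have hlin := card_linear K hC
  have hge := relIndex_ge K hC hK' le_rfl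
  by_cases hone : (TT K ⁅K, K⁆).card = 1
  · rw [hone, one_mul] at hlin
    by_cases hbot : (⁅K, K⁆ : Subgroup L) = ⊥
    · refine Or.inr (Or.inr ⟨hbot, ?_⟩)
      rw [← Subgroup.relIndex_bot_left, ← hbot, ← hlin]
    -- a nonabelian kernel with the smallest abelianization is a group of prime power order
    exfalso
    have hnp : ¬ ∃ p : ℕ, p.Prime ∧ IsPGroup p K := fun ⟨p, hp, hpK⟩ =>
      hfail ⟨p, hp, hpK, hbot, by rw [← hlin]; nlinarith⟩
    obtain ⟨B, Zc, hBn, hZn, -, hlt1, hlt2, -⟩ := exists_larger_center K hC le_rfl hbot hnp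
    have h1 := relIndex_ge K hC hlt1 hlt2.le
    have h2 := relIndex_ge K hC hlt2 le_rfl
    have h3 := Subgroup.relIndex_mul_relIndex ⁅K, K⁆ Zc K hlt1.le hlt2.le
    rw [← hlin] at h3
    nlinarith
  left
  have htwo : 2 ≤ (TT K ⁅K, K⁆).card := by
    by_contra h
    have h0 : (TT K ⁅K, K⁆).card = 0 := by omega
    rw [h0, zero_mul, zero_add] at hlin
    omega
  obtain ⟨a, ha, b, hb, hab⟩ := Finset.one_lt_card.1 htwo
  have hsub : ∀ M : Subgroup L, M ≤ K → (↑(TT K M) : Set (L → ℂ)) ⊆ ↑(TT K ⊥) := fun M _ f hf => by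
    obtain ⟨h1, h2, -⟩ := mem_TT.1 hf
    exact mem_TT.2 ⟨h1, h2, not_nonTriv_bot f⟩
  have hbase := equal_degree_irr (TT K ⁅K, K⁆) (hH.mono (hsub _ hK'.le)) (d := K.index)
    (fun f hf => by rw [dg_spec (mem_TT.1 hf).1, dg_eq_index K hC hf]) ⟨a, ha, b, hb, hab⟩
  obtain ⟨M, ⟨hMn, hMle, hMcoh⟩, hMmin⟩ := (Set.toFinite {M : Subgroup L | M.Normal ∧ M ≤ ⁅K, K⁆ ∧
    IsCoherent (↑(TT K M) : Set (L → ℂ)) {1}ᶜ τ}).exists_minimal
      ⟨⁅K, K⁆, inferInstance, le_rfl, hbase⟩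
  haveI := hMn
  by_cases hM1 : M = ⊥
  · exact hM1 ▸ hMcoh
  exfalso
  have hK1' : (⁅K, K⁆ : Subgroup L) ≠ ⊥ := fun h => hM1 (le_bot_iff.1 (hMle.trans h.le))
  have hMK : M ≤ K := hMle.trans hK'.le
  have hcle : ⁅K, K⁆.relIndex K ≤ M.relIndex K :=
    Nat.le_of_dvd (Nat.pos_of_ne_zero (M.subgroupOf K).index_ne_zero_of_finite)
      (Subgroup.relIndex_dvd_of_le_left K hMle)
  obtain ⟨B, Zc, hBn, hBM, hZK, hcen, hnum⟩ : ∃ B Zc : Subgroup L, B.Normal ∧ B < M ∧ Zc ≤ K ∧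
      (∀ z ∈ Zc, ∀ k ∈ K, z * k * z⁻¹ * k⁻¹ ∈ B) ∧
      4 * K.index ^ 2 * Zc.relIndex K < (M.relIndex K - 1) ^ 2 := by
    by_cases hp : ∃ p : ℕ, p.Prime ∧ IsPGroup p K
    · obtain ⟨p, hp1, hp2⟩ := hp
      have hbig : 4 * K.index ^ 2 + 1 < ⁅K, K⁆.relIndex K := by
        by_contra h
        exact hfail ⟨p, hp1, hp2, hK1', not_lt.1 h⟩
      refine ⟨⁅M, K⁆, M, inferInstance, commutator_lt K hMK hM1, hMK, fun z hz k hk => by
        rw [← commutatorElement_def]; exact Subgroup.commutator_mem_commutator hz hk, ?_⟩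
      obtain ⟨k, hk⟩ : ∃ k, M.relIndex K = 4 * K.index ^ 2 + 2 + k :=
        Nat.exists_eq_add_of_le (by omega)
      rw [hk, show 4 * K.index ^ 2 + 2 + k - 1 = 4 * K.index ^ 2 + 1 + k by omega]
      nlinarith
    · obtain ⟨B, Zc, hBn, hZn, hBM, hlt1, hlt2, hcen⟩ := exists_larger_center K hC hMle hM1 hp
      haveI := hBn
      haveI := hZn
      refine ⟨B, Zc, hBn, hBM, hlt2.le, hcen, ?_⟩
      have h1 := relIndex_ge K hC hlt1 hlt2.le
      have h2 := relIndex_ge K hC hlt2 le_rfl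
      rw [← Subgroup.relIndex_mul_relIndex M Zc K hlt1.le hlt2.le]
      set e := K.index
      set x := M.relIndex Zc
      set d := Zc.relIndex K
      have hc2 : (e + 1) ^ 2 ≤ x * d := by rw [pow_two]; exact Nat.mul_le_mul h1 h2
      obtain ⟨c, hc⟩ : ∃ c, x * d = c + 2 := Nat.exists_eq_add_of_le' (by nlinarith)
      rw [hc, show c + 2 - 1 = c + 1 by omega]
      have h3 : 4 * e ^ 2 < (e + 1) * c := by nlinarith [Nat.mul_le_mul_left e (Nat.mul_le_mul he2 he2)]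
      have h4 : 4 * e ^ 2 * d < (e + 1) * d * c := by
        have := Nat.mul_lt_mul_of_pos_right h3 (show 0 < d by omega)
        nlinarith
      have h5 : (e + 1) * d * c ≤ (c + 2) * c := by
        rw [← hc]
        exact Nat.mul_le_mul_right c (Nat.mul_le_mul_right d h1)
      nlinarith
  haveI := hBn
  refine hBM.not_ge (hMmin ⟨hBn, hBM.le.trans hMle,
    descent K hC hH hMle hBM.le hZK hcen hnum ⟨a, ha⟩ hMcoh⟩ hBM.le)

end Cfsg.Agent.Char.KerSets
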