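import Cfsg.Agent.Lib.Char.StarGen
import Cfsg.Agent.Lib.Char.BrauerInduction
import Cfsg.Agent.Lib.Char.Integral

/-!
The twist of a character by weights on the sections of the group is a generalized character: it is
one on every elementary subgroup.
-/

open scoped ComplexConjugate

namespace Cfsg.Agent.Char.Star

open Cfsg.Agent.Block Cfsg.Agent.Char Cfsg.Agent.Char.BP Cfsg.Agent.Char.Spec

set_option linter.unusedSectionVars false
set_option linter.style.haveILetI false
set_option maxHeartbeats 1000000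

universe u

/-- In a finite nilpotent group elements of coprime orders commute. -/
theorem commute_of_coprime_order {E : Type u} [Group E] [Finite E] (hE : Group.IsNilpotent E)
    {x y : E} (h : (orderOf x).Coprime (orderOf y)) : x * y = y * x := by
  obtain ⟨e⟩ := (Group.isNilpotent_of_finite_tfae.out 0 4).1 hE
  have key : e.symm x * e.symm y = e.symm y * e.symm x := by
    funext r P
    rcases r with ⟨r, hr⟩
    haveI : Fact r.Prime := ⟨Nat.prime_of_mem_primeFactors hr⟩
    have ho : ∀ z : E, orderOf (e.symm z ⟨r, hr⟩ P) ∣ orderOf z := fun z => by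
      refine orderOf_dvd_of_pow_eq_one ?_
      have h1 := congrFun (congrFun (congrArg e.symm (pow_orderOf_eq_one z)) ⟨r, hr⟩) P
      rwa [map_pow, map_one, Pi.pow_apply, Pi.pow_apply, Pi.one_apply, Pi.one_apply] at h1
    obtain ⟨a, ha⟩ := IsPGroup.iff_orderOf.1 P.isPGroup' (e.symm x ⟨r, hr⟩ P)
    obtain ⟨b, hb⟩ := IsPGroup.iff_orderOf.1 P.isPGroup' (e.symm y ⟨r, hr⟩ P)
    have hcop := (h.coprime_dvd_left (ho x)).coprime_dvd_right (ho y)
    rw [ha, hb] at hcop
    simp only [Pi.mul_apply]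
    rcases Nat.eq_zero_or_pos a with rfl | ha0
    · rw [pow_zero, orderOf_eq_one_iff] at ha
      rw [ha, one_mul, mul_one]
    rcases Nat.eq_zero_or_pos b with rfl | hb0
    · rw [pow_zero, orderOf_eq_one_iff] at hb
      rw [hb, one_mul, mul_one]
    exact absurd hcop (Nat.Prime.not_coprime_iff_dvd.2
      ⟨r, Fact.out, dvd_pow_self r ha0.ne', dvd_pow_self r hb0.ne'⟩)
  exact e.symm.injective (by rw [map_mul, map_mul, key])

variable {G : Type u} [Group G] [Fintype G] [DecidableEq G] {p : ℕ} [Fact p.Prime]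
  {M : Ideal AlgInt} {w : G → BrauerPairIdx G → ℂ} {χ : G → ℂ}

local notation "sgl" => fun g : G => MonoidAlgebra.single g (1 : ℂ)

/-- The `p`-part of an element. -/
noncomputable def ppt (p : ℕ) [Fact p.Prime] (g : G) : G := (exists_pPart_zpowers (p := p) g).choose

/-- The twisted function. -/
noncomputable def star (p : ℕ) [Fact p.Prime] (M : Ideal AlgInt) (w : G → BrauerPairIdx G → ℂ)
    (χ : G → ℂ) (g : G) : ℂ :=
  ∑ a ∈ prs p M (ppt p g), w (ppt p g) a * sct χ a (ppt p g) ((ppt p g)⁻¹ * g)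

theorem ppt_eq {u v : G} (hc : Commute u v) (hu : ∃ k, orderOf u = p ^ k)
    (hv : ¬ p ∣ orderOf v) : ppt p (u * v) = u := by
  obtain ⟨v', h1, h2, h3, h4, -, -⟩ := (exists_pPart_zpowers (p := p) (u * v)).choose_spec
  exact pPart_unique (⟨v', h1, h2, h3, h4⟩ : IsPPart p (u * v) _)
    (⟨v, rfl, hc, hu, hv⟩ : IsPPart p (u * v) u)

theorem star_eq {u v : G} (hc : Commute u v) (hu : ∃ k, orderOf u = p ^ k)
    (hv : ¬ p ∣ orderOf v) :
    star p M w χ (u * v) = ∑ a ∈ prs p M u, w u a * sct χ a u v := by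
  rw [star, ppt_eq hc hu hv, inv_mul_cancel_left]

theorem exists_split (g : G) : ∃ u v : G, g = u * v ∧ Commute u v ∧
    (∃ k, orderOf u = p ^ k) ∧ ¬ p ∣ orderOf v := by
  obtain ⟨u, v, h1, h2, h3, h4, -, -⟩ := exists_pPart_zpowers (p := p) g
  exact ⟨u, v, h1.symm, h2, h3, h4⟩

theorem star_classFun (hM : IsPModular p M) (hcl : IsClassFunction G χ) (hw : WConj p M w) :
    IsClassFunction G (star p M w χ) := by
  intro g h
  obtain ⟨u, v, rfl, hc, hu, hv⟩ := exists_split (p := p) g
  have hu' : ∃ k, orderOf (h * u * h⁻¹) = p ^ k := by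
    obtain ⟨k, hk⟩ := hu
    exact ⟨k, by rw [← MulAut.conj_apply, MulEquiv.orderOf_eq, hk]⟩
  have hv' : ¬ p ∣ orderOf (h * v * h⁻¹) := by rwa [← MulAut.conj_apply, MulEquiv.orderOf_eq]
  have hc' : Commute (h * u * h⁻¹) (h * v * h⁻¹) := hc.map (MulAut.conj h).toMonoidHom
  rw [show h * (u * v) * h⁻¹ = h * u * h⁻¹ * (h * v * h⁻¹) by group, star_eq hc' hu' hv',
    star_eq hc hu hv]
  symm
  refine Finset.sum_bij (fun a _ => cjI h a) (fun a ha => ?_)
    (fun a _ b _ he => by rw [← cjI_inv_cancel h a, he, cjI_inv_cancel]) (fun b hb => ?_)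
    fun a ha => ?_
  · obtain ⟨h1, h2⟩ := mem_prs.1 ha
    exact mem_prs.2 ⟨by rw [← zpowers_map_conj, ← h1]; rfl, isPr_cjI hM h h2⟩
  · obtain ⟨h1, h2⟩ := mem_prs.1 hb
    refine ⟨cjI h⁻¹ b, mem_prs.2 ⟨?_, isPr_cjI hM _ h2⟩, cjI_cancel_inv h b⟩
    show b.1.map (MulAut.conj h⁻¹).toMonoidHom = _
    rw [h1, zpowers_map_conj]
    congr 1
    group
  · obtain ⟨h1, h2⟩ := mem_prs.1 ha
    rw [hw h u a hu h1 h2, sct_conj hcl]

/-- The central idempotent of an irreducible character of a subgroup, in the group algebra. -/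
noncomputable def eps (R : Subgroup G) [Fintype R] (ψ : IrrCharacter R) : MonoidAlgebra ℂ G :=
  algOf R.subtype (blockCoeff ({ψ} : Set (IrrCharacter R)))

theorem blockCoeff_singleton {H : Type u} [Group H] [Fintype H] (ψ : IrrCharacter H) (h : H) :
    blockCoeff ({ψ} : Set (IrrCharacter H)) h =
      (Nat.card H : ℂ)⁻¹ * ((ψ : H → ℂ) 1 * conj ((ψ : H → ℂ) h)) := by
  rw [blockCoeff, finsum_mem_singleton]

theorem eps_ring (hM : IsPModular p M) (R : Subgroup G) [Fintype R] (hR : ¬ p ∣ Nat.card R)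
    (ψ : IrrCharacter R) : AlgRing M (eps R ψ) :=
  AlgRing.algOf hM _ fun h => by
    rw [blockCoeff_singleton]
    refine ring_mul hM (ring_inv_natCast hM hR) (ring_of_integral hM ?_)
    exact (IsChar.isIntegral (irr_isChar ψ) 1).mul
      (IsChar.apply_inv (irr_isChar ψ) h ▸ IsChar.isIntegral (irr_isChar ψ) h⁻¹)

theorem eps_idem (R : Subgroup G) [Fintype R] (ψ : IrrCharacter R) :
    eps R ψ * eps R ψ = eps R ψ := by
  rw [eps, ← algOf_convFun, convFun_blockCoeff]

theorem theta_eps (hM : IsPModular p M) (hcl : IsClassFunction G χ) {R : Subgroup G} [Fintype R]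
    (hR : ¬ p ∣ Nat.card R) {u : G} (hu : ∃ k, orderOf u = p ^ k)
    (hcomm : ∀ r ∈ R, Commute u r) (ψ : IrrCharacter R) :
    theta p M w χ (eps R ψ) u =
      (ψ : R → ℂ) 1 * classInner (fun r : R => star p M w χ (u * r)) (ψ : R → ℂ) := by
  have hεf : Fx M (Subgroup.zpowers u) (eps R ψ) := ⟨eps_ring hM R hR ψ, fun z hz => by
    rw [eps, algOf]
    refine Commute.sum_right _ _ _ fun r _ => ?_
    obtain ⟨n, rfl⟩ := Subgroup.mem_zpowers_iff.1 hz
    simp only [Commute, SemiconjBy, MonoidAlgebra.single_mul_single, Subgroup.subtype_apply,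
      one_mul, mul_one, ((hcomm r r.2).zpow_left n).eq]⟩
  have hreg : ∀ r : R, ¬ p ∣ orderOf (r : G) := fun r hd =>
    hR ((hd.trans (by rw [Subgroup.orderOf_coe])).trans (orderOf_dvd_natCard r))
  have hterm : ∀ a ∈ prs p M u, rho M χ u (eps R ψ * pz a) =
      ∑ r : R, blockCoeff ({ψ} : Set (IrrCharacter R)) r * sct χ a u (r : G) := by
    intro a ha
    obtain ⟨h1, h2⟩ := mem_prs.1 ha
    have hrC : ∀ r : R, (r : G) ∈ CG a.1 := fun r => by
      rw [h1, cg_zpowers]
      exact Subgroup.mem_centralizer_singleton_iff.2 (hcomm r r.2).symm.eq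
    have hcz : ∀ r : R, Commute (sgl (r : G)) (pz a) := fun r =>
      Spec.comm_single_iff.2 fun x => by rw [pz_coeff, pz_coeff]; exact be_inv_cg a _ (hrC r) x
    have hc : Commute (eps R ψ) (pz a) := by
      rw [eps, algOf]
      refine Commute.sum_left _ _ _ fun r _ => ?_
      have e : MonoidAlgebra.single (R.subtype r) (blockCoeff ({ψ} : Set (IrrCharacter R)) r) =
          blockCoeff ({ψ} : Set (IrrCharacter R)) r • sgl (r : G) := by
        rw [MonoidAlgebra.smul_single, smul_eq_mul, mul_one]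
        rfl
      rw [e]
      exact (hcz r).smul_left _
    have hz : Fx M (Subgroup.zpowers u) (pz a) := h1 ▸ pz_fx_self hM h2
    rw [rho_eq hM hcl hu (hεf.mul hM hz) (by
      calc eps R ψ * pz a * (eps R ψ * pz a) = eps R ψ * (pz a * eps R ψ) * pz a := by
            simp only [mul_assoc]
        _ = eps R ψ * eps R ψ * (pz a * pz a) := by rw [← hc.eq]; simp only [mul_assoc]
        _ = _ := by rw [eps_idem, pz_idem hM h2]) (BrEq.refl hM _)]
    conv_lhs => rw [eps, algOf, Finset.sum_mul, Finset.mul_sum, ev_sum]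
    refine Finset.sum_congr rfl fun r _ => ?_
    rw [← mul_assoc, MonoidAlgebra.single_mul_single, one_mul, sct]
    simp only [ev, MonoidAlgebra.coeff_single_mul_apply, pz_coeff, Subgroup.subtype_apply]
    rw [Finset.mul_sum]
    refine Fintype.sum_equiv (Equiv.mulLeft (u * (r : G))⁻¹) _ _ fun k => ?_
    simp only [Equiv.coe_mulLeft]
    set s := (u * (r : G))⁻¹ * k with hs
    have hk : k = u * (r : G) * s := by rw [hs, mul_inv_cancel_left]
    rw [hk, show u * s * (r : G) = (r : G)⁻¹ * (u * (r : G) * s) * (r : G)⁻¹⁻¹ by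
      rw [(hcomm r r.2).eq]; group, hcl]
    ring
  rw [theta, Finset.sum_congr rfl (fun a ha => by rw [hterm a ha])]
  simp only [Finset.mul_sum]
  rw [Finset.sum_comm, classInner, Finset.mul_sum, Finset.mul_sum]
  refine Finset.sum_congr rfl fun r _ => ?_
  rw [star_eq (hcomm r r.2) hu (hreg r), blockCoeff_singleton, Finset.sum_mul, Finset.mul_sum,
    Finset.mul_sum]
  exact Finset.sum_congr rfl fun a _ => by ring

theorem isIntegral_inner (hχ : IsCharacter G χ)
    (hwi : ∀ x a, IsIntegral ℤ (w x a)) {R : Subgroup G} [Fintype R] (hR : ¬ p ∣ Nat.card R)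
    {u : G} (hu : ∃ k, orderOf u = p ^ k) (hcomm : ∀ r ∈ R, Commute u r) (ψ : IrrCharacter R) :
    IsIntegral ℤ (classInner (fun r : R => star p M w χ (u * r)) (ψ : R → ℂ)) := by
  classical
  have hreg : ∀ r : R, ¬ p ∣ orderOf (r : G) := fun r hd =>
    hR ((hd.trans (by rw [Subgroup.orderOf_coe])).trans (orderOf_dvd_natCard r))
  rw [show (fun r : R => star p M w χ (u * r)) =
      ∑ a ∈ prs p M u, w u a • fun r : R => sct χ a u (r : G) from funext fun r => by
    simp [star_eq (hcomm r r.2) hu (hreg r)], classInner_sum_left]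
  refine IsIntegral.sum _ fun a ha => ?_
  obtain ⟨h1, -⟩ := mem_prs.1 ha
  have hrC : R ≤ CG a.1 := fun r hr => by
    rw [h1, cg_zpowers]
    exact Subgroup.mem_centralizer_singleton_iff.2 (hcomm r hr).symm.eq
  have hua : u ∈ a.1 := h1 ▸ Subgroup.mem_zpowers u
  letI := Fintype.ofFinite (CG a.1)
  obtain ⟨c, hc, hsct⟩ := exists_sct_coef hχ (self_mem_cg h1) hua
  rw [classInner_smul_left]
  refine (hwi u a).mul ?_
  rw [show (fun r : R => sct χ a u (r : G)) = ∑ ξ ∈ Finset.univ.filter (· ∈ a.2),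
      c ξ • fun r : R => (ξ : CG a.1 → ℂ) (Subgroup.inclusion hrC r) from funext fun r => by
    rw [hsct ⟨r, hrC r.2⟩, Finset.sum_apply]
    rfl, classInner_sum_left]
  refine IsIntegral.sum _ fun ξ _ => ?_
  rw [classInner_smul_left]
  refine (hc ξ).mul ?_
  obtain ⟨n, hn⟩ := IsChar.classInner_nat (IsChar.comp (Subgroup.inclusion hrC) (irr_isChar ξ))
    (irr_isChar ψ)
  rw [hn]
  exact isIntegral_algebraMap (R := ℤ) (A := ℂ) (x := (n : ℤ))

/-- The coefficient of an irreducible character of a commuting `p'`-group is a generalized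
character of the `p`-group. -/
theorem genChar_coef (hM : IsPModular p M) (hχ : IsCharacter G χ) (hw : WConj p M w)
    (hloc : WLoc p M w) (hwi : ∀ x a, IsIntegral ℤ (w x a)) {Q R : Subgroup G} [Fintype R]
    (hQ : IsPGroup p Q) (hR : ¬ p ∣ Nat.card R) (hcomm : ∀ u ∈ Q, ∀ r ∈ R, Commute u r)
    (ψ : IrrCharacter R) :
    IsGeneralizedCharacter Q
      (fun u : Q => classInner (fun r : R => star p M w χ ((u : G) * r)) (ψ : R → ℂ)) := by
  classical
  have hp : p.Prime := Fact.out
  have hcl : IsClassFunction G χ := IsChar.classFun hχ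
  obtain ⟨d, hd0, hd⟩ := IsIrr.one_eq_pos ψ.2
  have hd' : (d : ℂ) ≠ 0 := Nat.cast_ne_zero.2 (Nat.pos_iff_ne_zero.1 hd0)
  have hεf : Fx M Q (eps R ψ) := ⟨eps_ring hM R hR ψ, fun z hz => by
    rw [eps, algOf]
    refine Commute.sum_right _ _ _ fun r _ => ?_
    simp only [Commute, SemiconjBy, MonoidAlgebra.single_mul_single, Subgroup.subtype_apply,
      one_mul, mul_one, (hcomm z hz r r.2).eq]⟩
  have hgen := genChar_theta hM hχ hw hloc hQ hεf
    (by rw [eps_idem, sub_self]; exact AlgIdeal.zero hM)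
  set m : Q → ℂ := fun u => classInner (fun r : R => star p M w χ ((u : G) * r)) (ψ : R → ℂ)
    with hm
  have hθm : ∀ u : Q, theta p M w χ (eps R ψ) u = (d : ℂ) * m u := fun u => by
    rw [theta_eps hM hcl hR (order_pow hQ u) (fun r hr => hcomm u u.2 r hr) ψ, hd]
  have hmcl : IsClassFunction Q m := fun u q => by
    have h := IsGenChar.classFun hgen u q
    simp only [hθm] at h
    exact mul_left_cancel₀ hd' h
  refine isGenChar_of_inner hmcl fun η => ?_
  obtain ⟨n, hn⟩ := IsGenChar.classInner_int hgen (IsGenChar.of_isCharacter (irr_isChar η))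
  rw [funext hθm, show (fun u : Q => (d : ℂ) * m u) = (d : ℂ) • m from rfl,
    classInner_smul_left] at hn
  obtain ⟨k, hk⟩ := IsPGroup.iff_card.1 hQ
  have hint : IsIntegral ℤ ((p : ℂ) ^ k * classInner m (η : Q → ℂ)) := by
    rw [classInner, ← mul_assoc, hk, Nat.cast_pow, mul_inv_cancel₀
      (pow_ne_zero _ (Nat.cast_ne_zero.2 hp.ne_zero)), one_mul]
    refine IsIntegral.sum _ fun u _ => IsIntegral.mul
      (isIntegral_inner hχ hwi hR (order_pow hQ u) (fun r hr => hcomm u u.2 r hr) ψ) ?_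
    exact IsChar.apply_inv (irr_isChar η) u ▸ IsChar.isIntegral (irr_isChar η) u⁻¹
  have hq : (p : ℂ) ^ k * classInner m (η : Q → ℂ) = (((p : ℚ) ^ k * n / d : ℚ) : ℂ) := by
    push_cast
    rw [← hn]
    field_simp
  rw [hq] at hint
  obtain ⟨z, hz⟩ := int_of_isIntegral_rat hint
  have hzn : (p : ℤ) ^ k * n = (d : ℤ) * z := by
    push_cast at hz
    rw [div_eq_iff hd'] at hz
    exact_mod_cast (show (p : ℂ) ^ k * (n : ℂ) = (d : ℂ) * (z : ℂ) by rw [hz]; ring)
  have hco : IsCoprime (d : ℤ) ((p : ℤ) ^ k) := by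
    rw [← Nat.cast_pow, Nat.isCoprime_iff_coprime]
    refine Nat.Coprime.pow_right _ ((Nat.coprime_comm).1 (hp.coprime_iff_not_dvd.2 fun h => hR ?_))
    exact h.trans (IsIrr.degree_dvd_card ψ.2 hd)
  obtain ⟨e, he⟩ := hco.dvd_of_dvd_mul_left ⟨z, hzn⟩
  refine ⟨e, mul_left_cancel₀ hd' ?_⟩
  rw [hn, he]
  push_cast
  ring

/-- The twist is a generalized character. -/
theorem genChar_star (hM : IsPModular p M) (hχ : IsCharacter G χ) (hw : WConj p M w)
    (hloc : WLoc p M w) (hwi : ∀ x a, IsIntegral ℤ (w x a)) :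
    IsGeneralizedCharacter G (star p M w χ) := by
  classical
  have hp : p.Prime := Fact.out
  have hcl : IsClassFunction G χ := IsChar.classFun hχ
  refine Brauer.isGenChar_of_elementary (star_classFun hM hcl hw) fun E hE => ?_
  obtain ⟨q, hq, hqE⟩ := hE
  have hnil : Group.IsNilpotent E := Brauer.isNilpotent_of_elementary hq hqE
  obtain ⟨S⟩ : Nonempty (Sylow p E) := inferInstance
  haveI : (S : Subgroup E).Normal :=
    (show Group.IsNilpotent E ↔ ∀ (r : ℕ) (_ : Fact r.Prime) (P : Sylow r E),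
        (P : Subgroup E).Normal from Group.isNilpotent_of_finite_tfae.out 0 3).1 hnil p
      inferInstance S
  have hcopQ : (Nat.card (S : Subgroup E)).Coprime (S : Subgroup E).index := by
    obtain ⟨k, hk⟩ := IsPGroup.iff_card.1 S.isPGroup'
    rw [hk]
    exact (hp.coprime_iff_not_dvd.2 S.not_dvd_index).pow_left _
  obtain ⟨R', hR'⟩ := Subgroup.exists_right_complement'_of_coprime hcopQ
  have hcardR : Nat.card R' = (S : Subgroup E).index := hR'.symm.index_eq_card.symm
  have hR'p : ¬ p ∣ Nat.card R' := hcardR ▸ S.not_dvd_index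
  have hcommE : ∀ (s : (S : Subgroup E)) (r : R'), Commute (s : E) (r : E) := fun s r => by
    refine commute_of_coprime_order hnil ?_
    obtain ⟨k, hk⟩ := IsPGroup.iff_orderOf.1 S.isPGroup' s
    rw [Subgroup.orderOf_coe, Subgroup.orderOf_coe, hk]
    exact ((hp.coprime_iff_not_dvd.2 hR'p).pow_left _).coprime_dvd_right (orderOf_dvd_natCard r)
  let φ : ↥(S : Subgroup E) × R' →* E :=
    MonoidHom.noncommCoprod (S : Subgroup E).subtype R'.subtype hcommE
  have hφ : Function.Bijective φ := hR'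
  let e := (MulEquiv.ofBijective φ hφ).symm
  set Q : Subgroup G := (S : Subgroup E).map E.subtype with hQ
  set R : Subgroup G := R'.map E.subtype with hR
  letI := Fintype.ofFinite R
  have hQp : IsPGroup p Q := S.isPGroup'.map _
  have hRp : ¬ p ∣ Nat.card R := by
    rwa [hR, ← Nat.card_congr (R'.equivMapOfInjective _ E.subtype_injective).toEquiv]
  have hcomm : ∀ x ∈ Q, ∀ y ∈ R, Commute x y := by
    rintro _ ⟨s, hs, rfl⟩ _ ⟨r, hr, rfl⟩
    exact (hcommE ⟨s, hs⟩ ⟨r, hr⟩).map E.subtype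
  let πQ : E →* Q := ((S : Subgroup E).equivMapOfInjective _ E.subtype_injective).toMonoidHom.comp
    ((MonoidHom.fst _ _).comp e.toMonoidHom)
  let πR : E →* R := (R'.equivMapOfInjective _ E.subtype_injective).toMonoidHom.comp
    ((MonoidHom.snd _ _).comp e.toMonoidHom)
  have hdec : ∀ g : E, (g : G) = (πQ g : G) * (πR g : G) := fun g => by
    conv_lhs => rw [← (MulEquiv.ofBijective φ hφ).apply_symm_apply g]
    rfl
  let m : IrrCharacter R → Q → ℂ := fun ψ u =>
    classInner (fun r : R => star p M w χ ((u : G) * r)) (ψ : R → ℂ)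
  have hexp : ∀ (u : Q) (r : R),
      star p M w χ ((u : G) * r) = ∑ ψ : IrrCharacter R, m ψ u * (ψ : R → ℂ) r := by
    intro u r
    have hclR : IsClassFunction R (fun r : R => star p M w χ ((u : G) * r)) := fun a b => by
      show star p M w χ ((u : G) * ((b : G) * a * (b : G)⁻¹)) = _
      rw [show (u : G) * ((b : G) * a * (b : G)⁻¹) = (b : G) * ((u : G) * a) * (b : G)⁻¹ by
        rw [← mul_assoc, ← mul_assoc, (hcomm u u.2 b b.2).eq, mul_assoc (b : G)]]
      exact star_classFun hM hcl hw _ _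
    exact (congrFun (classFunction_expansion hclR) r).trans (by simp [m])
  rw [show (fun g : E => star p M w χ g) =
      ∑ ψ : IrrCharacter R, (fun g : E => m ψ (πQ g)) * (fun g : E => (ψ : R → ℂ) (πR g)) from
    funext fun g => by rw [hdec g, hexp]; simp]
  exact IsGenChar.sum fun ψ _ => IsGenChar.mul
    (IsGenChar.comp πQ (genChar_coef hM hχ hw hloc hwi hQp hRp hcomm ψ))
    (IsGenChar.comp πR (IsGenChar.of_isCharacter (irr_isChar ψ)))

end Cfsg.Agent.Char.Star
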