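import Mathlib.FieldTheory.Finite.Basic
import Mathlib.RingTheory.AdjoinRoot
import Mathlib.Algebra.Module.ZMod

/-!
An automorphism conjugating a cyclic group that is transitive on the non-identity elements of an
elementary abelian 2-group into itself acts on it as a power of the Frobenius map.
-/

set_option autoImplicit false

namespace Cfsg.Agent.Char

open Polynomial

theorem frob_of_root {E : Type*} [AddCommGroup E] [Module (ZMod 2) E] [Finite E] [Nontrivial E]
    (α : Module.End (ZMod 2) E) (htr : ∀ v w : E, v ≠ 0 → w ≠ 0 → ∃ i : ℕ, (α ^ i) v = w)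
    (m : ℕ) (hroot : ∀ f : (ZMod 2)[X], aeval α f = 0 → aeval (α ^ m) f = 0) :
    ∃ i : ℕ, α ^ m = α ^ (2 ^ i) := by
  classical
  set p := minpoly (ZMod 2) α with hp
  have hint : IsIntegral (ZMod 2) α := IsIntegral.of_finite _ _
  have hp0 : p ≠ 0 := minpoly.ne_zero hint
  -- a non-zero polynomial in `α` has no kernel
  have hdom : ∀ f g : (ZMod 2)[X], aeval α (f * g) = 0 → aeval α f = 0 ∨ aeval α g = 0 := by
    intro f g h
    by_contra hne
    push Not at hne
    obtain ⟨hf, hg⟩ := hne
    obtain ⟨x, hx⟩ : ∃ x, aeval α g x ≠ 0 := by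
      by_contra hh
      push Not at hh
      exact hg (LinearMap.ext fun x => by simpa using hh x)
    refine hf (LinearMap.ext fun w => ?_)
    by_cases hw : w = 0
    · simp [hw]
    obtain ⟨i, hi⟩ := htr _ w hx hw
    have hc : aeval α f * α ^ i * aeval α g = α ^ i * aeval α (f * g) := by
      rw [← aeval_X_pow (R := ZMod 2) α, ← map_mul, ← map_mul, ← map_mul]
      congr 1
      ring
    rw [h, mul_zero] at hc
    have := LinearMap.congr_fun hc x
    simpa [Module.End.mul_apply, hi] using this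
  have hirr : Irreducible p := by
    refine ⟨minpoly.not_isUnit _ _, fun f g h => ?_⟩
    have h0 : aeval α (f * g) = 0 := by rw [← h]; exact minpoly.aeval _ _
    rcases hdom f g h0 with h1 | h1
    · obtain ⟨c, hc⟩ := minpoly.dvd _ _ h1
      refine Or.inr (IsUnit.of_mul_eq_one (a := g) c ?_)
      refine mul_left_cancel₀ hp0 ?_
      rw [mul_one]
      calc p * (g * c) = p * c * g := by ring
        _ = f * g := by rw [← hc]
        _ = p := h.symm
    · obtain ⟨c, hc⟩ := minpoly.dvd _ _ h1
      refine Or.inl (IsUnit.of_mul_eq_one (a := f) c ?_)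
      refine mul_left_cancel₀ hp0 ?_
      rw [mul_one]
      calc p * (f * c) = f * (p * c) := by ring
        _ = f * g := by rw [← hc]
        _ = p := h.symm
  haveI := Fact.mk hirr
  let pb := AdjoinRoot.powerBasis hp0
  haveI : Module.Finite (ZMod 2) (AdjoinRoot p) := pb.finite
  haveI : Finite (AdjoinRoot p) := Module.finite_of_finite (ZMod 2)
  -- both `α ^ m` and the root satisfy `p`
  have h1 : p.eval₂ (Algebra.ofId (ZMod 2) (AdjoinRoot p)) (AdjoinRoot.root p ^ m) = 0 := by
    have h2 : aeval α (p.comp (X ^ m)) = 0 := by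
      rw [aeval_comp, aeval_X_pow]
      exact hroot p (minpoly.aeval _ _)
    obtain ⟨c, hc⟩ := minpoly.dvd _ _ h2
    show aeval (AdjoinRoot.root p ^ m) p = 0
    rw [← aeval_X_pow (R := ZMod 2), ← aeval_comp, hc, map_mul, AdjoinRoot.aeval_eq,
      AdjoinRoot.mk_self, zero_mul]
  let σ : AdjoinRoot p →ₐ[ZMod 2] AdjoinRoot p := AdjoinRoot.liftAlgHom p _ _ h1
  let σe := AlgEquiv.ofBijective σ ⟨σ.toRingHom.injective,
    Finite.injective_iff_surjective.1 σ.toRingHom.injective⟩
  obtain ⟨i, hi⟩ := (FiniteField.bijective_frobeniusAlgEquivOfAlgebraic_pow (ZMod 2)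
    (AdjoinRoot p)).2 σe
  refine ⟨(i : ℕ), ?_⟩
  have h3 : AdjoinRoot.root p ^ m = AdjoinRoot.root p ^ (2 ^ (i : ℕ)) := by
    have h4 := AlgEquiv.congr_fun hi (AdjoinRoot.root p)
    simp only [AlgEquiv.coe_pow, FiniteField.coe_frobeniusAlgEquivOfAlgebraic_iterate,
      ZMod.card] at h4
    rw [h4]
    show _ = σ (AdjoinRoot.root p)
    exact (AdjoinRoot.liftAlgHom_root _ _ _ h1).symm
  have h5 : AdjoinRoot.mk p (X ^ m) = AdjoinRoot.mk p (X ^ (2 ^ (i : ℕ))) := by
    simpa [map_pow] using h3
  obtain ⟨c, hc⟩ := AdjoinRoot.mk_eq_mk.1 h5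
  have h6 := congrArg (aeval α) hc
  rw [map_sub, map_mul, minpoly.aeval, zero_mul, sub_eq_zero, aeval_X_pow, aeval_X_pow] at h6
  exact h6

/-- A multiplicative automorphism of an elementary abelian group as a linear map. -/
def addOfMulAut {Z : Type*} [CommGroup Z] [Module (ZMod 2) (Additive Z)] :
    MulAut Z →* Module.End (ZMod 2) (Additive Z) where
  toFun g := (MonoidHom.toAdditive g.toMonoidHom).toZModLinearMap 2
  map_one' := rfl
  map_mul' _ _ := rfl

theorem conj_eq_frob {Z : Type*} [CommGroup Z] [Finite Z] [Nontrivial Z] (h2 : ∀ x : Z, x * x = 1)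
    (a g : MulAut Z) (htr : ∀ x y : Z, x ≠ 1 → y ≠ 1 → ∃ i : ℕ, (a ^ i) x = y)
    (m : ℕ) (hm : g * a * g⁻¹ = a ^ m) : ∃ i : ℕ, g * a * g⁻¹ = a ^ (2 ^ i) := by
  letI : Module (ZMod 2) (Additive Z) := AddCommGroup.zmodModule fun x => by
    rw [two_nsmul]; exact h2 x.toMul
  have hφ : Function.Injective (addOfMulAut (Z := Z)) := fun u v h =>
    MulEquiv.ext fun x => congrArg Additive.toMul (LinearMap.congr_fun h (Additive.ofMul x))
  set φ := addOfMulAut (Z := Z)
  obtain ⟨i, hi⟩ := frob_of_root (φ a) (fun v w hv hw => by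
      obtain ⟨i, hi⟩ := htr v.toMul w.toMul hv hw
      exact ⟨i, by rw [← map_pow]; exact congrArg Additive.ofMul hi⟩) m (fun f hf => by
      have hs : SemiconjBy (φ g) (φ a) (φ a ^ m) := by
        show φ g * φ a = φ a ^ m * φ g
        rw [← map_pow, ← map_mul, ← map_mul, ← hm]
        congr 1
        group
      have key : ∀ q : (ZMod 2)[X], φ g * aeval (φ a) q = aeval (φ a ^ m) q * φ g := by
        intro q
        induction q using Polynomial.induction_on' with
        | add p q hp hq => rw [map_add, map_add, mul_add, add_mul, hp, hq]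
        | monomial n c =>
          rw [aeval_monomial, aeval_monomial]
          exact (SemiconjBy.mul_right (Algebra.commute_algebraMap_right c (φ g)) (hs.pow_right n)).eq
      have h := key f
      rw [hf, mul_zero] at h
      calc aeval (φ a ^ m) f = aeval (φ a ^ m) f * (φ g * φ g⁻¹) := by
            rw [← map_mul, mul_inv_cancel, map_one, mul_one]
        _ = 0 := by rw [← mul_assoc, ← h, zero_mul])
  refine ⟨i, ?_⟩
  rw [hm]
  apply hφ
  rw [map_pow, map_pow]
  exact hi

end Cfsg.Agent.Char
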