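import Cfsg.Agent.Lib.Lie.RankOneStructure
import Cfsg.Agent.Lib.Char.SemilinearFrob
import Cfsg.Agent.S1161
import Cfsg.Agent.S1122
import Cfsg.Agent.Lib.Grp.Solvable

/-!
The rank-one set-up: the elements inverted by `t` form a cyclic group, regular on the involutions
of the point stabiliser.
-/

set_option autoImplicit false
set_option linter.unusedSectionVars false

namespace Cfsg.Agent.Char.RankOne

open MulAction
open scoped commutatorElement

universe u v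

variable {G : Type u} {Ω : Type v} [Group G] [Finite G] [MulAction G Ω] {a : Ω} {t : G}
  {Q : Subgroup G}

local notation "𝒟" => (stabilizer G a ⊓ stabilizer G (t • a))
local notation "𝒦" => Cfsg.invertedBy (stabilizer G a ⊓ stabilizer G (t • a)) t
local notation "ℐ" => Cfsg.involutionsIn (stabilizer G a : Set G)

theorem closure_invol_comm (hS : Cfsg.IsRankOneSetup G Ω a t Q)
    (h2 : ∃ x y : G, x ≠ 1 ∧ y ≠ 1 ∧ x ≠ y ∧ x * x = 1 ∧ y * y = 1 ∧ x * y = y * x)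
    {x y : G} (hx : x ∈ stabilizer G a) (hx2 : x * x = 1) (hy : y ∈ stabilizer G a)
    (hy2 : y * y = 1) : x * y = y * x := by
  by_cases h : x = 1
  · subst h; simp
  exact Lie.RankOne.involutions_central hS h2 x ⟨hx, h, hx2⟩ y (Lie.RankOne.invol_mem_Q hS hy hy2)

/-- The involutions of `G_a` with `1`, as a subgroup. -/
def zInvol (hS : Cfsg.IsRankOneSetup G Ω a t Q)
    (h2 : ∃ x y : G, x ≠ 1 ∧ y ≠ 1 ∧ x ≠ y ∧ x * x = 1 ∧ y * y = 1 ∧ x * y = y * x) :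
    Subgroup G where
  carrier := {x | x ∈ stabilizer G a ∧ x * x = 1}
  one_mem' := ⟨one_mem _, mul_one 1⟩
  mul_mem' {x y} hx hy := ⟨mul_mem hx.1 hy.1, by
    have h := closure_invol_comm hS h2 hx.1 hx.2 hy.1 hy.2
    calc x * y * (x * y) = x * (y * x) * y := by group
      _ = (x * x) * (y * y) := by rw [← h]; group
      _ = 1 := by rw [hx.2, hy.2, one_mul]⟩
  inv_mem' {x} hx := ⟨inv_mem hx.1, by rw [← mul_inv_rev, hx.2, inv_one]⟩

theorem d_le_normalizer (hS : Cfsg.IsRankOneSetup G Ω a t Q)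
    (h2 : ∃ x y : G, x ≠ 1 ∧ y ≠ 1 ∧ x ≠ y ∧ x * x = 1 ∧ y * y = 1 ∧ x * y = y * x) :
    𝒟 ≤ Subgroup.normalizer (zInvol hS h2 : Set G) := by
  have key : ∀ d ∈ stabilizer G a, ∀ z ∈ zInvol hS h2, d * z * d⁻¹ ∈ zInvol hS h2 := by
    intro d hd z hz
    refine ⟨mul_mem (mul_mem hd hz.1) (inv_mem hd), ?_⟩
    calc d * z * d⁻¹ * (d * z * d⁻¹) = d * (z * z) * d⁻¹ := by group
      _ = 1 := by rw [hz.2]; group
  intro d hd
  refine Subgroup.mem_normalizer_iff.2 fun z => ⟨key d hd.1 z, fun h => ?_⟩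
  have h' := key d⁻¹ (inv_mem hd.1) _ h
  simpa [mul_assoc] using h'

/-- The action of `D` on the involutions of `G_a`. -/
def zConj (hS : Cfsg.IsRankOneSetup G Ω a t Q)
    (h2 : ∃ x y : G, x ≠ 1 ∧ y ≠ 1 ∧ x ≠ y ∧ x * x = 1 ∧ y * y = 1 ∧ x * y = y * x) :
    ↥𝒟 →* MulAut ↥(zInvol hS h2) :=
  (zInvol hS h2).normalizerMonoidHom.comp (Subgroup.inclusion (d_le_normalizer hS h2))

theorem zConj_apply (hS : Cfsg.IsRankOneSetup G Ω a t Q)
    (h2 : ∃ x y : G, x ≠ 1 ∧ y ≠ 1 ∧ x ≠ y ∧ x * x = 1 ∧ y * y = 1 ∧ x * y = y * x)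
    (d : ↥𝒟) (z : ↥(zInvol hS h2)) :
    ((zConj hS h2 d z : ↥(zInvol hS h2)) : G) = (d : G) * z * (d : G)⁻¹ := rfl

/-- `K` is the set of powers of one of its elements. -/
theorem inverted_cyclic (hS : Cfsg.IsRankOneSetup G Ω a t Q)
    (h2 : ∃ x y : G, x ≠ 1 ∧ y ≠ 1 ∧ x ≠ y ∧ x * x = 1 ∧ y * y = 1 ∧ x * y = y * x) :
    ∃ k₀ : G, k₀ ∈ 𝒦 ∧ ∀ k, k ∈ 𝒦 ↔ k ∈ Subgroup.zpowers k₀ := by
  have hti := Lie.RankOne.inv_t hS
  obtain ⟨⟨s₀, r⟩, ⟨hs0, hr, er⟩, -⟩ := Lie.RankOne.distinguished hS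
  obtain ⟨hinj, hsurj⟩ := Lie.RankOne.distinguished_orbit hS hs0 hr er
  have hcent : ∀ d ∈ 𝒟, (t * d = d * t ↔ s₀ * d = d * s₀) := fun d hd =>
    Lie.RankOne.centralizer_distinguished hS hs0 hr er hd
  set Z := zInvol hS h2 with hZdef
  let e0 : ↥Z := ⟨s₀, hs0.1, hs0.2.2⟩
  have he0 : e0 ≠ 1 := fun h => hs0.2.1 (congrArg Subtype.val h)
  haveI : Nontrivial ↥Z := ⟨⟨e0, 1, he0⟩⟩
  letI : CommGroup ↥Z :=
    { (inferInstance : Group ↥Z) with
      mul_comm := fun x y => Subtype.ext (closure_invol_comm hS h2 x.2.1 x.2.2 y.2.1 y.2.2) }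
  set ρ : ↥𝒟 →* MulAut ↥Z := zConj hS h2 with hρ
  have hρa : ∀ (d : ↥𝒟) (z : ↥Z), ((ρ d z : ↥Z) : G) = (d : G) * z * (d : G)⁻¹ :=
    zConj_apply hS h2
  set f := ρ.rangeRestrict with hf
  have hsf : Function.Surjective f := ρ.rangeRestrict_surjective
  -- the action of the image on the additive group
  letI : DistribMulAction ↥ρ.range (Additive ↥Z) :=
    { smul := fun g x => Additive.ofMul ((g : MulAut ↥Z) x.toMul)
      one_smul := fun _ => rfl
      mul_smul := fun _ _ _ => rfl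
      smul_zero := fun g => congrArg Additive.ofMul (map_one (g : MulAut ↥Z))
      smul_add := fun g x y => congrArg Additive.ofMul (map_mul (g : MulAut ↥Z) x.toMul y.toMul) }
  haveI : FaithfulSMul ↥ρ.range (Additive ↥Z) := ⟨fun {g h} hgh => Subtype.ext
    (MulEquiv.ext fun z => congrArg Additive.toMul (hgh (Additive.ofMul z)))⟩
  have hodd : Odd (Nat.card ↥ρ.range) := hS.odd_card.of_dvd_nat (Subgroup.card_range_dvd ρ)
  have hodd' : Odd (Nat.card ↥(⊤ : Subgroup ↥ρ.range)) := by rwa [Subgroup.card_top]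
  -- transitivity
  have htrK : ∀ z : ↥Z, z ≠ 1 → ∃ k : ↥𝒟, (k : G) ∈ 𝒦 ∧ (f k : MulAut ↥Z) z = e0 := by
    intro z hz
    obtain ⟨⟨m, hm⟩, hms⟩ := hsurj ⟨(z : G), z.2.1, fun h => hz (Subtype.ext h), z.2.2⟩
    have hms' : m⁻¹ * s₀ * m = (z : G) := congrArg Subtype.val hms
    refine ⟨⟨m, hm.1⟩, hm, Subtype.ext ?_⟩
    show ((ρ ⟨m, hm.1⟩ z : ↥Z) : G) = s₀
    rw [hρa, ← hms']
    group
  have htrans : ∀ x y : Additive ↥Z, x ≠ 0 → y ≠ 0 → ∃ g : ↥ρ.range, g • x = y := by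
    intro x y hx hy
    obtain ⟨k, -, hk⟩ := htrK x.toMul hx
    obtain ⟨l, -, hl⟩ := htrK y.toMul hy
    refine ⟨(f l)⁻¹ * f k, congrArg Additive.ofMul ?_⟩
    show ((f l : MulAut ↥Z)⁻¹) ((f k : MulAut ↥Z) x.toMul) = y.toMul
    rw [hk, ← hl]
    exact MulEquiv.symm_apply_apply _ _
  obtain ⟨hcyc, hfpf, hcomm⟩ := S1161.result hodd Nat.prime_two
    (E := Additive ↥Z) (fun x => by rw [two_nsmul]; exact Subtype.ext x.toMul.2.2) htrans
  set F := Cfsg.fittingSubgroup ↥ρ.range with hF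
  haveI := Grp.fittingSubgroup_isNormal (G := ↥ρ.range)
  haveI hFsol : Group.IsSolvable ↥F :=
    Group.isSolvable_of_comm fun x y => IsCyclic.commGroup.mul_comm x y
  haveI : Group.IsSolvable ↥ρ.range := by
    letI : CommGroup (↥ρ.range ⧸ F) :=
      { (inferInstance : Group (↥ρ.range ⧸ F)) with
        mul_comm := fun x y => by
          induction x using QuotientGroup.induction_on with | H x =>
          induction y using QuotientGroup.induction_on with | H y =>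
          rw [← QuotientGroup.mk_mul, ← QuotientGroup.mk_mul, QuotientGroup.eq]
          have h : ⁅y⁻¹, x⁻¹⁆ ∈ commutator ↥ρ.range :=
            Subgroup.commutator_mem_commutator (Subgroup.mem_top _) (Subgroup.mem_top _)
          have h' := hcomm h
          rw [commutatorElement_def] at h'
          simpa [mul_assoc] using h' }
    haveI : Group.IsSolvable (↥ρ.range ⧸ F) := Group.isSolvable_of_comm mul_comm
    exact Group.isSolvable_of_ker_le_range F.subtype (QuotientGroup.mk' F) (by simp)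
  -- conjugation by `t`
  let cD : ↥𝒟 →* ↥𝒟 :=
    { toFun := fun d => ⟨t * d * t, Lie.RankOne.conj_D hS d.2⟩
      map_one' := Subtype.ext (by simp [hS.mul_self])
      map_mul' := fun x y => Subtype.ext (by
        show t * ((x : G) * y) * t = t * x * t * (t * y * t)
        calc t * ((x : G) * y) * t = t * x * (t * t) * y * t := by rw [hS.mul_self]; group
          _ = _ := by group) }
  have hcDK : ∀ k : ↥𝒟, (k : G) ∈ 𝒦 → cD k = k⁻¹ := fun k hk => by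
    have h := hk.2
    rw [hti] at h
    exact Subtype.ext h
  have hker : f.ker ≤ (f.comp cD).ker := by
    intro d hd
    have h1 : f d = 1 := hd
    have h3 : (f d : MulAut ↥Z) e0 = e0 := by rw [h1]; rfl
    have h4 : (d : G) * s₀ * (d : G)⁻¹ = s₀ := (hρa d e0).symm.trans (congrArg Subtype.val h3)
    have h5 : t * (d : G) = d * t := (hcent d d.2).2 (mul_inv_eq_iff_eq_mul.1 h4).symm
    have h6 : cD d = d := Subtype.ext (by
      show t * (d : G) * t = d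
      rw [h5, mul_assoc, hS.mul_self, mul_one])
    show f (cD d) = 1
    rw [h6, h1]
  let τ : ↥ρ.range →* ↥ρ.range := f.liftOfSurjective hsf ⟨f.comp cD, hker⟩
  have hτ : ∀ d, τ (f d) = f (cD d) := fun d =>
    MonoidHom.liftOfRightInverse_comp_apply f _ (Function.rightInverse_surjInv hsf) ⟨f.comp cD, hker⟩ d
  have hττ : ∀ x, τ (τ x) = x := fun x => by
    obtain ⟨d, rfl⟩ := hsf x
    rw [hτ, hτ]
    exact congrArg f (Subtype.ext (Lie.RankOne.tt hS (d : G)))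
  let τe : ↥ρ.range ≃* ↥ρ.range :=
    { τ with invFun := τ, left_inv := hττ, right_inv := hττ }
  have hτF : ∀ x ∈ F, τ x ∈ F := by
    intro x hx
    haveI : F.Characteristic := inferInstance
    have h := Subgroup.Characteristic.fixed (H := F) inferInstance τe
    exact (h.symm ▸ hx : x ∈ F.comap τe.toMonoidHom)
  have hsq : ∀ x : ↥ρ.range, x * x = 1 → x = 1 := fun x hx =>
    Lie.RankOne.eq_one_of_sq hodd' (Subgroup.mem_top _) hx
  -- a fixed point of `τ` fixes `s₀`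
  have hfix : ∀ x : ↥ρ.range, τ x = x → (x : MulAut ↥Z) e0 = e0 := by
    intro x hx
    obtain ⟨d, rfl⟩ := hsf x
    obtain ⟨y, z, hy, hyt, hz, e⟩ := Lie.RankOne.inverted_conj hS d.2
    have ed : d = ⟨y, hy⟩ * ⟨z, hz.1⟩ := Subtype.ext e
    have hy' : cD ⟨y, hy⟩ = ⟨y, hy⟩ := Subtype.ext (by
      show t * y * t = y
      rw [hyt, mul_assoc, hS.mul_self, mul_one])
    rw [hτ, ed, map_mul, map_mul, hy', hcDK ⟨z, hz.1⟩ hz, map_inv, map_mul,
      mul_right_inj, inv_eq_iff_mul_eq_one] at hx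
    have hz1 : f ⟨z, hz.1⟩ = 1 := hsq _ hx
    rw [ed, map_mul, hz1, mul_one]
    apply Subtype.ext
    show ((ρ ⟨y, hy⟩ e0 : ↥Z) : G) = s₀
    rw [hρa]
    show y * s₀ * y⁻¹ = s₀
    rw [← (hcent y hy).1 hyt, mul_inv_cancel_right]
  -- `τ` inverts `F`
  have hFcomm : ∀ x ∈ F, ∀ y ∈ F, x * y = y * x := fun x hx y hy =>
    congrArg Subtype.val (IsCyclic.commGroup.mul_comm (⟨x, hx⟩ : ↥F) ⟨y, hy⟩)
  have hFeq : ∀ x ∈ F, ∀ y ∈ F, (x : MulAut ↥Z) e0 = (y : MulAut ↥Z) e0 → x = y := by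
    intro x hx y hy h
    by_contra hne
    have h1 : y⁻¹ * x ≠ 1 := fun hh => hne (inv_mul_eq_one.1 hh).symm
    refine he0 (congrArg Additive.toMul (hfpf _ (mul_mem (inv_mem hy) hx) h1 (Additive.ofMul e0) ?_))
    show Additive.ofMul (((y : MulAut ↥Z)⁻¹) ((x : MulAut ↥Z) e0)) = Additive.ofMul e0
    rw [h]
    exact congrArg Additive.ofMul (MulEquiv.symm_apply_apply _ _)
  have hinvF : ∀ x ∈ F, τ x = x⁻¹ := by
    intro x hx
    have h1 : τ (x * τ x) = x * τ x := by rw [map_mul, hττ, hFcomm _ (hτF x hx) _ hx]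
    have h2 : x * τ x = 1 := hFeq _ (mul_mem hx (hτF x hx)) _ (one_mem _) (by
      rw [hfix _ h1]; rfl)
    exact eq_inv_of_mul_eq_one_right h2
  -- the image of `K` lies in `F`
  have hKF : ∀ k : ↥𝒟, (k : G) ∈ 𝒦 → f k ∈ F := by
    intro k hk
    set kb := f k with hkb
    have hτk : τ kb = kb⁻¹ := by rw [hkb, hτ, hcDK k hk, map_inv]
    have h2 : kb * kb ∈ Subgroup.centralizer (F : Set ↥ρ.range) := by
      intro x hx
      have hn : kb * x * kb⁻¹ ∈ F := Subgroup.Normal.conj_mem inferInstance x hx kb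
      have h := hinvF _ hn
      rw [map_mul, map_mul, map_inv, hinvF x hx, hτk, inv_inv] at h
      have h' : kb⁻¹ * x * kb = kb * x * kb⁻¹ := by
        have := congrArg (·⁻¹) h
        simpa [mul_assoc] using this
      show x * (kb * kb) = kb * kb * x
      calc x * (kb * kb) = kb * (kb⁻¹ * x * kb) * kb := by group
        _ = kb * kb * x := by rw [h']; group
    have h3 := Grp.centralizer_fittingSubgroup_le h2
    obtain ⟨j, hj⟩ := Lie.RankOne.exists_sqrt hodd' (Subgroup.mem_top kb)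
    rw [← hj, ← pow_add, ← two_mul, pow_mul, pow_two]
    exact pow_mem h3 j
  have hFK : ∀ x ∈ F, ∃ k : ↥𝒟, (k : G) ∈ 𝒦 ∧ f k = x := by
    intro x hx
    have hne : (x : MulAut ↥Z) e0 ≠ 1 := fun h => he0 (by
      have := congrArg ((x : MulAut ↥Z).symm) h
      rwa [MulEquiv.symm_apply_apply, map_one] at this)
    obtain ⟨k, hk, hke⟩ := htrK _ hne
    have hk' : ((k⁻¹ : ↥𝒟) : G) ∈ 𝒦 := by
      refine ⟨(k⁻¹).2, ?_⟩
      have h := hk.2
      show t * (k : G)⁻¹ * t⁻¹ = (k : G)⁻¹⁻¹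
      rw [← conj_inv, h]
    refine ⟨k⁻¹, hk', hFeq _ (hKF _ hk') _ hx ?_⟩
    rw [map_inv]
    show ((f k : MulAut ↥Z)⁻¹) e0 = (x : MulAut ↥Z) e0
    exact (congrArg ((f k : MulAut ↥Z).symm) hke).symm.trans (MulEquiv.symm_apply_apply _ _)
  obtain ⟨⟨g, hg⟩, hgen⟩ := IsCyclic.exists_generator (α := ↥F)
  obtain ⟨k₀, hk₀, hk₀g⟩ := hFK g hg
  have hpow : ∀ n : ℤ, ((k₀ ^ n : ↥𝒟) : G) ∈ 𝒦 := by
    intro n
    refine ⟨(k₀ ^ n).2, ?_⟩
    rw [Subgroup.coe_zpow, ← conj_zpow, hk₀.2, inv_zpow]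
  have hKinj : ∀ k l : ↥𝒟, (k : G) ∈ 𝒦 → (l : G) ∈ 𝒦 → f k = f l → k = l := by
    intro k l hk hl h
    have hinvK : ∀ m : ↥𝒟, (m : G) ∈ 𝒦 → (m : G)⁻¹ ∈ 𝒦 := fun m hm =>
      ⟨inv_mem m.2, by rw [← conj_inv, hm.2]⟩
    have h' : (k : G) * s₀ * (k : G)⁻¹ = (l : G) * s₀ * (l : G)⁻¹ :=
      (hρa k e0).symm.trans ((congrArg (fun x : ↥ρ.range => (((x : MulAut ↥Z) e0 : ↥Z) : G)) h).trans (hρa l e0))
    have := @hinj ⟨_, hinvK k hk⟩ ⟨_, hinvK l hl⟩ (Subtype.ext (by simpa using h'))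
    exact Subtype.ext (inv_injective (congrArg Subtype.val this))
  refine ⟨(k₀ : G), hk₀, fun k => ⟨fun hk => ?_, fun hk => ?_⟩⟩
  · obtain ⟨n, hn⟩ := Subgroup.mem_zpowers_iff.1 (hgen ⟨f ⟨k, hk.1⟩, hKF _ hk⟩)
    have hn' : g ^ n = f ⟨k, hk.1⟩ := by
      simpa using congrArg Subtype.val hn
    have := hKinj (k₀ ^ n) ⟨k, hk.1⟩ (hpow n) hk (by rw [map_zpow, hk₀g, hn'])
    exact Subgroup.mem_zpowers_iff.2 ⟨n, congrArg Subtype.val this⟩
  · obtain ⟨n, rfl⟩ := Subgroup.mem_zpowers_iff.1 hk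
    exact hpow n

/-- `K` is transitive on the involutions of `G_a` by conjugation. -/
theorem inverted_trans (hS : Cfsg.IsRankOneSetup G Ω a t Q) {x y : G} (hx : x ∈ ℐ) (hy : y ∈ ℐ) :
    ∃ k ∈ 𝒦, k * x * k⁻¹ = y := by
  obtain ⟨k, hk, h⟩ := (S1122.result hS).2 x hx y hy
  refine ⟨k⁻¹, ⟨inv_mem hk.1, by rw [← conj_inv, hk.2]⟩, ?_⟩
  rw [inv_inv, h]

end Cfsg.Agent.Char.RankOne
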