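import Cfsg.Agent.Lib.Char.Induce
import Cfsg.Agent.Lib.Char.Contrib
import Cfsg.Agent.Lib.Char.Constituent

/-!
Permutation characters and the spans of induced characters: products, restriction, transitivity;
Solomon's local statement for quasi-elementary subgroups.
-/

namespace Cfsg.Agent.Char.Brauer

open scoped ComplexConjugate Pointwise
open Cfsg Cfsg.Agent.Char

set_option linter.unusedSectionVars false
set_option linter.style.haveILetI false

universe u

variable {G : Type u} [Group G] [Fintype G]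

/-- The projection formula. -/
theorem mul_indFun (H : Subgroup G) (φ : H → ℂ) {f : G → ℂ} (hf : IsClassFunction G f) :
    f * indFun H φ = indFun H ((fun h : H => f h) * φ) := by
  funext g
  simp only [Pi.mul_apply, indFun, Finset.mul_sum]
  refine Finset.sum_congr rfl fun x _ => ?_
  by_cases hx : x⁻¹ * g * x ∈ H
  · rw [extendByZero_of_mem _ hx, extendByZero_of_mem _ hx, Pi.mul_apply]
    show _ = (Nat.card H : ℂ)⁻¹ * (f (x⁻¹ * g * x) * φ ⟨_, hx⟩)
    rw [show f (x⁻¹ * g * x) = f g by simpa using hf g x⁻¹]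
    ring
  · rw [extendByZero_not_mem _ hx, extendByZero_not_mem _ hx]
    ring

theorem extendByZero_subtype_map (T : Subgroup G) (H : Subgroup T) (θ : H → ℂ) (z : T) :
    extendByZero (H.map T.subtype)
      (fun x => θ ((H.equivMapOfInjective T.subtype T.subtype_injective).symm x)) (z : G) =
      extendByZero H θ z := by
  set e := H.equivMapOfInjective T.subtype T.subtype_injective with he
  by_cases hz : z ∈ H
  · have hm : (z : G) ∈ H.map T.subtype := ⟨z, hz, rfl⟩
    rw [extendByZero_of_mem _ hz, extendByZero_of_mem _ hm]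
    have : (⟨(z : G), hm⟩ : H.map T.subtype) = e ⟨z, hz⟩ := Subtype.ext rfl
    rw [this, MulEquiv.symm_apply_apply]
  · rw [extendByZero_not_mem _ hz, extendByZero_not_mem]
    rintro ⟨w, hw, hwz⟩
    exact hz (T.subtype_injective hwz ▸ hw)

/-- Transitivity of induction. -/
theorem indFun_indFun (T : Subgroup G) [Fintype T] (H : Subgroup T) (θ : H → ℂ) :
    indFun T (indFun H θ) = indFun (H.map T.subtype)
      (fun x => θ ((H.equivMapOfInjective T.subtype T.subtype_injective).symm x)) := by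
  classical
  funext g
  set f := extendByZero (H.map T.subtype)
      (fun x => θ ((H.equivMapOfInjective T.subtype T.subtype_injective).symm x)) with hf
  have inner : ∀ z : G, extendByZero T (indFun H θ) z =
      (Nat.card H : ℂ)⁻¹ * ∑ y : T, f ((y : G)⁻¹ * z * y) := by
    intro z
    by_cases hz : z ∈ T
    · rw [extendByZero_of_mem _ hz, indFun]
      congr 1
      refine Finset.sum_congr rfl fun y _ => ?_
      exact (extendByZero_subtype_map T H θ (y⁻¹ * ⟨z, hz⟩ * y)).symm
    · rw [extendByZero_not_mem _ hz, Finset.sum_eq_zero, mul_zero]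
      intro y _
      refine extendByZero_not_mem _ fun h => hz ?_
      simpa [mul_assoc] using mul_mem (mul_mem y.2 (Subgroup.map_subtype_le H h)) (inv_mem y.2)
  show (Nat.card T : ℂ)⁻¹ * _ = (Nat.card (H.map T.subtype) : ℂ)⁻¹ * _
  rw [Finset.sum_congr rfl fun x (_ : x ∈ Finset.univ) => inner (x⁻¹ * g * x), ← Finset.mul_sum,
    ← mul_assoc, Finset.sum_comm]
  have hy : ∀ y : T, ∑ x : G, f ((y : G)⁻¹ * (x⁻¹ * g * x) * y) = ∑ x : G, f (x⁻¹ * g * x) :=
    fun y => Fintype.sum_equiv (Equiv.mulRight (y : G)) _ _ fun x => by simp [mul_assoc]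
  rw [Finset.sum_congr rfl fun y _ => hy y, Finset.sum_const, Finset.card_univ,
    ← Nat.card_eq_fintype_card, nsmul_eq_mul, Subgroup.card_map_of_injective T.subtype_injective,
    ← mul_assoc]
  congr 1
  rw [mul_comm, ← mul_assoc, mul_inv_cancel₀ (Nat.cast_ne_zero.mpr Nat.card_pos.ne'), one_mul]

/-- Conjugate subgroups give the same permutation character. -/
theorem indFun_one_conj (U : Subgroup G) (h : G) :
    indFun (U.map (MulAut.conj h).toMonoidHom) (fun _ => (1 : ℂ)) = indFun U (fun _ => 1) := by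
  funext g
  simp only [indFun, Subgroup.card_map_of_injective
    (show Function.Injective (MulAut.conj h).toMonoidHom from (MulAut.conj h).injective)]
  congr 1
  refine Fintype.sum_equiv (Equiv.mulRight h) _ _ fun x => ?_
  simp only [Equiv.coe_mulRight]
  have hiff : x⁻¹ * g * x ∈ U.map (MulAut.conj h).toMonoidHom ↔ (x * h)⁻¹ * g * (x * h) ∈ U := by
    constructor
    · rintro ⟨w, hw, e⟩
      rwa [show (x * h)⁻¹ * g * (x * h) = w by
        rw [show (x * h)⁻¹ * g * (x * h) = h⁻¹ * (x⁻¹ * g * x) * h by group, ← e]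
        show h⁻¹ * (h * w * h⁻¹) * h = w
        group]
    · exact fun hw => ⟨_, hw, show h * ((x * h)⁻¹ * g * (x * h)) * h⁻¹ = _ by group⟩
  by_cases hx : (x * h)⁻¹ * g * (x * h) ∈ U
  · rw [extendByZero_of_mem _ hx, extendByZero_of_mem _ (hiff.2 hx)]
  · rw [extendByZero_not_mem _ hx, extendByZero_not_mem _ fun hc => hx (hiff.1 hc)]

/-- The product of two permutation characters. -/
theorem mul_perm (H K : Subgroup G) : ∃ a : Subgroup G → ℕ, (∀ U, a U ≠ 0 → U ≤ H) ∧
    indFun H (fun _ => 1) * indFun K (fun _ => 1) =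
      ∑ U : Subgroup G, (a U : ℂ) • indFun U (fun _ => 1) := by
  classical
  haveI := Fintype.ofFinite H
  haveI := Fintype.ofFinite K
  haveI := Fintype.ofFinite (G ⧸ K)
  haveI := Fintype.ofFinite (MulAction.orbitRel.Quotient H (G ⧸ K))
  set U : G ⧸ K → Subgroup G := fun q => H ⊓ MulAction.stabilizer G q with hU
  set F : G ⧸ K → G → ℂ := fun q => indFun (U q) (fun _ => 1) with hF
  have horb : ∀ (h : H) (q : G ⧸ K), F (h • q) = F q := by
    intro h q
    show indFun (U (h • q)) _ = _
    rw [show U (h • q) = (U q).map (MulAut.conj (h : G)).toMonoidHom from ?_, indFun_one_conj]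
    have hH : H.map (MulAut.conj (h : G)).toMonoidHom = H := by
      ext g
      constructor
      · rintro ⟨w, hw, rfl⟩
        exact mul_mem (mul_mem h.2 hw) (inv_mem h.2)
      · exact fun hg => ⟨(h : G)⁻¹ * g * h, mul_mem (mul_mem (inv_mem h.2) hg) h.2,
          show (h : G) * ((h : G)⁻¹ * g * h) * (h : G)⁻¹ = g by group⟩
    simp only [hU]
    rw [Subgroup.map_inf _ _ _ (MulAut.conj (h : G)).injective, hH]
    congr 1
    exact MulAction.stabilizer_smul_eq_stabilizer_map_conj (h : G) q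
  -- the product as an average over the cosets of `K`
  have hprod : ∀ g, (Nat.card H : ℂ) * (indFun H (fun _ => 1) g * indFun K (fun _ => 1) g) =
      ∑ q : G ⧸ K, (Nat.card (U q) : ℂ) * F q g := by
    intro g
    have hK : indFun K (fun _ => (1 : ℂ)) g = ∑ q : G ⧸ K, if g • q = q then (1 : ℂ) else 0 := by
      rw [Contrib.indFun_one_apply, Finset.sum_boole, Nat.card_eq_fintype_card,
        Fintype.card_subtype]
    have hH : (Nat.card H : ℂ) * indFun H (fun _ => (1 : ℂ)) g =
        ∑ x : G, if x⁻¹ * g * x ∈ H then (1 : ℂ) else 0 := by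
      rw [indFun, ← mul_assoc, mul_inv_cancel₀ (Nat.cast_ne_zero.mpr Nat.card_pos.ne'), one_mul]
      refine Finset.sum_congr rfl fun x _ => ?_
      split_ifs with h
      · exact extendByZero_of_mem _ h
      · exact extendByZero_not_mem _ h
    have hU' : ∀ q : G ⧸ K, (Nat.card (U q) : ℂ) * F q g =
        ∑ x : G, if x⁻¹ * g * x ∈ H ∧ g • (x • q) = x • q then (1 : ℂ) else 0 := by
      intro q
      show _ * indFun _ _ g = _
      rw [indFun, ← mul_assoc, mul_inv_cancel₀ (Nat.cast_ne_zero.mpr Nat.card_pos.ne'), one_mul]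
      refine Finset.sum_congr rfl fun x _ => ?_
      have hiff : x⁻¹ * g * x ∈ U q ↔ (x⁻¹ * g * x ∈ H ∧ g • (x • q) = x • q) := by
        show _ ∈ H ⊓ MulAction.stabilizer G q ↔ _
        rw [Subgroup.mem_inf, MulAction.mem_stabilizer_iff, mul_smul, mul_smul, inv_smul_eq_iff]
      split_ifs with h
      · exact extendByZero_of_mem _ (hiff.2 h)
      · exact extendByZero_not_mem _ fun hc => h (hiff.1 hc)
    rw [← mul_assoc, hH, hK, Finset.sum_congr rfl fun q (_ : q ∈ Finset.univ) => hU' q,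
      Finset.sum_mul, Finset.sum_comm]
    refine Finset.sum_congr rfl fun x _ => ?_
    rw [Finset.mul_sum]
    refine (Fintype.sum_equiv (MulAction.toPerm x) _ _ fun q => ?_).symm
    rw [MulAction.toPerm_apply]
    by_cases h1 : x⁻¹ * g * x ∈ H
    · simp [h1]
    · simp [h1]
  refine ⟨fun V => (Finset.univ.filter
    (fun ω : MulAction.orbitRel.Quotient H (G ⧸ K) => U ω.out = V)).card, fun V hV => ?_, ?_⟩
  · obtain ⟨ω, hω⟩ := Finset.card_ne_zero.1 hV
    exact (Finset.mem_filter.1 hω).2 ▸ inf_le_left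
  funext g
  have h0 : (Nat.card H : ℂ) ≠ 0 := Nat.cast_ne_zero.mpr Nat.card_pos.ne'
  refine mul_left_cancel₀ h0 ?_
  rw [Pi.mul_apply, hprod g]
  set π : G ⧸ K → MulAction.orbitRel.Quotient H (G ⧸ K) := fun q => Quotient.mk _ q with hπ
  rw [← Finset.sum_fiberwise Finset.univ π, Finset.sum_apply]
  have hfib : ∀ ω : MulAction.orbitRel.Quotient H (G ⧸ K),
      ∑ q ∈ Finset.univ.filter (fun q => π q = ω), (Nat.card (U q) : ℂ) * F q g =
        (Nat.card H : ℂ) * F ω.out g := by
    intro ω
    have hsame : ∀ q, π q = ω → ∃ h : H, h • ω.out = q := fun q hq => by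
      have hq' : (π q) = π ω.out := hq.trans (Quotient.out_eq ω).symm
      exact MulAction.orbitRel_apply.1 (Quotient.exact hq')
    have hcard : ∀ q, π q = ω → Nat.card (U q) = Nat.card (U ω.out) := fun q hq => by
      obtain ⟨h, rfl⟩ := hsame q hq
      have hH : H.map (MulAut.conj (h : G)).toMonoidHom = H := by
        ext y
        constructor
        · rintro ⟨w, hw, rfl⟩
          exact mul_mem (mul_mem h.2 hw) (inv_mem h.2)
        · exact fun hy => ⟨(h : G)⁻¹ * y * h, mul_mem (mul_mem (inv_mem h.2) hy) h.2,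
            show (h : G) * ((h : G)⁻¹ * y * h) * (h : G)⁻¹ = y by group⟩
      rw [← Subgroup.card_map_of_injective (f := (MulAut.conj (h : G)).toMonoidHom)
        (MulAut.conj (h : G)).injective (K := U ω.out)]
      congr 2
      simp only [hU]
      rw [Subgroup.map_inf _ _ _ (MulAut.conj (h : G)).injective, hH]
      simp only [← MulAction.stabilizer_smul_eq_stabilizer_map_conj]
      rfl
    rw [Finset.sum_congr rfl (g := fun _ => (Nat.card (U ω.out) : ℂ) * F ω.out g) fun q hq => by
      have hq' := (Finset.mem_filter.1 hq).2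
      obtain ⟨h, rfl⟩ := hsame q hq'
      rw [hcard _ hq', horb], Finset.sum_const, nsmul_eq_mul, ← mul_assoc, ← Nat.cast_mul]
    congr 2
    have e1 : (Finset.univ.filter (fun q => π q = ω)).card =
        Nat.card (MulAction.orbit H ω.out) := by
      rw [Nat.card_eq_fintype_card, ← Set.toFinset_card]
      congr 1
      ext q
      simp only [Finset.mem_filter, Finset.mem_univ, true_and, Set.mem_toFinset]
      exact ⟨fun hq => hsame q hq,
        fun hq => (Quotient.sound (MulAction.orbitRel_apply.2 hq)).trans (Quotient.out_eq ω)⟩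
    have e2 : Nat.card (U ω.out) = Nat.card (MulAction.stabilizer H ω.out) := by
      refine Nat.card_congr
        { toFun := fun u => ⟨⟨(u : G), u.2.1⟩, u.2.2⟩
          invFun := fun s => ⟨((s : H) : G), (s : H).2, s.2⟩
          left_inv := fun _ => rfl
          right_inv := fun _ => rfl }
    rw [e1, e2, Nat.card_eq_fintype_card, Nat.card_eq_fintype_card, Nat.card_eq_fintype_card]
    exact MulAction.card_orbit_mul_card_stabilizer_eq_card_group H ω.out
  rw [Finset.sum_congr rfl fun ω _ => hfib ω, ← Finset.mul_sum]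
  congr 1
  rw [← Finset.sum_fiberwise Finset.univ (fun ω : MulAction.orbitRel.Quotient H (G ⧸ K) => U ω.out)]
  refine Finset.sum_congr rfl fun V _ => ?_
  rw [Pi.smul_apply, smul_eq_mul, Finset.sum_congr rfl (g := fun _ => indFun V (fun _ => 1) g)
    fun ω hω => by rw [hF, ← (Finset.mem_filter.1 hω).2], Finset.sum_const, nsmul_eq_mul]

/-! ### Quasi-elementary subgroups -/

/-- A cyclic normal subgroup of order prime to `p` into which every element powers by a power of
`p`. -/
def QE (p : ℕ) (H : Subgroup G) : Prop :=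
  ∃ C : Subgroup G, C ≤ H ∧ H ≤ Subgroup.normalizer (C : Set G) ∧ IsCyclic C ∧
    Nat.Coprime (Nat.card C) p ∧ ∀ h ∈ H, ∃ k : ℕ, h ^ p ^ k ∈ C

theorem QE.mono {p : ℕ} {H U : Subgroup G} (h : QE p H) (hUH : U ≤ H) : QE p U := by
  obtain ⟨C, hCH, hN, hcyc, hcop, hpow⟩ := h
  refine ⟨C ⊓ U, inf_le_right, fun u hu => Subgroup.mem_normalizer_iff.2 fun x => ?_,
    isCyclic_of_injective (Subgroup.inclusion (inf_le_left : C ⊓ U ≤ C))
      (Subgroup.inclusion_injective _),
    hcop.coprime_dvd_left (Subgroup.card_dvd_of_le inf_le_left),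
    fun u hu => ?_⟩
  · rw [Subgroup.mem_inf, Subgroup.mem_inf, Subgroup.mem_normalizer_iff.1 (hN (hUH hu)) x]
    exact and_congr_right fun _ => (Subgroup.mem_normalizer_iff.1 (Subgroup.le_normalizer hu) x)
  · obtain ⟨k, hk⟩ := hpow u (hUH hu)
    exact ⟨k, hk, pow_mem hu _⟩

theorem QE.relIndex {p : ℕ} [Fact p.Prime] {H : Subgroup G} (h : QE p H) :
    ∃ C : Subgroup G, C ≤ H ∧ H ≤ Subgroup.normalizer (C : Set G) ∧ IsCyclic C ∧
      Nat.Coprime (Nat.card C) p ∧ ∃ k : ℕ, C.relIndex H = p ^ k := by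
  obtain ⟨C, hCH, hN, hcyc, hcop, hpow⟩ := h
  refine ⟨C, hCH, hN, hcyc, hcop, ?_⟩
  haveI : (C.subgroupOf H).Normal := ⟨fun x hx y => Subgroup.mem_subgroupOf.2
    ((Subgroup.mem_normalizer_iff.1 (hN y.2) (x : G)).1 (Subgroup.mem_subgroupOf.1 hx))⟩
  have hp : IsPGroup p (H ⧸ C.subgroupOf H) := by
    intro q
    obtain ⟨x, rfl⟩ := QuotientGroup.mk_surjective q
    obtain ⟨k, hk⟩ := hpow x x.2
    exact ⟨k, by rw [← QuotientGroup.mk_pow, QuotientGroup.eq_one_iff,
      Subgroup.mem_subgroupOf, SubmonoidClass.coe_pow]; exact hk⟩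
  obtain ⟨k, hk⟩ := hp.exists_card_eq
  exact ⟨k, hk⟩

/-- For each element some quasi-elementary permutation character is prime to `p` there. -/
theorem exists_perm_not_dvd (x : G) (p : ℕ) [Fact p.Prime] :
    ∃ H : Subgroup G, QE p H ∧
      ∃ n : ℕ, indFun H (fun _ => 1) x = (n : ℂ) ∧ ¬ p ∣ n := by
  classical
  have hp : p.Prime := Fact.out
  set a := orderOf x / p ^ (orderOf x).factorization p with ha
  set b := p ^ (orderOf x).factorization p with hb
  have hab : b * a = orderOf x := Nat.ordProj_mul_ordCompl_eq_self _ p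
  have hane : ¬ p ∣ a := Nat.not_dvd_ordCompl hp (orderOf_pos x).ne'
  set C := Subgroup.zpowers (x ^ b) with hC
  have hCcard : Nat.card C = a := by
    rw [hC, Nat.card_zpowers,
      orderOf_pow_of_dvd (pow_ne_zero _ hp.ne_zero) (Nat.ordProj_dvd (orderOf x) p)]
  have hcopC : Nat.Coprime (Nat.card C) p := by
    rw [hCcard]; exact ((hp.coprime_iff_not_dvd).2 hane).symm
  set Nx := Subgroup.normalizer (C : Set G) with hNx
  have hxN : x ∈ Nx := Subgroup.mem_normalizer_iff.2 fun y => by
    have hc : ∀ z ∈ C, x * z * x⁻¹ = z := by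
      intro z hz
      obtain ⟨j, rfl⟩ := Subgroup.mem_zpowers_iff.1 hz
      rw [((Commute.self_pow x b).zpow_right j).eq, mul_inv_cancel_right]
    exact ⟨fun hy => by rw [hc y hy]; exact hy, fun hy => by
      have h2 := hc _ hy
      have h3 : x * y * x⁻¹ = y := mul_left_cancel (mul_right_cancel h2)
      rwa [h3] at hy⟩
  set xp := x ^ a with hxp
  have hxpp : xp ^ b = 1 := by
    rw [hxp, ← pow_mul, mul_comm, hab, pow_orderOf_eq_one]
  obtain ⟨S, hS⟩ := IsPGroup.exists_le_sylow (p := p) (G := Nx)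
    (P := Subgroup.zpowers (⟨xp, pow_mem hxN a⟩ : Nx)) (by
      obtain ⟨j, -, hj⟩ := (Nat.dvd_prime_pow hp).1 (orderOf_dvd_of_pow_eq_one
        (Subtype.ext hxpp : (⟨xp, pow_mem hxN a⟩ : Nx) ^ b = 1))
      exact IsPGroup.of_card (n := j) (by rw [Nat.card_zpowers, hj]))
  set S' := (S : Subgroup Nx).map Nx.subtype with hS'
  set H := C ⊔ S' with hH
  have hS'N : S' ≤ Nx := Subgroup.map_subtype_le _
  have hHN : H ≤ Nx := sup_le Subgroup.le_normalizer hS'N
  haveI hnorm : (C.subgroupOf H).Normal := ⟨fun z hz y => Subgroup.mem_subgroupOf.2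
    ((Subgroup.mem_normalizer_iff.1 (hHN y.2) (z : G)).1 (Subgroup.mem_subgroupOf.1 hz))⟩
  have hpow : ∀ h ∈ H, ∃ k : ℕ, h ^ p ^ k ∈ C := by
    intro h hh
    have hmem : h ∈ (C : Set G) * (S' : Set G) := by
      rw [← Subgroup.coe_mul_of_right_le_normalizer_left C S' hS'N]; exact hh
    obtain ⟨c, hc, s, hs, rfl⟩ := hmem
    obtain ⟨k, hk⟩ := (S.isPGroup'.map Nx.subtype) ⟨s, hs⟩
    refine ⟨k, ?_⟩
    have h1 : ((⟨c * s, hh⟩ : H) : H ⧸ C.subgroupOf H) =
        ((⟨s, le_sup_right (a := C) hs⟩ : H) : H ⧸ C.subgroupOf H) := by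
      rw [show (⟨c * s, hh⟩ : H) = ⟨c, le_sup_left (b := S') hc⟩ * ⟨s, le_sup_right (a := C) hs⟩
        from rfl, QuotientGroup.mk_mul,
        (QuotientGroup.eq_one_iff (⟨c, le_sup_left (b := S') hc⟩ : H)).2
          (Subgroup.mem_subgroupOf.2 hc), one_mul]
    have h2 : (⟨c * s, hh⟩ : H) ^ p ^ k ∈ C.subgroupOf H := by
      rw [← QuotientGroup.eq_one_iff, QuotientGroup.mk_pow, h1, ← QuotientGroup.mk_pow,
        show (⟨s, le_sup_right (a := C) hs⟩ : H) ^ p ^ k = 1 from
          Subtype.ext (congrArg Subtype.val hk : s ^ p ^ k = 1), QuotientGroup.mk_one]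
    exact Subgroup.mem_subgroupOf.1 h2
  have hqe : QE p H := ⟨C, le_sup_left, hHN, inferInstance, hcopC, hpow⟩
  refine ⟨H, hqe, _, Contrib.indFun_one_apply H x, ?_⟩
  -- the fixed cosets
  set Y := {q : G ⧸ H // x • q = q}
  have hfix : ∀ g : G, x • (g : G ⧸ H) = g ↔ g⁻¹ * x * g ∈ H := fun g => by
    rw [show x • (g : G ⧸ H) = ((x * g : G) : G ⧸ H) from rfl, eq_comm, QuotientGroup.eq, mul_assoc]
  have hgN : ∀ g : G, g⁻¹ * x * g ∈ H → g ∈ Nx := by
    intro g hg
    have h1 : g⁻¹ * x ^ b * g ∈ C := by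
      have hh : g⁻¹ * x ^ b * g ∈ H := by
        have := pow_mem hg b
        rwa [show g⁻¹ * x * g = MulAut.conj g⁻¹ x by simp, ← map_pow,
          show MulAut.conj g⁻¹ (x ^ b) = g⁻¹ * x ^ b * g by simp] at this
      obtain ⟨k, hk⟩ := hpow _ hh
      have ho : Nat.Coprime (orderOf (g⁻¹ * x ^ b * g)) (p ^ k) := by
        rw [show g⁻¹ * x ^ b * g = MulAut.conj g⁻¹ (x ^ b) by simp,
          MulEquiv.orderOf_eq, ← Nat.card_zpowers]
        exact hcopC.pow_right k
      obtain ⟨m, hm⟩ := exists_pow_eq_self_of_coprime ho.symm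
      rw [← hm]; exact C.pow_mem hk m
    have hle : C.map (MulAut.conj g⁻¹).toMonoidHom ≤ C := by
      rw [hC, MonoidHom.map_zpowers, Subgroup.zpowers_le]
      simpa using h1
    have heq : C.map (MulAut.conj g⁻¹).toMonoidHom = C :=
      Subgroup.eq_of_le_of_card_ge hle (by
        rw [Subgroup.card_map_of_injective (f := (MulAut.conj g⁻¹).toMonoidHom)
          (MulAut.conj g⁻¹).injective])
    refine (inv_inv g) ▸ inv_mem (Subgroup.mem_normalizer_iff.2 fun y => ?_)
    constructor
    · intro hy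
      rw [← heq]
      exact ⟨y, hy, by simp⟩
    · intro hy
      rw [← heq] at hy
      obtain ⟨w, hw, he⟩ := hy
      have he' : g⁻¹ * w * g⁻¹⁻¹ = g⁻¹ * y * g⁻¹⁻¹ := by simpa using he
      rwa [← mul_left_cancel (mul_right_cancel he')]
  -- cosets inside the normalizer
  set Z := {q : G ⧸ H // ∃ g ∈ Nx, (g : G ⧸ H) = q}
  have hZcard : Nat.card Z * Nat.card H = Nat.card Nx := by
    have h1 := Subgroup.card_mul_index (H.subgroupOf Nx)
    rw [Nat.card_congr (Subgroup.subgroupOfEquivOfLe hHN).toEquiv] at h1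
    rw [← h1, mul_comm]
    congr 1
    refine (Nat.card_eq_of_bijective (fun q : Nx ⧸ H.subgroupOf Nx =>
      (⟨Quotient.liftOn' q (fun n : Nx => ((n : G) : G ⧸ H)) (fun u v huv => by
        rw [QuotientGroup.eq]
        exact Subgroup.mem_subgroupOf.1 (QuotientGroup.leftRel_apply.1 huv)),
        by
          induction q using Quotient.inductionOn' with
          | h n => exact ⟨n, n.2, rfl⟩⟩ : Z)) ⟨?_, ?_⟩).symm
    · intro q r hqr
      induction q using Quotient.inductionOn' with
      | h u =>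
        induction r using Quotient.inductionOn' with
        | h v =>
          refine Quotient.sound' (QuotientGroup.leftRel_apply.2 (Subgroup.mem_subgroupOf.2 ?_))
          exact QuotientGroup.eq.1 (congrArg Subtype.val hqr : ((u : G) : G ⧸ H) = ((v : G) : G ⧸ H))
    · rintro ⟨q, g, hg, rfl⟩
      exact ⟨Quotient.mk'' ⟨g, hg⟩, rfl⟩
  have hcop : ¬ p ∣ Nat.card Z := by
    have h1 : ¬ p ∣ (S : Subgroup Nx).index := Sylow.not_dvd_index S
    refine fun hd => h1 (hd.trans ?_)
    have h2 := Subgroup.card_mul_index (S : Subgroup Nx)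
    rw [← hZcard] at h2
    obtain ⟨j, hj⟩ : Nat.card (S : Subgroup Nx) ∣ Nat.card H := by
      rw [← Subgroup.card_map_of_injective Nx.subtype_injective]
      exact Subgroup.card_dvd_of_le le_sup_right
    rw [hj] at h2
    refine ⟨j, Nat.eq_of_mul_eq_mul_left Nat.card_pos (h2.trans ?_)⟩
    ring
  -- the `p`-part acts on them
  set T := Subgroup.zpowers x with hT
  letI : MulAction T Z :=
    { smul := fun t q => ⟨(t : G) • q.1, by
        obtain ⟨g, hg, hq⟩ := q.2
        exact ⟨(t : G) * g, mul_mem ((Subgroup.zpowers_le.2 hxN) t.2) hg, by rw [← hq]; rfl⟩⟩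
      one_smul := fun q => Subtype.ext (one_smul G q.1)
      mul_smul := fun s t q => Subtype.ext (mul_smul (s : G) (t : G) q.1) }
  have htriv : ∀ q : Z, x ^ b • q.1 = q.1 := by
    rintro ⟨q, g, hg, rfl⟩
    show ((x ^ b * g : G) : G ⧸ H) = _
    rw [eq_comm, QuotientGroup.eq, ← mul_assoc]
    refine le_sup_left (b := S') ?_
    have := (Subgroup.mem_normalizer_iff.1 (inv_mem hg) (x ^ b)).1 (Subgroup.mem_zpowers _)
    simpa using this
  let Xp := Subgroup.zpowers (⟨xp, Subgroup.pow_mem _ (Subgroup.mem_zpowers x) a⟩ : T)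
  have hXp : IsPGroup p Xp := IsPGroup.of_card (n := (orderOf xp).factorization p) (by
    obtain ⟨j, -, hj⟩ := (Nat.dvd_prime_pow hp).1 (orderOf_dvd_of_pow_eq_one hxpp)
    rw [Nat.card_zpowers, Subgroup.orderOf_mk, hj, hp.factorization_pow, Finsupp.single_eq_same])
  have hkey : ∀ q : Z, x • q.1 = q.1 ↔ xp • q.1 = q.1 := by
    intro q
    refine ⟨fun h => ?_, fun h => ?_⟩
    · have := Subgroup.pow_mem (MulAction.stabilizer G q.1) (MulAction.mem_stabilizer_iff.2 h) a
      exact MulAction.mem_stabilizer_iff.1 this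
    · obtain hcop' : Nat.Coprime a b := ((hp.coprime_iff_not_dvd).2 hane).symm.pow_right _
      have h1 : x ^ Nat.gcd a b ∈ MulAction.stabilizer G q.1 := by
        rw [← zpow_natCast, Nat.gcd_eq_gcd_ab, zpow_add, zpow_mul, zpow_mul, zpow_natCast,
          zpow_natCast]
        exact mul_mem (Subgroup.zpow_mem _ (MulAction.mem_stabilizer_iff.2 h) _)
          (Subgroup.zpow_mem _ (MulAction.mem_stabilizer_iff.2 (htriv q)) _)
      rw [hcop'.gcd_eq_one, pow_one] at h1
      exact MulAction.mem_stabilizer_iff.1 h1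
  have hmod := hXp.card_modEq_card_fixedPoints Z
  have hY : Nat.card (MulAction.fixedPoints Xp Z) = Nat.card Y := by
    refine Nat.card_congr
      { toFun := fun q => ⟨q.1.1, (hkey q.1).2 (congrArg Subtype.val
          (q.2 ⟨_, Subgroup.mem_zpowers _⟩))⟩
        invFun := fun q => ⟨⟨q.1, by
          obtain ⟨g, hg⟩ := QuotientGroup.mk_surjective q.1
          exact ⟨g, hgN g ((hfix g).1 (by rw [hg]; exact q.2)), hg⟩⟩, fun s => Subtype.ext (by
            show ((s : T) : G) • q.1 = q.1
            have h1 : ((s : T) : G) ∈ Subgroup.zpowers x := (s : T).2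
            exact MulAction.mem_stabilizer_iff.1
              ((Subgroup.zpowers_le.2 (MulAction.mem_stabilizer_iff.2 q.2)) h1))⟩
        left_inv := fun q => rfl
        right_inv := fun q => rfl }
  rw [hY] at hmod
  intro hd
  exact hcop (Nat.modEq_zero_iff_dvd.1 (hmod.trans (Nat.modEq_zero_iff_dvd.2 hd)))

/-- The additive span of quasi-elementary permutation characters. -/
noncomputable def permSpan (p : ℕ) : AddSubgroup (G → ℂ) :=
  AddSubgroup.closure {f | ∃ H : Subgroup G, QE p H ∧ f = indFun H (fun _ => 1)}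

theorem perm_mem {p : ℕ} {H : Subgroup G} (h : QE p H) :
    indFun H (fun _ => (1 : ℂ)) ∈ permSpan (G := G) p :=
  AddSubgroup.subset_closure ⟨H, h, rfl⟩

theorem permSpan_mul {p : ℕ} {f g : G → ℂ} (hf : f ∈ permSpan (G := G) p)
    (hg : g ∈ permSpan (G := G) p) : f * g ∈ permSpan (G := G) p := by
  classical
  induction hf using AddSubgroup.closure_induction with
  | mem f hf =>
    obtain ⟨H, hH, rfl⟩ := hf
    induction hg using AddSubgroup.closure_induction with
    | mem g hg =>
      obtain ⟨K, -, rfl⟩ := hg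
      obtain ⟨a, ha, he⟩ := mul_perm H K
      rw [he]
      refine AddSubgroup.sum_mem _ fun U _ => ?_
      by_cases h0 : a U = 0
      · simp [h0, zero_mem]
      · rw [Nat.cast_smul_eq_nsmul ℂ]
        exact AddSubgroup.nsmul_mem _ (perm_mem (hH.mono (ha U h0))) _
    | zero => rw [mul_zero]; exact zero_mem _
    | add u v _ _ hu hv => rw [mul_add]; exact add_mem hu hv
    | neg u _ hu => rw [mul_neg]; exact neg_mem hu
  | zero => rw [zero_mul]; exact zero_mem _
  | add u v _ _ hu hv => rw [add_mul]; exact add_mem hu hv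
  | neg u _ hu => rw [neg_mul]; exact neg_mem hu

/-- Solomon's local statement. -/
theorem exists_const_mem (p : ℕ) [Fact p.Prime] :
    ∃ m : ℤ, ¬ (p : ℤ) ∣ m ∧ (fun _ : G => (m : ℂ)) ∈ permSpan (G := G) p := by
  classical
  suffices H : ∀ s : Finset G, ∃ (m : ℤ) (r : G → ℂ), ¬ (p : ℤ) ∣ m ∧
      r ∈ permSpan (G := G) p ∧ ∀ x ∈ s, r x = m by
    obtain ⟨m, r, hm, hr, he⟩ := H Finset.univ
    exact ⟨m, hm, (funext fun x => he x (Finset.mem_univ x) : r = fun _ => (m : ℂ)) ▸ hr⟩
  intro s
  induction s using Finset.induction with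
  | empty =>
    exact ⟨1, 0, fun h => (Fact.out : p.Prime).not_dvd_one (Int.natCast_dvd_natCast.1 h),
      zero_mem _, fun x hx => absurd hx (Finset.notMem_empty x)⟩
  | insert a s _ ih =>
    obtain ⟨m, r, hm, hr, he⟩ := ih
    obtain ⟨H, hH, n, hn, hnp⟩ := exists_perm_not_dvd a p
    refine ⟨m * n, (m • indFun H (fun _ => (1 : ℂ))) + (n • r) - r * indFun H (fun _ => 1),
      fun h => ?_, ?_, fun x hx => ?_⟩
    · rcases (Nat.prime_iff_prime_int.1 (Fact.out : p.Prime)).dvd_or_dvd h with h1 | h1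
      · exact hm h1
      · exact hnp (Int.natCast_dvd_natCast.1 h1)
    · exact sub_mem (add_mem (AddSubgroup.zsmul_mem _ (perm_mem hH) _)
        (AddSubgroup.nsmul_mem _ hr _)) (permSpan_mul hr (perm_mem hH))
    · simp only [Pi.sub_apply, Pi.add_apply, Pi.mul_apply, zsmul_eq_mul, nsmul_eq_mul,
        Pi.intCast_apply, Pi.natCast_apply]
      rcases Finset.mem_insert.1 hx with rfl | hx
      · rw [hn]; push_cast; ring
      · rw [he x hx]; push_cast; ring

theorem exists_coeff {p : ℕ} {f : G → ℂ} (hf : f ∈ permSpan (G := G) p) :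
    ∃ a : Subgroup G → ℤ, (∀ H, a H ≠ 0 → QE p H) ∧
      f = ∑ H : Subgroup G, (a H : ℂ) • indFun H (fun _ => 1) := by
  classical
  induction hf using AddSubgroup.closure_induction with
  | mem f hf =>
    obtain ⟨H, hH, rfl⟩ := hf
    refine ⟨fun K => if K = H then 1 else 0, fun K hK => ?_, ?_⟩
    · have : K = H := by by_contra h; exact hK (if_neg h)
      rwa [this]
    · rw [Finset.sum_eq_single H (fun K _ h => by simp [h]) (by simp)]
      simp
  | zero => exact ⟨0, fun K h => absurd rfl h, by simp⟩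
  | add u v _ _ hu hv =>
    obtain ⟨a, ha, rfl⟩ := hu
    obtain ⟨c, hc, rfl⟩ := hv
    refine ⟨a + c, fun K hK => ?_, ?_⟩
    · by_cases h : a K = 0
      · exact hc K (by simpa [h] using hK)
      · exact ha K h
    · rw [← Finset.sum_add_distrib]
      exact Finset.sum_congr rfl fun K _ => by rw [Pi.add_apply]; push_cast; rw [add_smul]
  | neg u _ hu =>
    obtain ⟨a, ha, rfl⟩ := hu
    refine ⟨-a, fun K hK => ha K (by simpa using hK), ?_⟩
    rw [← Finset.sum_neg_distrib]
    exact Finset.sum_congr rfl fun K _ => by rw [Pi.neg_apply]; push_cast; rw [neg_smul]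

end Cfsg.Agent.Char.Brauer
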