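import Cfsg.Agent.Lib.Char.TwoDegrees
import Cfsg.Agent.S4456
import Cfsg.Agent.S0855
import Cfsg.Agent.Lib.Char.BrauerInduction

/-!
Groups with two irreducible character degrees: the dichotomy, and monomiality.
-/

namespace Cfsg.Agent.Char.TwoDeg

open scoped ComplexConjugate commutatorElement
open Cfsg Cfsg.Agent.Char

universe u

theorem deg_pos {G : Type u} [Group G] [Finite G] (χ : IrrCharacter G) :
    0 < charDegree (χ : G → ℂ) :=
  Nat.pos_of_ne_zero fun h0 => IsIrr.one_ne_zero χ.2 (by rw [PIto.charDeg_cast, h0, Nat.cast_zero])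

theorem eq_one_of_comm {G : Type u} [Group G] [Finite G] (hab : ∀ a b : G, a * b = b * a)
    (χ : IrrCharacter G) : charDegree (χ : G → ℂ) = 1 :=
  PIto.charDeg_eq (by rw [IsIrr.one_of_comm hab χ.2, Nat.cast_one])

theorem comm_of_linear {G : Type u} [Group G] [Finite G]
    (h : ∀ χ : IrrCharacter G, charDegree (χ : G → ℂ) = 1) (a b : G) : a * b = b * a := by
  have h1 : b * a * b⁻¹ = a := (PIto.eq_of_linear (fun χ => by rw [PIto.charDeg_cast, h χ, Nat.cast_one])
    (isConj_iff.2 ⟨b, rfl⟩ : IsConj a (b * a * b⁻¹))).symm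
  exact (mul_inv_eq_iff_eq_mul.1 h1).symm

theorem index_inf_dvd {G : Type u} [Group G] (A B : Subgroup G) [A.Normal] :
    (A ⊓ B).index ∣ A.index * B.index := by
  rw [← Subgroup.relIndex_mul_index (inf_le_right : A ⊓ B ≤ B), Subgroup.inf_relIndex_right]
  exact mul_dvd_mul_right (Subgroup.relIndex_dvd_index_of_normal A B) _

/-- The two alternatives. -/
theorem dichotomy {G : Type u} [Group G] [Finite G] {m : ℕ}
    (hcd : ∀ χ : IrrCharacter G, charDegree (χ : G → ℂ) = 1 ∨ charDegree (χ : G → ℂ) = m)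
    (hm : ∃ χ : IrrCharacter G, charDegree (χ : G → ℂ) = m) (hm1 : m ≠ 1) :
    (∃ C : Subgroup G, C.Normal ∧ (∀ a ∈ C, ∀ b ∈ C, a * b = b * a) ∧ C.index = m ∧
      commutator G ≤ C) ∨
    ∃ p e : ℕ, p.Prime ∧ m = p ^ e ∧ ∃ A : Subgroup G, A.Normal ∧ A ≤ Subgroup.center G ∧
      (Nat.card A).Coprime A.index ∧ ∃ k, A.index = p ^ k := by
  classical
  obtain ⟨χ₀, hχ₀⟩ := hm
  have hm0 : 0 < m := hχ₀ ▸ deg_pos χ₀
  by_cases hpp : ∃ p e : ℕ, p.Prime ∧ m = p ^ e
  · obtain ⟨p, e, hp, he⟩ := hpp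
    obtain ⟨A, hA, hab, hcop, k, hk⟩ := (Cfsg.Agent.S0855.result (G := G) p hp).1 fun χ => by
      rw [PIto.charDeg_cast χ]
      rcases hcd χ with h | h
      · exact ⟨0, by rw [h]; simp⟩
      · exact ⟨e, by rw [h, he]; push_cast; rfl⟩
    haveI := hA
    have hcop' : (Nat.card A).Coprime A.index := by rw [hk]; exact hcop.pow_right k
    rcases central_or_index hcd hab hcop' with h | h
    · exact Or.inr ⟨p, e, hp, he, A, hA, h, hcop', k, hk⟩
    · exact Or.inl h
  push Not at hpp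
  refine Or.inl ?_
  have hK : ∀ q ∈ m.primeFactors, ∃ N : Subgroup G, N.Normal ∧ (Nat.card N).Coprime q ∧
      commutator G ≤ N ∧ ∀ r : ℕ, r.Prime → r ∣ N.index → r = q := by
    intro q hq
    have hqp := Nat.prime_of_mem_primeFactors hq
    obtain ⟨N, hN, hNc, k, hNk⟩ := Cfsg.Agent.S4456.result (G := G) q hqp fun χ hχ => by
      rw [(hcd χ).resolve_left hχ]
      exact Nat.dvd_of_mem_primeFactors hq
    haveI := hN
    refine ⟨N, hN, hNc, ?_, fun r hr hrd => ?_⟩
    · have hlin : ∀ β : IrrCharacter (G ⧸ N), charDegree (β : G ⧸ N → ℂ) = 1 := by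
        intro β
        let χ : IrrCharacter G := ⟨_, IsIrr.comp_surjective (QuotientGroup.mk' N)
          (QuotientGroup.mk'_surjective N) β.2⟩
        have hd : charDegree (χ : G → ℂ) = charDegree (β : G ⧸ N → ℂ) := PIto.charDeg_eq (by
          show (β : G ⧸ N → ℂ) (QuotientGroup.mk' N 1) = _
          rw [map_one, PIto.charDeg_cast])
        rcases hcd χ with h | h
        · exact hd.symm.trans h
        exfalso
        letI := Fintype.ofFinite (G ⧸ N)
        haveI := Fact.mk hqp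
        haveI : Fintype (⊥ : Subgroup (G ⧸ N)) := Fintype.ofFinite _
        obtain ⟨θ, hθ⟩ := IsChar.exists_constituent'
          (IsChar.res (IsIrr.isCharacter β.2) (⊥ : Subgroup (G ⧸ N))) (IsIrr.one_ne_zero β.2)
        obtain ⟨e, he, hed⟩ := Ext.ratio_dvd_index' β.2 θ.2 hθ
        rw [IsIrr.one_of_comm (fun a b => Subsingleton.elim _ _) θ.2, mul_one] at he
        rw [Subgroup.index_bot, ← Subgroup.index, hNk] at hed
        obtain ⟨j, -, hj⟩ := (Nat.dvd_prime_pow hqp).1 hed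
        exact hpp q j hqp (by rw [← h, hd, PIto.charDeg_eq he, hj])
      intro g hg
      rw [← QuotientGroup.eq_one_iff]
      letI : CommGroup (G ⧸ N) := { (inferInstance : Group (G ⧸ N)) with mul_comm := comm_of_linear hlin }
      exact MonoidHom.mem_ker.1 (Abelianization.commutator_subset_ker (QuotientGroup.mk' N) hg)
    · rw [hNk] at hrd
      exact (Nat.prime_dvd_prime_iff_eq hr hqp).1 (hr.dvd_of_dvd_pow hrd)
  choose! F hFn hFc hFG hFi using hK
  obtain ⟨K, hKn, hKG, hKi, hKle⟩ : ∃ K : Subgroup G, K.Normal ∧ commutator G ≤ K ∧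
      (∀ r : ℕ, r.Prime → r ∣ K.index → r ∈ m.primeFactors) ∧ ∀ q ∈ m.primeFactors, K ≤ F q := by
    suffices h : ∀ s ⊆ m.primeFactors, ∃ K : Subgroup G, K.Normal ∧ commutator G ≤ K ∧
        (∀ r : ℕ, r.Prime → r ∣ K.index → r ∈ m.primeFactors) ∧ ∀ q ∈ s, K ≤ F q from h _ le_rfl
    intro s
    induction s using Finset.induction_on with
    | empty =>
      exact fun _ => ⟨⊤, inferInstance, le_top, fun r hr h => absurd h (by simp [hr.ne_one]), by simp⟩
    | @insert q s _ ih =>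
      intro hs
      rw [Finset.insert_subset_iff] at hs
      obtain ⟨K, hKn, hKG, hKi, hKle⟩ := ih hs.2
      haveI := hFn q hs.1
      haveI := hKn
      refine ⟨F q ⊓ K, Subgroup.normal_inf_normal _ _, le_inf (hFG q hs.1) hKG, fun r hr h => ?_, fun r hr => ?_⟩
      · rcases hr.dvd_mul.1 (h.trans (index_inf_dvd (F q) K)) with h1 | h1
        · exact hFi q hs.1 r hr h1 ▸ hs.1
        · exact hKi r hr h1
      · rcases Finset.mem_insert.1 hr with rfl | hr
        · exact inf_le_left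
        · exact inf_le_right.trans (hKle r hr)
  haveI := hKn
  have hKm : (Nat.card K).Coprime m := by
    refine Nat.coprime_of_dvd fun r hr h1 h2 => ?_
    have hrm := hr.mem_primeFactors h2 hm0.ne'
    exact hr.ne_one (Nat.eq_one_of_dvd_coprimes (hFc r hrm)
      (h1.trans (Subgroup.card_dvd_of_le (hKle r hrm))) dvd_rfl)
  have hKab : ∀ a ∈ K, ∀ b ∈ K, a * b = b * a := by
    intro a ha b hb
    refine congrArg Subtype.val (comm_of_linear (fun θ : IrrCharacter K => ?_) ⟨a, ha⟩ ⟨b, hb⟩)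
    obtain ⟨χ, hdvd, -⟩ := sub_deg_dvd (G := G) θ
    rcases hcd χ with h | h
    · exact Nat.dvd_one.1 (h ▸ hdvd)
    · letI := Fintype.ofFinite K
      haveI : Fintype (⊥ : Subgroup K) := Fintype.ofFinite _
      obtain ⟨ψ, hψ⟩ := IsChar.exists_constituent'
        (IsChar.res (IsIrr.isCharacter θ.2) (⊥ : Subgroup K)) (IsIrr.one_ne_zero θ.2)
      obtain ⟨e, he, hed⟩ := Ext.ratio_dvd_index' θ.2 ψ.2 hψ
      rw [IsIrr.one_of_comm (fun a b => Subsingleton.elim _ _) ψ.2, mul_one] at he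
      rw [Subgroup.index_bot, ← PIto.charDeg_eq he] at hed
      exact Nat.eq_one_of_dvd_coprimes hKm hed (h ▸ hdvd)
  have hcop : (Nat.card K).Coprime K.index := by
    refine Nat.coprime_of_dvd fun r hr h1 h2 => ?_
    exact hr.ne_one (Nat.eq_one_of_dvd_coprimes hKm h1 (Nat.dvd_of_mem_primeFactors (hKi r hr h2)))
  refine (central_or_index hcd hKab hcop).resolve_left fun hcen => hm1 ?_
  obtain ⟨H, hH⟩ := Subgroup.exists_right_complement'_of_coprime hcop
  have hHab : ∀ a ∈ H, ∀ b ∈ H, a * b = b * a := by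
    intro a ha b hb
    rw [← commutatorElement_eq_one_iff_mul_comm, ← Subgroup.mem_bot, ← hH.disjoint.eq_bot]
    refine ⟨hKG ?_, ?_⟩
    · rw [commutator_def]
      exact Subgroup.commutator_mem_commutator (Subgroup.mem_top a) (Subgroup.mem_top b)
    · rw [commutatorElement_def]
      exact H.mul_mem (H.mul_mem (H.mul_mem ha hb) (H.inv_mem ha)) (H.inv_mem hb)
  have hGab : ∀ a b : G, a * b = b * a := by
    intro a b
    obtain ⟨⟨⟨k, hk⟩, ⟨h, hh⟩⟩, rfl⟩ := (hH.existsUnique a).exists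
    obtain ⟨⟨⟨k', hk'⟩, ⟨h', hh'⟩⟩, rfl⟩ := (hH.existsUnique b).exists
    have e1 : ∀ g, Commute k g := fun g => (Subgroup.mem_center_iff.1 (hcen hk) g).symm
    have e2 : ∀ g, Commute g k' := fun g => Subgroup.mem_center_iff.1 (hcen hk') g
    exact (((e1 k').mul_right (e1 h')).mul_left ((e2 h).mul_right (hHab h hh h' hh'))).eq
  exact hχ₀.symm.trans (eq_one_of_comm hGab χ₀)

/-- Nilpotent groups with two degrees are metabelian. -/
theorem derived_abelian_of_nilpotent {G : Type u} [Group G] [Finite G] (hnil : Group.IsNilpotent G)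
    {m : ℕ}
    (hcd : ∀ χ : IrrCharacter G, charDegree (χ : G → ℂ) = 1 ∨ charDegree (χ : G → ℂ) = m) :
    ∀ a ∈ commutator G, ∀ b ∈ commutator G, a * b = b * a := by
  classical
  letI := Fintype.ofFinite G
  intro a ha b hb
  rw [← commutatorElement_eq_one_iff_mul_comm]
  refine isConj_one_left.mp ((isConj_iff_irr _ 1).mpr fun χ => ?_)
  obtain ⟨H, l, hl⟩ := Brauer.monomial hnil χ.2
  letI := Fintype.ofFinite H
  have hd : charDegree (χ : G → ℂ) = H.index := PIto.charDeg_eq (by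
    rw [hl, indFun_one_eq, map_one, Units.val_one, mul_one])
  have hGH : commutator G ≤ H := by
    rcases hcd χ with h | h
    · rw [hd, Subgroup.index_eq_one] at h
      rw [h]; exact le_top
    · exact commutator_le_of_index hcd (hd.symm.trans h)
  rw [hl]
  have key : ∀ x : G, x⁻¹ * ⁅a, b⁆ * x ∈ H ∧
      extendByZero H (fun h => (l h : ℂ)) (x⁻¹ * ⁅a, b⁆ * x) = 1 := by
    intro x
    have ha' : x⁻¹ * a * x ∈ H := hGH (by
      simpa using Subgroup.Normal.conj_mem inferInstance a ha x⁻¹)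
    have hb' : x⁻¹ * b * x ∈ H := hGH (by
      simpa using Subgroup.Normal.conj_mem inferInstance b hb x⁻¹)
    have e1 : x⁻¹ * ⁅a, b⁆ * x = ((⁅(⟨_, ha'⟩ : H), ⟨_, hb'⟩⁆ : H) : G) := by
      simp only [commutatorElement_def, Subgroup.coe_mul, Subgroup.coe_inv]
      group
    refine ⟨e1 ▸ Subtype.coe_prop _, ?_⟩
    rw [e1, extendByZero_apply]
    refine (congrArg Units.val (?_ : l ⁅(⟨_, ha'⟩ : H), ⟨_, hb'⟩⁆ = 1)).trans Units.val_one
    exact (map_commutatorElement l _ _).trans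
      (commutatorElement_eq_one_iff_mul_comm.2 (mul_comm _ _))
  show (Nat.card H : ℂ)⁻¹ * _ = (Nat.card H : ℂ)⁻¹ * _
  congr 1
  refine Finset.sum_congr rfl fun x _ => ?_
  rw [(key x).2, mul_one, inv_mul_cancel, extendByZero_of_mem _ (one_mem _)]
  exact congrArg Units.val (map_one l).symm

theorem nilpotent_of_central {G : Type u} [Group G] [Finite G] {p k : ℕ} (hp : p.Prime)
    {A : Subgroup G} [A.Normal] (hA : A ≤ Subgroup.center G) (hk : A.index = p ^ k) :
    Group.IsNilpotent G := by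
  haveI := Fact.mk hp
  haveI : Group.IsNilpotent (G ⧸ A) :=
    (IsPGroup.of_card (p := p) (n := k) (by rw [← hk]; rfl)).isNilpotent
  exact Subgroup.isNilpotent_of_ker_le_center (QuotientGroup.mk' A) (by rwa [QuotientGroup.ker_mk'])

end Cfsg.Agent.Char.TwoDeg
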