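import Cfsg.Agent.Lib.Char.PSolvableIto
import Cfsg.Agent.Lib.Char.ExtendMain
import Cfsg.Agent.Lib.Char.CliffordCorr

/-!
Groups with two irreducible character degrees: the action on the linear characters of an abelian
normal Hall subgroup.
-/

namespace Cfsg.Agent.Char.TwoDeg

open scoped ComplexConjugate commutatorElement
open Cfsg Cfsg.Agent.Char

universe u

variable {G : Type u} [Group G] {K : Subgroup G} [hK : K.Normal]

theorem div_swap {A : Type*} [CommGroup A] {a b c d : A} (h : a * b = c * d) :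
    a * c⁻¹ = d * b⁻¹ := by
  rw [eq_mul_inv_iff_mul_eq, mul_right_comm, h, mul_right_comm, mul_inv_cancel, one_mul]

theorem eq_one_of_pows {A : Type*} [Group A] {a : A} {i j : ℕ} (hij : i.Coprime j) (hi : a ^ i = 1)
    (hj : a ^ j = 1) : a = 1 :=
  orderOf_eq_one_iff.1 (Nat.eq_one_of_dvd_coprimes hij (orderOf_dvd_iff_pow_eq_one.2 hi)
    (orderOf_dvd_iff_pow_eq_one.2 hj))

/-- The conjugate of a linear character of a normal subgroup. -/
def cj (g : G) (μ : K →* ℂˣ) : K →* ℂˣ :=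
  μ.comp (MulAut.conjNormal g : MulAut K).toMonoidHom

theorem cj_apply (g : G) (μ : K →* ℂˣ) (k : K) :
    cj g μ k = μ ⟨g * k * g⁻¹, hK.conj_mem (k : G) k.2 g⟩ :=
  congrArg μ (Subtype.ext (MulAut.conjNormal_apply g k))

theorem cj_one (μ : K →* ℂˣ) : cj (1 : G) μ = μ :=
  MonoidHom.ext fun k => by rw [cj_apply]; exact congrArg μ (Subtype.ext (by simp))

theorem cj_cj (a b : G) (μ : K →* ℂˣ) : cj b (cj a μ) = cj (a * b) μ :=
  MonoidHom.ext fun k => by
    simp only [cj_apply]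
    exact congrArg μ (Subtype.ext (by simp [mul_assoc]))

theorem cj_mul (g : G) (μ ν : K →* ℂˣ) : cj g (μ * ν) = cj g μ * cj g ν :=
  MonoidHom.ext fun k => by simp [cj_apply]

theorem cj_inv (g : G) (μ : K →* ℂˣ) : cj g μ⁻¹ = (cj g μ)⁻¹ :=
  MonoidHom.ext fun k => by simp [cj_apply]

theorem cj_mem_self {k₀ : G} (hk₀ : k₀ ∈ K) (μ : K →* ℂˣ) : cj k₀ μ = μ :=
  MonoidHom.ext fun k => by
    rw [cj_apply]
    have h : μ (⟨k₀, hk₀⟩ * k * (⟨k₀, hk₀⟩)⁻¹) = μ k := by
      rw [map_mul, map_mul, map_inv, mul_comm, inv_mul_cancel_left]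
    exact (congrArg μ (Subtype.ext (by simp))).trans h

/-- The stabilizer of a linear character. -/
def stabL (μ : K →* ℂˣ) : Subgroup G where
  carrier := {g | cj g μ = μ}
  one_mem' := cj_one μ
  mul_mem' {a b} (ha hb : _ = _) := by rw [Set.mem_setOf_eq, ← cj_cj, ha, hb]
  inv_mem' {a} (ha : cj a μ = μ) := by
    show cj a⁻¹ μ = μ
    conv_lhs => rw [← ha]
    rw [cj_cj, mul_inv_cancel, cj_one]

theorem mem_stabL {g : G} {μ : K →* ℂˣ} : g ∈ stabL μ ↔ cj g μ = μ := Iff.rfl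

theorem le_stabL (μ : K →* ℂˣ) : K ≤ stabL μ := fun _ hk => cj_mem_self hk μ

theorem stabL_eq_inertia [Fintype G] (μ : K →* ℂˣ) :
    stabL μ = inertia K (fun k : K => (μ k : ℂ)) := by
  ext g
  rw [mem_stabL, mem_inertia]
  constructor
  · intro h
    funext k
    rw [conjN_apply]
    exact congrArg Units.val ((cj_apply g μ k).symm.trans (DFunLike.congr_fun h k))
  · intro h
    refine MonoidHom.ext fun k => Units.ext ?_
    rw [cj_apply]
    exact congrFun h k

variable [Finite G]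

theorem mem_centralizer_of_fix (hab : ∀ a ∈ K, ∀ b ∈ K, a * b = b * a) {g : G}
    (h : ∀ μ : K →* ℂˣ, cj g μ = μ) : g ∈ Subgroup.centralizer (K : Set G) := by
  rw [Subgroup.mem_centralizer_iff]
  intro k hk
  have h1 : (⟨g * k * g⁻¹, hK.conj_mem k hk g⟩ : K) * (⟨k, hk⟩)⁻¹ = 1 := by
    refine eq_one_of_forall_linear (fun a b => Subtype.ext (hab a a.2 b b.2)) fun μ => ?_
    rw [map_mul, map_inv, mul_inv_eq_one, ← cj_apply g μ ⟨k, hk⟩, h μ]
  have h2 : g * k * g⁻¹ * k⁻¹ = 1 := congrArg Subtype.val h1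
  rw [mul_inv_eq_one, mul_inv_eq_iff_eq_mul] at h2
  exact h2.symm

/-- A subgroup whose coset character has only linear constituents contains the derived group. -/
theorem commutator_le_of_index {m : ℕ}
    (hcd : ∀ χ : IrrCharacter G, charDegree (χ : G → ℂ) = 1 ∨ charDegree (χ : G → ℂ) = m)
    {T : Subgroup G} (hT : T.index = m) : commutator G ≤ T := by
  classical
  letI := Fintype.ofFinite G
  letI := Fintype.ofFinite T
  set π := indFun T (fun _ => (1 : ℂ))
  have hπ : IsCharacter G π := isCharacter_indFun T (IsIrr.isCharacter isIrr_one)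
  obtain ⟨a, ha, hd⟩ := IsChar.exists_decomp_inner hπ
  have h1 : π 1 = (m : ℂ) := by
    show indFun T _ 1 = _
    rw [indFun_one_eq, mul_one, hT]
  let one' : IrrCharacter G := ⟨fun _ => 1, isIrr_one⟩
  have ha1 : a one' = 1 := by
    have h2 := ha one'
    rw [classInner_indFun T _ (IsIrr.classFun one'.2)] at h2
    have h3 : classInner (fun _ : T => (1 : ℂ)) (fun y : T => (one' : G → ℂ) y) = 1 :=
      classInner_self_irr (isIrr_one (G := T))
    rw [h3] at h2
    exact_mod_cast h2.symm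
  have hlin : ∀ φ : IrrCharacter G, a φ ≠ 0 → charDegree (φ : G → ℂ) = 1 := by
    intro φ hφ
    by_cases hφ1 : φ = one'
    · have h2 := PIto.charDeg_cast φ
      rw [hφ1] at h2 ⊢
      exact (Nat.cast_injective (R := ℂ) (h2.symm.trans (show (one' : G → ℂ) 1 = ((1 : ℕ) : ℂ) by
        simp [one'])))
    refine (hcd φ).resolve_right fun hm => ?_
    have h2 := congrFun hd 1
    rw [sum_irr_apply, h1] at h2
    simp only [PIto.charDeg_cast] at h2
    have h3 : m = ∑ ψ, a ψ * charDegree (ψ : G → ℂ) := by exact_mod_cast h2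
    rw [← Finset.add_sum_erase _ _ (Finset.mem_univ one'), ha1] at h3
    have h4 : m ≤ ∑ ψ ∈ Finset.univ.erase one', a ψ * charDegree (ψ : G → ℂ) := by
      refine le_trans ?_ (Finset.single_le_sum (f := fun ψ : IrrCharacter G =>
        a ψ * charDegree (ψ : G → ℂ)) (fun _ _ => Nat.zero_le _)
        (Finset.mem_erase.2 ⟨hφ1, Finset.mem_univ φ⟩))
      show m ≤ a φ * charDegree (φ : G → ℂ)
      rw [hm]
      exact Nat.le_mul_of_pos_left m (Nat.pos_of_ne_zero hφ)
    have h5 : 0 < charDegree (one' : G → ℂ) := by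
      have h6 := PIto.charDeg_cast one'
      refine Nat.pos_of_ne_zero fun h0 => ?_
      rw [h0] at h6
      simp [one'] at h6
    omega
  intro g hg
  have hval : π g = π 1 := by
    rw [hd, sum_irr_apply, sum_irr_apply]
    refine Finset.sum_congr rfl fun φ _ => ?_
    by_cases hφ : a φ = 0
    · simp [hφ]
    obtain ⟨l, hl⟩ := linearHom_of_isCharacter (IsIrr.isCharacter φ.2)
      (by rw [PIto.charDeg_cast, hlin φ hφ, Nat.cast_one])
    have h3 : l g = 1 := MonoidHom.mem_ker.1 (Abelianization.commutator_subset_ker l hg)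
    simp [hl, h3]
  by_contra hgT
  have hlt : (∑ x : G, extendByZero T (fun _ => (1 : ℂ)) (x * g * x⁻¹)).re <
      (Fintype.card G : ℝ) := by
    rw [Complex.re_sum, ← Finset.card_univ, ← nsmul_one (Finset.univ : Finset G).card, ← Finset.sum_const]
    refine Finset.sum_lt_sum (fun x _ => ?_) ⟨1, Finset.mem_univ _, ?_⟩
    · by_cases hx : x * g * x⁻¹ ∈ T
      · rw [extendByZero_of_mem _ hx]; simp
      · rw [extendByZero_not_mem _ hx]; simp
    · rw [one_mul, inv_one, mul_one, extendByZero_not_mem _ hgT]; simp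
  rw [h1, ← hT] at hval
  have h7 : (∑ x : G, extendByZero T (fun _ => (1 : ℂ)) (x * g * x⁻¹)) = (Nat.card G : ℂ) := by
    have h8 : π g = (Nat.card T : ℂ)⁻¹ * ∑ x : G, extendByZero T (fun _ => (1 : ℂ)) (x * g * x⁻¹) := by
      show (Nat.card T : ℂ)⁻¹ * ∑ x : G, extendByZero T (fun _ => (1 : ℂ)) (x⁻¹ * g * x) = _
      congr 1
      exact Fintype.sum_equiv (Equiv.inv G) _ _ fun x => by simp
    rw [h8, inv_mul_eq_iff_eq_mul₀ (Nat.cast_ne_zero.2 Nat.card_pos.ne')] at hval
    rw [hval, ← Nat.cast_mul, Subgroup.card_mul_index]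
  rw [h7, Complex.natCast_re, Nat.card_eq_fintype_card] at hlt
  exact lt_irrefl _ hlt

/-- A linear character moved by the group: its stabilizer. -/
theorem stab_data {m : ℕ}
    (hcd : ∀ χ : IrrCharacter G, charDegree (χ : G → ℂ) = 1 ∨ charDegree (χ : G → ℂ) = m)
    (hcop : (Nat.card K).Coprime K.index) (μ : K →* ℂˣ) (hμ : stabL μ ≠ ⊤) :
    (stabL μ).index = m ∧ commutator G ≤ stabL μ ∧
      ∀ a ∈ stabL μ, ∀ b ∈ stabL μ, ⁅a, b⁆ ∈ K := by
  classical
  letI := Fintype.ofFinite G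
  letI := Fintype.ofFinite K
  set T := stabL μ with hT
  letI := Fintype.ofFinite T
  haveI : (K.subgroupOf T).Normal := Subgroup.Normal.subgroupOf inferInstance _
  letI := Fintype.ofFinite (K.subgroupOf T)
  let μ' : K.subgroupOf T →* ℂˣ :=
    μ.comp (Subgroup.subgroupOfEquivOfLe (le_stabL μ)).toMonoidHom
  have hidxT : (K.subgroupOf T).index ∣ K.index := by
    rw [← Subgroup.relIndex]
    exact Subgroup.relIndex_dvd_index_of_le (le_stabL μ)
  have hcard : Nat.card (K.subgroupOf T) = Nat.card K :=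
    Nat.card_congr (Subgroup.subgroupOfEquivOfLe (le_stabL μ)).toEquiv
  have hcopT : Nat.Coprime (K.subgroupOf T).index (orderOf (detChar fun x => (μ' x : ℂ)) * 1) := by
    rw [mul_one, detChar_linear, orderOf_unitsFun]
    refine Nat.Coprime.coprime_dvd_left hidxT (Nat.Coprime.coprime_dvd_right ?_ hcop.symm)
    rw [← hcard, orderOf_dvd_iff_pow_eq_one]
    exact MonoidHom.ext fun x => by
      rw [MonoidHom.pow_apply, ← map_pow, pow_card_eq_one', map_one, MonoidHom.one_apply]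
  obtain ⟨η, hη, hres⟩ := Ext.exists_extension_of_witness (isIrr_linear μ')
    (fun t x => congrArg Units.val (by
      have h := DFunLike.congr_fun (mem_stabL.1 t.2) ⟨((x : T) : G), x.2⟩
      rw [cj_apply] at h
      exact h)) (d := 1) (by simp) fun q hq => Ext.witness_of_coprime (isIrr_linear μ') hcopT hq
  have hη1 : η 1 = 1 := by
    have := hres (1 : K.subgroupOf T)
    simpa using this
  obtain ⟨l, hl⟩ := linearHom_of_isCharacter (IsIrr.isCharacter hη) hη1
  have hlμ : ∀ k : K, (l ⟨(k : G), le_stabL μ k.2⟩ : ℂ) = (μ k : ℂ) := by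
    intro k
    have h := hres (⟨⟨(k : G), le_stabL μ k.2⟩, k.2⟩ : K.subgroupOf T)
    rw [hl] at h
    exact h
  have hTI : T = inertia K (fun k : K => (μ k : ℂ)) := stabL_eq_inertia μ
  have key : ∀ β : IrrCharacter (T ⧸ K.subgroupOf T),
      ∃ χ : IrrCharacter G, (χ : G → ℂ) 1 = (T.index : ℂ) * (β : T ⧸ K.subgroupOf T → ℂ) 1 := by
    intro β
    have hψ : IsIrrCharacter T (fun t => (l t : ℂ) *
        (β : T ⧸ K.subgroupOf T → ℂ) (QuotientGroup.mk' (K.subgroupOf T) t)) :=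
      IsIrr.mul_linear (IsIrr.comp_surjective (QuotientGroup.mk' (K.subgroupOf T))
        (QuotientGroup.mk'_surjective _) β.2) l
    have hne : classInner (fun n : K => (l ⟨(n : G), le_stabL μ n.2⟩ : ℂ) *
        (β : T ⧸ K.subgroupOf T → ℂ) (QuotientGroup.mk' (K.subgroupOf T) ⟨(n : G), le_stabL μ n.2⟩))
        (fun k : K => (μ k : ℂ)) ≠ 0 := by
      have h1 : (fun n : K => (l ⟨(n : G), le_stabL μ n.2⟩ : ℂ) *
          (β : T ⧸ K.subgroupOf T → ℂ) (QuotientGroup.mk' (K.subgroupOf T) ⟨(n : G), le_stabL μ n.2⟩))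
          = ((β : T ⧸ K.subgroupOf T → ℂ) 1) • fun k : K => (μ k : ℂ) := by
        funext n
        rw [Pi.smul_apply, smul_eq_mul, hlμ n, mul_comm]
        refine congrArg (· * _) (congrArg (β : T ⧸ K.subgroupOf T → ℂ) ?_)
        exact (QuotientGroup.eq_one_iff _).2 n.2
      rw [h1, classInner_smul_left, classInner_self_irr (isIrr_linear μ), mul_one]
      exact IsIrr.one_ne_zero β.2
    obtain ⟨h2, -⟩ := Corr.indFun_irr K (isIrr_linear μ) hTI (le_stabL μ) hψ hne
    refine ⟨⟨_, h2⟩, ?_⟩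
    show indFun T _ 1 = _
    rw [indFun_one_eq, map_one l, map_one (QuotientGroup.mk' (K.subgroupOf T)), Units.val_one, one_mul]
  have hidx1 : T.index ≠ 1 := fun h => hμ (Subgroup.index_eq_one.1 h)
  have hm : T.index = m := by
    obtain ⟨χ, hχ⟩ := key ⟨fun _ => 1, isIrr_one⟩
    have h1 : charDegree (χ : G → ℂ) = T.index := PIto.charDeg_eq (by simpa using hχ)
    rcases hcd χ with h | h
    · exact absurd (h1.symm.trans h) hidx1
    · exact h1.symm.trans h
  refine ⟨hm, commutator_le_of_index hcd hm, fun a ha b hb => ?_⟩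
  have hlin : ∀ β : IrrCharacter (T ⧸ K.subgroupOf T), (β : T ⧸ K.subgroupOf T → ℂ) 1 = 1 := by
    intro β
    obtain ⟨χ, hχ⟩ := key β
    rw [PIto.charDeg_cast β, ← Nat.cast_mul] at hχ
    have h1 := PIto.charDeg_eq hχ
    have h0 : 0 < charDegree (χ : G → ℂ) := Nat.pos_of_ne_zero fun h0 =>
      IsIrr.one_ne_zero χ.2 (by rw [PIto.charDeg_cast, h0, Nat.cast_zero])
    rw [PIto.charDeg_cast β]
    rcases hcd χ with h | h
    · exact absurd (Nat.eq_one_of_mul_eq_one_right (h1.symm.trans h)) hidx1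
    · rw [hm] at h1
      rw [h1] at h h0
      have : charDegree (β : T ⧸ K.subgroupOf T → ℂ) = 1 :=
        (mul_eq_left₀ (Nat.pos_of_mul_pos_right h0).ne').1 h
      rw [this, Nat.cast_one]
  let a' : T := ⟨a, ha⟩
  let b' : T := ⟨b, hb⟩
  have h1 : (QuotientGroup.mk' (K.subgroupOf T) (b' * a' * b'⁻¹)) = QuotientGroup.mk' _ a' := by
    refine PIto.eq_of_linear hlin (isConj_iff.2 ⟨(QuotientGroup.mk' (K.subgroupOf T) b')⁻¹, ?_⟩)
    simp [mul_assoc]
  rw [QuotientGroup.mk'_apply, QuotientGroup.mk'_apply, QuotientGroup.eq] at h1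
  have h2 : (b * a * b⁻¹)⁻¹ * a ∈ K := h1
  have h3 := hK.conj_mem _ h2 (b * a)
  rw [show b * a * ((b * a * b⁻¹)⁻¹ * a) * (b * a)⁻¹ = b * a * b * a⁻¹ * b⁻¹ * a * (a⁻¹ * b⁻¹) by
    group] at h3
  have h4 := hK.conj_mem _ h3 b⁻¹
  rw [show b⁻¹ * (b * a * b * a⁻¹ * b⁻¹ * a * (a⁻¹ * b⁻¹)) * b⁻¹⁻¹ = ⁅a, b⁆ by
    rw [commutatorElement_def]; group] at h4
  exact h4

/-- Either the subgroup is central, or its centralizer is abelian of index `m`. -/
theorem central_or_index {m : ℕ}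
    (hcd : ∀ χ : IrrCharacter G, charDegree (χ : G → ℂ) = 1 ∨ charDegree (χ : G → ℂ) = m)
    (hab : ∀ a ∈ K, ∀ b ∈ K, a * b = b * a) (hcop : (Nat.card K).Coprime K.index) :
    K ≤ Subgroup.center G ∨ ∃ C : Subgroup G, C.Normal ∧ (∀ a ∈ C, ∀ b ∈ C, a * b = b * a) ∧
      C.index = m ∧ commutator G ≤ C := by
  classical
  by_cases hall : ∀ μ : K →* ℂˣ, stabL μ = ⊤
  · refine Or.inl fun k hk => Subgroup.mem_center_iff.2 fun g => ?_
    have h := mem_centralizer_of_fix hab (g := g) fun μ =>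
      mem_stabL.1 (by rw [hall μ]; exact Subgroup.mem_top g)
    exact (Subgroup.mem_centralizer_iff.1 h k hk).symm
  push Not at hall
  obtain ⟨μ, hμ⟩ := hall
  refine Or.inr ?_
  obtain ⟨hidx, hG', hcomm⟩ := stab_data hcd hcop μ hμ
  set T := stabL μ
  haveI hTn : T.Normal := ⟨fun t ht g => by
    have h : g * t * g⁻¹ = ⁅g, t⁆ * t := by rw [commutatorElement_def]; group
    rw [h]
    refine mul_mem (hG' ?_) ht
    rw [commutator_def]
    exact Subgroup.commutator_mem_commutator (Subgroup.mem_top g) (Subgroup.mem_top t)⟩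
  obtain ⟨H, hH⟩ := Subgroup.exists_right_complement'_of_coprime hcop
  have hKH : ∀ g : G, ∃ k ∈ K, ∃ h ∈ H, k * h = g := fun g => by
    obtain ⟨⟨k, h⟩, hg⟩ := (hH.existsUnique g).exists
    exact ⟨k, k.2, h, h.2, hg⟩
  set S := T ⊓ H
  letI := Fintype.ofFinite S
  have hS : (Nat.card S).Coprime (Nat.card K) :=
    Nat.Coprime.coprime_dvd_left (Subgroup.card_dvd_of_le inf_le_right)
      (by rw [← Subgroup.IsComplement'.index_eq_card (Subgroup.IsComplement'.symm hH)]; exact hcop.symm)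
  have hpowK : ∀ ν : K →* ℂˣ, ν ^ Nat.card K = 1 := fun ν => MonoidHom.ext fun x => by
    rw [MonoidHom.pow_apply, ← map_pow, pow_card_eq_one', map_one, MonoidHom.one_apply]
  have hfix_of_S : ∀ ν : K →* ℂˣ, (∀ s : S, cj (s : G) ν = ν) → ∀ t ∈ T, cj t ν = ν := by
    intro ν hν t ht
    obtain ⟨k, hk, h, hh, rfl⟩ := hKH t
    rw [← cj_cj, cj_mem_self hk]
    exact hν ⟨h, (Subgroup.mul_mem_cancel_left T (le_stabL μ hk)).1 ht, hh⟩
  let N' : (K →* ℂˣ) → (K →* ℂˣ) := fun ν => ∏ s : S, cj (s : G) ν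
  have hN'mul : ∀ ν ν', N' (ν * ν') = N' ν * N' ν' := fun ν ν' => by
    simp only [N', cj_mul, Finset.prod_mul_distrib]
  have hN'inv : ∀ ν, N' ν⁻¹ = (N' ν)⁻¹ := fun ν => by
    simp only [N', cj_inv]
    exact Finset.prod_inv_distrib (f := fun s : S => cj (s : G) ν)
  have hN'H : ∀ ν, ∀ h ∈ H, N' (cj h ν) = cj h (N' ν) := by
    intro ν h hh
    let e : S ≃ S :=
      { toFun := fun s => ⟨h⁻¹ * s * h, by
          simpa using hTn.conj_mem _ s.2.1 h⁻¹, H.mul_mem (H.mul_mem (H.inv_mem hh) (Subgroup.mem_inf.1 s.2).2) hh⟩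
        invFun := fun s => ⟨h * s * h⁻¹, hTn.conj_mem _ s.2.1 h,
          H.mul_mem (H.mul_mem hh (Subgroup.mem_inf.1 s.2).2) (H.inv_mem hh)⟩
        left_inv := fun s => Subtype.ext (by simp [mul_assoc])
        right_inv := fun s => Subtype.ext (by simp [mul_assoc]) }
    have h1 : cj h (N' ν) = ∏ s : S, cj h (cj (s : G) ν) :=
      map_prod (⟨⟨cj h, by exact MonoidHom.ext fun k => by simp [cj_apply]⟩, cj_mul h⟩ :
        (K →* ℂˣ) →* (K →* ℂˣ)) _ _
    rw [h1]
    simp only [N', cj_cj]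
    exact (Fintype.prod_equiv e _ _ fun s => congrArg (fun g => cj g ν) (by simp [e, mul_assoc])).symm
  -- every linear character is fixed by `T`
  have hT' : ∀ ν : K →* ℂˣ, ∀ t ∈ T, cj t ν = ν := by
    intro ν
    refine hfix_of_S ν fun s₀ => ?_
    by_contra hne
    set y := cj (s₀ : G) ν * ν⁻¹ with hy
    have hy1 : y ≠ 1 := fun h => hne (mul_inv_eq_one.1 h)
    have hNy : N' y = 1 := by
      rw [hy, hN'mul, hN'inv]
      refine (mul_inv_eq_one (G := K →* ℂˣ)).2 ?_
      simp only [N', cj_cj]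
      exact Fintype.prod_equiv (Equiv.mulLeft s₀) _ _ fun s => rfl
    have hsub : ∀ g ∈ stabL (μ * y), g ∈ stabL μ ∧ g ∈ stabL y := by
      intro g hg
      obtain ⟨k, hk, h, hh, rfl⟩ := hKH g
      have hh' : cj h (μ * y) = μ * y := by
        have := mem_stabL.1 hg
        rwa [← cj_cj, cj_mem_self hk] at this
      have hz : cj h μ * μ⁻¹ = y * (cj h y)⁻¹ := by
        rw [cj_mul] at hh'
        exact div_swap (A := K →* ℂˣ) hh'
      have hzS : ∀ s : S, cj (s : G) (cj h μ * μ⁻¹) = cj h μ * μ⁻¹ := by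
        intro s
        have h1 : cj (s : G) μ = μ := mem_stabL.1 s.2.1
        have h2 : cj (h * (s : G) * h⁻¹) μ = μ := mem_stabL.1 (hTn.conj_mem _ s.2.1 h)
        have h3 : cj (s : G) (cj h μ) = cj h μ := by
          rw [cj_cj, show h * (s : G) = h * s * h⁻¹ * h by group, ← cj_cj, h2]
        rw [cj_mul, cj_inv, h1, h3]
      have hz1 : cj h μ * μ⁻¹ = 1 := by
        have h1 : (cj h μ * μ⁻¹) ^ Nat.card S = 1 := by
          have h2 : N' (cj h μ * μ⁻¹) = 1 := by
            rw [hz, hN'mul, hN'inv, hN'H y h hh, hNy]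
            rw [show cj h (1 : K →* ℂˣ) = 1 from MonoidHom.ext fun k => by simp [cj_apply]]
            exact mul_inv_cancel (G := K →* ℂˣ) 1
          rw [← h2]
          simp only [N', hzS, Finset.prod_const, Finset.card_univ, Nat.card_eq_fintype_card]
        exact eq_one_of_pows (A := K →* ℂˣ) hS h1 (hpowK (cj h μ * μ⁻¹))
      have hkT : cj k μ = μ := cj_mem_self hk μ
      refine ⟨mem_stabL.2 ?_, mem_stabL.2 ?_⟩
      · rw [← cj_cj, hkT]
        exact mul_inv_eq_one.1 hz1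
      · rw [← cj_cj, cj_mem_self hk]
        rw [hz1] at hz
        exact (mul_inv_eq_one.1 hz.symm).symm
    have hle : stabL (μ * y) ≤ T := fun g hg => (hsub g hg).1
    have hne' : stabL (μ * y) ≠ ⊤ := fun h => hμ (eq_top_iff.2 (h ▸ hle))
    obtain ⟨hidx', -, -⟩ := stab_data hcd hcop (μ * y) hne'
    have heq : stabL (μ * y) = T := by
      refine Subgroup.eq_of_le_of_card_ge hle ?_
      have h1 := Subgroup.card_mul_index T
      have h2 := Subgroup.card_mul_index (stabL (μ * y))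
      rw [hidx] at h1
      rw [hidx', ← h1] at h2
      exact (Nat.eq_of_mul_eq_mul_right (Nat.pos_of_ne_zero fun h0 => by
        rw [h0, mul_zero] at h1; exact Nat.card_pos.ne' h1.symm) h2).ge
    have hyfix : ∀ s : S, cj (s : G) y = y := fun s =>
      mem_stabL.1 (hsub s (heq ▸ s.2.1)).2
    have h1 : y ^ Nat.card S = 1 := by
      rw [← hNy]
      simp only [N', hyfix, Finset.prod_const, Finset.card_univ, Nat.card_eq_fintype_card]
    exact hy1 (eq_one_of_pows (A := K →* ℂˣ) hS h1 (hpowK y))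
  refine ⟨T, hTn, ?_, hidx, hG'⟩
  have hcent : ∀ t ∈ T, ∀ k ∈ K, k * t = t * k := fun t ht k hk =>
    Subgroup.mem_centralizer_iff.1 (mem_centralizer_of_fix hab fun ν => hT' ν t ht) k hk
  have hScomm : ∀ a ∈ S, ∀ b ∈ S, a * b = b * a := by
    intro a ha b hb
    rw [← commutatorElement_eq_one_iff_mul_comm, ← Subgroup.mem_bot, ← hH.disjoint.eq_bot]
    exact ⟨hcomm a ha.1 b hb.1, by
      rw [commutatorElement_def]
      exact H.mul_mem (H.mul_mem (H.mul_mem ha.2 hb.2) (H.inv_mem ha.2)) (H.inv_mem hb.2)⟩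
  intro a ha b hb
  obtain ⟨k, hk, h, hh, rfl⟩ := hKH a
  obtain ⟨k', hk', h', hh', rfl⟩ := hKH b
  have hh1 : h ∈ T := (Subgroup.mul_mem_cancel_left T (le_stabL μ hk)).1 ha
  have hh2 : h' ∈ T := (Subgroup.mul_mem_cancel_left T (le_stabL μ hk')).1 hb
  have e1 : Commute k k' := hab k hk k' hk'
  have e2 : Commute k h' := hcent h' hh2 k hk
  have e3 : Commute h k' := (hcent h hh1 k' hk').symm
  have e4 : Commute h h' := hScomm h ⟨hh1, hh⟩ h' ⟨hh2, hh'⟩
  exact ((e1.mul_right e2).mul_left (e3.mul_right e4)).eq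

/-- Subgroups of degree dividing the degrees above. -/
theorem sub_deg_dvd {N : Subgroup G} [N.Normal] (θ : IrrCharacter N) :
    ∃ χ : IrrCharacter G, charDegree (θ : N → ℂ) ∣ charDegree (χ : G → ℂ) ∧
      ∃ e : ℕ, charDegree (χ : G → ℂ) = e * charDegree (θ : N → ℂ) ∧ e ∣ N.index := by
  classical
  letI := Fintype.ofFinite G
  letI := Fintype.ofFinite N
  obtain ⟨χ, hχ⟩ := PIto.exists_above N θ.2
  obtain ⟨e, he, hed⟩ := Ext.ratio_dvd_index' χ.2 θ.2 hχ
  rw [PIto.charDeg_cast θ, ← Nat.cast_mul] at he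
  have h := PIto.charDeg_eq he
  exact ⟨χ, h ▸ dvd_mul_left _ _, e, h, hed⟩

end Cfsg.Agent.Char.TwoDeg
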