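import Cfsg.Agent.Lib.Char.ExtendMain
import Cfsg.Agent.Lib.Char.CliffordCorr
import Cfsg.Agent.Lib.Char.Average

/-!
The characters over a character of a normal subgroup with cyclic quotient: each occurs once, and
there are as many as the index in the inertia group.
-/

open scoped ComplexConjugate

namespace Cfsg.Agent.Char.OverCyclic

open Cfsg Cfsg.Agent.Char Cfsg.Agent.Char.Ext Cfsg.Agent.Char.Corr

set_option linter.unusedSectionVars false
set_option linter.style.haveILetI false

universe u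

variable {G : Type u} [Group G] [Fintype G] {N : Subgroup G} [hN : N.Normal] [Fintype N]

theorem mult_one (hcyc : IsCyclic (G ⧸ N)) {θ : N → ℂ} (hθ : IsIrrCharacter N θ)
    {ψ : G → ℂ} (hψ : IsIrrCharacter G ψ) (hne : classInner (fun n : N => ψ n) θ ≠ 0) :
    classInner (fun n : N => ψ n) θ = 1 := by
  classical
  set T := inertia N θ with hT
  have hNT : N ≤ T := le_inertia N (IsIrr.classFun hθ)
  letI : Fintype T := Fintype.ofFinite _
  obtain ⟨φ, hφ, -, hφm⟩ := exists_correspondent N hθ hT hNT hψ hne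
  rw [← hφm] at hne ⊢
  set K := N.subgroupOf T
  haveI : K.Normal := Subgroup.Normal.subgroupOf inferInstance _
  letI : Fintype K := Fintype.ofFinite _
  -- the quotient is cyclic
  let ι : T ⧸ K →* G ⧸ N := QuotientGroup.map K N T.subtype fun x hx => hx
  have hι : Function.Injective ι := by
    rw [injective_iff_map_eq_one]
    intro q hq
    induction q using QuotientGroup.induction_on with
    | _ x =>
      replace hq : ((x : G) : G ⧸ N) = 1 := hq
      rw [QuotientGroup.eq_one_iff] at hq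
      exact (QuotientGroup.eq_one_iff x).2 hq
  haveI := hcyc
  haveI hcycT : IsCyclic (T ⧸ K) := isCyclic_of_injective ι hι
  set θT : K → ℂ := fun x => θ ⟨((x : T) : G), x.2⟩ with hθT
  have hθTi : IsIrrCharacter K θT := IsIrr.comp_mulEquiv (Subgroup.subgroupOfEquivOfLe hNT) hθ
  obtain ⟨k, ρ, hρ, hρeq, -, -⟩ := IsIrr.exists_rep hθTi
  haveI := hρ
  have hinv : ∀ (g : T) (m : K), ρ.character (conjEquivN K g m) = ρ.character m := by
    intro g m
    have h := congrFun ((mem_inertia N).1 g.2) ⟨((m : T) : G), m.2⟩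
    rw [conjEquivN_apply, hρeq]
    simpa [θT, conjN] using h
  obtain ⟨η, hη, hηres⟩ := exists_extension K ρ hinv (cyclic_mem K ρ hinv hcycT)
  have hres : (fun x : K => η x) = θT := (funext hηres).trans hρeq
  have hinner : classInner (fun x : K => φ x) θT =
      classInner (fun n : N => φ ⟨(n : G), hNT n.2⟩) θ :=
    classInner_subgroupOf N hNT (fun n : N => φ ⟨(n : G), hNT n.2⟩) θ
  obtain ⟨hζ, heq⟩ := gallagher K hη hφ (hres ▸ hθTi) (by rw [hres, hinner]; exact hne)
  set ζ := avgN K (φ * fun g => conj (η g))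
  have hζker : ∀ n ∈ K, ζ n = ζ 1 := fun n hn => by
    rcases avgN_irr K hζ with ⟨h, -⟩ | ⟨h, -⟩
    · exfalso
      refine IsIrr.one_ne_zero hζ ?_
      have h1 := avgN_one_eq K ζ
      rw [h, avgN_idem] at h1
      exact h1
    · exact h ⟨n, hn⟩
  obtain ⟨ζ', hζ', hζ'eq⟩ := IsIrr.exists_factor_quotient hζ K hζker
  letI : CommGroup (T ⧸ K) := IsCyclic.commGroup
  have hζ1 : ζ 1 = 1 := by
    rw [← hζ'eq 1]
    exact IsIrr.one_of_comm (fun a b => mul_comm a b) hζ'
  have hdeg := one_eq_mul N hNT hT.le (hθ := hθ) hφ hne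
  have h1 : φ 1 = θ 1 := by
    rw [← heq, Pi.mul_apply, hζ1, mul_one]
    have h := congrFun hres 1
    simp only [θT, Subgroup.coe_one] at h
    rw [h]
    exact congrArg θ (Subtype.ext rfl)
  rw [h1] at hdeg
  exact mul_right_cancel₀ (IsIrr.one_ne_zero hθ) (hdeg.symm.trans (one_mul _).symm)

open scoped Classical in
/-- The number of characters over `θ`. -/
theorem card_over (hcyc : IsCyclic (G ⧸ N)) {θ : N → ℂ} (hθ : IsIrrCharacter N θ) :
    Nat.card N * (Finset.univ.filter fun ψ : IrrCharacter G =>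
      classInner (fun n : N => (ψ : G → ℂ) n) θ ≠ 0).card = Nat.card (inertia N θ) := by
  set S := Finset.univ.filter fun ψ : IrrCharacter G =>
    classInner (fun n : N => (ψ : G → ℂ) n) θ ≠ 0
  have hrec : ∀ ψ : IrrCharacter G, classInner (indFun N θ) (ψ : G → ℂ) =
      if ψ ∈ S then 1 else 0 := fun ψ => by
    rw [classInner_indFun N θ (IsIrr.classFun ψ.2), ← classInner_conj_symm]
    by_cases h : classInner (fun n : N => (ψ : G → ℂ) n) θ = 0
    · rw [h, map_zero, if_neg (by simp [S, h])]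
    · rw [mult_one hcyc hθ ψ.2 h, map_one, if_pos (by simp [S, h])]
  have h := norm_indFun N hθ
  obtain ⟨a, ha, hdec⟩ := IsChar.exists_decomp_inner (isCharacter_indFun N (IsIrr.isCharacter hθ))
  have hnorm : classInner (indFun N θ) (indFun N θ) = (S.card : ℂ) := by
    conv_lhs => arg 1; rw [hdec]
    rw [classInner_sum_left, Finset.sum_congr rfl (g := fun ψ : IrrCharacter G =>
      if ψ ∈ S then (1 : ℂ) else 0) fun ψ _ => ?_]
    · rw [Finset.sum_boole, Finset.filter_mem_eq_inter, Finset.univ_inter]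
    · rw [classInner_smul_left, ← classInner_conj_symm (indFun N θ) (ψ : G → ℂ), ← ha ψ, hrec]
      split <;> simp
  rw [hnorm] at h
  exact_mod_cast h

/-- A class function supported on `N` averages the same over a character lying above `θ`. -/
theorem sum_mul_div {θ : N → ℂ} (hθ : IsIrrCharacter N θ) {ψ : G → ℂ} (hψ : IsIrrCharacter G ψ)
    (hne : classInner (fun n : N => ψ n) θ ≠ 0) {β : N → ℂ}
    (hβ : ∀ (g : G) (n : N), β ⟨g * n * g⁻¹, hN.conj_mem n n.2 g⟩ = β n) :
    ∑ n : N, β n * ψ n / ψ 1 = ∑ n : N, β n * θ n / θ 1 := by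
  classical
  have hres := clifford N hψ hθ hne
  set m := classInner (fun n : N => ψ n) θ
  have hconj : ∀ φ ∈ conjOrbit N θ, ∑ n : N, β n * φ n = ∑ n : N, β n * θ n := fun φ hφ => by
    obtain ⟨g, rfl⟩ := (mem_conjOrbit N).1 hφ
    refine Fintype.sum_equiv (conjEquivN N g).toEquiv _ _ fun n => ?_
    rw [MulEquiv.toEquiv_eq_coe, EquivLike.coe_coe, conjEquivN_apply, hβ, conjN_apply]
  have hψ1 : ψ 1 = m * (((conjOrbit N θ).card : ℕ) : ℂ) * θ 1 := by
    rw [clifford_one N hψ hθ hne, card_conjOrbit]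
  have hval : ∀ n : N, ψ n = m * ∑ φ ∈ conjOrbit N θ, φ n := fun n => by
    have := congrFun hres n
    simpa using this
  have h0 : m * (((conjOrbit N θ).card : ℕ) : ℂ) ≠ 0 := by
    intro h
    rw [h, zero_mul] at hψ1
    exact IsIrr.one_ne_zero hψ hψ1
  rw [← Finset.sum_div, ← Finset.sum_div, hψ1]
  simp only [hval, Finset.mul_sum]
  rw [Finset.sum_comm]
  simp only [← mul_assoc, mul_comm (β _) m]
  rw [Finset.sum_congr rfl (g := fun _ => m * ∑ n : N, β n * θ n) fun φ hφ => ?_,
    Finset.sum_const, nsmul_eq_mul, ← mul_assoc, mul_comm (((conjOrbit N θ).card : ℕ) : ℂ) m,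
    mul_div_mul_left _ _ h0]
  rw [← hconj φ hφ, Finset.mul_sum]
  simp only [mul_assoc]

/-- Elements fixed in all conjugates of `θ` are fixed in a character lying above it. -/
theorem apply_eq_one {θ : N → ℂ} (hθ : IsIrrCharacter N θ) {ψ : G → ℂ} (hψ : IsIrrCharacter G ψ)
    (hne : classInner (fun n : N => ψ n) θ ≠ 0) {x : N}
    (hx : ∀ g : G, θ ⟨g * x * g⁻¹, hN.conj_mem x x.2 g⟩ = θ 1) : ψ x = ψ 1 := by
  classical
  have hres := clifford N hψ hθ hne
  have h1 := congrFun hres x
  have h2 := congrFun hres 1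
  simp only [Pi.smul_apply, Finset.sum_apply, smul_eq_mul, Subgroup.coe_one] at h1 h2
  rw [h1, h2]
  refine congrArg _ (Finset.sum_congr rfl fun φ hφ => ?_)
  obtain ⟨g, rfl⟩ := (mem_conjOrbit N).1 hφ
  rw [conjN_apply, hx, conjN_apply]
  exact congrArg θ (Subtype.ext (by simp))

end Cfsg.Agent.Char.OverCyclic
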