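import Cfsg.Agent.Lib.Char.BergerImprimitive
import Cfsg.Agent.Lib.Char.InductionRing
import Cfsg.Agent.Lib.Char.InvariantCover
import Cfsg.Agent.Lib.Char.CliffordCorr

/-!
Tools for homogeneous restrictions: inflation of induced functions, products with a fixed
character, constituents.
-/

open scoped ComplexConjugate

namespace Cfsg.Agent.Char.QPrim

open Cfsg Cfsg.Agent.Char

set_option linter.unusedSectionVars false
set_option linter.style.haveILetI false

universe u

variable {G : Type u} [Group G] [Fintype G]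

/-- Homogeneous on the normal subgroups above `L`. -/
def Homog (L : Subgroup G) (χ : G → ℂ) : Prop :=
  ∀ M : Subgroup G, M.Normal → L ≤ M →
    ∃ (φ : M → ℂ) (e : ℕ), IsIrrCharacter M φ ∧ (fun m : M => χ m) = (e : ℂ) • φ

theorem Homog.mono {L L' : Subgroup G} {χ : G → ℂ} (h : Homog L χ) (hle : L ≤ L') : Homog L' χ :=
  fun M hM hLM => h M hM (hle.trans hLM)

theorem homog_comap {A : Type u} [Group A] [Fintype A] (π : A →* G) (hπ : Function.Surjective π)
    {L : Subgroup G} {χ : G → ℂ} (h : Homog L χ) : Homog (L.comap π) (fun a => χ (π a)) := by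
  intro M hM hLM
  obtain ⟨φ, e, hφ, he⟩ := h (M.map π) (hM.map π hπ) (by
    rw [← Subgroup.map_comap_eq_self_of_surjective hπ L]; exact Subgroup.map_mono hLM)
  refine ⟨fun m => φ (π.subgroupMap M m), e,
    IsIrr.comp_surjective (π.subgroupMap M) (π.subgroupMap_surjective M) hφ, ?_⟩
  funext m
  exact congrFun he (π.subgroupMap M m)

theorem card_comap_surj {A : Type u} [Group A] [Finite A] (π : A →* G) (hπ : Function.Surjective π)
    (H : Subgroup G) : Nat.card (H.comap π) = Nat.card π.ker * Nat.card H := by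
  have h1 := (H.comap π).card_mul_index
  have h2 := π.ker.card_mul_index
  have h3 := H.card_mul_index
  rw [Subgroup.index_ker, MonoidHom.range_eq_top.2 hπ, Subgroup.card_top] at h2
  rw [Subgroup.index_comap_of_surjective H hπ, ← h2, ← h3, ← mul_assoc] at h1
  exact Nat.eq_of_mul_eq_mul_right (Nat.pos_of_ne_zero Subgroup.index_ne_zero_of_finite) h1

/-- Induction commutes with inflation. -/
theorem indFun_comap {A : Type u} [Group A] [Fintype A] (π : A →* G) (hπ : Function.Surjective π)
    (H : Subgroup G) (f : H → ℂ) (a : A) :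
    indFun (H.comap π) (fun x => f ⟨π x, x.2⟩) a = indFun H f (π a) := by
  classical
  have e : ∀ y : A, extendByZero (H.comap π) (fun x => f ⟨π x, x.2⟩) y = extendByZero H f (π y) := by
    intro y
    by_cases hy : π y ∈ H
    · rw [extendByZero_of_mem _ (show y ∈ H.comap π from hy), extendByZero_of_mem _ hy]
    · rw [extendByZero_not_mem _ (show y ∉ H.comap π from hy), extendByZero_not_mem _ hy]
  simp only [indFun, e, map_mul, map_inv]
  rw [sum_comp_surjective π hπ fun q => extendByZero H f (q⁻¹ * π a * q), card_comap_surj π hπ,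
    Nat.cast_mul, mul_inv, mul_comm (Nat.card π.ker : ℂ)⁻¹, mul_assoc,
    inv_mul_cancel_left₀ (Nat.cast_ne_zero.2 Nat.card_pos.ne')]

theorem indFun_eq_of_eq {A B : Subgroup G} (h : A = B) {f : A → ℂ} {g : B → ℂ}
    (hfg : ∀ (a : A) (b : B), (a : G) = (b : G) → f a = g b) : indFun A f = indFun B g := by
  subst h
  rw [show f = g from funext fun a => hfg a a rfl]

/-- A factor of an irreducible product is irreducible. -/
theorem irr_of_mul {f g : G → ℂ} (hf : IsCharacter G f) (hg : IsCharacter G g)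
    (h : IsIrrCharacter G (f * g)) : IsIrrCharacter G g := by
  classical
  obtain ⟨a, -, hdec⟩ := IsChar.exists_decomp_inner hg
  have hf0 : f 1 ≠ 0 := fun h0 => IsIrr.one_ne_zero h (by rw [Pi.mul_apply, h0, zero_mul])
  have hfg : f * g = ∑ φ : IrrCharacter G, (a φ : ℂ) • (f * (φ : G → ℂ)) := by
    rw [hdec, Finset.mul_sum]
    exact Finset.sum_congr rfl fun φ _ => by rw [mul_smul_comm]
  choose b hb using fun φ : IrrCharacter G =>
    IsChar.classInner_nat (IsChar.mul hf (IsIrr.isCharacter φ.2)) (IsIrr.isCharacter h)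
  have hsum : ∑ φ : IrrCharacter G, a φ * b φ = 1 := by
    have h1 := classInner_self_irr h
    conv_lhs at h1 => arg 1; rw [hfg]
    rw [classInner_sum_left] at h1
    simp only [classInner_smul_left, hb] at h1
    exact_mod_cast h1
  have hb1 : ∀ φ : IrrCharacter G, a φ ≠ 0 → b φ ≠ 0 := by
    intro φ hφ hb0
    obtain ⟨ψ, hψ⟩ := IsChar.exists_constituent' (IsChar.mul hf (IsIrr.isCharacter φ.2))
      (mul_ne_zero hf0 (IsIrr.one_ne_zero φ.2))
    choose c hc using fun χ : IrrCharacter G =>
      IsChar.classInner_nat (IsChar.mul hf (IsIrr.isCharacter χ.2)) (IsIrr.isCharacter ψ.2)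
    have hne : classInner (f * g) (ψ : G → ℂ) ≠ 0 := by
      rw [hfg, classInner_sum_left]
      simp only [classInner_smul_left, hc, ← Nat.cast_mul, ← Nat.cast_sum, Nat.cast_ne_zero]
      exact fun hz => Nat.mul_ne_zero hφ (fun h0 => hψ (by rw [hc, h0, Nat.cast_zero]))
        (Finset.sum_eq_zero_iff.1 hz φ (Finset.mem_univ _))
    rw [← eq_of_constituent_irr h ψ.2 hne, hb φ, hb0, Nat.cast_zero] at hψ
    exact hψ rfl
  obtain ⟨φ, -, hφ⟩ := Finset.exists_ne_zero_of_sum_ne_zero (hsum.symm ▸ one_ne_zero :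
    ∑ φ : IrrCharacter G, a φ * b φ ≠ 0)
  have ha1 : a φ = 1 := by
    have := Finset.single_le_sum (f := fun φ => a φ * b φ) (fun _ _ => Nat.zero_le _)
      (Finset.mem_univ φ)
    rw [hsum] at this
    exact Nat.eq_one_of_mul_eq_one_right
      (le_antisymm this (Nat.one_le_iff_ne_zero.2 hφ))
  have hrest : ∀ χ ∈ Finset.univ.erase φ, a χ = 0 := by
    intro χ hχ
    by_contra hne
    have h2 := Finset.sum_le_sum_of_subset (f := fun φ => a φ * b φ)
      (Finset.subset_univ ({φ, χ} : Finset (IrrCharacter G)))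
    rw [Finset.sum_pair (Finset.mem_erase.1 hχ).1.symm, hsum] at h2
    have h3 := Nat.one_le_iff_ne_zero.2 (Nat.mul_ne_zero hne (hb1 χ hne))
    have h4 := Nat.one_le_iff_ne_zero.2 hφ
    omega
  rw [hdec, Finset.sum_eq_single φ (fun χ _ hne => by
    rw [hrest χ (Finset.mem_erase.2 ⟨hne, Finset.mem_univ _⟩), Nat.cast_zero, zero_smul])
    (fun h0 => absurd (Finset.mem_univ _) h0), ha1, Nat.cast_one, one_smul]
  exact φ.2

/-- If a restriction is homogeneous, so is that of a constituent. -/
theorem homog_below {H : Subgroup G} [Fintype H] {L : Subgroup G} [Fintype L] (hLH : L ≤ H)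
    {χ : H → ℂ} (hχ : IsCharacter H χ) {θ : H → ℂ} (hθ : IsIrrCharacter H θ)
    (h1 : classInner χ θ ≠ 0) {φ : L → ℂ} (hφ : IsIrrCharacter L φ) {c : ℕ}
    (hc : ∀ l : L, χ ⟨(l : G), hLH l.2⟩ = (c : ℂ) * φ l) :
    ∃ g : ℕ, 0 < g ∧ ∀ l : L, θ ⟨(l : G), hLH l.2⟩ = (g : ℂ) * φ l := by
  classical
  obtain ⟨a, ha, hdec⟩ := IsChar.exists_decomp_inner hχ
  set r : (H → ℂ) → L → ℂ := fun F x => F ⟨(x : G), hLH x.2⟩ with hr
  have hrc : ∀ F, IsCharacter H F → IsCharacter L (r F) := fun F hF =>
    IsChar.comp (Subgroup.inclusion hLH) hF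
  obtain ⟨b, hb, hbdec⟩ := IsChar.exists_decomp_inner (hrc θ (IsIrr.isCharacter hθ))
  have hother : ∀ ψ : IrrCharacter L, (ψ : L → ℂ) ≠ φ → b ψ = 0 := by
    intro ψ hne
    choose n hn using fun η : IrrCharacter H =>
      IsChar.classInner_nat (hrc _ (IsIrr.isCharacter η.2)) (IsIrr.isCharacter ψ.2)
    have h0 : classInner (r χ) (ψ : L → ℂ) = 0 := by
      rw [show r χ = (c : ℂ) • φ from funext hc, classInner_smul_left,
        classInner_irr_ne hφ ψ.2 (Ne.symm hne), mul_zero]
    rw [show r χ = ∑ η : IrrCharacter H, (a η : ℂ) • r (η : H → ℂ) by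
      funext x
      simp only [hr]
      rw [hdec, sum_irr_apply]
      simp, classInner_sum_left] at h0
    simp only [classInner_smul_left, hn, ← Nat.cast_mul, ← Nat.cast_sum, Nat.cast_eq_zero] at h0
    have h2 := Finset.sum_eq_zero_iff.1 h0 ⟨θ, hθ⟩ (Finset.mem_univ _)
    have ha0 : a ⟨θ, hθ⟩ ≠ 0 := fun h => h1 (by
      rw [show classInner χ θ = _ from ha ⟨θ, hθ⟩, h, Nat.cast_zero])
    have h3 : classInner (r θ) (ψ : L → ℂ) = 0 := by
      rw [show classInner (r θ) (ψ : L → ℂ) = _ from hn ⟨θ, hθ⟩,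
        (Nat.mul_eq_zero.1 h2).resolve_left ha0, Nat.cast_zero]
    rw [hb ψ] at h3
    exact_mod_cast h3
  have heq : r θ = (b ⟨φ, hφ⟩ : ℂ) • φ := by
    rw [hbdec, Finset.sum_eq_single (⟨φ, hφ⟩ : IrrCharacter L) (fun ψ _ hne => by
      rw [hother ψ fun e => hne (Subtype.ext e), Nat.cast_zero, zero_smul])
      fun h => absurd (Finset.mem_univ _) h]
  refine ⟨b ⟨φ, hφ⟩, Nat.pos_of_ne_zero fun h0 => ?_, fun l => congrFun heq l⟩
  refine IsIrr.one_ne_zero hθ ?_
  have := congrFun heq 1
  rw [h0, Nat.cast_zero, zero_smul] at this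
  exact this

/-- Multiplication by a character irreducible on `N` keeps the inner products of the functions
constant on the cosets of `N`. -/
theorem classInner_mul_const (N : Subgroup G) [N.Normal] [Fintype N] {F : G → ℂ}
    (hF : IsIrrCharacter G F) (hFN : IsIrrCharacter N fun n : N => F n) {a b : G → ℂ}
    (ha : ∀ (n : N) (g : G), a ((n : G) * g) = a g) (hb : ∀ (n : N) (g : G), b ((n : G) * g) = b g) :
    classInner (F * a) (F * b) = classInner a b := by
  classical
  have e1 : classInner (F * a) (F * b) = classInner (a * fun g => conj (b g)) (F * fun g => conj (F g)) := by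
    simp only [classInner, Pi.mul_apply, map_mul, Complex.conj_conj]
    congr 1
    exact Finset.sum_congr rfl fun g _ => by ring
  have e2 : avgN N (a * fun g => conj (b g)) = a * fun g => conj (b g) := by
    funext g
    simp only [avgN, Pi.mul_apply, ha, hb, Finset.sum_const, Finset.card_univ, nsmul_eq_mul,
      ← Nat.card_eq_fintype_card]
    rw [inv_mul_cancel_left₀ (Nat.cast_ne_zero.2 Nat.card_pos.ne')]
  rw [e1, ← e2, classInner_avgN, InvCover.avgN_absSq N hF hFN]
  simp [classInner]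

/-- An element killed by an induced character is killed by the character. -/
theorem ker_of_ind {T : Subgroup G} {ζ : T → ℂ} (hζ : IsCharacter T ζ) {l : T}
    (h : indFun T ζ (l : G) = indFun T ζ 1) : ζ l = ζ 1 := by
  classical
  obtain ⟨m, hm⟩ := IsChar.one_eq_nat hζ
  set f := extendByZero T ζ with hf
  have hb : ∀ y : G, ‖f y‖ ≤ (m : ℝ) := by
    intro y
    by_cases hy : y ∈ T
    · rw [hf, extendByZero_of_mem _ hy]
      exact (IsChar.norm_le hζ _).trans_eq (by rw [hm, Complex.norm_natCast])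
    · rw [hf, extendByZero_not_mem _ hy, norm_zero]
      exact Nat.cast_nonneg m
  have h0 : (Nat.card T : ℂ) ≠ 0 := Nat.cast_ne_zero.2 Nat.card_pos.ne'
  have h2 : ∑ x : G, f (x⁻¹ * (l : G) * x) = ∑ _x : G, (m : ℂ) := by
    have h' := mul_left_cancel₀ (inv_ne_zero h0) h
    rw [hf, h']
    refine Finset.sum_congr rfl fun x _ => ?_
    rw [mul_one, inv_mul_cancel, extendByZero_of_mem _ T.one_mem]
    exact hm
  have h3 := congrArg Complex.re h2
  rw [Complex.re_sum, Complex.re_sum] at h3
  have h4 := (Finset.sum_eq_sum_iff_of_le fun x _ =>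
    (Complex.re_le_norm _).trans (hb (x⁻¹ * (l : G) * x))).1 (by simpa using h3) 1 (Finset.mem_univ _)
  simp only [inv_one, one_mul, mul_one] at h4
  rw [hf, extendByZero_of_mem _ l.2] at h4
  rw [hm]
  have h5 : (ζ l).re = (m : ℝ) := by simpa using h4
  have h6 : ‖ζ l‖ ≤ (m : ℝ) := (IsChar.norm_le hζ _).trans_eq (by rw [hm, Complex.norm_natCast])
  refine Complex.ext (by simpa using h5) ?_
  have h7 := Complex.sq_norm (ζ l)
  rw [Complex.normSq_apply, h5] at h7
  have h8 : (ζ l).im * (ζ l).im ≤ 0 := by nlinarith [norm_nonneg (ζ l)]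
  simpa using mul_self_eq_zero.1 (le_antisymm h8 (mul_self_nonneg _))

end Cfsg.Agent.Char.QPrim
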