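import Cfsg.Agent.Lib.Char.Det
import Cfsg.Agent.S0179
import Mathlib.GroupTheory.Transfer
import Mathlib.GroupTheory.FiniteAbelian.Duality
import Mathlib.RingTheory.RootsOfUnity.AlgebraicallyClosed

/-!
Extending invariant irreducible characters: the finite cover carrying the projective
representation, and transfer criteria.
-/

namespace Cfsg.Agent.Char.Ext

open scoped ComplexConjugate
open Cfsg Module

universe u

/-- Invertible endomorphisms of the coordinate space. -/
abbrev GLd (d : ℕ) := (Module.End ℂ (Fin d → ℂ))ˣ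

variable {G : Type u} [Group G] (N : Subgroup G) [hN : N.Normal] {d : ℕ}
  (ρ : Representation ℂ N (Fin d → ℂ))

theorem conjEquivN_mul (a b : G) (n : N) :
    conjEquivN N (a * b) n = conjEquivN N a (conjEquivN N b n) := by
  simp [conjEquivN, map_mul]

theorem conjEquivN_coe (n m : N) : conjEquivN N (n : G) m = n * m * n⁻¹ := by
  rw [conjEquivN_apply]
  rfl

/-- The finite cover of `G` attached to an invariant irreducible representation of `N`. -/
def cover : Subgroup (G × GLd d) where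
  carrier := {x | (∀ m : N, (x.2 : Module.End ℂ (Fin d → ℂ)) * ρ m =
      ρ (conjEquivN N x.1 m) * (x.2 : Module.End ℂ (Fin d → ℂ))) ∧
    LinearMap.det (x.2 : Module.End ℂ (Fin d → ℂ)) ^ Nat.card N = 1}
  one_mem' := ⟨fun m => by simp [conjEquivN, map_one], by simp⟩
  mul_mem' {x y} hx hy := by
    refine ⟨fun m => ?_, ?_⟩
    · simp only [Prod.fst_mul, Prod.snd_mul, Units.val_mul, conjEquivN_mul]
      rw [mul_assoc, hy.1, ← mul_assoc, hx.1, mul_assoc]
    · simp only [Prod.snd_mul, Units.val_mul, map_mul, mul_pow, hx.2, hy.2, mul_one]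
  inv_mem' {x} hx := by
    refine ⟨fun m => ?_, ?_⟩
    · simp only [Prod.fst_inv, Prod.snd_inv]
      have h := hx.1 (conjEquivN N x.1⁻¹ m)
      rw [← conjEquivN_mul, mul_inv_cancel] at h
      rw [show conjEquivN N (1 : G) m = m by simp [conjEquivN]] at h
      rw [Units.eq_mul_inv_iff_mul_eq, mul_assoc, Units.inv_mul_eq_iff_eq_mul]
      exact h.symm
    · have h : LinearMap.det ((x.2⁻¹ : GLd d) : Module.End ℂ (Fin d → ℂ)) *
          LinearMap.det (x.2 : Module.End ℂ (Fin d → ℂ)) = 1 := by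
        rw [← map_mul, Units.inv_mul, map_one]
      have h2 := congrArg (· ^ Nat.card N) h
      simp only [mul_pow, hx.2, mul_one, one_pow] at h2
      exact h2

/-- The projection of the cover. -/
def coverFst : cover N ρ →* G := (MonoidHom.fst G (GLd d)).comp (cover N ρ).subtype

/-- The representation of the cover. -/
def coverRep : Representation ℂ (cover N ρ) (Fin d → ℂ) :=
  (Units.coeHom _).comp ((MonoidHom.snd G (GLd d)).comp (cover N ρ).subtype)

theorem coverRep_conj (x : cover N ρ) (m : N) :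
    coverRep N ρ x * ρ m = ρ (conjEquivN N (coverFst N ρ x) m) * coverRep N ρ x := x.2.1 m

theorem coverRep_det (x : cover N ρ) : LinearMap.det (coverRep N ρ x) ^ Nat.card N = 1 := x.2.2

theorem cover_ext {x y : cover N ρ} (h1 : coverFst N ρ x = coverFst N ρ y)
    (h2 : coverRep N ρ x = coverRep N ρ y) : x = y :=
  Subtype.ext (Prod.ext h1 (Units.ext h2))

variable [Finite G]

theorem det_pow_card (m : N) : LinearMap.det (ρ m) ^ Nat.card N = 1 := by
  rw [← map_pow, ← map_pow, pow_card_eq_one', map_one, map_one]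

/-- `N` inside the cover. -/
noncomputable def coverEmb : N →* cover N ρ where
  toFun m := ⟨((m : G), ρ.toHomUnits m), fun k => by
    show ρ m * ρ k = ρ (conjEquivN N (m : G) k) * ρ m
    rw [conjEquivN_coe, ← map_mul, ← map_mul, inv_mul_cancel_right], det_pow_card N ρ m⟩
  map_one' := Subtype.ext (Prod.ext rfl (map_one _))
  map_mul' a b := Subtype.ext (Prod.ext rfl (map_mul _ a b))

@[simp] theorem coverFst_emb (m : N) : coverFst N ρ (coverEmb N ρ m) = m := rfl

@[simp] theorem coverRep_emb (m : N) : coverRep N ρ (coverEmb N ρ m) = ρ m := rfl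

theorem coverEmb_conj (x : cover N ρ) (m : N) :
    x * coverEmb N ρ m * x⁻¹ = coverEmb N ρ (conjEquivN N (coverFst N ρ x) m) := by
  rw [mul_inv_eq_iff_eq_mul]
  refine cover_ext N ρ ?_ ?_
  · simp [conjEquivN_apply]
  · rw [map_mul, map_mul, coverRep_emb, coverRep_emb]
    exact coverRep_conj N ρ x m

instance embRange_normal : (coverEmb N ρ).range.Normal :=
  ⟨fun _ ⟨m, hm⟩ x => ⟨_, hm ▸ (coverEmb_conj N ρ x m).symm⟩⟩

variable [hρ : ρ.IsIrreducible]

theorem d_pos (ρ : Representation ℂ N (Fin d → ℂ)) [ρ.IsIrreducible] : 0 < d := by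
  simpa using finrank_pos_of_irreducible ρ

theorem smul_id_inj (ρ : Representation ℂ N (Fin d → ℂ)) [ρ.IsIrreducible] {a b : ℂ}
    (h : a • (LinearMap.id : (Fin d → ℂ) →ₗ[ℂ] _) = b • LinearMap.id) : a = b := by
  haveI : Nonempty (Fin d) := ⟨⟨0, d_pos N ρ⟩⟩
  obtain ⟨v, hv⟩ := exists_ne (0 : Fin d → ℂ)
  have h2 := LinearMap.congr_fun h v
  simp only [LinearMap.smul_apply, LinearMap.id_coe, id_eq] at h2
  exact smul_left_injective ℂ hv h2

theorem exists_scalar_of_commute (ρ : Representation ℂ N (Fin d → ℂ)) [ρ.IsIrreducible]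
    (T : GLd d) (h : ∀ m, (T : Module.End ℂ (Fin d → ℂ)) * ρ m = ρ m * (T : Module.End ℂ (Fin d → ℂ))) :
    ∃ c : ℂˣ, (T : Module.End ℂ (Fin d → ℂ)) = (c : ℂ) • LinearMap.id := by
  obtain ⟨c, hc⟩ := schur_scalar ρ (T : Module.End ℂ (Fin d → ℂ)) h
  refine ⟨Units.mk0 c ?_, hc⟩
  rintro rfl
  haveI : Nonempty (Fin d) := ⟨⟨0, d_pos N ρ⟩⟩
  have := T.mul_inv
  rw [hc, zero_smul, zero_mul] at this
  exact zero_ne_one this

theorem exists_scalar (z : (coverFst N ρ).ker) :
    ∃ c : ℂˣ, coverRep N ρ z = (c : ℂ) • LinearMap.id := by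
  refine exists_scalar_of_commute N ρ (z : cover N ρ).1.2 fun m => ?_
  have h := coverRep_conj N ρ (z : cover N ρ) m
  rw [MonoidHom.mem_ker.mp z.2, show conjEquivN N (1 : G) m = m by simp [conjEquivN]] at h
  exact h

/-- The scalar of a kernel element. -/
noncomputable def scalar : (coverFst N ρ).ker →* ℂˣ where
  toFun z := (exists_scalar N ρ z).choose
  map_one' := Units.ext (smul_id_inj N ρ (by
    rw [← (exists_scalar N ρ 1).choose_spec, Subgroup.coe_one, map_one, Units.val_one, one_smul]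
    rfl))
  map_mul' a b := Units.ext (smul_id_inj N ρ (by
    have h : coverRep N ρ ((a * b : (coverFst N ρ).ker) : cover N ρ) =
        (((exists_scalar N ρ a).choose : ℂ) * ((exists_scalar N ρ b).choose : ℂ)) • LinearMap.id := by
      rw [Subgroup.coe_mul, map_mul]
      conv_lhs => rw [(exists_scalar N ρ a).choose_spec, (exists_scalar N ρ b).choose_spec]
      rw [smul_mul_smul_comm]
      rfl
    rw [← (exists_scalar N ρ (a * b)).choose_spec, h, Units.val_mul]))

theorem coverRep_ker (z : (coverFst N ρ).ker) :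
    coverRep N ρ z = (scalar N ρ z : ℂ) • LinearMap.id := (exists_scalar N ρ z).choose_spec

theorem scalar_injective : Function.Injective (scalar N ρ) := fun a b h =>
  Subtype.ext (cover_ext N ρ ((MonoidHom.mem_ker.mp a.2).trans (MonoidHom.mem_ker.mp b.2).symm)
    (by rw [coverRep_ker, coverRep_ker, h]))

theorem ker_central : (coverFst N ρ).ker ≤ Subgroup.center (cover N ρ) := by
  intro z hz
  refine Subgroup.mem_center_iff.mpr fun x => cover_ext N ρ ?_ ?_
  · simp [MonoidHom.mem_ker.mp hz]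
  · rw [map_mul, map_mul, coverRep_ker N ρ ⟨z, hz⟩, smul_mul_assoc, mul_smul_comm,
      ← Module.End.one_eq_id, mul_one, one_mul]

theorem scalar_pow (z : (coverFst N ρ).ker) : scalar N ρ z ^ (d * Nat.card N) = 1 := by
  have h := coverRep_det N ρ (z : cover N ρ)
  rw [coverRep_ker, LinearMap.det_smul, LinearMap.det_id, mul_one, Module.finrank_fin_fun,
    ← pow_mul] at h
  exact Units.ext (by rw [Units.val_pow_eq_pow_val, h, Units.val_one])

theorem finite_cover : Finite (cover N ρ) := by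
  haveI : NeZero (d * Nat.card N) := ⟨Nat.mul_ne_zero (d_pos N ρ).ne' Nat.card_pos.ne'⟩
  haveI : Finite (coverFst N ρ).ker := by
    refine Finite.of_injective (fun z => (⟨scalar N ρ z, ?_⟩ : rootsOfUnity (d * Nat.card N) ℂ))
      fun a b h => scalar_injective N ρ (congrArg Subtype.val h)
    exact (mem_rootsOfUnity _ _).mpr (scalar_pow N ρ z)
  haveI : Finite (cover N ρ ⧸ (coverFst N ρ).ker) :=
    Finite.of_injective _ (QuotientGroup.kerLift_injective (coverFst N ρ))
  exact Finite.of_equiv _ (Subgroup.groupEquivQuotientProdSubgroup (s := (coverFst N ρ).ker)).symm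

theorem coverFst_surjective
    (hinv : ∀ (g : G) (m : N), ρ.character (conjEquivN N g m) = ρ.character m) :
    Function.Surjective (coverFst N ρ) := by
  intro g
  let σ : Representation ℂ N (Fin d → ℂ) := MonoidHom.comp ρ (conjEquivN N g).toMonoidHom
  have hσ : σ.character = ρ.character := funext (hinv g)
  haveI : σ.IsIrreducible :=
    irreducible_comp_surjective ρ (conjEquivN N g).toMonoidHom (conjEquivN N g).surjective
  haveI := Fintype.ofFinite N
  obtain ⟨φ⟩ := isIrrCharacter_equiv_of_eq ρ σ hσ.symm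
  let e := φ.toLinearEquiv
  have hT : ∀ m : N, (e : (Fin d → ℂ) →ₗ[ℂ] Fin d → ℂ) * ρ m =
      ρ (conjEquivN N g m) * (e : (Fin d → ℂ) →ₗ[ℂ] Fin d → ℂ) := fun m =>
    LinearMap.ext fun v => LinearMap.congr_fun (φ.toIntertwiningMap.isIntertwining' m) v
  let T : GLd d := LinearMap.GeneralLinearGroup.ofLinearEquiv e
  have hd0 : LinearMap.det (T : Module.End ℂ (Fin d → ℂ)) ≠ 0 := (LinearEquiv.isUnit_det' e).ne_zero
  have hdpos : d * Nat.card N ≠ 0 := Nat.mul_ne_zero (d_pos N ρ).ne' Nat.card_pos.ne'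
  obtain ⟨c, hc⟩ := IsAlgClosed.exists_pow_nat_eq
    ((LinearMap.det (T : Module.End ℂ (Fin d → ℂ)) ^ Nat.card N)⁻¹) (Nat.pos_of_ne_zero hdpos)
  have hc0 : c ≠ 0 := by
    rintro rfl
    rw [zero_pow hdpos] at hc
    exact (inv_ne_zero (pow_ne_zero _ hd0)) hc.symm
  let C : GLd d := Units.map (algebraMap ℂ (Module.End ℂ (Fin d → ℂ))).toMonoidHom (Units.mk0 c hc0)
  have hC : ((C * T : GLd d) : Module.End ℂ (Fin d → ℂ)) = c • (T : Module.End ℂ (Fin d → ℂ)) := by
    simp [C, Algebra.smul_def]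
  refine ⟨⟨(g, C * T), fun m => ?_, ?_⟩, rfl⟩
  · simp only [hC, smul_mul_assoc, mul_smul_comm]
    exact congrArg (c • ·) (hT m)
  · simp only [hC, LinearMap.det_smul, Module.finrank_fin_fun, mul_pow, ← pow_mul, hc]
    exact inv_mul_cancel₀ (pow_ne_zero _ hd0)

/-- `k` such that the `k`th power of the scalar extends to a linear character trivial on `N`. -/
noncomputable def extPowers : AddSubgroup ℤ where
  carrier := {k | ∃ ν : cover N ρ →* ℂˣ, (∀ m : N, ν (coverEmb N ρ m) = 1) ∧
    ∀ z : (coverFst N ρ).ker, ν z = scalar N ρ z ^ k}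
  zero_mem' := ⟨1, fun _ => rfl, fun z => by simp⟩
  add_mem' := by
    rintro a b ⟨ν, h1, h2⟩ ⟨ν', h1', h2'⟩
    exact ⟨ν * ν', fun m => by simp [h1, h1'], fun z => by simp [h2, h2', zpow_add]⟩
  neg_mem' := by
    rintro a ⟨ν, h1, h2⟩
    exact ⟨ν⁻¹, fun m => by simp [h1], fun z => by simp [h2, zpow_neg]⟩

theorem one_mem_of_forall_prime {S : AddSubgroup ℤ}
    (h : ∀ p : ℕ, p.Prime → ∃ k ∈ S, ¬ (p : ℤ) ∣ k) : (1 : ℤ) ∈ S := by
  obtain ⟨a, rfl⟩ := Int.subgroup_cyclic S
  simp only [AddSubgroup.mem_closure_singleton, zsmul_eq_mul, Int.cast_id] at h ⊢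
  by_cases ha : a.natAbs = 1
  · rcases Int.natAbs_eq a with e | e
    · exact ⟨1, by rw [e, ha]; rfl⟩
    · exact ⟨-1, by rw [e, ha]; rfl⟩
  obtain ⟨p, hp, hpa⟩ := Nat.exists_prime_and_dvd ha
  obtain ⟨k, ⟨n, rfl⟩, hk⟩ := h p hp
  exact absurd ((Int.natCast_dvd.mpr hpa).mul_left n) hk

omit hρ in
theorem isIrr_of_comp {E : Type*} [Group E] [Finite E] [Finite N]
    (R : Representation ℂ E (Fin d → ℂ)) (φ : N →* E)
    (h : ∀ m, R (φ m) = ρ m) [hρ : ρ.IsIrreducible] : R.IsIrreducible := by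
  haveI : Nonempty (Fin d) := ⟨⟨0, d_pos N ρ⟩⟩
  haveI : Nontrivial (Subrepresentation R) := ⟨⟨⊥, ⊤, fun h' =>
    bot_ne_top (α := Submodule ℂ (Fin d → ℂ)) (congrArg Subrepresentation.toSubmodule h')⟩⟩
  refine ⟨fun S => ?_⟩
  let S' : Subrepresentation ρ := ⟨S.toSubmodule, fun m v hv => h m ▸ S.apply_mem_toSubmodule (φ m) hv⟩
  haveI : IsSimpleOrder (Subrepresentation ρ) := hρ
  rcases IsSimpleOrder.eq_bot_or_eq_top S' with e | e
  · exact .inl (Subrepresentation.toSubmodule_injective (congrArg Subrepresentation.toSubmodule e :))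
  · exact .inr (Subrepresentation.toSubmodule_injective (congrArg Subrepresentation.toSubmodule e :))

theorem coverRep_irreducible : (coverRep N ρ).IsIrreducible := by
  haveI := finite_cover N ρ
  exact isIrr_of_comp N ρ (coverRep N ρ) (coverEmb N ρ) fun m => rfl

theorem exists_extension
    (hinv : ∀ (g : G) (m : N), ρ.character (conjEquivN N g m) = ρ.character m)
    (h : (1 : ℤ) ∈ extPowers N ρ) :
    ∃ χ : G → ℂ, IsIrrCharacter G χ ∧ ∀ m : N, χ m = ρ.character m := by
  obtain ⟨ν, hν1, hν2⟩ := h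
  haveI := finite_cover N ρ
  haveI := coverRep_irreducible N ρ
  have hirr := IsIrr.mul_linear (isIrrCharacter_character (coverRep N ρ)) ν⁻¹
  obtain ⟨χ, hχ, hχe⟩ := IsIrr.exists_factor hirr (coverFst N ρ) (coverFst_surjective N ρ hinv)
    (fun z hz => by
      have hzs := coverRep_ker N ρ ⟨z, hz⟩
      simp only [Representation.character] at *
      rw [hzs, map_smul, map_one, map_one, LinearMap.trace_one, LinearMap.trace_id,
        MonoidHom.inv_apply, hν2 ⟨z, hz⟩, zpow_one, smul_eq_mul, ← mul_assoc,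
        Units.inv_mul, one_mul, Units.val_one, one_mul])
  refine ⟨χ, hχ, fun m => ?_⟩
  rw [← coverFst_emb N ρ m, hχe, MonoidHom.inv_apply, hν1, inv_one, Units.val_one, one_mul]
  rfl

/-- Transfer: an extension to `H` puts the index of `H` among the extendable powers. -/
theorem index_mem_extPowers
    (hinv : ∀ (g : G) (m : N), ρ.character (conjEquivN N g m) = ρ.character m)
    (H : Subgroup G) (hNH : N ≤ H) {η : H → ℂ} (hη : IsIrrCharacter H η)
    (hres : ∀ m : N, η ⟨m, hNH m.2⟩ = ρ.character m) : (H.index : ℤ) ∈ extPowers N ρ := by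
  haveI := finite_cover N ρ
  haveI := Fintype.ofFinite N
  obtain ⟨k, σ, hσ, rfl⟩ := hη
  let σN : Representation ℂ N (Fin k → ℂ) := MonoidHom.comp σ (Subgroup.inclusion hNH)
  have hσN : σN.character = ρ.character := funext hres
  haveI : σN.IsIrreducible := irreducible_of_character σN (by
    rw [hσN]; exact isIrrCharacter_character ρ)
  obtain ⟨φ⟩ := isIrrCharacter_equiv_of_eq σN ρ hσN
  let τ : H →* Module.End ℂ (Fin d → ℂ) :=
    { toFun := fun x => φ.toLinearEquiv.conj (σ x)
      map_one' := by rw [map_one]; exact LinearEquiv.conj_id _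
      map_mul' := fun a b => by
        rw [map_mul]
        exact LinearEquiv.conj_comp _ _ _ }
  let τu := τ.toHomUnits
  have hτN : ∀ m : N, (τu ⟨m, hNH m.2⟩ : Module.End ℂ (Fin d → ℂ)) = ρ m := fun m =>
    Representation.Equiv.conj_apply_self m φ
  let H' := H.comap (coverFst N ρ)
  have hA : ∀ x : H', ∃ a : ℂˣ, (((x : cover N ρ).1.2 * (τu ⟨coverFst N ρ x, x.2⟩)⁻¹ : GLd d) :
      Module.End ℂ (Fin d → ℂ)) = (a : ℂ) • LinearMap.id := by
    intro x
    refine exists_scalar_of_commute N ρ _ fun m => ?_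
    set h : H := ⟨coverFst N ρ x, x.2⟩ with hh
    set m' := conjEquivN N (coverFst N ρ x)⁻¹ m with hm'
    have e1 : ρ m * (τu h : Module.End ℂ (Fin d → ℂ)) = (τu h : Module.End ℂ (Fin d → ℂ)) * ρ m' := by
      rw [← hτN m, ← hτN m', ← Units.val_mul, ← Units.val_mul, ← map_mul, ← map_mul]
      congr 2
      apply Subtype.ext
      simp [h, hm', conjEquivN_apply, mul_assoc]
    have e2 := coverRep_conj N ρ (x : cover N ρ) m'
    rw [hm', ← conjEquivN_mul, mul_inv_cancel, show conjEquivN N (1 : G) m = m by simp [conjEquivN]] at e2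
    have e3 : (((τu h)⁻¹ : GLd d) : Module.End ℂ (Fin d → ℂ)) * ρ m =
        ρ m' * (((τu h)⁻¹ : GLd d) : Module.End ℂ (Fin d → ℂ)) := by
      rw [Units.eq_mul_inv_iff_mul_eq, mul_assoc, Units.inv_mul_eq_iff_eq_mul]
      exact e1
    rw [Units.val_mul, mul_assoc, e3, ← mul_assoc]
    show coverRep N ρ (x : cover N ρ) * ρ m' * _ = _
    rw [e2, mul_assoc]
    rfl
  choose a ha using hA
  have hspec : ∀ x : H', coverRep N ρ (x : cover N ρ) =
      (a x : ℂ) • (τu ⟨coverFst N ρ x, x.2⟩ : Module.End ℂ (Fin d → ℂ)) := by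
    intro x
    have h := congrArg (· * (τu ⟨coverFst N ρ x, x.2⟩ : Module.End ℂ (Fin d → ℂ))) (ha x)
    simp only [Units.val_mul, mul_assoc, Units.inv_mul, mul_one, smul_mul_assoc] at h
    exact h.trans (by rw [← Module.End.one_eq_id, one_mul])
  have huniq : ∀ (x : H') (c : ℂ), coverRep N ρ (x : cover N ρ) =
      c • (τu ⟨coverFst N ρ x, x.2⟩ : Module.End ℂ (Fin d → ℂ)) → c = a x := by
    intro x c hc
    rw [hspec x] at hc
    have h := congrArg (· * (((τu ⟨coverFst N ρ x, x.2⟩)⁻¹ : GLd d) : Module.End ℂ (Fin d → ℂ))) hc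
    simp only [smul_mul_assoc, Units.mul_inv] at h
    exact (smul_id_inj N ρ h).symm
  let ϕ : H' →* ℂˣ :=
    { toFun := a
      map_one' := Units.ext (huniq 1 1 (by
        rw [one_smul]
        simp only [Subgroup.coe_one, map_one]
        rw [show (⟨1, H.one_mem⟩ : H) = 1 from rfl, map_one, Units.val_one])).symm
      map_mul' := fun x y => Units.ext (huniq (x * y) _ (by
        have e : coverRep N ρ ((x : cover N ρ) * (y : cover N ρ)) = ((a x : ℂ) * (a y : ℂ)) •
            (τu (⟨coverFst N ρ x, x.2⟩ * ⟨coverFst N ρ y, y.2⟩) : Module.End ℂ (Fin d → ℂ)) := by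
          rw [map_mul, hspec x, hspec y, smul_mul_smul_comm, map_mul τu, Units.val_mul]
        rw [Units.val_mul]
        refine Eq.trans e ?_
        congr 3)).symm }
  have hembH : ∀ m : N, coverEmb N ρ m ∈ H' := fun m => hNH m.2
  have hϕemb : ∀ m : N, ϕ ⟨coverEmb N ρ m, hembH m⟩ = 1 := fun m =>
    Units.ext (huniq ⟨coverEmb N ρ m, hembH m⟩ 1 (by
      rw [one_smul]
      exact (hτN m).symm)).symm
  refine ⟨MonoidHom.transfer ϕ, fun m => ?_, fun z => ?_⟩
  · classical
    letI : Fintype (Quotient (MulAction.orbitRel (Subgroup.zpowers (coverEmb N ρ m))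
        (cover N ρ ⧸ H'))) := Fintype.ofFinite _
    rw [MonoidHom.transfer_eq_prod_quotient_orbitRel_zpowers_quot]
    refine Finset.prod_eq_one fun q _ => ?_
    set k := Function.minimalPeriod (coverEmb N ρ m • ·) q.out
    obtain ⟨m', hm'⟩ := (embRange_normal N ρ).conj_mem _
      ((coverEmb N ρ).range.pow_mem ⟨m, rfl⟩ k) q.out.out⁻¹
    rw [inv_inv] at hm'
    rw [← hϕemb m']
    exact congrArg ϕ (Subtype.ext hm'.symm)
  · have hc := Subgroup.mem_center_iff.mp (ker_central N ρ z.2)
    have hpow : ∀ k : ℕ, (z : cover N ρ) ^ k ∈ Subgroup.center (cover N ρ) :=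
      fun k => Subgroup.pow_mem _ (ker_central N ρ z.2) k
    rw [MonoidHom.transfer_eq_pow ϕ (z : cover N ρ) (fun k g₀ _ => by
      rw [mul_assoc, ← Subgroup.mem_center_iff.mp (hpow k) g₀, inv_mul_cancel_left])]
    have hzH : (z : cover N ρ) ∈ H' := by
      show coverFst N ρ z ∈ H
      rw [MonoidHom.mem_ker.mp z.2]
      exact H.one_mem
    have e : ϕ ⟨z, hzH⟩ = scalar N ρ z := Units.ext (huniq ⟨z, hzH⟩ _ (by
      show coverRep N ρ z = _
      rw [coverRep_ker]
      congr 1
      have h1 : (⟨coverFst N ρ z, hzH⟩ : H) = 1 := Subtype.ext (MonoidHom.mem_ker.mp z.2)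
      refine Eq.symm (Eq.trans (congrArg (fun h => (τu h : Module.End ℂ (Fin d → ℂ))) h1) ?_)
      rw [map_one]
      rfl)).symm
    rw [← Subgroup.index_comap_of_surjective H (coverFst_surjective N ρ hinv), zpow_natCast,
      ← e, ← map_pow]
    rfl

theorem index_mem (hinv : ∀ (g : G) (m : N), ρ.character (conjEquivN N g m) = ρ.character m) :
    (N.index : ℤ) ∈ extPowers N ρ :=
  index_mem_extPowers N ρ hinv N le_rfl (isIrrCharacter_character ρ) fun _ => rfl

theorem det_mem {o : ℕ} (ho : ∀ m : N, LinearMap.det (ρ m) ^ o = 1) :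
    ((d * o : ℕ) : ℤ) ∈ extPowers N ρ := by
  refine ⟨detUnits (coverRep N ρ) ^ o, fun m => Units.ext ?_, fun z => Units.ext ?_⟩
  · rw [MonoidHom.pow_apply, Units.val_pow_eq_pow_val, detUnits_apply, coverRep_emb, ho,
      Units.val_one]
  · rw [MonoidHom.pow_apply, Units.val_pow_eq_pow_val, detUnits_apply, coverRep_ker,
      LinearMap.det_smul, LinearMap.det_id, mul_one, Module.finrank_fin_fun, zpow_natCast,
      Units.val_pow_eq_pow_val, pow_mul]

theorem det_ext_mem (μ : G →* ℂˣ) (hμ : ∀ m : N, μ m = detUnits ρ m) :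
    (d : ℤ) ∈ extPowers N ρ := by
  refine ⟨detUnits (coverRep N ρ) * (μ.comp (coverFst N ρ))⁻¹, fun m => ?_, fun z => Units.ext ?_⟩
  · rw [MonoidHom.mul_apply, MonoidHom.inv_apply, MonoidHom.comp_apply, coverFst_emb, hμ]
    exact mul_inv_cancel _
  · rw [MonoidHom.mul_apply, MonoidHom.inv_apply, MonoidHom.comp_apply,
      MonoidHom.mem_ker.mp z.2, map_one, inv_one, mul_one, detUnits_apply, coverRep_ker,
      LinearMap.det_smul, LinearMap.det_id, mul_one, Module.finrank_fin_fun, zpow_natCast,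
      Units.val_pow_eq_pow_val]

theorem ker_lift_central (f : cover N ρ ⧸ (coverEmb N ρ).range →* G ⧸ N)
    (hfx : ∀ x : cover N ρ, f x = (coverFst N ρ x : G ⧸ N)) :
    f.ker ≤ Subgroup.center (cover N ρ ⧸ (coverEmb N ρ).range) := by
  intro y hy
  induction y using QuotientGroup.induction_on with
  | _ x =>
    rw [MonoidHom.mem_ker, hfx] at hy
    have hx : coverFst N ρ x ∈ N := (QuotientGroup.eq_one_iff _).mp hy
    have hz : x * (coverEmb N ρ ⟨_, hx⟩)⁻¹ ∈ (coverFst N ρ).ker := by
      simp [MonoidHom.mem_ker]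
    have e : ((x : cover N ρ ⧸ (coverEmb N ρ).range)) =
        ((x * (coverEmb N ρ ⟨_, hx⟩)⁻¹ : cover N ρ) : cover N ρ ⧸ (coverEmb N ρ).range) :=
      QuotientGroup.eq.mpr ⟨⟨_, hx⟩⁻¹, by rw [map_inv]; group⟩
    rw [e]
    refine Subgroup.mem_center_iff.mpr fun y => ?_
    induction y using QuotientGroup.induction_on with
    | _ w =>
      rw [← QuotientGroup.mk_mul, ← QuotientGroup.mk_mul,
        Subgroup.mem_center_iff.mp (ker_central N ρ hz) w]

theorem cyclic_mem (hinv : ∀ (g : G) (m : N), ρ.character (conjEquivN N g m) = ρ.character m)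
    (hcyc : IsCyclic (G ⧸ N)) : (1 : ℤ) ∈ extPowers N ρ := by
  classical
  haveI := finite_cover N ρ
  haveI := hcyc
  let L := (coverEmb N ρ).range
  let f : cover N ρ ⧸ L →* G ⧸ N := QuotientGroup.lift L
    ((QuotientGroup.mk' N).comp (coverFst N ρ)) (by
      rintro _ ⟨m, rfl⟩
      exact (QuotientGroup.eq_one_iff _).mpr m.2)
  have hf : f.ker ≤ Subgroup.center (cover N ρ ⧸ L) := ker_lift_central N ρ f fun x => rfl
  letI : CommGroup (cover N ρ ⧸ L) := commGroupOfCyclicCenterQuotient f hf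
  let i : (coverFst N ρ).ker →* cover N ρ ⧸ L := (QuotientGroup.mk' L).comp (coverFst N ρ).ker.subtype
  have hi : Function.Injective i := by
    rw [injective_iff_map_eq_one]
    intro z hz
    obtain ⟨m, hm⟩ := (QuotientGroup.eq_one_iff _).mp hz
    have h1 : (m : G) = 1 := by
      rw [← coverFst_emb N ρ m, hm]
      exact MonoidHom.mem_ker.mp z.2
    refine Subtype.ext (hm.symm.trans ?_)
    rw [show m = 1 from Subtype.ext h1, map_one]
    rfl
  obtain ⟨ψ, hψ⟩ := MonoidHom.domRestrict_surjective (M := ℂ) i.range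
    ((scalar N ρ).comp (MonoidHom.ofInjective hi).symm.toMonoidHom)
  refine ⟨ψ.comp (QuotientGroup.mk' L), fun m => ?_, fun z => ?_⟩
  · rw [MonoidHom.comp_apply, QuotientGroup.mk'_apply, (QuotientGroup.eq_one_iff (N := L) _).mpr (MonoidHom.mem_range.mpr ⟨m, rfl⟩),
      map_one]
  · have h := DFunLike.congr_fun hψ ⟨i z, z, rfl⟩
    rw [zpow_one]
    refine Eq.trans h ?_
    show scalar N ρ ((MonoidHom.ofInjective hi).symm ⟨i z, z, rfl⟩) = _
    congr 1
    exact (MonoidHom.ofInjective hi).symm_apply_apply z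

/-- The ratio of degrees divides the index, for an invariant character below. -/
theorem ratio_dvd_index
    (hinv : ∀ (g : G) (m : N), ρ.character (conjEquivN N g m) = ρ.character m)
    [Fintype N] {χ : G → ℂ} (hχ : IsIrrCharacter G χ)
    (hne : classInner (fun m : N => χ m) ρ.character ≠ 0) :
    ∃ e : ℕ, χ 1 = (e : ℂ) * d ∧ e ∣ N.index := by
  classical
  haveI := finite_cover N ρ
  haveI := coverRep_irreducible N ρ
  haveI := Fintype.ofFinite (cover N ρ)
  let L := (coverEmb N ρ).range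
  haveI := Fintype.ofFinite L
  have hinj : Function.Injective (coverEmb N ρ) := fun a b h =>
    Subtype.ext (congrArg (coverFst N ρ) h :)
  let eL : N ≃* L := MonoidHom.ofInjective hinj
  have hsurj := coverFst_surjective N ρ hinv
  have hR := isIrrCharacter_character (coverRep N ρ)
  obtain ⟨hψ, hψm⟩ := gallagher (N := L) hR (IsIrr.comp_surjective (coverFst N ρ) hsurj hχ) (by
      refine Eq.subst (motive := fun f => IsIrrCharacter L f) ?_
        (IsIrr.comp_mulEquiv eL.symm (isIrrCharacter_character ρ))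
      funext x
      obtain ⟨m, rfl⟩ := eL.surjective x
      rw [MulEquiv.symm_apply_apply]
      rfl) (by
      rw [← classInner_comp_surjective eL.toMonoidHom eL.surjective]
      exact hne)
  set ψ := avgN L ((fun x => χ (coverFst N ρ x)) * fun x => conj ((coverRep N ρ).character x)) with hψdef
  have h1 := congrFun hψm 1
  simp only [Pi.mul_apply, Representation.char_one, Module.finrank_fin_fun, map_one] at h1
  have hconst : ∀ k ∈ L, ψ k = ψ 1 := fun k hk => by
    have := avgN_mul_left L ((fun x => χ (coverFst N ρ x)) *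
      fun x => conj ((coverRep N ρ).character x)) ⟨k, hk⟩ 1
    rwa [mul_one] at this
  obtain ⟨ψ', hψ', hψ'e⟩ := IsIrr.exists_factor_quotient hψ L hconst
  obtain ⟨e, σ, hσ, hσe⟩ := hψ'
  have he : ψ 1 = e := by
    rw [← hψ'e, ← hσe, QuotientGroup.mk_one, Representation.char_one, Module.finrank_fin_fun]
  refine ⟨e, by rw [← h1, he, mul_comm], ?_⟩
  have hdvd := @Cfsg.Agent.S0179.result (cover N ρ ⧸ L) _ _ (Fin e → ℂ) _ _ _ σ hσ
  rw [Module.finrank_fin_fun] at hdvd
  refine hdvd.trans ?_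
  let f : cover N ρ ⧸ L →* G ⧸ N := QuotientGroup.lift L
    ((QuotientGroup.mk' N).comp (coverFst N ρ)) (by
      rintro _ ⟨m, rfl⟩
      exact (QuotientGroup.eq_one_iff _).mpr m.2)
  have hf : f.ker ≤ Subgroup.center (cover N ρ ⧸ L) := ker_lift_central N ρ f fun x => rfl
  refine (Subgroup.index_dvd_of_le hf).trans ?_
  rw [Subgroup.index_ker, MonoidHom.range_eq_top.mpr, Subgroup.card_top, ← Subgroup.index_eq_card]
  intro y
  induction y using QuotientGroup.induction_on with
  | _ g =>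
    obtain ⟨x, rfl⟩ := hsurj g
    exact ⟨x, rfl⟩

end Cfsg.Agent.Char.Ext
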