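import Cfsg.Agent.Lib.Char.AbelianStable
import Cfsg.Agent.Lib.Char.BrauerInduction
import Cfsg.Agent.Lib.Char.Average
import Cfsg.Agent.Lib.Char.Extend

/-!
Principal blocks over a normal subgroup of index prime to `p` supplemented by the centralizer
of a Sylow `p`-subgroup (Alperin's isomorphic blocks).
-/

set_option linter.unusedSectionVars false
set_option linter.style.haveILetI false

namespace Cfsg.Agent.Char.Alperin

open Cfsg Cfsg.Agent.Char Cfsg.Agent.Block
open scoped ComplexConjugate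

universe u

variable {G : Type u} [Group G] [Fintype G] {p : ℕ} {M : Ideal AlgInt}

/-- The standing hypotheses. -/
structure Hyp (p : ℕ) (N P : Subgroup G) : Prop where
  idx : ¬ p ∣ N.index
  le : P ≤ N
  pidx : ¬ p ∣ P.index
  sup : N ⊔ Subgroup.centralizer (P : Set G) = ⊤

/-- The normalised values on the centralizer of `P` are congruent to one. -/
def Good (M : Ideal AlgInt) (P : Subgroup G) (χ : G → ℂ) : Prop :=
  ∀ z ∈ Subgroup.centralizer (P : Set G), MemLocalIdeal M (χ z / χ 1 - 1)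

theorem index_not_dvd {P : Subgroup G} (hP : ¬ p ∣ P.index) {z : G}
    (hz : z ∈ Subgroup.centralizer (P : Set G)) :
    ¬ p ∣ (Subgroup.centralizer ({z} : Set G)).index := fun h =>
  hP (h.trans (Subgroup.index_dvd_of_le fun x hx =>
    Subgroup.mem_centralizer_singleton_iff.2 (Subgroup.mem_centralizer_iff.1 hz x hx)))

theorem good_of_mem (hM : IsPModular p M) {P : Subgroup G} (hP : ¬ p ∣ P.index)
    {χ : IrrCharacter G} (hχ : χ ∈ principalBlock M G) : Good M P (χ : G → ℂ) := by
  intro z hz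
  have h : MemLocalIdeal M (centralChar (fun _ : G => (1 : ℂ)) z - centralChar (χ : G → ℂ) z) :=
    hχ z
  have hn := index_not_dvd hP hz
  have hn0 : ((Subgroup.centralizer ({z} : Set G)).index : ℂ) ≠ 0 :=
    Nat.cast_ne_zero.2 Subgroup.index_ne_zero_of_finite
  have h2 := ideal_mul_left hM (ring_neg (ring_inv_natCast hM hn)) h
  have e : -((Subgroup.centralizer ({z} : Set G)).index : ℂ)⁻¹ *
      (centralChar (fun _ : G => (1 : ℂ)) z - centralChar (χ : G → ℂ) z) =
      (χ : G → ℂ) z / (χ : G → ℂ) 1 - 1 := by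
    simp only [centralChar]
    field_simp
    ring
  rwa [e] at h2

theorem centralChar_unit (hM : IsPModular p M) {P : Subgroup G} (hP : ¬ p ∣ P.index)
    {χ : IrrCharacter G} (hχ : χ ∈ principalBlock M G) {z : G}
    (hz : z ∈ Subgroup.centralizer (P : Set G)) :
    ¬ MemLocalIdeal M (centralChar (χ : G → ℂ) z) := fun h => by
  have h' : MemLocalIdeal M (centralChar (fun _ : G => (1 : ℂ)) z - centralChar (χ : G → ℂ) z) :=
    hχ z
  have := ideal_add hM h' h
  rw [sub_add_cancel, centralChar, mul_one, div_one] at this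
  exact index_not_dvd hP hz ((ideal_natCast_iff hM _).1 this)

section normal

variable (N : Subgroup G) [hN : N.Normal] {P : Subgroup G}

theorem exists_rep (h : Hyp p N P) (g : G) :
    ∃ n ∈ N, ∃ c ∈ Subgroup.centralizer (P : Set G), n * c = g :=
  Subgroup.mem_sup_of_normal_left.1 (h.sup ▸ Subgroup.mem_top g)

theorem beta_trivial (hM : IsPModular p M) (h : Hyp p N P) {β : G → ℂ}
    (hβ : IsIrrCharacter G β) (hc : ∀ n ∈ N, ∀ g, β (n * g) = β g) (hg : Good M P β) :
    β = fun _ => 1 := by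
  classical
  by_contra hne
  have h0 := classInner_irr_ne hβ isIrr_one hne
  unfold classInner at h0
  simp only [map_one, mul_one] at h0
  have hsum : ∑ g : G, β g = 0 :=
    (mul_eq_zero.1 h0).resolve_left (inv_ne_zero (Nat.cast_ne_zero.2 Nat.card_pos.ne'))
  haveI := Fintype.ofFinite (G ⧸ N)
  let F : G ⧸ N → ℂ := fun q => β q.out
  have hF : ∀ g : G, F (QuotientGroup.mk' N g) = β g := by
    intro g
    have hq : ((QuotientGroup.mk' N g).out : G ⧸ N) = (g : G ⧸ N) := Quotient.out_eq _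
    have hm : (QuotientGroup.mk' N g).out * g⁻¹ ∈ N := by
      rw [← QuotientGroup.eq_one_iff, QuotientGroup.mk_mul, hq, ← QuotientGroup.mk_mul,
        mul_inv_cancel, QuotientGroup.mk_one]
    show β _ = β g
    rw [show (QuotientGroup.mk' N g).out = ((QuotientGroup.mk' N g).out * g⁻¹) * g by group,
      hc _ hm]
  have hs : ∑ q : G ⧸ N, F q = 0 := by
    have := sum_comp_surjective (QuotientGroup.mk' N) (QuotientGroup.mk'_surjective N) F
    simp only [hF, hsum] at this
    exact (mul_eq_zero.1 this.symm).resolve_left (Nat.cast_ne_zero.2 Nat.card_pos.ne')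
  have hterm : ∀ q : G ⧸ N, MemLocalIdeal M (F q / β 1 - 1) := by
    intro q
    obtain ⟨g, rfl⟩ := QuotientGroup.mk'_surjective N q
    obtain ⟨n, hn, c, hcc, rfl⟩ := exists_rep N h g
    rw [hF, hc n hn]
    exact hg c hcc
  have hI : MemLocalIdeal M (∑ q : G ⧸ N, (F q / β 1 - 1)) := ideal_sum hM fun q _ => hterm q
  rw [Finset.sum_sub_distrib, ← Finset.sum_div, hs, zero_div, Finset.sum_const, Finset.card_univ,
    nsmul_eq_mul, mul_one, zero_sub] at hI
  have := ideal_neg hI
  rw [neg_neg, ideal_natCast_iff hM] at this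
  exact h.idx (by rwa [Subgroup.index, Nat.card_eq_fintype_card])

variable [Fintype N]

theorem eq_of_over (hM : IsPModular p M) (h : Hyp p N P) {χ ψ : G → ℂ}
    (hχ : IsIrrCharacter G χ) (hψ : IsIrrCharacter G ψ)
    (hθ : IsIrrCharacter N (fun n : N => χ n))
    (hne : classInner (fun n : N => ψ n) (fun n : N => χ n) ≠ 0)
    (gχ : Good M P χ) (gψ : Good M P ψ) : ψ = χ := by
  obtain ⟨hη, heq⟩ := gallagher N hχ hψ hθ hne
  set η := avgN N (ψ * fun g => conj (χ g))
  have hg : Good M P η := by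
    intro z hz
    have a := gχ z hz
    have b := gψ z hz
    rw [← heq, Pi.mul_apply, Pi.mul_apply, mul_div_mul_comm] at b
    set x := χ z / χ 1
    set y := η z / η 1
    have hxr : MemLocalRing M x := by
      simpa using ring_add hM (ring_of_ideal a) (ring_one hM)
    have hxu : ¬ MemLocalIdeal M x := fun hh => ideal_one hM ((ideal_congr hM a).1 hh)
    have hx0 : x ≠ 0 := fun hh => hxu (hh ▸ ideal_zero hM)
    have := ideal_mul_left hM (ring_inv hM hxr hxu) (ideal_sub hM b a)
    rwa [show x⁻¹ * (x * y - 1 - (x - 1)) = y - 1 by field_simp; ring] at this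
  have h1 := beta_trivial N hM h hη (fun n hn g => avgN_mul_left N _ ⟨n, hn⟩ g) hg
  rw [h1] at heq
  rw [← heq]
  funext g
  simp

theorem exists_over_principal (hM : IsPModular p M) (hidx : ¬ p ∣ N.index)
    (htriv : ∀ χ ∈ principalBlock M G, (∀ n : N, (χ : G → ℂ) n = (χ : G → ℂ) 1) →
      (χ : G → ℂ) = fun _ => 1)
    {θ : IrrCharacter N} (hθ : θ ∈ principalBlock M N) :
    ∃ χ ∈ principalBlock M G,
      classInner (fun n : N => (χ : G → ℂ) n) (θ : N → ℂ) ≠ 0 := by
  classical
  by_contra hc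
  push Not at hc
  set B := principalBlock M G
  have hB : IsPBlock M B := isPBlock_principalBlock
  let a : N → ℂ := fun n => blockCoeff B (n : G)
  have ha : IsClassFunction N a := fun n k => by
    show blockCoeff B ((k * n * k⁻¹ : N) : G) = blockCoeff B (n : G)
    rw [blockCoeff_eq, blockCoeff_eq]
    exact coeffFun_classFun _ (n : G) (k : G)
  have hci : CenInt M (fun η : IrrCharacter N => omegaFun η a) := fun n => by
    rw [coeffFun_omegaFun ha]
    exact blockCoeff_ring hM hB (n : G)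
  have hval : ∀ η : IrrCharacter N, omegaFun η a = (Nat.card G : ℂ)⁻¹ * (Nat.card N : ℂ) *
      (∑ χ : IrrCharacter G, blockInd B χ * (χ : G → ℂ) 1 *
        conj (classInner (fun n : N => (χ : G → ℂ) n) (η : N → ℂ))) / (η : N → ℂ) 1 := by
    intro η
    rw [omegaFun]
    congr 1
    simp only [a, blockCoeff_eq, coeffFun_eq_sum, classInner, map_mul, map_inv₀, map_natCast,
      map_sum, Complex.conj_conj, Finset.mul_sum, Finset.sum_mul]
    rw [Finset.sum_comm]
    refine Finset.sum_congr rfl fun χ _ => Finset.sum_congr rfl fun n _ => ?_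
    rw [irr_apply_inv]
    have : (Nat.card N : ℂ) ≠ 0 := Nat.cast_ne_zero.2 Nat.card_pos.ne'
    field_simp
  have hz : omegaFun θ a = 0 := by
    rw [hval, Finset.sum_eq_zero fun χ _ => ?_, mul_zero, zero_div]
    by_cases hχ : χ ∈ B
    · rw [hc χ hχ, map_zero, mul_zero]
    · rw [blockInd_of_notMem hχ, zero_mul, zero_mul]
  have h1 : omegaFun (trivialIrr N) a = (N.index : ℂ)⁻¹ := by
    rw [hval, Finset.sum_eq_single (trivialIrr G) (fun χ _ hne => ?_) (by simp)]
    · rw [blockInd_of_mem (trivial_mem_principalBlock hM)]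
      have e : classInner (fun n : N => (trivialIrr G : G → ℂ) n) (trivialIrr N : N → ℂ) = 1 :=
        classInner_self_irr (isIrr_one (G := N))
      rw [e]
      show _ * (1 * (1 : ℂ) * conj 1) / (1 : ℂ) = _
      have hG : (Nat.card G : ℂ) = (Nat.card N : ℂ) * (N.index : ℂ) := by
        exact_mod_cast N.card_mul_index.symm
      have : (Nat.card N : ℂ) ≠ 0 := Nat.cast_ne_zero.2 Nat.card_pos.ne'
      have : (N.index : ℂ) ≠ 0 := Nat.cast_ne_zero.2 Subgroup.index_ne_zero_of_finite
      rw [hG, map_one]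
      field_simp
    · by_cases hχ : χ ∈ B
      · rcases avgN_irr N χ.2 with ⟨h0, -⟩ | ⟨hk, -⟩
        · have e : (trivialIrr N : N → ℂ) = fun _ => 1 := rfl
          rw [e, h0, map_zero, mul_zero]
        · exact absurd (Subtype.ext (htriv χ hχ hk)) hne
      · rw [blockInd_of_notMem hχ, zero_mul, zero_mul]
  have h2 := hci.congr_block hM
    (pblock_sameBlock hM isPBlock_principalBlock (trivial_mem_principalBlock hM) hθ)
  rw [hz, sub_zero, h1] at h2
  exact ideal_inv hM (ring_natCast hM _) (fun hh => hidx ((ideal_natCast_iff hM _).1 hh)) h2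

theorem exists_over' (hM : IsPModular p M) (h : Hyp p N P)
    {θ : IrrCharacter N} (hθ : θ ∈ principalBlock M N) :
    ∃ χ ∈ principalBlock M G,
      classInner (fun n : N => (χ : G → ℂ) n) (θ : N → ℂ) ≠ 0 :=
  exists_over_principal N hM h.idx (fun χ hχ hk => beta_trivial N hM h χ.2
    (fun n hn g => char_mul_ker (IsIrr.isCharacter χ.2) (hk ⟨n, hn⟩) g)
    (good_of_mem hM h.pidx hχ)) hθ

/-- Restriction is irreducible if the quotient is abelian. -/
theorem res_irr_comm (hM : IsPModular p M) (h : Hyp p N P)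
    (hcomm : ∀ x y : G ⧸ N, x * y = y * x) {χ : IrrCharacter G} (hχ : χ ∈ principalBlock M G) :
    IsIrrCharacter N (fun n : N => (χ : G → ℂ) n) := by
  classical
  have hconj : ∀ u x : G, IsConj u x → u⁻¹ * x ∈ N := by
    intro u x h
    obtain ⟨t, rfl⟩ := isConj_iff.1 h
    rw [← QuotientGroup.eq]
    simp only [QuotientGroup.mk_mul, QuotientGroup.mk_inv]
    rw [hcomm (t : G ⧸ N) u, mul_inv_cancel_right]
  obtain ⟨d, ρ, hρ, hρc⟩ := χ.2
  set σ : Representation ℂ N (Fin d → ℂ) := ρ.comp N.subtype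
  have hinv : ∀ W : Submodule ℂ (Fin d → ℂ), (∀ n : N, ∀ v ∈ W, ρ n v ∈ W) →
      ∀ t : G, ∀ v ∈ W, ρ t v ∈ W := by
    intro W hW
    have hstep : ∀ u ∈ Subgroup.centralizer (P : Set G), ∀ v ∈ W, ρ u⁻¹ v ∈ W := by
      intro u hu v hv
      have hne : centralChar (χ : G → ℂ) u ≠ 0 := fun e =>
        centralChar_unit hM h.pidx hχ hu (e ▸ ideal_zero hM)
      have he : ∑ x : G, classInd u x • ρ x =
          centralChar (χ : G → ℂ) u • LinearMap.id := by
        rw [sum_smul_rep_scalar ρ (classInd_classFun u)]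
        congr 1
        rw [← Representation.char_one ρ, hρc]
        exact omegaFun_classInd u χ
      have h2 : centralChar (χ : G → ℂ) u • ρ u⁻¹ v =
          ∑ x : G, classInd u x • ρ (u⁻¹ * x) v := by
        have := congrArg (ρ u⁻¹) (LinearMap.congr_fun he v)
        simp only [LinearMap.smul_apply, LinearMap.id_apply, LinearMap.sum_apply, map_sum,
          map_smul] at this
        rw [← this]
        exact Finset.sum_congr rfl fun x _ => by rw [map_mul]; rfl
      have h3 : centralChar (χ : G → ℂ) u • ρ u⁻¹ v ∈ W := by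
        rw [h2]
        refine Submodule.sum_mem _ fun x _ => ?_
        by_cases hx : IsConj u x
        · exact W.smul_mem _ (hW ⟨_, hconj u x hx⟩ v hv)
        · rw [show classInd u x = 0 by rw [classInd]; exact if_neg hx, zero_smul]
          exact W.zero_mem
      exact (Submodule.smul_mem_iff W hne).1 h3
    intro t v hv
    obtain ⟨n, hn, a, ha, rfl⟩ := exists_rep N h t
    rw [map_mul]
    refine hW ⟨n, hn⟩ _ ?_
    simpa using hstep a⁻¹ (inv_mem ha) v hv
  haveI := hρ
  have hbt : (⊥ : Subrepresentation σ) ≠ ⊤ := fun h => by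
    have h1 : (⊥ : Submodule ℂ (Fin d → ℂ)) = ⊤ := congrArg Subrepresentation.toSubmodule h
    have h2 := finrank_pos_of_irreducible ρ
    rw [← finrank_top ℂ (Fin d → ℂ), ← h1, finrank_bot] at h2
    exact lt_irrefl _ h2
  haveI : Nontrivial (Subrepresentation σ) := ⟨⟨_, _, hbt⟩⟩
  haveI : σ.IsIrreducible := by
    refine ⟨fun S => ?_⟩
    let S' : Subrepresentation ρ :=
      ⟨S.toSubmodule, fun t v hv => hinv S.toSubmodule
        (fun n w hw => S.apply_mem_toSubmodule n hw) t v hv⟩
    rcases eq_bot_or_eq_top S' with h | h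
    · exact .inl (Subrepresentation.toSubmodule_injective
        (congrArg Subrepresentation.toSubmodule h :))
    · exact .inr (Subrepresentation.toSubmodule_injective
        (congrArg Subrepresentation.toSubmodule h :))
  have := isIrrCharacter_character σ
  rwa [show σ.character = fun n : N => (χ : G → ℂ) n from funext fun n => congrFun hρc (n : G)]
    at this

theorem exists_ext_comm (hM : IsPModular p M) (h : Hyp p N P)
    (hcomm : ∀ x y : G ⧸ N, x * y = y * x) {θ : IrrCharacter N}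
    (hθ : θ ∈ principalBlock M N) :
    ∃ χ ∈ principalBlock M G, ∀ n : N, (χ : G → ℂ) n = (θ : N → ℂ) n := by
  obtain ⟨χ, hχ, hne⟩ := exists_over' N hM h hθ
  refine ⟨χ, hχ, congrFun ?_⟩
  by_contra hh
  exact hne (classInner_irr_ne (res_irr_comm N hM h hcomm hχ) θ.2 hh)

end normal

/-- A character with irreducible restriction is irreducible. -/
theorem isIrr_of_res {χ : G → ℂ} (hχ : IsCharacter G χ) {H : Type*} [Group H] [Finite H]
    (φ : H →* G) (h : IsIrrCharacter H (fun x => χ (φ x))) : IsIrrCharacter G χ := by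
  obtain ⟨d, R, rfl⟩ := hχ
  let ρ : Representation ℂ H (Fin d → ℂ) := R.comp φ
  have hc : ρ.character = fun x => R.character (φ x) := rfl
  haveI : ρ.IsIrreducible := irreducible_of_character ρ (hc ▸ h)
  haveI : Nontrivial (Subrepresentation R) := by
    refine ⟨⟨⊥, ⊤, fun h' => ?_⟩⟩
    have h1 : (⊥ : Submodule ℂ (Fin d → ℂ)) = ⊤ := congrArg Subrepresentation.toSubmodule h'
    have h2 := finrank_pos_of_irreducible ρ
    rw [← finrank_top ℂ (Fin d → ℂ), ← h1, finrank_bot] at h2
    exact lt_irrefl _ h2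
  haveI : R.IsIrreducible := by
    refine ⟨fun S => ?_⟩
    let S' : Subrepresentation ρ :=
      ⟨S.toSubmodule, fun x v hv => S.apply_mem_toSubmodule (φ x) hv⟩
    rcases eq_bot_or_eq_top S' with e | e
    · exact .inl (Subrepresentation.toSubmodule_injective
        (congrArg Subrepresentation.toSubmodule e :))
    · exact .inr (Subrepresentation.toSubmodule_injective
        (congrArg Subrepresentation.toSubmodule e :))
  exact isIrrCharacter_character R

theorem centralChar_comp_mulEquiv {H : Type*} [Group H] [Finite H] (e : H ≃* G) (f : G → ℂ)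
    (g : H) : centralChar (fun x => f (e x)) g = centralChar f (e g) := by
  have h : (Subgroup.centralizer ({g} : Set H)).index =
      (Subgroup.centralizer ({e g} : Set G)).index := by
    rw [← Subgroup.index_comap_of_surjective _ (f := e.toMonoidHom) e.surjective]
    congr 1
    ext x
    simp only [Subgroup.mem_comap, MulEquiv.coe_toMonoidHom,
      Subgroup.mem_centralizer_singleton_iff, ← map_mul, e.injective.eq_iff]
  simp only [centralChar, h, map_one]

theorem mem_principal_comp_mulEquiv {H : Type u} [Group H] [Finite H] (e : H ≃* G)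
    {χ : IrrCharacter G} (hχ : χ ∈ principalBlock M G) :
    (⟨fun x => (χ : G → ℂ) (e x), IsIrr.comp_mulEquiv e χ.2⟩ : IrrCharacter H) ∈
      principalBlock M H := fun g => by
  have e1 := centralChar_comp_mulEquiv e (fun _ : G => (1 : ℂ)) g
  show MemLocalIdeal M _
  rw [centralChar_comp_mulEquiv e (χ : G → ℂ) g, e1]
  exact hχ (e g)

/-- An extension of `θ` to `T` with congruent values on the centralizer of `P`. -/
def GoodExt (M : Ideal AlgInt) (N P : Subgroup G) (θ : N → ℂ) (T : Subgroup G)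
    (χ : T → ℂ) : Prop :=
  IsIrrCharacter T χ ∧ (∀ (x : T) (hx : (x : G) ∈ N), χ x = θ ⟨x, hx⟩) ∧
    ∀ z : T, (z : G) ∈ Subgroup.centralizer (P : Set G) → MemLocalIdeal M (χ z / χ 1 - 1)

section sub

variable (N : Subgroup G) [hN : N.Normal] {P : Subgroup G}

theorem hyp_sub [hp : Fact p.Prime] (h : Hyp p N P) {T : Subgroup G} (hNT : N ≤ T) :
    Hyp p (N.subgroupOf T) (P.subgroupOf T) := by
  refine ⟨fun hd => h.idx (hd.trans ?_), fun x hx => h.le hx,
    fun hd => h.pidx (hd.trans ?_), ?_⟩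
  · rw [← Subgroup.relIndex, ← Subgroup.relIndex_mul_index hNT]
    exact dvd_mul_right _ _
  · rw [← Subgroup.relIndex, ← Subgroup.relIndex_mul_index (h.le.trans hNT)]
    exact dvd_mul_right _ _
  · refine eq_top_iff.2 fun t _ => ?_
    obtain ⟨n, hn, c, hc, e⟩ := exists_rep N h (t : G)
    have hcT : c ∈ T := by
      have : n⁻¹ * (t : G) ∈ T := T.mul_mem (T.inv_mem (hNT hn)) t.2
      rwa [← e, inv_mul_cancel_left] at this
    have hdec : t = (⟨n, hNT hn⟩ : T) * ⟨c, hcT⟩ := Subtype.ext e.symm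
    rw [hdec]
    exact Subgroup.mul_mem_sup hn (Subgroup.mem_centralizer_iff.2 fun x hx =>
      Subtype.ext (Subgroup.mem_centralizer_iff.1 hc (x : G) hx))

theorem mem_centralizer_sub {T : Subgroup G} (hPT : P ≤ T) {z : T}
    (hz : z ∈ Subgroup.centralizer ((P.subgroupOf T : Subgroup T) : Set T)) :
    (z : G) ∈ Subgroup.centralizer (P : Set G) :=
  Subgroup.mem_centralizer_iff.2 fun x hx =>
    congrArg Subtype.val (Subgroup.mem_centralizer_iff.1 hz ⟨x, hPT hx⟩ hx)

theorem goodExt_unique [hp : Fact p.Prime] (hM : IsPModular p M) (h : Hyp p N P)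
    {θ : IrrCharacter N} {T : Subgroup G} (hNT : N ≤ T) {χ ψ : T → ℂ}
    (hχ : GoodExt M N P (θ : N → ℂ) T χ) (hψ : GoodExt M N P (θ : N → ℂ) T ψ) : ψ = χ := by
  classical
  have hPT := h.le.trans hNT
  have hres : ∀ f : T → ℂ, GoodExt M N P (θ : N → ℂ) T f →
      (fun x : N.subgroupOf T => f x) =
        fun x => (θ : N → ℂ) (Subgroup.subgroupOfEquivOfLe hNT x) := fun f hf =>
    funext fun x => hf.2.1 (x : T) x.2
  refine eq_of_over (N.subgroupOf T) hM (hyp_sub N h hNT) hχ.1 hψ.1 ?_ ?_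
    (fun z hz => hχ.2.2 z (mem_centralizer_sub hPT hz))
    (fun z hz => hψ.2.2 z (mem_centralizer_sub hPT hz))
  · rw [hres χ hχ]
    exact IsIrr.comp_mulEquiv (Subgroup.subgroupOfEquivOfLe hNT) θ.2
  · rw [hres χ hχ, hres ψ hψ, classInner_self_irr (IsIrr.comp_mulEquiv _ θ.2)]
    exact one_ne_zero

theorem goodExt_mono {θ : IrrCharacter N} {S T : Subgroup G} (hNS : N ≤ S) (hST : S ≤ T)
    {χ : T → ℂ} (hχ : GoodExt M N P (θ : N → ℂ) T χ) :
    GoodExt M N P (θ : N → ℂ) S (fun x => χ (Subgroup.inclusion hST x)) := by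
  classical
  haveI := Fintype.ofFinite S
  refine ⟨isIrr_of_res (IsChar.comp _ (IsIrr.isCharacter hχ.1)) (Subgroup.inclusion hNS) ?_,
    fun x hx => hχ.2.1 (Subgroup.inclusion hST x) hx, fun z hz => ?_⟩
  · convert θ.2 using 1
    funext n
    exact hχ.2.1 _ n.2
  · simpa using hχ.2.2 (Subgroup.inclusion hST z) hz

theorem solvable_quot (hN' : N ≠ ⊤) (hN1 : N ⊔ commutator G = ⊤) {E : Subgroup G}
    [Group.IsSolvable E] : N ⊔ E ≠ ⊤ := by
  intro hE
  let f : E →* G ⧸ N := (QuotientGroup.mk' N).comp E.subtype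
  have hf : Function.Surjective f := by
    intro q
    obtain ⟨g, rfl⟩ := QuotientGroup.mk'_surjective N q
    obtain ⟨n, hn, e, he, rfl⟩ := Subgroup.mem_sup_of_normal_left.1
      (hE ▸ Subgroup.mem_top g : g ∈ N ⊔ E)
    refine ⟨⟨e, he⟩, ?_⟩
    show ((e : G) : G ⧸ N) = ((n * e : G) : G ⧸ N)
    rw [QuotientGroup.mk_mul, (QuotientGroup.eq_one_iff n).2 hn, one_mul]
  haveI : Group.IsSolvable (G ⧸ N) := Group.isSolvable_of_surjective hf
  haveI : Nontrivial (G ⧸ N) := QuotientGroup.nontrivial_iff.2 hN'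
  apply (Group.IsSolvable.commutator_lt_top_of_nontrivial (G ⧸ N)).ne
  refine eq_top_iff.2 fun q _ => ?_
  obtain ⟨g, rfl⟩ := QuotientGroup.mk'_surjective N q
  obtain ⟨n, hn, c, hc, rfl⟩ := Subgroup.mem_sup_of_normal_left.1
    (hN1 ▸ Subgroup.mem_top g : g ∈ N ⊔ commutator G)
  have h1 : (QuotientGroup.mk' N) c ∈ (commutator G).map (QuotientGroup.mk' N) :=
    ⟨c, hc, rfl⟩
  rw [commutator_def, Subgroup.map_commutator,
    Subgroup.map_top_of_surjective _ (QuotientGroup.mk'_surjective N), ← commutator_def] at h1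
  have hn' : (QuotientGroup.mk' N) n = 1 := (QuotientGroup.eq_one_iff n).2 hn
  rw [map_mul, hn', one_mul]
  exact h1

end sub

/-- Gluing extensions along cyclic steps. -/
theorem glue [hp : Fact p.Prime] (hM : IsPModular p M) (N : Subgroup G) [hN : N.Normal]
    [Fintype N] {P : Subgroup G} (h : Hyp p N P) {θ : IrrCharacter N}
    (hθ : θ ∈ principalBlock M N)
    (hall : ∀ E : Subgroup G, Group.IsSolvable E → ∃ χ, GoodExt M N P (θ : N → ℂ) (N ⊔ E) χ) :
    ∃ χ ∈ principalBlock M G, ∀ n : N, (χ : G → ℂ) n = (θ : N → ℂ) n := by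
  classical
  have hz : ∀ g : G, ∃ χ, GoodExt M N P (θ : N → ℂ) (N ⊔ Subgroup.zpowers g) χ :=
    fun g => hall _ inferInstance
  choose X hX using hz
  have hmem : ∀ g : G, g ∈ N ⊔ Subgroup.zpowers g := fun g =>
    (le_sup_right : Subgroup.zpowers g ≤ N ⊔ Subgroup.zpowers g) (Subgroup.mem_zpowers g)
  let F : G → ℂ := fun g => X g ⟨g, hmem g⟩
  have compat : ∀ (T : Subgroup G), N ≤ T → ∀ χ, GoodExt M N P (θ : N → ℂ) T χ →
      ∀ x : T, F x = χ x := by
    intro T hNT χ hχ x
    have hST : N ⊔ Subgroup.zpowers (x : G) ≤ T := sup_le hNT (Subgroup.zpowers_le.2 x.2)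
    have := congrFun (goodExt_unique N hM h le_sup_left (hX x)
      (goodExt_mono N le_sup_left hST hχ)) ⟨x, hmem x⟩
    exact this.symm
  have hFn : ∀ n : N, F n = (θ : N → ℂ) n := fun n => (hX n).2.1 ⟨(n : G), hmem n⟩ n.2
  have hF1 : F 1 = (θ : N → ℂ) 1 := hFn 1
  have hgood : Good M P F := by
    intro z hz
    have e1 : F 1 = X z 1 := compat _ le_sup_left _ (hX z) 1
    have e2 : F z = X z ⟨z, hmem z⟩ := rfl
    rw [e1, e2]
    exact (hX z).2.2 _ hz
  have hconjN : ∀ n ∈ N, ∀ g, F (n * g * n⁻¹) = F g := by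
    intro n hn g
    have hn' : n ∈ N ⊔ Subgroup.zpowers g := (le_sup_left : N ≤ _) hn
    have e := compat _ le_sup_left _ (hX g) ⟨n * g * n⁻¹,
      mul_mem (mul_mem hn' (hmem g)) (inv_mem hn')⟩
    rw [e]
    exact IsIrr.classFun (hX g).1 ⟨g, hmem g⟩ ⟨n, hn'⟩
  have hinv : ∀ c : G, ∀ n : N, (θ : N → ℂ) ⟨c * n * c⁻¹, hN.conj_mem n n.2 c⟩ =
      (θ : N → ℂ) n := by
    intro c n
    have hn' : (n : G) ∈ N ⊔ Subgroup.zpowers c := (le_sup_left : N ≤ _) n.2
    have e1 := (hX c).2.1 ⟨c * n * c⁻¹, mul_mem (mul_mem (hmem c) hn') (inv_mem (hmem c))⟩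
      (hN.conj_mem n n.2 c)
    have e2 := (hX c).2.1 ⟨(n : G), hn'⟩ n.2
    have e3 := IsIrr.classFun (hX c).1 ⟨(n : G), hn'⟩ ⟨c, hmem c⟩
    exact e1.symm.trans (e3.trans e2)
  have hconjC : ∀ c ∈ Subgroup.centralizer (P : Set G), ∀ g, F (c * g * c⁻¹) = F g := by
    intro c hc g
    set S := N ⊔ Subgroup.zpowers g
    set S' := N ⊔ Subgroup.zpowers (c * g * c⁻¹)
    have hm : ∀ x ∈ S, c * x * c⁻¹ ∈ S' := by
      intro x hx
      obtain ⟨n, hn, y, hy, rfl⟩ := Subgroup.mem_sup_of_normal_left.1 hx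
      obtain ⟨k, rfl⟩ := Subgroup.mem_zpowers_iff.1 hy
      rw [show c * (n * g ^ k) * c⁻¹ = (c * n * c⁻¹) * (c * g * c⁻¹) ^ k by
        rw [conj_zpow]; group]
      exact mul_mem ((le_sup_left : N ≤ S') (hN.conj_mem n hn c))
        ((le_sup_right : _ ≤ S') (zpow_mem (Subgroup.mem_zpowers _) k))
    let ψ : S →* S' :=
      { toFun := fun x => ⟨c * x * c⁻¹, hm x x.2⟩
        map_one' := Subtype.ext (by simp)
        map_mul' := fun x y => Subtype.ext (by simp [mul_assoc]) }
    have hg : GoodExt M N P (θ : N → ℂ) S (fun x => X (c * g * c⁻¹) (ψ x)) := by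
      refine ⟨isIrr_of_res (IsChar.comp ψ (IsIrr.isCharacter (hX _).1))
        (Subgroup.inclusion (le_sup_left : N ≤ S)) ?_, fun x hx => ?_, fun z hz => ?_⟩
      · convert θ.2 using 1
        funext n
        exact ((hX _).2.1 (ψ (Subgroup.inclusion (le_sup_left : N ≤ S) n))
          (hN.conj_mem n n.2 c)).trans (hinv c n)
      · exact ((hX _).2.1 (ψ x) (hN.conj_mem x hx c)).trans (hinv c ⟨x, hx⟩)
      · simp only [map_one]
        exact (hX _).2.2 (ψ z) (mul_mem (mul_mem hc hz) (inv_mem hc))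
    exact (congrFun (goodExt_unique N hM h le_sup_left (hX g) hg) ⟨g, hmem g⟩)
  have hcls : IsClassFunction G F := by
    intro g t
    obtain ⟨n, hn, c, hc, rfl⟩ := exists_rep N h t
    rw [show n * c * g * (n * c)⁻¹ = n * (c * g * c⁻¹) * n⁻¹ by group, hconjN n hn, hconjC c hc]
  have hgen : IsGeneralizedCharacter G F := by
    refine Brauer.isGenChar_of_elementary hcls fun E hE => ?_
    obtain ⟨q, hq, hE⟩ := hE
    haveI := Brauer.isNilpotent_of_elementary hq hE
    obtain ⟨χ, hχ⟩ := hall E inferInstance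
    refine IsGenChar.of_isCharacter ?_
    rw [show (fun e : E => F e) = fun e : E => χ (Subgroup.inclusion le_sup_right e) from
      funext fun e => compat _ le_sup_left χ hχ (Subgroup.inclusion le_sup_right e)]
    exact IsChar.comp _ (IsIrr.isCharacter hχ.1)
  have havg : ∀ g, avgN N (F * fun x => conj (F x)) g = 1 := by
    intro g
    set S := N ⊔ Subgroup.zpowers g
    haveI : (N.subgroupOf S).Normal := inferInstance
    haveI := Fintype.ofFinite (N.subgroupOf S)
    let e := Subgroup.subgroupOfEquivOfLe (le_sup_left : N ≤ S)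
    have hres : (fun x : N.subgroupOf S => X g x) = fun x => (θ : N → ℂ) (e x) :=
      funext fun x => (hX g).2.1 (x : S) x.2
    have hirr : IsIrrCharacter _ (fun x : N.subgroupOf S => X g x) := by
      rw [hres]; exact IsIrr.comp_mulEquiv e θ.2
    obtain ⟨hη, heq⟩ := gallagher (N.subgroupOf S) (hX g).1 (hX g).1 hirr
      (by rw [classInner_self_irr hirr]; exact one_ne_zero)
    set η := avgN (N.subgroupOf S) (X g * fun x => conj (X g x)) with hηdef
    have h1 : η = fun _ => 1 := by
      by_contra hne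
      have h0 := classInner_irr_ne hη isIrr_one hne
      have ha : avgN (N.subgroupOf S) (fun _ : S => (1 : ℂ)) = fun _ => 1 := funext fun x => by
        simp [avgN, Nat.card_eq_fintype_card]
      rw [hηdef, classInner_avgN, ha] at h0
      have hself := classInner_self_irr (hX g).1
      simp only [classInner, Pi.mul_apply, map_one, mul_one] at h0 hself
      rw [hself] at h0
      exact one_ne_zero h0
    have h2 := congrFun h1 (⟨g, hmem g⟩ : S)
    rw [hηdef] at h2
    simp only [avgN, Pi.mul_apply] at h2 ⊢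
    rw [← h2, Nat.card_congr e.toEquiv]
    congr 1
    refine (Fintype.sum_equiv e.toEquiv _ _ fun x => ?_).symm
    have := compat S le_sup_left _ (hX g) ((x : S) * ⟨g, hmem g⟩)
    simp only [Subgroup.coe_mul] at this
    have hcoe : ((e x : N) : G) = ((x : S) : G) := rfl
    simp only [MulEquiv.toEquiv_eq_coe, MulEquiv.coe_toEquiv, hcoe, this]
  have hnorm : classInner F F = 1 := by
    have ha : avgN N (fun _ : G => (1 : ℂ)) = fun _ => 1 := funext fun x => by
      simp [avgN, Nat.card_eq_fintype_card]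
    have e : classInner F F = classInner (F * fun x => conj (F x)) (fun _ => 1) := by
      simp [classInner]
    rw [e, ← ha, ← classInner_avgN, funext havg]
    simp [classInner]
  have hirrF : IsIrrCharacter G F := by
    refine (IsGenChar.norm_one hgen hnorm).resolve_right fun hneg => ?_
    obtain ⟨a, ha, e⟩ := IsIrr.one_eq_pos hneg
    obtain ⟨b, hb, e'⟩ := IsIrr.one_eq_pos θ.2
    rw [Pi.neg_apply, hF1, e'] at e
    have : ((a + b : ℕ) : ℂ) = 0 := by push_cast; rw [← e]; ring
    rw [Nat.cast_eq_zero] at this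
    omega
  obtain ⟨χ, hχ, hne⟩ := exists_over' N hM h hθ
  have hFres : (fun n : N => F n) = (θ : N → ℂ) := funext hFn
  refine ⟨χ, hχ, fun n => ?_⟩
  rw [eq_of_over N hM h hirrF χ.2 (by rw [hFres]; exact θ.2) (by rw [hFres]; exact hne) hgood
    (good_of_mem hM h.pidx hχ)]
  exact hFn n

theorem exists_ext_aux [hp : Fact p.Prime] (hM : IsPModular p M) : ∀ (k : ℕ) (G : Type u)
    [Group G] [Fintype G], Nat.card G ≤ k → ∀ (N : Subgroup G) [N.Normal] [Fintype N]
    (P : Subgroup G), Hyp p N P → ∀ θ ∈ principalBlock M N,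
    ∃ χ ∈ principalBlock M G, ∀ n : N, (χ : G → ℂ) n = (θ : N → ℂ) n := by
  intro k
  induction k with
  | zero =>
    intro G _ _ hk
    exact absurd (Nat.le_zero.1 hk) Nat.card_pos.ne'
  | succ k IH =>
    intro G _ _ hk N _ _ P h θ hθ
    classical
    have hlt : ∀ T : Subgroup G, T ≠ ⊤ → Nat.card T ≤ k := fun T hT => by
      have h1 : Nat.card T < Nat.card G :=
        lt_of_le_of_ne (Subgroup.card_le_card_group T) fun e =>
          hT (Subgroup.eq_top_of_card_eq T e)
      omega
    have hrec : ∀ T : Subgroup G, T ≠ ⊤ → ∀ hNT : N ≤ T, ∃ ψ ∈ principalBlock M T,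
        GoodExt M N P (θ : N → ℂ) T (ψ : T → ℂ) := by
      intro T hT hNT
      haveI := Fintype.ofFinite T
      haveI := Fintype.ofFinite (N.subgroupOf T)
      have hT' := hyp_sub N h hNT
      obtain ⟨ψ, hψ, hres⟩ := IH T (hlt T hT) (N.subgroupOf T) (P.subgroupOf T) hT' _
        (mem_principal_comp_mulEquiv (Subgroup.subgroupOfEquivOfLe hNT) hθ)
      refine ⟨ψ, hψ, ψ.2, fun x hx => hres ⟨x, hx⟩, fun z hz => ?_⟩
      exact good_of_mem hM hT'.pidx hψ z (Subgroup.mem_centralizer_iff.2 fun x hx =>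
        Subtype.ext (Subgroup.mem_centralizer_iff.1 hz (x : G) hx))
    have hc : ∀ (N1 : Subgroup G) [N1.Normal], commutator G ≤ N1 →
        ∀ x y : G ⧸ N1, x * y = y * x := fun N1 _ hle x y =>
      (Subgroup.Normal.quotient_commutative_iff_commutator_le.2 hle).is_comm.comm x y
    by_cases hN1 : N ⊔ commutator G = ⊤
    · by_cases hN' : N = ⊤
      · exact exists_ext_comm N hM h (hc N (hN'.symm ▸ le_top)) hθ
      · refine glue hM N h hθ fun E hE => ?_
        haveI := hE
        obtain ⟨ψ, -, hψ⟩ := hrec _ (solvable_quot N hN' hN1 (E := E)) le_sup_left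
        exact ⟨_, hψ⟩
    · set N1 := N ⊔ commutator G
      haveI : N1.Normal := inferInstance
      haveI := Fintype.ofFinite N1
      obtain ⟨ψ, hψ, hψg⟩ := hrec N1 hN1 le_sup_left
      have h1 : Hyp p N1 P := by
        refine ⟨fun hd => h.idx (hd.trans (Subgroup.index_dvd_of_le le_sup_left)),
          h.le.trans le_sup_left, h.pidx, ?_⟩
        rw [eq_top_iff, ← h.sup]
        exact sup_le_sup_right le_sup_left _
      obtain ⟨χ, hχ, hres⟩ := exists_ext_comm N1 hM h1 (hc N1 le_sup_right) hψ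
      refine ⟨χ, hχ, fun n => ?_⟩
      exact (hres ⟨n, (le_sup_left : N ≤ N1) n.2⟩).trans (hψg.2.1 _ n.2)

/-- Alperin's theorem on isomorphic principal blocks. -/
theorem isomorphic_blocks [hp : Fact p.Prime] (hM : IsPModular p M) (N : Subgroup G)
    [hN : N.Normal] [Fintype N] {P : Subgroup G} (h : Hyp p N P) :
    (∀ χ ∈ principalBlock M G, ∃ θ ∈ principalBlock M N,
      ∀ n : N, (χ : G → ℂ) n = (θ : N → ℂ) n) ∧
    ∀ θ ∈ principalBlock M N, ∃! χ : IrrCharacter G,
      χ ∈ principalBlock M G ∧ ∀ n : N, (χ : G → ℂ) n = (θ : N → ℂ) n := by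
  classical
  have hex := fun θ hθ => exists_ext_aux hM (Nat.card G) G le_rfl N P h θ hθ
  have huniq : ∀ θ : IrrCharacter N, ∀ χ ψ : IrrCharacter G, χ ∈ principalBlock M G →
      ψ ∈ principalBlock M G → (∀ n : N, (χ : G → ℂ) n = (θ : N → ℂ) n) →
      classInner (fun n : N => (ψ : G → ℂ) n) (θ : N → ℂ) ≠ 0 → ψ = χ := by
    intro θ χ ψ hχ hψ hres hne
    have e : (fun n : N => (χ : G → ℂ) n) = (θ : N → ℂ) := funext hres
    exact Subtype.ext (eq_of_over N hM h χ.2 ψ.2 (e ▸ θ.2) (by rw [e]; exact hne)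
      (good_of_mem hM h.pidx hχ) (good_of_mem hM h.pidx hψ))
  refine ⟨fun χ hχ => ?_, fun θ hθ => ?_⟩
  · obtain ⟨θ₀, hne⟩ := exists_constituent_res N χ
    have h1 : classInner (fun n : N => (trivialIrr G : G → ℂ) n) (trivialIrr N : N → ℂ) ≠ 0 := by
      rw [show classInner (fun n : N => (trivialIrr G : G → ℂ) n) (trivialIrr N : N → ℂ) = 1 from
        classInner_self_irr (isIrr_one (G := N))]
      exact one_ne_zero
    obtain ⟨g, θ', hθ', he⟩ := constituents_in_conjugates N hM isPBlock_principalBlock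
      isPBlock_principalBlock (trivial_mem_principalBlock hM) (trivial_mem_principalBlock hM)
      h1 hχ hne
    have hθ₀ : θ₀ ∈ principalBlock M N := by
      have h2 : SameBlock M ((conjPerm N g (trivialIrr N) : IrrCharacter N) : N → ℂ)
          ((conjPerm N g θ' : IrrCharacter N) : N → ℂ) := sameBlock_conjPerm N g hθ'
      have e : θ₀ = conjPerm N g θ' := Subtype.ext (funext he)
      rw [e]
      exact h2
    obtain ⟨χ', hχ', hres⟩ := hex θ₀ hθ₀
    exact ⟨θ₀, hθ₀, (huniq θ₀ χ' χ hχ' hχ hres hne) ▸ hres⟩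
  · obtain ⟨χ, hχ, hres⟩ := hex θ hθ
    refine ⟨χ, ⟨hχ, hres⟩, fun ψ hψ => huniq θ χ ψ hχ hψ.1 hres ?_⟩
    rw [show (fun n : N => (ψ : G → ℂ) n) = (θ : N → ℂ) from funext hψ.2, classInner_self_irr θ.2]
    exact one_ne_zero

end Cfsg.Agent.Char.Alperin
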