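import Cfsg.Agent.Lib.Char.Complete
import Cfsg.Agent.Lib.Char.OverCyclic

/-!
Characters whose squared absolute values average to one on every coset outside a normal subgroup
with cyclic quotient: away from the subgroup such a character is one irreducible character up to
sign, and the difference is a combination vanishing there.
-/

open scoped ComplexConjugate

namespace Cfsg.Agent.Char.NearConst

open Cfsg Cfsg.Agent.Char

set_option linter.unusedSectionVars false
set_option linter.style.haveILetI false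

universe u

section Twist

variable {M : Type u} [Group M] [Fintype M] {N : Subgroup M} [Fintype N]

/-- Multiplication by a linear character, on irreducible characters. -/
noncomputable def twist (l : M →* ℂˣ) : IrrCharacter M ≃ IrrCharacter M where
  toFun φ := ⟨fun x => (l x : ℂ) * (φ : M → ℂ) x, IsIrr.mul_linear φ.2 l⟩
  invFun φ := ⟨fun x => (l⁻¹ x : ℂ) * (φ : M → ℂ) x, IsIrr.mul_linear φ.2 l⁻¹⟩
  left_inv φ := Subtype.ext (funext fun x => by
    show (l⁻¹ x : ℂ) * ((l x : ℂ) * (φ : M → ℂ) x) = _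
    rw [← mul_assoc, MonoidHom.inv_apply, Units.inv_mul, one_mul])
  right_inv φ := Subtype.ext (funext fun x => by
    show (l x : ℂ) * ((l⁻¹ x : ℂ) * (φ : M → ℂ) x) = _
    rw [← mul_assoc, MonoidHom.inv_apply, Units.mul_inv, one_mul])

theorem twist_apply (l : M →* ℂˣ) (φ : IrrCharacter M) (x : M) :
    (twist l φ : M → ℂ) x = (l x : ℂ) * (φ : M → ℂ) x := rfl

theorem twist_twist (l : M →* ℂˣ) (φ : IrrCharacter M) :
    twist l (twist l φ) = twist (l * l) φ :=
  Subtype.ext (funext fun x => by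
    simp [twist_apply, mul_assoc])

theorem lin_mul_conj (l : M →* ℂˣ) (x : M) : (l x : ℂ) * conj (l x : ℂ) = 1 := by
  have h : (l x⁻¹ : ℂ) = conj (l x : ℂ) := IsIrr.apply_inv (isIrr_linear l) x
  rw [← h, map_inv, Units.mul_inv]

theorem norm_expansion (a : IrrCharacter M → ℂ) :
    classInner (∑ φ, a φ • (φ : M → ℂ)) (∑ φ, a φ • (φ : M → ℂ)) = ∑ φ, a φ * conj (a φ) :=
  classInner_sum_sum a a

/-- The squared differences of the multiplicities along a twist add up to two. -/
theorem sum_sq_diff {ψ : M → ℂ} (a : IrrCharacter M → ℕ)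
    (hψ : ψ = ∑ φ, (a φ : ℂ) • (φ : M → ℂ))
    (hcos : ∀ x : M, x ∉ N → ∑ n : N, ψ (n * x) * conj (ψ (n * x)) = (Nat.card N : ℂ))
    (m : M →* ℂˣ) (hm : ∀ n : N, m n = 1) (hm1 : m ≠ 1) :
    ∑ φ, ((a (twist m φ) : ℤ) - (a φ : ℤ)) ^ 2 = 2 := by
  classical
  set f : M → ℂ := fun x => ((1 : ℂ) - (m x : ℂ)) * conj ((1 : ℂ) - (m x : ℂ)) with hf
  set w : M → ℂ := fun x => ψ x * conj (ψ x) - 1 with hw
  -- the two averages agree
  have h0 : ∑ x : M, f x * w x = 0 := by
    have h1 : ∀ x : M, ∑ n : N, f ((n : M) * x) * w ((n : M) * x) = 0 := by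
      intro x
      have hfn : ∀ n : N, f ((n : M) * x) = f x := fun n => by
        simp only [hf, map_mul, hm n, one_mul]
      simp only [hfn, ← Finset.mul_sum]
      by_cases hx : x ∈ N
      · have : f x = 0 := by simp [hf, hm ⟨x, hx⟩]
        rw [this, zero_mul]
      · have : ∑ n : N, w ((n : M) * x) = 0 := by
          simp only [hw, Finset.sum_sub_distrib, hcos x hx, Finset.sum_const, Finset.card_univ,
            nsmul_one, Nat.card_eq_fintype_card, sub_self]
        rw [this, mul_zero]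
    have h2 : ∑ x : M, ∑ n : N, f ((n : M) * x) * w ((n : M) * x) =
        (Fintype.card N : ℂ) * ∑ x : M, f x * w x := by
      rw [Finset.sum_comm, Finset.sum_congr rfl (g := fun _ => ∑ x : M, f x * w x) fun (n : N) _ =>
        Fintype.sum_equiv (Equiv.mulLeft (n : M)) (fun x => f ((n : M) * x) * w ((n : M) * x))
          (fun x => f x * w x) (fun x => rfl), Finset.sum_const,
        Finset.card_univ, nsmul_eq_mul]
    rw [Finset.sum_congr rfl fun x _ => h1 x, Finset.sum_const_zero] at h2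
    exact (mul_eq_zero.1 h2.symm).resolve_left (Nat.cast_ne_zero.2 Fintype.card_ne_zero)
  -- so the twisted difference has norm two
  have hfsum : ∑ x : M, f x = 2 * (Fintype.card M : ℂ) := by
    have e : ∀ x : M, f x = 2 - (m x : ℂ) - conj (m x : ℂ) := fun x => by
      simp only [hf, map_sub, map_one]
      linear_combination lin_mul_conj m x
    simp only [e, Finset.sum_sub_distrib, Finset.sum_const, Finset.card_univ, nsmul_eq_mul,
      ← map_sum, linear_sum m hm1, map_zero]
    ring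
  have hsum : ∑ x : M, f x * (ψ x * conj (ψ x)) = 2 * (Fintype.card M : ℂ) := by
    rw [← hfsum, ← sub_eq_zero, ← Finset.sum_sub_distrib]
    refine (Finset.sum_congr rfl fun x _ => ?_).trans h0
    simp only [hw]
    ring
  set δ : IrrCharacter M → ℂ := fun φ => (a (twist m φ) : ℂ) - (a φ : ℂ) with hδ
  have hψ' : ψ = ∑ φ, (a (twist m φ) : ℂ) • (twist m φ : M → ℂ) :=
    hψ.trans (Equiv.sum_comp (twist m) (fun φ => (a φ : ℂ) • (φ : M → ℂ))).symm
  have hD : ∀ x, ∑ φ, δ φ * (φ : M → ℂ) x = (conj (m x : ℂ) - 1) * ψ x := by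
    intro x
    rw [sub_mul, one_mul]
    conv_rhs => arg 2; rw [hψ, Finset.sum_apply]
    conv_rhs => arg 1; rw [hψ', Finset.sum_apply, Finset.mul_sum]
    rw [← Finset.sum_sub_distrib]
    refine Finset.sum_congr rfl fun φ _ => ?_
    simp only [hδ, Pi.smul_apply, smul_eq_mul, twist_apply]
    linear_combination (- (a (twist m φ) : ℂ) * (φ : M → ℂ) x) * lin_mul_conj m x
  have hn : classInner (∑ φ, δ φ • (φ : M → ℂ)) (∑ φ, δ φ • (φ : M → ℂ)) = 2 := by
    rw [classInner, Finset.sum_congr rfl (g := fun x => f x * (ψ x * conj (ψ x))) fun x _ => by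
      simp only [Finset.sum_apply, Pi.smul_apply, smul_eq_mul, hD, hf, map_mul, map_sub, map_one,
        Complex.conj_conj]
      ring, hsum, Nat.card_eq_fintype_card]
    field_simp
  rw [norm_expansion] at hn
  have key : ∑ φ, δ φ * conj (δ φ) =
      ((∑ φ, ((a (twist m φ) : ℤ) - (a φ : ℤ)) ^ 2 : ℤ) : ℂ) := by
    push_cast
    refine Finset.sum_congr rfl fun φ _ => ?_
    simp only [hδ, map_sub, map_natCast]
    ring
  rw [key] at hn
  exact_mod_cast hn

/-- A point at which the differences of a permuted family are opposite units. -/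
theorem exists_step {I : Type*} [Fintype I] [DecidableEq I] (T : I ≃ I) (a : I → ℤ)
    (h1 : ∑ i, (a (T i) - a i) ^ 2 = 2)
    (h2 : (∀ i, T (T i) = i) ∨ ∑ i, (a (T (T i)) - a i) ^ 2 = 2) :
    ∃ (i : I) (u : ℤ), (u = 1 ∨ u = -1) ∧ T i ≠ i ∧ a (T i) - a i = u ∧
      a (T (T i)) - a (T i) = -u ∧ ∀ j, j ≠ i → j ≠ T i → a (T j) - a j = 0 := by
  set d : I → ℤ := fun i => a (T i) - a i with hd
  have hd0 : ∑ i, d i = 0 := by
    simp only [hd, Finset.sum_sub_distrib, Equiv.sum_comp T a, sub_self]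
  -- a pair of consecutive opposite differences
  obtain ⟨i, hi⟩ : ∃ i, d i * d (T i) < 0 := by
    by_contra hne
    push Not at hne
    rcases h2 with h2 | h2
    · have : ∀ i, d i = 0 := fun i => by
        have e : d (T i) = - d i := by simp only [hd, h2, neg_sub]
        have := hne i
        rw [e, mul_neg, neg_nonneg] at this
        exact mul_self_eq_zero.1 (le_antisymm this (mul_self_nonneg _))
      simp only [hd] at this
      simp [this] at h1
    · have e : ∀ i, (a (T (T i)) - a i) ^ 2 = d i ^ 2 + d (T i) ^ 2 + 2 * (d i * d (T i)) :=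
        fun i => by simp only [hd]; ring
      simp only [e, Finset.sum_add_distrib, ← Finset.mul_sum] at h2
      rw [Equiv.sum_comp T (fun i => d i ^ 2), h1] at h2
      have := Finset.sum_nonneg fun i (_ : i ∈ Finset.univ) => hne i
      omega
  have hne : T i ≠ i := fun h => by
    rw [h] at hi
    exact absurd hi (not_lt.2 (mul_self_nonneg _))
  have hi1 : d i ≠ 0 := fun h => by simp [h] at hi
  have hi2 : d (T i) ≠ 0 := fun h => by simp [h] at hi
  have hsplit : ∑ j, d j ^ 2 =
      d i ^ 2 + d (T i) ^ 2 + ∑ j ∈ (Finset.univ.erase i).erase (T i), d j ^ 2 := by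
    rw [add_assoc, Finset.add_sum_erase (Finset.univ.erase i) (fun j => d j ^ 2)
        (Finset.mem_erase.2 ⟨hne, Finset.mem_univ _⟩),
      Finset.add_sum_erase Finset.univ (fun j => d j ^ 2) (Finset.mem_univ _)]
  have hnn : ∀ j ∈ (Finset.univ.erase i).erase (T i), 0 ≤ d j ^ 2 := fun j _ => sq_nonneg _
  have hrest := Finset.sum_nonneg hnn
  have e1 : 0 < d i ^ 2 := by positivity
  have e2 : 0 < d (T i) ^ 2 := by positivity
  have h1' : ∑ j, d j ^ 2 = 2 := h1
  have hu : d i ^ 2 = 1 := by omega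
  have hzero : ∀ j, j ≠ i → j ≠ T i → d j = 0 := fun j hj hj' =>
    pow_eq_zero_iff two_ne_zero |>.1 ((Finset.sum_eq_zero_iff_of_nonneg hnn).1 (by omega) j
      (Finset.mem_erase.2 ⟨hj', Finset.mem_erase.2 ⟨hj, Finset.mem_univ _⟩⟩))
  have hsum : d i + d (T i) = 0 := by
    rw [← hd0, ← Finset.add_sum_erase _ _ (Finset.mem_univ i),
      ← Finset.add_sum_erase _ _ (Finset.mem_erase.2 ⟨hne, Finset.mem_univ _⟩),
      Finset.sum_eq_zero fun j hj => hzero j (Finset.mem_erase.1 (Finset.mem_erase.1 hj).2).1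
        (Finset.mem_erase.1 hj).1, add_zero]
  exact ⟨i, d i, sq_eq_one_iff.1 hu, hne, rfl, by show d (T i) = - d i; omega, hzero⟩

/-- Away from the subgroup such a character is an irreducible character up to sign. -/
theorem exists_main (l : M →* ℂˣ) (hl : ∀ x, l x = 1 ↔ x ∈ N) (hN : N ≠ ⊤) {ψ : M → ℂ}
    (hψ : IsCharacter M ψ)
    (hcos : ∀ x : M, x ∉ N → ∑ n : N, ψ (n * x) * conj (ψ (n * x)) = (Nat.card N : ℂ)) :
    ∃ (φ₀ : IrrCharacter M) (ε : ℤ), (ε = 1 ∨ ε = -1) ∧
      (∃ φ : IrrCharacter M, classInner ψ (φ : M → ℂ) ≠ 0 ∧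
        ∀ n : N, (φ₀ : M → ℂ) n = (φ : M → ℂ) n) ∧
      (∀ x : M, x ∉ N → ψ x = (ε : ℂ) * (φ₀ : M → ℂ) x) ∧
      ∀ φ : IrrCharacter M, ∃ b : ℕ,
        classInner (fun x => ψ x - (ε : ℂ) * (φ₀ : M → ℂ) x) (φ : M → ℂ) = b := by
  classical
  have hn : ∀ φ : IrrCharacter M, ∃ k : ℕ, classInner ψ (φ : M → ℂ) = k := fun φ =>
    IsChar.classInner_nat hψ (IsIrr.isCharacter φ.2)
  choose a ha using hn
  have hexp : ψ = ∑ φ, (a φ : ℂ) • (φ : M → ℂ) := by
    conv_lhs => rw [classFunction_expansion (IsChar.classFun hψ)]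
    exact Finset.sum_congr rfl fun φ _ => by rw [ha]
  obtain ⟨x₁, hx₁⟩ : ∃ x, x ∉ N := by
    by_contra h
    push Not at h
    exact hN (eq_top_iff.2 fun x _ => h x)
  have hl1 : l ≠ 1 := fun h => hx₁ ((hl x₁).1 (by rw [h, MonoidHom.one_apply]))
  have h1 := sum_sq_diff a hexp hcos l (fun n => (hl n).2 n.2) hl1
  have h2 : (∀ φ : IrrCharacter M, twist l (twist l φ) = φ) ∨
      ∑ φ, ((a (twist l (twist l φ)) : ℤ) - (a φ : ℤ)) ^ 2 = 2 := by
    by_cases h : l * l = 1
    · exact Or.inl fun φ => by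
        rw [twist_twist, h]
        exact Subtype.ext (funext fun x => by simp [twist_apply])
    · exact Or.inr (by
        simp only [twist_twist]
        exact sum_sq_diff a hexp hcos (l * l) (fun n => by
          rw [MonoidHom.mul_apply, (hl n).2 n.2, one_mul]) h)
  obtain ⟨i, u, hu, hne, d1, d2, d3⟩ := exists_step (twist l) (fun φ => (a φ : ℤ)) h1 h2
  -- the combination left is invariant under the twist
  set b : IrrCharacter M → ℤ := fun φ => (a φ : ℤ) - if φ = twist l i then u else 0 with hb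
  have hbinv : ∀ φ, b (twist l φ) = b φ := by
    intro φ
    simp only [hb, (twist l).injective.eq_iff]
    by_cases hφi : φ = i
    · subst hφi
      rw [if_pos rfl, if_neg (fun h => hne h.symm)]
      omega
    rw [if_neg hφi]
    by_cases hφj : φ = twist l i
    · subst hφj
      rw [if_pos rfl]
      omega
    rw [if_neg hφj]
    have := d3 φ hφi hφj
    omega
  have hbnn : ∀ φ, 0 ≤ b φ := by
    intro φ
    by_cases hφ : φ = twist l i
    · subst hφ
      rw [hbinv]
      simp [hb, Ne.symm hne]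
    · simp [hb, hφ]
  set F : M → ℂ := ∑ φ, (b φ : ℂ) • (φ : M → ℂ) with hF
  have hFψ : ∀ x, F x = ψ x - (u : ℂ) * (twist l i : M → ℂ) x := by
    intro x
    conv_rhs => arg 1; rw [hexp, Finset.sum_apply]
    rw [hF, Finset.sum_apply, eq_sub_iff_add_eq,
      ← Fintype.sum_ite_eq' (twist l i) (fun φ => (u : ℂ) * (φ : M → ℂ) x),
      ← Finset.sum_add_distrib]
    refine Finset.sum_congr rfl fun φ _ => ?_
    simp only [hb, Pi.smul_apply, smul_eq_mul]
    split_ifs <;> push_cast <;> ring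
  have hFl : ∀ x, (l x : ℂ) * F x = F x := by
    intro x
    rw [hF, Finset.sum_apply, Finset.mul_sum]
    refine Fintype.sum_equiv (twist l) _ _ fun φ => ?_
    simp only [Pi.smul_apply, smul_eq_mul, twist_apply, hbinv]
    ring
  refine ⟨twist l i, u, hu, ?_, fun x hx => ?_, fun φ => ?_⟩
  · have hres : ∀ n : N, (twist l (twist l i) : M → ℂ) n = (twist l i : M → ℂ) n := fun n => by
      rw [twist_apply, (hl n).2 n.2, Units.val_one, one_mul]
    by_cases h : a (twist l i) = 0
    · refine ⟨twist l (twist l i), ?_, fun n => (hres n).symm⟩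
      rw [ha, Nat.cast_ne_zero]
      intro h'
      simp only [h, h', Nat.cast_zero, sub_self] at d2
      omega
    · exact ⟨twist l i, by rw [ha, Nat.cast_ne_zero]; exact h, fun n => rfl⟩
  · have h := hFl x
    have hlx : (l x : ℂ) ≠ 1 := fun h' => hx ((hl x).1 (Units.val_eq_one.1 h'))
    have hF0 : F x = 0 := by
      by_contra hF0
      exact hlx (mul_right_cancel₀ hF0 (h.trans (one_mul _).symm))
    rw [hFψ, sub_eq_zero] at hF0
    exact hF0
  · refine ⟨(b φ).toNat, ?_⟩
    have : (fun x => ψ x - (u : ℂ) * (twist l i : M → ℂ) x) = F := funext fun x => (hFψ x).symm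
    rw [this, hF, classInner_sum_irr]
    exact_mod_cast (Int.toNat_of_nonneg (hbnn φ)).symm

end Twist

section Cosets

variable {Γ : Type u} [Group Γ] [Fintype Γ] {G : Subgroup Γ} [G.Normal] [Fintype G]

/-- With irreducible restriction, the squared absolute values average to one on each coset. -/
theorem coset_norm (l : Γ →* ℂˣ) (hl : ∀ x, l x = 1 ↔ x ∈ G) {χ : Γ → ℂ}
    (hχ : IsIrrCharacter Γ χ) (hres : IsIrrCharacter G (fun g : G => χ g)) (y : Γ) :
    ∑ g : G, χ (g * y) * conj (χ (g * y)) = (Nat.card G : ℂ) := by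
  classical
  set s := G.index with hs
  set F : Γ → ℂ := fun x => χ x * conj (χ x) with hF
  have hs0 : s ≠ 0 := Subgroup.index_ne_zero_of_finite
  have hpow : ∀ x : Γ, (l x : ℂ) ^ s = 1 := fun x => by
    rw [← Units.val_pow_eq_pow_val, ← map_pow, (hl _).2 (G.pow_index_mem x), Units.val_one]
  have hroot : ∀ x z : Γ, ∑ j ∈ Finset.range s, ((l (x * z⁻¹) : ℂ)) ^ j =
      if x * z⁻¹ ∈ G then (s : ℂ) else 0 := by
    intro x z
    by_cases h : x * z⁻¹ ∈ G
    · rw [if_pos h, (hl _).2 h]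
      simp
    · rw [if_neg h]
      refine (mul_eq_zero.1 (by rw [geom_sum_mul, hpow, sub_self] :
        (∑ j ∈ Finset.range s, (l (x * z⁻¹) : ℂ) ^ j) * ((l (x * z⁻¹) : ℂ) - 1) = 0)).resolve_right
        (sub_ne_zero.2 fun h' => h ((hl _).1 (Units.val_eq_one.1 h')))
  have hcoset : ∀ z : Γ, ∑ j ∈ Finset.range s,
      ((l z⁻¹ : ℂ)) ^ j * ∑ x : Γ, (l x : ℂ) ^ j * F x = (s : ℂ) * ∑ g : G, F (g * z) := by
    intro z
    simp only [Finset.mul_sum, ← mul_assoc, ← mul_pow, ← Units.val_mul, ← map_mul]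
    rw [Finset.sum_comm, Finset.sum_congr rfl (g := fun x =>
        if x * z⁻¹ ∈ G then (s : ℂ) * F x else 0) fun x _ => by
      rw [← Finset.sum_mul, Finset.sum_congr rfl (g := fun j => (l (x * z⁻¹) : ℂ) ^ j) fun j _ => by
        rw [map_mul, map_mul, mul_comm (l x)], hroot, ite_mul, zero_mul],
      ← Finset.sum_filter]
    refine (Finset.sum_bij (fun (g : G) _ => (g : Γ) * z) (fun g _ => by simp)
      (fun a _ b _ he => Subtype.ext (mul_right_cancel he))
      (fun x hx => ⟨⟨x * z⁻¹, (Finset.mem_filter.1 hx).2⟩, Finset.mem_univ _, by simp⟩)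
      (fun g _ => rfl)).symm
  have hT : ∀ j, ∃ n : ℕ, ∑ x : Γ, (l x : ℂ) ^ j * F x = (Nat.card Γ : ℂ) * n := by
    intro j
    obtain ⟨n, hn⟩ := IsChar.classInner_nat (IsIrr.isCharacter (IsIrr.mul_linear hχ (l ^ j)))
      (IsIrr.isCharacter hχ)
    refine ⟨n, ?_⟩
    rw [← hn, classInner, mul_inv_cancel_left₀ (Nat.cast_ne_zero.2 Nat.card_pos.ne')]
    exact Finset.sum_congr rfl fun x _ => by simp [hF, mul_assoc]
  choose n hn using hT
  have hcardΓ : (Nat.card Γ : ℂ) = Nat.card G * s := by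
    rw [← Subgroup.card_mul_index G, Nat.cast_mul]
  have hG1 : ∑ g : G, F g = (Nat.card G : ℂ) := by
    have h := classInner_self_irr hres
    rw [classInner, inv_mul_eq_iff_eq_mul₀ (Nat.cast_ne_zero.2 Nat.card_pos.ne'), mul_one] at h
    exact h
  have hn0 : n 0 = 1 := by
    have h := hn 0
    have e := classInner_self_irr hχ
    rw [classInner, inv_mul_eq_iff_eq_mul₀ (Nat.cast_ne_zero.2 Nat.card_pos.ne'), mul_one] at e
    simp only [pow_zero, one_mul] at h
    rw [show ∑ x : Γ, F x = (Nat.card Γ : ℂ) from e] at h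
    have := mul_left_cancel₀ (Nat.cast_ne_zero.2 Nat.card_pos.ne')
      ((mul_one _).trans h)
    exact_mod_cast this.symm
  have hrest : ∀ j ∈ (Finset.range s).erase 0, n j = 0 := by
    have h := hcoset 1
    simp only [inv_one, map_one, Units.val_one, one_pow, one_mul, hn, mul_one, hG1,
      ← Finset.mul_sum] at h
    have h' : ((∑ j ∈ Finset.range s, n j : ℕ) : ℂ) = ((1 : ℕ) : ℂ) := by
      push_cast
      refine mul_left_cancel₀ (Nat.cast_ne_zero.2 (Nat.card_pos (α := Γ)).ne') ?_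
      rw [h, mul_one, hcardΓ, mul_comm]
    have h'' := Nat.cast_injective h'
    rw [← Finset.add_sum_erase _ _ (Finset.mem_range.2 (Nat.pos_of_ne_zero hs0)), hn0] at h''
    exact Finset.sum_eq_zero_iff.1 (by omega)
  have h := hcoset y
  simp only [hn] at h
  rw [← Finset.add_sum_erase _ _ (Finset.mem_range.2 (Nat.pos_of_ne_zero hs0)),
    Finset.sum_eq_zero fun j hj => by rw [hrest j hj, Nat.cast_zero, mul_zero, mul_zero],
    hn0, pow_zero, one_mul, Nat.cast_one, mul_one, add_zero, hcardΓ, mul_comm] at h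
  exact (mul_left_cancel₀ (Nat.cast_ne_zero.2 hs0) h).symm

/-- A coset is the union of the conjugates of its intersection with a section. -/
theorem sum_coset_section (D : Subgroup G) [Fintype D] {y : Γ}
    (hy : ∀ h : G, ∀ d d' : D,
      (h : Γ) * (((d : G) : Γ) * y) * (h : Γ)⁻¹ = ((d' : G) : Γ) * y → h ∈ D)
    {F : Γ → ℂ} (hF : IsClassFunction Γ F) :
    (Nat.card G : ℂ) * ∑ d : D, F (((d : G) : Γ) * y) =
      (Nat.card D : ℂ) * ∑ g : G, F (g * y) := by
  classical
  let Φ : G × D → G := fun z => ⟨(z.1 : Γ) * (((z.2 : G) : Γ) * y) * (z.1 : Γ)⁻¹ * y⁻¹, by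
    rw [show (z.1 : Γ) * (((z.2 : G) : Γ) * y) * (z.1 : Γ)⁻¹ * y⁻¹ =
      z.1 * (z.2 : G) * (y * (z.1 : Γ)⁻¹ * y⁻¹) by group]
    exact mul_mem (mul_mem z.1.2 (z.2 : G).2)
      ((inferInstance : G.Normal).conj_mem _ (inv_mem z.1.2) y)⟩
  have hΦ : ∀ z, (Φ z : Γ) * y = (z.1 : Γ) * (((z.2 : G) : Γ) * y) * (z.1 : Γ)⁻¹ := fun z => by
    simp [Φ]
  set c : G → ℕ := fun w => (Finset.univ.filter fun z => Φ z = w).card with hc
  have hle : ∀ w, c w ≤ Fintype.card D := by
    intro w
    by_cases h : (Finset.univ.filter fun z => Φ z = w).Nonempty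
    · obtain ⟨z', hz'⟩ := h
      have key : ∀ z ∈ Finset.univ.filter fun z => Φ z = w, z'.1⁻¹ * z.1 ∈ D := by
        intro z hz
        refine hy _ z.2 z'.2 ?_
        have e := congrArg (fun v : G => (v : Γ) * y)
          ((Finset.mem_filter.1 hz).2.trans (Finset.mem_filter.1 hz').2.symm)
        simp only [hΦ] at e
        simp only [Subgroup.coe_mul, Subgroup.coe_inv]
        calc _ = (z'.1 : Γ)⁻¹ * ((z.1 : Γ) * (((z.2 : G) : Γ) * y) * (z.1 : Γ)⁻¹) * z'.1 := by group
          _ = _ := by rw [e]; group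
      show (Finset.univ.filter fun z => Φ z = w).card ≤ _
      rw [← Finset.card_univ]
      refine Finset.card_le_card_of_injOn
        (fun z => if h : z'.1⁻¹ * z.1 ∈ D then (⟨_, h⟩ : D) else 1)
        (fun z _ => Finset.mem_univ _) ?_
      intro z hz t ht he
      simp only [dif_pos (key z hz), dif_pos (key t ht)] at he
      have h1 : z.1 = t.1 := mul_left_cancel (congrArg Subtype.val he)
      refine Prod.ext h1 (Subtype.ext (Subtype.ext ?_))
      have e := congrArg (fun v : G => (v : Γ) * y)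
        ((Finset.mem_filter.1 hz).2.trans (Finset.mem_filter.1 ht).2.symm)
      simp only [hΦ, h1] at e
      exact mul_right_cancel (mul_left_cancel (mul_right_cancel e))
    · show (Finset.univ.filter fun z => Φ z = w).card ≤ _
      rw [Finset.not_nonempty_iff_eq_empty.1 h]
      simp
  have htot : ∑ w, c w = ∑ _w : G, Fintype.card D := by
    simp only [hc]
    rw [← Finset.card_eq_sum_card_fiberwise (fun z _ => Finset.mem_univ (Φ z)),
      Finset.card_univ, Fintype.card_prod, Finset.sum_const, Finset.card_univ, smul_eq_mul]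
  have hall := (Finset.sum_eq_sum_iff_of_le fun w _ => hle w).1 htot
  have h1 : ∑ z : G × D, F (((z.2 : G) : Γ) * y) = ∑ w : G, (Nat.card D : ℂ) * F (w * y) := by
    rw [← Finset.sum_fiberwise Finset.univ Φ]
    refine Finset.sum_congr rfl fun w hw => ?_
    rw [Finset.sum_congr rfl (g := fun _ => F ((w : Γ) * y)) fun z hz => by
      rw [← (Finset.mem_filter.1 hz).2, hΦ]
      exact (hF _ _).symm, Finset.sum_const, nsmul_eq_mul, Nat.card_eq_fintype_card, ← hall w hw]
  simp only [Fintype.sum_prod_type, Finset.sum_const, Finset.card_univ, ← Nat.card_eq_fintype_card,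
    nsmul_eq_mul] at h1
  rw [h1, Finset.mul_sum]

/-- A linear character with the given kernel, for a cyclic quotient. -/
theorem exists_lin (hcyc : IsCyclic (Γ ⧸ G)) : ∃ l : Γ →* ℂˣ, ∀ x, l x = 1 ↔ x ∈ G := by
  haveI := hcyc
  haveI : NeZero (Nat.card (Γ ⧸ G)) := ⟨Nat.card_pos.ne'⟩
  let e : (Γ ⧸ G) ≃* rootsOfUnity (Nat.card (Γ ⧸ G)) ℂ :=
    mulEquivOfCyclicCardEq (Complex.card_rootsOfUnity _).symm
  refine ⟨(rootsOfUnity _ ℂ).subtype.comp (e.toMonoidHom.comp (QuotientGroup.mk' G)), fun x => ?_⟩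
  rw [MonoidHom.comp_apply, MonoidHom.comp_apply, Subgroup.subtype_apply, OneMemClass.coe_eq_one,
    MulEquiv.coe_toMonoidHom, MulEquiv.map_eq_one_iff, QuotientGroup.mk'_apply,
    QuotientGroup.eq_one_iff]

/-- An invariant character extends over a cyclic quotient. -/
theorem exists_ext (hcyc : IsCyclic (Γ ⧸ G)) {θ : G → ℂ} (hθ : IsIrrCharacter G θ)
    (hinv : ∀ (x : Γ) (g : G),
      θ ⟨x * g * x⁻¹, (inferInstance : G.Normal).conj_mem g g.2 x⟩ = θ g) :
    ∃ χ : Γ → ℂ, IsIrrCharacter Γ χ ∧ ∀ g : G, χ g = θ g := by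
  obtain ⟨k, ρ, hρ, rfl, -, -⟩ := IsIrr.exists_rep hθ
  haveI := hρ
  have hinv' : ∀ (x : Γ) (m : G), ρ.character (conjEquivN G x m) = ρ.character m := fun x m => by
    rw [conjEquivN_apply]; exact hinv x m
  exact Ext.exists_extension G ρ hinv' (Ext.cyclic_mem G ρ hinv' hcyc)

/-- A constituent over an invariant character with cyclic quotient restricts to it. -/
theorem res_eq (hcyc : IsCyclic (Γ ⧸ G)) {θ : G → ℂ} (hθ : IsIrrCharacter G θ)
    (hinv : ∀ (x : Γ) (g : G),
      θ ⟨x * g * x⁻¹, (inferInstance : G.Normal).conj_mem g g.2 x⟩ = θ g)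
    {ψ : Γ → ℂ} (hψ : IsIrrCharacter Γ ψ)
    (hne : classInner (fun g : G => ψ g) θ ≠ 0) : (fun g : G => ψ g) = θ := by
  classical
  have horb : conjOrbit G θ = {θ} := by
    ext φ
    rw [mem_conjOrbit, Finset.mem_singleton]
    constructor
    · rintro ⟨g, rfl⟩; exact funext fun n => hinv g n
    · rintro rfl; exact ⟨1, conjN_one G _⟩
  rw [clifford G hψ hθ hne, OverCyclic.mult_one hcyc hθ hψ hne, one_smul, horb,
    Finset.sum_singleton]

end Cosets

section Below

variable {M : Type u} [Group M] [Fintype M] {N : Subgroup M} [Fintype N]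

/-- A constituent of a constituent is a constituent of the restriction. -/
theorem constituent_res {ψ : M → ℂ} (hψ : IsCharacter M ψ) {φ : IrrCharacter M}
    (h : classInner ψ (φ : M → ℂ) ≠ 0) {γ : N → ℂ} (hγ : IsIrrCharacter N γ)
    (h' : classInner (fun n : N => (φ : M → ℂ) n) γ ≠ 0) :
    classInner (fun n : N => ψ n) γ ≠ 0 := by
  classical
  have hn : ∀ χ : IrrCharacter M, ∃ k : ℕ, classInner ψ (χ : M → ℂ) = k := fun χ =>
    IsChar.classInner_nat hψ (IsIrr.isCharacter χ.2)
  have hm : ∀ χ : IrrCharacter M, ∃ k : ℕ, classInner (fun n : N => (χ : M → ℂ) n) γ = k :=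
    fun χ => IsChar.classInner_nat (IsChar.res (IsIrr.isCharacter χ.2) N) (IsIrr.isCharacter hγ)
  choose a ha using hn
  choose m hm using hm
  have hexp : (fun n : N => ψ n) = ∑ χ : IrrCharacter M, (a χ : ℂ) • fun n : N => (χ : M → ℂ) n := by
    funext n
    have := congrFun (classFunction_expansion (IsChar.classFun hψ)) (n : M)
    simp only [Finset.sum_apply, Pi.smul_apply, smul_eq_mul, ha] at this ⊢
    exact this
  rw [hexp, classInner_sum_left]
  simp only [classInner_smul_left, hm]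
  rw [ha, Nat.cast_ne_zero] at h
  rw [hm, Nat.cast_ne_zero] at h'
  have h2 : a φ * m φ ≤ ∑ χ : IrrCharacter M, a χ * m χ :=
    Finset.single_le_sum (fun χ _ => Nat.zero_le (a χ * m χ)) (Finset.mem_univ φ)
  intro h0
  have h1 : (∑ χ : IrrCharacter M, a χ * m χ : ℕ) = 0 := by exact_mod_cast h0
  rw [h1] at h2
  exact absurd (Nat.mul_pos (Nat.pos_of_ne_zero h) (Nat.pos_of_ne_zero h')) (not_lt.2 h2)

end Below

end Cfsg.Agent.Char.NearConst
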