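import Mathlib.LinearAlgebra.Trace
import Cfsg.Agent.Lib.Char.Complete
import Cfsg.Agent.Lib.Block.ClassMul

/-!
The invariant bilinear form of a real irreducible representation.
-/

open scoped ComplexConjugate Matrix

namespace Cfsg.Agent.Char.Forms

open Cfsg

set_option linter.unusedSectionVars false
set_option linter.style.haveILetI false

universe u

variable {G : Type u} [Group G] [Fintype G] {n : ℕ}

/-- The matrix of a representation. -/
noncomputable def X (ρ : Representation ℂ G (Fin n → ℂ)) (g : G) : Matrix (Fin n) (Fin n) ℂ :=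
  LinearMap.toMatrix' (ρ g)

variable (ρ : Representation ℂ G (Fin n → ℂ))

theorem X_mul (a b : G) : X ρ (a * b) = X ρ a * X ρ b := by
  simp [X, LinearMap.toMatrix'_mul]

theorem X_one : X ρ 1 = 1 := by simp [X]

theorem X_trace (g : G) : (X ρ g).trace = ρ.character g := by
  rw [X, Representation.character, ← Matrix.trace_toLin'_eq, Matrix.toLin'_toMatrix']

theorem X_mulVec (g : G) (v : Fin n → ℂ) : X ρ g *ᵥ v = ρ g v := by
  rw [X, ← Matrix.toLin'_apply, Matrix.toLin'_toMatrix']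

theorem trace_matrix_end (f : Matrix (Fin n) (Fin n) ℂ →ₗ[ℂ] Matrix (Fin n) (Fin n) ℂ) :
    LinearMap.trace ℂ _ f = ∑ i, ∑ j, f (Matrix.single i j 1) i j := by
  classical
  rw [LinearMap.trace_eq_matrix_trace ℂ (Matrix.stdBasis ℂ (Fin n) (Fin n)), Matrix.trace,
    Fintype.sum_prod_type]
  refine Finset.sum_congr rfl fun i _ => Finset.sum_congr rfl fun j _ => ?_
  rw [Matrix.diag_apply, LinearMap.toMatrix_apply, Matrix.stdBasis_eq_single]
  rfl

theorem single_entry (A B : Matrix (Fin n) (Fin n) ℂ) (i j a b : Fin n) :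
    (A * Matrix.single i j (1 : ℂ) * B) a b = A a i * B j b := by
  rw [Matrix.mul_apply, Finset.sum_eq_single j]
  · rw [Matrix.mul_apply, Finset.sum_eq_single i]
    · simp [Matrix.single]
    · intro c _ hc; simp [Matrix.single, Ne.symm hc]
    · simp
  · intro c _ hc
    rw [Matrix.mul_apply, Finset.sum_eq_zero fun d _ => by simp [Matrix.single, Ne.symm hc], zero_mul]
  · simp

/-- A real irreducible representation has one invariant form, symmetric or skew as the indicator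
tells. -/
theorem forms (hirr : ρ.IsIrreducible) (hreal : ∀ g : G, (ρ.character g).im = 0) :
    (∃ M : Matrix (Fin n) (Fin n) ℂ, M ≠ 0 ∧ ∀ g : G, (X ρ g)ᵀ * M * X ρ g = M) ∧
    (∀ M : Matrix (Fin n) (Fin n) ℂ, (∀ g : G, (X ρ g)ᵀ * M * X ρ g = M) →
      Mᵀ = ((Nat.card G : ℂ)⁻¹ * ∑ s : G, ρ.character (s * s)) • M) ∧
    (Odd n → (Nat.card G : ℂ)⁻¹ * ∑ s : G, ρ.character (s * s) = 1) := by
  classical
  set ν := (Nat.card G : ℂ)⁻¹ * ∑ s : G, ρ.character (s * s) with hν
  have hG0 : (Nat.card G : ℂ) ≠ 0 := Nat.cast_ne_zero.2 Nat.card_pos.ne'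
  let E : Matrix (Fin n) (Fin n) ℂ →ₗ[ℂ] Matrix (Fin n) (Fin n) ℂ :=
    (Nat.card G : ℂ)⁻¹ • ∑ g : G,
      (LinearMap.mulLeft ℂ (X ρ g)ᵀ).comp (LinearMap.mulRight ℂ (X ρ g))
  have hE : ∀ A, E A = (Nat.card G : ℂ)⁻¹ • ∑ g : G, (X ρ g)ᵀ * A * X ρ g := fun A => by
    simp [E, LinearMap.sum_apply, mul_assoc]
  have hinv : ∀ A h, (X ρ h)ᵀ * E A * X ρ h = E A := by
    intro A h
    rw [hE, Matrix.mul_smul, Matrix.smul_mul, Finset.mul_sum, Finset.sum_mul]
    congr 1
    refine Fintype.sum_equiv (Equiv.mulRight h) _ _ fun g => ?_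
    simp only [Equiv.coe_mulRight, X_mul, Matrix.transpose_mul, Matrix.mul_assoc]
  have hfix : ∀ A, (∀ g : G, (X ρ g)ᵀ * A * X ρ g = A) → E A = A := by
    intro A hA
    rw [hE, Finset.sum_congr rfl fun g _ => hA g, Finset.sum_const, ← Nat.cast_smul_eq_nsmul ℂ,
      smul_smul, Finset.card_univ, ← Nat.card_eq_fintype_card, inv_mul_cancel₀ hG0, one_smul]
  have hproj : LinearMap.IsProj (LinearMap.range E) E :=
    ⟨fun A => LinearMap.mem_range_self E A, fun A ⟨B, hB⟩ => hfix A fun g => hB ▸ hinv B g⟩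
  have htr : LinearMap.trace ℂ _ E = 1 := by
    rw [trace_matrix_end]
    have h1 : classInner ρ.character ρ.character = 1 :=
      classInner_self_irr ⟨n, ρ, hirr, rfl⟩
    refine Eq.trans ?_ h1
    rw [classInner]
    simp only [hE, Matrix.smul_apply, smul_eq_mul, ← Finset.mul_sum, Matrix.sum_apply, single_entry,
      Matrix.transpose_apply]
    congr 1
    rw [Finset.sum_congr rfl fun i _ => Finset.sum_comm, Finset.sum_comm]
    refine Finset.sum_congr rfl fun g _ => ?_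
    rw [Complex.conj_eq_iff_im.2 (hreal g), ← X_trace, Matrix.trace, Finset.sum_mul_sum]
    rfl
  have hrank : Module.finrank ℂ (LinearMap.range E) = 1 := by
    have h2 := hproj.trace
    rw [htr] at h2
    exact_mod_cast h2.symm
  obtain ⟨⟨M₀, hM₀⟩, hne, hspan⟩ := finrank_eq_one_iff'.1 hrank
  have hne' : M₀ ≠ 0 := fun h => hne (Subtype.ext h)
  have hinv₀ : ∀ g, (X ρ g)ᵀ * M₀ * X ρ g = M₀ := by
    obtain ⟨B, rfl⟩ := hM₀
    exact hinv B
  have hmult : ∀ A, (∀ g : G, (X ρ g)ᵀ * A * X ρ g = A) → ∃ r : ℂ, r • M₀ = A := fun A hA => by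
    obtain ⟨r, hr⟩ := hspan ⟨A, A, hfix A hA⟩
    exact ⟨r, congrArg Subtype.val hr⟩
  obtain ⟨s, hs⟩ := hmult M₀ᵀ fun g => by
    have h := congrArg Matrix.transpose (hinv₀ g)
    simpa [Matrix.transpose_mul, Matrix.mul_assoc] using h
  have hτinv : ∀ A, (∀ g : G, (X ρ g)ᵀ * A * X ρ g = A) → Aᵀ = s • A := by
    intro A hA
    obtain ⟨r, rfl⟩ := hmult A hA
    rw [Matrix.transpose_smul, ← hs, smul_comm]
  have hsν : s = ν := by
    let τ : Matrix (Fin n) (Fin n) ℂ →ₗ[ℂ] Matrix (Fin n) (Fin n) ℂ :=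
      (Matrix.transposeLinearEquiv (Fin n) (Fin n) ℂ ℂ).toLinearMap
    have he : τ.comp E = s • E := LinearMap.ext fun A => hτinv _ (hinv A)
    have ht := congrArg (LinearMap.trace ℂ _) he
    rw [map_smul, htr, smul_eq_mul, mul_one, trace_matrix_end] at ht
    rw [← ht, hν]
    have hτ : ∀ A, τ A = Aᵀ := fun A => rfl
    simp only [LinearMap.comp_apply, hτ, Matrix.transpose_apply, hE, Matrix.smul_apply, smul_eq_mul, ← Finset.mul_sum, Matrix.sum_apply,
      single_entry]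
    congr 1
    rw [Finset.sum_congr rfl fun i _ => Finset.sum_comm, Finset.sum_comm]
    refine Finset.sum_congr rfl fun g _ => ?_
    rw [← X_trace, X_mul, Matrix.trace]
    exact Finset.sum_congr rfl fun i _ => by
      rw [Matrix.diag_apply, Matrix.mul_apply]
  refine ⟨⟨M₀, hne', hinv₀⟩, fun A hA => hsν ▸ hτinv A hA, fun hodd => ?_⟩
  have hs2 : s * s = 1 := by
    have h := congrArg Matrix.transpose hs
    rw [Matrix.transpose_smul, Matrix.transpose_transpose, ← hs, smul_smul] at h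
    have h2 : (s * s - 1) • M₀ = 0 := by rw [sub_smul, h, one_smul, sub_self]
    exact sub_eq_zero.1 ((smul_eq_zero.1 h2).resolve_right hne')
  rcases mul_self_eq_one_iff.1 hs2 with h | h
  · rw [← hsν, h]
  exfalso
  have hdet : M₀.det = 0 := by
    have h1 : M₀ᵀ.det = ((-1 : ℂ) ^ n) * M₀.det := by
      rw [← hs, h, Matrix.det_smul, Fintype.card_fin]
    rw [Matrix.det_transpose, hodd.neg_one_pow] at h1
    linear_combination h1 / 2
  obtain ⟨v, hv, hMv⟩ := Matrix.exists_mulVec_eq_zero_iff.2 hdet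
  let S : Subrepresentation ρ :=
    ⟨LinearMap.ker (Matrix.toLin' M₀), fun g w hw => by
      rw [LinearMap.mem_ker, Matrix.toLin'_apply] at hw ⊢
      rw [← X_mulVec]
      have h1 : (X ρ g⁻¹)ᵀ *ᵥ ((X ρ g)ᵀ * M₀ * X ρ g) *ᵥ w = 0 := by
        rw [hinv₀, hw, Matrix.mulVec_zero]
      rw [Matrix.mulVec_mulVec, ← Matrix.mul_assoc, ← Matrix.mul_assoc, ← Matrix.transpose_mul,
        ← X_mul, mul_inv_cancel, X_one, Matrix.transpose_one, Matrix.one_mul] at h1
      rw [Matrix.mulVec_mulVec]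
      exact h1⟩
  haveI := hirr
  rcases eq_bot_or_eq_top S with hS | hS
  · have hmem : v ∈ S.toSubmodule := by
      show v ∈ LinearMap.ker (Matrix.toLin' M₀)
      rw [LinearMap.mem_ker, Matrix.toLin'_apply, hMv]
    rw [hS] at hmem
    exact hv ((Submodule.mem_bot ℂ).1 hmem)
  · refine hne' (Matrix.toLin'.injective ?_)
    have h1 : LinearMap.ker (Matrix.toLin' M₀) = ⊤ := congrArg Subrepresentation.toSubmodule hS
    rw [map_zero]
    exact LinearMap.ker_eq_top.1 h1

theorem ind_of_odd_real (χ : IrrCharacter G) (hreal : ∀ g, ((χ : G → ℂ) g).im = 0)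
    (hodd : Odd (charDegree (χ : G → ℂ))) :
    (Nat.card G : ℂ)⁻¹ * ∑ g : G, (χ : G → ℂ) (g * g) = 1 := by
  obtain ⟨χ, n, ρ, hirr, rfl⟩ := χ
  refine (forms ρ hirr hreal).2.2 ?_
  have h1 : ρ.character 1 = (n : ℂ) := by rw [← X_trace, X_one, Matrix.trace_one, Fintype.card_fin]
  have h2 := Block.charDeg_spec' (⟨ρ.character, n, ρ, hirr, rfl⟩ : IrrCharacter G)
  change ρ.character 1 = _ at h2
  rw [h1] at h2
  exact (Nat.cast_inj.1 h2) ▸ hodd

end Cfsg.Agent.Char.Forms
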