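import Cfsg.Agent.Lib.Char.DecompBrauer

/-!
The classes of primitive idempotents of one block: the decomposition numbers of the block, their
integral left inverse, the regular values, and the regular rank as the number of classes.
-/

open scoped ComplexConjugate

namespace Cfsg.Agent.Char.Decomp

open Cfsg Cfsg.Agent.Block Cfsg.Agent.Char.Spec Cfsg.Agent.Char.BP Cfsg.Agent.Char.Res

set_option linter.unusedSectionVars false
set_option linter.style.haveILetI false
set_option maxHeartbeats 3000000

universe u

variable {G : Type u} [Group G] [Fintype G] [DecidableEq G] {p : ℕ} {M : Ideal AlgInt}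

/-- The decomposition data of a block. -/
structure BData (p : ℕ) (M : Ideal AlgInt) (B : Set (IrrCharacter G)) where
  n : ℕ
  i : Fin n → MonoidAlgebra ℂ G
  pr : ∀ c, Pr M (i c)
  inB : ∀ c, bz B * i c = i c
  ne : ∀ c d, c ≠ d → ¬ Eqv M (i c) (i d)
  cover : ∀ j, Pr M j → bz B * j = j → ∃ c, Eqv M j (i c)
  mult : Fin n → ℕ
  mult_pos : ∀ c, 0 < mult c
  N : IrrCharacter G → Fin n → ℕ
  val : ∀ (χ : IrrCharacter G) c, ev (χ : G → ℂ) (i c) = (N χ c : ℂ)
  supp : ∀ χ : IrrCharacter G, χ ∉ B → ∀ c, N χ c = 0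
  deg : ∀ χ : IrrCharacter G, χ ∈ B → charDegree (χ : G → ℂ) = ∑ c, mult c * N χ c
  φ : Fin n → G → ℂ
  gen : ∀ c, IsGeneralizedCharacter G (φ c)
  reg : ∀ χ : IrrCharacter G, χ ∈ B → ∀ v, ¬ p ∣ orderOf v → (χ : G → ℂ) v = ∑ c, φ c v * (N χ c : ℂ)
  a : Fin n → IrrCharacter G → ℤ
  coef : ∀ (c : Fin n) (χ : IrrCharacter G), classInner (φ c) (χ : G → ℂ) = (a c χ : ℂ)
  dual : ∀ c d, ∑ χ, a c χ * (N χ d : ℤ) = if c = d then 1 else 0
  galois : ∀ c k g, k ≡ 1 [MOD Nat.card G / p ^ (Nat.card G).factorization p] →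
    φ c (g ^ k) = φ c g
  rank : blockRank p B = n

theorem bz_dichotomy (hM : IsPModular p M) {B : Set (IrrCharacter G)} (hB : IsPBlock M B)
    {i : MonoidAlgebra ℂ G} (hi : Pr M i) : bz B * i = i ∨ bz B * i = 0 := by
  refine (hi.1.2.2 (bz B * i) (Res.fx_bot ((bz_ring hM hB).mul hM hi.ring)) ?_ ?_ ?_).symm
  · exact bz_mul_idem hM hB hi.idem
  · rw [← mul_assoc, (bz_comm B i).eq, mul_assoc, hi.idem]
  · rw [mul_assoc, hi.idem]

theorem Eqv.bz_eq (hM : IsPModular p M) {B : Set (IrrCharacter G)} (hB : IsPBlock M B)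
    {i j : MonoidAlgebra ℂ G} (hi : Pr M i) (hj : Pr M j) (h : Eqv M i j)
    (hib : bz B * i = i) : bz B * j = j := by
  refine (bz_dichotomy hM hB hj).resolve_right fun h0 => hi.2 ?_
  obtain ⟨u, v, hu, hv, he⟩ := h
  calc i = bz B * i := hib.symm
    _ = bz B * (i * u * j * v * i) := by rw [← he]
    _ = i * u * (bz B * j) * v * i := by
      have e := (bz_comm B (i * u)).eq
      calc bz B * (i * u * j * v * i) = bz B * (i * u) * (j * v * i) := by simp only [mul_assoc]
        _ = i * u * bz B * (j * v * i) := by rw [← e]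
        _ = i * u * (bz B * j) * v * i := by simp only [mul_assoc]
    _ = 0 := by rw [h0]; simp

theorem exists_bdata [Fact p.Prime] (hM : IsPModular p M) {B : Set (IrrCharacter G)}
    (hB : IsPBlock M B) : Nonempty (BData p M B) := by
  classical
  obtain ⟨C⟩ := exists_classes (G := G) hM
  obtain ⟨φ, hgen, hval, hgal, hdual⟩ := C.exists_brauer hM
  choose N hN using fun (χ : IrrCharacter G) c => Spec.ev_idem_nat (irr_isChar χ) (C.pr c).idem
  let S := Finset.univ.filter fun c => bz B * C.i c = C.i c
  let e := S.equivFin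
  let r : Fin S.card → Fin C.n := fun c => (e.symm c : Fin C.n)
  have hr : Function.Injective r := fun a b h => e.symm.injective (Subtype.ext h)
  have hrS : ∀ c, bz B * C.i (r c) = C.i (r c) := fun c => (Finset.mem_filter.1 (e.symm c).2).2
  have hmemS : ∀ c, bz B * C.i c = C.i c → ∃ c', r c' = c := fun c hc =>
    ⟨e ⟨c, Finset.mem_filter.2 ⟨Finset.mem_univ _, hc⟩⟩, by simp [r]⟩
  have hout : ∀ χ : IrrCharacter G, χ ∉ B → ∀ c, bz B * C.i c = C.i c → N χ c = 0 := by
    intro χ hχ c hc
    have h := hN χ c
    rw [← hc, ev_bz, if_neg hχ] at h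
    exact_mod_cast h.symm
  have hin : ∀ χ : IrrCharacter G, χ ∈ B → ∀ c, (¬ ∃ c', r c' = c) → N χ c = 0 := by
    intro χ hχ c hc
    have h0 := (bz_dichotomy hM hB (C.pr c)).resolve_left fun h => hc (hmemS c h)
    have h := hN χ c
    rw [← ev_block hχ] at h
    change ev _ (bz B * C.i c) = _ at h
    rw [h0, ev_zero] at h
    exact_mod_cast h.symm
  have hres : ∀ χ : IrrCharacter G, χ ∈ B → ∀ f : Fin C.n → ℂ,
      ∑ c, f c * (N χ c : ℂ) = ∑ c', f (r c') * (N χ (r c') : ℂ) := by
    intro χ hχ f
    rw [← Finset.sum_image (f := fun c => f c * (N χ c : ℂ)) fun a _ b _ h => hr h]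
    refine (Finset.sum_subset (Finset.subset_univ _) fun c _ hc => ?_).symm
    rw [hin χ hχ c fun ⟨c', hc'⟩ => hc (Finset.mem_image.2 ⟨c', Finset.mem_univ _, hc'⟩)]
    simp
  choose a ha using fun c (χ : IrrCharacter G) =>
    IsGenChar.classInner_int (hgen c) (IsGenChar.of_isCharacter (irr_isChar χ))
  have hclass : ∀ c, IsClassFunction G (φ c) := fun c => by
    obtain ⟨x, y, hx, hy, he⟩ := hgen c
    rw [he]
    exact classFunction_sub (IsChar.classFun hx) (IsChar.classFun hy)
  have hexp : ∀ c, φ c = ∑ χ : IrrCharacter G, (a c χ : ℂ) • (χ : G → ℂ) := fun c => by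
    conv_lhs => rw [classFunction_expansion (hclass c)]
    simp only [ha]
  have hdual' : ∀ c d, ∑ χ, a c χ * (N χ d : ℤ) = if c = d then 1 else 0 := by
    intro c d
    have h := hdual c d
    rw [hexp, ev_sum_fun] at h
    simp only [hN] at h
    have h2 : ((∑ χ, a c χ * (N χ d : ℤ) : ℤ) : ℂ) = ((if c = d then 1 else 0 : ℤ) : ℂ) := by
      push_cast
      rw [h]
    exact_mod_cast h2
  have hval' : ∀ χ : IrrCharacter G, χ ∈ B → ∀ v, ¬ p ∣ orderOf v →
      (χ : G → ℂ) v = ∑ c', φ (r c') v * (N χ (r c') : ℂ) := fun χ hχ v hv => by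
    rw [hval χ v hv, ← hres χ hχ fun c => φ c v]
    simp only [hN]
  refine ⟨{
    n := S.card
    i := fun c => C.i (r c)
    pr := fun c => C.pr _
    inB := hrS
    ne := fun c d h => C.ne _ _ fun h' => h (hr h')
    cover := fun j hj hjB => ?_
    mult := fun c => C.mult (r c)
    mult_pos := fun c => C.mult_pos _
    N := fun χ c => N χ (r c)
    val := fun χ c => hN χ _
    supp := fun χ hχ c => hout χ hχ _ (hrS c)
    deg := fun χ hχ => ?_
    φ := fun c => φ (r c)
    gen := fun c => hgen _
    reg := hval'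
    a := fun c => a (r c)
    coef := fun c χ => ha _ χ
    dual := fun c d => by
      rw [hdual']
      simp [hr.eq_iff]
    galois := fun c => hgal _
    rank := ?_ }⟩
  · obtain ⟨c, hc⟩ := C.cover j hj
    obtain ⟨c', rfl⟩ := hmemS c (Eqv.bz_eq hM hB hj (C.pr c) hc hjB)
    exact ⟨c', hc⟩
  · have h := C.one (χ : G → ℂ) (irr_classFun χ)
    rw [charDeg_spec', Finset.sum_congr rfl (g := fun c => (C.mult c : ℂ) * (N χ c : ℂ))
      fun c _ => by rw [hN], hres χ hχ fun c => (C.mult c : ℂ)] at h
    exact_mod_cast h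
  · let R : (G → ℂ) → (G → ℂ) := fun f => pRegularPart p f
    let F : Fin S.card → G → ℂ := fun c => pRegularPart p (φ (r c))
    have hRapp : ∀ (f : G → ℂ) g, pRegularPart p f g = if p ∣ orderOf g then 0 else f g := by
      intro f g
      rw [pRegularPart_apply]
      by_cases h : p ∣ orderOf g
      · rw [if_pos h, if_neg fun h' : IsPRegular p g => h' h]
      · rw [if_neg h, if_pos (show IsPRegular p g from h)]
    have hspan : Submodule.span ℂ ((fun χ : IrrCharacter G => pRegularPart p (χ : G → ℂ)) '' B) =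
        Submodule.span ℂ (Set.range F) := by
      refine le_antisymm (Submodule.span_le.2 ?_) (Submodule.span_le.2 ?_)
      · rintro _ ⟨χ, hχ, rfl⟩
        have : pRegularPart p (χ : G → ℂ) = ∑ c', (N χ (r c') : ℂ) • F c' := by
          funext g
          simp only [F, Finset.sum_apply, Pi.smul_apply, smul_eq_mul, hRapp]
          split_ifs with hg
          · simp
          · rw [hval' χ hχ g hg]
            exact Finset.sum_congr rfl fun c _ => mul_comm _ _
        show pRegularPart p (χ : G → ℂ) ∈ _
        rw [this]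
        exact Submodule.sum_mem _ fun c _ => Submodule.smul_mem _ _ (Submodule.subset_span ⟨c, rfl⟩)
      · rintro _ ⟨c, rfl⟩
        have : F c = ∑ χ ∈ Finset.univ.filter (· ∈ B),
            (a (r c) χ : ℂ) • pRegularPart p (χ : G → ℂ) := by
          funext g
          simp only [F, Finset.sum_apply, Pi.smul_apply, smul_eq_mul, hRapp]
          split_ifs with hg
          · simp
          · rw [Finset.sum_congr rfl fun χ hχ => by rw [hval' χ (Finset.mem_filter.1 hχ).2 g hg]]
            simp only [Finset.mul_sum]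
            rw [Finset.sum_comm]
            have hd : ∀ c' : Fin S.card, ∑ χ ∈ Finset.univ.filter (· ∈ B),
                (a (r c) χ : ℂ) * (φ (r c') g * (N χ (r c') : ℂ)) =
                φ (r c') g * (if c = c' then 1 else 0) := by
              intro c'
              have h := hdual' (r c) (r c')
              rw [← Finset.sum_subset (Finset.subset_univ (Finset.univ.filter (· ∈ B))) fun χ _ hχ => by
                rw [hout χ (by simpa using hχ) _ (hrS c')]
                simp] at h
              rw [show (if c = c' then (1 : ℂ) else 0) = ((if r c = r c' then 1 else 0 : ℤ) : ℂ) by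
                simp [hr.eq_iff], ← h]
              push_cast
              rw [Finset.mul_sum]
              exact Finset.sum_congr rfl fun χ _ => by ring
            simp only [hd]
            simp
        rw [this]
        exact Submodule.sum_mem _ fun χ hχ => Submodule.smul_mem _ _
          (Submodule.subset_span ⟨χ, (Finset.mem_filter.1 hχ).2, rfl⟩)
    have hli : LinearIndependent ℂ F := by
      rw [Fintype.linearIndependent_iff]
      intro z hz d
      have h0 := ev_idem_eq_zero hM (C.pr (r d)).ring (C.pr (r d)).idem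
        (f := ∑ c, z c • φ (r c)) (classFunction_sum fun c _ => classFunction_smul _ (hclass _))
        fun g hg => by
          have := congrFun hz g
          simp only [F, Finset.sum_apply, Pi.smul_apply, smul_eq_mul, hRapp, if_neg hg,
            Pi.zero_apply] at this ⊢
          exact this
      rw [ev_sum_fun] at h0
      simpa [hdual, hr.eq_iff] using h0
    rw [blockRank, hspan, finrank_span_eq_card hli, Fintype.card_fin]

end Cfsg.Agent.Char.Decomp
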