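import Cfsg.Agent.Lib.Char.Average
import Cfsg.Agent.Lib.Char.Quotient
import Cfsg.Agent.Lib.Char.Det
import Mathlib.GroupTheory.SchurZassenhaus
import Mathlib.GroupTheory.Commutator.Basic
import Mathlib.GroupTheory.Solvable

/-!
Invariant constituents above an invariant character, for a coprime action on a solvable quotient:
on an abelian step the constituents form one orbit of the linear characters and the defect of
invariance is a cocycle, which averages away.
-/

namespace Cfsg.Agent.Char.InvAbove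

open scoped ComplexConjugate
open Cfsg

set_option linter.unusedSectionVars false
set_option linter.style.haveILetI false

universe u

variable {Γ : Type u} [Group Γ]

/-- Invariance under conjugation by one element. -/
def FixBy (N : Subgroup Γ) (θ : N → ℂ) (w : Γ) : Prop :=
  ∀ n n' : N, (n' : Γ) = w * n * w⁻¹ → θ n' = θ n

theorem FixBy.mul {N : Subgroup Γ} {θ : N → ℂ} {a b : Γ}
    (hb' : ∀ n ∈ N, b * n * b⁻¹ ∈ N) (ha : FixBy N θ a) (hb : FixBy N θ b) :
    FixBy N θ (a * b) := by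
  intro n n' he
  rw [← hb n ⟨_, hb' n n.2⟩ rfl]
  refine ha _ n' ?_
  rw [he]
  show a * b * n * (a * b)⁻¹ = a * (b * n * b⁻¹) * a⁻¹
  group

/-- Two characters with a common constituent on a normal subgroup with commutative quotient differ
by a linear character of the quotient. -/
theorem exists_linear_twist {G : Type u} [Group G] [Fintype G] (M : Subgroup G) [M.Normal]
    [Fintype M] (hab : ∀ a b : G, a * b * a⁻¹ * b⁻¹ ∈ M) {χ χ' : G → ℂ}
    (hχ : IsIrrCharacter G χ) (hχ' : IsIrrCharacter G χ') {ψ : M → ℂ} (hψ : IsIrrCharacter M ψ)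
    (h1 : classInner (fun x : M => χ x) ψ ≠ 0) (h2 : classInner (fun x : M => χ' x) ψ ≠ 0) :
    ∃ l : G →* ℂˣ, (∀ x ∈ M, l x = 1) ∧ χ' = fun g => (l g : ℂ) * χ g := by
  classical
  set ξ : G → ℂ := χ' * fun g => conj (χ g)
  have hξ : IsCharacter G ξ := IsChar.mul (IsIrr.isCharacter hχ') (IsChar.conj (IsIrr.isCharacter hχ))
  have hav := IsChar.avgN M hξ
  have hne : classInner (fun x : M => χ' x) (fun x : M => χ x) ≠ 0 := by
    obtain ⟨a, ha, hae⟩ := IsChar.exists_decomp_inner (IsChar.res (IsIrr.isCharacter hχ') M)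
    obtain ⟨b, hb, -⟩ := IsChar.exists_decomp_inner (IsChar.res (IsIrr.isCharacter hχ) M)
    rw [hae, classInner_sum_left, Finset.sum_congr rfl (g := fun φ => ((a φ * b φ : ℕ) : ℂ))
      fun φ _ => by
        rw [classInner_smul_left, ← classInner_conj_symm (fun x : M => χ x) (φ : M → ℂ), hb,
          map_natCast, Nat.cast_mul], ← Nat.cast_sum, Nat.cast_ne_zero]
    intro h0
    have h3 := Finset.sum_eq_zero_iff.1 h0 ⟨ψ, hψ⟩ (Finset.mem_univ _)
    rcases mul_eq_zero.1 h3 with h | h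
    · exact h2 (by rw [ha ⟨ψ, hψ⟩, h, Nat.cast_zero])
    · exact h1 (by rw [hb ⟨ψ, hψ⟩, h, Nat.cast_zero])
  obtain ⟨φ, hφ⟩ := IsChar.exists_constituent' hav (by
    rw [avgN_one_eq]
    simpa [classInner, ξ] using hne)
  rcases avgN_irr M φ.2 with ⟨-, he⟩ | ⟨hk, he⟩
  · rw [classInner_avgN, he] at hφ
    exact absurd (by simp [classInner]) hφ
  obtain ⟨ψ', hψ', hψe⟩ := IsIrr.exists_factor_quotient φ.2 M fun x hx => hk ⟨x, hx⟩
  have hφ1 : (φ : G → ℂ) 1 = 1 := by
    rw [← hψe 1]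
    refine IsIrr.one_of_comm (fun a b => ?_) hψ'
    induction a using QuotientGroup.induction_on with
    | _ a =>
      induction b using QuotientGroup.induction_on with
      | _ b =>
        rw [← QuotientGroup.mk_mul, ← QuotientGroup.mk_mul, QuotientGroup.eq]
        have := hab b⁻¹ a⁻¹
        simpa [mul_assoc] using this
  obtain ⟨l, hl⟩ := linearHom_of_isCharacter (IsIrr.isCharacter φ.2) hφ1
  refine ⟨l, fun x hx => Units.ext ?_, ?_⟩
  · rw [Units.val_one, ← congrFun hl x, ← hφ1]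
    exact hk ⟨x, hx⟩
  refine eq_of_constituent_irr hχ' (IsIrr.mul_linear hχ l) ?_
  rw [classInner_avgN, he] at hφ
  have e : classInner χ' (fun g => (l g : ℂ) * χ g) = classInner ξ (φ : G → ℂ) := by
    simp only [classInner, ξ, Pi.mul_apply, map_mul, hl]
    congr 1
    exact Finset.sum_congr rfl fun g _ => by ring
  rwa [e]

variable [Fintype Γ]

/-- The abelian step: an invariant constituent exists above a character fixed by a supplement. -/
theorem step_abelian {W G M : Subgroup Γ} [Fintype G] [Fintype M] (hGW : G ≤ W) (hMG : M ≤ G)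
    (hWG : ∀ w ∈ W, ∀ g ∈ G, w * g * w⁻¹ ∈ G) (hWM : ∀ w ∈ W, ∀ g ∈ M, w * g * w⁻¹ ∈ M)
    (hab : ∀ a ∈ G, ∀ b ∈ G, a * b * a⁻¹ * b⁻¹ ∈ M)
    (hcop : (G.relIndex W).Coprime (M.relIndex G)) (ψ : IrrCharacter M)
    (hst : ∀ w ∈ W, ∃ g ∈ G, FixBy M (ψ : M → ℂ) (w * g)) :
    ∃ χ : IrrCharacter G,
      classInner (fun x : M => (χ : G → ℂ) ⟨x, hMG x.2⟩) (ψ : M → ℂ) ≠ 0 ∧
      ∀ w ∈ W, FixBy G (χ : G → ℂ) w := by
  classical
  set M' := M.subgroupOf G
  haveI hMn : M'.Normal := ⟨fun x hx g => hWM g (hGW g.2) x hx⟩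
  haveI : Fintype M' := Fintype.ofFinite _
  let eM : M' ≃* M := Subgroup.subgroupOfEquivOfLe hMG
  set ψ' : M' → ℂ := fun x => (ψ : M → ℂ) (eM x)
  have hψ' : IsIrrCharacter M' ψ' := IsIrr.comp_surjective eM.toMonoidHom eM.surjective ψ.2
  have hinner : ∀ f : G → ℂ, classInner (fun x : M' => f x) ψ' =
      classInner (fun x : M => f ⟨x, hMG x.2⟩) (ψ : M → ℂ) := fun f =>
    classInner_comp_surjective eM.toMonoidHom eM.surjective (fun x : M => f ⟨x, hMG x.2⟩) (ψ : M → ℂ)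
  obtain ⟨χ₀, hχ₀⟩ := IsChar.exists_constituent' (isCharacter_indFun M' (IsIrr.isCharacter hψ'))
    (by
      rw [indFun_one_eq]
      exact mul_ne_zero (Nat.cast_ne_zero.mpr Subgroup.index_ne_zero_of_finite)
        (IsIrr.one_ne_zero hψ'))
  rw [classInner_indFun M' _ (IsIrr.classFun χ₀.2), ← classInner_conj_symm, Ne, map_eq_zero] at hχ₀
  -- conjugates
  let cj : W → (G ≃* G) := fun w =>
    { toFun := fun g => ⟨(w : Γ) * g * (w : Γ)⁻¹, hWG w w.2 g g.2⟩
      invFun := fun g => ⟨(w : Γ)⁻¹ * g * (w : Γ), by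
        have := hWG (w : Γ)⁻¹ (inv_mem w.2) g g.2
        rwa [inv_inv] at this⟩
      left_inv := fun g => Subtype.ext (show (w : Γ)⁻¹ * ((w : Γ) * g * (w : Γ)⁻¹) * w = g by group)
      right_inv := fun g => Subtype.ext (show (w : Γ) * ((w : Γ)⁻¹ * g * w) * (w : Γ)⁻¹ = g by group)
      map_mul' := fun g g' => Subtype.ext (show (w : Γ) * ((g : Γ) * g') * (w : Γ)⁻¹ =
        (w : Γ) * g * (w : Γ)⁻¹ * ((w : Γ) * g' * (w : Γ)⁻¹) by group) }
  have hcv : ∀ (w : W) (g : G), ((cj w g : G) : Γ) = (w : Γ) * g * (w : Γ)⁻¹ := fun _ _ => rfl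
  have hcjmul : ∀ (a b : W) (g : G), cj (a * b) g = cj a (cj b g) := fun a b g => Subtype.ext (by
    rw [hcv, hcv, hcv, Subgroup.coe_mul]
    group)
  have hcjG : ∀ (k : G) (g : G), cj ⟨k, hGW k.2⟩ g = k * g * k⁻¹ := fun k g => rfl
  set χf : G → ℂ := (χ₀ : G → ℂ)
  have hconj_irr : ∀ w : W, IsIrrCharacter G (fun g => χf (cj w g)) := fun w =>
    IsIrr.comp_surjective (cj w).toMonoidHom (cj w).surjective χ₀.2
  -- every conjugate lies over the same character
  have hover : ∀ w : W, classInner (fun x : M' => χf (cj w x)) ψ' ≠ 0 := by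
    intro w
    obtain ⟨k, hk, hfix⟩ := hst w w.2
    set v : W := w * ⟨k, hGW hk⟩
    have h1 : ∀ g : G, χf (cj w g) = χf (cj v g) := by
      intro g
      set k' : G := cj w ⟨k, hk⟩
      have e : cj v g = k' * cj w g * k'⁻¹ := by
        rw [hcjmul]
        show cj w (cj ⟨((⟨k, hk⟩ : G) : Γ), hGW hk⟩ g) = _
        rw [hcjG, map_mul, map_mul, map_inv]
      rw [e]
      exact ((IsIrr.classFun χ₀.2 : IsClassFunction G χf) _ _).symm
    have hv : ∀ x : M', ((cj v (x : G)) : G) ∈ M' := fun x => hWM v v.2 _ x.2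
    let σ : M' ≃* M' :=
      { toFun := fun x => ⟨cj v x, hv x⟩
        invFun := fun x => ⟨(cj v).symm x, by
          show ((v : Γ)⁻¹ * ((x : G) : Γ) * v) ∈ M
          have := hWM (v : Γ)⁻¹ (inv_mem v.2) _ x.2
          rwa [inv_inv] at this⟩
        left_inv := fun x => Subtype.ext ((cj v).symm_apply_apply _)
        right_inv := fun x => Subtype.ext ((cj v).apply_symm_apply _)
        map_mul' := fun x y => Subtype.ext (map_mul (cj v) _ _) }
    have hψσ : ψ' = fun x => ψ' (σ x) := funext fun x => (hfix (eM x) (eM (σ x)) rfl).symm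
    simp only [h1]
    rw [hψσ]
    have := classInner_comp_surjective σ.toMonoidHom σ.surjective (fun x : M' => χf x) ψ'
    exact fun h => hχ₀ (this.symm.trans h)
  have htw : ∀ w : W, ∃ l : G →* ℂˣ, (∀ x ∈ M', l x = 1) ∧
      (fun g => χf (cj w g)) = fun g => (l g : ℂ) * χf g := fun w =>
    exists_linear_twist M' (fun a b => by
      show ((a * b * a⁻¹ * b⁻¹ : G) : Γ) ∈ M
      simpa using hab a a.2 b b.2) χ₀.2 (hconj_irr w) hψ' hχ₀ (hover w)
  choose lam hlamM hlam using htw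
  -- equality of twists
  let Eq' : (G →* ℂˣ) → (G →* ℂˣ) → Prop := fun a b => ∀ g, (a g : ℂ) * χf g = (b g : ℂ) * χf g
  have hEmul : ∀ {a b c d : G →* ℂˣ}, Eq' a b → Eq' c d → Eq' (a * c) (b * d) := by
    intro a b c d h1 h2 g
    rw [MonoidHom.mul_apply, MonoidHom.mul_apply, Units.val_mul, Units.val_mul]
    linear_combination (c g : ℂ) * h1 g + (b g : ℂ) * h2 g
  have hEprod : ∀ {ι : Type u} (s : Finset ι) (a b : ι → (G →* ℂˣ)),
      (∀ i ∈ s, Eq' (a i) (b i)) → Eq' (∏ i ∈ s, a i) (∏ i ∈ s, b i) := by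
    intro ι s a b h
    induction s using Finset.induction with
    | empty => exact fun g => rfl
    | insert i s his ih =>
      rw [Finset.prod_insert his, Finset.prod_insert his]
      exact hEmul (h i (Finset.mem_insert_self _ _)) (ih fun j hj => h j (Finset.mem_insert_of_mem hj))
  let act : W → (G →* ℂˣ) → (G →* ℂˣ) := fun w a => a.comp (cj w).toMonoidHom
  have hcoc : ∀ a b : W, Eq' (lam (a * b)) (act b (lam a) * lam b) := by
    intro a b g
    have h1 := congrFun (hlam (a * b)) g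
    have h2 := congrFun (hlam a) (cj b g)
    have h3 := congrFun (hlam b) g
    rw [← h1, hcjmul, h2, h3, MonoidHom.mul_apply, Units.val_mul]
    show ((lam a (cj b g) : ℂˣ) : ℂ) * _ = ((lam a (cj b g) : ℂˣ) : ℂ) * _ * _
    ring
  have hinner' : ∀ k : G, Eq' (lam ⟨k, hGW k.2⟩) 1 := by
    intro k g
    have h1 := congrFun (hlam ⟨k, hGW k.2⟩) g
    simp only [hcjG] at h1
    rw [← h1, (IsIrr.classFun χ₀.2 : IsClassFunction G χf)]
    simp
  haveI : (G.subgroupOf W).Normal := ⟨fun x hx w => hWG w w.2 x hx⟩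
  haveI : Fintype (W ⧸ G.subgroupOf W) := Fintype.ofFinite _
  set m := G.relIndex W with hm
  have hmcard : Fintype.card (W ⧸ G.subgroupOf W) = m := by
    rw [← Nat.card_eq_fintype_card, ← Subgroup.index_eq_card]
    rfl
  set σ : G →* ℂˣ := ∏ q : W ⧸ G.subgroupOf W, lam q.out
  have hσd : ∀ d : W, Eq' (act d σ * lam d ^ m) σ := by
    intro d
    have e1 : act d σ * lam d ^ m = ∏ q : W ⧸ G.subgroupOf W, (act d (lam q.out) * lam d) := by
      rw [Finset.prod_mul_distrib, Finset.prod_const, Finset.card_univ, hmcard]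
      congr 1
      refine MonoidHom.ext fun g => ?_
      show (∏ q : W ⧸ G.subgroupOf W, lam q.out) (cj d g) = _
      rw [MonoidHom.finsetProd_apply, MonoidHom.finsetProd_apply]
      rfl
    have e2 : σ = ∏ q : W ⧸ G.subgroupOf W, lam (q * (d : W ⧸ G.subgroupOf W)).out :=
      (Fintype.prod_equiv (Equiv.mulRight (d : W ⧸ G.subgroupOf W)) _ _ fun q => rfl).symm
    rw [e1, e2]
    refine hEprod _ _ _ fun q _ => ?_
    obtain ⟨k, hk⟩ : ∃ k : G.subgroupOf W,
        (q * (d : W ⧸ G.subgroupOf W)).out = q.out * d * (k : W) := by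
      obtain ⟨k, hk⟩ := QuotientGroup.mk_out_eq_mul (G.subgroupOf W) (q.out * d)
      rw [QuotientGroup.mk_mul, QuotientGroup.out_eq'] at hk
      exact ⟨k, hk⟩
    intro g
    rw [hk]
    have h1 := congrFun (hlam (q.out * d * (k : W))) g
    have h3 := hcoc q.out d g
    have h4 := congrFun (hlam (q.out * d)) g
    rw [← h3, ← h4, ← h1, hcjmul (q.out * d) (k : W)]
    set k' : G := ⟨((k : W) : Γ), k.2⟩
    show χf (cj (q.out * d) g) = χf (cj (q.out * d) (cj ⟨k', hGW k'.2⟩ g))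
    rw [hcjG, map_mul, map_mul, map_inv, (IsIrr.classFun χ₀.2 : IsClassFunction G χf)]
  -- average
  have hI : M'.index = M.relIndex G := rfl
  obtain ⟨k, -, hk⟩ := Nat.exists_mul_mod_eq_of_coprime 1 hcop (hI ▸ (Subgroup.index_ne_zero_of_finite : M'.index ≠ 0))
  have hkm : ∀ a : G →* ℂˣ, (∀ x ∈ M', a x = 1) → (a ^ m) ^ k = a := by
    intro a ha
    refine MonoidHom.ext fun g => ?_
    have hI1 : (a g) ^ M.relIndex G = 1 := by
      rw [← hI, ← MonoidHom.pow_apply, pow_index_eq_one a fun n => ha n n.2]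
      rfl
    rw [MonoidHom.pow_apply, MonoidHom.pow_apply, ← pow_mul, pow_eq_pow_mod _ hI1, hk,
      ← pow_eq_pow_mod _ hI1, pow_one]
  set μ := σ ^ k
  refine ⟨⟨fun g => (μ g : ℂ) * χf g, IsIrr.mul_linear χ₀.2 μ⟩, ?_, fun w hw => ?_⟩
  · rw [← hinner (fun g => (μ g : ℂ) * χf g)]
    have hμM : ∀ x : M', μ x = 1 := fun x => by
      simp only [μ, σ, MonoidHom.pow_apply, MonoidHom.finsetProd_apply]
      rw [Finset.prod_eq_one fun q _ => hlamM _ _ x.2, one_pow]
    simpa [hμM] using hχ₀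
  · intro g g' he
    obtain rfl : g' = cj ⟨w, hw⟩ g := Subtype.ext he
    show (μ (cj ⟨w, hw⟩ g) : ℂ) * χf (cj ⟨w, hw⟩ g) = (μ g : ℂ) * χf g
    rw [show χf (cj ⟨w, hw⟩ g) = (lam ⟨w, hw⟩ g : ℂ) * χf g from congrFun (hlam ⟨w, hw⟩) g,
      ← mul_assoc, ← Units.val_mul]
    have h0 : ∀ j : ℕ, Eq' ((act ⟨w, hw⟩ σ * lam ⟨w, hw⟩ ^ m) ^ j) (σ ^ j) := by
      intro j
      induction j with
      | zero => exact fun g => rfl
      | succ j ih =>
        erw [pow_succ, pow_succ]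
        exact hEmul ih (hσd ⟨w, hw⟩)
    have h1 := h0 k
    erw [mul_pow, hkm _ (hlamM ⟨w, hw⟩)] at h1
    exact h1 g

/-- Invariant constituents above, for a solvable quotient. -/
theorem exists_inv_solvable : ∀ (n : ℕ) (W G N : Subgroup Γ) [Fintype G] [Fintype N] (_ : Nat.card G = n)
    (_ : G ≤ W) (hNG : N ≤ G) (_ : ∀ w ∈ W, ∀ g ∈ G, w * g * w⁻¹ ∈ G)
    (_ : ∀ w ∈ W, ∀ g ∈ N, w * g * w⁻¹ ∈ N) (_ : (G.relIndex W).Coprime (N.relIndex G))
    (_ : ∀ H : Subgroup Γ, N < H → H ≤ G → ⁅H, H⁆ ⊔ N ≠ H) (θ : IrrCharacter N)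
    (_ : ∀ w ∈ W, ∃ g ∈ G, FixBy N (θ : N → ℂ) (w * g)),
    ∃ χ : IrrCharacter G, classInner (fun x : N => (χ : G → ℂ) ⟨x, hNG x.2⟩) (θ : N → ℂ) ≠ 0 ∧
      ∀ w ∈ W, FixBy G (χ : G → ℂ) w := by
  intro n
  induction n using Nat.strong_induction_on with
  | _ n ih =>
    intro W G N _ _ hn hGW hNG hWG hWN hcop hsol θ hst
    classical
    rcases hNG.eq_or_lt with heq | hlt
    · subst heq
      refine ⟨θ, ?_, fun w hw => ?_⟩
      · have e : (fun x : N => (θ : N → ℂ) ⟨x, hNG x.2⟩) = (θ : N → ℂ) := rfl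
        rw [e]
        convert one_ne_zero (α := ℂ)
        convert classInner_self_irr θ.2
      · obtain ⟨g, hg, hfix⟩ := hst w hw
        intro x x' hx
        set g' : N := ⟨g, hg⟩
        have h1 := hfix (g'⁻¹ * x * g') x' (by
          rw [hx]
          simp only [g', Subgroup.coe_mul, Subgroup.coe_inv]
          group)
        rw [h1]
        have h2 := IsIrr.classFun θ.2 x g'⁻¹
        rwa [inv_inv] at h2
    set M : Subgroup Γ := ⁅G, G⁆ ⊔ N
    have hcG : ⁅G, G⁆ ≤ G := Subgroup.commutator_le.2 fun a ha b hb => by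
      rw [commutatorElement_def]
      exact mul_mem (mul_mem (mul_mem ha hb) (inv_mem ha)) (inv_mem hb)
    have hMG : M ≤ G := sup_le hcG hNG
    have hMlt : M < G := lt_of_le_of_ne hMG (hsol G hlt le_rfl)
    have hWM : ∀ w ∈ W, ∀ g ∈ M, w * g * w⁻¹ ∈ M := by
      intro w hw
      have hn : ∀ H : Subgroup Γ, (∀ g ∈ H, w * g * w⁻¹ ∈ H) → H.map (MulAut.conj w).toMonoidHom ≤ H :=
        fun H h => Subgroup.map_le_iff_le_comap.2 fun g hg => h g hg
      intro g hg
      refine (?_ : M.map (MulAut.conj w).toMonoidHom ≤ M) ⟨g, hg, rfl⟩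
      rw [Subgroup.map_sup, Subgroup.map_commutator]
      exact sup_le_sup (Subgroup.commutator_mono (hn G (hWG w hw)) (hn G (hWG w hw))) (hn N (hWN w hw))
    have hab : ∀ a ∈ G, ∀ b ∈ G, a * b * a⁻¹ * b⁻¹ ∈ M := fun a ha b hb =>
      Subgroup.mem_sup_left (by
        rw [← commutatorElement_def]
        exact Subgroup.commutator_mem_commutator ha hb)
    -- the stabilizer and a complement
    let T : Subgroup Γ :=
      { carrier := {w | w ∈ W ∧ FixBy N (θ : N → ℂ) w}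
        one_mem' := ⟨one_mem W, fun x x' hx => by
          rw [show x' = x from Subtype.ext (by simpa using hx)]⟩
        mul_mem' := fun {a b} ha hb => ⟨mul_mem ha.1 hb.1, ha.2.mul (hWN b hb.1) hb.2⟩
        inv_mem' := fun {a} ha => ⟨W.inv_mem ha.1, fun x x' hx => (ha.2 x' x (by rw [hx]; group)).symm⟩ }
    have hTW : T ≤ W := fun w hw => hw.1
    haveI : ((M ⊓ T).subgroupOf T).Normal :=
      ⟨fun x hx t => ⟨hWM t (hTW t.2) x hx.1, mul_mem (mul_mem t.2 hx.2) (T.inv_mem t.2)⟩⟩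
    set P := T ⧸ (M ⊓ T).subgroupOf T
    set π := QuotientGroup.mk' ((M ⊓ T).subgroupOf T)
    set A : Subgroup P := ((G ⊓ T).subgroupOf T).map π
    haveI : ((G ⊓ T).subgroupOf T).Normal :=
      ⟨fun x hx t => ⟨hWG t (hTW t.2) x hx.1, mul_mem (mul_mem t.2 hx.2) (T.inv_mem t.2)⟩⟩
    haveI : A.Normal := Subgroup.Normal.map inferInstance π (QuotientGroup.mk'_surjective _)
    have hkerle : π.ker ≤ (G ⊓ T).subgroupOf T := by
      rw [QuotientGroup.ker_mk']
      exact fun x hx => ⟨hMG hx.1, hx.2⟩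
    have hAi : A.index = G.relIndex W := by
      rw [Subgroup.index_map_eq _ (QuotientGroup.mk'_surjective _) hkerle]
      show (G ⊓ T).relIndex T = _
      rw [Subgroup.inf_relIndex_right]
      have hTG : (G : Subgroup Γ).relIndex T = (G.subgroupOf W).relIndex (T.subgroupOf W) :=
        (Subgroup.relIndex_subgroupOf hTW).symm
      haveI : (G.subgroupOf W).Normal := ⟨fun x hx w => hWG w w.2 x hx⟩
      rw [hTG, ← Subgroup.relIndex_sup_right]
      have htop : T.subgroupOf W ⊔ G.subgroupOf W = ⊤ := by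
        refine eq_top_iff.2 fun w _ => ?_
        obtain ⟨g, hg, hfix⟩ := hst w w.2
        have hwg : (w : Γ) * g ∈ T := ⟨mul_mem w.2 (hGW hg), hfix⟩
        have : w = (⟨(w : Γ) * g, hTW hwg⟩ : W) * (⟨g, hGW hg⟩ : W)⁻¹ := Subtype.ext (by simp)
        rw [this]
        exact mul_mem (Subgroup.mem_sup_left hwg) (Subgroup.mem_sup_right (inv_mem hg))
      rw [htop, Subgroup.relIndex_top_right]
      rfl
    have hAc : Nat.card A ∣ N.relIndex G := by
      have h1 : Nat.card A = (M ⊓ T).relIndex (G ⊓ T) := by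
        rw [← Subgroup.relIndex_bot_left, show A = ((G ⊓ T).subgroupOf T).map π from rfl,
          show (⊥ : Subgroup P) = ((M ⊓ T).subgroupOf T).map π by
            rw [eq_comm, Subgroup.map_eq_bot_iff, QuotientGroup.ker_mk'],
          Subgroup.relIndex_map_map, sup_eq_left.2 (by rw [QuotientGroup.ker_mk']),
          sup_eq_left.2 hkerle, Subgroup.relIndex_subgroupOf inf_le_right]
      rw [h1]
      refine dvd_trans ?_ (Subgroup.relIndex_dvd_of_le_left (K := M) G le_sup_right)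
      rw [show M ⊓ T = M ⊓ (G ⊓ T) by rw [← inf_assoc, inf_eq_left.2 hMG], Subgroup.inf_relIndex_right]
      haveI : (M.subgroupOf G).Normal := ⟨fun x hx g => hWM g (hGW g.2) x hx⟩
      rw [← Subgroup.relIndex_subgroupOf (K := G ⊓ T) (L := G) inf_le_left]
      exact Subgroup.relIndex_dvd_index_of_normal _ _
    obtain ⟨L, hL⟩ := Subgroup.exists_right_complement'_of_coprime (N := A)
      (hAi ▸ (hcop.symm.coprime_dvd_left hAc))
    set T₁ : Subgroup Γ := (L.comap π).map T.subtype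
    have hT₁T : T₁ ≤ T := Subgroup.map_subtype_le _
    have hT₁G : T₁ ⊓ G ≤ M := by
      rintro x ⟨⟨t, ht, rfl⟩, hxG⟩
      have hA : π t ∈ A := ⟨t, ⟨hxG, t.2⟩, rfl⟩
      have hbot := hL.disjoint.le_bot ⟨hA, ht⟩
      rw [Subgroup.mem_bot, ← MonoidHom.mem_ker, QuotientGroup.ker_mk'] at hbot
      exact hbot.1
    have hcover : ∀ w ∈ W, ∃ g ∈ G, w * g ∈ T₁ := by
      intro w hw
      obtain ⟨g, hg, hfix⟩ := hst w hw
      set t : T := ⟨w * g, mul_mem hw (hGW hg), hfix⟩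
      obtain ⟨⟨⟨a, ha⟩, ⟨b, hb⟩⟩, hab'⟩ := hL.2 (π t)
      obtain ⟨a', ha', rfl⟩ := ha
      obtain ⟨b', rfl⟩ := QuotientGroup.mk'_surjective _ b
      have e : π t = π (a' * b') := by rw [map_mul]; exact hab'.symm
      have hmem : (a' * b')⁻¹ * t ∈ π.ker := by
        rw [MonoidHom.mem_ker, map_mul, map_inv, e, inv_mul_cancel]
      rw [QuotientGroup.ker_mk'] at hmem
      set z := (a' * b')⁻¹ * t
      -- t = a' * b' * z
      have hb'W : (b' : Γ) ∈ W := hTW b'.2
      refine ⟨g * (z : Γ)⁻¹ * ((b' : Γ)⁻¹ * (a' : Γ)⁻¹ * b'),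
        mul_mem (mul_mem hg (inv_mem (hMG hmem.1))) ?_, ⟨b', hb, ?_⟩⟩
      · have := hWG (b' : Γ)⁻¹ (inv_mem hb'W) (a' : Γ)⁻¹ (inv_mem ha'.1)
        rwa [inv_inv] at this
      · show (b' : Γ) = w * (g * (z : Γ)⁻¹ * ((b' : Γ)⁻¹ * (a' : Γ)⁻¹ * b'))
        have hz : (z : Γ) = ((a' : Γ) * b')⁻¹ * (w * g) := rfl
        rw [hz]
        group
    set W₁ : Subgroup Γ :=
      { carrier := {w | ∃ t ∈ T₁, ∃ x ∈ M, w = t * x}
        one_mem' := ⟨1, one_mem _, 1, one_mem _, (one_mul _).symm⟩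
        mul_mem' := by
          rintro _ _ ⟨t, ht, x, hx, rfl⟩ ⟨t', ht', x', hx', rfl⟩
          refine ⟨t * t', mul_mem ht ht', t'⁻¹ * x * t' * x', mul_mem ?_ hx', by group⟩
          have := hWM t'⁻¹ (W.inv_mem (hTW (hT₁T ht'))) x hx
          rwa [inv_inv] at this
        inv_mem' := by
          rintro _ ⟨t, ht, x, hx, rfl⟩
          exact ⟨t⁻¹, T₁.inv_mem ht, t * x⁻¹ * t⁻¹, hWM t (hTW (hT₁T ht)) _ (M.inv_mem hx), by group⟩ }
    have hW₁W : W₁ ≤ W := by
      rintro _ ⟨t, ht, x, hx, rfl⟩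
      exact mul_mem (hTW (hT₁T ht)) (hGW (hMG hx))
    have hMW₁ : M ≤ W₁ := fun x hx => ⟨1, one_mem _, x, hx, (one_mul x).symm⟩
    have hWG₁ : ∀ w ∈ W, ∃ g ∈ G, w * g ∈ W₁ := fun w hw => by
      obtain ⟨g, hg, ht⟩ := hcover w hw
      exact ⟨g, hg, _, ht, 1, one_mem _, (mul_one _).symm⟩
    have hidx : M.relIndex W₁ = G.relIndex W := by
      have h1 : M.relIndex W₁ = G.relIndex W₁ := by
        rw [← Subgroup.inf_relIndex_right G W₁]
        congr 1
        refine le_antisymm (le_inf hMG hMW₁) ?_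
        rintro _ ⟨hG', ⟨t, ht, x, hx, rfl⟩⟩
        refine mul_mem (hT₁G ⟨ht, ?_⟩) hx
        have := G.mul_mem hG' (G.inv_mem (hMG hx))
        rwa [mul_inv_cancel_right] at this
      rw [h1, ← Subgroup.relIndex_subgroupOf hW₁W]
      haveI : (G.subgroupOf W).Normal := ⟨fun x hx w => hWG w w.2 x hx⟩
      rw [← Subgroup.relIndex_sup_right]
      have htop : W₁.subgroupOf W ⊔ G.subgroupOf W = ⊤ := by
        refine eq_top_iff.2 fun w _ => ?_
        obtain ⟨g, hg, hwg⟩ := hWG₁ w w.2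
        have : w = (⟨(w : Γ) * g, hW₁W hwg⟩ : W) * (⟨g, hGW hg⟩ : W)⁻¹ := Subtype.ext (by simp)
        rw [this]
        exact mul_mem (Subgroup.mem_sup_left hwg) (Subgroup.mem_sup_right (inv_mem hg))
      rw [htop, Subgroup.relIndex_top_right]
      rfl
    haveI : Fintype M := Fintype.ofFinite _
    obtain ⟨ψ, hψθ, hψinv⟩ := ih (Nat.card M) (hn ▸ lt_of_le_of_ne (Subgroup.card_le_of_le hMG)
        (fun h => hMlt.ne (Subgroup.eq_of_le_of_card_ge hMG h.ge))) W₁ M N rfl hMW₁ le_sup_right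
      (fun w hw => hWM w (hW₁W hw)) (fun w hw => hWN w (hW₁W hw))
      (hidx ▸ hcop.coprime_dvd_right (Dvd.intro _ (Subgroup.relIndex_mul_relIndex N M G le_sup_right hMG)))
      (fun H h1 h2 => hsol H h1 (h2.trans hMG)) θ (by
        rintro _ ⟨t, ht, x, hx, rfl⟩
        exact ⟨x⁻¹, inv_mem hx, by rw [mul_inv_cancel_right]; exact (hT₁T ht).2⟩)
    obtain ⟨χ, hχψ, hχinv⟩ := step_abelian hGW hMG hWG hWM hab
      (hcop.coprime_dvd_right (Dvd.intro_left _ (Subgroup.relIndex_mul_relIndex N M G le_sup_right hMG)))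
      ψ (fun w hw => by
        obtain ⟨g, hg, hwg⟩ := hWG₁ w hw
        exact ⟨g, hg, hψinv _ hwg⟩)
    refine ⟨χ, ?_, hχinv⟩
    -- transitivity of constituents
    let ι : N →* M := Subgroup.inclusion le_sup_right
    have hcm : IsCharacter M (fun x : M => (χ : G → ℂ) ⟨x, hMG x.2⟩) :=
      IsChar.comp (Subgroup.inclusion hMG) (IsIrr.isCharacter χ.2)
    obtain ⟨a, ha, hae⟩ := IsChar.exists_decomp_inner hcm
    have e : (fun x : N => (χ : G → ℂ) ⟨x, hNG x.2⟩) =
        ∑ φ : IrrCharacter M, (a φ : ℂ) • (fun x : N => (φ : M → ℂ) (ι x)) := by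
      funext x
      have h1 := congrFun hae (ι x)
      simp only [Finset.sum_apply, Pi.smul_apply] at h1 ⊢
      exact h1
    choose b hb using fun φ : IrrCharacter M => IsChar.classInner_nat
      (IsChar.comp ι (IsIrr.isCharacter φ.2)) (IsIrr.isCharacter θ.2)
    rw [e, classInner_sum_left, Finset.sum_congr rfl (g := fun φ => ((a φ * b φ : ℕ) : ℂ)) fun φ _ => by
      rw [classInner_smul_left, hb, Nat.cast_mul], ← Nat.cast_sum, Nat.cast_ne_zero]
    intro h0
    rcases mul_eq_zero.1 (Finset.sum_eq_zero_iff.1 h0 ψ (Finset.mem_univ _)) with h | h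
    · exact hχψ (by rw [ha ψ, h, Nat.cast_zero])
    · exact hψθ ((hb ψ).trans (by rw [h, Nat.cast_zero]))

/-- A solvable quotient gives the descending condition. -/
theorem commutator_cond {G N : Subgroup Γ} [(N.subgroupOf G).Normal] (hNG : N ≤ G)
    (hsolv : Group.IsSolvable (G ⧸ N.subgroupOf G)) (H : Subgroup Γ) (hNH : N < H) (hHG : H ≤ G) :
    ⁅H, H⁆ ⊔ N ≠ H := by
  intro he
  haveI := hsolv
  set π := QuotientGroup.mk' (N.subgroupOf G)
  set H' : Subgroup G := H.subgroupOf G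
  set K := H'.map π
  haveI : Group.IsSolvable K := inferInstance
  have hK : ⁅K, K⁆ = K := by
    refine le_antisymm (Subgroup.commutator_le.2 fun a ha b hb => ?_) ?_
    · rw [commutatorElement_def]
      exact mul_mem (mul_mem (mul_mem ha hb) (inv_mem ha)) (inv_mem hb)
    rw [← Subgroup.map_commutator]
    have h1 : H' ≤ ⁅H', H'⁆ ⊔ N.subgroupOf G := by
      intro x hx
      have h2 : H ≤ (⁅H', H'⁆ ⊔ N.subgroupOf G).map G.subtype := by
        rw [Subgroup.map_sup, Subgroup.map_commutator, Subgroup.subgroupOf_map_subtype,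
          Subgroup.subgroupOf_map_subtype, inf_eq_left.2 hHG, inf_eq_left.2 hNG, he]
      obtain ⟨y, hy, hyx⟩ := h2 hx
      rwa [← Subtype.ext (show (y : Γ) = x from hyx)]
    refine (Subgroup.map_mono h1).trans ?_
    rw [Subgroup.map_sup]
    refine sup_le le_rfl ?_
    rw [(Subgroup.map_eq_bot_iff _).2 (by rw [QuotientGroup.ker_mk'])]
    exact bot_le
  have hKne : K ≠ ⊥ := by
    intro h0
    rw [Subgroup.map_eq_bot_iff, QuotientGroup.ker_mk'] at h0
    exact hNH.not_ge fun x hx => h0 (show (⟨x, hHG hx⟩ : G) ∈ H' from hx)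
  haveI : Nontrivial K := (Subgroup.nontrivial_iff_ne_bot K).2 hKne
  have h3 : commutator K = ⊤ := by
    apply Subgroup.map_injective K.subtype_injective
    rw [commutator_def, Subgroup.map_commutator, ← MonoidHom.range_eq_map, Subgroup.range_subtype, hK]
  exact (Group.IsSolvable.commutator_lt_top_of_nontrivial K).ne h3

end Cfsg.Agent.Char.InvAbove
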