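import Cfsg.Agent.Lib.Char.CliffordCorr
import Cfsg.Agent.Lib.Char.InvariantConstituent

/-!
Induction from a normal subgroup when the inertia quotient is abelian.
-/

namespace Cfsg.Agent.Char.AbInertia

open scoped ComplexConjugate
open Cfsg

universe u

variable {G : Type u} [Group G] [Fintype G] (N : Subgroup G) [hN : N.Normal] [Fintype N]

/-- All characters of the inertia group above `θ` lie with the same multiplicity over it. -/
theorem mult_eq {θ : N → ℂ} (hθ : IsIrrCharacter N θ) {T : Subgroup G} (hNT : N ≤ T)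
    (hT : T ≤ inertia N θ) [Fintype T] (hab : ∀ x ∈ T, ∀ y ∈ T, x * y * x⁻¹ * y⁻¹ ∈ N)
    {ψ φ : T → ℂ} (hψ : IsIrrCharacter T ψ) (hφ : IsIrrCharacter T φ)
    (h1 : classInner (fun n : N => ψ ⟨(n : G), hNT n.2⟩) θ ≠ 0)
    (h2 : classInner (fun n : N => φ ⟨(n : G), hNT n.2⟩) θ ≠ 0) :
    classInner (fun n : N => ψ ⟨(n : G), hNT n.2⟩) θ =
      classInner (fun n : N => φ ⟨(n : G), hNT n.2⟩) θ := by
  classical
  haveI : (N.subgroupOf T).Normal := Subgroup.Normal.subgroupOf inferInstance _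
  haveI : Fintype (N.subgroupOf T) := Fintype.ofFinite _
  have key : ∀ f : T → ℂ, classInner (fun x : N.subgroupOf T => f x)
      (fun x : N.subgroupOf T => θ ⟨((x : T) : G), x.2⟩) =
        classInner (fun n : N => f ⟨(n : G), hNT n.2⟩) θ := fun f =>
    Corr.classInner_subgroupOf N hNT (fun n : N => f ⟨(n : G), hNT n.2⟩) θ
  obtain ⟨l, -, hl⟩ := InvAbove.exists_linear_twist (N.subgroupOf T)
    (fun a b => hab a a.2 b b.2) hψ hφ
    (IsIrr.comp_mulEquiv (Subgroup.subgroupOfEquivOfLe hNT) hθ)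
    (fun h => h1 ((key ψ).symm.trans h)) (fun h => h2 ((key φ).symm.trans h))
  have e1 := Corr.one_eq_mul N hθ hNT hT hψ h1
  have e2 := Corr.one_eq_mul N hθ hNT hT hφ h2
  have e : φ 1 = ψ 1 := by rw [hl]; simp
  rw [e, e1] at e2
  exact mul_right_cancel₀ (IsIrr.one_ne_zero hθ) e2

/-- Abelian inertia quotient: the induced character is a multiple of a sum of irreducibles. -/
theorem decomp {θ : N → ℂ} (hθ : IsIrrCharacter N θ) {T : Subgroup G} (hT : T = inertia N θ)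
    [Fintype T] (hab : ∀ x ∈ T, ∀ y ∈ T, x * y * x⁻¹ * y⁻¹ ∈ N) :
    ∃ (e : ℕ) (C : Finset (G → ℂ)), 0 < e ∧ (∀ χ ∈ C, IsIrrCharacter G χ) ∧
      e ^ 2 * C.card * Nat.card N = Nat.card T ∧ indFun N θ = (e : ℂ) • ∑ χ ∈ C, χ ∧
      (∀ χ ∈ C, χ 1 = (T.index : ℂ) * e * θ 1) ∧
      ∀ (hNT : N ≤ T) (ψ : T → ℂ), IsIrrCharacter T ψ →
        classInner (fun n : N => ψ ⟨(n : G), hNT n.2⟩) θ ≠ 0 →
        classInner (fun n : N => ψ ⟨(n : G), hNT n.2⟩) θ = e := by
  classical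
  have hNT : N ≤ T := hT ▸ le_inertia N (IsIrr.classFun hθ)
  have hind := isCharacter_indFun N (IsIrr.isCharacter hθ)
  obtain ⟨a, ha, hdec⟩ := IsChar.exists_decomp_inner hind
  have hres : ∀ χ : IrrCharacter G, classInner (fun n : N => (χ : G → ℂ) n) θ = a χ := fun χ => by
    have h := ha χ
    rw [classInner_indFun N θ (IsIrr.classFun χ.2)] at h
    rw [← classInner_conj_symm, h, map_natCast]
  obtain ⟨χ₀, hχ₀⟩ := IsChar.exists_constituent' hind (by
    rw [indFun_one_eq]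
    exact mul_ne_zero (Nat.cast_ne_zero.mpr Subgroup.index_ne_zero_of_finite)
      (IsIrr.one_ne_zero hθ))
  have he0 : a χ₀ ≠ 0 := fun h => hχ₀ (by rw [ha χ₀, h, Nat.cast_zero])
  set e := a χ₀ with he
  obtain ⟨ψ₀, hψ₀, -, hψ₀e⟩ := Corr.exists_correspondent N hθ hT hNT χ₀.2
    (by rw [hres]; exact Nat.cast_ne_zero.mpr he0)
  rw [hres] at hψ₀e
  have hTeq : ∀ (ψ : T → ℂ), IsIrrCharacter T ψ →
      classInner (fun n : N => ψ ⟨(n : G), hNT n.2⟩) θ ≠ 0 →
      classInner (fun n : N => ψ ⟨(n : G), hNT n.2⟩) θ = e := fun ψ hψ h =>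
    (mult_eq N hθ hNT hT.le hab hψ hψ₀ h (by rw [hψ₀e]; exact Nat.cast_ne_zero.mpr he0)).trans hψ₀e
  have hall : ∀ χ : IrrCharacter G, a χ ≠ 0 → a χ = e := by
    intro χ hχ
    obtain ⟨ψ, hψ, -, hψe⟩ := Corr.exists_correspondent N hθ hT hNT χ.2
      (by rw [hres]; exact Nat.cast_ne_zero.mpr hχ)
    rw [hres] at hψe
    exact Nat.cast_injective (R := ℂ) (hψe.symm.trans
      (hTeq ψ hψ (by rw [hψe]; exact Nat.cast_ne_zero.mpr hχ)))
  set S : Finset (IrrCharacter G) := Finset.univ.filter fun χ => a χ ≠ 0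
  set C : Finset (G → ℂ) := Finset.image (fun χ : IrrCharacter G => (χ : G → ℂ)) S
  have hdec' : indFun N θ = (e : ℂ) • ∑ χ ∈ C, χ := by
    rw [hdec, Finset.sum_image (fun x _ y _ h => Subtype.ext h), Finset.smul_sum]
    refine (Finset.sum_subset (Finset.subset_univ S) fun χ _ hχ => ?_).symm.trans
      (Finset.sum_congr rfl fun χ hχ => by rw [hall χ (Finset.mem_filter.1 hχ).2])
    simp [S] at hχ
    simp [hχ]
  have hdeg : ∀ χ ∈ C, χ 1 = (T.index : ℂ) * e * θ 1 := by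
    intro f hf
    obtain ⟨χ, hχ, rfl⟩ := Finset.mem_image.1 hf
    have h0 := (Finset.mem_filter.1 hχ).2
    rw [clifford_one N χ.2 hθ (by rw [hres]; exact Nat.cast_ne_zero.mpr h0), hres, hall χ h0, ← hT]
    ring
  refine ⟨e, C, Nat.pos_of_ne_zero he0, fun f hf => ?_, ?_, hdec', hdeg, fun _ => hTeq⟩
  · obtain ⟨χ, -, rfl⟩ := Finset.mem_image.1 hf
    exact χ.2
  · have h := congrFun hdec' 1
    rw [indFun_one_eq, Pi.smul_apply, Finset.sum_apply, Finset.sum_congr rfl hdeg, Finset.sum_const,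
      nsmul_eq_mul, smul_eq_mul] at h
    have h' : ((N.index : ℕ) : ℂ) * θ 1 = ((T.index * (e ^ 2 * C.card) : ℕ) : ℂ) * θ 1 := by
      rw [h]; push_cast; ring
    have h2 : N.index = T.index * (e ^ 2 * C.card) :=
      Nat.cast_injective (mul_right_cancel₀ (IsIrr.one_ne_zero hθ) h')
    have h3 := N.card_mul_index
    rw [← T.card_mul_index, h2] at h3
    refine Nat.eq_of_mul_eq_mul_left (Nat.pos_of_ne_zero (Subgroup.index_ne_zero_of_finite (H := T))) ?_
    linear_combination h3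

end Cfsg.Agent.Char.AbInertia
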