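import Cfsg.Agent.Lib.Char.KnorrPPower
import Cfsg.Agent.Lib.Char.Schur
import Cfsg.Agent.Lib.Block.FirstMain
import Cfsg.Prelude.Def_BlockRank

/-!
A stable block of a normal subgroup of `p`-power index whose covering block has a commutative
defect group: restriction is onto, with fibres of the size of the index.
-/

namespace Cfsg.Agent.Char.AbStable

open scoped ComplexConjugate
open Cfsg Cfsg.Agent.Block Cfsg.Agent.Char.Knorr

set_option linter.unusedSectionVars false
set_option linter.style.haveILetI false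

universe u

variable {G : Type u} [Group G] [Fintype G] {p : ℕ} [Fact p.Prime] {M : Ideal AlgInt}
  (N : Subgroup G) [hN : N.Normal] [Fintype N]

/-- Restriction of a member to the normal subgroup is irreducible. -/
theorem res_irr (hM : IsPModular p M) {k : ℕ} (hidx : N.index = p ^ k)
    {B : Set (IrrCharacter G)} (hB : IsPBlock M B) {P : Subgroup G}
    (hP : IsDefectGroup p M B P) (hPab : ∀ x ∈ P, ∀ y ∈ P, x * y = y * x) (htop : N ⊔ P = ⊤)
    {χ : IrrCharacter G} (hχ : χ ∈ B) : IsIrrCharacter N (fun n : N => (χ : G → ℂ) n) := by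
  classical
  obtain ⟨g, hg, Q, hPQ⟩ := hP
  have hgN : g ∈ N := regular_mem_of_index_pPow hidx (regular_of_unit hM hB hg.2.1)
  have hdec : ∀ t : G, ∃ n ∈ N, ∃ a ∈ P, n * a = t := fun t =>
    Subgroup.mem_sup_of_normal_left.1 (htop ▸ Subgroup.mem_top t : t ∈ N ⊔ P)
  have hcomm : ∀ x y : G ⧸ N, x * y = y * x := by
    intro x y
    obtain ⟨a, rfl⟩ := QuotientGroup.mk_surjective x
    obtain ⟨b, rfl⟩ := QuotientGroup.mk_surjective y
    obtain ⟨n, hn, a', ha, rfl⟩ := hdec a
    obtain ⟨m, hm, b', hb, rfl⟩ := hdec b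
    simp only [QuotientGroup.mk_mul, (QuotientGroup.eq_one_iff n).2 hn,
      (QuotientGroup.eq_one_iff m).2 hm, one_mul]
    rw [← QuotientGroup.mk_mul, ← QuotientGroup.mk_mul, hPab a' ha b' hb]
  have hconj : ∀ u x : G, IsConj (u * g) x → u⁻¹ * x ∈ N := by
    intro u x h
    obtain ⟨t, rfl⟩ := isConj_iff.1 h
    rw [← QuotientGroup.eq]
    simp only [QuotientGroup.mk_mul, QuotientGroup.mk_inv, (QuotientGroup.eq_one_iff g).2 hgN,
      mul_one]
    rw [hcomm (t : G ⧸ N) u, mul_inv_cancel_right]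
  obtain ⟨d, ρ, hρ, hρc⟩ := χ.2
  set σ : Representation ℂ N (Fin d → ℂ) := ρ.comp N.subtype
  have hinv : ∀ W : Submodule ℂ (Fin d → ℂ), (∀ n : N, ∀ v ∈ W, ρ n v ∈ W) →
      ∀ t : G, ∀ v ∈ W, ρ t v ∈ W := by
    intro W hW
    have hstep : ∀ u ∈ P, ∀ v ∈ W, ρ u⁻¹ v ∈ W := by
      intro u hu v hv
      have hne : centralChar (χ : G → ℂ) (u * g) ≠ 0 := fun h => by
        refine defectClass_mul_omega hM hB hg Q (x := u) ?_ (fun w hw => ?_) hχ
          (h ▸ ideal_zero hM)
        · rw [hPQ] at hu; exact hu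
        · exact hPab u hu w (by rw [hPQ]; exact hw)
      have he : ∑ x : G, classInd (u * g) x • ρ x =
          centralChar (χ : G → ℂ) (u * g) • LinearMap.id := by
        rw [sum_smul_rep_scalar ρ (classInd_classFun (u * g))]
        congr 1
        rw [← Representation.char_one ρ, hρc]
        exact omegaFun_classInd (u * g) χ
      have h2 : centralChar (χ : G → ℂ) (u * g) • ρ u⁻¹ v =
          ∑ x : G, classInd (u * g) x • ρ (u⁻¹ * x) v := by
        have := congrArg (ρ u⁻¹) (LinearMap.congr_fun he v)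
        simp only [LinearMap.smul_apply, LinearMap.id_apply, LinearMap.sum_apply, map_sum,
          map_smul] at this
        rw [← this]
        exact Finset.sum_congr rfl fun x _ => by rw [map_mul]; rfl
      have h3 : centralChar (χ : G → ℂ) (u * g) • ρ u⁻¹ v ∈ W := by
        rw [h2]
        refine Submodule.sum_mem _ fun x _ => ?_
        by_cases hx : IsConj (u * g) x
        · exact W.smul_mem _ (hW ⟨_, hconj u x hx⟩ v hv)
        · rw [show classInd (u * g) x = 0 by rw [classInd]; exact if_neg hx, zero_smul]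
          exact W.zero_mem
      exact (Submodule.smul_mem_iff W hne).1 h3
    intro t v hv
    obtain ⟨n, hn, a, ha, rfl⟩ := hdec t
    rw [map_mul]
    refine hW ⟨n, hn⟩ _ ?_
    simpa using hstep a⁻¹ (inv_mem ha) v hv
  have hbt : (⊥ : Subrepresentation σ) ≠ ⊤ := fun h => by
    have h1 : (⊥ : Submodule ℂ (Fin d → ℂ)) = ⊤ := congrArg Subrepresentation.toSubmodule h
    have h2 := finrank_pos_of_irreducible ρ
    rw [← finrank_top ℂ (Fin d → ℂ), ← h1, finrank_bot] at h2
    exact lt_irrefl _ h2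
  haveI : Nontrivial (Subrepresentation σ) := ⟨⟨_, _, hbt⟩⟩
  haveI : σ.IsIrreducible := by
    refine ⟨fun S => ?_⟩
    let S' : Subrepresentation ρ :=
      ⟨S.toSubmodule, fun t v hv => hinv S.toSubmodule
        (fun n w hw => S.apply_mem_toSubmodule n hw) t v hv⟩
    rcases eq_bot_or_eq_top S' with h | h
    · exact .inl (Subrepresentation.toSubmodule_injective
        (congrArg Subrepresentation.toSubmodule h :))
    · exact .inr (Subrepresentation.toSubmodule_injective
        (congrArg Subrepresentation.toSubmodule h :))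
  have := isIrrCharacter_character σ
  rwa [show σ.character = fun n : N => (χ : G → ℂ) n from funext fun n => congrFun hρc (n : G)]
    at this

theorem abelian_stable (hM : IsPModular p M) (hNi : ∃ k : ℕ, N.index = p ^ k)
    {b : Set (IrrCharacter N)} (hb : IsPBlock M b) (hstab : ∀ g : G, StabilizesBlock N b g)
    {B : Set (IrrCharacter G)} (hB : IsPBlock M B)
    (hcov : ∃ χ ∈ B, ∃ θ ∈ b, classInner (fun n : N => (χ : G → ℂ) n) (θ : N → ℂ) ≠ 0)
    {P : Subgroup G} (hP : IsDefectGroup p M B P) (hPab : ∀ x ∈ P, ∀ y ∈ P, x * y = y * x) :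
    N ⊔ P = ⊤ ∧ IsDefectGroup p M b ((P ⊓ N).subgroupOf N) ∧
      (∀ χ ∈ B, ∃ θ ∈ b, ∀ n : N, (χ : G → ℂ) n = (θ : N → ℂ) n) ∧
      (∀ θ ∈ b, Nat.card {χ : IrrCharacter G //
        χ ∈ B ∧ ∀ n : N, (χ : G → ℂ) n = (θ : N → ℂ) n} = N.index) ∧
      Nat.card B = N.index * Nat.card b ∧ blockRank p B = blockRank p b := by
  classical
  obtain ⟨k, hk⟩ := hNi
  have hsing : ∀ g, g ∉ N → ¬ IsPRegular p g := fun g hg h =>
    hg (regular_mem_of_index_pPow hk h)
  have hcs := conjStable_of_stabilizes N hstab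
  have htop : N ⊔ P = ⊤ := sup_defect_eq_top N hM hk hb hcs hB hcov (fun g hg => by
    rw [blockCoeff_singular hM hB (not_not.1 (hsing g hg))]
    exact ideal_zero hM) hP
  have hres : ∀ χ ∈ B, IsIrrCharacter N (fun n : N => (χ : G → ℂ) n) := fun χ hχ =>
    res_irr N hM hk hB hP hPab htop hχ
  have hmem : ∀ χ ∈ B, ∃ θ ∈ b, ∀ n : N, (χ : G → ℂ) n = (θ : N → ℂ) n := by
    intro χ hχ
    obtain ⟨χ₀, hχ₀, θ₀, hθ₀, hne⟩ := hcov
    obtain ⟨g, θ', hθ', hψ⟩ := constituents_in_conjugates N hM hB hb hχ₀ hθ₀ hne hχ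
      (ψ := ⟨_, hres χ hχ⟩) (by rw [classInner_self_irr (hres χ hχ)]; exact one_ne_zero)
    exact ⟨⟨_, hres χ hχ⟩, hcs g θ' hθ' _ hψ, fun n => rfl⟩
  have huniq : ∀ χ : IrrCharacter G, ∀ θ ∈ b,
      classInner (fun n : N => (χ : G → ℂ) n) (θ : N → ℂ) ≠ 0 →
      χ ∈ B ∧ (fun n : N => (χ : G → ℂ) n) = (θ : N → ℂ) := by
    intro χ θ hθ hne
    have hχB : χ ∈ B := by
      have := (unique_cover_pPow N hM ⟨k, hk⟩ hb).unique
        ⟨isPBlock_blockOf χ, χ, mem_blockOf_self hM χ, θ, hθ, hne⟩ ⟨hB, hcov⟩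
      exact this ▸ mem_blockOf_self hM χ
    refine ⟨hχB, ?_⟩
    by_contra h
    exact hne (classInner_irr_ne (hres χ hχB) θ.2 h)
  have hfib : ∀ θ ∈ b, Nat.card {χ : IrrCharacter G //
      χ ∈ B ∧ ∀ n : N, (χ : G → ℂ) n = (θ : N → ℂ) n} = N.index := by
    intro θ hθ
    obtain ⟨a, ha, hdec⟩ := IsChar.exists_decomp_inner
      (isCharacter_indFun N (IsIrr.isCharacter θ.2))
    have hterm : ∀ χ : IrrCharacter G, (a χ : ℂ) * (χ : G → ℂ) 1 =
        if χ ∈ B ∧ ∀ n : N, (χ : G → ℂ) n = (θ : N → ℂ) n then (θ : N → ℂ) 1 else 0 := by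
      intro χ
      rw [← ha χ, classInner_indFun N _ (IsIrr.classFun χ.2)]
      split_ifs with h
      · rw [show (fun n : N => (χ : G → ℂ) n) = (θ : N → ℂ) from funext h.2,
          classInner_self_irr θ.2, one_mul, ← h.2 1]
        rfl
      · have h0 : classInner (fun n : N => (χ : G → ℂ) n) (θ : N → ℂ) = 0 := by
          by_contra hne
          obtain ⟨h1, h2⟩ := huniq χ θ hθ hne
          exact h ⟨h1, congrFun h2⟩
        rw [← classInner_conj_symm, h0, map_zero, zero_mul]
    have h := congrFun hdec 1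
    simp only [indFun_one_eq, Finset.sum_apply, Pi.smul_apply, smul_eq_mul] at h
    rw [Finset.sum_congr rfl fun χ _ => hterm χ, ← Finset.sum_filter, Finset.sum_const,
      nsmul_eq_mul] at h
    have h' := mul_right_cancel₀ (IsIrr.one_ne_zero θ.2) h
    rw [Nat.card_eq_fintype_card, Fintype.card_subtype]
    exact_mod_cast h'.symm
  refine ⟨htop, inf_defect_of_stable N hM hb hstab hB hcov hP, hmem, hfib, ?_, ?_⟩
  · have f : ∀ χ : B, ∃ θ : b, ∀ n : N, ((χ : IrrCharacter G) : G → ℂ) n =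
        ((θ : IrrCharacter N) : N → ℂ) n := fun χ => by
      obtain ⟨θ, hθ, h⟩ := hmem χ χ.2
      exact ⟨⟨θ, hθ⟩, h⟩
    choose f hf using f
    rw [← Nat.card_congr (Equiv.sigmaFiberEquiv f), Nat.card_sigma,
      Finset.sum_congr rfl (g := fun _ => N.index) fun θ _ => ?_, Finset.sum_const,
      Finset.card_univ, ← Nat.card_eq_fintype_card, smul_eq_mul, mul_comm]
    refine Eq.trans (Nat.card_congr ?_) (hfib θ θ.2)
    exact
      { toFun := fun χ => ⟨χ.1.1, χ.1.2, fun n => by rw [hf χ.1 n, χ.2]⟩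
        invFun := fun χ => ⟨⟨χ.1, χ.2.1⟩, Subtype.ext (Subtype.ext (funext fun n =>
          (hf ⟨χ.1, χ.2.1⟩ n).symm.trans (χ.2.2 n)))⟩
        left_inv := fun χ => rfl
        right_inv := fun χ => rfl }
  · let R : (G → ℂ) →ₗ[ℂ] (N → ℂ) := LinearMap.funLeft ℂ ℂ (fun n : N => (n : G))
    set S := Submodule.span ℂ ((fun χ : IrrCharacter G => pRegularPart p (χ : G → ℂ)) '' B) with hS
    have hR : ∀ χ : IrrCharacter G, R (pRegularPart p (χ : G → ℂ)) =
        pRegularPart p (fun n : N => (χ : G → ℂ) n) := fun χ => funext fun n => by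
      by_cases hn : p ∣ orderOf n <;> simp [R, pRegularPart, IsPRegular, hn]
    have himg : S.map R =
        Submodule.span ℂ ((fun θ : IrrCharacter N => pRegularPart p (θ : N → ℂ)) '' b) := by
      rw [hS, Submodule.map_span, Set.image_image]
      congr 1
      ext v
      constructor
      · rintro ⟨χ, hχ, rfl⟩
        obtain ⟨θ, hθ, h⟩ := hmem χ hχ
        refine ⟨θ, hθ, ?_⟩
        show pRegularPart p (θ : N → ℂ) = R (pRegularPart p (χ : G → ℂ))
        rw [hR, funext h]
      · rintro ⟨θ, hθ, rfl⟩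
        obtain ⟨⟨χ, hχ, h⟩⟩ := (Nat.card_pos_iff.1 (by
          rw [hfib θ hθ]; exact Nat.pos_of_ne_zero Subgroup.index_ne_zero_of_finite)).1
        refine ⟨χ, hχ, ?_⟩
        show R (pRegularPart p (χ : G → ℂ)) = pRegularPart p (θ : N → ℂ)
        rw [hR, funext h]
    have hsupp : ∀ v ∈ S, ∀ g, g ∉ N → v g = 0 := by
      intro v hv g hg
      induction hv using Submodule.span_induction with
      | mem x hx =>
        obtain ⟨χ, -, rfl⟩ := hx
        simp [pRegularPart, hsing g hg]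
      | zero => rfl
      | add x y _ _ hx hy => rw [Pi.add_apply, hx, hy, add_zero]
      | smul c x _ hx => rw [Pi.smul_apply, hx, smul_zero]
    have hinj : Function.Injective (R.domRestrict S) := by
      intro v w h
      refine Subtype.ext (funext fun g => ?_)
      by_cases hg : g ∈ N
      · exact congrFun h ⟨g, hg⟩
      · rw [hsupp v v.2 g hg, hsupp w w.2 g hg]
    show Module.finrank ℂ S = _
    rw [← LinearMap.finrank_range_of_inj hinj, LinearMap.range_domRestrict, himg]
    rfl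

end Cfsg.Agent.Char.AbStable
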