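import Cfsg.Agent.Lib.Char.BrauerInduction

/-!
Artin's induction theorem.
-/

namespace Cfsg.Agent.Char.Brauer

open scoped ComplexConjugate
open Cfsg Cfsg.Agent.Char

set_option linter.unusedSectionVars false
set_option linter.style.haveILetI false

universe u

variable {G : Type u} [Group G] [Fintype G]

open Classical in
/-- The scaled indicator of the generators. -/
noncomputable def genInd (A : Subgroup G) : A → ℂ :=
  fun a => if Subgroup.zpowers (a : G) = A then (Nat.card A : ℂ) else 0

theorem sum_genInd [DecidablePred fun A : Subgroup G => IsCyclic A] :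
    ∑ A ∈ Finset.univ.filter (fun A : Subgroup G => IsCyclic A), indFun A (genInd A) =
      fun _ => (Nat.card G : ℂ) := by
  classical
  funext g
  rw [Finset.sum_apply]
  simp only [indFun, Finset.mul_sum]
  rw [Finset.sum_comm, Finset.sum_congr rfl (g := fun _ => (1 : ℂ)) fun x _ => ?_]
  · simp [Nat.card_eq_fintype_card]
  have hz : x⁻¹ * g * x ∈ Subgroup.zpowers (x⁻¹ * g * x) := Subgroup.mem_zpowers _
  rw [Finset.sum_eq_single (Subgroup.zpowers (x⁻¹ * g * x))]
  · rw [extendByZero_of_mem _ hz, genInd, if_pos rfl,
      inv_mul_cancel₀ (Nat.cast_ne_zero.mpr Nat.card_pos.ne')]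
  · intro A _ hne
    by_cases h : x⁻¹ * g * x ∈ A
    · rw [extendByZero_of_mem _ h, genInd, if_neg (Ne.symm hne), mul_zero]
    · rw [extendByZero_not_mem _ h, mul_zero]
  · intro h
    refine absurd ?_ h
    rw [Finset.mem_filter]
    exact ⟨Finset.mem_univ _, Subgroup.isCyclic_zpowers _⟩

theorem genInd_mem_aux : ∀ (n : ℕ) (A : Type u) [Group A] [Fintype A], Nat.card A ≤ n →
    IsCyclic A → (fun a : A => genInd (⊤ : Subgroup A) ⟨a, Subgroup.mem_top a⟩) ∈
      indSpan (fun E : Subgroup A => IsCyclic E) := by
  intro n
  induction n with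
  | zero => intro A _ _ hn; exact absurd hn (not_le_of_gt Nat.card_pos)
  | succ n ih =>
    intro A _ _ hn hcyc
    classical
    haveI := hcyc
    letI : CommGroup A := IsCyclic.commGroup
    have hcls : ∀ f : A → ℂ, IsClassFunction A f := fun f a b => by rw [mul_inv_cancel_comm]
    have htop : indFun (⊤ : Subgroup A) (genInd ⊤) =
        fun a : A => genInd (⊤ : Subgroup A) ⟨a, Subgroup.mem_top a⟩ :=
      indFun_top (hcls fun a : A => genInd (⊤ : Subgroup A) ⟨a, Subgroup.mem_top a⟩)
    have h := sum_genInd (G := A)
    have hall : ∀ B : Subgroup A, IsCyclic B := fun B => inferInstance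
    rw [Finset.filter_true_of_mem (fun B _ => hall B),
      ← Finset.add_sum_erase _ _ (Finset.mem_univ (⊤ : Subgroup A)), htop, ← eq_sub_iff_add_eq] at h
    rw [h]
    refine sub_mem ?_ (AddSubgroup.sum_mem _ fun B hB => ?_)
    · rw [← indFun_top (hcls fun _ : A => (Nat.card A : ℂ))]
      refine ind_mem (hall _) ?_
      have := IsChar.nsmul (IsChar.one (G := (⊤ : Subgroup A))) (Nat.card A)
      convert this using 1
      funext x
      simp
    haveI : Fintype B := Fintype.ofFinite B
    have hlt : Nat.card B ≤ n := by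
      by_contra hh
      exact Finset.ne_of_mem_erase hB ((Subgroup.card_eq_iff_eq_top B).1
        (le_antisymm (Subgroup.card_le_card_group B) (by omega)))
    refine indSpan_ind B (indSpan_mono (fun E hE => ?_) (?_ : genInd B ∈ indSpan (G := B)
      (fun E : Subgroup B => IsCyclic E)))
    · exact inferInstance
    · have hB' := ih B hlt inferInstance
      convert hB' using 1
      funext b
      simp only [genInd, Subgroup.card_top]
      have e : (Subgroup.zpowers b).map B.subtype = Subgroup.zpowers (b : A) := by
        rw [MonoidHom.map_zpowers]; rfl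
      refine if_congr ?_ rfl rfl
      constructor
      · intro hb
        refine eq_top_iff.2 fun y _ => ?_
        obtain ⟨w, hw, hwy⟩ : (y : A) ∈ (Subgroup.zpowers b).map B.subtype := by
          rw [e, hb]; exact y.2
        exact B.subtype_injective hwy ▸ hw
      · intro hb
        rw [← e, hb, ← MonoidHom.range_eq_map, Subgroup.range_subtype]

/-- Artin's induction theorem. -/
theorem artin {χ : G → ℂ} (hχ : IsCharacter G χ) :
    (Nat.card G : ℂ) • χ ∈ linSpan (G := G) (fun E : Subgroup G => IsCyclic E) := by
  classical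
  have h1 : (fun _ : G => (Nat.card G : ℂ)) ∈ indSpan (G := G) (fun E : Subgroup G => IsCyclic E) := by
    rw [← sum_genInd (G := G)]
    refine AddSubgroup.sum_mem _ fun A hA => ?_
    haveI : IsCyclic A := (Finset.mem_filter.1 hA).2
    haveI : Fintype A := Fintype.ofFinite A
    refine indSpan_ind A (indSpan_mono (fun E hE => ?_) (?_ : genInd A ∈ indSpan (G := A)
      (fun E : Subgroup A => IsCyclic E)))
    · exact isCyclic_of_surjective (E.equivMapOfInjective A.subtype A.subtype_injective).toMonoidHom
        (E.equivMapOfInjective A.subtype A.subtype_injective).surjective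
    · have hA' := genInd_mem_aux _ A le_rfl inferInstance
      convert hA' using 1
      funext b
      simp only [genInd, Subgroup.card_top]
      have e : (Subgroup.zpowers b).map A.subtype = Subgroup.zpowers (b : G) := by
        rw [MonoidHom.map_zpowers]; rfl
      refine if_congr ?_ rfl rfl
      constructor
      · intro hb
        refine eq_top_iff.2 fun y _ => ?_
        obtain ⟨w, hw, hwy⟩ : (y : G) ∈ (Subgroup.zpowers b).map A.subtype := by
          rw [e, hb]; exact y.2
        exact A.subtype_injective hwy ▸ hw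
      · intro hb
        rw [← e, hb, ← MonoidHom.range_eq_map, Subgroup.range_subtype]
  have h2 := indSpan_mul hχ h1
  rw [show χ * (fun _ : G => (Nat.card G : ℂ)) = (Nat.card G : ℂ) • χ from
    funext fun g => mul_comm _ _] at h2
  refine ((AddSubgroup.closure_le _).2 ?_ : indSpan (fun E : Subgroup G => IsCyclic E) ≤
    linSpan (fun E : Subgroup G => IsCyclic E)) h2
  rintro _ ⟨E, hE, φ, hφ, rfl⟩
  haveI : Fintype E := Fintype.ofFinite E
  haveI := hE
  letI : CommGroup E := IsCyclic.commGroup
  obtain ⟨a, hdec⟩ := IsChar.exists_decomp hφ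
  rw [hdec, indFun_sum]
  refine AddSubgroup.sum_mem _ fun ψ _ => ?_
  rw [indFun_smul, Nat.cast_smul_eq_nsmul ℂ]
  refine AddSubgroup.nsmul_mem _ ?_ _
  obtain ⟨l, hl⟩ := linearHom_of_isCharacter (IsIrr.isCharacter ψ.2) (IsIrr.one_of_comm mul_comm ψ.2)
  rw [hl]
  exact AddSubgroup.subset_closure ⟨E, hE, l, rfl⟩

end Cfsg.Agent.Char.Brauer
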