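import Cfsg.Agent.Lib.Lie.BNPair

/-!
Reduced representatives of cosets and double cosets of standard parabolic subgroups of a Weyl group.
-/

set_option autoImplicit false

namespace Cfsg.Agent.Char.BNRed

open Cfsg.Agent.Lie

variable {G : Type*} [Group G] (P : Cfsg.BNPair G)

/-- Right ascents. -/
def RA (J : Set G) (w : Weyl P) : Prop := ∀ s : P.S, (s : G) ∈ J → len P w < len P (w * refl P s)

/-- Left ascents. -/
def LA (K : Set G) (w : Weyl P) : Prop := ∀ s : P.S, (s : G) ∈ K → len P w < len P (refl P s * w)

theorem RA_inv {J : Set G} {w : Weyl P} : RA P J w⁻¹ ↔ LA P J w := by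
  constructor <;> intro h s hs <;> have := h s hs
  · rwa [← len_inv P (w⁻¹ * refl P s), mul_inv_rev, inv_inv, refl_inv, len_inv] at this
  · rwa [← len_inv P (w⁻¹ * refl P s), mul_inv_rev, inv_inv, refl_inv, len_inv]

theorem exists_reduced_sublist : ∀ l : List P.S,
    ∃ k : List P.S, k.Sublist l ∧ k.length = len P (wprod P k) ∧ wprod P k = wprod P l := by
  intro l
  induction l with
  | nil => exact ⟨[], List.Sublist.slnil, by simp [len_one], rfl⟩
  | cons s l ih =>
    obtain ⟨k, hsub, hlen, hk⟩ := ih
    by_cases h : len P (refl P s * wprod P k) < len P (wprod P k)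
    · obtain ⟨i, hi, e⟩ := exchange P k hlen h
      refine ⟨k.eraseIdx i, ((List.eraseIdx_sublist k i).trans hsub).cons s, ?_,
        by rw [wprod_cons, ← hk, e]⟩
      have h1 := len_le P (k.eraseIdx i)
      have h2 := len_le_refl_mul P s (wprod P k)
      rw [e] at h2
      rw [List.length_eraseIdx_of_lt hi] at h1 ⊢
      omega
    · refine ⟨s :: k, hsub.cons_cons s, ?_, by rw [wprod_cons, wprod_cons, hk]⟩
      have h1 := len_refl_mul_ne P s (wprod P k)
      have h2 := len_refl_mul_le P s (wprod P k)
      rw [wprod_cons, List.length_cons]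
      omega

theorem len_mul_le (x y : Weyl P) : len P (x * y) ≤ len P x + len P y := by
  obtain ⟨a, ha, ea⟩ := exists_reduced P x
  obtain ⟨b, hb, eb⟩ := exists_reduced P y
  have := len_le P (a ++ b)
  rw [wprod_append, ea, eb, List.length_append, ha, hb] at this
  exact this

/-- Every element decomposes with lengths adding, through a representative ascending on both sides. -/
theorem exists_decomp (K J : Set G) : ∀ u : Weyl P, ∃ w, LA P K w ∧ RA P J w ∧
    ∃ a ∈ weylPara P K, ∃ b ∈ weylPara P J, u = a * w * b ∧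
      len P u = len P a + len P w + len P b := by
  intro u
  induction hn : len P u using Nat.strong_induction_on generalizing u with
  | _ n ih =>
  subst hn
  by_cases hL : LA P K u
  · by_cases hR : RA P J u
    · exact ⟨u, hL, hR, 1, one_mem _, 1, one_mem _, by rw [one_mul, mul_one], by simp [len_one]⟩
    · simp only [RA, not_forall] at hR
      obtain ⟨s, hs, hlt⟩ := hR
      have hne : len P (u * refl P s) ≠ len P u := by
        rw [← len_inv P, ← len_inv P u, mul_inv_rev, refl_inv]
        exact len_refl_mul_ne P s u⁻¹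
      obtain ⟨w, hw1, hw2, a, ha, b, hb, e, hl⟩ := ih _ (by omega) (u * refl P s) rfl
      refine ⟨w, hw1, hw2, a, ha, b * refl P s, mul_mem hb (refl_mem_weylPara P hs), ?_, ?_⟩
      · rw [← mul_assoc, ← e, mul_assoc, refl_mul_self, mul_one]
      · have e' : u = a * w * (b * refl P s) := by
          rw [← mul_assoc, ← e, mul_assoc, refl_mul_self, mul_one]
        have h1 := len_mul_le P (a * w) (b * refl P s)
        rw [← e'] at h1
        have h2 := len_mul_le P a w
        have h3 := len_mul_le P b (refl P s)
        rw [len_refl] at h3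
        omega
  · simp only [LA, not_forall] at hL
    obtain ⟨s, hs, hlt⟩ := hL
    have hne := len_refl_mul_ne P s u
    obtain ⟨w, hw1, hw2, a, ha, b, hb, e, hl⟩ := ih _ (by omega) (refl P s * u) rfl
    have e' : u = refl P s * a * w * b := by
      rw [mul_assoc, mul_assoc, ← mul_assoc a, ← e, refl_cancel]
    refine ⟨w, hw1, hw2, refl P s * a, mul_mem (refl_mem_weylPara P hs) ha, b, hb, e', ?_⟩
    have h1 := len_mul_le P (refl P s * a * w) b
    rw [← e'] at h1
    have h2 := len_mul_le P (refl P s * a) w
    have h3 := len_mul_le P (refl P s) a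
    rw [len_refl] at h3
    omega

theorem eq_min_of_ascent {K J : Set G} {w w₀ : Weyl P}
    (hmin : ∀ a ∈ weylPara P K, ∀ b ∈ weylPara P J, len P w₀ ≤ len P (a * w₀ * b))
    (hL : LA P K w) (hR : RA P J w) (hw : ∃ a ∈ weylPara P K, ∃ b ∈ weylPara P J, w = a * w₀ * b) :
    w = w₀ := by
  obtain ⟨a, ha, b, hb, rfl⟩ := hw
  obtain ⟨la, -, ea, hla⟩ := reduced_word_of_mem P ha
  obtain ⟨l₀, hl₀, e₀⟩ := exists_reduced P w₀
  obtain ⟨lb, -, eb, hlb⟩ := reduced_word_of_mem P hb
  obtain ⟨k, hsub, hlen, hk⟩ := exists_reduced_sublist P (la ++ l₀ ++ lb)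
  rw [wprod_append, wprod_append, ea, e₀, eb] at hk
  obtain ⟨k1, kb, rfl, hs1, hsb⟩ := List.sublist_append_iff.1 hsub
  obtain ⟨ka, k0, rfl, hsa, hs0⟩ := List.sublist_append_iff.1 hs1
  rw [hk] at hlen
  rw [wprod_append, wprod_append] at hk
  have hka := wprod_mem_weylPara P (J := K) fun s hs => hla s (hsa.subset hs)
  have hkb := wprod_mem_weylPara P (J := J) fun s hs => hlb s (hsb.subset hs)
  have h0 : l₀.length ≤ k0.length := by
    rw [hl₀]
    refine le_trans ?_ (len_le P k0)
    have := hmin ((wprod P ka)⁻¹ * a) (mul_mem (inv_mem hka) ha) (b * (wprod P kb)⁻¹)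
      (mul_mem hb (inv_mem hkb))
    have e : (wprod P ka)⁻¹ * a * w₀ * (b * (wprod P kb)⁻¹) = wprod P k0 := by
      rw [show (wprod P ka)⁻¹ * a * w₀ * (b * (wprod P kb)⁻¹) =
        (wprod P ka)⁻¹ * (a * w₀ * b) * (wprod P kb)⁻¹ by group, ← hk]
      group
    rwa [e] at this
  obtain rfl := hs0.eq_of_length (le_antisymm hs0.length_le h0)
  cases ka with
  | cons s ka =>
    exfalso
    have := hL s (hla s (hsa.subset (List.mem_cons_self)))
    have h2 : refl P s * (a * w₀ * b) = wprod P (ka ++ k0 ++ kb) := by
      rw [← hk, wprod_cons, wprod_append, wprod_append]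
      simp only [mul_assoc, refl_cancel]
    rw [h2] at this
    have := len_le P (ka ++ k0 ++ kb)
    simp only [List.cons_append, List.length_cons] at hlen
    omega
  | nil =>
    rcases List.eq_nil_or_concat kb with rfl | ⟨kb, s, rfl⟩
    · rw [← hk]; simp [e₀]
    · exfalso
      have := hR s (hlb s (hsb.subset (by simp)))
      have h2 : a * w₀ * b * refl P s = wprod P ([] ++ k0 ++ kb) := by
        rw [← hk, List.concat_eq_append, wprod_append, wprod_append, wprod_append, wprod_cons,
          wprod_nil, mul_one]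
        simp only [mul_assoc, refl_mul_self, mul_one]
      rw [h2, List.nil_append] at this
      have := len_le P (k0 ++ kb)
      simp only [List.concat_eq_append, List.nil_append, List.length_append, List.length_singleton] at hlen this
      omega

/-- A double coset has at most one element ascending on both sides. -/
theorem ascent_unique {K J : Set G} {w w' : Weyl P} (hL : LA P K w) (hR : RA P J w)
    (hL' : LA P K w') (hR' : RA P J w')
    (h : ∃ a ∈ weylPara P K, ∃ b ∈ weylPara P J, w' = a * w * b) : w' = w := by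
  classical
  obtain ⟨a, ha, b, hb, rfl⟩ := h
  have hex : ∃ n, ∃ x ∈ weylPara P K, ∃ y ∈ weylPara P J, len P (x * w * y) = n :=
    ⟨_, 1, one_mem _, 1, one_mem _, rfl⟩
  obtain ⟨x, hx, y, hy, hn⟩ := Nat.find_spec hex
  have hmin : ∀ a' ∈ weylPara P K, ∀ b' ∈ weylPara P J,
      len P (x * w * y) ≤ len P (a' * (x * w * y) * b') := by
    intro a' ha' b' hb'
    rw [hn]
    exact Nat.find_min' hex ⟨a' * x, mul_mem ha' hx, y * b', mul_mem hy hb', by group⟩
  have e1 := eq_min_of_ascent P hmin hL hR
    ⟨x⁻¹, inv_mem hx, y⁻¹, inv_mem hy, by group⟩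
  have e2 := eq_min_of_ascent P hmin hL' hR'
    ⟨a * x⁻¹, mul_mem ha (inv_mem hx), y⁻¹ * b, mul_mem (inv_mem hy) hb, by group⟩
  exact e2.trans e1.symm

theorem weylPara_empty : weylPara P (∅ : Set G) = ⊥ := by
  rw [weylPara, Subgroup.closure_eq_bot_iff]
  rintro w ⟨s, hs, -⟩
  exact absurd hs (Set.notMem_empty _)

theorem LA_empty (w : Weyl P) : LA P (∅ : Set G) w := fun _ hs => absurd hs (Set.notMem_empty _)

/-- Coset representatives add lengths. -/
theorem len_mul {J : Set G} {w v : Weyl P} (hR : RA P J w) (hv : v ∈ weylPara P J) :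
    len P (w * v) = len P w + len P v := by
  obtain ⟨w', hw1, hw2, a, ha, b, hb, e, hl⟩ := exists_decomp P ∅ J (w * v)
  rw [weylPara_empty, Subgroup.mem_bot] at ha
  subst ha
  rw [one_mul] at e
  have : w' = w := ascent_unique P (LA_empty P w) hR hw1 hw2
    ⟨1, one_mem _, v * b⁻¹, mul_mem hv (inv_mem hb), by rw [one_mul, ← mul_assoc, e]; group⟩
  subst this
  rw [hl, len_one, zero_add, ← mul_left_cancel e]

/-- All left descents: every length is a difference. -/
theorem len_add_of_all_descents {x : Weyl P} (hx : ∀ s : P.S, len P (refl P s * x) < len P x)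
    (u : Weyl P) : len P u + len P (u⁻¹ * x) = len P x := by
  induction hn : len P u using Nat.strong_induction_on generalizing u with
  | _ n ih =>
  subst hn
  by_cases h1 : u = 1
  · simp [h1, len_one]
  obtain ⟨l, hl, rfl⟩ := exists_reduced P u
  match l, hl with
  | [], _ => exact absurd rfl h1
  | r :: l, hl =>
    rw [List.length_cons, wprod_cons] at hl
    rw [wprod_cons]
    have hl2 : l.length = len P (wprod P l) := by
      have h := len_le P l
      have h' := len_refl_mul_le P r (wprod P l)
      omega
    have hi := ih _ (by rw [wprod_cons]; omega) (wprod P l) rfl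
    obtain ⟨y, hy, ey⟩ := exists_reduced P ((wprod P l)⁻¹ * x)
    have hx' : wprod P (l ++ y) = x := by rw [wprod_append, ey, mul_inv_cancel_left]
    have hred : (l ++ y).length = len P (wprod P (l ++ y)) := by
      rw [hx', List.length_append, hy, hl2, hi]
    obtain ⟨i, hi', e⟩ := exchange P (l ++ y) hred (hx' ▸ hx r)
    rcases lt_or_ge i l.length with h | h
    · exfalso
      rw [List.eraseIdx_append_of_lt_length h, wprod_append, wprod_append, ← mul_assoc] at e
      have e' := mul_right_cancel e
      have := len_le P (l.eraseIdx i)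
      rw [← e', List.length_eraseIdx_of_lt h] at this
      omega
    · rw [List.eraseIdx_append_of_length_le h, wprod_append, wprod_append] at e
      have hsz : i - l.length < y.length := by rw [List.length_append] at hi'; omega
      set y' := y.eraseIdx (i - l.length) with hy'
      have e3 : (refl P r * wprod P l)⁻¹ * x = wprod P y' := by
        rw [inv_mul_eq_iff_eq_mul, ← hx', wprod_append]
        conv_rhs => rw [mul_assoc, ← e, refl_cancel]
      have hy'' := len_le P y'
      rw [hy', List.length_eraseIdx_of_lt hsz] at hy''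
      rw [e3, hy']
      have h4 := len_mul_le P (refl P r * wprod P l) (wprod P y')
      rw [← e3, mul_inv_cancel_left, e3, hy'] at h4
      omega

variable [Finite G]

theorem exists_max : ∃ w₀ : Weyl P, ∀ w, len P w ≤ len P w₀ := Finite.exists_max (len P)

/-- An element without ascents is the only one, and has the largest length. -/
theorem no_ascent_unique {w w' : Weyl P} (h : ∀ s : P.S, ¬ len P w < len P (w * refl P s))
    (h' : ∀ s : P.S, ¬ len P w' < len P (w' * refl P s)) : w = w' := by
  have key : ∀ {w : Weyl P}, (∀ s : P.S, ¬ len P w < len P (w * refl P s)) → ∀ u,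
      len P u + len P (u⁻¹ * w⁻¹) = len P w⁻¹ := by
    intro w h u
    refine len_add_of_all_descents P (fun s => ?_) u
    have e : len P (refl P s * w⁻¹) = len P (w * refl P s) := by
      rw [← len_inv P (w * refl P s), mul_inv_rev, refl_inv]
    have hne := len_refl_mul_ne P s w⁻¹
    have := h s
    rw [e, len_inv] at *
    omega
  have h1 := key h w'⁻¹
  have h2 := key h' w⁻¹
  rw [len_inv] at h1 h2
  have h3 : len P (w'⁻¹⁻¹ * w⁻¹) = 0 := by
    rw [len_inv] at h1 h2
    omega
  have h4 := eq_one_of_len P _ h3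
  rw [inv_inv, mul_inv_eq_one] at h4
  exact h4.symm

theorem max_no_ascent {w₀ : Weyl P} (h : ∀ w, len P w ≤ len P w₀) (s : P.S) :
    ¬ len P w₀ < len P (w₀ * refl P s) ∧ ¬ len P w₀ < len P (refl P s * w₀) :=
  ⟨not_lt.2 (h _), not_lt.2 (h _)⟩

end Cfsg.Agent.Char.BNRed
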