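import Cfsg.Agent.Lib.Char.ExtendMain
import Cfsg.Agent.Lib.Char.AlperinBlocks
import Cfsg.Agent.Lib.Grp.Solvable
import Mathlib.GroupTheory.Nilpotent

/-!
A character induced from a maximal subgroup of a group with solvable quotient is not homogeneous
on every normal subgroup.
-/

open scoped ComplexConjugate

namespace Cfsg.Agent.Char.Berger

open Cfsg Cfsg.Agent.Char

set_option linter.unusedSectionVars false
set_option linter.style.haveILetI false

universe u

variable {G : Type u} [Group G] [Fintype G] {H : Subgroup G} {θ : H → ℂ}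

theorem le_normalizer_map {A : Subgroup G} (W : Subgroup A) [hW : W.Normal] :
    A ≤ Subgroup.normalizer ((W.map A.subtype : Subgroup G) : Set G) := by
  intro a ha
  refine Subgroup.mem_normalizer_iff.2 fun w => ⟨?_, ?_⟩
  · rintro ⟨x, hx, rfl⟩
    exact ⟨⟨a, ha⟩ * x * ⟨a, ha⟩⁻¹, hW.conj_mem x hx _, rfl⟩
  · rintro ⟨x, hx, he⟩
    refine ⟨(⟨a, ha⟩ : A)⁻¹ * x * ⟨a, ha⟩, by simpa using hW.conj_mem x hx (⟨a, ha⟩ : A)⁻¹, ?_⟩
    simp only [map_mul, map_inv, he, Subgroup.coe_subtype]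
    group

theorem isSolvable_quotient_of_le {L₀ L : Subgroup G} [L₀.Normal] [L.Normal]
    (hs : Group.IsSolvable (G ⧸ L₀)) (h : L₀ ≤ L) : Group.IsSolvable (G ⧸ L) := by
  haveI := hs
  refine solvable_of_surjective (f := QuotientGroup.map L₀ L (MonoidHom.id G) (by simpa using h)) ?_
  intro q
  obtain ⟨g, rfl⟩ := QuotientGroup.mk_surjective q
  exact ⟨(g : G ⧸ L₀), rfl⟩

theorem card_mul_relIndex' {A B : Subgroup G} (h : A ≤ B) :
    Nat.card A * A.relIndex B = Nat.card B := by
  rw [← Subgroup.relIndex_bot_left A, Subgroup.relIndex_mul_relIndex ⊥ A B bot_le h,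
    Subgroup.relIndex_bot_left]

theorem relIndex_sup_normal (H M : Subgroup G) [M.Normal] :
    H.relIndex (M ⊔ H) = H.relIndex M := by
  have h1 := Subgroup.relIndex_sup_left (K := M) (H := H)
  have h2 := card_mul_relIndex' (le_sup_right : H ≤ M ⊔ H)
  have h3 := card_mul_relIndex' (le_sup_left : M ≤ M ⊔ H)
  have h4 := card_mul_relIndex' (inf_le_right : M ⊓ H ≤ H)
  have h5 := card_mul_relIndex' (inf_le_left : M ⊓ H ≤ M)
  rw [Subgroup.inf_relIndex_right] at h4
  rw [inf_comm, Subgroup.inf_relIndex_right] at h5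
  rw [h1, ← h2] at h3
  rw [inf_comm H M] at h5
  refine mul_left_cancel₀ (Nat.card_pos (α := H)).ne' ?_
  rw [← h3, ← h5, ← h4]
  ring

theorem sup_mem_normalizer {A B : Subgroup G} {x : G}
    (hA : x ∈ Subgroup.normalizer (A : Set G)) (hB : x ∈ Subgroup.normalizer (B : Set G)) :
    x ∈ Subgroup.normalizer ((A ⊔ B : Subgroup G) : Set G) :=
  Subgroup.normalizer_inf_normalizer_le_normalizer_sup A B ⟨hA, hB⟩

/-- A constituent of the subgroup restricts to a constituent of the restriction. -/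
theorem res_inner_ne_zero {χ : H → ℂ} (hχ : IsCharacter H χ) [Fintype H] (hθ : IsIrrCharacter H θ)
    {L : Subgroup G} [Fintype L] (hLH : L ≤ H)
    (hϕ : IsIrrCharacter L fun x : L => θ ⟨(x : G), hLH x.2⟩) (h1 : classInner χ θ ≠ 0) :
    classInner (fun x : L => χ ⟨(x : G), hLH x.2⟩) (fun x : L => θ ⟨(x : G), hLH x.2⟩) ≠ 0 := by
  classical
  obtain ⟨a, ha, hdec⟩ := IsChar.exists_decomp_inner hχ
  set r : (H → ℂ) → L → ℂ := fun F x => F ⟨(x : G), hLH x.2⟩ with hr
  have hn : ∀ φ : IrrCharacter H, ∃ n : ℕ, classInner (r (φ : H → ℂ)) (r θ) = n := fun φ =>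
    IsChar.classInner_nat (IsChar.comp (Subgroup.inclusion hLH) (IsIrr.isCharacter φ.2))
      (IsIrr.isCharacter hϕ)
  choose n hn using hn
  have e : r χ = ∑ φ : IrrCharacter H, (a φ : ℂ) • r (φ : H → ℂ) := by
    funext x
    simp only [hr]
    rw [hdec, sum_irr_apply]
    simp
  show classInner (r χ) (r θ) ≠ 0
  rw [e, classInner_sum_left]
  intro h0
  have h2 : ((∑ φ : IrrCharacter H, a φ * n φ : ℕ) : ℂ) = 0 := by
    rw [← h0]; push_cast
    exact Finset.sum_congr rfl fun φ _ => by rw [classInner_smul_left, hn]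
  have h3 := Finset.sum_eq_zero_iff.1 (Nat.cast_eq_zero.1 h2) ⟨θ, hθ⟩ (Finset.mem_univ _)
  have ha0 : a ⟨θ, hθ⟩ ≠ 0 := fun h => h1 (by rw [show classInner χ θ = _ from ha ⟨θ, hθ⟩, h, Nat.cast_zero])
  have hn0 : n ⟨θ, hθ⟩ ≠ 0 := fun h => one_ne_zero (α := ℂ) (by
    rw [← classInner_self_irr hϕ, show classInner (fun x : L => θ ⟨(x : G), hLH x.2⟩) _ = _ from
      hn ⟨θ, hθ⟩, h, Nat.cast_zero])
  exact (Nat.mul_ne_zero ha0 hn0) h3

/-- An induced function on a normal supplement. -/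
theorem ind_res (hθc : IsClassFunction H θ) {M : Subgroup G} [hM : M.Normal] (hMH : M ⊔ H = ⊤)
    [Fintype M] (g : G) :
    indFun H θ g = (Nat.card (M ⊓ H : Subgroup G) : ℂ)⁻¹ *
      ∑ x : M, extendByZero H θ ((x : G)⁻¹ * g * (x : G)) := by
  classical
  letI := Fintype.ofFinite H
  letI := Fintype.ofFinite (M ⊓ H : Subgroup G)
  set f : G → ℂ := fun x => extendByZero H θ (x⁻¹ * g * x) with hf
  have hinv : ∀ (x : G) (h : H), f (x * h) = f x := by
    intro x h
    simp only [hf]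
    rw [show (x * (h : G))⁻¹ * g * (x * h) = (h : G)⁻¹ * (x⁻¹ * g * x) * h by group]
    by_cases hx : x⁻¹ * g * x ∈ H
    · rw [extendByZero_of_mem θ hx, extendByZero_of_mem θ (mul_mem (mul_mem (inv_mem h.2) hx) h.2)]
      have := hθc ⟨_, hx⟩ h⁻¹
      rw [← this]
      congr 1
      exact Subtype.ext (by simp [mul_assoc])
    · rw [extendByZero_not_mem θ hx, extendByZero_not_mem θ fun hy => hx ?_]
      have := mul_mem (mul_mem h.2 hy) (inv_mem h.2)
      simpa [mul_assoc] using this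
  -- each element has as many factorisations as the intersection has elements
  have hfib : ∀ z : G, (Finset.univ.filter (fun xh : M × H => (xh.1 : G) * xh.2 = z)).card =
      Nat.card (M ⊓ H : Subgroup G) := by
    intro z
    have hz : z ∈ ((M ⊔ H : Subgroup G) : Set G) := by rw [hMH]; trivial
    rw [Subgroup.normal_mul] at hz
    obtain ⟨x₀, hx₀, h₀, hh₀, (rfl : x₀ * h₀ = z)⟩ := hz
    rw [Nat.card_eq_fintype_card, ← Finset.card_univ]
    refine Finset.card_bij' (fun xh hxh => ⟨x₀⁻¹ * (xh.1 : G), Subgroup.mem_inf.2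
      ⟨mul_mem (inv_mem hx₀) xh.1.2, ?_⟩⟩)
      (fun c _ => (⟨x₀ * c, mul_mem hx₀ (Subgroup.mem_inf.1 c.2).1⟩,
        ⟨(c : G)⁻¹ * h₀, mul_mem (inv_mem (Subgroup.mem_inf.1 c.2).2) hh₀⟩))
      (fun _ _ => Finset.mem_univ _) (fun c _ => ?_) (fun xh hxh => ?_) (fun c _ => ?_)
    · have h1 := (Finset.mem_filter.1 hxh).2
      rw [show x₀⁻¹ * (xh.1 : G) = h₀ * (xh.2 : G)⁻¹ by
        calc x₀⁻¹ * (xh.1 : G) = x₀⁻¹ * ((xh.1 : G) * xh.2) * (xh.2 : G)⁻¹ := by group
          _ = _ := by rw [h1]; group]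
      exact mul_mem hh₀ (inv_mem xh.2.2)
    · exact Finset.mem_filter.2 ⟨Finset.mem_univ _, by group⟩
    · have h1 := (Finset.mem_filter.1 hxh).2
      refine Prod.ext (Subtype.ext (by simp)) (Subtype.ext ?_)
      show (x₀⁻¹ * (xh.1 : G))⁻¹ * h₀ = (xh.2 : G)
      calc _ = (xh.1 : G)⁻¹ * (x₀ * h₀) := by group
        _ = _ := by rw [← h1]; group
    · exact Subtype.ext (by simp)
  have hsum : (Nat.card (M ⊓ H : Subgroup G) : ℂ) * ∑ z : G, f z =
      (Nat.card H : ℂ) * ∑ x : M, f (x : G) := by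
    calc _ = ∑ z : G, ∑ xh ∈ Finset.univ.filter (fun xh : M × H => (xh.1 : G) * xh.2 = z),
          f ((xh.1 : G) * xh.2) := by
          rw [Finset.mul_sum]
          refine Finset.sum_congr rfl fun z _ => ?_
          rw [Finset.sum_congr rfl (g := fun _ => f z) fun xh hxh => by
            rw [(Finset.mem_filter.1 hxh).2], Finset.sum_const, hfib, nsmul_eq_mul]
      _ = ∑ xh : M × H, f ((xh.1 : G) * xh.2) :=
          Finset.sum_fiberwise _ _ _
      _ = _ := by
          rw [Fintype.sum_prod_type, Finset.mul_sum]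
          refine Finset.sum_congr rfl fun x _ => ?_
          rw [Finset.sum_congr rfl fun h _ => hinv (x : G) h, Finset.sum_const, Finset.card_univ,
            nsmul_eq_mul, Nat.card_eq_fintype_card]
  have h0 : (Nat.card H : ℂ) ≠ 0 := Nat.cast_ne_zero.2 Nat.card_pos.ne'
  have h1 : (Nat.card (M ⊓ H : Subgroup G) : ℂ) ≠ 0 := Nat.cast_ne_zero.2 Nat.card_pos.ne'
  show (Nat.card H : ℂ)⁻¹ * ∑ z : G, f z = _ * ∑ x : M, f (x : G)
  field_simp
  linear_combination hsum

theorem sum_ext {C : Subgroup G} [Fintype C] (hC : C ≤ H) (hθ : IsCharacter H θ) {L : Subgroup G}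
    (hLC : L ≤ C) (hL : IsIrrCharacter L fun x : L => θ ⟨(x : G), hC (hLC x.2)⟩) :
    ∑ y : C, ‖extendByZero H θ (y : G)‖ ^ 2 = Nat.card C := by
  have hχ : IsCharacter C (fun y : C => θ ⟨(y : G), hC y.2⟩) :=
    IsChar.comp (Subgroup.inclusion hC) hθ
  have hirr : IsIrrCharacter C (fun y : C => θ ⟨(y : G), hC y.2⟩) :=
    Alperin.isIrr_of_res hχ (Subgroup.inclusion hLC) hL
  have h := classInner_self_irr hirr
  rw [classInner_self, ← Complex.ofReal_one, Complex.ofReal_inj, inv_mul_eq_iff_eq_mul₀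
    (Nat.cast_ne_zero.2 Nat.card_pos.ne'), mul_one] at h
  rw [← h]
  exact Finset.sum_congr rfl fun y _ => by rw [extendByZero_of_mem θ (hC y.2)]

/-- The square norm on a normal supplement. -/
theorem norm_res (hθc : IsClassFunction H θ) {M : Subgroup G} [hM : M.Normal] (hMH : M ⊔ H = ⊤)
    [Fintype M] [Fintype (M ⊓ H : Subgroup G)] :
    ((∑ m : M, ‖indFun H θ (m : G)‖ ^ 2 : ℝ) : ℂ) =
      (Nat.card M : ℂ) / (Nat.card (M ⊓ H : Subgroup G) : ℂ) ^ 2 *
        ∑ x : M, ∑ y : (M ⊓ H : Subgroup G), extendByZero H θ (y : G) *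
          conj (extendByZero H θ ((x : G)⁻¹ * (y : G) * (x : G))) := by
  classical
  set Q : ℂ := (Nat.card (M ⊓ H : Subgroup G) : ℂ) with hQ
  set χ : G → ℂ := indFun H θ with hχ
  have hχc : IsClassFunction G χ := indFun_classFun H θ
  push_cast
  simp only [← Complex.mul_conj']
  calc ∑ m : M, χ (m : G) * conj (χ (m : G))
      = Q⁻¹ * ∑ x : M, ∑ m : M, extendByZero H θ ((x : G)⁻¹ * m * x) * conj (χ (m : G)) := by
        rw [Finset.sum_comm, Finset.mul_sum]
        refine Finset.sum_congr rfl fun m _ => ?_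
        conv_lhs => arg 1; rw [hχ, ind_res hθc hMH]
        rw [← Finset.sum_mul, mul_assoc]
    _ = Q⁻¹ * ∑ _x : M, ∑ m : M, extendByZero H θ (m : G) * conj (χ (m : G)) := by
        congr 1
        refine Finset.sum_congr rfl fun x _ => ?_
        refine Fintype.sum_equiv (MulAut.conj (x⁻¹ : M)).toEquiv _ _ fun m => ?_
        simp only [MulEquiv.toEquiv_eq_coe, MulEquiv.coe_toEquiv, MulAut.conj_apply,
          Subgroup.coe_mul, Subgroup.coe_inv, inv_inv]
        have := hχc (m : G) (x : G)⁻¹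
        rw [inv_inv] at this
        rw [this]
    _ = Q⁻¹ * (Nat.card M : ℂ) *
          ∑ y : (M ⊓ H : Subgroup G), extendByZero H θ (y : G) * conj (χ (y : G)) := by
        rw [Finset.sum_const, Finset.card_univ, nsmul_eq_mul, ← Nat.card_eq_fintype_card, mul_assoc]
        congr 2
        symm
        refine Finset.sum_bij_ne_zero (fun y _ _ => (⟨(y : G), (Subgroup.mem_inf.1 y.2).1⟩ : M))
          (fun _ _ _ => Finset.mem_univ _) (fun a _ _ b _ _ e => ?_) (fun m _ hm => ?_)
          fun _ _ _ => rfl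
        · exact Subtype.ext (congrArg (fun z : M => (z : G)) e)
        · have hmH : (m : G) ∈ H := by
            by_contra h
            exact hm (by rw [extendByZero_not_mem θ h, zero_mul])
          exact ⟨⟨(m : G), Subgroup.mem_inf.2 ⟨m.2, hmH⟩⟩, Finset.mem_univ _, hm, rfl⟩
    _ = _ := by
        rw [Finset.sum_comm (γ := M), Finset.mul_sum, Finset.mul_sum]
        refine Finset.sum_congr rfl fun y _ => ?_
        rw [hχ, ind_res hθc hMH, map_mul, map_inv₀, map_natCast, map_sum, Finset.mul_sum,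
          Finset.mul_sum, Finset.mul_sum, Finset.mul_sum]
        refine Finset.sum_congr rfl fun x _ => ?_
        simp only [← hQ, div_eq_mul_inv]
        ring

/-- A supplement meeting the subgroup in a non-normal subgroup has small norm. -/
theorem norm_lt (hθ : IsCharacter H θ) {L : Subgroup G} [L.Normal] (hLH : L ≤ H)
    (hL : IsIrrCharacter L fun x : L => θ ⟨(x : G), hLH x.2⟩) {M : Subgroup G} [hM : M.Normal]
    (hLM : L ≤ M) (hMH : M ⊔ H = ⊤)
    (hne : ¬ M ≤ Subgroup.normalizer ((M ⊓ H : Subgroup G) : Set G)) [Fintype M] :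
    (∑ m : M, ‖indFun H θ (m : G)‖ ^ 2) * (Nat.card (M ⊓ H : Subgroup G) : ℝ) <
      (Nat.card M : ℝ) ^ 2 := by
  classical
  letI := Fintype.ofFinite (M ⊓ H : Subgroup G)
  set Q := (M ⊓ H : Subgroup G) with hQdef
  have hQH : Q ≤ H := inf_le_right
  have hLQ : L ≤ Q := le_inf hLM hLH
  set f : G → ℂ := extendByZero H θ with hf
  set C : M → Subgroup G := fun x => Q ⊓ Q.map (MulAut.conj (x : G)).toMonoidHom with hC
  have hCmem : ∀ (x : M) (y : G), y ∈ C x ↔ y ∈ Q ∧ (x : G)⁻¹ * y * x ∈ Q := fun x y => by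
    simp only [hC, Subgroup.mem_inf, Subgroup.mem_map_equiv, MulAut.conj_symm_apply]
  have hCL : ∀ x : M, L ≤ C x := fun x l hl => (hCmem x l).2 ⟨hLQ hl, hLQ (by
    simpa using (inferInstance : L.Normal).conj_mem l hl (x : G)⁻¹)⟩
  have key : ∀ x : M, (∑ y : Q, f (y : G) * conj (f ((x : G)⁻¹ * (y : G) * (x : G)))).re ≤
      Nat.card (C x) := by
    intro x
    letI := Fintype.ofFinite (C x)
    have hxC : x⁻¹ = x⁻¹ := rfl
    letI := Fintype.ofFinite (C x⁻¹)
    have e : ∑ y : Q, f (y : G) * conj (f ((x : G)⁻¹ * (y : G) * (x : G))) =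
        ∑ y : C x, f (y : G) * conj (f ((x : G)⁻¹ * (y : G) * (x : G))) := by
      symm
      refine Finset.sum_bij_ne_zero (fun y _ _ => (⟨(y : G), ((hCmem x y).1 y.2).1⟩ : Q))
        (fun _ _ _ => Finset.mem_univ _)
        (fun a _ _ b _ _ e => Subtype.ext (congrArg (fun z : Q => (z : G)) e))
        (fun y _ hy => ?_) fun _ _ _ => rfl
      refine ⟨⟨(y : G), (hCmem x y).2 ⟨y.2, ?_⟩⟩, Finset.mem_univ _, hy, rfl⟩
      refine Subgroup.mem_inf.2 ⟨?_, ?_⟩
      · exact mul_mem (mul_mem (inv_mem x.2) (Subgroup.mem_inf.1 y.2).1) x.2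
      · by_contra h
        exact hy (by simp only [hf]; rw [extendByZero_not_mem θ h, map_zero, mul_zero])
    rw [e, Complex.re_sum]
    have h1 := sum_ext (C := C x) (inf_le_left.trans hQH) hθ (hCL x) hL
    have h2 : ∑ y : C x, ‖f ((x : G)⁻¹ * (y : G) * (x : G))‖ ^ 2 = Nat.card (C x⁻¹) := by
      rw [← sum_ext (C := C x⁻¹) (inf_le_left.trans hQH) hθ (hCL x⁻¹) hL]
      refine Finset.sum_bij' (fun y _ => ⟨(x : G)⁻¹ * (y : G) * x, (hCmem x⁻¹ _).2
          ⟨((hCmem x _).1 y.2).2, ?_⟩⟩)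
        (fun y _ => ⟨(x : G) * (y : G) * (x : G)⁻¹, (hCmem x _).2 ⟨?_, ?_⟩⟩)
        (fun _ _ => Finset.mem_univ _) (fun _ _ => Finset.mem_univ _)
        (fun y _ => Subtype.ext (by simp [mul_assoc]))
        (fun y _ => Subtype.ext (by simp [mul_assoc])) fun _ _ => rfl
      · have := ((hCmem x _).1 y.2).1
        simpa [mul_assoc] using this
      · have := ((hCmem x⁻¹ _).1 y.2).2
        simpa [mul_assoc] using this
      · have := ((hCmem x⁻¹ _).1 y.2).1
        simpa [mul_assoc] using this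
    have hcard : Nat.card (C x⁻¹) = Nat.card (C x) := by
      refine Nat.card_congr ⟨fun y => ⟨(x : G) * (y : G) * (x : G)⁻¹, (hCmem x _).2 ⟨?_, ?_⟩⟩,
        fun y => ⟨(x : G)⁻¹ * (y : G) * x, (hCmem x⁻¹ _).2 ⟨((hCmem x _).1 y.2).2, ?_⟩⟩,
        fun y => Subtype.ext (by simp [mul_assoc]), fun y => Subtype.ext (by simp [mul_assoc])⟩
      · have := ((hCmem x⁻¹ _).1 y.2).2
        simpa [mul_assoc] using this
      · have := ((hCmem x⁻¹ _).1 y.2).1
        simpa [mul_assoc] using this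
      · have := ((hCmem x _).1 y.2).1
        simpa [mul_assoc] using this
    calc ∑ y : C x, (f (y : G) * conj (f ((x : G)⁻¹ * (y : G) * (x : G)))).re
        ≤ ∑ y : C x, (‖f (y : G)‖ ^ 2 + ‖f ((x : G)⁻¹ * (y : G) * (x : G))‖ ^ 2) / 2 := by
          refine Finset.sum_le_sum fun y _ => ?_
          refine (Complex.re_le_norm _).trans ?_
          rw [norm_mul, Complex.norm_conj]
          nlinarith [sq_nonneg (‖f (y : G)‖ - ‖f ((x : G)⁻¹ * (y : G) * (x : G))‖)]
      _ = _ := by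
          rw [← Finset.sum_div, Finset.sum_add_distrib, h1, h2, hcard]
          ring
  have hlt : ∑ x : M, (Nat.card (C x) : ℝ) < (Nat.card M : ℝ) * Nat.card Q := by
    rw [Nat.card_eq_fintype_card, ← Finset.card_univ, ← nsmul_eq_mul, ← Finset.sum_const]
    refine Finset.sum_lt_sum (fun x _ => by exact_mod_cast Subgroup.card_le_of_le inf_le_left) ?_
    by_contra h
    push Not at h
    refine hne fun m hm => Subgroup.mem_normalizer_iff''.2 fun y => ?_
    have hall : ∀ x : M, ∀ y ∈ Q, (x : G)⁻¹ * y * x ∈ Q := fun x y hy => by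
      have hle := h x (Finset.mem_univ _)
      have hcx : C x = Q := Subgroup.eq_of_le_of_card_ge inf_le_left (by exact_mod_cast hle)
      exact ((hCmem x y).1 (hcx.symm ▸ hy)).2
    constructor
    · intro hy; exact hall ⟨m, hm⟩ y hy
    · intro hy
      have := hall ⟨m, hm⟩⁻¹ _ hy
      simpa [mul_assoc] using this
  have hQ0 : (0 : ℝ) < Nat.card Q := Nat.cast_pos.2 Nat.card_pos
  have hM0 : (0 : ℝ) < Nat.card M := Nat.cast_pos.2 Nat.card_pos
  have hn := norm_res (IsChar.classFun hθ) hMH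
  set S : ℝ := ∑ m : M, ‖indFun H θ (m : G)‖ ^ 2 with hS
  set T : ℂ := ∑ x : M, ∑ y : Q, f (y : G) * conj (f ((x : G)⁻¹ * (y : G) * (x : G))) with hT
  have hre : S = (Nat.card M : ℝ) / (Nat.card Q : ℝ) ^ 2 * T.re := by
    have := congrArg Complex.re hn
    rw [Complex.ofReal_re] at this
    rw [this]
    rw [show (Nat.card M : ℂ) / (Nat.card Q : ℂ) ^ 2 =
      (((Nat.card M : ℝ) / (Nat.card Q : ℝ) ^ 2 : ℝ) : ℂ) by push_cast; rfl, Complex.re_ofReal_mul]
  have hTle : T.re < (Nat.card M : ℝ) * Nat.card Q := by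
    refine lt_of_le_of_lt ?_ hlt
    rw [hT, Complex.re_sum]
    exact Finset.sum_le_sum fun x _ => key x
  rw [hre, show (Nat.card M : ℝ) / (Nat.card Q : ℝ) ^ 2 * T.re * (Nat.card Q : ℝ) =
    (Nat.card M : ℝ) * (T.re / (Nat.card Q : ℝ)) by field_simp, sq]
  exact mul_lt_mul_of_pos_left ((div_lt_iff₀ hQ0).2 hTle) hM0

/-- Two groups above the core with abelian socle. -/
theorem exists_section {X : Type u} [Group X] [Finite X] [Group.IsSolvable X] {A : Subgroup X}
    (hA : A ≠ ⊥) : ∃ R : Subgroup X, R ≤ A ∧ R ≠ ⊥ ∧ A ≤ Subgroup.normalizer (R : Set X) ∧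
      IsMulCommutative R ∧ (∃ p : ℕ, p.Prime ∧ IsPGroup p R) ∧
      ∀ W : Subgroup X, W ≤ R → A ≤ Subgroup.normalizer (W : Set X) → W = ⊥ ∨ W = R := by
  classical
  cases nonempty_fintype X
  obtain ⟨R, ⟨hRA, hR0, hRN⟩, hmin⟩ := Set.exists_min_image
    {R : Subgroup X | R ≤ A ∧ R ≠ ⊥ ∧ A ≤ Subgroup.normalizer (R : Set X)}
    (fun R => Nat.card R) (Set.toFinite _) ⟨A, le_rfl, hA, Subgroup.le_normalizer⟩
  have hmin' : ∀ W : Subgroup X, W ≤ R → A ≤ Subgroup.normalizer (W : Set X) → W = ⊥ ∨ W = R :=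
    fun W hW hN => (eq_or_ne W ⊥).imp id fun h0 =>
      Subgroup.eq_of_le_of_card_ge hW (hmin W ⟨hW.trans hRA, h0, hN⟩)
  haveI : (R.subgroupOf A).Normal := (Subgroup.normal_subgroupOf_iff_le_normalizer hRA).2 hRN
  have hs : Group.IsSolvable (R.subgroupOf A) := inferInstance
  have hN0 : R.subgroupOf A ≠ ⊥ := fun h => hR0 (by
    rw [← Subgroup.map_subgroupOf_eq_of_le hRA, h, Subgroup.map_bot])
  have hm : ∀ W : Subgroup A, W.Normal → W ≤ R.subgroupOf A → W = ⊥ ∨ W = R.subgroupOf A := by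
    intro W hW hWR
    have h1 : W.map A.subtype ≤ R := by
      rw [← Subgroup.map_subgroupOf_eq_of_le hRA]; exact Subgroup.map_mono hWR
    rcases hmin' _ h1 (by
      haveI := hW
      exact Cfsg.Agent.Char.Berger.le_normalizer_map W) with h | h
    · exact Or.inl (Subgroup.map_injective A.subtype_injective (by rw [h, Subgroup.map_bot]))
    · refine Or.inr (Subgroup.map_injective A.subtype_injective ?_)
      rw [h, Subgroup.map_subgroupOf_eq_of_le hRA]
  obtain ⟨hab, -⟩ := Grp.minimal_normal_solvable hs hN0 hm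
  obtain ⟨p, hp, hpR⟩ := Grp.minimal_normal_solvable_isPGroup hs hN0 hm
  refine ⟨R, hRA, hR0, hRN, ?_, ⟨p, hp, hpR.of_equiv (Subgroup.subgroupOfEquivOfLe hRA)⟩, hmin'⟩
  exact ⟨⟨fun x y => (Subgroup.subgroupOfEquivOfLe hRA).symm.injective (by
    rw [map_mul, map_mul]; exact mul_comm' _ _)⟩⟩

/-- The theorem of Berger for a character restricting irreducibly to the core. -/
theorem not_homogeneous (L₀ H : Subgroup G) [L₀.Normal] (hLH₀ : L₀ ≤ H) (hmax : IsCoatom H)
    (hsolv : Group.IsSolvable (G ⧸ L₀)) (θ : H → ℂ) (hθ : IsIrrCharacter H θ)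
    (hθL : IsIrrCharacter L₀ fun x : L₀ => θ ⟨(x : G), hLH₀ x.2⟩)
    (hind : IsIrrCharacter G (indFun H θ)) :
    ∃ M : Subgroup G, M.Normal ∧ L₀ ≤ M ∧ ¬ ∃ (φ : M → ℂ) (e : ℕ), IsIrrCharacter M φ ∧
      (fun m : M => indFun H θ m) = (e : ℂ) • φ := by
  classical
  by_contra hno
  push Not at hno
  set χ : G → ℂ := indFun H θ with hχ
  have hθch := IsIrr.isCharacter hθ
  set L := H.normalCore with hLdef
  have hL₀ : L₀ ≤ L := Subgroup.normal_le_normalCore.2 hLH₀
  have hLH : L ≤ H := Subgroup.normalCore_le H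
  haveI : L.Normal := Subgroup.normalCore_normal H
  letI := Fintype.ofFinite L
  letI := Fintype.ofFinite H
  set ϕ : L → ℂ := fun x : L => θ ⟨(x : G), hLH x.2⟩ with hϕ
  have hϕi : IsIrrCharacter L ϕ :=
    Alperin.isIrr_of_res (IsChar.comp (Subgroup.inclusion hLH) hθch) (Subgroup.inclusion hL₀) hθL
  -- the quotient by the core
  haveI : Group.IsSolvable (G ⧸ L) :=
    Cfsg.Agent.Char.Berger.isSolvable_quotient_of_le hsolv hL₀
  set π := QuotientGroup.mk' L with hπ
  have hπs : Function.Surjective π := QuotientGroup.mk'_surjective L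
  have hπk : π.ker = L := QuotientGroup.ker_mk' L
  set Hb := H.map π with hHb
  have hHc : Hb.comap π = H := by rw [hHb, Subgroup.comap_map_eq, hπk, sup_eq_left.2 hLH]
  have hcore : ∀ W : Subgroup (G ⧸ L), W.Normal → W ≤ Hb → W = ⊥ := by
    intro W hW hle
    haveI := hW
    have h1 : W.comap π ≤ L := Subgroup.normal_le_normalCore.2 (hHc ▸ Subgroup.comap_mono hle)
    rw [← Subgroup.map_comap_eq_self_of_surjective hπs W, Subgroup.map_eq_bot_iff, hπk]
    exact h1
  have htop : (⊤ : Subgroup (G ⧸ L)) ≠ ⊥ := fun h => by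
    refine hmax.1 (eq_top_iff.2 fun g _ => hLH ?_)
    rw [← hπk, MonoidHom.mem_ker, ← Subgroup.mem_bot, ← h]
    trivial
  obtain ⟨V, -, hV0, hVN, hVab, ⟨p, hp, hVp⟩, hVmin⟩ := exists_section htop
  haveI hVn : V.Normal := Subgroup.normalizer_eq_top_iff.1 (top_le_iff.1 hVN)
  set K := V.comap π with hK
  haveI : K.Normal := hVn.comap π
  letI := Fintype.ofFinite K
  have hLK : L ≤ K := hπk ▸ π.ker_le_comap _
  have hKH : ¬ K ≤ H := fun h => hV0 (hcore V hVn (by
    rw [← Subgroup.map_comap_eq_self_of_surjective hπs V]; exact Subgroup.map_mono h))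
  have hKsup : K ⊔ H = ⊤ := hmax.2 _ (lt_of_le_of_ne le_sup_right fun h =>
    hKH (le_sup_left.trans h.ge))
  have hVsup : V ⊔ Hb = ⊤ := by
    rw [← Subgroup.map_comap_eq_self_of_surjective hπs V, hHb, ← Subgroup.map_sup, ← hK, hKsup,
      Subgroup.map_top_of_surjective _ hπs]
  have hVcap : V ⊓ Hb = ⊥ := by
    refine hcore _ (Subgroup.normalizer_eq_top_iff.1 (top_le_iff.1 ?_)) inf_le_right
    rw [← hVsup]
    refine sup_le (fun v hv => Subgroup.mem_normalizer_iff.2 fun w => ?_)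
      (fun h hh => Subgroup.mem_normalizer_iff.2 fun w => ?_)
    · constructor
      · intro hw
        have e : v * w * v⁻¹ = w := by
          have := congrArg Subtype.val (mul_comm' (⟨v, hv⟩ : V) ⟨w, (Subgroup.mem_inf.1 hw).1⟩)
          simp only [Subgroup.coe_mul] at this
          rw [this, mul_inv_cancel_right]
        rwa [e]
      · intro hw
        have hw' : w ∈ V := by
          have := hVn.conj_mem _ (Subgroup.mem_inf.1 hw).1 v⁻¹
          simpa [mul_assoc] using this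
        have e : v * w * v⁻¹ = w := by
          have := congrArg Subtype.val (mul_comm' (⟨v, hv⟩ : V) ⟨w, hw'⟩)
          simp only [Subgroup.coe_mul] at this
          rw [this, mul_inv_cancel_right]
        rwa [e] at hw
    · rw [Subgroup.mem_inf, Subgroup.mem_inf]
      exact and_congr ((Subgroup.normalizer_eq_top_iff.2 hVn).ge (Subgroup.mem_top h) |>
        fun hn => Subgroup.mem_normalizer_iff.1 hn w)
        (Subgroup.mem_normalizer_iff.1 (Subgroup.le_normalizer hh) w)
  have hcap : K ⊓ H = L := by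
    rw [hK, ← hHc, ← Subgroup.comap_inf, hVcap, MonoidHom.comap_bot, hπk]
  set n := Nat.card V with hn
  have hn1 : 1 < n := by
    rw [hn]
    exact Subgroup.one_lt_card_iff_ne_bot _ |>.2 hV0
  have hidx : ∀ M : Subgroup G, M.Normal → M ⊔ H = ⊤ → (M ⊓ H).relIndex M = H.index := by
    intro M hM h
    haveI := hM
    rw [inf_comm, Subgroup.inf_relIndex_right, ← Subgroup.relIndex_top_right (H := H),
      ← h]
    exact (Cfsg.Agent.Char.Berger.relIndex_sup_normal H M).symm
  have hHidx : H.index = n := by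
    rw [← hidx K inferInstance hKsup, hcap, ← hπk, ← MonoidHom.comap_bot, Subgroup.relIndex_comap,
      hK, Subgroup.map_comap_eq_self_of_surjective hπs, Subgroup.relIndex_bot_left]
  have hcardM : ∀ M : Subgroup G, M.Normal → M ⊔ H = ⊤ →
      Nat.card M = Nat.card (M ⊓ H : Subgroup G) * n := fun M hM h => by
    rw [← hHidx, ← hidx M hM h, card_mul_relIndex' inf_le_left]
  -- degrees
  have hχ1 : χ 1 = (n : ℂ) * ϕ 1 := by
    rw [hχ, indFun_one_eq, hHidx]
    rfl
  have hϕ0 : ϕ 1 ≠ 0 := IsIrr.one_ne_zero hϕi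
  -- on the core
  obtain ⟨φ', e', hφ', he'⟩ := hno L inferInstance hL₀
  have hLtop : ∀ l : L, χ (l : G) = (n : ℂ) * ϕ l := by
    have hφϕ : φ' = ϕ := by
      by_contra hne
      have h0 : classInner (fun l : L => χ l) ϕ = 0 := by
        rw [he', classInner_smul_left, classInner_irr_ne hφ' hϕi hne, mul_zero]
      have h1 : classInner (fun h : H => χ h) θ ≠ 0 := by
        rw [← classInner_conj_symm, ← classInner_indFun H θ (IsIrr.classFun hind), ← hχ,
          classInner_self_irr hind, map_one]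
        exact one_ne_zero
      exact Cfsg.Agent.Char.Berger.res_inner_ne_zero (IsChar.res (IsIrr.isCharacter hind) H) hθ hLH
        hϕi h1 h0
    subst hφϕ
    have h1 := congrFun he' 1
    simp only [Subgroup.coe_one, Pi.smul_apply, smul_eq_mul, hχ1] at h1
    intro l
    have h2 := congrFun he' l
    simp only [Pi.smul_apply, smul_eq_mul] at h2
    rw [h2, mul_right_cancel₀ hϕ0 h1]
  -- on the chief factor
  obtain ⟨η, e, hη, he⟩ := hno K inferInstance (hL₀.trans hLK)
  have hoff : ∀ k ∈ K, k ∉ L → χ k = 0 := by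
    intro k hk hkL
    rw [hχ, ind_res (IsChar.classFun hθch) hKsup, Finset.sum_eq_zero, mul_zero]
    intro x _
    refine extendByZero_not_mem θ fun hH => hkL ?_
    have h1 : (x : G)⁻¹ * k * x ∈ L := hcap ▸ Subgroup.mem_inf.2
      ⟨mul_mem (mul_mem (inv_mem x.2) hk) x.2, hH⟩
    have := (inferInstance : L.Normal).conj_mem _ h1 (x : G)
    simpa [mul_assoc] using this
  have hee : (e : ℝ) ^ 2 = n := by
    have h1 := classInner_self_irr hη
    rw [classInner_self, ← Complex.ofReal_one, Complex.ofReal_inj, inv_mul_eq_iff_eq_mul₀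
      (Nat.cast_ne_zero.2 Nat.card_pos.ne'), mul_one] at h1
    have h2 : ∑ k : K, ‖χ (k : G)‖ ^ 2 = (e : ℝ) ^ 2 * Nat.card K := by
      rw [← h1, Finset.mul_sum]
      refine Finset.sum_congr rfl fun k _ => ?_
      rw [congrFun he k, Pi.smul_apply, smul_eq_mul, norm_mul, Complex.norm_natCast, mul_pow]
    have h3 : ∑ k : K, ‖χ (k : G)‖ ^ 2 = (n : ℝ) ^ 2 * Nat.card L := by
      have h4 := classInner_self_irr hϕi
      rw [classInner_self, ← Complex.ofReal_one, Complex.ofReal_inj, inv_mul_eq_iff_eq_mul₀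
        (Nat.cast_ne_zero.2 Nat.card_pos.ne'), mul_one] at h4
      rw [← h4, Finset.mul_sum]
      symm
      refine Finset.sum_bij_ne_zero (fun l _ _ => (⟨(l : G), hLK l.2⟩ : K))
        (fun _ _ _ => Finset.mem_univ _)
        (fun a _ _ b _ _ e => Subtype.ext (congrArg (fun z : K => (z : G)) e))
        (fun k _ hk => ?_) fun l _ _ => ?_
      · have hkL : (k : G) ∈ L := by
          by_contra h
          exact hk (by rw [hoff _ k.2 h]; simp)
        refine ⟨⟨(k : G), hkL⟩, Finset.mem_univ _, fun h => hk ?_, rfl⟩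
        show ‖χ ((⟨(k : G), hkL⟩ : L) : G)‖ ^ 2 = 0
        rw [hLtop ⟨(k : G), hkL⟩, norm_mul, Complex.norm_natCast, mul_pow, h]
      · show (n : ℝ) ^ 2 * ‖ϕ l‖ ^ 2 = ‖χ (l : G)‖ ^ 2
        rw [hLtop l, norm_mul, Complex.norm_natCast, mul_pow]
    rw [h2, hcardM K inferInstance hKsup, hcap] at h3
    push_cast at h3
    refine mul_right_cancel₀ (show ((Nat.card L : ℝ) * n) ≠ 0 from mul_ne_zero
      (Nat.cast_ne_zero.2 Nat.card_pos.ne') (Nat.cast_ne_zero.2 (by omega))) ?_
    linear_combination h3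
  have hen : e * e = n := by
    rw [← sq]; exact_mod_cast hee
  -- the subgroup is not the core
  have hHb0 : Hb ≠ ⊥ := fun h => by
    have hH : H = L := by rw [← hHc, h, MonoidHom.comap_bot, hπk]
    have hKtop : K = ⊤ := by rw [← hKsup, hH, sup_eq_left.2 hLK]
    have h1 := classInner_self_irr hind
    have h2 : (e : ℂ) = 1 := by
      have h3 := congrArg (fun F : K → ℂ => classInner F F) he
      have hirr : IsIrrCharacter K (fun k : K => χ k) := IsIrr.comp_surjective K.subtype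
        (fun g => ⟨⟨g, hKtop ▸ Subgroup.mem_top g⟩, rfl⟩) hind
      rw [classInner_self_irr hirr, classInner_smul_left, classInner_smul_right,
        classInner_self_irr hη, map_natCast, mul_one] at h3
      have h4 : e * e = 1 := by exact_mod_cast h3.symm
      rw [Nat.eq_one_of_mul_eq_one_right h4, Nat.cast_one]
    have : e = 1 := by exact_mod_cast h2
    subst this
    omega
  obtain ⟨R, hRH, hR0, hRN, hRab, ⟨q, hq, hRq⟩, -⟩ := exists_section hHb0
  have hnotnorm : ¬ V ≤ Subgroup.normalizer (R : Set (G ⧸ L)) := fun h => hR0 (hcore R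
    (Subgroup.normalizer_eq_top_iff.1 (top_le_iff.1 (hVsup ▸ sup_le h hRN))) hRH)
  have hpq : p ≠ q := by
    rintro rfl
    haveI := Fact.mk hp
    have hS : IsPGroup p (V ⊔ R : Subgroup (G ⧸ L)) := hVp.to_sup_of_normal_left hRq
    haveI : Group.IsNilpotent (V ⊔ R : Subgroup (G ⧸ L)) := hS.isNilpotent
    have hlt : R.subgroupOf (V ⊔ R) < ⊤ := lt_top_iff_ne_top.2 fun h => hnotnorm
      ((le_sup_left.trans (Subgroup.subgroupOf_eq_top.1 h)).trans Subgroup.le_normalizer)
    obtain ⟨s, hsN, hsR⟩ := SetLike.exists_of_lt (Group.normalizerCondition_of_isNilpotent _ hlt)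
    have hs : (s : G ⧸ L) ∈ ((V ⊔ R : Subgroup (G ⧸ L)) : Set (G ⧸ L)) := s.2
    rw [Subgroup.normal_mul] at hs
    obtain ⟨v, hv, r, hr, hvr⟩ := hs
    replace hvr : v * r = (s : G ⧸ L) := hvr
    have hsN' : (s : G ⧸ L) ∈ Subgroup.normalizer (R : Set (G ⧸ L)) :=
      Subgroup.mem_normalizer_iff.2 fun w => by
        constructor
        · intro hw
          exact (Subgroup.mem_normalizer_iff.1 hsN ⟨w, Subgroup.mem_sup_right hw⟩).1 hw
        · intro hw
          have h1 : (s : G ⧸ L) * w * (s : G ⧸ L)⁻¹ ∈ V ⊔ R := Subgroup.mem_sup_right hw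
          have h2 : w ∈ V ⊔ R := by
            have := mul_mem (mul_mem (inv_mem s.2) h1) s.2
            simpa [mul_assoc] using this
          exact (Subgroup.mem_normalizer_iff.1 hsN ⟨w, h2⟩).2 hw
    have hvN : v ∈ Subgroup.normalizer (R : Set (G ⧸ L)) := by
      have := mul_mem hsN' (inv_mem (Subgroup.le_normalizer hr))
      rwa [← hvr, mul_inv_cancel_right] at this
    set W := V ⊓ Subgroup.normalizer (R : Set (G ⧸ L)) with hW
    rcases hVmin W inf_le_left (hVsup ▸ sup_le (fun x hx => Subgroup.mem_normalizer_iff.2 fun w => by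
        constructor
        · intro hw
          have e : x * w * x⁻¹ = w := by
            have := congrArg Subtype.val (mul_comm' (⟨x, hx⟩ : V) ⟨w, (Subgroup.mem_inf.1 hw).1⟩)
            simp only [Subgroup.coe_mul] at this
            rw [this, mul_inv_cancel_right]
          rwa [e]
        · intro hw
          have hw' : w ∈ V := by
            have := hVn.conj_mem _ (Subgroup.mem_inf.1 hw).1 x⁻¹
            simpa [mul_assoc] using this
          have e : x * w * x⁻¹ = w := by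
            have := congrArg Subtype.val (mul_comm' (⟨x, hx⟩ : V) ⟨w, hw'⟩)
            simp only [Subgroup.coe_mul] at this
            rw [this, mul_inv_cancel_right]
          rwa [e] at hw)
      (fun x hx => Subgroup.mem_normalizer_iff.2 fun w => by
        rw [Subgroup.mem_inf, Subgroup.mem_inf]
        exact and_congr
          ⟨fun h => hVn.conj_mem _ h x, fun h => by
            have := hVn.conj_mem _ h x⁻¹
            simpa [mul_assoc] using this⟩
          ⟨fun h => mul_mem (mul_mem (hRN hx) h) (inv_mem (hRN hx)), fun h => by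
            have := mul_mem (mul_mem (inv_mem (hRN hx)) h) (hRN hx)
            simpa [mul_assoc] using this⟩)) with h | h
    · refine hsR (Subgroup.mem_subgroupOf.2 ?_)
      have hv1 : v = 1 := Subgroup.mem_bot.1 (h ▸ Subgroup.mem_inf.2 ⟨hv, hvN⟩)
      rw [← hvr, hv1, one_mul]
      exact hr
    · exact hnotnorm (h ▸ inf_le_right)
  -- the normal subgroup over both
  set Mb := V ⊔ R with hMb
  haveI hMbn : Mb.Normal := by
    refine Subgroup.normalizer_eq_top_iff.1 (top_le_iff.1 (hVsup ▸ sup_le ?_ ?_))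
    · exact le_sup_left.trans Subgroup.le_normalizer
    · intro x hx
      refine Cfsg.Agent.Char.Berger.sup_mem_normalizer ?_ (hRN hx)
      exact (Subgroup.normalizer_eq_top_iff.2 hVn).ge (Subgroup.mem_top x)
  set M := Mb.comap π with hM
  haveI : M.Normal := hMbn.comap π
  letI := Fintype.ofFinite M
  have hKM : K ≤ M := Subgroup.comap_mono le_sup_left
  have hMsup : M ⊔ H = ⊤ := top_le_iff.1 (hKsup ▸ sup_le_sup_right hKM H)
  have hQ : M ⊓ H = R.comap π := by
    rw [hM, ← hHc, ← Subgroup.comap_inf]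
    refine congrArg (Subgroup.comap π) (le_antisymm (fun x hx => ?_) (le_inf le_sup_right hRH))
    obtain ⟨h1, h2⟩ := Subgroup.mem_inf.1 hx
    have h1' : x ∈ ((V ⊔ R : Subgroup (G ⧸ L)) : Set (G ⧸ L)) := h1
    rw [Subgroup.normal_mul] at h1'
    obtain ⟨v, hv, r, hr, (rfl : v * r = x)⟩ := h1'
    have hvH : v ∈ Hb := by
      have := mul_mem h2 (inv_mem (hRH hr))
      rwa [mul_inv_cancel_right] at this
    have hv1 : v = 1 := Subgroup.mem_bot.1 (hVcap ▸ Subgroup.mem_inf.2 ⟨hv, hvH⟩)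
    rw [hv1, one_mul]; exact hr
  have hne : ¬ M ≤ Subgroup.normalizer ((M ⊓ H : Subgroup G) : Set G) := fun h => hnotnorm fun v hv => by
    obtain ⟨k, rfl⟩ := hπs v
    have hk := h (hKM (show k ∈ K from hv))
    rw [hQ, ← Subgroup.comap_normalizer_eq_of_surjective R hπs] at hk
    exact hk
  obtain ⟨ψ, f, hψ, hf⟩ := hno M inferInstance (hL₀.trans (hLK.trans hKM))
  have hlt := norm_lt hθch hLH hϕi (hLK.trans hKM) hMsup hne
  have hf2 : ∑ m : M, ‖χ (m : G)‖ ^ 2 = (f : ℝ) ^ 2 * Nat.card M := by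
    have h1 := classInner_self_irr hψ
    rw [classInner_self, ← Complex.ofReal_one, Complex.ofReal_inj, inv_mul_eq_iff_eq_mul₀
      (Nat.cast_ne_zero.2 Nat.card_pos.ne'), mul_one] at h1
    rw [← h1, Finset.mul_sum]
    refine Finset.sum_congr rfl fun m _ => ?_
    rw [congrFun hf m, Pi.smul_apply, smul_eq_mul, norm_mul, Complex.norm_natCast, mul_pow]
  have hflt : f * f < n := by
    rw [← hχ, hf2, hcardM M inferInstance hMsup] at hlt
    push_cast at hlt
    have hQ0 : (0 : ℝ) < Nat.card (M ⊓ H : Subgroup G) := Nat.cast_pos.2 Nat.card_pos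
    have hn0 : (0 : ℝ) < n := Nat.cast_pos.2 (by omega)
    have : (f : ℝ) ^ 2 < n := by
      by_contra hc
      have := mul_le_mul_of_nonneg_right (not_lt.1 hc) (mul_nonneg (mul_nonneg hQ0.le hQ0.le) hn0.le)
      nlinarith
    rw [← sq]; exact_mod_cast this
  -- the ratio of the degrees
  haveI : (K.subgroupOf M).Normal := Subgroup.Normal.subgroupOf inferInstance _
  letI := Fintype.ofFinite (K.subgroupOf M)
  set η' : K.subgroupOf M → ℂ := fun x => η ⟨((x : M) : G), x.2⟩ with hη'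
  have hη'i : IsIrrCharacter (K.subgroupOf M) η' :=
    IsIrr.comp_mulEquiv (Subgroup.subgroupOfEquivOfLe hKM) hη
  have hres : (f : ℂ) • (fun x : K.subgroupOf M => ψ x) = (e : ℂ) • η' := by
    funext x
    have h1 := congrFun hf (x : M)
    have h2 := congrFun he ⟨((x : M) : G), x.2⟩
    simp only [Pi.smul_apply, smul_eq_mul, hη'] at h1 h2 ⊢
    rw [← h1, ← h2]
  have he0 : 0 < e := by
    rcases Nat.eq_zero_or_pos e with h | h
    · rw [h] at hen; omega
    · exact h
  obtain ⟨t, ht, htdvd⟩ := Ext.ratio_dvd_index' hψ hη'i (by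
    intro h0
    have h1 := congrArg (fun F : K.subgroupOf M → ℂ => classInner F η') hres
    simp only [classInner_smul_left, h0, mul_zero, classInner_self_irr hη'i, mul_one] at h1
    exact he0.ne' (Nat.cast_eq_zero.1 h1.symm))
  have hft : f * t = e := by
    have h1 := congrFun hres 1
    have h3 : η' 1 ≠ 0 := IsIrr.one_ne_zero hη'i
    simp only [Pi.smul_apply, smul_eq_mul, Subgroup.coe_one] at h1
    rw [ht, ← mul_assoc] at h1
    exact_mod_cast mul_right_cancel₀ h3 h1
  have hpow : ∃ a, n = p ^ a := by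
    haveI := Fact.mk hp
    exact IsPGroup.iff_card.1 hVp
  obtain ⟨a, ha⟩ := hpow
  have hqpow : ∃ b, (K.subgroupOf M).index = q ^ b := by
    haveI := Fact.mk hq
    obtain ⟨b, hb⟩ := IsPGroup.iff_card.1 hRq
    refine ⟨b, ?_⟩
    show K.relIndex M = q ^ b
    rw [hK, hM, Subgroup.relIndex_comap, Subgroup.map_comap_eq_self_of_surjective hπs, hMb,
      sup_comm, Subgroup.relIndex_sup_right, ← Subgroup.inf_relIndex_right,
      le_bot_iff.1 ((inf_le_inf_left V hRH).trans hVcap.le), Subgroup.relIndex_bot_left, hb]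
  obtain ⟨b, hb⟩ := hqpow
  have ht1 : t = 1 := by
    have h1 : t ∣ p ^ a := ha ▸ hen ▸ (Dvd.intro_left f hft).trans (dvd_mul_right e e)
    exact Nat.eq_one_of_dvd_coprimes (Nat.Coprime.pow a b ((Nat.coprime_primes hp hq).2 hpq)) h1
      (hb ▸ htdvd)
  rw [ht1, mul_one] at hft
  subst hft
  omega

end Cfsg.Agent.Char.Berger
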