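import Cfsg.Agent.Lib.Char.Galois
import Cfsg.Agent.Lib.Char.Kernel
import Cfsg.Agent.Lib.Char.Quotient
import Cfsg.Agent.Lib.Char.Det
import Cfsg.Agent.Lib.Char.Integral

/-!
Blichfeldt's theorem: a linear group of degree `n` has an abelian Hall subgroup for the primes
greater than `n + 1`.
-/

set_option autoImplicit false
set_option linter.unusedSectionVars false
set_option linter.style.haveILetI false

namespace Cfsg.Agent.Char.Blichfeldt

open Cfsg Cfsg.Agent.Char
open scoped ComplexConjugate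

universe u

variable {G : Type u} [Group G] [Fintype G]

/-- A constituent of a character of degree `n` has degree at most `n`. -/
theorem deg_le {χ : G → ℂ} (hχ : IsCharacter G χ) {n : ℕ} (hn : χ 1 = n) {φ : IrrCharacter G}
    (hc : classInner χ (φ : G → ℂ) ≠ 0) :
    ∃ d : ℕ, 0 < d ∧ d ≤ n ∧ (φ : G → ℂ) 1 = d := by
  obtain ⟨d, hd, hd'⟩ := IsIrr.one_eq_pos φ.2
  exact ⟨d, hd, degree_le_of_constituent hχ φ.2 hc hn hd', hd'⟩

/-- A faithful character separates the identity. -/
theorem eq_one_of_constituents {χ : G → ℂ} (hχ : IsCharacter G χ)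
    (hfaith : ∀ g, χ g = χ 1 → g = 1) {g : G}
    (h : ∀ φ : IrrCharacter G, classInner χ (φ : G → ℂ) ≠ 0 → (φ : G → ℂ) g = (φ : G → ℂ) 1) :
    g = 1 := by
  classical
  obtain ⟨a, ha, hd⟩ := IsChar.exists_decomp_inner hχ
  refine hfaith g ?_
  rw [hd, sum_irr_apply, sum_irr_apply]
  refine Finset.sum_congr rfl fun φ _ => ?_
  rcases Nat.eq_zero_or_pos (a φ) with h0 | h0
  · simp [h0]
  · rw [h φ (by rw [ha]; exact Nat.cast_ne_zero.mpr h0.ne')]

/-- All prime divisors of the order exceed the degree: the group is abelian. -/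
theorem commute_of_large {χ : G → ℂ} (hχ : IsCharacter G χ)
    (hfaith : ∀ g, χ g = χ 1 → g = 1) {n : ℕ} (hn : χ 1 = n)
    (hπ : ∀ q : ℕ, q.Prime → q ∣ Nat.card G → n < q) (x y : G) : x * y = y * x := by
  have h : x * y * x⁻¹ * y⁻¹ = 1 := by
    refine eq_one_of_constituents hχ hfaith fun φ hc => ?_
    obtain ⟨d, hd0, hdn, hd⟩ := deg_le hχ hn hc
    have hdvd := IsIrr.degree_dvd_card φ.2 hd
    have hd1 : d = 1 := by
      by_contra hne
      obtain ⟨q, hq, hqd⟩ := Nat.exists_prime_and_dvd hne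
      exact absurd (hπ q hq (hqd.trans hdvd)) (by
        have := Nat.le_of_dvd hd0 hqd; omega)
    obtain ⟨l, hl⟩ := linearHom_of_isCharacter (IsIrr.isCharacter φ.2)
      (by rw [hd, hd1, Nat.cast_one])
    simp [hl, mul_comm (l x) (l y)]
  calc x * y = (x * y * x⁻¹ * y⁻¹) * (y * x) := by group
    _ = y * x := by rw [h, one_mul]

/-- An exponent acting as `t` on the `p`-part and trivially on the rest. -/
theorem exists_exponent (p : ℕ) [hp : Fact p.Prime] (t : ℕ) (ht : ¬ p ∣ t) :
    ∃ k : ℕ, k.Coprime (Nat.card G) ∧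
      k ≡ t [MOD p ^ (Nat.card G).factorization p] ∧
      ∀ g : G, ¬ p ∣ orderOf g → g ^ k = g := by
  set N := Nat.card G
  set a := p ^ N.factorization p
  set b := N / a
  have hab : a * b = N := Nat.ordProj_mul_ordCompl_eq_self N p
  have hbp : ¬ p ∣ b := Nat.not_dvd_ordCompl hp.out Nat.card_pos.ne'
  have hcop : a.Coprime b := ((hp.out.coprime_iff_not_dvd).mpr hbp).pow_left _
  obtain ⟨k, h1, h2⟩ := Nat.chineseRemainder hcop t 1
  have hta : Nat.Coprime t a := (((hp.out.coprime_iff_not_dvd).mpr ht).symm).pow_right _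
  have hka : Nat.Coprime k a := by rw [Nat.coprime_iff_gcd_eq_one, h1.gcd_eq]; exact hta
  have hkb : Nat.Coprime k b := by
    rw [Nat.coprime_iff_gcd_eq_one, h2.gcd_eq, Nat.gcd_one_left]
  refine ⟨k, hab ▸ hka.mul_right hkb, h1, fun g hg => ?_⟩
  have hgb : orderOf g ∣ b :=
    (((hp.out.coprime_iff_not_dvd).mpr hg).symm.pow_right _).dvd_of_dvd_mul_left
      (show orderOf g ∣ a * b by rw [hab]; exact orderOf_dvd_natCard g)
  rw [pow_eq_pow_iff_modEq.mpr (h2.of_dvd hgb), pow_one]

/-- If the degree is less than `p - 1`, the Galois group of the `p`-th roots moves the value at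
an element of order `p` outside the kernel. -/
theorem exists_moved {ψ : G → ℂ} (hψ : IsIrrCharacter G ψ) {d : ℕ} (hd : ψ 1 = d) {p : ℕ}
    [hp : Fact p.Prime] (hdp : d + 1 < p) {x : G} (hx : orderOf x = p) (hne : ψ x ≠ ψ 1) :
    ∃ k : ℕ, k.Coprime (Nat.card G) ∧ ψ (x ^ k) ≠ ψ x ∧
      ∀ g : G, ¬ p ∣ orderOf g → g ^ k = g := by
  classical
  by_contra hc
  push Not at hc
  have hpN : p ∣ Nat.card G := hx ▸ orderOf_dvd_natCard x
  have hfix : ∀ t : ℕ, ¬ p ∣ t → ψ (x ^ t) = ψ x := by
    intro t ht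
    obtain ⟨k, hk, hkt, hkr⟩ := exists_exponent (G := G) p t ht
    have e : x ^ k = x ^ t := pow_eq_pow_iff_modEq.mpr (hx ▸ hkt.of_dvd
      (dvd_pow_self p (hp.out.factorization_pos_of_dvd Nat.card_pos.ne' hpN).ne'))
    by_contra hh
    obtain ⟨g, hg, hg'⟩ := hc k hk (by rw [e]; exact hh)
    exact hg' (hkr g hg)
  -- multiplicity of the principal character on `⟨x⟩`
  obtain ⟨m, hm⟩ := IsChar.classInner_nat (IsChar.res (IsIrr.isCharacter hψ) (Subgroup.zpowers x))
    (IsChar.one (G := Subgroup.zpowers x))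
  have hfin : IsOfFinOrder x := isOfFinOrder_of_finite x
  have hsum : ∑ c : Subgroup.zpowers x, ψ (c : G) = ∑ j : Fin (orderOf x), ψ (x ^ (j : ℕ)) :=
    (Fintype.sum_equiv (finEquivZPowers hfin) _ _ fun j => rfl).symm
  simp only [classInner, map_one, mul_one, Nat.card_zpowers, hsum,
    Fin.sum_univ_eq_sum_range (fun j => ψ (x ^ j)), hx] at hm
  have hsum' : ∑ j ∈ Finset.range p, ψ (x ^ j) = (d : ℂ) + ((p - 1 : ℕ) : ℂ) * ψ x := by
    rw [Finset.range_eq_Ico, Finset.sum_eq_sum_Ico_succ_bot hp.out.pos, pow_zero, hd,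
      Finset.sum_congr rfl fun j hj => hfix j ?_, Finset.sum_const, Nat.card_Ico, nsmul_eq_mul]
    rw [Finset.mem_Ico] at hj
    exact fun h => by have := Nat.le_of_dvd (by omega) h; omega
  rw [hsum'] at hm
  have hp1 : ((p - 1 : ℕ) : ℂ) ≠ 0 := Nat.cast_ne_zero.mpr (by have := hp.out.two_le; omega)
  have hpne : (p : ℂ) ≠ 0 := Nat.cast_ne_zero.mpr hp.out.ne_zero
  have hm' : ((p - 1 : ℕ) : ℂ) * ψ x = (p : ℂ) * m - d := by
    rw [← hm]; field_simp; ring
  have hq : ψ x = ((((p : ℚ) * m - d) / ((p - 1 : ℕ) : ℚ) : ℚ) : ℂ) := by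
    push_cast
    rw [eq_div_iff hp1, mul_comm, hm']
  obtain ⟨z, hz⟩ := int_of_isIntegral_rat
    (hq ▸ IsChar.isIntegral (IsIrr.isCharacter hψ) x)
  rw [← hq] at hz
  have hbound : ‖ψ x‖ ≤ d := by
    have := IsChar.norm_le (IsIrr.isCharacter hψ) x
    rwa [hd, Complex.norm_natCast] at this
  rw [hz] at hm' hbound
  rw [Complex.norm_intCast] at hbound
  have hzd : |z| ≤ (d : ℤ) := by exact_mod_cast hbound
  have hint : ((p - 1 : ℕ) : ℤ) * z = (p : ℤ) * m - d := by exact_mod_cast hm'
  have hzne : z ≠ (d : ℤ) := fun h => hne (by rw [hz, h, hd, Int.cast_natCast])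
  have hp2 := hp.out.two_le
  rw [Nat.cast_sub (by omega), Nat.cast_one] at hint
  have hdiv : (p : ℤ) ∣ ((d : ℤ) - z) := ⟨m - z, by linarith⟩
  obtain ⟨h1, h2⟩ := abs_le.mp hzd
  obtain ⟨c, hc'⟩ := hdiv
  have hc0 : 1 ≤ c := by
    by_contra h
    push Not at h
    have : (p : ℤ) * c ≤ 0 := mul_nonpos_of_nonneg_of_nonpos (by positivity) (by omega)
    omega
  have hc2 : c < 2 := by
    by_contra h
    push Not at h
    have : (p : ℤ) * 2 ≤ (p : ℤ) * c := mul_le_mul_of_nonneg_left h (by positivity)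
    have : (d : ℤ) + 1 < p := by exact_mod_cast hdp
    omega
  have hc1 : c = 1 := by omega
  rw [hc1, mul_one] at hc'
  have h3 : (z : ℤ) = (m : ℤ) - 1 := by
    have e : (p : ℤ) * (z - (m : ℤ) + 1) = 0 := by linarith
    rcases mul_eq_zero.mp e with h | h
    · exact absurd h (by omega)
    · omega
  have : (d : ℤ) + 1 < p := by exact_mod_cast hdp
  omega

/-- An element whose order is divisible by both primes. -/
theorem exists_both {ψ : G → ℂ} (hψ : IsIrrCharacter G ψ) {d : ℕ} (hd : ψ 1 = d) {p q : ℕ}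
    [hp : Fact p.Prime] [hq : Fact q.Prime] (hdp : d + 1 < p) (hdq : d + 1 < q) {x y : G}
    (hx : orderOf x = p) (hy : orderOf y = q) (hxk : ψ x ≠ ψ 1) (hyk : ψ y ≠ ψ 1) :
    ∃ g : G, p ∣ orderOf g ∧ q ∣ orderOf g := by
  classical
  by_contra hc
  push Not at hc
  obtain ⟨k, hk, hkx, hkr⟩ := exists_moved hψ hd hdp hx hxk
  obtain ⟨l, hl, hly, hlr⟩ := exists_moved hψ hd hdq hy hyk
  have hψk := IsIrr.pow_map hψ hk
  have hψl := IsIrr.pow_map hψ hl
  set A : G → ℂ := fun g => ψ (g ^ k)
  set B : G → ℂ := fun g => ψ (g ^ l)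
  have hzero : ∀ g, (ψ g - A g) * (conj (ψ g) - conj (B g)) = 0 := by
    intro g
    by_cases h1 : p ∣ orderOf g
    · simp only [B]; rw [hlr g (hc g h1), sub_self, mul_zero]
    · simp only [A]; rw [hkr g h1, sub_self, zero_mul]
  have h0 : classInner ψ ψ - classInner ψ B - classInner A ψ + classInner A B = 0 := by
    simp only [classInner, ← mul_sub, ← mul_add, ← Finset.sum_sub_distrib, ← Finset.sum_add_distrib]
    rw [Finset.sum_eq_zero fun g _ => ?_, mul_zero]
    linear_combination hzero g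
  rw [classInner_self_irr hψ, classInner_irr_ne hψ hψl (fun h => hly (congrFun h y).symm),
    classInner_irr_ne hψk hψ (fun h => hkx (congrFun h x))] at h0
  obtain ⟨j, hj⟩ := IsChar.classInner_nat (IsIrr.isCharacter hψk) (IsIrr.isCharacter hψl)
  rw [hj] at h0
  have : ((1 + j : ℕ) : ℂ) = 0 := by push_cast; linear_combination h0
  rw [Nat.cast_eq_zero] at this
  omega

/-- Commuting elements of two large prime orders. -/
theorem exists_commuting {χ : G → ℂ} (hχ : IsCharacter G χ)
    (hfaith : ∀ g, χ g = χ 1 → g = 1) {n : ℕ} (hn : χ 1 = n) {p q : ℕ}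
    [hp : Fact p.Prime] [hq : Fact q.Prime] (hnp : n + 1 < p) (hnq : n + 1 < q)
    (hpG : p ∣ Nat.card G) (hqG : q ∣ Nat.card G) :
    ∃ x y : G, orderOf x = p ∧ orderOf y = q ∧ x * y = y * x := by
  classical
  by_cases hex : ∃ g : G, p ∣ orderOf g ∧ q ∣ orderOf g
  · obtain ⟨g, h1, h2⟩ := hex
    exact ⟨g ^ (orderOf g / p), g ^ (orderOf g / q),
      orderOf_pow_orderOf_div (orderOf_pos g).ne' h1,
      orderOf_pow_orderOf_div (orderOf_pos g).ne' h2,
      ((Commute.refl g).pow_pow _ _).eq⟩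
  obtain ⟨x, hx⟩ := exists_prime_orderOf_dvd_card' p hpG
  obtain ⟨y, hy⟩ := exists_prime_orderOf_dvd_card' q hqG
  have h : x * y * x⁻¹ * y⁻¹ = 1 := by
    refine eq_one_of_constituents hχ hfaith fun φ hc => ?_
    obtain ⟨d, hd0, hdn, hd⟩ := deg_le hχ hn hc
    have hφ := IsIrr.isCharacter φ.2
    by_cases hP : ∀ x' : G, orderOf x' = p → (φ : G → ℂ) x' = (φ : G → ℂ) 1
    · rw [mul_assoc, mul_assoc, char_mul_ker hφ (hP x hx), ← mul_assoc]
      exact hP _ (by rw [← MulAut.conj_apply, MulEquiv.orderOf_eq,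
        orderOf_inv, hx])
    by_cases hQ : ∀ y' : G, orderOf y' = q → (φ : G → ℂ) y' = (φ : G → ℂ) 1
    · rw [char_mul_ker hφ (hQ _ (by
        rw [← MulAut.conj_apply, MulEquiv.orderOf_eq, hy]))]
      exact hQ _ (by rw [orderOf_inv, hy])
    push Not at hP hQ
    obtain ⟨x', hx', hxk⟩ := hP
    obtain ⟨y', hy', hyk⟩ := hQ
    exact absurd (exists_both φ.2 hd (by omega) (by omega) hx' hy' hxk hyk) hex
  exact ⟨x, y, hx, hy, by
    calc x * y = (x * y * x⁻¹ * y⁻¹) * (y * x) := by group
      _ = y * x := by rw [h, one_mul]⟩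

/-- A linear twist killing a central element of order `p` on one constituent. -/
theorem exists_twist (φ : IrrCharacter G) {d p : ℕ} [hp : Fact p.Prime]
    (hd : (φ : G → ℂ) 1 = d) (hd0 : 0 < d) (hdp : d < p) {z : G} (hz : z ∈ Subgroup.center G)
    (hzp : orderOf z = p) :
    ∃ l : G →* ℂˣ, (∀ g, l g ^ p ^ (Nat.card G).factorization p = 1) ∧
      (φ : G → ℂ) z * (l z : ℂ) = (φ : G → ℂ) 1 := by
  classical
  obtain ⟨e, ρ, hρ, hρc⟩ := φ.2
  haveI := hρ
  have hde : d = e := by
    rw [← hρc, Representation.char_one, Module.finrank_fin_fun] at hd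
    exact_mod_cast hd.symm
  subst hde
  obtain ⟨c, hc⟩ := schur_scalar ρ (ρ z) fun g => by
    show ρ z * ρ g = ρ g * ρ z
    rw [← map_mul, ← map_mul, Subgroup.mem_center_iff.mp hz g]
  have hφz : (φ : G → ℂ) z = c * (φ : G → ℂ) 1 := by
    rw [← hρc, Representation.char_one, Representation.character, hc, map_smul,
      LinearMap.trace_id, smul_eq_mul]
  have hdet : (detUnits ρ z : ℂ) = c ^ d := by
    rw [detUnits_apply, hc, LinearMap.det_smul, LinearMap.det_id, mul_one, Module.finrank_fin_fun]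
  have hcp : c ^ p = 1 := by
    have h1 : ρ (z ^ p) = 1 := by rw [← hzp, pow_orderOf_eq_one, map_one]
    rw [map_pow, hc, smul_pow, ← Module.End.one_eq_id, one_pow] at h1
    have h2 := congrFun (LinearMap.congr_fun h1 (fun _ => 1)) ⟨0, hd0⟩
    simpa using h2
  set N := Nat.card G
  set m := N / p ^ N.factorization p
  have hN : p ^ N.factorization p * m = N := Nat.ordProj_mul_ordCompl_eq_self N p
  have hdm : (d * m).Coprime p :=
    Nat.Coprime.mul_left (((hp.out.coprime_iff_not_dvd).mpr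
      (Nat.not_dvd_of_pos_of_lt hd0 hdp)).symm)
      (((hp.out.coprime_iff_not_dvd).mpr (Nat.not_dvd_ordCompl hp.out Nat.card_pos.ne')).symm)
  obtain ⟨e', -, he⟩ := Nat.exists_mul_mod_eq_one_of_coprime hdm hp.out.one_lt
  have hpow : c ^ (d * m * e') = c := by
    conv_lhs => rw [← Nat.mod_add_div (d * m * e') p, he, pow_add, pow_one, pow_mul, hcp,
      one_pow, mul_one]
  refine ⟨detUnits ρ ^ (m * e' * (p - 1)), fun g => ?_, ?_⟩
  · rw [MonoidHom.pow_apply, ← pow_mul, ← map_pow,
      show g ^ (m * e' * (p - 1) * p ^ N.factorization p) = 1 by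
        rw [show m * e' * (p - 1) * p ^ N.factorization p =
          (p ^ N.factorization p * m) * (e' * (p - 1)) by ring, hN, pow_mul, pow_card_eq_one',
          one_pow], map_one]
  · rw [MonoidHom.pow_apply, Units.val_pow_eq_pow_val, hdet, ← pow_mul, ← mul_assoc d,
      ← mul_assoc d, pow_mul, hpow, hφz, mul_right_comm, ← pow_succ',
      Nat.sub_add_cancel hp.out.pos, hcp, one_mul]

/-- Factoring out the `p`-scalars: a smaller linear group of the same degree. -/
theorem exists_reduction {χ : G → ℂ} (hχ : IsCharacter G χ)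
    (hfaith : ∀ g, χ g = χ 1 → g = 1) {n : ℕ} (hn : χ 1 = n) {p : ℕ} [hp : Fact p.Prime]
    (hnp : n < p) {z : G} (hz : z ∈ Subgroup.center G) (hzp : orderOf z = p) :
    ∃ K : Subgroup G, ∃ _ : K.Normal, z ∈ K ∧ IsPGroup p K ∧
      ∃ χ' : G ⧸ K → ℂ, IsCharacter (G ⧸ K) χ' ∧ χ' 1 = n ∧
        ∀ q, χ' q = χ' 1 → q = 1 := by
  classical
  set v := (Nat.card G).factorization p
  obtain ⟨a, ha, hdec⟩ := IsChar.exists_decomp_inner hχ
  have hl : ∀ φ : IrrCharacter G, ∃ l : G →* ℂˣ, (∀ g, l g ^ p ^ v = 1) ∧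
      (a φ ≠ 0 → (φ : G → ℂ) z * (l z : ℂ) = (φ : G → ℂ) 1) := by
    intro φ
    by_cases h0 : a φ = 0
    · exact ⟨1, fun g => by simp, fun h => absurd h0 h⟩
    · obtain ⟨d, hd0, hdn, hd⟩ := deg_le hχ hn (φ := φ) (by rw [ha]; exact_mod_cast h0)
      obtain ⟨l, h1, h2⟩ := exists_twist φ hd hd0 (by omega) hz hzp
      exact ⟨l, h1, fun _ => h2⟩
  choose l hlp hlz using hl
  set X : G → ℂ := ∑ φ : IrrCharacter G, (a φ : ℂ) • fun g => (l φ g : ℂ) * (φ : G → ℂ) g with hX
  have hXc : IsCharacter G X := IsChar.sum fun φ _ =>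
    IsChar.nsmul (IsIrr.isCharacter (IsIrr.mul_linear φ.2 (l φ))) _
  have hXapp : ∀ g, X g = ∑ φ : IrrCharacter G, (a φ : ℂ) * ((l φ g : ℂ) * (φ : G → ℂ) g) :=
    fun g => by simp [hX]
  have hX1 : X 1 = n := by
    rw [hXapp, ← hn, hdec, sum_irr_apply]
    simp
  set K := charKer hXc
  haveI hK : K.Normal := charKer_normal hXc
  have hzK : z ∈ K := by
    rw [mem_charKer, hXapp, hXapp]
    refine Finset.sum_congr rfl fun φ _ => ?_
    rcases Nat.eq_zero_or_pos (a φ) with h0 | h0
    · simp [h0]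
    · have := hlz φ h0.ne'
      simp [mul_comm (l φ z : ℂ), this]
  have hscal : ∀ g ∈ K, ∀ φ : IrrCharacter G, a φ ≠ 0 →
      (φ : G → ℂ) g * (l φ g : ℂ) = (φ : G → ℂ) 1 := by
    intro g hg φ h0
    have hne : classInner X (fun g => (l φ g : ℂ) * (φ : G → ℂ) g) ≠ 0 := by
      have h' := IsIrr.mul_linear φ.2 (l φ)
      set b : IrrCharacter G := ⟨_, h'⟩
      have e : classInner X (b : G → ℂ) =
          ((∑ ψ : IrrCharacter G, a ψ * (if (fun g => (l ψ g : ℂ) * (ψ : G → ℂ) g) =
            (b : G → ℂ) then 1 else 0) : ℕ) : ℂ) := by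
        rw [hX, classInner_sum_left, Nat.cast_sum]
        refine Finset.sum_congr rfl fun ψ _ => ?_
        rw [classInner_smul_left]
        split_ifs with he
        · rw [he, classInner_self_irr h']; simp
        · rw [classInner_irr_ne (IsIrr.mul_linear ψ.2 (l ψ)) h' he]; simp
      rw [e, Nat.cast_ne_zero]
      intro h
      have := (Finset.sum_eq_zero_iff.mp h) φ (Finset.mem_univ _)
      rw [if_pos rfl, mul_one] at this
      exact h0 this
    have := constituent_ker hXc (IsIrr.mul_linear φ.2 (l φ)) hne ((mem_charKer hXc).mp hg)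
    simpa [mul_comm] using this
  refine ⟨K, hK, hzK, ?_, ?_⟩
  · intro g
    refine ⟨v, Subtype.ext ?_⟩
    show (g : G) ^ p ^ v = 1
    refine eq_one_of_constituents hχ hfaith fun φ hc => ?_
    have := hscal _ (pow_mem g.2 (p ^ v)) φ (fun h => hc (by rw [ha, h, Nat.cast_zero]))
    rwa [map_pow, hlp, Units.val_one, mul_one] at this
  · obtain ⟨χ', hχ', he⟩ := IsChar.exists_factor hXc (QuotientGroup.mk' K)
      (QuotientGroup.mk'_surjective K) fun k hk =>
        (mem_charKer hXc).mp (by rwa [QuotientGroup.ker_mk'] at hk)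
    have h1 : χ' 1 = n := by
      rw [← hX1, ← he 1, map_one]
    refine ⟨χ', hχ', h1, fun q hq => ?_⟩
    obtain ⟨g, rfl⟩ := QuotientGroup.mk'_surjective K q
    rw [he, h1, ← hX1] at hq
    exact (QuotientGroup.eq_one_iff g).mpr ((mem_charKer hXc).mpr hq)

/-- The conclusion: an abelian Hall subgroup for the primes greater than `n + 1`. -/
def HasHall (n : ℕ) (G : Type u) [Group G] : Prop :=
  ∃ A : Subgroup G, (∀ x ∈ A, ∀ y ∈ A, x * y = y * x) ∧
    (∀ q : ℕ, q.Prime → q ∣ Nat.card A → n + 1 < q) ∧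
    ∀ q : ℕ, q.Prime → q ∣ A.index → q ≤ n + 1

theorem exists_hall_aux (n : ℕ) : ∀ (k : ℕ) (G : Type u) [Group G] [Fintype G],
    Nat.card G ≤ k → ∀ χ : G → ℂ, IsCharacter G χ → (∀ g, χ g = χ 1 → g = 1) → χ 1 = n →
      HasHall n G := by
  intro k
  induction k with
  | zero =>
    intro G _ _ hk
    exact absurd (Nat.le_zero.1 hk) Nat.card_pos.ne'
  | succ k IH =>
    intro G _ _ hk χ hχ hfaith hn
    classical
    have hab : ∀ A : Subgroup G, (∀ q : ℕ, q.Prime → q ∣ Nat.card A → n + 1 < q) →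
        ∀ x ∈ A, ∀ y ∈ A, x * y = y * x := by
      intro A hA x hx y hy
      haveI := Fintype.ofFinite A
      exact congrArg Subtype.val (commute_of_large (IsChar.res hχ A)
        (fun g hg => Subtype.ext (hfaith g (by simpa using hg))) (n := n) (by simpa using hn)
        (fun q hq hqA => by have := hA q hq hqA; omega) ⟨x, hx⟩ ⟨y, hy⟩)
    by_cases hcen : ∃ z ∈ Subgroup.center G, ∃ p : ℕ, p.Prime ∧ n + 1 < p ∧ orderOf z = p
    · obtain ⟨z, hz, p, hp, hnp, hzp⟩ := hcen
      haveI := Fact.mk hp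
      obtain ⟨K, hK, hzK, hKp, χ', hχ', h1, hf'⟩ :=
        exists_reduction hχ hfaith hn (show n < p by omega) hz hzp
      haveI := Fintype.ofFinite (G ⧸ K)
      have hlt : Nat.card (G ⧸ K) ≤ k := by
        have h2 := Subgroup.card_eq_card_quotient_mul_card_subgroup K
        have h3 : 1 < Nat.card K := by
          rw [Finite.one_lt_card_iff_nontrivial, Subgroup.nontrivial_iff_exists_ne_one]
          exact ⟨z, hzK, fun h => hp.one_lt.ne' (by rw [← hzp, h, orderOf_one])⟩
        nlinarith [Nat.card_pos (α := G ⧸ K)]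
      obtain ⟨A, -, hA1, hA2⟩ := IH (G ⧸ K) hlt χ' hχ' hf' h1
      set H := A.comap (QuotientGroup.mk' K)
      have hcard : ∀ q : ℕ, q.Prime → q ∣ Nat.card H → n + 1 < q := by
        intro q hq hqH
        have e : Nat.card H = Nat.card A * Nat.card K := by
          have hi : H.index = A.index := Subgroup.index_comap_of_surjective _
            (QuotientGroup.mk'_surjective K)
          have e1 := H.card_mul_index
          have e2 := A.card_mul_index
          have e3 := Subgroup.card_eq_card_quotient_mul_card_subgroup K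
          rw [hi, e3, ← e2] at e1
          exact Nat.eq_of_mul_eq_mul_right (Nat.pos_of_ne_zero Subgroup.index_ne_zero_of_finite)
            (e1.trans (by ring))
        rw [e] at hqH
        rcases (hq.dvd_mul).mp hqH with h | h
        · exact hA1 q hq h
        · obtain ⟨j, hj⟩ := IsPGroup.iff_card.mp hKp
          rw [hj] at h
          rw [(Nat.prime_dvd_prime_iff_eq hq hp).mp (hq.dvd_of_dvd_pow h)]
          exact hnp
      refine ⟨H, hab H hcard, hcard, ?_⟩
      rw [Subgroup.index_comap_of_surjective _ (QuotientGroup.mk'_surjective K)]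
      exact hA2
    push Not at hcen
    -- centralizers of elements of large prime order are proper
    have hrec : ∀ (p : ℕ), p.Prime → n + 1 < p → ∀ x : G, orderOf x = p →
        HasHall n (Subgroup.centralizer ({x} : Set G)) := by
      intro p hp hnp x hx
      set T := Subgroup.centralizer ({x} : Set G)
      haveI := Fintype.ofFinite T
      refine IH T ?_ (fun t => χ t) (IsChar.res hχ T)
        (fun g hg => Subtype.ext (hfaith g (by simpa using hg))) (by simpa using hn)
      have hne : T ≠ ⊤ := fun h => hcen x (Subgroup.mem_center_iff.mpr fun g =>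
        Subgroup.mem_centralizer_singleton_iff.mp (h ▸ Subgroup.mem_top g : g ∈ T)) p hp hnp hx
      have h1 : Nat.card T < Nat.card G := lt_of_le_of_ne (Subgroup.card_le_card_group T)
        fun e => hne (Subgroup.eq_top_of_card_eq T e)
      omega
    -- Sylow subgroups for large primes are abelian
    have hsyl : ∀ (p : ℕ) [Fact p.Prime], n + 1 < p → ∀ P : Sylow p G,
        ∀ x ∈ (P : Subgroup G), ∀ y ∈ (P : Subgroup G), x * y = y * x := fun p _ hnp P =>
      hab _ fun q hq hqP => by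
        obtain ⟨j, hj⟩ := IsPGroup.iff_card.mp P.2
        rw [hj] at hqP
        rw [(Nat.prime_dvd_prime_iff_eq hq Fact.out).mp (hq.dvd_of_dvd_pow hqP)]
        exact hnp
    have hfull : ∀ (p : ℕ) [Fact p.Prime], n + 1 < p → ∀ x : G, orderOf x = p →
        p ^ (Nat.card G).factorization p ∣ Nat.card (Subgroup.centralizer ({x} : Set G)) := by
      intro p hpf hnp x hx
      obtain ⟨P, hP⟩ := (IsPGroup.of_card (p := p) (n := 1)
        (by rw [Nat.card_zpowers, hx, pow_one] : Nat.card (Subgroup.zpowers x) = p ^ 1)).exists_le_sylow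
      rw [← P.card_eq_multiplicity]
      exact Subgroup.card_dvd_of_le fun g hg => Subgroup.mem_centralizer_singleton_iff.mpr
        (hsyl p hnp P g hg x (hP (Subgroup.mem_zpowers x)))
    have hdvdA : ∀ {T : Subgroup G} {A : Subgroup T}, (∀ q : ℕ, q.Prime → q ∣ A.index → q ≤ n + 1) →
        ∀ (p : ℕ), p.Prime → n + 1 < p → ∀ e : ℕ, p ^ e ∣ Nat.card T → p ^ e ∣ Nat.card A := by
      intro T A hA p hp hnp e he
      rw [← A.card_mul_index] at he
      exact (((hp.coprime_iff_not_dvd).mpr fun h => absurd (hA p hp h) (by omega)).pow_left e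
        ).dvd_of_dvd_mul_right he
    by_cases hS : ∃ p, p.Prime ∧ n + 1 < p ∧ p ∣ Nat.card G
    swap
    · push Not at hS
      refine ⟨⊥, fun x hx y hy => by simp_all [Subgroup.mem_bot],
        fun q hq h => absurd (by simpa using h) hq.ne_one, fun q hq h => ?_⟩
      by_contra hne
      exact hS q hq (by omega) (by simpa using h)
    obtain ⟨p, hp, hnp, hpG⟩ := hS
    haveI := Fact.mk hp
    by_cases hS2 : ∃ q, q.Prime ∧ n + 1 < q ∧ q ∣ Nat.card G ∧ q ≠ p
    swap
    · push Not at hS2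
      obtain ⟨P⟩ : Nonempty (Sylow p G) := inferInstance
      refine ⟨P, hsyl p hnp P, fun q hq hqP => ?_, fun q hq hqi => ?_⟩
      · obtain ⟨j, hj⟩ := IsPGroup.iff_card.mp P.2
        rw [hj] at hqP
        rw [(Nat.prime_dvd_prime_iff_eq hq hp).mp (hq.dvd_of_dvd_pow hqP)]
        exact hnp
      · by_contra hne
        have : q = p := hS2 q hq (by omega) (hqi.trans (Subgroup.index_dvd_card _))
        exact P.not_dvd_index (this ▸ hqi)
    -- pairs of primes
    have hpair : ∀ (p q : ℕ) [Fact p.Prime] [Fact q.Prime], p ≠ q → n + 1 < p → n + 1 < q →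
        p ∣ Nat.card G → q ∣ Nat.card G → ∃ A : Subgroup G,
          (∀ x ∈ A, ∀ y ∈ A, x * y = y * x) ∧
          p ^ (Nat.card G).factorization p ∣ Nat.card A ∧
          q ^ (Nat.card G).factorization q ∣ Nat.card A := by
      intro p q hpf hqf hpq hnp hnq hpG hqG
      obtain ⟨x, y, hx, hy, hxy⟩ := exists_commuting hχ hfaith hn hnp hnq hpG hqG
      obtain ⟨A, hA0, hA1, hA2⟩ := hrec p hpf.out hnp x hx
      have h1 := hdvdA hA2 p hpf.out hnp _ (hfull p hnp x hx)
      have hqT : q ^ 1 ∣ Nat.card (Subgroup.centralizer ({x} : Set G)) := by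
        rw [pow_one, ← hy, ← Nat.card_zpowers]
        exact Subgroup.card_dvd_of_le (Subgroup.zpowers_le.mpr
          (Subgroup.mem_centralizer_singleton_iff.mpr hxy.symm))
      have hqA := hdvdA hA2 q hqf.out hnq 1 hqT
      rw [pow_one] at hqA
      obtain ⟨r, hr⟩ := exists_prime_orderOf_dvd_card' (G := A) q hqA
      set r' : G := ((r : Subgroup.centralizer ({x} : Set G)) : G)
      have hr' : orderOf r' = q := by rw [← hr]; simp [r']
      obtain ⟨B, hB0, hB1, hB2⟩ := hrec q hqf.out hnq r' hr'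
      refine ⟨B.map (Subgroup.subtype _), ?_, ?_, ?_⟩
      · rintro _ ⟨a, ha, rfl⟩ _ ⟨b, hb, rfl⟩
        exact congrArg Subtype.val (hB0 a ha b hb)
      · rw [Subgroup.card_map_of_injective (Subgroup.subtype_injective _)]
        refine hdvdA hB2 p hpf.out hnp _ (h1.trans ?_)
        rw [← Subgroup.card_map_of_injective (Subgroup.subtype_injective _) (K := A)]
        refine Subgroup.card_dvd_of_le ?_
        rintro _ ⟨a, ha, rfl⟩
        exact Subgroup.mem_centralizer_singleton_iff.mpr (congrArg Subtype.val (hA0 a ha r r.2))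
      · rw [Subgroup.card_map_of_injective (Subgroup.subtype_injective _)]
        exact hdvdA hB2 q hqf.out hnq _ (hfull q hnq r' hr')
    obtain ⟨x, hx⟩ := exists_prime_orderOf_dvd_card' p hpG
    set T := Subgroup.centralizer ({x} : Set G) with hT
    obtain ⟨A, hA0, hA1, hA2⟩ := hrec p hp hnp x hx
    have hall : ∀ q, q.Prime → n + 1 < q → q ∣ Nat.card G →
        q ^ (Nat.card G).factorization q ∣ Nat.card T := by
      intro q hq hnq hqG
      haveI := Fact.mk hq
      by_cases hqp : q = p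
      · subst hqp; exact hfull q hnq x hx
      obtain ⟨B, hB0, hBp, hBq⟩ := hpair p q (fun h => hqp h.symm) hnp hnq hpG hqG
      obtain ⟨P, hP⟩ := (IsPGroup.of_card (p := p) (n := 1)
        (by rw [Nat.card_zpowers, hx, pow_one] : Nat.card (Subgroup.zpowers x) = p ^ 1)).exists_le_sylow
      obtain ⟨R⟩ : Nonempty (Sylow p B) := inferInstance
      have hRc : Nat.card ((R : Subgroup B).map B.subtype) = p ^ (Nat.card G).factorization p := by
        rw [Subgroup.card_map_of_injective (Subgroup.subtype_injective _), R.card_eq_multiplicity]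
        congr 1
        refine le_antisymm ?_ ?_
        · exact (Nat.factorization_le_iff_dvd Nat.card_pos.ne' Nat.card_pos.ne').mpr
            (Subgroup.card_subgroup_dvd_card B) p
        · exact (hp.pow_dvd_iff_le_factorization Nat.card_pos.ne').mp hBp
      obtain ⟨g, hg⟩ := MulAction.exists_smul_eq G (Sylow.ofCard _ hRc) P
      have hxg : ∃ x0 ∈ B, g * x0 * g⁻¹ = x := by
        have h' : x ∈ ((g • Sylow.ofCard _ hRc : Sylow p G) : Subgroup G) :=
          hg ▸ hP (Subgroup.mem_zpowers x)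
        rw [Sylow.coe_subgroup_smul, Subgroup.mem_pointwise_smul_iff_inv_smul_mem] at h'
        obtain ⟨b, -, hb⟩ := h'
        refine ⟨(b : G), b.2, ?_⟩
        simp [MulAut.smul_def] at hb
        rw [hb]; group
      obtain ⟨x0, hx0, hxe⟩ := hxg
      refine hBq.trans ?_
      rw [← Subgroup.card_map_of_injective (K := B) (f := (MulAut.conj g).toMonoidHom)
        (MulAut.conj g).injective]
      refine Subgroup.card_dvd_of_le ?_
      rintro _ ⟨b, hb, rfl⟩
      rw [hT, Subgroup.mem_centralizer_singleton_iff, ← hxe]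
      show MulAut.conj g b * MulAut.conj g x0 = MulAut.conj g x0 * MulAut.conj g b
      rw [← map_mul, ← map_mul, hB0 b hb x0 hx0]
    refine ⟨A.map T.subtype, ?_, ?_, fun q hq hqi => ?_⟩
    · rintro _ ⟨a, ha, rfl⟩ _ ⟨b, hb, rfl⟩
      exact congrArg Subtype.val (hA0 a ha b hb)
    · rw [Subgroup.card_map_of_injective (Subgroup.subtype_injective _)]
      exact hA1
    · by_contra hne
      have hqG : q ∣ Nat.card G := hqi.trans (Subgroup.index_dvd_card _)
      rw [Subgroup.index_map_subtype] at hqi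
      rcases hq.dvd_mul.mp hqi with h | h
      · exact hne (hA2 q hq h)
      · have h1 := hall q hq (by omega) hqG
        have h2 : q ^ ((Nat.card G).factorization q + 1) ∣ Nat.card G := by
          have h3 := mul_dvd_mul h1 h
          rwa [T.card_mul_index, ← pow_succ] at h3
        have := (hq.pow_dvd_iff_le_factorization Nat.card_pos.ne').mp h2
        omega

theorem exists_hall {χ : G → ℂ} (hχ : IsCharacter G χ) (hfaith : ∀ g, χ g = χ 1 → g = 1)
    {n : ℕ} (hn : χ 1 = n) : HasHall n G :=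
  exists_hall_aux n _ G le_rfl χ hχ hfaith hn

end Cfsg.Agent.Char.Blichfeldt
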