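import Cfsg.Agent.Lib.Char.PairBasic

/-!
Inclusion of Brauer pairs: existence and uniqueness of the subpair on each subgroup.
-/

namespace Cfsg.Agent.Char.BP

open Cfsg.Agent.Block

set_option linter.unusedSectionVars false
set_option linter.style.haveILetI false

universe u

variable {G : Type u} [Group G] [Fintype G] {p : ℕ} {M : Ideal AlgInt}

/-! ### Conjugation -/

theorem mem_map_conj {x g : G} {Q : Subgroup G} :
    g ∈ Q.map (MulAut.conj x).toMonoidHom ↔ x⁻¹ * g * x ∈ Q := by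
  constructor
  · rintro ⟨q, hq, rfl⟩
    simpa [mul_assoc] using hq
  · intro h
    exact ⟨x⁻¹ * g * x, h, by simp [mul_assoc]⟩

theorem conj_mem_map_conj {x g : G} {Q : Subgroup G} :
    x * g * x⁻¹ ∈ Q.map (MulAut.conj x).toMonoidHom ↔ g ∈ Q := by
  rw [mem_map_conj]; simp [mul_assoc]

theorem map_conj_conj (x y : G) (Q : Subgroup G) :
    (Q.map (MulAut.conj x).toMonoidHom).map (MulAut.conj y).toMonoidHom =
      Q.map (MulAut.conj (y * x)).toMonoidHom := by
  ext g
  simp only [mem_map_conj, mul_inv_rev, mul_assoc]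

theorem map_conj_one (Q : Subgroup G) : Q.map (MulAut.conj (1 : G)).toMonoidHom = Q := by
  ext g
  simp [mem_map_conj]

theorem map_conj_eq_of_normalizer {x : G} {Q : Subgroup G}
    (hx : x ∈ Subgroup.normalizer (Q : Set G)) : Q.map (MulAut.conj x).toMonoidHom = Q := by
  ext g
  rw [mem_map_conj]
  have := Subgroup.mem_normalizer_iff.1 (inv_mem hx) g
  simp only [inv_inv, SetLike.mem_coe] at this
  exact this.symm

/-- Conjugation by `x` between two subgroups. -/
def conjIso (x : G) {W W' : Subgroup G} (h : ∀ g, g ∈ W ↔ x * g * x⁻¹ ∈ W') : W ≃* W' where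
  toFun w := ⟨x * w * x⁻¹, (h w).1 w.2⟩
  invFun w := ⟨x⁻¹ * w * x, (h _).2 (by simp [mul_assoc])⟩
  left_inv w := Subtype.ext (show x⁻¹ * (x * (w : G) * x⁻¹) * x = w by group)
  right_inv w := Subtype.ext (show x * (x⁻¹ * (w : G) * x) * x⁻¹ = w by group)
  map_mul' v w := Subtype.ext
    (show x * ((v : G) * w) * x⁻¹ = (x * v * x⁻¹) * (x * w * x⁻¹) by group)

theorem conjIso_coe (x : G) {W W' : Subgroup G} (h : ∀ g, g ∈ W ↔ x * g * x⁻¹ ∈ W') (w : W) :
    (conjIso x h w : G) = x * w * x⁻¹ := rfl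

theorem cg_map_conj (x : G) (Q : Subgroup G) (g : G) :
    g ∈ CG Q ↔ x * g * x⁻¹ ∈ CG (Q.map (MulAut.conj x).toMonoidHom) := by
  simp only [Subgroup.mem_centralizer_iff, SetLike.mem_coe]
  constructor
  · intro h u hu
    have h' := congrArg (fun z => x * z * x⁻¹) (h _ (mem_map_conj.1 hu))
    simpa [mul_assoc] using h'
  · intro h u hu
    have h' := congrArg (fun z => x⁻¹ * z * x) (h _ (conj_mem_map_conj.2 hu))
    simpa [mul_assoc] using h'

theorem cg_normalizer {u : G} {Q : Subgroup G} (hu : u ∈ Subgroup.normalizer (Q : Set G))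
    (g : G) : g ∈ CG Q ↔ u * g * u⁻¹ ∈ CG Q := by
  have h := cg_map_conj u Q g
  rwa [map_conj_eq_of_normalizer hu] at h

theorem mem_normalizer_cg {u : G} {Q : Subgroup G} (hu : u ∈ Subgroup.normalizer (Q : Set G)) :
    u ∈ Subgroup.normalizer (CG Q : Set G) :=
  Subgroup.mem_normalizer_iff.2 (cg_normalizer hu)

theorem Inv.map_conj {W : Subgroup G} {a : G → ℂ} (h : Inv W a) (x : G) :
    Inv (W.map (MulAut.conj x).toMonoidHom) (cfun x a) := by
  intro v hv g
  have := h _ (mem_map_conj.1 hv) (x⁻¹ * g * x)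
  simpa [cfun, mul_assoc] using this

theorem cfun_classFun {a : G → ℂ} (h : IsClassFunction G a) (x : G) : cfun x a = a :=
  funext fun g => by simpa [cfun] using h g x⁻¹

/-! ### Blocks of subgroups as functions on the group -/

/-- The idempotent coefficients of a block of a subgroup. -/
noncomputable abbrev bc (W : Subgroup G) (f : Set (IrrCharacter W)) : G → ℂ :=
  subgroupBlockCoeff W f

theorem bc_coe (W : Subgroup G) (f : Set (IrrCharacter W)) (w : W) :
    bc W f (w : G) = blockCoeff f w := by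
  simp [bc, subgroupBlockCoeff, w.2]

theorem bc_supp (W : Subgroup G) (f : Set (IrrCharacter W)) : Supp W (bc W f) := fun g hg => by
  simp [bc, subgroupBlockCoeff, hg]

theorem bc_res (W : Subgroup G) (f : Set (IrrCharacter W)) : res W (bc W f) = blockCoeff f :=
  funext (bc_coe W f)

theorem bc_inv_self (W : Subgroup G) (f : Set (IrrCharacter W)) : Inv W (bc W f) := by
  intro x hx g
  by_cases hg : g ∈ W
  · have h := blockCoeff_classFun f ⟨g, hg⟩ ⟨x, hx⟩
    rw [← bc_coe W f ⟨g, hg⟩, ← bc_coe W f (⟨x, hx⟩ * ⟨g, hg⟩ * ⟨x, hx⟩⁻¹)] at h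
    exact h
  · rw [bc_supp W f g hg, bc_supp W f _ fun h => hg ?_]
    simpa [mul_assoc] using mul_mem (mul_mem (inv_mem hx) h) hx

theorem bc_ring (hM : IsPModular p M) {W : Subgroup G} {f : Set (IrrCharacter W)}
    (hf : IsPBlock M f) (g : G) : MemLocalRing M (bc W f g) := by
  by_cases hg : g ∈ W
  · rw [show bc W f g = blockCoeff f ⟨g, hg⟩ from bc_coe W f ⟨g, hg⟩]
    exact blockCoeff_ring hM hf _
  · rw [bc_supp W f g hg]; exact ring_zero hM

theorem bc_idem (hM : IsPModular p M) {W : Subgroup G} {f : Set (IrrCharacter W)}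
    (hf : IsPBlock M f) : Idem M (bc W f) := by
  letI := Fintype.ofFinite W
  refine ⟨bc_ring hM hf, funext fun g => ?_⟩
  by_cases hg : g ∈ W
  · have h := conv_res W (bc W f) (bc_supp W f) ⟨g, hg⟩
    rw [bc_res, convFun_blockCoeff, ← bc_coe] at h
    exact h
  · rw [bc_supp W f g hg, (bc_supp W f).conv (bc_supp W f) g hg]

theorem bc_mul_ne (hM : IsPModular p M) {W : Subgroup G} {f f' : Set (IrrCharacter W)}
    (hf : IsPBlock M f) (hf' : IsPBlock M f') (hne : f ≠ f') :
    convFun (bc W f) (bc W f') = 0 := by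
  letI := Fintype.ofFinite W
  funext g
  by_cases hg : g ∈ W
  · have h0 : blockInd f * blockInd f' = (0 : IrrCharacter W → ℂ) := by
      funext ξ
      by_cases h1 : ξ ∈ f
      · have h2 : ξ ∉ f' := fun h2 => hne
          ((pblock_eq_blockOf hM hf h1).trans (pblock_eq_blockOf hM hf' h2).symm)
        simp [blockInd_of_notMem h2]
      · simp [blockInd_of_notMem h1]
    have h := conv_res W (bc W f') (bc_supp W f) ⟨g, hg⟩
    rw [bc_res, bc_res, funext (blockCoeff_eq f), funext (blockCoeff_eq f'), ← coeffFun_mul, h0]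
      at h
    rw [h, ← sub_self (1 : IrrCharacter W → ℂ), coeffFun_sub, sub_self, Pi.zero_apply]
  · rw [(bc_supp W f).conv (bc_supp W f') g hg, Pi.zero_apply]

theorem bc_inj {W : Subgroup G} {f f' : Set (IrrCharacter W)} (h : bc W f = bc W f') : f = f' := by
  have h1 : coeffFun (blockInd f) = coeffFun (blockInd f') := funext fun w => by
    rw [← blockCoeff_eq, ← blockCoeff_eq, ← bc_coe, ← bc_coe, h]
  have h2 := eq_of_coeffFun_eq h1
  ext ξ
  have h3 := congrFun h2 ξ
  by_cases h4 : ξ ∈ f <;> by_cases h5 : ξ ∈ f' <;> simp_all [blockInd]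

theorem bc_pullB (x : G) {W W' : Subgroup G} (h : ∀ g, g ∈ W ↔ x * g * x⁻¹ ∈ W')
    (f : Set (IrrCharacter W)) : bc W' (pullB (conjIso x h) f) = cfun x (bc W f) := by
  funext g
  have hc : x * (x⁻¹ * g * x) * x⁻¹ = g := by group
  by_cases hg : x⁻¹ * g * x ∈ W
  · have h1 := blockCoeff_pullB (conjIso x h) f ⟨_, hg⟩
    rw [← bc_coe, ← bc_coe, conjIso_coe, hc] at h1
    exact h1
  · have hg' : g ∉ W' := fun hh => hg ((h _).2 (by rwa [hc]))
    rw [bc_supp W' _ g hg', cfun, bc_supp W f _ hg]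

theorem stabilizes_iff (hM : IsPModular p M) {W : Subgroup G} {f : Set (IrrCharacter W)}
    (hf : IsPBlock M f) {x : G} (hx : x ∈ Subgroup.normalizer (W : Set G)) :
    StabilizesBlock W f x ↔ cfun x (bc W f) = bc W f := by
  have hW : ∀ g, g ∈ W ↔ x * g * x⁻¹ ∈ W := Subgroup.mem_normalizer_iff.1 hx
  have hp := isPBlock_pullB hM (conjIso x hW) hf
  constructor
  · intro h
    obtain ⟨χ, hχ⟩ := pblock_nonempty hM hf
    obtain ⟨χ', hχ', hconj⟩ := h.2 χ hχ
    have heq : irrPull (conjIso x hW) χ' = χ :=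
      Subtype.ext (funext fun k => hconj k (conjIso x hW k) rfl)
    have hmem : χ' ∈ pullB (conjIso x hW) f := by
      show irrPull (conjIso x hW) χ' ∈ f
      rwa [heq]
    rw [← bc_pullB x hW f, pblock_eq_blockOf hM hp hmem, ← pblock_eq_blockOf hM hf hχ']
  · intro h
    rw [← bc_pullB x hW f] at h
    have heq := bc_inj h
    refine ⟨hx, fun χ hχ => ⟨irrPull (conjIso x hW).symm χ, ?_, fun k k' hk => ?_⟩⟩
    · rw [← heq]
      show irrPull (conjIso x hW) (irrPull (conjIso x hW).symm χ) ∈ f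
      rwa [irrPull_symm_self]
    · have : k' = conjIso x hW k := Subtype.ext hk
      rw [this]
      simp

/-- The blocks of a subgroup. -/
noncomputable def blks (M : Ideal AlgInt) (W : Subgroup G) : Finset (Set (IrrCharacter W)) :=
  (Set.toFinite {f : Set (IrrCharacter W) | IsPBlock M f}).toFinset

theorem mem_blks {W : Subgroup G} {f : Set (IrrCharacter W)} :
    f ∈ blks M W ↔ IsPBlock M f := by
  simp [blks]

theorem sum_blks (hM : IsPModular p M) (W : Subgroup G) {g : G} (hg : g ∈ W) :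
    ∑ f ∈ blks M W, bc W f g = dlt g := by
  classical
  cases nonempty_fintype (IrrCharacter W)
  have h1 : ∀ ξ : IrrCharacter W, ∑ f ∈ blks M W, blockInd f ξ = 1 := by
    intro ξ
    rw [Finset.sum_eq_single (blockOf M (ξ : W → ℂ))]
    · exact blockInd_of_mem (mem_blockOf_self hM ξ)
    · intro f hf hne
      exact blockInd_of_notMem fun h => hne (pblock_eq_blockOf hM (mem_blks.1 hf) h)
    · exact fun h => absurd (mem_blks.2 (isPBlock_blockOf ξ)) h
  have h2 : ∑ f ∈ blks M W, blockCoeff f (⟨g, hg⟩ : W) =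
      coeffFun (1 : IrrCharacter W → ℂ) (⟨g, hg⟩ : W) := by
    simp only [blockCoeff_eq, coeffFun_eq_sum]
    rw [← Finset.mul_sum, Finset.sum_comm]
    congr 1
    refine Finset.sum_congr rfl fun ξ _ => ?_
    rw [← Finset.sum_mul, ← Finset.sum_mul, h1, Pi.one_apply]
  rw [coeffFun_one] at h2
  rw [Finset.sum_congr rfl fun f _ => (bc_coe W f ⟨g, hg⟩), h2, dlt]
  exact if_congr (by simp [Subtype.ext_iff]) rfl rfl

/-- A pair carries a stable block of any subgroup containing its centralizer and normalized by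
it. -/
theorem exists_holds_block (hM : IsPModular p M) {x : BrauerPairIdx G}
    (hx : IsBrauerPair p M x.1 x.2) {W : Subgroup G} (hCW : CG x.1 ≤ W)
    (hN : x.1 ≤ Subgroup.normalizer (W : Set G)) :
    ∃ f, IsPBlock M f ∧ Inv x.1 (bc W f) ∧ Holds M x (bc W f) := by
  classical
  set S : Finset (G → ℂ) := (blks M W).image (bc W) with hS
  have hmem : ∀ φ ∈ S, ∃ f, IsPBlock M f ∧ bc W f = φ := fun φ hφ => by
    obtain ⟨f, hf, rfl⟩ := Finset.mem_image.1 hφ
    exact ⟨f, mem_blks.1 hf, rfl⟩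
  have hclosed : ∀ u ∈ x.1, ∀ φ ∈ S, cfun u φ ∈ S := by
    intro u hu φ hφ
    obtain ⟨f, hf, rfl⟩ := hmem φ hφ
    rw [← bc_pullB u (Subgroup.mem_normalizer_iff.1 (hN hu)) f]
    exact Finset.mem_image_of_mem _ (mem_blks.2 (isPBlock_pullB hM _ hf))
  obtain ⟨φ, hφ, hH⟩ := exists_holds_of_sum hM hx (S.filter fun φ => Inv x.1 φ) id
    (fun φ hφ => by
      obtain ⟨f, hf, rfl⟩ := hmem φ (Finset.mem_filter.1 hφ).1
      exact bc_idem hM hf)
    (fun φ hφ => (Finset.mem_filter.1 hφ).2)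
    (fun φ hφ => by
      obtain ⟨f, hf, rfl⟩ := hmem φ (Finset.mem_filter.1 hφ).1
      exact (bc_inv_self W f).mono hCW)
    (fun c hc => by
      have h := sum_inv_congr hM hx.1 S hclosed (fun φ hφ => by
        obtain ⟨f, hf, rfl⟩ := hmem φ hφ
        exact bc_ring hM hf) hc
      rw [hS, Finset.sum_image (fun f _ f' _ h => bc_inj h), sum_blks hM W (hCW hc), ← hS] at h
      exact ideal_sub_comm h)
  obtain ⟨f, hf, rfl⟩ := hmem φ (Finset.mem_filter.1 hφ).1
  exact ⟨f, hf, (Finset.mem_filter.1 hφ).2, hH⟩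

theorem holds_block_unique (hM : IsPModular p M) {x : BrauerPairIdx G}
    (hx : IsBrauerPair p M x.1 x.2) {W : Subgroup G} (hCW : CG x.1 ≤ W)
    {f f' : Set (IrrCharacter W)} (hf : IsPBlock M f) (hf' : IsPBlock M f')
    (hi : Inv x.1 (bc W f)) (hi' : Inv x.1 (bc W f'))
    (hH : Holds M x (bc W f)) (hH' : Holds M x (bc W f')) : f = f' := by
  by_contra hne
  exact holds_mul_ne_zero hM hx (bc_ring hM hf) (bc_ring hM hf') hi hi'
    ((bc_inv_self W f).mono hCW) ((bc_inv_self W f').mono hCW) hH hH' (bc_mul_ne hM hf hf' hne)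

/-! ### Pairs -/

/-- A Brauer pair, on the index type. -/
abbrev IsPr (p : ℕ) (M : Ideal AlgInt) (x : BrauerPairIdx G) : Prop := IsBrauerPair p M x.1 x.2

/-- The function on the group attached to a pair. -/
noncomputable abbrev be (x : BrauerPairIdx G) : G → ℂ := bc (CG x.1) x.2

theorem be_idem (hM : IsPModular p M) {x : BrauerPairIdx G} (hx : IsPr p M x) :
    Idem M (be x) := bc_idem hM hx.2

theorem be_inv_cg (x : BrauerPairIdx G) : Inv (CG x.1) (be x) := bc_inv_self _ _

theorem be_inv_self (x : BrauerPairIdx G) : Inv x.1 (be x) := by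
  intro u hu g
  show bc (CG x.1) x.2 (u * g * u⁻¹) = bc (CG x.1) x.2 g
  by_cases hg : g ∈ CG x.1
  · rw [Subgroup.mem_centralizer_iff.1 hg u hu, mul_inv_cancel_right]
  · rw [bc_supp _ _ g hg, bc_supp _ _ _ fun h =>
      hg ((cg_normalizer (Subgroup.le_normalizer hu) g).2 h)]

theorem idx_ext {x y : BrauerPairIdx G} (h : x.1 = y.1) (hb : be x = be y) : x = y := by
  obtain ⟨Q, f⟩ := x
  obtain ⟨Q', f'⟩ := y
  obtain rfl : Q = Q' := h
  obtain rfl : f = f' := bc_inj (W := CG Q) hb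
  rfl

theorem holds_be_self (hM : IsPModular p M) {x : BrauerPairIdx G} : Holds M x (be x) := by
  intro ξ hξ
  letI := Fintype.ofFinite (CG x.1)
  rw [val_eq, bc_res, funext (blockCoeff_eq x.2), omegaFun_coeffFun, blockInd_of_mem hξ, sub_self]
  exact ideal_zero hM

/-- Normal inclusion on the index type. -/
abbrev Step (p : ℕ) (M : Ideal AlgInt) (x y : BrauerPairIdx G) : Prop := NormalSubpairRel p M x y

/-- Inclusion on the index type. -/
abbrev LE (p : ℕ) (M : Ideal AlgInt) (x y : BrauerPairIdx G) : Prop :=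
  Relation.ReflTransGen (NormalSubpairRel p M) x y

theorem step_iff (hM : IsPModular p M) {x y : BrauerPairIdx G} :
    Step p M x y ↔ IsPr p M x ∧ IsPr p M y ∧ x.1 ≤ y.1 ∧
      y.1 ≤ Subgroup.normalizer (x.1 : Set G) ∧ Inv y.1 (be x) ∧ Holds M y (be x) := by
  constructor
  · rintro ⟨h1, h2, h3, h4, h5, h6⟩
    exact ⟨h1, h2, h3, h4, inv_iff_cfun.2 fun u hu =>
      (stabilizes_iff hM h1.2 (mem_normalizer_cg (h4 hu))).1 (h5 u hu), h6⟩
  · rintro ⟨h1, h2, h3, h4, h5, h6⟩
    exact ⟨h1, h2, h3, h4, fun u hu =>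
      (stabilizes_iff hM h1.2 (mem_normalizer_cg (h4 hu))).2 (inv_iff_cfun.1 h5 u hu), h6⟩

theorem step_refl (hM : IsPModular p M) {x : BrauerPairIdx G} (hx : IsPr p M x) : Step p M x x :=
  (step_iff hM).2 ⟨hx, hx, le_rfl, Subgroup.le_normalizer, be_inv_self x, holds_be_self hM⟩

theorem step_unique (hM : IsPModular p M) {a b c : BrauerPairIdx G} (ha : Step p M a c)
    (hb : Step p M b c) (h : a.1 = b.1) : a = b := by
  obtain ⟨Q, f⟩ := a
  obtain ⟨Q', f'⟩ := b
  obtain rfl : Q = Q' := h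
  obtain ⟨ha1, hc, hle, -, hai, haH⟩ := (step_iff hM).1 ha
  obtain ⟨hb1, -, -, -, hbi, hbH⟩ := (step_iff hM).1 hb
  obtain rfl : f = f' := holds_block_unique hM hc (W := CG Q) (Subgroup.centralizer_le hle)
    ha1.2 hb1.2 hai hbi haH hbH
  rfl

theorem step_exists (hM : IsPModular p M) {c : BrauerPairIdx G} (hc : IsPr p M c) {Q : Subgroup G}
    (hQ : Q ≤ c.1) (hN : c.1 ≤ Subgroup.normalizer (Q : Set G)) :
    ∃ a : BrauerPairIdx G, a.1 = Q ∧ Step p M a c := by
  obtain ⟨f, hf, hi, hH⟩ := exists_holds_block hM hc (W := CG Q) (Subgroup.centralizer_le hQ)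
    fun u hu => mem_normalizer_cg (hN hu)
  exact ⟨⟨Q, f⟩, rfl, (step_iff hM).2 ⟨⟨hc.1.to_le hQ, hf⟩, hc, hQ, hN, hi, hH⟩⟩

/-! ### Conjugation of pairs -/

/-- Conjugate pair. -/
noncomputable def cjI (x : G) (a : BrauerPairIdx G) : BrauerPairIdx G :=
  ⟨a.1.map (MulAut.conj x).toMonoidHom, conjBlock a.1 x a.2⟩

theorem conjBlock_eq (x : G) (Q : Subgroup G) (f : Set (IrrCharacter (CG Q))) :
    conjBlock Q x f = pullB (conjIso x (cg_map_conj x Q)) f := by
  ext ξ'
  constructor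
  · rintro ⟨ξ, hξ, h⟩
    have he : irrPull (conjIso x (cg_map_conj x Q)) ξ' = ξ :=
      Subtype.ext (funext fun c => h c (conjIso x (cg_map_conj x Q) c) rfl)
    show irrPull (conjIso x (cg_map_conj x Q)) ξ' ∈ f
    rwa [he]
  · intro h
    refine ⟨_, h, fun c c' hc => ?_⟩
    obtain rfl : c' = conjIso x (cg_map_conj x Q) c := Subtype.ext hc
    rfl

theorem be_cjI (x : G) (a : BrauerPairIdx G) : be (cjI x a) = cfun x (be a) := by
  show bc (CG (a.1.map (MulAut.conj x).toMonoidHom)) (conjBlock a.1 x a.2) = _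
  rw [conjBlock_eq, bc_pullB]

theorem isPr_cjI (hM : IsPModular p M) (x : G) {a : BrauerPairIdx G} (ha : IsPr p M a) :
    IsPr p M (cjI x a) := by
  refine ⟨ha.1.map _, ?_⟩
  show IsPBlock M (conjBlock a.1 x a.2)
  rw [conjBlock_eq]
  exact isPBlock_pullB hM _ ha.2

theorem holds_cjI (x : G) (a : BrauerPairIdx G) (φ : G → ℂ) :
    Holds M (cjI x a) (cfun x φ) ↔ Holds M a φ := by
  obtain ⟨Q, f⟩ := a
  show Holds M (⟨Q.map (MulAut.conj x).toMonoidHom, conjBlock Q x f⟩ : BrauerPairIdx G) _ ↔ _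
  rw [conjBlock_eq]
  exact holds_pullB (conjIso x (cg_map_conj x Q)) (fun c => by
    show φ (c : G) = φ (x⁻¹ * (x * (c : G) * x⁻¹) * x)
    simp [mul_assoc]) f

theorem holds_cjI_classFun (x : G) (a : BrauerPairIdx G) {φ : G → ℂ} (h : IsClassFunction G φ) :
    Holds M (cjI x a) φ ↔ Holds M a φ := by
  conv_lhs => rw [← cfun_classFun h x]
  exact holds_cjI x a φ

theorem cjI_cjI (x y : G) (a : BrauerPairIdx G) : cjI y (cjI x a) = cjI (y * x) a :=
  idx_ext (map_conj_conj x y a.1) (by rw [be_cjI, be_cjI, be_cjI, cfun_mul])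

theorem cjI_one (a : BrauerPairIdx G) : cjI 1 a = a :=
  idx_ext (map_conj_one a.1) (by rw [be_cjI, cfun_one])

theorem cjI_inv_cancel (x : G) (a : BrauerPairIdx G) : cjI x⁻¹ (cjI x a) = a := by
  rw [cjI_cjI, inv_mul_cancel, cjI_one]

theorem cjI_cancel_inv (x : G) (a : BrauerPairIdx G) : cjI x (cjI x⁻¹ a) = a := by
  rw [cjI_cjI, mul_inv_cancel, cjI_one]

theorem cjI_fix {u : G} {a : BrauerPairIdx G} (hu : u ∈ Subgroup.normalizer (a.1 : Set G))
    (h : cfun u (be a) = be a) : cjI u a = a :=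
  idx_ext (map_conj_eq_of_normalizer hu) (by rw [be_cjI, h])

theorem step_cjI (hM : IsPModular p M) (x : G) {a b : BrauerPairIdx G} (h : Step p M a b) :
    Step p M (cjI x a) (cjI x b) := by
  obtain ⟨h1, h2, h3, h4, h5, h6⟩ := (step_iff hM).1 h
  refine (step_iff hM).2 ⟨isPr_cjI hM x h1, isPr_cjI hM x h2, Subgroup.map_mono h3, ?_, ?_, ?_⟩
  · intro v hv
    refine Subgroup.mem_normalizer_iff.2 fun g => ?_
    show g ∈ a.1.map (MulAut.conj x).toMonoidHom ↔
      v * g * v⁻¹ ∈ a.1.map (MulAut.conj x).toMonoidHom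
    rw [mem_map_conj, mem_map_conj]
    have := Subgroup.mem_normalizer_iff.1 (h4 (mem_map_conj.1 hv)) (x⁻¹ * g * x)
    simpa [mul_assoc] using this
  · rw [be_cjI]; exact h5.map_conj x
  · rw [be_cjI]; exact (holds_cjI x b _).2 h6

theorem le_cjI (hM : IsPModular p M) (x : G) {a b : BrauerPairIdx G} (h : LE p M a b) :
    LE p M (cjI x a) (cjI x b) := by
  induction h with
  | refl => exact Relation.ReflTransGen.refl
  | tail _ hst ih => exact ih.tail (step_cjI hM x hst)

/-! ### Transfer of values along normal inclusion -/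

theorem conv_be (hM : IsPModular p M) {x : BrauerPairIdx G} (hx : IsPr p M x)
    [Fintype (CG x.1)] {a : G → ℂ}
    (ha : ∀ g, MemLocalRing M (a g)) (hai : Inv x.1 a) (haC : Inv (CG x.1) a) (c : CG x.1) :
    MemLocalIdeal M (convFun a (be x) (c : G) - coeffFun (val x.1 a * blockInd x.2) c) := by
  have h := mul_congr hM hx.1 ha (bc_ring hM hx.2) hai (be_inv_self x) c
  rw [coeffFun_mul, coeff_val haC, ← funext (blockCoeff_eq x.2), ← bc_res]
  exact h

theorem val_mul_blockInd (hM : IsPModular p M) {x : BrauerPairIdx G} (hx : IsPr p M x)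
    [Fintype (CG x.1)] {a : G → ℂ} (ha : Idem M a) (hai : Inv x.1 a) (haC : Inv (CG x.1) a) :
    CenInt M (val x.1 a * blockInd x.2) ∧
      CI M (val x.1 a * blockInd x.2 * (val x.1 a * blockInd x.2) -
        val x.1 a * blockInd x.2) := by
  refine ⟨(cenInt_val ha.1 haC).mul hM (cenInt_blockInd hM hx.2), ?_⟩
  rw [mul_mul_mul_comm, blockInd_mul_self, ← sub_mul]
  exact (val_idem hM hx.1 ha hai haC).mul_right hM (cenInt_blockInd hM hx.2)

theorem holds_conv (hM : IsPModular p M) {x : BrauerPairIdx G} (hx : IsPr p M x) {a : G → ℂ}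
    (ha : Idem M a) (hai : Inv x.1 a) (haC : Inv (CG x.1) a) (h : Holds M x a) {c : G}
    (hc : c ∈ CG x.1) : MemLocalIdeal M (convFun a (be x) c - be x c) := by
  letI := Fintype.ofFinite (CG x.1)
  obtain ⟨hF, hF2⟩ := val_mul_blockInd hM hx ha hai haC
  have hE : CI M (blockInd x.2 * blockInd x.2 - blockInd x.2) := by
    rw [blockInd_mul_self, sub_self]; exact CI.zero hM
  have hv : ∀ ξ, MemLocalIdeal M ((val x.1 a * blockInd x.2) ξ - blockInd x.2 ξ) := by
    intro ξ
    by_cases hξ : ξ ∈ x.2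
    · simpa [Pi.mul_apply, blockInd_of_mem hξ] using h ξ hξ
    · simp only [Pi.mul_apply, blockInd_of_notMem hξ, mul_zero, sub_self]
      exact ideal_zero hM
  have h1 := idem_congr hM hF (cenInt_blockInd hM hx.2) hF2 hE hv ⟨c, hc⟩
  rw [coeffFun_sub, ← blockCoeff_eq, ← bc_coe] at h1
  simpa using ideal_add hM (conv_be hM hx ha.1 hai haC ⟨c, hc⟩) h1

theorem zero_conv (hM : IsPModular p M) {x : BrauerPairIdx G} (hx : IsPr p M x) {a : G → ℂ}
    (ha : Idem M a) (hai : Inv x.1 a) (haC : Inv (CG x.1) a)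
    (h : ∀ ξ ∈ x.2, MemLocalIdeal M (val x.1 a ξ)) {c : G} (hc : c ∈ CG x.1) :
    MemLocalIdeal M (convFun a (be x) c) := by
  letI := Fintype.ofFinite (CG x.1)
  obtain ⟨hF, hF2⟩ := val_mul_blockInd hM hx ha hai haC
  have h1 := nil_idem hM hF hF2 (fun ξ => by
    by_cases hξ : ξ ∈ x.2
    · simpa [Pi.mul_apply, blockInd_of_mem hξ] using h ξ hξ
    · simp only [Pi.mul_apply, blockInd_of_notMem hξ, mul_zero]
      exact ideal_zero hM) ⟨c, hc⟩
  simpa using ideal_add hM (conv_be hM hx ha.1 hai haC ⟨c, hc⟩) h1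

theorem holds_step (hM : IsPModular p M) {x y : BrauerPairIdx G} (hxy : Step p M x y) {a : G → ℂ}
    (ha : Idem M a) (haC : Inv (CG x.1) a) (hai : Inv y.1 a) :
    Holds M y a ↔ Holds M x a := by
  obtain ⟨hx, hy, hle, -, hfi, hfH⟩ := (step_iff hM).1 hxy
  have hC : CG y.1 ≤ CG x.1 := Subgroup.centralizer_le hle
  have hconv : Inv (CG y.1) (convFun a (be x)) := (haC.mono hC).conv ((be_inv_cg x).mono hC)
  have hmul := val_mul hM hy.1 ha.1 (bc_ring hM hx.2) hai hfi (haC.mono hC) ((be_inv_cg x).mono hC)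
  have hring := val_ring hM ha.1 (haC.mono hC)
  constructor
  · intro h
    refine (holds_or hM hx ha (hai.mono hle) haC).resolve_right fun h0 => ?_
    obtain ⟨ξ, hξ⟩ := pblock_nonempty hM hy.2
    have h1 := ideal_of_coeffFun_ideal hM (f := val y.1 (convFun a (be x))) (fun c => by
      rw [coeff_val hconv]
      exact zero_conv hM hx ha (hai.mono hle) haC h0 (hC c.2)) ξ
    have h2 : MemLocalIdeal M (val y.1 a ξ * val y.1 (be x) ξ - 1) := by
      have := ideal_add hM (ideal_mul_left hM (hring ξ) (hfH ξ hξ)) (h ξ hξ)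
      convert this using 1
      show _ = val y.1 a ξ * (val y.1 (be x) ξ - 1) + (val y.1 a ξ - 1)
      ring
    exact ideal_one hM (by simpa using ideal_sub hM (ideal_sub hM h1 (hmul ξ)) h2)
  · intro h ξ hξ
    have h1 := val_congr hM hconv ((be_inv_cg x).mono hC)
      (fun c hc => holds_conv hM hx ha (hai.mono hle) haC h (hC hc)) ξ
    have h2 := ideal_mul_left hM (hring ξ) (hfH ξ hξ)
    have h3 := ideal_sub hM (ideal_add hM (ideal_sub hM h1 (hmul ξ)) (hfH ξ hξ)) h2
    convert h3 using 1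
    show _ = val y.1 (convFun a (be x)) ξ - val y.1 (be x) ξ -
      (val y.1 (convFun a (be x)) ξ - val y.1 a ξ * val y.1 (be x) ξ) + (val y.1 (be x) ξ - 1) -
      val y.1 a ξ * (val y.1 (be x) ξ - 1)
    ring

/-- Two normal inclusions compose when the smallest subgroup is normal in the largest. -/
theorem trans3 (hM : IsPModular p M) {a b c : BrauerPairIdx G} (hab : Step p M a b)
    (hbc : Step p M b c) (hN : c.1 ≤ Subgroup.normalizer (a.1 : Set G)) : Step p M a c := by
  obtain ⟨ha, -, hle, -, -, hH⟩ := (step_iff hM).1 hab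
  obtain ⟨-, hc, hle', hN', hbi, -⟩ := (step_iff hM).1 hbc
  have hinv : Inv c.1 (be a) := inv_iff_cfun.2 fun u hu => by
    have h1 := step_cjI hM u hab
    rw [cjI_fix (hN' hu) (inv_iff_cfun.1 hbi u hu)] at h1
    have h2 := step_unique hM h1 hab (map_conj_eq_of_normalizer (hN hu))
    rw [← be_cjI, h2]
  refine (step_iff hM).2 ⟨ha, hc, hle.trans hle', hN, hinv, ?_⟩
  exact (holds_step hM hbc (be_idem hM ha) ((be_inv_cg a).mono (Subgroup.centralizer_le hle))
    hinv).2 hH

theorem le_subgroup {a b : BrauerPairIdx G} (h : LE p M a b) : a.1 ≤ b.1 := by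
  induction h with
  | refl => exact le_rfl
  | tail _ hst ih => exact ih.trans hst.2.2.1

theorem le_isPr {a b : BrauerPairIdx G} (h : LE p M a b) (hb : IsPr p M b) : IsPr p M a := by
  induction h with
  | refl => exact hb
  | tail _ hst ih => exact ih hst.1

theorem exists_normalizer_gt [Fact p.Prime] {P Q : Subgroup G} (hP : IsPGroup p P) (h : Q < P) :
    Q < P ⊓ Subgroup.normalizer (Q : Set G) := by
  haveI : Group.IsNilpotent P := hP.isNilpotent
  have hne : Q.subgroupOf P < ⊤ := by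
    rw [lt_top_iff_ne_top, Ne, Subgroup.subgroupOf_eq_top]
    exact fun h' => h.not_ge h'
  refine lt_of_le_of_ne (le_inf h.le Subgroup.le_normalizer) fun heq => ?_
  refine (Group.normalizerCondition_of_isNilpotent (Q.subgroupOf P) hne).ne ?_
  refine le_antisymm Subgroup.le_normalizer fun v hv => ?_
  rw [Subgroup.mem_subgroupOf, heq, Subgroup.mem_inf]
  refine ⟨v.2, Subgroup.mem_normalizer_iff.2 fun g => ?_⟩
  have key := Subgroup.mem_normalizer_iff.1 hv
  constructor
  · intro hg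
    have := (key ⟨g, h.le hg⟩).1 (Subgroup.mem_subgroupOf.2 hg)
    simpa [Subgroup.mem_subgroupOf] using this
  · intro hg
    have hgP : g ∈ P := by
      have hg' : (v : G) * g * (v : G)⁻¹ ∈ P := h.le hg
      have := mul_mem (mul_mem (inv_mem v.2) hg') v.2
      simpa [mul_assoc] using this
    have := (key ⟨g, hgP⟩).2 (Subgroup.mem_subgroupOf.2 (by simpa using hg))
    simpa [Subgroup.mem_subgroupOf] using this

theorem exists_le [Fact p.Prime] (hM : IsPModular p M) {c : BrauerPairIdx G} (hc : IsPr p M c)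
    {Q : Subgroup G} (hQ : Q ≤ c.1) : ∃ a : BrauerPairIdx G, a.1 = Q ∧ LE p M a c := by
  suffices H : ∀ n, ∀ Q : Subgroup G, Q ≤ c.1 → Nat.card c.1 - Nat.card Q ≤ n →
      ∃ a : BrauerPairIdx G, a.1 = Q ∧ LE p M a c from H _ Q hQ le_rfl
  intro n
  induction n with
  | zero =>
    intro Q hQ hn
    refine ⟨c, ?_, Relation.ReflTransGen.refl⟩
    exact (Subgroup.eq_of_le_of_card_ge hQ (by omega)).symm
  | succ n ih =>
    intro Q hQ hn
    rcases eq_or_lt_of_le hQ with rfl | hlt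
    · exact ⟨c, rfl, Relation.ReflTransGen.refl⟩
    have h1 := exists_normalizer_gt hc.1 hlt
    set R := c.1 ⊓ Subgroup.normalizer (Q : Set G)
    have hcard : Nat.card Q < Nat.card R := by
      by_contra hh
      exact h1.ne (Subgroup.eq_of_le_of_card_ge h1.le (by omega))
    obtain ⟨r, hr, hrc⟩ := ih R inf_le_left (by omega)
    obtain ⟨a, ha, har⟩ := step_exists hM (le_isPr hrc hc) (Q := Q)
      (hr ▸ h1.le) (hr ▸ inf_le_right)
    exact ⟨a, ha, (Relation.ReflTransGen.single har).trans hrc⟩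

theorem last_step (hM : IsPModular p M) {a c : BrauerPairIdx G} (h : LE p M a c) :
    a = c ∨ ∃ d, LE p M a d ∧ Step p M d c ∧ d.1 < c.1 := by
  induction h with
  | refl => exact Or.inl rfl
  | @tail b c hab hbc ih =>
    by_cases hsub : b.1 = c.1
    · obtain rfl := step_unique hM hbc (step_refl hM hbc.2.1) hsub
      exact ih
    · exact Or.inr ⟨b, hab, hbc, lt_of_le_of_ne hbc.2.2.1 hsub⟩

theorem eq_of_le_of_subgroup (hM : IsPModular p M) {a c : BrauerPairIdx G} (h : LE p M a c)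
    (h1 : c.1 ≤ a.1) : a = c := by
  rcases last_step hM h with h2 | ⟨d, had, -, hd⟩
  · exact h2
  · exact absurd (h1.trans (le_subgroup had)) hd.not_ge

theorem le_unique [Fact p.Prime] (hM : IsPModular p M) {a b c : BrauerPairIdx G}
    (ha : LE p M a c) (hb : LE p M b c) (hab : a.1 = b.1) : a = b := by
  suffices H : ∀ n, ∀ a b c : BrauerPairIdx G, Nat.card c.1 ≤ n → LE p M a c → LE p M b c →
      a.1 = b.1 → a = b from H _ a b c le_rfl ha hb hab
  intro n
  induction n with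
  | zero =>
    intro a b c hc
    exact absurd hc (not_le_of_gt Nat.card_pos)
  | succ n ih =>
    intro a b c hc ha hb hab
    rcases last_step hM ha with rfl | ⟨d₁, had, hd₁, hlt₁⟩
    · exact (eq_of_le_of_subgroup hM hb (le_of_eq hab)).symm
    rcases last_step hM hb with rfl | ⟨d₂, hbd, hd₂, hlt₂⟩
    · exact eq_of_le_of_subgroup hM ha (le_of_eq hab.symm)
    obtain ⟨hp1, -, hle1, hN1, -, -⟩ := (step_iff hM).1 hd₁
    obtain ⟨hp2, -, hle2, hN2, -, -⟩ := (step_iff hM).1 hd₂
    set R := d₁.1 ⊓ d₂.1 with hR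
    have hNR : c.1 ≤ Subgroup.normalizer (R : Set G) := fun u hu =>
      Subgroup.mem_normalizer_iff.2 fun g => by
        rw [hR, Subgroup.mem_inf, Subgroup.mem_inf]
        exact and_congr (Subgroup.mem_normalizer_iff.1 (hN1 hu) g)
          (Subgroup.mem_normalizer_iff.1 (hN2 hu) g)
    obtain ⟨h₁, h₁R, hh₁⟩ := step_exists hM hp1 (Q := R) inf_le_left (hle1.trans hNR)
    obtain ⟨h₂, h₂R, hh₂⟩ := step_exists hM hp2 (Q := R) inf_le_right (hle2.trans hNR)
    obtain rfl : h₁ = h₂ := step_unique hM (trans3 hM hh₁ hd₁ (by rw [h₁R]; exact hNR))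
      (trans3 hM hh₂ hd₂ (by rw [h₂R]; exact hNR)) (h₁R.trans h₂R.symm)
    obtain ⟨a', ha'Q, ha'⟩ := exists_le hM hh₁.1 (Q := a.1)
      (by rw [h₁R]; exact le_inf (le_subgroup had) (hab ▸ le_subgroup hbd))
    have hc1 : Nat.card d₁.1 ≤ n := by
      have : Nat.card d₁.1 < Nat.card c.1 := by
        by_contra hh
        exact hlt₁.ne (Subgroup.eq_of_le_of_card_ge hlt₁.le (by omega))
      omega
    have hc2 : Nat.card d₂.1 ≤ n := by
      have : Nat.card d₂.1 < Nat.card c.1 := by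
        by_contra hh
        exact hlt₂.ne (Subgroup.eq_of_le_of_card_ge hlt₂.le (by omega))
      omega
    exact (ih a a' d₁ hc1 had (ha'.tail hh₁) ha'Q.symm).trans
      (ih a' b d₂ hc2 (ha'.tail hh₂) hbd (ha'Q.trans hab))

theorem exists_unique_le [Fact p.Prime] (hM : IsPModular p M) {c : BrauerPairIdx G}
    (hc : IsPr p M c) {Q : Subgroup G} (hQ : Q ≤ c.1) :
    ∃! f : Set (IrrCharacter (CG Q)), IsPBlock M f ∧
      LE p M (⟨Q, f⟩ : BrauerPairIdx G) c := by
  obtain ⟨⟨Q', f⟩, hQ', hle⟩ := exists_le hM hc hQ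
  obtain rfl : Q' = Q := hQ'
  refine ⟨f, ⟨(le_isPr hle hc).2, hle⟩, fun f' hf' => ?_⟩
  have := le_unique hM hf'.2 hle rfl
  exact eq_of_heq (Sigma.mk.inj_iff.1 this).2

end Cfsg.Agent.Char.BP
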