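import Cfsg.Agent.Lib.Char.SpectralIdem
import Cfsg.Agent.Lib.Char.PairLE
import Cfsg.Agent.Lib.Fus.Saturation

/-!
The Brauer map on the fixed points of a `p`-subgroup in the group algebra, read through
coefficients, and primitive idempotents of fixed-point algebras.
-/

namespace Cfsg.Agent.Char.Spec

open Cfsg.Agent.Block Cfsg.Agent.Char.BP

set_option linter.unusedSectionVars false
set_option linter.style.haveILetI false

universe u

variable {G : Type u} [Group G] [Fintype G] [DecidableEq G] {p : ℕ} {M : Ideal AlgInt}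

/-- The integral elements fixed by `P`. -/
def Fx (M : Ideal AlgInt) (P : Subgroup G) (a : MonoidAlgebra ℂ G) : Prop :=
  AlgRing M a ∧ ∀ u ∈ P, Commute (MonoidAlgebra.single u (1 : ℂ)) a

/-- Equal images under the Brauer map at `R`. -/
def BrEq (M : Ideal AlgInt) (R : Subgroup G) (a b : MonoidAlgebra ℂ G) : Prop :=
  ∀ c ∈ CG R, MemLocalIdeal M (a.coeff c - b.coeff c)

variable {P R : Subgroup G} {a b c : MonoidAlgebra ℂ G}

theorem comm_single_iff {z : G} :
    Commute (MonoidAlgebra.single z (1 : ℂ)) a ↔ ∀ x, a.coeff (z * x * z⁻¹) = a.coeff x := by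
  constructor
  · intro h x
    have h1 := congrArg (fun m : MonoidAlgebra ℂ G => m.coeff (z * x)) h.eq
    simp only [MonoidAlgebra.coeff_single_mul_apply, MonoidAlgebra.coeff_mul_single_apply, one_mul,
      mul_one, inv_mul_cancel_left] at h1
    exact h1.symm
  · intro h
    show _ * a = a * _
    ext x
    rw [MonoidAlgebra.coeff_single_mul_apply, MonoidAlgebra.coeff_mul_single_apply, one_mul,
      mul_one, ← h (z⁻¹ * x)]
    congr 1
    group

theorem fx_iff : Fx M P a ↔ AlgRing M a ∧ Inv P (fun g => a.coeff g) :=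
  and_congr_right fun _ => ⟨fun h u hu g => comm_single_iff.1 (h u hu) g,
    fun h u hu => comm_single_iff.2 (h u hu)⟩

theorem Fx.mono (h : Fx M P a) (hR : R ≤ P) : Fx M R a := ⟨h.1, fun u hu => h.2 u (hR hu)⟩

theorem Fx.mul (hM : IsPModular p M) (ha : Fx M P a) (hb : Fx M P b) : Fx M P (a * b) :=
  ⟨ha.1.mul hM hb.1, fun u hu => (ha.2 u hu).mul_right (hb.2 u hu)⟩

theorem Fx.add (hM : IsPModular p M) (ha : Fx M P a) (hb : Fx M P b) : Fx M P (a + b) :=
  ⟨AlgRing.add hM ha.1 hb.1, fun u hu => (ha.2 u hu).add_right (hb.2 u hu)⟩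

theorem Fx.sub (hM : IsPModular p M) (ha : Fx M P a) (hb : Fx M P b) : Fx M P (a - b) :=
  ⟨AlgRing.sub hM ha.1 hb.1, fun u hu => (ha.2 u hu).sub_right (hb.2 u hu)⟩

theorem Fx.one (hM : IsPModular p M) : Fx M P (1 : MonoidAlgebra ℂ G) :=
  ⟨AlgRing.one hM, fun _ _ => Commute.one_right _⟩

theorem Fx.pow (hM : IsPModular p M) (ha : Fx M P a) : ∀ n : ℕ, Fx M P (a ^ n)
  | 0 => by rw [pow_zero]; exact Fx.one hM
  | n + 1 => by rw [pow_succ]; exact (Fx.pow hM ha n).mul hM ha

theorem BrEq.refl (hM : IsPModular p M) (a : MonoidAlgebra ℂ G) : BrEq M R a a := fun c _ => by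
  rw [sub_self]; exact ideal_zero hM

theorem BrEq.symm (h : BrEq M R a b) : BrEq M R b a := fun c hc => ideal_sub_comm (h c hc)

theorem BrEq.trans (hM : IsPModular p M) (h : BrEq M R a b) (h' : BrEq M R b c) : BrEq M R a c :=
  fun x hx => by simpa using ideal_add hM (h x hx) (h' x hx)

theorem BrEq.of_ideal (h : AlgIdeal M a) : BrEq M R a 0 := fun c _ => by simpa using h c

theorem BrEq.sub (hM : IsPModular p M) {a' b' : MonoidAlgebra ℂ G} (h : BrEq M R a a')
    (h' : BrEq M R b b') : BrEq M R (a - b) (a' - b') := fun x hx => by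
  simp only [MonoidAlgebra.coeff_sub, Finsupp.sub_apply]
  simpa [sub_sub_sub_comm] using ideal_sub hM (h x hx) (h' x hx)

theorem BrEq.add (hM : IsPModular p M) {a' b' : MonoidAlgebra ℂ G} (h : BrEq M R a a')
    (h' : BrEq M R b b') : BrEq M R (a + b) (a' + b') := fun x hx => by
  simp only [MonoidAlgebra.coeff_add, Finsupp.add_apply]
  simpa [add_sub_add_comm] using ideal_add hM (h x hx) (h' x hx)

theorem coeff_conv (a b : MonoidAlgebra ℂ G) (g : G) :
    (a * b).coeff g = convFun (fun x => a.coeff x) (fun x => b.coeff x) g := by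
  rw [coeff_mul_apply, convFun]
  refine Fintype.sum_bijective (fun h : G => g * h⁻¹)
    ((Group.mulLeft_bijective g).comp inv_bijective) _ _ fun h => ?_
  simp [mul_assoc]

theorem coeff_mul_centralizer (hM : IsPModular p M) (hR : IsPGroup p R) [Fintype (CG R)]
    (ha : Fx M R a) (hb : Fx M R b) (x : CG R) :
    MemLocalIdeal M ((a * b).coeff x -
      convFun (fun h : CG R => a.coeff h) (fun h : CG R => b.coeff h) x) := by
  rw [coeff_conv]
  exact mul_congr hM hR ha.1 hb.1 (fx_iff.1 ha).2 (fx_iff.1 hb).2 x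

theorem BrEq.mul (hM : IsPModular p M) (hR : IsPGroup p R) {a' b' : MonoidAlgebra ℂ G}
    (ha : Fx M R a) (ha' : Fx M R a') (hb : Fx M R b) (hb' : Fx M R b') (h : BrEq M R a a')
    (h' : BrEq M R b b') : BrEq M R (a * b) (a' * b') := by
  intro x hx
  letI := Fintype.ofFinite (CG R)
  have h1 := coeff_mul_centralizer hM hR ha hb ⟨x, hx⟩
  have h2 := coeff_mul_centralizer hM hR ha' hb' ⟨x, hx⟩
  have h3 : MemLocalIdeal M
      (convFun (fun h : CG R => a.coeff h) (fun h : CG R => b.coeff h) ⟨x, hx⟩ -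
        convFun (fun h : CG R => a'.coeff h) (fun h : CG R => b'.coeff h) ⟨x, hx⟩) := by
    simp only [convFun, ← Finset.sum_sub_distrib]
    refine ideal_sum hM fun v _ => ?_
    rw [show a.coeff (v : G) * b.coeff ((v⁻¹ * ⟨x, hx⟩ : CG R) : G) -
        a'.coeff (v : G) * b'.coeff ((v⁻¹ * ⟨x, hx⟩ : CG R) : G) =
      (a.coeff (v : G) - a'.coeff (v : G)) * b.coeff ((v⁻¹ * ⟨x, hx⟩ : CG R) : G) +
        a'.coeff (v : G) * (b.coeff ((v⁻¹ * ⟨x, hx⟩ : CG R) : G) -
          b'.coeff ((v⁻¹ * ⟨x, hx⟩ : CG R) : G)) by ring]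
    exact ideal_add hM (ideal_mul_right hM (h _ v.2) (hb.1 _))
      (ideal_mul_left hM (ha'.1 _) (h' _ (v⁻¹ * ⟨x, hx⟩ : CG R).2))
  have h4 := ideal_add hM (ideal_sub hM h1 h2) h3
  convert h4 using 1
  ring

theorem BrEq.mul_zero_left (hM : IsPModular p M) (hR : IsPGroup p R) (ha : Fx M R a)
    (hb : Fx M R b) (h : BrEq M R a 0) : BrEq M R (a * b) 0 := by
  have h0 : Fx M R (0 : MonoidAlgebra ℂ G) := ⟨AlgRing.zero hM, fun _ _ => Commute.zero_right _⟩
  simpa using BrEq.mul hM hR ha h0 hb hb h (BrEq.refl hM b)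

/-! ### The idempotent of a pair -/

/-- The idempotent of a pair in the group algebra. -/
noncomputable def pz (r : BrauerPairIdx G) : MonoidAlgebra ℂ G := algOf (MonoidHom.id G) (be r)

theorem pz_coeff (r : BrauerPairIdx G) (g : G) : (pz r).coeff g = be r g := algOf_coeff_id _ _

theorem pz_ring (hM : IsPModular p M) {r : BrauerPairIdx G} (hr : IsPr p M r) :
    AlgRing M (pz r) := fun g => by rw [pz_coeff]; exact bc_ring hM hr.2 g

theorem pz_idem (hM : IsPModular p M) {r : BrauerPairIdx G} (hr : IsPr p M r) :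
    pz r * pz r = pz r := by
  rw [pz, ← algOf_convFun, (be_idem hM hr).2]

theorem pz_fx (hM : IsPModular p M) {r : BrauerPairIdx G} (hr : IsPr p M r)
    (h : Inv P (be r)) : Fx M P (pz r) :=
  fx_iff.2 ⟨pz_ring hM hr, fun u hu g => by
    show (pz r).coeff _ = (pz r).coeff g
    rw [pz_coeff, pz_coeff]; exact h u hu g⟩

theorem pz_fx_self (hM : IsPModular p M) {r : BrauerPairIdx G} (hr : IsPr p M r) :
    Fx M r.1 (pz r) := pz_fx hM hr (be_inv_self r)

/-- The idempotent of a pair is central in the Brauer quotient. -/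
theorem pz_central (hM : IsPModular p M) {r : BrauerPairIdx G} (hr : IsPr p M r)
    (ha : Fx M r.1 a) : BrEq M r.1 (a * pz r) (pz r * a) := by
  intro x hx
  letI := Fintype.ofFinite (CG r.1)
  have h1 := coeff_mul_centralizer hM hr.1 ha (pz_fx_self hM hr) ⟨x, hx⟩
  have h2 := coeff_mul_centralizer hM hr.1 (pz_fx_self hM hr) ha ⟨x, hx⟩
  have h3 : convFun (fun h : CG r.1 => a.coeff h) (fun h : CG r.1 => (pz r).coeff h) ⟨x, hx⟩ =
      convFun (fun h : CG r.1 => (pz r).coeff h) (fun h : CG r.1 => a.coeff h) ⟨x, hx⟩ := by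
    simp only [convFun, pz_coeff]
    refine Fintype.sum_bijective (fun h : CG r.1 => ⟨x, hx⟩ * h⁻¹)
      ((Group.mulLeft_bijective _).comp inv_bijective) _ _ fun h => ?_
    rw [mul_comm]
    congr 1
    · show bc (CG r.1) r.2 _ = bc (CG r.1) r.2 _
      rw [bc_coe, bc_coe, ← blockCoeff_classFun r.2 (h⁻¹ * ⟨x, hx⟩) h]
      congr 1
      group
    · congr 2
      group
  rw [h3] at h1
  simpa using ideal_sub hM h1 h2

/-- The Brauer images of the idempotents of a step. -/
theorem pz_step (hM : IsPModular p M) {r t : BrauerPairIdx G} (h : Step p M r t) :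
    BrEq M t.1 (pz t * pz r) (pz t) := by
  obtain ⟨hr, ht, hle, -, hi, hH⟩ := (step_iff hM).1 h
  have h1 : BrEq M t.1 (pz r * pz t) (pz t) := fun x hx => by
    rw [coeff_conv]
    simp only [pz_coeff]
    exact holds_conv hM ht (be_idem hM hr) hi
      ((be_inv_cg r).mono (Subgroup.centralizer_le hle)) hH hx
  exact (pz_central hM ht (pz_fx hM hr hi)).symm.trans hM h1

/-! ### Primitive idempotents -/

/-- A primitive idempotent of the integral fixed-point algebra. -/
def Prim (M : Ideal AlgInt) (P : Subgroup G) (i : MonoidAlgebra ℂ G) : Prop :=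
  Fx M P i ∧ i * i = i ∧
    ∀ q, Fx M P q → q * q = q → i * q = q → q * i = q → q = 0 ∨ q = i

/-- An element of a primitive corner is invertible there or nilpotent modulo the maximal ideal. -/
theorem prim_dichotomy (hM : IsPModular p M) {i x : MonoidAlgebra ℂ G} (hi : Prim M P i)
    (hx : Fx M P x) (hix : i * x = x) (hxi : x * i = x) :
    (∃ y, Fx M P y ∧ Commute y i ∧ x * y * i = i) ∨
      ∃ N, AlgIdeal M (x ^ N * i) := by
  obtain ⟨δ, y, hδ, hy, hδδ, hcomm, hxy, N, hN⟩ := exists_spectral hM hx.1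
  have hxc : Commute x i := hxi.trans hix.symm
  obtain ⟨hδi, hyi⟩ := hcomm i hxc
  have hδf : Fx M P δ := ⟨hδ, fun u hu => ((hcomm _ (hx.2 u hu).symm).1).symm⟩
  have hyf : Fx M P y := ⟨hy, fun u hu => ((hcomm _ (hx.2 u hu).symm).2).symm⟩
  rcases hi.2.2 (δ * i) (hδf.mul hM hi.1) (by
      rw [mul_assoc, ← mul_assoc i δ, ← hδi.eq, mul_assoc δ i i, hi.2.1, ← mul_assoc, hδδ])
      (by rw [← mul_assoc, ← hδi.eq, mul_assoc, hi.2.1]) (by rw [mul_assoc, hi.2.1]) with h | h
  · refine Or.inr ⟨N, ?_⟩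
    have h1 := AlgIdeal.mul_right hM hN hi.1.1
    rwa [mul_assoc, sub_mul, one_mul, h, sub_zero] at h1
  · refine Or.inl ⟨y, hyf, hyi, ?_⟩
    rw [← h, ← mul_assoc, hxy]

/-- An element which vanishes at `P` and is idempotent at `R` vanishes at `R`. -/
theorem prim_kill (hM : IsPModular p M) (hP : IsPGroup p P) (hR : R ≤ P)
    {i x : MonoidAlgebra ℂ G} (hi : Prim M P i) (hne : ¬ BrEq M P i 0) (hx : Fx M P x)
    (hix : i * x = x) (hxi : x * i = x) (h0 : BrEq M P x 0) (hidem : BrEq M R (x * x) x) :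
    BrEq M R x 0 := by
  rcases prim_dichotomy hM hi hx hix hxi with ⟨y, hy, -, hxy⟩ | ⟨N, hN⟩
  · refine absurd ?_ hne
    rw [← hxy, mul_assoc]
    exact BrEq.mul_zero_left hM hP hx (hy.mul hM hi.1) h0
  · rcases N with _ | n
    · rw [pow_zero, one_mul] at hN
      exact absurd (BrEq.of_ideal hN) hne
    · have hpow : ∀ n : ℕ, BrEq M R (x ^ (n + 1)) x := by
        intro n
        induction n with
        | zero => rw [pow_one]; exact BrEq.refl hM x
        | succ n ih =>
          rw [pow_succ]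
          exact (BrEq.mul hM (hP.to_le hR) ((hx.pow hM _).mono hR) (hx.mono hR) (hx.mono hR)
            (hx.mono hR) ih (BrEq.refl hM x)).trans hM hidem
      have h1 : x ^ (n + 1) * i = x ^ (n + 1) := by rw [pow_succ, mul_assoc, hxi]
      rw [h1] at hN
      exact (hpow n).symm.trans hM (BrEq.of_ideal hN)

/-- A primitive idempotent with nonzero image at `P` lives in one block of the centralizer. -/
theorem exists_top_pair (hM : IsPModular p M) (hP : IsPGroup p P)
    {i : MonoidAlgebra ℂ G} (hi : Prim M P i) (hne : ¬ BrEq M P i 0) :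
    ∃ f, IsPBlock M f ∧ BrEq M P (i * pz (⟨P, f⟩ : BrauerPairIdx G)) i := by
  classical
  obtain ⟨f, hf, hnf⟩ : ∃ f, IsPBlock M f ∧
      ¬ BrEq M P (i * pz (⟨P, f⟩ : BrauerPairIdx G)) 0 := by
    by_contra hall
    push Not at hall
    have h1 : ∑ f ∈ blks M (CG P), pz (⟨P, f⟩ : BrauerPairIdx G) = 1 := by
      ext g
      rw [MonoidAlgebra.coeff_sum, Finsupp.coe_finsetSum, Finset.sum_apply, MonoidAlgebra.one_def,
        MonoidAlgebra.coeff_single, Finsupp.single_apply]
      simp only [pz_coeff]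
      by_cases hg : g ∈ CG P
      · rw [sum_blks hM (CG P) hg, dlt]
        by_cases h : g = 1 <;> simp [h, eq_comm]
      · rw [Finset.sum_eq_zero fun f _ => bc_supp _ _ _ hg,
          if_neg fun h : 1 = g => hg (h ▸ one_mem _)]
    refine hne ?_
    rw [← mul_one i, ← h1, Finset.mul_sum]
    intro c hc
    simp only [MonoidAlgebra.coeff_sum, Finsupp.coe_finsetSum, Finset.sum_apply,
      MonoidAlgebra.coeff_zero, Finsupp.zero_apply, sub_zero]
    exact ideal_sum hM fun f hf => by simpa using hall f (mem_blks.1 hf) c hc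
  refine ⟨f, hf, ?_⟩
  set z := pz (⟨P, f⟩ : BrauerPairIdx G) with hzdef
  have hpr : IsPr p M (⟨P, f⟩ : BrauerPairIdx G) := ⟨hP, hf⟩
  have hz : Fx M P z := pz_fx_self hM hpr
  have hz1 : Fx M P (1 - z) := (Fx.one hM).sub hM hz
  have hiz : Fx M P (i * z) := hi.1.mul hM hz
  set x := i * (1 - z) * i with hxdef
  have hx : Fx M P x := (hi.1.mul hM hz1).mul hM hi.1
  have hzi : BrEq M P (z * i) (i * z) := (pz_central hM hpr hi.1).symm
  have hxw : BrEq M P x (i * (1 - z)) := by
    have h1 : BrEq M P ((1 - z) * i) (i * (1 - z)) := by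
      rw [sub_mul, one_mul, mul_sub, mul_one]
      exact BrEq.sub hM (BrEq.refl hM i) hzi
    have h2 := BrEq.mul hM hP hi.1 hi.1 (hz1.mul hM hi.1) (hi.1.mul hM hz1) (BrEq.refl hM i) h1
    rwa [← mul_assoc, ← mul_assoc, hi.2.1] at h2
  have hzw : BrEq M P (z * (i * (1 - z))) 0 := by
    have h2 := BrEq.mul hM hP (hz.mul hM hi.1) hiz hz1 hz1 hzi (BrEq.refl hM (1 - z))
    rwa [mul_assoc, mul_assoc i z (1 - z), mul_sub z 1 z, mul_one, pz_idem hM hpr, sub_self,
      mul_zero] at h2
  have hix : i * x = x := by rw [hxdef, ← mul_assoc, ← mul_assoc, hi.2.1]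
  have hxi : x * i = x := by rw [hxdef, mul_assoc, hi.2.1]
  rcases prim_dichotomy hM hi hx hix hxi with ⟨y, hy, -, hxy⟩ | ⟨N, hN⟩
  · refine absurd ?_ hnf
    refine hzi.symm.trans hM ?_
    have h4 : BrEq M P (z * x) 0 := (BrEq.mul hM hP hz hz hx (hi.1.mul hM hz1)
      (BrEq.refl hM z) hxw).trans hM hzw
    have h5 := BrEq.mul_zero_left hM hP (hz.mul hM hx) (hy.mul hM hi.1) h4
    rwa [mul_assoc, ← mul_assoc x y i, hxy] at h5
  · have hid : BrEq M P (x * x) x := by
      refine (BrEq.mul hM hP hx (hi.1.mul hM hz1) hx (hi.1.mul hM hz1) hxw hxw).trans hM ?_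
      refine BrEq.trans hM ?_ hxw.symm
      have h1 : BrEq M P ((1 - z) * i) (i * (1 - z)) := by
        rw [sub_mul, one_mul, mul_sub, mul_one]
        exact BrEq.sub hM (BrEq.refl hM i) hzi
      have h2 := BrEq.mul hM hP ((hi.1.mul hM (hz1.mul hM hi.1)))
        ((hi.1.mul hM (hi.1.mul hM hz1))) hz1 hz1
        (BrEq.mul hM hP hi.1 hi.1 (hz1.mul hM hi.1) (hi.1.mul hM hz1) (BrEq.refl hM i) h1)
        (BrEq.refl hM (1 - z))
      have e : (1 - z) * (1 - z) = 1 - z := by
        rw [sub_mul, one_mul, mul_sub, mul_one, pz_idem hM hpr, sub_self, sub_zero]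
      rw [← mul_assoc i i, hi.2.1, mul_assoc i (1 - z) (1 - z), e] at h2
      simpa only [mul_assoc] using h2
    have h0 : BrEq M P x 0 := by
      rcases N with _ | n
      · rw [pow_zero, one_mul] at hN
        exact absurd (BrEq.of_ideal hN) hne
      · have hpow : ∀ n : ℕ, BrEq M P (x ^ (n + 1)) x := by
          intro n
          induction n with
          | zero => rw [pow_one]; exact BrEq.refl hM x
          | succ n ih =>
            rw [pow_succ]
            exact (BrEq.mul hM hP (hx.pow hM _) hx hx hx ih (BrEq.refl hM x)).trans hM hid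
        have h1 : x ^ (n + 1) * i = x ^ (n + 1) := by rw [pow_succ, mul_assoc, hxi]
        rw [h1] at hN
        exact (hpow n).symm.trans hM (BrEq.of_ideal hN)
    have h1 := hxw.symm.trans hM h0
    rw [mul_sub, mul_one] at h1
    intro c hc
    have := h1 c hc
    simp only [MonoidAlgebra.coeff_sub, Finsupp.sub_apply, MonoidAlgebra.coeff_zero,
      Finsupp.zero_apply, sub_zero] at this
    exact ideal_sub_comm this

/-- The element extending an invariant coefficient function from the points with centralizer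
exactly `R`. -/
theorem exists_lift_exact [Fact p.Prime] (hM : IsPModular p M) (hP : IsPGroup p P) (hR : R < P)
    {w : MonoidAlgebra ℂ G} (hw : Fx M (P ⊓ Subgroup.normalizer (R : Set G)) w)
    (hvan : ∀ c ∈ CG R, (P ⊓ Subgroup.centralizer ({c} : Set G)) ≠ R →
      MemLocalIdeal M (w.coeff c)) :
    ∃ D, Fx M P D ∧ BrEq M P D 0 ∧ BrEq M R D w := by
  classical
  have hwi := (fx_iff.1 hw).2
  have hmem : ∀ {t g v : G}, v ∈ P ⊓ Subgroup.centralizer ({t * g * t⁻¹} : Set G) → t ∈ P →
      t⁻¹ * v * t ∈ P ⊓ Subgroup.centralizer ({g} : Set G) := by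
    intro t g v hv ht
    refine ⟨Subgroup.mul_mem P (Subgroup.mul_mem P (Subgroup.inv_mem P ht) hv.1) ht, Subgroup.mem_centralizer_singleton_iff.2 ?_⟩
    have h := Subgroup.mem_centralizer_singleton_iff.1 hv.2
    calc t⁻¹ * v * t * g = t⁻¹ * (v * (t * g * t⁻¹)) * t := by group
      _ = t⁻¹ * (t * g * t⁻¹ * v) * t := by rw [h]
      _ = g * (t⁻¹ * v * t) := by group
  let Q : G → G → Prop := fun g t => t ∈ P ∧ t * g * t⁻¹ ∈ CG R ∧
    P ⊓ Subgroup.centralizer ({t * g * t⁻¹} : Set G) = R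
  have huniq : ∀ g t t', Q g t → Q g t' → w.coeff (t * g * t⁻¹) = w.coeff (t' * g * t'⁻¹) := by
    rintro g t t' ⟨ht, -, hRt⟩ ⟨ht', -, hRt'⟩
    set s := t' * t⁻¹ with hs
    have hsP : s ∈ P := mul_mem ht' (inv_mem ht)
    have hconj : s * (t * g * t⁻¹) * s⁻¹ = t' * g * t'⁻¹ := by rw [hs]; group
    have hsN : s ∈ Subgroup.normalizer (R : Set G) := by
      refine Cfsg.Agent.Fus.mem_normalizer_of_forall (fun v hv => ?_) fun v hv => ?_
      · rw [← hRt] at hv
        rw [← hRt']
        have := hmem (t := s⁻¹) (g := t' * g * t'⁻¹) (v := v)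
          (by rw [show s⁻¹ * (t' * g * t'⁻¹) * s⁻¹⁻¹ = t * g * t⁻¹ by rw [hs]; group]; exact hv)
          (inv_mem hsP)
        rwa [inv_inv] at this
      · rw [← hRt'] at hv
        rw [← hRt]
        exact hmem (by rw [hconj]; exact hv) hsP
    rw [← hconj]
    exact (hwi s ⟨hsP, hsN⟩ _).symm
  let φ : G → ℂ := fun g => if h : ∃ t, Q g t then w.coeff (h.choose * g * h.choose⁻¹) else 0
  refine ⟨algOf (MonoidHom.id G) φ, fx_iff.2 ⟨AlgRing.algOf hM _ fun g => ?_, fun u hu g => ?_⟩,
    fun c hc => ?_, fun c hc => ?_⟩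
  · simp only [φ]
    split_ifs
    · exact hw.1 _
    · exact ring_zero hM
  · show (algOf (MonoidHom.id G) φ).coeff _ = (algOf (MonoidHom.id G) φ).coeff g
    rw [algOf_coeff_id, algOf_coeff_id]
    have hQ : ∀ t, Q (u * g * u⁻¹) t ↔ Q g (t * u) := fun t => by
      simp only [Q]
      rw [show t * (u * g * u⁻¹) * t⁻¹ = t * u * g * (t * u)⁻¹ by group, mul_mem_cancel_right hu]
    by_cases h : ∃ t, Q g t
    · have h' : ∃ t, Q (u * g * u⁻¹) t :=
        ⟨h.choose * u⁻¹, (hQ _).2 (by rw [inv_mul_cancel_right]; exact h.choose_spec)⟩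
      simp only [φ, dif_pos h, dif_pos h']
      rw [huniq g h.choose (h'.choose * u) h.choose_spec ((hQ _).1 h'.choose_spec)]
      congr 1
      group
    · have h' : ¬ ∃ t, Q (u * g * u⁻¹) t := fun ⟨t, ht⟩ => h ⟨_, (hQ t).1 ht⟩
      simp only [φ, dif_neg h, dif_neg h']
  · rw [algOf_coeff_id, MonoidAlgebra.coeff_zero, Finsupp.zero_apply, sub_zero]
    simp only [φ]
    rw [dif_neg]
    · exact ideal_zero hM
    · rintro ⟨t, ht, -, hRt⟩
      refine hR.ne ?_
      rw [← hRt, inf_eq_left]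
      intro v hv
      rw [show t * c * t⁻¹ = c by
        rw [Subgroup.mem_centralizer_iff.1 hc t ht, mul_inv_cancel_right],
        Subgroup.mem_centralizer_singleton_iff]
      exact Subgroup.mem_centralizer_iff.1 hc v hv
  · rw [algOf_coeff_id]
    by_cases hself : P ⊓ Subgroup.centralizer ({c} : Set G) = R
    · have h1 : Q c 1 := ⟨one_mem P, by simpa using hc, by simpa using hself⟩
      have h : ∃ t, Q c t := ⟨1, h1⟩
      simp only [φ, dif_pos h]
      rw [huniq c h.choose 1 h.choose_spec h1]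
      simpa using ideal_zero hM
    · simp only [φ]
      rw [dif_neg]
      · simpa using ideal_neg (hvan c hc hself)
      · rintro ⟨t, ht, -, hRt⟩
        refine hself (Subgroup.eq_of_le_of_card_ge (H := R) ?_ ?_).symm
        · intro v hv
          exact ⟨hR.le hv, Subgroup.mem_centralizer_singleton_iff.2
            (Subgroup.mem_centralizer_iff.1 hc v hv)⟩
        · rw [← card_map_conj t⁻¹ R, ← hRt]
          refine Subgroup.card_le_of_le fun v hv => ?_
          rw [mem_map_conj, inv_inv]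
          refine ⟨Subgroup.mul_mem P (Subgroup.mul_mem P ht hv.1) (Subgroup.inv_mem P ht), Subgroup.mem_centralizer_singleton_iff.2 ?_⟩
          have h := Subgroup.mem_centralizer_singleton_iff.1 hv.2
          calc t * v * t⁻¹ * (t * c * t⁻¹) = t * (v * c) * t⁻¹ := by group
            _ = t * (c * v) * t⁻¹ := by rw [h]
            _ = t * c * t⁻¹ * (t * v * t⁻¹) := by group

end Cfsg.Agent.Char.Spec
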