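import Mathlib.LinearAlgebra.Matrix.PosDef
import Mathlib.Analysis.Matrix.PosDef
import Mathlib.LinearAlgebra.Matrix.SchurComplement
import Mathlib.LinearAlgebra.Matrix.ToLinearEquiv
import Mathlib.LinearAlgebra.FreeModule.PID
import Mathlib.Algebra.Module.Projective
import Mathlib.Data.ZMod.Basic
import Mathlib.Data.Nat.Prime.Int
import Mathlib.Data.Real.StarOrdered

/-!
An integral symmetric matrix `W` with `W * W = p • W` of rank one modulo `p`: its form takes no
non-zero value below its rank.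
-/

set_option autoImplicit false

namespace Cfsg.Agent.Char.LatticeMin

open Matrix

variable {ι : Type*} [Fintype ι] [DecidableEq ι]

/-- The Gram matrix of a family of rows. -/
def gram {κ : Type*} (v : ι → κ → ℤ) (s : Finset ι) : Matrix κ κ ℤ :=
  ∑ r ∈ s, vecMulVec (v r) (v r)

theorem gram_quad {κ : Type*} [Fintype κ] (v : ι → κ → ℤ) (s : Finset ι) (x : κ → ℤ) :
    x ⬝ᵥ gram v s *ᵥ x = ∑ r ∈ s, (v r ⬝ᵥ x) ^ 2 := by
  rw [gram, sum_mulVec, dotProduct_sum]
  refine Finset.sum_congr rfl fun r _ => ?_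
  rw [vecMulVec_mulVec, dotProduct_smul, MulOpposite.smul_eq_mul_unop, MulOpposite.unop_op,
    dotProduct_comm x, sq]

omit [Fintype ι] in
theorem gram_mulVec {κ : Type*} [Fintype κ] (v : ι → κ → ℤ) (s : Finset ι) (x : κ → ℤ) :
    gram v s *ᵥ x = ∑ r ∈ s, (v r ⬝ᵥ x) • v r := by
  rw [gram, sum_mulVec]
  refine Finset.sum_congr rfl fun r _ => ?_
  rw [vecMulVec_mulVec]
  funext k
  simp [mul_comm]

theorem det_gram_nonneg {κ : Type*} [Fintype κ] [DecidableEq κ] (v : ι → κ → ℤ) (s : Finset ι) :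
    0 ≤ (gram v s).det := by
  let A : Matrix s κ ℝ := Matrix.of fun r k => (v r k : ℝ)
  have h : (gram v s).map (fun x : ℤ => (x : ℝ)) = Aᴴ * A := by
    ext i j
    simp only [Matrix.map_apply, gram, Matrix.sum_apply, vecMulVec_apply, Matrix.mul_apply,
      Matrix.conjTranspose_apply, A, Matrix.of_apply, star_trivial, Int.cast_sum, Int.cast_mul]
    exact (Finset.sum_coe_sort s (fun r => (v r i : ℝ) * (v r j : ℝ))).symm
  have h2 : ((gram v s).det : ℝ) = (Aᴴ * A).det := by
    rw [← h]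
    exact RingHom.map_det (Int.castRingHom ℝ) (gram v s)
  have h3 : (0 : ℝ) ≤ ((gram v s).det : ℝ) :=
    h2 ▸ (posSemidef_conjTranspose_mul_self A).det_nonneg
  exact_mod_cast h3

/-- More nonzero rows give a larger determinant. -/
theorem det_gram_ge {κ : Type*} [Fintype κ] [DecidableEq κ] (v : ι → κ → ℤ) :
    ∀ (s : Finset ι), (∀ r ∈ s, v r ≠ 0) → (gram v s).det ≠ 0 →
      (s.card : ℤ) + 1 ≤ (gram v s).det + Fintype.card κ := by
  intro s
  induction s using Finset.strongInduction with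
  | _ s IH =>
    intro hnz hdet
    by_cases hk : s.card ≤ Fintype.card κ
    · have h1 := det_gram_nonneg v s
      omega
    -- a row that is a combination of the others
    let vQ : s → κ → ℚ := fun r k => (v r k : ℚ)
    have hdep : ¬ LinearIndependent ℚ vQ := fun h => hk (by
      have := h.fintype_card_le_finrank
      rwa [Module.finrank_pi, Fintype.card_coe] at this)
    obtain ⟨g, hg, ⟨j, hj⟩, hgj⟩ := Fintype.not_linearIndependent_iff.1 hdep
    have hker : ∀ x : κ → ℤ, gram v (s.erase j) *ᵥ x = 0 → x = 0 := by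
      intro x hx
      have h0 : ∀ r ∈ s.erase j, v r ⬝ᵥ x = 0 := by
        have h := gram_quad v (s.erase j) x
        rw [hx, dotProduct_zero] at h
        intro r hr
        exact pow_eq_zero_iff two_ne_zero |>.1
          ((Finset.sum_eq_zero_iff_of_nonneg fun r _ => sq_nonneg _).1 h.symm r hr)
      have hjx : v j ⬝ᵥ x = 0 := by
        have h1 : ∑ r : s, g r * ((v r ⬝ᵥ x : ℤ) : ℚ) = 0 := by
          have h2 : ∀ k, ∑ r : s, g r * vQ r k = 0 := fun k => by
            simpa [Finset.sum_apply] using congrFun hg k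
          calc ∑ r : s, g r * ((v r ⬝ᵥ x : ℤ) : ℚ) = ∑ k, (∑ r : s, g r * vQ r k) * (x k : ℚ) := by
                simp only [dotProduct, Int.cast_sum, Int.cast_mul, Finset.mul_sum, Finset.sum_mul]
                rw [Finset.sum_comm]
                exact Finset.sum_congr rfl fun k _ => Finset.sum_congr rfl fun r _ => by
                  simp only [vQ]; ring
            _ = 0 := Finset.sum_eq_zero fun k _ => by rw [h2, zero_mul]
        rw [Finset.sum_eq_single (⟨j, hj⟩ : s) ?_ (by simp)] at h1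
        · exact_mod_cast (mul_eq_zero.1 h1).resolve_left hgj
        · rintro ⟨r, hr⟩ _ hne
          rw [h0 r (Finset.mem_erase.2 ⟨fun h => hne (Subtype.ext h), hr⟩), Int.cast_zero, mul_zero]
      by_contra hne
      refine hdet (exists_mulVec_eq_zero_iff.1 ⟨x, hne, ?_⟩)
      rw [gram_mulVec, ← Finset.add_sum_erase _ _ hj, hjx, zero_smul, zero_add]
      exact Finset.sum_eq_zero fun r hr => by rw [h0 r hr, zero_smul]
    have hdet' : (gram v (s.erase j)).det ≠ 0 := fun h => by
      obtain ⟨x, hx, hx'⟩ := exists_mulVec_eq_zero_iff.2 h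
      exact hx (hker x hx')
    have h1 := IH _ (Finset.erase_ssubset hj) (fun r hr => hnz r (Finset.mem_of_mem_erase hr)) hdet'
    -- the determinant grows
    set G₀ := (gram v (s.erase j)).map (Int.castRingHom ℚ) with hG₀
    set w : κ → ℚ := fun k => (v j k : ℚ) with hw
    have hd₀ : G₀.det = ((gram v (s.erase j)).det : ℚ) :=
      ((Int.castRingHom ℚ).map_det (gram v (s.erase j))).symm
    have hu : IsUnit G₀.det := by
      rw [hd₀, isUnit_iff_ne_zero]
      exact_mod_cast hdet'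
    set y : κ → ℚ := G₀⁻¹ *ᵥ w with hy
    have hGy : G₀ *ᵥ y = w := by rw [hy, mulVec_mulVec, mul_nonsing_inv _ hu, one_mulVec]
    have hsum : (gram v s).map (Int.castRingHom ℚ) =
        G₀ * (1 + replicateCol (Fin 1) y * replicateRow (Fin 1) w) := by
      rw [Matrix.mul_add, Matrix.mul_one, ← Matrix.mul_assoc, ← replicateCol_mulVec, hGy, gram,
        ← Finset.add_sum_erase _ _ hj, Matrix.map_add _ (map_add _), add_comm]
      congr 1
      ext a b
      simp [Matrix.mul_apply, vecMulVec_apply, hw]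
    have hdq : ((gram v s).det : ℚ) = ((gram v (s.erase j)).det : ℚ) * (1 + w ⬝ᵥ y) := by
      have h2 := congrArg Matrix.det hsum
      rw [det_mul, hd₀, show ((1 : Matrix κ κ ℚ) + replicateCol (Fin 1) y * replicateRow (Fin 1) w).det = 1 + w ⬝ᵥ y by
        rw [det_one_add_mul_comm, det_fin_one]
        simp [Matrix.mul_apply, dotProduct]] at h2
      exact ((Int.castRingHom ℚ).map_det (gram v s)).trans h2
    have hwy : (0 : ℚ) < w ⬝ᵥ y := by
      have e : w ⬝ᵥ y = ∑ r ∈ s.erase j, ((fun k => (v r k : ℚ)) ⬝ᵥ y) ^ 2 := by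
        rw [← hGy, dotProduct_comm, hG₀, gram]
        rw [show (∑ r ∈ s.erase j, vecMulVec (v r) (v r)).map (Int.castRingHom ℚ) =
          ∑ r ∈ s.erase j, vecMulVec (fun k => (v r k : ℚ)) (fun k => (v r k : ℚ)) by
            ext a b; simp [Matrix.sum_apply, vecMulVec_apply]]
        rw [sum_mulVec, dotProduct_sum]
        refine Finset.sum_congr rfl fun r _ => ?_
        rw [vecMulVec_mulVec, dotProduct_smul, MulOpposite.smul_eq_mul_unop, MulOpposite.unop_op,
          dotProduct_comm y, sq]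
      have hge : (0 : ℚ) ≤ w ⬝ᵥ y := e ▸ Finset.sum_nonneg fun r _ => sq_nonneg _
      refine lt_of_le_of_ne hge fun h0 => ?_
      have hz := (Finset.sum_eq_zero_iff_of_nonneg fun r _ => sq_nonneg _).1 (e.symm.trans h0.symm)
      have hGy0 : G₀ *ᵥ y = 0 := by
        rw [hG₀, gram]
        rw [show (∑ r ∈ s.erase j, vecMulVec (v r) (v r)).map (Int.castRingHom ℚ) =
          ∑ r ∈ s.erase j, vecMulVec (fun k => (v r k : ℚ)) (fun k => (v r k : ℚ)) by
            ext a b; simp [Matrix.sum_apply, vecMulVec_apply]]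
        rw [sum_mulVec]
        refine Finset.sum_eq_zero fun r hr => ?_
        rw [vecMulVec_mulVec, (pow_eq_zero_iff two_ne_zero).1 (hz r hr), MulOpposite.op_zero,
          zero_smul]
      refine hnz j hj (funext fun k => ?_)
      have := congrFun (hGy.symm.trans hGy0) k
      simpa [hw] using this
    have hgt : (gram v (s.erase j)).det < (gram v s).det := by
      have hpos : (0 : ℚ) < ((gram v (s.erase j)).det : ℚ) := by
        exact_mod_cast lt_of_le_of_ne (det_gram_nonneg v _) (Ne.symm hdet')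
      have : ((gram v (s.erase j)).det : ℚ) < ((gram v s).det : ℚ) := by
        rw [hdq]; exact lt_mul_of_one_lt_right hpos (lt_add_of_pos_right 1 hwy)
      exact_mod_cast this
    rw [Finset.card_erase_of_mem hj] at h1
    have := Finset.card_pos.2 ⟨j, hj⟩
    omega

/-- A matrix of rank one modulo `p` has determinant divisible by `p ^ (m - 1)`. -/
theorem pow_dvd_det {m : ℕ} {p : ℤ} (Y : Matrix (Fin m) (Fin m) ℤ) (α β : Fin m → ℤ)
    (h : ∀ i j, p ∣ Y i j - α i * β j) : p ^ (m - 1) ∣ Y.det := by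
  choose Z hZ using h
  have hY : Y = p • Matrix.of Z - replicateCol (Fin 1) α * replicateRow (Fin 1) (-β) := by
    ext i j
    have := hZ i j
    simp only [Matrix.sub_apply, Matrix.smul_apply, Matrix.of_apply, smul_eq_mul, Matrix.mul_apply,
      replicateCol_apply, replicateRow_apply, Pi.neg_apply, Finset.univ_unique, Finset.sum_singleton]
    linarith
  rw [hY, ← det_fromBlocks_one₂₂, det_apply']
  refine Finset.dvd_sum fun σ _ => Dvd.dvd.mul_left ?_ _
  set E := fromBlocks (p • Matrix.of Z) (replicateCol (Fin 1) α) (replicateRow (Fin 1) (-β))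
    (1 : Matrix (Fin 1) (Fin 1) ℤ) with hE
  let S : Finset (Fin m ⊕ Fin 1) :=
    Finset.univ.filter fun i => i.isLeft = true ∧ (σ i).isLeft = true
  have hdvd : p ^ S.card ∣ ∏ i, E (σ i) i := by
    rw [← Finset.prod_const]
    refine (Finset.prod_dvd_prod_of_dvd _ _ fun i hi => ?_).trans
      (Finset.prod_dvd_prod_of_subset _ _ _ (Finset.subset_univ S))
    obtain ⟨h1, h2⟩ := (Finset.mem_filter.1 hi).2
    obtain ⟨a, rfl⟩ := Sum.isLeft_iff.1 h1
    obtain ⟨b, hb⟩ := Sum.isLeft_iff.1 h2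
    rw [hb, hE, fromBlocks_apply₁₁, Matrix.smul_apply, smul_eq_mul]
    exact dvd_mul_right _ _
  refine (pow_dvd_pow p ?_).trans hdvd
  have hsub : Finset.univ \ S ⊆ {Sum.inr 0, σ.symm (Sum.inr 0)} := by
    intro i hi
    simp only [Finset.mem_sdiff, Finset.mem_univ, true_and, S, Finset.mem_filter, not_and] at hi
    rcases i with a | b
    · have h2 := hi rfl
      rcases hσ : σ (Sum.inl a) with c | d
      · rw [hσ] at h2; simp at h2
      · rw [Subsingleton.elim (0 : Fin 1) d, ← hσ]; simp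
    · rw [Subsingleton.elim b 0]; simp
  have h1 := Finset.card_le_card hsub
  have h2 := Finset.card_le_two (a := (Sum.inr 0 : Fin m ⊕ Fin 1)) (b := σ.symm (Sum.inr 0))
  rw [Finset.card_sdiff_of_subset (Finset.subset_univ _), Finset.card_univ, Fintype.card_sum,
    Fintype.card_fin, Fintype.card_fin] at h1
  omega

/-- The saturated kernel of `W` with a basis and a left inverse. -/
theorem exists_kernel_basis (W : Matrix ι ι ℤ) :
    ∃ (m : ℕ) (A : Matrix ι (Fin m) ℤ) (S : Matrix (Fin m) ι ℤ), S * A = 1 ∧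
      ∀ x : ι → ℤ, W *ᵥ x = 0 ↔ ∃ y, A *ᵥ y = x := by
  classical
  set f : (ι → ℤ) →ₗ[ℤ] (ι → ℤ) := W.mulVecLin with hf
  set L := LinearMap.ker f with hL
  haveI : Module.Finite ℤ (LinearMap.range f) :=
    Module.Finite.range f
  haveI : Module.Free ℤ (LinearMap.range f) := Module.free_of_finite_type_torsion_free'
  obtain ⟨sec, hsec⟩ := Module.projective_lifting_property f.rangeRestrict LinearMap.id
    f.surjective_rangeRestrict
  haveI : Module.Finite ℤ L := Module.Finite.of_fg (IsNoetherian.noetherian L)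
  haveI : Module.Free ℤ L := Module.free_of_finite_type_torsion_free'
  set m := Module.finrank ℤ L
  let bs : Module.Basis (Fin m) ℤ L := Module.finBasis ℤ L
  let P : (ι → ℤ) →ₗ[ℤ] (ι → ℤ) := LinearMap.id - sec.comp f.rangeRestrict
  have hP : ∀ x, P x ∈ L := by
    intro x
    have h1 : f.rangeRestrict (sec (f.rangeRestrict x)) = f.rangeRestrict x :=
      LinearMap.congr_fun hsec _
    have h2 : f (sec (f.rangeRestrict x)) = f x := congrArg Subtype.val h1
    show f (x - sec (f.rangeRestrict x)) = 0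
    rw [map_sub, h2, sub_self]
  let c : (ι → ℤ) →ₗ[ℤ] (Fin m → ℤ) := bs.equivFun.toLinearMap.comp (P.codRestrict L hP)
  let a : (Fin m → ℤ) →ₗ[ℤ] (ι → ℤ) := L.subtype.comp bs.equivFun.symm.toLinearMap
  have ha : ∀ y, a y ∈ L := fun y => (bs.equivFun.symm y).2
  have hca : c.comp a = LinearMap.id := by
    refine LinearMap.ext fun y => ?_
    have h : f.rangeRestrict (a y) = 0 := Subtype.ext (LinearMap.mem_ker.1 (ha y))
    have h2 : P (a y) = a y := by
      show a y - sec (f.rangeRestrict (a y)) = a y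
      rw [h, map_zero, sub_zero]
    show bs.equivFun (P.codRestrict L hP (a y)) = y
    rw [show P.codRestrict L hP (a y) = bs.equivFun.symm y from Subtype.ext h2,
      LinearEquiv.apply_symm_apply]
  refine ⟨m, LinearMap.toMatrix' a, LinearMap.toMatrix' c, ?_, fun x => ⟨fun hx => ?_, ?_⟩⟩
  · rw [← LinearMap.toMatrix'_comp, hca, LinearMap.toMatrix'_id]
  · have hxL : x ∈ L := hx
    refine ⟨bs.equivFun ⟨x, hxL⟩, ?_⟩
    rw [LinearMap.toMatrix'_mulVec]
    show ((bs.equivFun.symm (bs.equivFun ⟨x, hxL⟩) : L) : ι → ℤ) = x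
    rw [LinearEquiv.symm_apply_apply]
  · rintro ⟨y, rfl⟩
    rw [LinearMap.toMatrix'_mulVec]
    exact LinearMap.mem_ker.1 (ha y)

/-- The form takes no non-zero value below the rank. -/
theorem le_form (p : ℕ) [hp : Fact p.Prime] (l : ℕ) (W : Matrix ι ι ℤ) (hsym : Wᵀ = W)
    (hidem : W * W = (p : ℤ) • W) (htr : W.trace = (p : ℤ) * l)
    (hrank : ∀ r s r' s', (p : ℤ) ∣ W r s * W r' s' - W r s' * W r' s)
    (hrow : ∀ r, ∃ s, ¬ (p : ℤ) ∣ W r s) (n : ι → ℤ) (hn : n ⬝ᵥ W *ᵥ n ≠ 0) :
    (l : ℤ) ≤ n ⬝ᵥ W *ᵥ n := by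
  classical
  have hp0 : (p : ℤ) ≠ 0 := Int.natCast_ne_zero.2 hp.out.ne_zero
  obtain ⟨m, A, S, hSA, hAker⟩ := exists_kernel_basis W
  set V : Matrix ι ι ℤ := (p : ℤ) • (1 : Matrix ι ι ℤ) - W with hV
  have hWV : W * V = 0 := by
    rw [hV, Matrix.mul_sub, Matrix.mul_smul, Matrix.mul_one, hidem, sub_self]
  have hcol : ∀ s, ∃ y, A *ᵥ y = fun r => V r s := fun s =>
    (hAker _).1 (funext fun r => congrFun (congrFun hWV r) s)
  choose X₀ hX₀ using hcol
  set X : Matrix (Fin m) ι ℤ := Matrix.of fun i s => X₀ s i with hX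
  have hAX : A * X = V := by
    ext r s
    exact congrFun (hX₀ s) r
  have hWA : W * A = 0 := by
    ext r i
    have := congrFun ((hAker (A *ᵥ Pi.single i 1)).2 ⟨_, rfl⟩) r
    rw [mulVec_mulVec, mulVec_single] at this
    simpa using this
  have hVA : V * A = (p : ℤ) • A := by
    rw [hV, Matrix.sub_mul, hWA, sub_zero, Matrix.smul_mul, Matrix.one_mul]
  have hXA : X * A = (p : ℤ) • (1 : Matrix (Fin m) (Fin m) ℤ) := by
    calc X * A = (S * A) * (X * A) := by rw [hSA, Matrix.one_mul]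
      _ = S * (V * A) := by rw [← hAX]; simp only [Matrix.mul_assoc]
      _ = _ := by rw [hVA, Matrix.mul_smul, hSA]
  have hm : (Fintype.card ι : ℤ) = l + m := by
    have h1 : V.trace = (p : ℤ) * m := by
      rw [← hAX, trace_mul_comm, hXA, trace_smul, trace_one, Fintype.card_fin, smul_eq_mul]
    rw [hV, trace_sub, trace_smul, trace_one, htr, smul_eq_mul] at h1
    exact mul_left_cancel₀ hp0 (by linear_combination h1)
  have hVsym : Vᵀ = V := by rw [hV, transpose_sub, transpose_smul, transpose_one, hsym]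
  set G : Matrix (Fin m) (Fin m) ℤ := Aᵀ * A with hG
  set Z : Matrix (Fin m) (Fin m) ℤ := X * Sᵀ with hZ
  have hGX : G * X = (p : ℤ) • Aᵀ := by
    rw [hG, Matrix.mul_assoc, hAX, ← hVsym, ← transpose_mul, hVA, transpose_smul]
  have hGZ : G * Z = (p : ℤ) • (1 : Matrix (Fin m) (Fin m) ℤ) := by
    rw [hZ, ← Matrix.mul_assoc, hGX, Matrix.smul_mul, ← transpose_mul, hSA, transpose_one]
  have hdetGZ : G.det * Z.det = (p : ℤ) ^ m := by
    rw [← det_mul, hGZ, det_smul, det_one, mul_one, Fintype.card_fin]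
  have hG0 : G.det ≠ 0 := fun h => by
    rw [h, zero_mul] at hdetGZ
    exact pow_ne_zero m hp0 hdetGZ.symm
  have hZA : Z * Aᵀ = X := by
    have h : G * (Z * Aᵀ) = G * X := by
      rw [← Matrix.mul_assoc, hGZ, hGX, Matrix.smul_mul, Matrix.one_mul]
    have h' := congrArg (G.adjugate * ·) h
    simp only [← Matrix.mul_assoc, adjugate_mul, Matrix.smul_mul, Matrix.one_mul] at h'
    exact smul_right_injective _ hG0 h'
  have hZrank : ∃ α β : Fin m → ℤ, ∀ i j, (p : ℤ) ∣ Z i j - α i * β j := by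
    have hZ2 : Z = S * V * Sᵀ := by
      rw [hZ, ← hAX, ← Matrix.mul_assoc S A X, hSA, Matrix.one_mul]
    rcases isEmpty_or_nonempty ι with hι | ⟨⟨r₀⟩⟩
    · exact ⟨0, 0, fun i j => by
        rw [hZ2, Matrix.mul_apply, Finset.univ_eq_empty]; simp⟩
    obtain ⟨s₀, hs₀⟩ := hrow r₀
    obtain ⟨a, b, hab⟩ := ((Nat.prime_iff_prime_int.1 hp.out).coprime_iff_not_dvd.2 hs₀)
    refine ⟨S *ᵥ (fun r => -(b * W r s₀)), S *ᵥ (fun s => W r₀ s), fun i j => ?_⟩
    have hW : ∀ r s, (p : ℤ) ∣ V r s - -(b * W r s₀) * W r₀ s := by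
      intro r s
      have h1 := hrank r s r₀ s₀
      have h2 : (p : ℤ) ∣ (1 : Matrix ι ι ℤ) r s * p := dvd_mul_left _ _
      have e : V r s - -(b * W r s₀) * W r₀ s =
          (1 : Matrix ι ι ℤ) r s * p - b * (W r s * W r₀ s₀ - W r s₀ * W r₀ s) -
            W r s * (1 - b * W r₀ s₀) := by
        rw [hV, Matrix.sub_apply, Matrix.smul_apply, smul_eq_mul]
        ring
      rw [e]
      refine dvd_sub (dvd_sub h2 (h1.mul_left _)) (Dvd.dvd.mul_left ⟨a, ?_⟩ _)
      linear_combination -hab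
    rw [hZ2, Matrix.mul_assoc, Matrix.mul_apply]
    simp only [Matrix.mul_apply, Matrix.transpose_apply, Matrix.mulVec, dotProduct]
    rw [Finset.sum_mul_sum]
    simp only [Finset.mul_sum]
    rw [← Finset.sum_sub_distrib]
    refine Finset.dvd_sum fun r _ => ?_
    rw [← Finset.sum_sub_distrib]
    refine Finset.dvd_sum fun s _ => ?_
    rw [show S i r * (V r s * S j s) - S i r * -(b * W r s₀) * (S j s * W r₀ s) =
      S i r * S j s * (V r s - -(b * W r s₀) * W r₀ s) by ring]
    exact (hW r s).mul_left _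
  obtain ⟨α, β, hαβ⟩ := hZrank
  obtain ⟨z, hz⟩ := pow_dvd_det Z α β hαβ
  have hGle : G.det ≤ p := by
    rcases Nat.eq_zero_or_pos m with rfl | hm0
    · rw [det_isEmpty]
      exact_mod_cast hp.out.one_le
    obtain ⟨m', rfl⟩ : ∃ m', m = m' + 1 := ⟨m - 1, by omega⟩
    rw [hz, Nat.add_sub_cancel, pow_succ] at hdetGZ
    have h1 : G.det * z = p := mul_left_cancel₀ (pow_ne_zero m' hp0) (by linear_combination hdetGZ)
    exact Int.le_of_dvd (Int.natCast_pos.2 hp.out.pos) (Dvd.intro z h1)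
  -- the lattice with one more vector
  set Q := n ⬝ᵥ W *ᵥ n with hQ
  let v : ι → (Fin m ⊕ Fin 1) → ℤ := fun r => Sum.elim (A r) (fun _ => n r)
  set c : Fin m → ℤ := Aᵀ *ᵥ n with hc
  obtain ⟨nn, hnn⟩ : ∃ nn : ℤ, nn = n ⬝ᵥ n := ⟨_, rfl⟩
  have hgram : gram v Finset.univ =
      fromBlocks G (replicateCol (Fin 1) c) (replicateRow (Fin 1) c)
        (nn • (1 : Matrix (Fin 1) (Fin 1) ℤ)) := by
    ext i j
    rcases i with i | i <;> rcases j with j | j <;>
      simp only [fromBlocks_apply₁₁, fromBlocks_apply₁₂, fromBlocks_apply₂₁, fromBlocks_apply₂₂,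
        Matrix.smul_apply, Fin.fin_one_eq_zero, Matrix.one_apply_eq] <;>
      simp [gram, v, hG, hc, hnn, Matrix.sum_apply, vecMulVec_apply, Matrix.mul_apply, Matrix.mulVec,
        dotProduct, mul_comm, Matrix.one_apply, Fin.fin_one_eq_zero]
  set x : Fin m → ℤ := X *ᵥ n with hx
  have hkey : fromBlocks G (replicateCol (Fin 1) c) (replicateRow (Fin 1) c)
        (nn • (1 : Matrix (Fin 1) (Fin 1) ℤ)) *
      fromBlocks 1 (replicateCol (Fin 1) (-x)) 0 ((p : ℤ) • 1) =
      fromBlocks G 0 (replicateRow (Fin 1) c) (Q • (1 : Matrix (Fin 1) (Fin 1) ℤ)) := by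
    rw [fromBlocks_multiply]
    simp only [Matrix.mul_one, Matrix.mul_zero, add_zero, Matrix.mul_smul]
    congr 1
    · rw [← replicateCol_mulVec, mulVec_neg, hx, mulVec_mulVec, hGX, smul_mulVec, ← hc]
      ext i j
      simp
    · ext i j
      have e1 : c ⬝ᵥ x = n ⬝ᵥ V *ᵥ n := by
        rw [hc, hx, mulVec_transpose, ← dotProduct_mulVec, mulVec_mulVec, hAX]
      simp only [Matrix.add_apply, Matrix.mul_apply, replicateRow_apply, replicateCol_apply,
        Pi.neg_apply, Matrix.smul_apply, Subsingleton.elim i j, Matrix.one_apply_eq, smul_eq_mul,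
        mul_one, mul_neg, Finset.sum_neg_distrib]
      rw [show ∑ k, c k * x k = c ⬝ᵥ x from rfl, e1, hV, sub_mulVec, smul_mulVec, one_mulVec,
        dotProduct_sub, dotProduct_smul, smul_eq_mul, hQ, hnn]
      ring
  have hdetkey := congrArg Matrix.det hkey
  rw [det_mul, det_fromBlocks_zero₂₁, det_fromBlocks_zero₁₂, det_one, one_mul, det_smul, det_smul,
    det_one, mul_one, mul_one, Fintype.card_fin, pow_one, pow_one, ← hgram] at hdetkey
  have hv : ∀ r, v r ≠ 0 := by
    intro r h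
    obtain ⟨s, hs⟩ := hrow r
    have hA0 : ∀ i, A r i = 0 := fun i => congrFun h (Sum.inl i)
    have hVr : V r s = 0 := by
      rw [← hAX, Matrix.mul_apply]
      exact Finset.sum_eq_zero fun i _ => by rw [hA0, zero_mul]
    rw [hV, Matrix.sub_apply, Matrix.smul_apply, smul_eq_mul, sub_eq_zero] at hVr
    exact hs (hVr ▸ dvd_mul_right _ _)
  have hdet0 : (gram v Finset.univ).det ≠ 0 := fun h => by
    rw [h, zero_mul] at hdetkey
    exact mul_ne_zero hG0 hn hdetkey.symm
  have h1 := det_gram_ge v Finset.univ (fun r _ => hv r) hdet0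
  rw [Finset.card_univ, Fintype.card_sum, Fintype.card_fin, Fintype.card_fin] at h1
  push_cast at h1
  have hpos : 0 < (gram v Finset.univ).det := lt_of_le_of_ne (det_gram_nonneg v _) (Ne.symm hdet0)
  have hGpos : 0 < G.det := by
    have h2 : G = gram (fun r => A r) Finset.univ := by
      ext i j
      simp [gram, hG, Matrix.sum_apply, vecMulVec_apply, Matrix.mul_apply]
    exact lt_of_le_of_ne (h2 ▸ det_gram_nonneg _ _) (Ne.symm hG0)
  have hp1 : (0 : ℤ) < p := Int.natCast_pos.2 hp.out.pos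
  have hQpos : 0 < Q := by
    have := mul_pos hpos hp1
    rw [hdetkey] at this
    exact pos_of_mul_pos_right this hGpos.le
  have h3 : (gram v Finset.univ).det * p ≤ (p : ℤ) * Q := by
    rw [hdetkey]
    exact mul_le_mul_of_nonneg_right hGle hQpos.le
  have h4 : (gram v Finset.univ).det ≤ Q := le_of_mul_le_mul_right (by linarith) hp1
  linarith

end Cfsg.Agent.Char.LatticeMin
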