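import Cfsg.Agent.Lib.Char.MajorHeight
import Cfsg.Agent.Lib.Char.BlockLattice
import Cfsg.Agent.Lib.Char.Galois

/-!
A major subsection of rank at most two bounds the number of characters by the order of a defect
group.
-/

open scoped ComplexConjugate

namespace Cfsg.Agent.Char.Spec

open Cfsg.Agent.Block Cfsg.Agent.Char.BP Cfsg.Agent.Char.Lattice

set_option linter.unusedSectionVars false
set_option linter.style.haveILetI false
set_option maxHeartbeats 1600000

universe u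

variable {G : Type u} [Group G] [Fintype G] {p : ℕ} {M : Ideal AlgInt}
variable {B : Set (IrrCharacter G)}

/-- A pairing of the sections with an invariant function is a central element evaluated at the
character. -/
theorem exists_pair_omega [Fact p.Prime] (hM : IsPModular p M) {a : BrauerPairIdx G} {y : G}
    (hay : a.1 = Subgroup.zpowers y) (ha : IsPr p M a) (φ : G → ℂ)
    (hφi : ∀ x ∈ CG a.1, ∀ v, φ (x * v * x⁻¹) = φ v)
    (hsint : ∀ v ∈ regs p a.1, IsIntegral ℤ (φ v)) (d : ℕ) :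
    ∃ F : IrrCharacter G → ℂ, CenInt M F ∧ ∀ ψ : IrrCharacter G,
      (p : ℂ) ^ d * (∑ v ∈ regs p a.1, sct (ψ : G → ℂ) a y v * conj (φ v)) /
        (Nat.card (CG a.1) : ℂ) =
      ((charDegree (ψ : G → ℂ) * p ^ d : ℕ) : ℂ) / (Nat.card G : ℂ) * F ψ := by
  classical
  letI := Fintype.ofFinite (G ⧸ CG a.1)
  letI := Fintype.ofFinite (CG a.1)
  have hya : y ∈ a.1 := (SetLike.ext_iff.1 hay y).2 (Subgroup.mem_zpowers y)
  set e : G → ℂ := fun g =>
    ∑ v ∈ regs p a.1, conj (φ v) * be a (y⁻¹ * g * v⁻¹) with he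
  have hinv : ∀ x ∈ CG a.1, ∀ g, e (x * g * x⁻¹) = e g := by
    intro x hx g
    have hxy : x * y = y * x := (Subgroup.mem_centralizer_iff.1 hx y hya).symm
    refine (Finset.sum_equiv (MulAut.conj x).toEquiv (fun v => ?_) fun v _ => ?_).symm
    · simp only [mem_regs, MulEquiv.toEquiv_eq_coe, MulEquiv.coe_toEquiv]
      rw [MulEquiv.orderOf_eq]
      simp only [MulAut.conj_apply]
      exact and_congr_left fun _ => ⟨fun h => mul_mem (mul_mem hx h) (inv_mem hx), fun h => by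
        have := mul_mem (mul_mem (inv_mem hx) h) hx
        simpa [mul_assoc] using this⟩
    · simp only [MulEquiv.toEquiv_eq_coe, MulEquiv.coe_toEquiv, MulAut.conj_apply]
      rw [hφi x hx v]
      congr 1
      rw [show y⁻¹ * (x * g * x⁻¹) * (x * v * x⁻¹)⁻¹ = x * (y⁻¹ * g * v⁻¹) * x⁻¹ by
        have h2 : y⁻¹ * x = x * y⁻¹ := (Commute.inv_right (show Commute x y from hxy)).eq.symm
        calc y⁻¹ * (x * g * x⁻¹) * (x * v * x⁻¹)⁻¹ = (y⁻¹ * x) * g * v⁻¹ * x⁻¹ := by group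
          _ = _ := by rw [h2]; group]
      exact (be_inv_cg a x hx _).symm
  have hr : ∀ g, MemLocalRing M (e g) := fun g => ring_sum hM fun v hv =>
    ring_mul hM (ring_of_integral hM (isIntegral_conj (hsint v hv))) ((be_idem hM ha).1 _)
  set E : G → ℂ := fun g => ∑ t : G ⧸ CG a.1, e (t.out⁻¹ * g * t.out) with hE
  have hcf : IsClassFunction G E := by
    intro g u
    refine Fintype.sum_equiv (MulAction.toPerm u⁻¹) _ _ fun t => ?_
    obtain ⟨w, hw⟩ := QuotientGroup.mk_out_eq_mul (CG a.1) (u⁻¹ * t.out)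
    have e1 : MulAction.toPerm u⁻¹ t = ((u⁻¹ * t.out : G) : G ⧸ CG a.1) := by
      conv_lhs => rw [← QuotientGroup.out_eq' t]
      rfl
    rw [e1, hw]
    have h := hinv (w : G)⁻¹ (inv_mem w.2) ((u⁻¹ * t.out)⁻¹ * g * (u⁻¹ * t.out))
    rw [inv_inv] at h
    calc e (t.out⁻¹ * (u * g * u⁻¹) * t.out)
        = e ((u⁻¹ * t.out)⁻¹ * g * (u⁻¹ * t.out)) := by congr 1; group
      _ = _ := by rw [← h]; congr 1; group
  refine ⟨fun ψ => omegaFun ψ E, fun g => ?_, fun ψ => ?_⟩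
  · rw [coeffFun_omegaFun hcf]
    exact ring_sum hM fun t _ => hr _
  have hsum : ∑ g : G, E g * (ψ : G → ℂ) g =
      ((CG a.1).index : ℂ) * (∑ v ∈ regs p a.1, sct (ψ : G → ℂ) a y v * conj (φ v)) := by
    have h1 : ∑ g : G, e g * (ψ : G → ℂ) g = (∑ v ∈ regs p a.1, sct (ψ : G → ℂ) a y v * conj (φ v)) := by
      simp only [he, Finset.sum_mul]
      rw [Finset.sum_comm]
      refine Finset.sum_congr rfl fun v _ => ?_
      rw [show sct (ψ : G → ℂ) a y v = ∑ k : G, be a k * (ψ : G → ℂ) (y * k * v) from rfl,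
        Finset.sum_mul]
      refine (Fintype.sum_equiv ((Equiv.mulLeft y).trans (Equiv.mulRight v)) _ _ fun k => ?_).symm
      simp only [Equiv.trans_apply, Equiv.coe_mulLeft, Equiv.coe_mulRight]
      rw [show y⁻¹ * (y * k * v) * v⁻¹ = k by group]
      ring
    simp only [hE, Finset.sum_mul]
    rw [Finset.sum_comm]
    have h2 : ∀ t : G ⧸ CG a.1, ∑ g : G, e (t.out⁻¹ * g * t.out) * (ψ : G → ℂ) g =
        (∑ v ∈ regs p a.1, sct (ψ : G → ℂ) a y v * conj (φ v)) := fun t => by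
      rw [← h1]
      refine Fintype.sum_equiv (MulAut.conj t.out⁻¹).toEquiv _ _ fun g => ?_
      simp only [MulEquiv.toEquiv_eq_coe, MulEquiv.coe_toEquiv, MulAut.conj_apply]
      rw [irr_classFun ψ g t.out⁻¹, inv_inv]
    rw [Finset.sum_congr rfl fun t _ => h2 t, Finset.sum_const, nsmul_eq_mul, Finset.card_univ,
      ← Nat.card_eq_fintype_card, Subgroup.index_eq_card]
  simp only [omegaFun, hsum]
  rw [← Subgroup.index_mul_card (CG a.1)]
  push_cast
  rw [← charDeg_spec']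
  have h4 : (((CG a.1).index : ℕ) : ℂ) ≠ 0 :=
    Nat.cast_ne_zero.2 Subgroup.index_ne_zero_of_finite
  have h5 := irr_one_ne_zero ψ
  field_simp

/-- An integral combination of the central characters is a generalized character. -/
theorem isGenChar_lin {a : BrauerPairIdx G} [Fintype (CG a.1)] [DecidablePred (· ∈ a.2)]
    (hcomm : a.1 ≤ CG a.1) (e : IrrCharacter (CG a.1) → ℤ) :
    IsGeneralizedCharacter a.1 (fun u => ∑ ξ ∈ Finset.univ.filter (· ∈ a.2),
      (e ξ : ℂ) * centralChar (ξ : CG a.1 → ℂ) (Subgroup.inclusion hcomm u)) := by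
  classical
  have hcen : ∀ u : a.1, Subgroup.inclusion hcomm u ∈ Subgroup.center (CG a.1) := fun u =>
    Subgroup.mem_center_iff.mpr fun t =>
      Subtype.ext (Subgroup.mem_centralizer_iff.1 t.2 (u : G) u.2).symm
  let lam : IrrCharacter (CG a.1) → (a.1 →* ℂ) := fun ξ =>
    { toFun := fun u => centralChar (ξ : CG a.1 → ℂ) (Subgroup.inclusion hcomm u)
      map_one' := by rw [map_one, centralChar_one]
      map_mul' := fun u v => by rw [map_mul, gam_mul (hcen u) (hcen v)] }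
  have hlin : ∀ ξ, IsCharacter a.1 (fun u => lam ξ u) := by
    intro ξ
    have h1 := IsIrr.mul_linear (isIrr_one (G := a.1)) (lam ξ).toHomUnits
    have e : (fun u => lam ξ u) = fun g : a.1 => (((lam ξ).toHomUnits g : ℂˣ) : ℂ) * (1 : ℂ) := by
      funext g; simp [MonoidHom.coe_toHomUnits]
    rw [e]
    exact IsIrr.isCharacter h1
  have h : (fun u : a.1 => ∑ ξ ∈ Finset.univ.filter (· ∈ a.2),
      (e ξ : ℂ) * centralChar (ξ : CG a.1 → ℂ) (Subgroup.inclusion hcomm u)) =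
      ∑ ξ ∈ Finset.univ.filter (· ∈ a.2), (e ξ : ℂ) • (fun u => lam ξ u) := by
    funext u
    simp [lam, Finset.sum_apply]
  rw [h]
  exact IsGenChar.sum fun ξ _ => IsGenChar.zsmul (IsGenChar.of_isCharacter (hlin ξ)) _

/-- A generalized character without zeros on the generators has mean square at least one there. -/
theorem genChar_sumSq {Q : Type u} [Group Q] [Fintype Q] {θ : Q → ℂ}
    (hθ : IsGeneralizedCharacter Q θ) (s : Finset Q) (hord : ∀ u ∈ s, orderOf u = Nat.card Q)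
    (hpow : ∀ u : Q, ∀ k : ℕ, (Nat.card Q).Coprime k → (u ^ k ∈ s ↔ u ∈ s))
    (hne : ∀ u ∈ s, θ u ≠ 0) : (s.card : ℝ) ≤ ∑ u ∈ s, Complex.normSq (θ u) := by
  obtain ⟨z, hz⟩ := IsGenChar.exists_int_prod hθ s hord hpow
  have hz0 : z ≠ 0 := fun h => by
    rw [h, Int.cast_zero] at hz
    exact Finset.prod_ne_zero_iff.2 hne hz
  refine card_le_sum_of_one_le_prod s _ (fun u hu => Complex.normSq_pos.2 (hne u hu)) ?_
  rw [← map_prod Complex.normSq, hz, Complex.normSq_intCast, ← sq]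
  exact_mod_cast sq_pos_of_ne_zero hz0

/-- The zeros of a generalized character among the generators are all or none. -/
theorem genChar_zero_gen {Q : Type u} [Group Q] [Fintype Q] {θ : Q → ℂ}
    (hθ : IsGeneralizedCharacter Q θ) {u v : Q} (hu : orderOf u = Nat.card Q)
    (hv : orderOf v = Nat.card Q) (h0 : θ u = 0) : θ v = 0 := by
  classical
  have htop : Subgroup.zpowers u = ⊤ :=
    Subgroup.eq_top_of_card_eq _ (by rw [Nat.card_zpowers, hu])
  obtain ⟨k, rfl⟩ := (mem_powers_iff_mem_zpowers (x := u)).2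
    (htop ▸ Subgroup.mem_top v : v ∈ Subgroup.zpowers u)
  have hk : k.Coprime (Nat.card Q) := by
    rw [orderOf_pow, hu] at hv
    have hg : (Nat.card Q).gcd k = 1 := by
      have h1 := Nat.div_mul_cancel (Nat.gcd_dvd_left (Nat.card Q) k)
      rw [hv] at h1
      exact (Nat.mul_eq_left Nat.card_pos.ne').1 h1
    exact Nat.Coprime.symm hg
  obtain ⟨σ, hσ⟩ := exists_galois (G := Q) k hk
  obtain ⟨α, β, hα, hβ, rfl⟩ := hθ
  show (α - β) (u ^ k) = 0
  rw [Pi.sub_apply, ← hσ α hα, ← hσ β hβ, ← map_sub]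
  show σ ((α - β) u) = 0
  rw [h0, map_zero]

/-- Modulo the ideal the matrix of the regular pairings has rank one. -/
theorem regMatrix_rank_one [Fact p.Prime] (hM : IsPModular p M) {H : Type u} [Group H] [Fintype H]
    {b : Set (IrrCharacter H)} (hb : IsPBlock M b) {w : IrrCharacter H → IrrCharacter H → ℤ}
    (hw : ∀ ξ ∈ b, ∀ χ ∈ b, regSum p (ξ : H → ℂ) (χ : H → ℂ) * ((p : ℂ) ^ blockDefect p b) =
      (Nat.card H : ℂ) * (w ξ χ : ℂ)) :
    ∃ r v₀ : ℂ, MemLocalRing M r ∧ ¬ MemLocalIdeal M r ∧ MemLocalRing M v₀ ∧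
      ¬ MemLocalIdeal M v₀ ∧
      (∀ ξ ∈ b, MemLocalRing M
        (((charDegree (ξ : H → ℂ) * p ^ blockDefect p b : ℕ) : ℂ) / (Nat.card H : ℂ))) ∧
      ∀ ξ ∈ b, ∀ ξ' ∈ b, MemLocalIdeal M ((w ξ ξ' : ℂ) * v₀ -
        r * ((((charDegree (ξ : H → ℂ) * p ^ blockDefect p b : ℕ) : ℂ) / (Nat.card H : ℂ)) *
          (((charDegree (ξ' : H → ℂ) * p ^ blockDefect p b : ℕ) : ℂ) / (Nat.card H : ℂ)))) := by
  classical
  have hp : p.Prime := Fact.out
  have hC0 : (Nat.card H : ℂ) ≠ 0 := Nat.cast_ne_zero.2 Nat.card_pos.ne'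
  obtain ⟨ξ₀, hξ₀, h00⟩ := exists_height_zero hM hb
  set u : IrrCharacter H → ℂ := fun ξ =>
    ((charDegree (ξ : H → ℂ) * p ^ blockDefect p b : ℕ) : ℂ) / (Nat.card H : ℂ) with hu
  have hufac : ∀ ξ ∈ b, (Nat.card H).factorization p ≤
      (charDegree (ξ : H → ℂ) * p ^ blockDefect p b).factorization p := fun ξ hξ => by
    rw [Nat.factorization_mul (charDeg_pos ξ).ne' (pow_ne_zero _ hp.ne_zero), Finsupp.add_apply,
      Nat.Prime.factorization_pow hp, Finsupp.single_eq_same, add_comm]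
    exact le_defect_add hM hb hξ
  have hur : ∀ ξ ∈ b, MemLocalRing M (u ξ) := fun ξ hξ => ring_natDiv hM Nat.card_pos.ne'
    (Nat.mul_ne_zero (charDeg_pos ξ).ne' (pow_ne_zero _ hp.ne_zero)) (hufac ξ hξ)
  have hu0 : ¬ MemLocalIdeal M (u ξ₀) := by
    refine natDiv_notMem hM Nat.card_pos.ne'
      (Nat.mul_ne_zero (charDeg_pos ξ₀).ne' (pow_ne_zero _ hp.ne_zero)) ?_
    rw [Nat.factorization_mul (charDeg_pos ξ₀).ne' (pow_ne_zero _ hp.ne_zero), Finsupp.add_apply,
      Nat.Prime.factorization_pow hp, Finsupp.single_eq_same,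
      ← (blockHeight_zero_iff hM hb hξ₀).1 h00, add_comm]
  have hwu : ∀ ξ ∈ b, ∀ ξ' ∈ b, (w ξ ξ' : ℂ) = regPair p ξ' ξ * u ξ := fun ξ hξ ξ' hξ' => by
    have h3 := hw ξ hξ ξ' hξ'
    simp only [regPair, hu]
    rw [Nat.cast_mul, ← charDeg_spec', Nat.cast_pow]
    have h5 := irr_one_ne_zero ξ
    field_simp
    linear_combination -h3
  have hsym : ∀ ξ ∈ b, ∀ ξ' ∈ b, (w ξ ξ' : ℂ) = w ξ' ξ := fun ξ hξ ξ' hξ' => by
    refine mul_left_cancel₀ hC0 ?_
    rw [← hw ξ hξ ξ' hξ', ← hw ξ' hξ' ξ hξ, Contrib.regSum_swap]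
  refine ⟨regPair p ξ₀ ξ₀, u ξ₀, (cenInt_regPair hM ξ₀).ring hM ξ₀,
    regPair_unit hM hb hξ₀ hξ₀ h00, hur ξ₀ hξ₀, hu0, hur, fun ξ hξ ξ' hξ' => ?_⟩
  show MemLocalIdeal M ((w ξ ξ' : ℂ) * u ξ₀ - regPair p ξ₀ ξ₀ * (u ξ * u ξ'))
  have h4 := hwu ξ₀ hξ₀ ξ' hξ'
  rw [hsym ξ₀ hξ₀ ξ' hξ', hwu ξ' hξ' ξ₀ hξ₀] at h4
  rw [show (w ξ ξ' : ℂ) * u ξ₀ - regPair p ξ₀ ξ₀ * (u ξ * u ξ') =
        (regPair p ξ' ξ - regPair p ξ' ξ₀) * (u ξ * u ξ₀) +
        (regPair p ξ₀ ξ' - regPair p ξ₀ ξ₀) * (u ξ * u ξ') by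
      rw [hwu ξ hξ ξ' hξ']; linear_combination -(u ξ) * h4]
  exact ideal_add hM
    (ideal_mul_right hM ((cenInt_regPair hM ξ').congr_block hM (pblock_sameBlock hM hb hξ hξ₀))
      (ring_mul hM (hur ξ hξ) (hur ξ₀ hξ₀)))
    (ideal_mul_right hM ((cenInt_regPair hM ξ₀).congr_block hM (pblock_sameBlock hM hb hξ' hξ₀))
      (ring_mul hM (hur ξ hξ) (hur ξ' hξ')))

/-- An element of norm one in the lattice of a major subsection bounds the number of characters. -/
theorem card_le_of_norm_one [Fact p.Prime] (hM : IsPModular p M) {a : BrauerPairIdx G} {y : G}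
    (hy : ∃ k, orderOf y = p ^ k) (hay : a.1 = Subgroup.zpowers y) (haB : OfB p M B a)
    (hd : blockDefect p a.2 = blockDefect p B) [Fintype (CG a.1)] [DecidablePred (· ∈ a.2)]
    {w : IrrCharacter (CG a.1) → IrrCharacter (CG a.1) → ℤ}
    (hw : ∀ ξ ∈ a.2, ∀ χ ∈ a.2,
      regSum p (ξ : CG a.1 → ℂ) (χ : CG a.1 → ℂ) * ((p : ℂ) ^ blockDefect p a.2) =
      (Nat.card (CG a.1) : ℂ) * (w ξ χ : ℂ))
    {n : IrrCharacter (CG a.1) → ℤ} (hn : frm a.2 w n n = 1) :
    Nat.card B ≤ p ^ blockDefect p B := by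
  classical
  have hp : p.Prime := Fact.out
  rw [← hd]
  set q := blockDefect p a.2 with hq
  have hcomm : a.1 ≤ CG a.1 := by
    rw [hay]; exact Subgroup.zpowers_le.2 (hay ▸ self_mem_cg hay)
  set A := Finset.univ.filter (· ∈ B) with hA
  set Aξ := Finset.univ.filter (· ∈ a.2) with hAξ
  set R := Finset.univ.filter (fun v : CG a.1 => ¬ p ∣ orderOf v) with hR
  set C := (Nat.card (CG a.1) : ℂ) with hC
  have hC0 : C ≠ 0 := Nat.cast_ne_zero.2 Nat.card_pos.ne'
  set s : Finset a.1 := Finset.univ.filter (fun u => orderOf u = Nat.card a.1) with hs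
  have hs0 : 0 < s.card := by
    refine Finset.card_pos.2 ⟨⟨y, (SetLike.ext_iff.1 hay y).2 (Subgroup.mem_zpowers y)⟩, ?_⟩
    simp only [s, Finset.mem_filter, Finset.mem_univ, true_and, Subgroup.orderOf_mk]
    rw [hay, Nat.card_zpowers]
  have hgen : ∀ u ∈ s, (∃ k, orderOf (u : G) = p ^ k) ∧ a.1 = Subgroup.zpowers (u : G) := by
    intro u hu
    have hu' : orderOf (u : G) = Nat.card a.1 := by
      rw [Subgroup.orderOf_coe]; exact (Finset.mem_filter.1 hu).2
    obtain ⟨k, hk⟩ := hy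
    refine ⟨⟨k, by rw [hu', hay, Nat.card_zpowers, hk]⟩, ?_⟩
    exact (Subgroup.eq_of_le_of_card_ge (Subgroup.zpowers_le.2 u.2)
      (by rw [Nat.card_zpowers, hu'])).symm
  have hpow : ∀ u : a.1, ∀ k : ℕ, (Nat.card a.1).Coprime k → (u ^ k ∈ s ↔ u ∈ s) := by
    intro u k hk
    simp only [s, Finset.mem_filter, Finset.mem_univ, true_and]
    rw [((hk.coprime_dvd_left (orderOf_dvd_natCard u))).orderOf_pow]
  set φ : G → ℂ := fun v => if h : v ∈ CG a.1 then comb a.2 n ⟨v, h⟩ else 0 with hφ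
  have hφv : ∀ v : CG a.1, φ (v : G) = comb a.2 n v := fun v => by simp [hφ]
  have hφi : ∀ x ∈ CG a.1, ∀ v, φ (x * v * x⁻¹) = φ v := by
    intro x hx v
    by_cases hv : v ∈ CG a.1
    · have h' : x * v * x⁻¹ ∈ CG a.1 := mul_mem (mul_mem hx hv) (inv_mem hx)
      rw [show φ (x * v * x⁻¹) = _ from hφv ⟨_, h'⟩, show φ v = _ from hφv ⟨v, hv⟩]
      refine Finset.sum_congr rfl fun ξ _ => ?_
      congr 1
      exact irr_classFun ξ ⟨v, hv⟩ ⟨x, hx⟩
    · have h' : x * v * x⁻¹ ∉ CG a.1 := fun h' => hv (by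
        have := mul_mem (mul_mem (inv_mem hx) h') hx
        simpa [mul_assoc] using this)
      simp [hφ, hv, h']
  have hφint : ∀ v ∈ regs p a.1, IsIntegral ℤ (φ v) := fun v hv => by
    rw [show φ v = _ from hφv ⟨v, (mem_regs.1 hv).1⟩]
    exact IsIntegral.sum _ fun ξ _ => (by
      simpa using isIntegral_algebraMap (R := ℤ) (A := ℂ) (x := n ξ) : IsIntegral ℤ (n ξ : ℂ)).mul
      (IsChar.isIntegral (irr_isChar ξ) _)
  set Z : IrrCharacter G → G → ℂ := fun χ x =>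
    (p : ℂ) ^ q * (∑ v ∈ regs p a.1, sct (χ : G → ℂ) a x v * conj (φ v)) / C with hZ
  have hZR : ∀ (χ : IrrCharacter G) (x : G), Z χ x =
      (p : ℂ) ^ q * (∑ v ∈ R, sct (χ : G → ℂ) a x (v : G) * conj (comb a.2 n v)) / C := by
    intro χ x
    simp only [hZ]
    rw [sum_regs_eq_regSum a.1 (fun v : CG a.1 => sct (χ : G → ℂ) a x (v : G)) (comb a.2 n)
      _ φ (fun _ _ => rfl) (fun v _ => hφv v), regSum_eq_sum]
  choose m hm using fun χ : IrrCharacter G => exists_sct_mult (irr_isChar χ) a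
  -- the pairing as a combination
  set c : IrrCharacter G → a.1 → IrrCharacter (CG a.1) → ℂ := fun χ u ξ =>
    (m χ ξ : ℂ) * centralChar (ξ : CG a.1 → ℂ) (Subgroup.inclusion hcomm u) with hc
  have hsct : ∀ (χ : IrrCharacter G) (u : a.1) (v : CG a.1), sct (χ : G → ℂ) a (u : G) (v : G) =
      ∑ ξ ∈ Aξ, c χ u ξ * (ξ : CG a.1 → ℂ) v := fun χ u v =>
    hm χ (Subgroup.inclusion hcomm u) u.2 v
  have hZc : ∀ (χ : IrrCharacter G) (u : a.1), Z χ (u : G) =
      ∑ ξ ∈ Aξ, ∑ ξ' ∈ Aξ, c χ u ξ * (n ξ' : ℂ) * (w ξ ξ' : ℂ) := by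
    intro χ u
    rw [hZR, div_eq_iff hC0]
    simp only [hsct, comb, ← hAξ, map_sum, map_mul, map_intCast, Finset.sum_mul, Finset.mul_sum]
    conv_lhs => enter [2, v]; rw [Finset.sum_comm]
    rw [Finset.sum_comm]
    refine Finset.sum_congr rfl fun ξ hξ => ?_
    rw [Finset.sum_comm]
    refine Finset.sum_congr rfl fun ξ' hξ' => ?_
    have h3 := hw ξ (Finset.mem_filter.1 hξ).2 ξ' (Finset.mem_filter.1 hξ').2
    rw [regSum_eq_sum, Finset.sum_mul] at h3
    rw [mul_assoc, mul_comm (w ξ ξ' : ℂ) C, hC, ← h3, Finset.mul_sum]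
    exact Finset.sum_congr rfl fun v _ => by ring
  -- the norms
  have hnorm : ∀ u ∈ s, ∑ χ ∈ A, Complex.normSq (Z χ (u : G)) = (p : ℝ) ^ q := by
    intro u hu
    obtain ⟨hup, hua⟩ := hgen u hu
    refine Complex.ofReal_inj.1 ?_
    push_cast
    simp only [← Complex.mul_conj, hZR]
    have hrs := Lattice.regSum_comb hw n n
    rw [hn, Int.cast_one, mul_one, regSum_eq_sum, ← hC, ← hR, ← hq] at hrs
    calc _ = ((p : ℂ) ^ q / C) ^ 2 * ∑ χ ∈ A, ∑ v ∈ R, ∑ v' ∈ R,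
          (conj (comb a.2 n v) * comb a.2 n v') *
            (sct (χ : G → ℂ) a (u : G) (v : G) * conj (sct (χ : G → ℂ) a (u : G) (v' : G))) := by
          rw [Finset.mul_sum]
          refine Finset.sum_congr rfl fun χ _ => ?_
          simp only [hC, map_div₀, map_mul, map_sum, map_pow, map_natCast, Complex.conj_conj]
          simp only [div_eq_mul_inv, Finset.sum_mul, Finset.mul_sum]
          rw [Finset.sum_comm]
          exact Finset.sum_congr rfl fun v _ => Finset.sum_congr rfl fun v' _ => by ring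
      _ = ((p : ℂ) ^ q / C) ^ 2 * ∑ v ∈ R, conj (comb a.2 n v) *
            ∑ v' ∈ R, kerB a.2 v v' * comb a.2 n v' := by
          congr 1
          rw [Finset.sum_comm]
          refine Finset.sum_congr rfl fun v hv => ?_
          rw [Finset.sum_comm, Finset.mul_sum]
          refine Finset.sum_congr rfl fun v' hv' => ?_
          rw [← Finset.mul_sum, sum_sct_mul_conj hM hup hua haB v v' (Finset.mem_filter.1 hv).2
            (Finset.mem_filter.1 hv').2]
          ring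
      _ = ((p : ℂ) ^ q / C) ^ 2 *
            (C * ∑ v ∈ R, comb a.2 n v * conj (comb a.2 n v)) := by
          congr 1
          rw [Finset.mul_sum]
          refine Finset.sum_congr rfl fun v hv => ?_
          rw [show ∑ v' ∈ R, kerB a.2 v v' * comb a.2 n v' = C * comb a.2 n v from
            sum_regular_kerB hM haB.1.2 (fun ξ => (n ξ : ℂ)) v (Finset.mem_filter.1 hv).2]
          ring
      _ = _ := by
          field_simp
          linear_combination ((p : ℂ) ^ q) * hrs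
  -- no zeros
  obtain ⟨ψ₀, hψ₀, h00⟩ := exists_height_zero hM haB.2.1
  obtain ⟨r, v₀, hrr, hru, hvr, hvu, hUr, hrank⟩ := regMatrix_rank_one hM haB.1.2 hw
  set U : IrrCharacter (CG a.1) → ℂ := fun ξ =>
    ((charDegree (ξ : CG a.1 → ℂ) * p ^ q : ℕ) : ℂ) / C with hU
  have hnU : ∀ ξ ∈ Aξ, MemLocalRing M ((n ξ : ℂ) * U ξ) := fun ξ hξ =>
    ring_mul hM (ring_of_integral hM
      (by simpa using isIntegral_algebraMap (R := ℤ) (A := ℂ) (x := n ξ)))
      (hUr ξ (Finset.mem_filter.1 hξ).2)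
  have hLn : ¬ MemLocalIdeal M (∑ ξ ∈ Aξ, (n ξ : ℂ) * U ξ) := by
    intro hi
    refine hvu ?_
    have e : v₀ = r * ((∑ ξ ∈ Aξ, (n ξ : ℂ) * U ξ) * (∑ ξ ∈ Aξ, (n ξ : ℂ) * U ξ)) +
        ∑ ξ ∈ Aξ, ∑ ξ' ∈ Aξ, (n ξ : ℂ) * (n ξ' : ℂ) * ((w ξ ξ' : ℂ) * v₀ - r * (U ξ * U ξ')) := by
      have h1 : (1 : ℂ) = ∑ ξ ∈ Aξ, ∑ ξ' ∈ Aξ, (n ξ : ℂ) * (n ξ' : ℂ) * (w ξ ξ' : ℂ) := by
        have := congrArg (fun z : ℤ => (z : ℂ)) hn
        simp only [frm, Int.cast_one, Int.cast_sum, Int.cast_mul, ← hAξ] at this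
        exact this.symm
      calc v₀ = (∑ ξ ∈ Aξ, ∑ ξ' ∈ Aξ, (n ξ : ℂ) * (n ξ' : ℂ) * (w ξ ξ' : ℂ)) * v₀ := by
            rw [← h1, one_mul]
        _ = _ := by
            rw [Finset.sum_mul_sum]
            simp only [Finset.mul_sum, Finset.sum_mul, ← Finset.sum_add_distrib]
            exact Finset.sum_congr rfl fun ξ _ => Finset.sum_congr rfl fun ξ' _ => by ring
    rw [e]
    refine ideal_add hM (ideal_mul_left hM hrr (ideal_mul_left hM (ring_sum hM hnU) hi)) ?_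
    exact ideal_sum hM fun ξ hξ => ideal_sum hM fun ξ' hξ' => ideal_mul_left hM
      (ring_mul hM (ring_of_integral hM
        (by simpa using isIntegral_algebraMap (R := ℤ) (A := ℂ) (x := n ξ)))
        (ring_of_integral hM (by simpa using isIntegral_algebraMap (R := ℤ) (A := ℂ) (x := n ξ'))))
      (hrank ξ (Finset.mem_filter.1 hξ).2 ξ' (Finset.mem_filter.1 hξ').2)
  have hcr : ∀ χ u ξ, MemLocalRing M (c χ u ξ) := fun χ u ξ =>
    ring_mul hM (ring_natCast hM _) (ring_of_integral hM (centralChar_isIntegral ξ _))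
  have hne : ∀ χ ∈ B, ∀ u ∈ s, Z χ (u : G) ≠ 0 := by
    intro χ hχ u hu
    obtain ⟨hup, hua⟩ := hgen u hu
    obtain ⟨F, hF, hval⟩ := exists_pair_omega hM hua haB.1 φ hφi hφint q
    have hval' : ∀ ψ : IrrCharacter G, Z ψ (u : G) =
        ((charDegree (ψ : G → ℂ) * p ^ q : ℕ) : ℂ) / (Nat.card G : ℂ) * F ψ := hval
    have hL : ¬ MemLocalIdeal M (∑ ξ ∈ Aξ, c ψ₀ u ξ * U ξ) := by
      have hnot := section_unit hM hup hua haB hψ₀ h00
      rw [show sct (ψ₀ : G → ℂ) a (u : G) 1 = sct (ψ₀ : G → ℂ) a (u : G) ((1 : CG a.1) : G)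
        from rfl, hsct, Finset.mul_sum, Finset.sum_div, ← hC] at hnot
      convert hnot using 2
      refine Finset.sum_congr rfl fun ξ _ => ?_
      simp only [hU]
      rw [Nat.cast_mul, ← charDeg_spec', Nat.cast_pow]
      ring
    have hZ0 : ¬ MemLocalIdeal M (Z ψ₀ (u : G)) := by
      intro hi
      have hLr : MemLocalRing M (∑ ξ ∈ Aξ, c ψ₀ u ξ * U ξ) := ring_sum hM fun ξ hξ =>
        ring_mul hM (hcr ψ₀ u ξ) (hUr ξ (Finset.mem_filter.1 hξ).2)
      have hLnr : MemLocalRing M (∑ ξ ∈ Aξ, (n ξ : ℂ) * U ξ) := ring_sum hM hnU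
      refine ideal_notMem_mul hM hrr (ring_mul hM hLr hLnr) hru
        (ideal_notMem_mul hM hLr hLnr hL hLn) ?_
      have e : r * ((∑ ξ ∈ Aξ, c ψ₀ u ξ * U ξ) * (∑ ξ ∈ Aξ, (n ξ : ℂ) * U ξ)) =
          Z ψ₀ (u : G) * v₀ - ∑ ξ ∈ Aξ, ∑ ξ' ∈ Aξ,
            c ψ₀ u ξ * (n ξ' : ℂ) * ((w ξ ξ' : ℂ) * v₀ - r * (U ξ * U ξ')) := by
        rw [hZc, Finset.sum_mul_sum]
        simp only [Finset.mul_sum, Finset.sum_mul, ← Finset.sum_sub_distrib]
        exact Finset.sum_congr rfl fun ξ _ => Finset.sum_congr rfl fun ξ' _ => by ring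
      rw [e]
      refine ideal_sub hM (ideal_mul_right hM hi hvr) ?_
      exact ideal_sum hM fun ξ hξ => ideal_sum hM fun ξ' hξ' => ideal_mul_left hM
        (ring_mul hM (hcr ψ₀ u ξ) (ring_of_integral hM
          (by simpa using isIntegral_algebraMap (R := ℤ) (A := ℂ) (x := n ξ'))))
        (hrank ξ (Finset.mem_filter.1 hξ).2 ξ' (Finset.mem_filter.1 hξ').2)
    have hF0 : ¬ MemLocalIdeal M (F ψ₀) := fun hi => hZ0 (by
      rw [hval']
      refine ideal_mul_left hM (ring_natDiv hM Nat.card_pos.ne'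
        (Nat.mul_ne_zero (charDeg_pos ψ₀).ne' (pow_ne_zero _ hp.ne_zero)) ?_) hi
      rw [Nat.factorization_mul (charDeg_pos ψ₀).ne' (pow_ne_zero _ hp.ne_zero), Finsupp.add_apply,
        Nat.Prime.factorization_pow hp, Finsupp.single_eq_same, add_comm, hd]
      exact le_defect_add hM haB.2.1 hψ₀)
    rw [hval']
    refine mul_ne_zero (div_ne_zero (Nat.cast_ne_zero.2 (Nat.mul_ne_zero (charDeg_pos χ).ne'
      (pow_ne_zero _ hp.ne_zero))) (Nat.cast_ne_zero.2 Nat.card_pos.ne')) fun hF' => hF0 ?_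
    have := hF.congr_block hM (pblock_sameBlock hM haB.2.1 hψ₀ hχ)
    rwa [hF', sub_zero] at this
  have hlow : ∀ χ ∈ A, (s.card : ℝ) ≤ ∑ u ∈ s, Complex.normSq (Z χ (u : G)) := by
    intro χ hχ
    have hθ := isGenChar_lin hcomm (fun ξ => (m χ ξ : ℤ) * ∑ ξ' ∈ Aξ, n ξ' * w ξ ξ')
    have hθv : ∀ u : a.1, (fun u => ∑ ξ ∈ Finset.univ.filter (· ∈ a.2),
        ((fun ξ => (m χ ξ : ℤ) * ∑ ξ' ∈ Aξ, n ξ' * w ξ ξ') ξ : ℂ) *
          centralChar (ξ : CG a.1 → ℂ) (Subgroup.inclusion hcomm u)) u = Z χ (u : G) := fun u => by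
      rw [hZc]
      refine Finset.sum_congr rfl fun ξ _ => ?_
      push_cast
      simp only [hc, Finset.mul_sum, Finset.sum_mul]
      exact Finset.sum_congr rfl fun ξ' _ => by ring
    rw [Finset.sum_congr rfl fun u _ => by rw [← hθv u]]
    exact genChar_sumSq hθ s (fun u hu => (Finset.mem_filter.1 hu).2) hpow fun u hu h0 =>
      hne χ (Finset.mem_filter.1 hχ).2 u hu ((hθv u).symm.trans h0)
  have hk : Nat.card B = A.card := by
    rw [Nat.card_eq_fintype_card]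
    exact Fintype.card_of_subtype A fun χ => by simp [hA]
  have h : (s.card : ℝ) * (A.card : ℝ) ≤ (s.card : ℝ) * (p : ℝ) ^ q := by
    calc (s.card : ℝ) * (A.card : ℝ) = ∑ χ ∈ A, (s.card : ℝ) := by
          rw [Finset.sum_const, nsmul_eq_mul]; ring
      _ ≤ ∑ χ ∈ A, ∑ u ∈ s, Complex.normSq (Z χ (u : G)) := Finset.sum_le_sum hlow
      _ = _ := by
          rw [Finset.sum_comm, Finset.sum_congr rfl hnorm, Finset.sum_const, nsmul_eq_mul]
  rw [hk]
  exact_mod_cast le_of_mul_le_mul_left h (Nat.cast_pos.2 hs0)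

/-- A major subsection of rank at most two. -/
theorem card_le_of_rank_two [Fact p.Prime] (hM : IsPModular p M) {a : BrauerPairIdx G} {y : G}
    (hy : ∃ k, orderOf y = p ^ k) (hay : a.1 = Subgroup.zpowers y) (haB : OfB p M B a)
    (hd : blockDefect p a.2 = blockDefect p B) (hl : blockRank p a.2 ≤ 2) :
    Nat.card B ≤ p ^ blockDefect p B := by
  classical
  letI := Fintype.ofFinite (CG a.1)
  have hp : p.Prime := Fact.out
  obtain ⟨w, hw, hsym, -, -, -⟩ := Contrib.exists_regMatrix hM haB.1.2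
  by_cases hone : ∃ n, frm a.2 w n n = 1
  · obtain ⟨n, hn⟩ := hone
    exact card_le_of_norm_one hM hy hay haB hd hw hn
  push Not at hone
  obtain ⟨n₁, n₂, k₁, k₂, hco, hr1, hr2, hz1, hz2⟩ := Lattice.exists_reduced hw hsym hl
  set Q₁ := frm a.2 w n₁ n₁ with hQ1
  set Q₂ := frm a.2 w n₂ n₂ with hQ2
  set Q₃ := frm a.2 w n₁ n₂ with hQ3
  have hQ : (Q₁ = 0 ∨ 2 ≤ Q₁) ∧ (Q₂ = 0 ∨ 2 ≤ Q₂) := by
    have h1 := (frm_self hp.ne_zero hw n₁).1
    have h2 := (frm_self hp.ne_zero hw n₂).1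
    have h3 := hone n₁
    have h4 := hone n₂
    omega
  rw [← hd]
  set q := blockDefect p a.2 with hq
  have hcomm : a.1 ≤ CG a.1 := by
    rw [hay]; exact Subgroup.zpowers_le.2 (hay ▸ self_mem_cg hay)
  set A := Finset.univ.filter (· ∈ B) with hA
  set Aξ := Finset.univ.filter (· ∈ a.2) with hAξ
  set R := Finset.univ.filter (fun v : CG a.1 => ¬ p ∣ orderOf v) with hR
  set C := (Nat.card (CG a.1) : ℂ) with hC
  have hC0 : C ≠ 0 := Nat.cast_ne_zero.2 Nat.card_pos.ne'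
  set s : Finset a.1 := Finset.univ.filter (fun u => orderOf u = Nat.card a.1) with hs
  have hs0 : 0 < s.card := by
    refine Finset.card_pos.2 ⟨⟨y, (SetLike.ext_iff.1 hay y).2 (Subgroup.mem_zpowers y)⟩, ?_⟩
    simp only [s, Finset.mem_filter, Finset.mem_univ, true_and, Subgroup.orderOf_mk]
    rw [hay, Nat.card_zpowers]
  have hord : ∀ u ∈ s, orderOf u = Nat.card a.1 := fun u hu => (Finset.mem_filter.1 hu).2
  have hgen : ∀ u ∈ s, (∃ k, orderOf (u : G) = p ^ k) ∧ a.1 = Subgroup.zpowers (u : G) := by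
    intro u hu
    have hu' : orderOf (u : G) = Nat.card a.1 := by
      rw [Subgroup.orderOf_coe]; exact hord u hu
    obtain ⟨k, hk⟩ := hy
    refine ⟨⟨k, by rw [hu', hay, Nat.card_zpowers, hk]⟩, ?_⟩
    exact (Subgroup.eq_of_le_of_card_ge (Subgroup.zpowers_le.2 u.2)
      (by rw [Nat.card_zpowers, hu'])).symm
  have hpow : ∀ u : a.1, ∀ k : ℕ, (Nat.card a.1).Coprime k → (u ^ k ∈ s ↔ u ∈ s) := by
    intro u k hk
    simp only [s, Finset.mem_filter, Finset.mem_univ, true_and]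
    rw [((hk.coprime_dvd_left (orderOf_dvd_natCard u))).orderOf_pow]
  choose m hm using fun χ : IrrCharacter G => exists_sct_mult (irr_isChar χ) a
  set X : IrrCharacter G → a.1 → ℂ := fun χ u => ∑ ξ ∈ Finset.univ.filter (· ∈ a.2),
    (((m χ ξ : ℤ) * k₁ ξ : ℤ) : ℂ) * centralChar (ξ : CG a.1 → ℂ) (Subgroup.inclusion hcomm u)
    with hX
  set Y : IrrCharacter G → a.1 → ℂ := fun χ u => ∑ ξ ∈ Finset.univ.filter (· ∈ a.2),
    (((m χ ξ : ℤ) * k₂ ξ : ℤ) : ℂ) * centralChar (ξ : CG a.1 → ℂ) (Subgroup.inclusion hcomm u)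
    with hY
  have hsct : ∀ (χ : IrrCharacter G) (u : a.1) (v : CG a.1), ¬ p ∣ orderOf v → sct (χ : G → ℂ) a (u : G) (v : G) =
      X χ u * comb a.2 n₁ v + Y χ u * comb a.2 n₂ v := by
    intro χ u v hv
    rw [show sct (χ : G → ℂ) a (u : G) (v : G) = _ from hm χ (Subgroup.inclusion hcomm u) u.2 v]
    simp only [hX, hY, Finset.sum_mul, ← Finset.sum_add_distrib]
    refine Finset.sum_congr rfl fun ξ hξ => ?_
    rw [hco ξ (Finset.mem_filter.1 hξ).2 v hv]
    push_cast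
    ring
  have hsT : ∀ (χ η : IrrCharacter G) (u : a.1), contrib p q a (u : G) χ η =
      (Q₁ : ℂ) * (X χ u * conj (X η u)) + (Q₃ : ℂ) * (X χ u * conj (Y η u) + Y χ u * conj (X η u))
        + (Q₂ : ℂ) * (Y χ u * conj (Y η u)) := by
    intro χ η u
    have h21 : frm a.2 w n₂ n₁ = Q₃ := by
      simp only [hQ3, frm]
      rw [Finset.sum_comm]
      refine Finset.sum_congr rfl fun ξ hξ => Finset.sum_congr rfl fun ξ' hξ' => ?_
      rw [hsym ξ' (Finset.mem_filter.1 hξ').2 ξ (Finset.mem_filter.1 hξ).2]; ring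
    have e11 := regSum_comb hw n₁ n₁
    have e22 := regSum_comb hw n₂ n₂
    have e12 := regSum_comb hw n₁ n₂
    have e21 := regSum_comb hw n₂ n₁
    rw [regSum_eq_sum, ← hC, ← hR, ← hq] at e11 e22 e12 e21
    rw [h21] at e21
    rw [contrib, secT, sum_regs_eq_regSum a.1
      (fun v => X χ u * comb a.2 n₁ v + Y χ u * comb a.2 n₂ v)
      (fun v => X η u * comb a.2 n₁ v + Y η u * comb a.2 n₂ v) _ _ (hsct χ u) (hsct η u),
      regSum_eq_sum, ← hC, ← hR, div_eq_iff hC0]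
    have e : ∑ v ∈ R, (X χ u * comb a.2 n₁ v + Y χ u * comb a.2 n₂ v) *
        conj (X η u * comb a.2 n₁ v + Y η u * comb a.2 n₂ v) =
        X χ u * conj (X η u) * (∑ v ∈ R, comb a.2 n₁ v * conj (comb a.2 n₁ v)) +
        X χ u * conj (Y η u) * (∑ v ∈ R, comb a.2 n₁ v * conj (comb a.2 n₂ v)) +
        Y χ u * conj (X η u) * (∑ v ∈ R, comb a.2 n₂ v * conj (comb a.2 n₁ v)) +
        Y χ u * conj (Y η u) * (∑ v ∈ R, comb a.2 n₂ v * conj (comb a.2 n₂ v)) := by
      simp only [Finset.mul_sum, ← Finset.sum_add_distrib, map_add, map_mul]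
      exact Finset.sum_congr rfl fun v _ => by ring
    rw [e]
    linear_combination (X χ u * conj (X η u)) * e11 + (X χ u * conj (Y η u)) * e12 +
      (Y χ u * conj (X η u)) * e21 + (Y χ u * conj (Y η u)) * e22
  choose r hr0 hr using fun (χ : IrrCharacter G) (u : a.1) =>
    contrib_self_nonneg p q a (u : G) χ
  have htr : ∀ u ∈ s, ∑ χ ∈ A, r χ u = (p : ℝ) ^ q * (blockRank p a.2 : ℝ) := by
    intro u hu
    obtain ⟨hup, hua⟩ := hgen u hu
    refine Complex.ofReal_inj.1 ?_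
    push_cast
    rw [Finset.sum_congr rfl fun χ _ => (hr χ u).symm]
    simp only [contrib, ← Finset.mul_sum, ← Finset.sum_div]
    rw [sum_sct_sq hM hup hua haB]
    field_simp
  have hXg : ∀ χ, IsGeneralizedCharacter a.1 (X χ) := fun χ => isGenChar_lin hcomm _
  have hYg : ∀ χ, IsGeneralizedCharacter a.1 (Y χ) := fun χ => isGenChar_lin hcomm _
  obtain ⟨ψ₀, hψ₀, h00⟩ := exists_height_zero hM haB.2.1
  have hnz : ∀ χ ∈ B, ∀ u ∈ s, X χ u ≠ 0 ∨ Y χ u ≠ 0 := by
    intro χ hχ u hu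
    by_contra h
    push Not at h
    refine (contrib_height hM (hgen u hu).1 (hgen u hu).2 haB hd (η := ψ₀) hχ).2.1 hψ₀ h00 ?_
    rw [← hd, hsT, h.1, h.2]
    simpa using ideal_zero hM
  have hval : ∀ (χ : IrrCharacter G) (u : a.1), r χ u = (Q₁ : ℝ) * Complex.normSq (X χ u) +
      2 * (Q₃ : ℝ) * ((X χ u).re * (Y χ u).re + (X χ u).im * (Y χ u).im) +
      (Q₂ : ℝ) * Complex.normSq (Y χ u) := by
    intro χ u
    have h := congrArg Complex.re ((hr χ u).symm.trans (hsT χ χ u))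
    simp only [Complex.ofReal_re] at h
    rw [h]
    simp only [Complex.add_re, Complex.mul_re, Complex.mul_im, Complex.intCast_re,
      Complex.intCast_im, Complex.conj_re, Complex.conj_im, Complex.add_im, Complex.normSq_apply]
    ring
  have hlow : ∀ χ ∈ A, 2 * (s.card : ℝ) ≤ ∑ u ∈ s, r χ u := by
    intro χ hχ
    obtain ⟨u₀, hu₀⟩ := Finset.card_pos.1 hs0
    have hall : ∀ f : a.1 → ℂ, IsGeneralizedCharacter a.1 f → f u₀ ≠ 0 → ∀ u ∈ s, f u ≠ 0 :=
      fun f hf h u hu h' => h (genChar_zero_gen hf (hord u hu) (hord u₀ hu₀) h')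
    have hall0 : ∀ f : a.1 → ℂ, IsGeneralizedCharacter a.1 f → f u₀ = 0 → ∀ u ∈ s, f u = 0 :=
      fun f hf h u hu => genChar_zero_gen hf (hord u₀ hu₀) (hord u hu) h
    have hQX : X χ u₀ ≠ 0 → 2 ≤ Q₁ := fun h => hQ.1.resolve_left fun h0 => h (by
      simp only [hX]
      exact Finset.sum_eq_zero fun ξ _ => by simp [hz1 h0 ξ])
    have hQY : Y χ u₀ ≠ 0 → 2 ≤ Q₂ := fun h => hQ.2.resolve_left fun h0 => h (by
      simp only [hY]
      exact Finset.sum_eq_zero fun ξ _ => by simp [hz2 h0 ξ])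
    by_cases hx : X χ u₀ = 0
    · have hy' := (hnz χ (Finset.mem_filter.1 hχ).2 u₀ hu₀).resolve_left (not_not.2 hx)
      have hsum := genChar_sumSq (hYg χ) s hord hpow (hall _ (hYg χ) hy')
      refine le_trans (mul_le_mul_of_nonneg_left hsum (by norm_num)) ?_
      rw [Finset.mul_sum]
      refine Finset.sum_le_sum fun u hu => ?_
      rw [hval, hall0 _ (hXg χ) hx u hu]
      have : (2 : ℝ) ≤ Q₂ := by exact_mod_cast hQY hy'
      have := mul_le_mul_of_nonneg_right this (Complex.normSq_nonneg (Y χ u))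
      simp only [map_zero, Complex.zero_re, Complex.zero_im]
      linarith
    by_cases hy' : Y χ u₀ = 0
    · have hsum := genChar_sumSq (hXg χ) s hord hpow (hall _ (hXg χ) hx)
      refine le_trans (mul_le_mul_of_nonneg_left hsum (by norm_num)) ?_
      rw [Finset.mul_sum]
      refine Finset.sum_le_sum fun u hu => ?_
      rw [hval, hall0 _ (hYg χ) hy' u hu]
      have : (2 : ℝ) ≤ Q₁ := by exact_mod_cast hQX hx
      have := mul_le_mul_of_nonneg_right this (Complex.normSq_nonneg (X χ u))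
      simp only [map_zero, Complex.zero_re, Complex.zero_im]
      linarith
    have hsumX := genChar_sumSq (hXg χ) s hord hpow (hall _ (hXg χ) hx)
    have hsumY := genChar_sumSq (hYg χ) s hord hpow (hall _ (hYg χ) hy')
    have h1 : ((|Q₃| : ℤ) : ℝ) + 1 ≤ Q₁ := by
      have := hQX hx
      exact_mod_cast (show |Q₃| + 1 ≤ Q₁ by omega)
    have h2 : ((|Q₃| : ℤ) : ℝ) + 1 ≤ Q₂ := by
      have := hQY hy'
      exact_mod_cast (show |Q₃| + 1 ≤ Q₂ by omega)
    push_cast at h1 h2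
    rw [two_mul]
    refine (add_le_add hsumX hsumY).trans ?_
    rw [← Finset.sum_add_distrib]
    refine Finset.sum_le_sum fun u _ => ?_
    rw [hval]
    simp only [Complex.normSq_apply]
    set x₁ := (X χ u).re
    set x₂ := (X χ u).im
    set y₁ := (Y χ u).re
    set y₂ := (Y χ u).im
    have g1 := mul_le_mul_of_nonneg_right h1 (add_nonneg (mul_self_nonneg x₁) (mul_self_nonneg x₂))
    have g2 := mul_le_mul_of_nonneg_right h2 (add_nonneg (mul_self_nonneg y₁) (mul_self_nonneg y₂))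
    rcases abs_cases (Q₃ : ℝ) with ⟨he, hs'⟩ | ⟨he, hs'⟩ <;> rw [he] at g1 g2
    · nlinarith [mul_nonneg hs' (add_nonneg (mul_self_nonneg (x₁ + y₁)) (mul_self_nonneg (x₂ + y₂)))]
    · nlinarith [mul_nonneg (neg_nonneg.2 hs'.le)
        (add_nonneg (mul_self_nonneg (x₁ - y₁)) (mul_self_nonneg (x₂ - y₂)))]
  have hk : Nat.card B = A.card := by
    rw [Nat.card_eq_fintype_card]
    exact Fintype.card_of_subtype A fun χ => by simp [hA]
  have h : (2 * (s.card : ℝ)) * (A.card : ℝ) ≤ (2 * (s.card : ℝ)) * (p : ℝ) ^ q := by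
    calc (2 * (s.card : ℝ)) * (A.card : ℝ) = ∑ χ ∈ A, 2 * (s.card : ℝ) := by
          rw [Finset.sum_const, nsmul_eq_mul]; ring
      _ ≤ ∑ χ ∈ A, ∑ u ∈ s, r χ u := Finset.sum_le_sum hlow
      _ = (s.card : ℝ) * ((p : ℝ) ^ q * (blockRank p a.2 : ℝ)) := by
          rw [Finset.sum_comm, Finset.sum_congr rfl htr, Finset.sum_const, nsmul_eq_mul]
      _ ≤ _ := by
          have hl' : (blockRank p a.2 : ℝ) ≤ 2 := by exact_mod_cast hl
          have := mul_le_mul_of_nonneg_left hl'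
            (mul_nonneg (Nat.cast_nonneg s.card) (pow_nonneg (Nat.cast_nonneg p) q) :
              (0 : ℝ) ≤ (s.card : ℝ) * (p : ℝ) ^ q)
          linarith
  rw [hk]
  exact_mod_cast le_of_mul_le_mul_left h (by positivity)

/-- The bound for the induced form of a major subsection. -/
theorem card_le_of_rank_two_induced [Fact p.Prime] (hM : IsPModular p M) {D : Subgroup G}
    (hD : IsDefectGroup p M B D) {z : G} (hzD : z ∈ D) {H : Subgroup G}
    (hH : H = CG (Subgroup.zpowers z)) {b : Set (IrrCharacter H)} (hb : IsInducedBlock M H b B)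
    (hDH : D ≤ H) (hbD : IsDefectGroup p M b (D.subgroupOf H)) (hl : blockRank p b ≤ 2) :
    Nat.card B ≤ p ^ blockDefect p B := by
  classical
  have hp : p.Prime := Fact.out
  subst hH
  have hy : ∃ k, orderOf z = p ^ k := by
    obtain ⟨k, hk⟩ := IsPGroup.iff_orderOf.1 (IsDefectGroup.isPGroup hD) ⟨z, hzD⟩
    exact ⟨k, by rwa [Subgroup.orderOf_mk] at hk⟩
  have hdef : blockDefect p b = blockDefect p B := by
    have h1 := card_defectGroup hM hb.1 hbD
    rw [Nat.card_congr (Subgroup.subgroupOfEquivOfLe hDH).toEquiv,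
      card_defectGroup hM hb.2.1 hD] at h1
    exact (Nat.pow_right_injective hp.two_le h1).symm
  exact card_le_of_rank_two hM hy (a := ⟨Subgroup.zpowers z, b⟩) rfl
    ((ofB_iff_induced hM hb.2.1 hy b).2 hb) hdef hl

end Cfsg.Agent.Char.Spec
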