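import Cfsg.Agent.Lib.Char.RegularQuotient
import Cfsg.Agent.Lib.Char.LatticeMin
import Cfsg.Agent.Lib.Char.MajorRankTwo
import Cfsg.Agent.Lib.Char.CentralHeight
import Cfsg.Agent.Lib.Char.RankOneBasic
import Cfsg.Agent.Lib.Block.PiKernel
import Mathlib.RingTheory.RootsOfUnity.Complex

/-!
The bound of Brauer and Feit on the number of characters of a block by its defect.
-/

open scoped ComplexConjugate

namespace Cfsg.Agent.Char.BFBound

open Cfsg Cfsg.Agent.Block Cfsg.Agent.Char Cfsg.Agent.Char.BP Cfsg.Agent.Char.Spec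
open Cfsg.Agent.Char.QuotDefect

set_option linter.unusedSectionVars false
set_option linter.style.haveILetI false
set_option maxHeartbeats 1600000

universe u

section Quot

variable {H : Type u} [Group H] [Fintype H] {p : ℕ} {M : Ideal AlgInt} (N : Subgroup H) [N.Normal]
variable {b : Set (IrrCharacter H)} {w : IrrCharacter H → IrrCharacter H → ℤ}

theorem card_quot (hcard : Nat.card N = p) :
    (Nat.card H : ℂ) = (Nat.card (H ⧸ N) : ℂ) * (p : ℂ) := by
  rw [Subgroup.card_eq_card_quotient_mul_card_subgroup N, hcard, Nat.cast_mul]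

/-- The regular pairings factor through the inflations. -/
theorem w_parseval [Fact p.Prime] (hM : IsPModular p M) (hNc : N ≤ Subgroup.center H)
    (hcard : Nat.card N = p) (hb : IsPBlock M b) [DecidablePred (· ∈ liftSet N b)]
    (hw : ∀ ξ ∈ b, ∀ χ ∈ b, regSum p (ξ : H → ℂ) (χ : H → ℂ) * ((p : ℂ) ^ blockDefect p b) =
      (Nat.card H : ℂ) * (w ξ χ : ℂ))
    {ξ ξ' : IrrCharacter H} (hξ : ξ ∈ b) (hξ' : ξ' ∈ b) :
    (p : ℤ) * ∑ η ∈ Finset.univ.filter (· ∈ liftSet N b),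
        w ξ (qinfl N η) * w (qinfl N η) ξ' = (p : ℤ) ^ blockDefect p b * w ξ ξ' := by
  classical
  have hN : IsPGroup p N := IsPGroup.of_card (n := 1) (by rw [hcard, pow_one])
  set D := ((p : ℂ) ^ blockDefect p b) with hD
  have hC := card_quot N hcard
  have hQ : (Nat.card (H ⧸ N) : ℂ) ≠ 0 := Nat.cast_ne_zero.2 Nat.card_pos.ne'
  have hC0 : (Nat.card H : ℂ) ≠ 0 := Nat.cast_ne_zero.2 Nat.card_pos.ne'
  have h := congrArg (· * (D * D)) (RegQuot.parseval N hM hNc hN hb hξ (ξ' := ξ'))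
  simp only [Finset.sum_mul] at h
  rw [Finset.sum_congr rfl (g := fun η => (Nat.card H : ℂ) ^ 2 *
      ((w ξ (qinfl N η) : ℂ) * (w (qinfl N η) ξ' : ℂ))) fun η hη => by
      rw [mul_mul_mul_comm, hw ξ hξ _ (Finset.mem_filter.1 hη).2,
        hw _ (Finset.mem_filter.1 hη).2 ξ' hξ']
      ring, ← Finset.mul_sum, show (Nat.card (H ⧸ N) : ℂ) * regSum p (ξ : H → ℂ) (ξ' : H → ℂ) *
        (D * D) = (Nat.card (H ⧸ N) : ℂ) * D * (regSum p (ξ : H → ℂ) (ξ' : H → ℂ) * D) by ring,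
    hw ξ hξ ξ' hξ'] at h
  apply (Int.cast_injective (α := ℂ))
  push_cast
  refine mul_left_cancel₀ (mul_ne_zero hC0 hQ) ?_
  rw [← hD]
  linear_combination h - (Nat.card H : ℂ) * (∑ η ∈ Finset.univ.filter (· ∈ liftSet N b),
    ((w ξ (qinfl N η) : ℂ) * (w (qinfl N η) ξ' : ℂ))) * hC

/-- The trace at the inflations. -/
theorem w_trace [Fact p.Prime] (hM : IsPModular p M) (hNc : N ≤ Subgroup.center H)
    (hcard : Nat.card N = p) (hb : IsPBlock M b) [DecidablePred (· ∈ liftSet N b)]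
    (hw : ∀ ξ ∈ b, ∀ χ ∈ b, regSum p (ξ : H → ℂ) (χ : H → ℂ) * ((p : ℂ) ^ blockDefect p b) =
      (Nat.card H : ℂ) * (w ξ χ : ℂ)) :
    (p : ℤ) * ∑ η ∈ Finset.univ.filter (· ∈ liftSet N b), w (qinfl N η) (qinfl N η) =
      (p : ℤ) ^ blockDefect p b * (blockRank p (liftSet N b) : ℤ) := by
  classical
  letI := Fintype.ofFinite (H ⧸ N)
  have hN : IsPGroup p N := IsPGroup.of_card (n := 1) (by rw [hcard, pow_one])
  have h := congrArg (· * ((p : ℂ) ^ blockDefect p b))
    (sum_regSum_self hM (RegQuot.block_liftSet N hM hNc hcard hb).1)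
  simp only [Finset.sum_mul] at h
  rw [Finset.sum_congr rfl (g := fun η => (Nat.card H : ℂ) *
      (w (qinfl N η) (qinfl N η) : ℂ)) fun η hη => by
      rw [← RegQuot.regSum_qinfl N hNc hN,
        hw _ (Finset.mem_filter.1 hη).2 _ (Finset.mem_filter.1 hη).2], ← Finset.mul_sum] at h
  apply (Int.cast_injective (α := ℂ))
  push_cast
  refine mul_left_cancel₀ (show (Nat.card (H ⧸ N) : ℂ) ≠ 0 from
    Nat.cast_ne_zero.2 Nat.card_pos.ne') ?_
  linear_combination h - (∑ η ∈ Finset.univ.filter (· ∈ liftSet N b),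
    (w (qinfl N η) (qinfl N η) : ℂ)) * card_quot N hcard

/-- The minors of the regular pairings vanish modulo `p`. -/
theorem w_minor [Fact p.Prime] (hM : IsPModular p M) (hb : IsPBlock M b)
    (hw : ∀ ξ ∈ b, ∀ χ ∈ b, regSum p (ξ : H → ℂ) (χ : H → ℂ) * ((p : ℂ) ^ blockDefect p b) =
      (Nat.card H : ℂ) * (w ξ χ : ℂ))
    {a c a' c' : IrrCharacter H} (ha : a ∈ b) (hc : c ∈ b) (ha' : a' ∈ b) (hc' : c' ∈ b) :
    (p : ℤ) ∣ w a c * w a' c' - w a c' * w a' c := by
  obtain ⟨r, v₀, hr, -, hv, hv0, hu, h⟩ := regMatrix_rank_one hM hb hw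
  set U : IrrCharacter H → ℂ := fun ξ =>
    ((charDegree (ξ : H → ℂ) * p ^ blockDefect p b : ℕ) : ℂ) / (Nat.card H : ℂ) with hU
  have hwr : ∀ ξ ξ', MemLocalRing M (w ξ ξ' : ℂ) := fun ξ ξ' => ring_intCast hM _
  have key : ∀ x ∈ b, ∀ y ∈ b, ∀ x' ∈ b, ∀ y' ∈ b, MemLocalIdeal M
      ((w x y : ℂ) * v₀ * ((w x' y' : ℂ) * v₀) - r * (U x * U y) * (r * (U x' * U y'))) := by
    intro x hx y hy x' hx' y' hy'
    rw [show (w x y : ℂ) * v₀ * ((w x' y' : ℂ) * v₀) - r * (U x * U y) * (r * (U x' * U y')) =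
      ((w x y : ℂ) * v₀ - r * (U x * U y)) * ((w x' y' : ℂ) * v₀) +
        r * (U x * U y) * ((w x' y' : ℂ) * v₀ - r * (U x' * U y')) by ring]
    exact ideal_add hM (ideal_mul_right hM (h x hx y hy) (ring_mul hM (hwr _ _) hv))
      (ideal_mul_left hM (ring_mul hM hr (ring_mul hM (hu x hx) (hu y hy))) (h x' hx' y' hy'))
  refine (ideal_intCast_iff hM _).1 ?_
  by_contra hn
  refine ideal_notMem_mul hM (ring_intCast hM _) (ring_mul hM hv hv) hn
    (ideal_notMem_mul hM hv hv hv0 hv0) ?_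
  have h2 := ideal_sub hM (key a ha c hc a' ha' c' hc') (key a ha c' hc' a' ha' c hc)
  convert h2 using 1
  push_cast
  ring

/-- An integral value vector on the inflations is zero or long. -/
theorem long_or_zero [Fact p.Prime] (hM : IsPModular p M) (hNc : N ≤ Subgroup.center H)
    (hcard : Nat.card N = p) (hb : IsPBlock M b) (hd : blockDefect p b = 2)
    [DecidablePred (· ∈ b)] [DecidablePred (· ∈ liftSet N b)]
    (hw : ∀ ξ ∈ b, ∀ χ ∈ b, regSum p (ξ : H → ℂ) (χ : H → ℂ) * ((p : ℂ) ^ blockDefect p b) =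
      (Nat.card H : ℂ) * (w ξ χ : ℂ))
    (hsym : ∀ ξ ∈ b, ∀ χ ∈ b, w ξ χ = w χ ξ)
    (hdiag : ∀ ξ ∈ b, ¬ (p : ℤ) ∣ w ξ ξ) (n : IrrCharacter H → ℤ) :
    (∀ η : {η : IrrCharacter (H ⧸ N) // η ∈ liftSet N b},
        ∑ ξ ∈ Finset.univ.filter (· ∈ b), n ξ * w ξ (qinfl N η) = 0) ∨
      (p : ℤ) * (blockRank p (liftSet N b) : ℤ) ≤
        ∑ η : {η : IrrCharacter (H ⧸ N) // η ∈ liftSet N b},
          (∑ ξ ∈ Finset.univ.filter (· ∈ b), n ξ * w ξ (qinfl N η)) ^ 2 := by
  classical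
  have hp : p.Prime := Fact.out
  have hp0 : (p : ℤ) ≠ 0 := Int.natCast_ne_zero.2 hp.ne_zero
  set ι := {η : IrrCharacter (H ⧸ N) // η ∈ liftSet N b} with hι
  let W : Matrix ι ι ℤ := fun r s => w (qinfl N r) (qinfl N s)
  have hmem : ∀ r : ι, qinfl N (r : IrrCharacter (H ⧸ N)) ∈ b := fun r => r.2
  have hs : ∀ F : IrrCharacter (H ⧸ N) → ℤ,
      ∑ η ∈ Finset.univ.filter (· ∈ liftSet N b), F η = ∑ r : ι, F r := fun F =>
    Finset.sum_subtype _ (fun η => by simp) F
  have hpar : ∀ ξ ∈ b, ∀ ξ' ∈ b,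
      ∑ r : ι, w ξ (qinfl N r) * w (qinfl N r) ξ' = (p : ℤ) * w ξ ξ' := fun ξ hξ ξ' hξ' => by
    have h := w_parseval N hM hNc hcard hb hw hξ hξ'
    rw [hs, hd, sq, mul_assoc] at h
    exact mul_left_cancel₀ hp0 h
  have hWt : Matrix.transpose W = W := by ext r s; exact hsym _ (hmem s) _ (hmem r)
  have hWW : W * W = (p : ℤ) • W := by
    ext r s
    rw [Matrix.mul_apply, Matrix.smul_apply, smul_eq_mul]
    exact hpar _ (hmem r) _ (hmem s)
  have htr : W.trace = p * (blockRank p (liftSet N b) : ℤ) := by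
    have h := w_trace N hM hNc hcard hb hw
    rw [hs, hd, sq, mul_assoc] at h
    exact mul_left_cancel₀ hp0 h
  have hrk : ∀ r s r' s', (p : ℤ) ∣ W r s * W r' s' - W r s' * W r' s := fun r s r' s' =>
    w_minor hM hb hw (hmem r) (hmem s) (hmem r') (hmem s')
  set v : ι → ℤ := fun η => ∑ ξ ∈ Finset.univ.filter (· ∈ b), n ξ * w ξ (qinfl N η) with hv
  by_cases hv0 : ∀ η, v η = 0
  · exact Or.inl hv0
  right
  push Not at hv0
  obtain ⟨η₀, hη₀⟩ := hv0
  have hWv : W.mulVec v = (p : ℤ) • v := by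
    funext r
    simp only [Matrix.mulVec, dotProduct, hv, Pi.smul_apply, smul_eq_mul, Finset.mul_sum]
    rw [Finset.sum_comm]
    refine Finset.sum_congr rfl fun ξ hξ => ?_
    have hξb := (Finset.mem_filter.1 hξ).2
    rw [Finset.sum_congr rfl (g := fun s : ι => n ξ * (w ξ (qinfl N s) * w (qinfl N s) (qinfl N r)))
      fun s _ => by
        show w (qinfl N r) (qinfl N s) * _ = _
        rw [hsym _ (hmem r) _ (hmem s)]; ring,
      ← Finset.mul_sum, hpar ξ hξb _ (hmem r)]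
    ring
  -- the vector is congruent to a multiple of one row
  obtain ⟨a, a', haa⟩ : ∃ a a' : ℤ, a * W η₀ η₀ + a' * p = 1 := by
    have hco : IsCoprime (W η₀ η₀) (p : ℤ) :=
      ((Nat.prime_iff_prime_int.1 hp).coprime_iff_not_dvd.2 (hdiag _ (hmem η₀))).symm
    exact hco
  set κ : ℤ := a * v η₀ with hκ
  have hdvd : ∀ η, (p : ℤ) ∣ v η - κ * W η η₀ := by
    intro η
    have e : v η - κ * W η η₀ = a' * p * v η + a * ∑ ξ ∈ Finset.univ.filter (· ∈ b),
        n ξ * (w ξ (qinfl N η) * W η₀ η₀ - w ξ (qinfl N η₀) * W η η₀) := by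
      simp only [mul_sub, Finset.sum_sub_distrib, ← mul_assoc (n _), ← Finset.sum_mul]
      rw [show (∑ ξ ∈ Finset.univ.filter (· ∈ b), n ξ * w ξ (qinfl N η)) = v η from rfl,
        show (∑ ξ ∈ Finset.univ.filter (· ∈ b), n ξ * w ξ (qinfl N η₀)) = v η₀ from rfl, hκ]
      linear_combination -(v η) * haa
    rw [e]
    refine dvd_add (Dvd.dvd.mul_right (dvd_mul_left _ _) _)
      (Dvd.dvd.mul_left (Finset.dvd_sum fun ξ hξ => Dvd.dvd.mul_left ?_ _) _)
    have h := w_minor hM hb hw (Finset.mem_filter.1 hξ).2 (hmem η) (hmem η₀) (hmem η₀)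
    rwa [show W η η₀ = w (qinfl N η₀) (qinfl N η) from hsym _ (hmem η) _ (hmem η₀)]
  choose z hz using hdvd
  set e₀ : ι → ℤ := Pi.single η₀ 1 with he₀
  have hWe : W.mulVec e₀ = fun η => W η η₀ := by
    funext η
    show ∑ x, W η x * e₀ x = _
    rw [Finset.sum_eq_single η₀ (fun x _ hx => by simp [e₀, hx])
      fun h => absurd (Finset.mem_univ _) h]
    simp [e₀]
  have hveq : v = κ • W.mulVec e₀ + (p : ℤ) • z := by
    funext η
    rw [hWe, Pi.add_apply, Pi.smul_apply, Pi.smul_apply, smul_eq_mul, smul_eq_mul]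
    linear_combination hz η
  have hWz : W.mulVec z = (p : ℤ) • z := by
    have h1 := hWv
    rw [hveq, Matrix.mulVec_add, Matrix.mulVec_smul, Matrix.mulVec_smul, Matrix.mulVec_mulVec, hWW,
      Matrix.smul_mulVec, smul_add, smul_comm κ (p : ℤ)] at h1
    funext η
    have h2 := congrFun (add_left_cancel h1) η
    simp only [Pi.smul_apply, smul_eq_mul] at h2 ⊢
    exact mul_left_cancel₀ hp0 h2
  set n' : ι → ℤ := κ • e₀ + z with hn'
  have hvW : v = W.mulVec n' := by
    rw [hn', Matrix.mulVec_add, Matrix.mulVec_smul, hWz, hveq]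
  have hsq : ∑ η, v η ^ 2 = (p : ℤ) * dotProduct n' (W.mulVec n') := by
    calc ∑ η, v η ^ 2 = dotProduct (W.mulVec n') (W.mulVec n') := by
          simp only [hvW, dotProduct, sq]
      _ = dotProduct (Matrix.vecMul n' W) (W.mulVec n') := by
          rw [← Matrix.mulVec_transpose, hWt]
      _ = _ := by
          rw [← Matrix.dotProduct_mulVec, Matrix.mulVec_mulVec, hWW, Matrix.smul_mulVec,
            dotProduct_smul, smul_eq_mul]
  have hne : dotProduct n' (W.mulVec n') ≠ 0 := fun h0 => by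
    rw [h0, mul_zero] at hsq
    have := (Finset.sum_eq_zero_iff_of_nonneg fun η _ => sq_nonneg (v η)).1 hsq η₀ (Finset.mem_univ _)
    exact hη₀ (pow_eq_zero_iff two_ne_zero |>.1 this)
  rw [hsq]
  exact mul_le_mul_of_nonneg_left (LatticeMin.le_form p (blockRank p (liftSet N b)) W hWt hWW htr
    hrk (fun r => ⟨r, hdiag _ (hmem r)⟩) n' hne) (Int.natCast_nonneg p)

end Quot

/-- Orthogonality of the powers of a root of unity of order `p`. -/
theorem sum_root_sq {p : ℕ} [hp : Fact p.Prime] {ζ : ℂ} (hζ : IsPrimitiveRoot ζ p)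
    (V : Fin p → ℤ) :
    ∑ k ∈ Finset.range p, (∑ j : Fin p, (ζ ^ (j : ℕ)) ^ k * (V j : ℂ)) *
        conj (∑ j : Fin p, (ζ ^ (j : ℕ)) ^ k * (V j : ℂ)) = (p : ℂ) * ∑ j, (V j : ℂ) ^ 2 := by
  classical
  simp only [map_sum, map_mul, map_pow, map_intCast, Finset.sum_mul, Finset.mul_sum]
  rw [Finset.sum_comm]
  refine Finset.sum_congr rfl fun j _ => ?_
  rw [Finset.sum_comm, Finset.sum_eq_single j]
  · have h1 : ∀ k : ℕ, (ζ ^ (j : ℕ)) ^ k * ((conj ζ) ^ (j : ℕ)) ^ k = 1 := fun k => by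
      rw [← mul_pow, ← mul_pow, Complex.mul_conj, Complex.normSq_eq_norm_sq,
        hζ.norm'_eq_one hp.out.ne_zero]
      simp
    rw [Finset.sum_congr rfl (g := fun _ => (V j : ℂ) ^ 2) fun k _ => by
      linear_combination ((V j : ℂ) ^ 2) * h1 k]
    simp
  · intro i _ hne
    set x := ζ ^ (i : ℕ) * (conj ζ) ^ (j : ℕ) with hx
    have hζ1 : ζ ^ p = 1 := hζ.pow_eq_one
    have hzz : (conj ζ) * ζ = 1 := by
      rw [mul_comm, Complex.mul_conj, Complex.normSq_eq_norm_sq, hζ.norm'_eq_one hp.out.ne_zero]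
      simp
    have hxp : x ^ p = 1 := by
      rw [hx, mul_pow, ← pow_mul, ← pow_mul, mul_comm (i : ℕ), mul_comm (j : ℕ), pow_mul, pow_mul,
        ← map_pow, hζ1]
      simp
    have hx1 : x ≠ 1 := fun h => hne (Fin.ext (hζ.pow_inj i.2 j.2 (by
      calc ζ ^ (i : ℕ) = ζ ^ (i : ℕ) * ((conj ζ) * ζ) ^ (j : ℕ) := by rw [hzz, one_pow, mul_one]
        _ = x * ζ ^ (j : ℕ) := by rw [hx, mul_pow, mul_assoc]
        _ = _ := by rw [h, one_mul])))
    have hg : ∑ k ∈ Finset.range p, x ^ k = 0 := by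
      refine (mul_eq_zero.1 ?_).resolve_left (sub_ne_zero.2 hx1)
      rw [mul_geom_sum, hxp, sub_self]
    rw [← mul_zero ((V i : ℂ) * (V j : ℂ)), ← hg, Finset.mul_sum]
    exact Finset.sum_congr rfl fun k _ => by rw [hx, mul_pow]; ring
  · exact fun h => absurd (Finset.mem_univ _) h

/-- Vectors which are not all equal differ in many pairs. -/
theorem pairs_lower {n : ℕ} {ι : Type*} [Fintype ι] (V : Fin n → ι → ℤ) (L : ℤ)
    (hL : ∀ i j, V i ≠ V j → L ≤ ∑ η, (V i η - V j η) ^ 2) (hne : ∃ i j, V i ≠ V j) :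
    ((n : ℤ) - 1) * L ≤ ∑ η, ((n : ℤ) * ∑ j, V j η ^ 2 - (∑ j, V j η) ^ 2) := by
  classical
  obtain ⟨j₀, j₁, h01⟩ := hne
  set q : Fin n → Fin n → ℤ := fun i j => ∑ η, (V i η - V j η) ^ 2 with hq
  have hq0 : ∀ i j, 0 ≤ q i j := fun i j => Finset.sum_nonneg fun η _ => sq_nonneg _
  have hsw : ∀ i j, q i j = q j i := fun i j => Finset.sum_congr rfl fun η _ => by ring
  have htwo : ∀ j, L ≤ q j j₀ + q j j₁ := by
    intro j
    by_cases h : V j = V j₀
    · have h' : V j ≠ V j₁ := fun e => h01 (h.symm.trans e)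
      linarith [hL _ _ h', hq0 j j₀]
    · linarith [hL _ _ h, hq0 j j₁]
  have htot : ∑ i, ∑ j, q i j = 2 * ∑ η, ((n : ℤ) * ∑ j, V j η ^ 2 - (∑ j, V j η) ^ 2) := by
    simp only [hq]
    rw [Finset.sum_congr rfl fun i _ => Finset.sum_comm, Finset.sum_comm, Finset.mul_sum]
    refine Finset.sum_congr rfl fun η _ => ?_
    simp only [sub_sq, Finset.sum_add_distrib, Finset.sum_sub_distrib, Finset.sum_const,
      Finset.card_univ, Fintype.card_fin, nsmul_eq_mul, mul_assoc, ← Finset.mul_sum,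
      ← Finset.sum_mul, sq (∑ j, V j η)]
    ring
  have hjj : j₀ ≠ j₁ := fun e => h01 (congrArg V e)
  have hsplit : ∑ i, ∑ j, q i j = ∑ j, (q j₀ j + q j₁ j) +
      ∑ i ∈ ({j₀, j₁} : Finset (Fin n))ᶜ, ∑ j, q i j := by
    rw [← Finset.sum_add_sum_compl ({j₀, j₁} : Finset (Fin n)), Finset.sum_pair hjj,
      Finset.sum_add_distrib]
  have hA : (n : ℤ) * L ≤ ∑ j, (q j₀ j + q j₁ j) := by
    refine le_trans (le_of_eq ?_) (Finset.sum_le_sum (f := fun _ => L) fun j _ => by
      rw [hsw j₀ j, hsw j₁ j]; exact htwo j)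
    simp
  have hB : ((n : ℤ) - 2) * L ≤ ∑ i ∈ ({j₀, j₁} : Finset (Fin n))ᶜ, ∑ j, q i j := by
    refine le_trans (le_of_eq ?_) (Finset.sum_le_sum (f := fun _ => L) fun i _ => le_trans (htwo i) (le_trans
      (le_of_eq (Finset.sum_pair hjj).symm)
      (Finset.sum_le_sum_of_subset_of_nonneg (Finset.subset_univ _) fun j _ _ => hq0 i j)))
    rw [Finset.sum_const, nsmul_eq_mul, Finset.card_compl, Finset.card_pair hjj, Fintype.card_fin]
    have : 2 ≤ n := by
      have := j₀.2; have := j₁.2; have : (j₀ : ℕ) ≠ j₁ := fun e => hjj (Fin.ext e)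
      omega
    rw [Nat.cast_sub this]
    norm_num
  linarith

variable {G : Type u} [Group G] [Fintype G] {p : ℕ} {M : Ideal AlgInt}
variable {B : Set (IrrCharacter G)}

/-- The powers of the generator of a cyclic group of prime order. -/
theorem gen_pow [Fact p.Prime] {y : G} (hy : orderOf y = p) {k : ℕ} (hk : k ∈ Finset.Ico 1 p) :
    (∃ m, orderOf (y ^ k) = p ^ m) ∧ Subgroup.zpowers y = Subgroup.zpowers (y ^ k) := by
  obtain ⟨hk1, hk2⟩ := Finset.mem_Ico.1 hk
  have ho : orderOf (y ^ k) = p := by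
    have hco : (orderOf y).Coprime k := hy ▸ (Fact.out : p.Prime).coprime_iff_not_dvd.2
      (Nat.not_dvd_of_pos_of_lt hk1 hk2)
    rw [hco.orderOf_pow, hy]
  refine ⟨⟨1, by rw [ho, pow_one]⟩, (Subgroup.eq_of_le_of_card_ge ?_ ?_).symm⟩
  · exact Subgroup.zpowers_le.2 (Subgroup.npow_mem_zpowers y k)
  · rw [Nat.card_zpowers, Nat.card_zpowers, ho, hy]

/-- Blocks of defect two. -/
theorem card_le_sq [Fact p.Prime] (hM : IsPModular p M) {a : BrauerPairIdx G} {y : G}
    (hy : orderOf y = p) (hay : a.1 = Subgroup.zpowers y) (haB : OfB p M B a)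
    (hd : blockDefect p a.2 = blockDefect p B) (h2 : blockDefect p B = 2) :
    Nat.card B ≤ p ^ 2 := by
  classical
  have hp : p.Prime := Fact.out
  letI := Fintype.ofFinite (CG a.1)
  have hb := haB.1.2
  set z : CG a.1 := ⟨y, self_mem_cg hay⟩ with hz
  have hzc : z ∈ Subgroup.center (CG a.1) := Subgroup.mem_center_iff.mpr fun t =>
    Subtype.ext (Subgroup.mem_centralizer_iff.1 t.2 y
      ((SetLike.ext_iff.1 hay y).2 (Subgroup.mem_zpowers y))).symm
  have hzo : orderOf z = p := by rw [← hy, hz, Subgroup.orderOf_mk]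
  set N : Subgroup (CG a.1) := Subgroup.zpowers z with hN
  have hNc : N ≤ Subgroup.center (CG a.1) := Subgroup.zpowers_le.2 hzc
  haveI : N.Normal := ⟨fun n hn g => by
    rw [Subgroup.mem_center_iff.1 (hNc hn) g, mul_inv_cancel_right]; exact hn⟩
  have hNcard : Nat.card N = p := by rw [hN, Nat.card_zpowers, hzo]
  obtain ⟨hS, -⟩ := RegQuot.block_liftSet N hM hNc hNcard hb
  set S := liftSet N a.2 with hSdef
  set lb : ℤ := (blockRank p S : ℤ) with hlb
  obtain ⟨w, hw, hsym, -, -, hdvd⟩ := Contrib.exists_regMatrix hM hb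
  have hzero : ∀ {H : Type u} [Group H] [Fintype H] (c : Set (IrrCharacter H)),
      IsPBlock M c → blockDefect p c = 2 → ∀ ξ ∈ c, blockHeight p c (ξ : H → ℂ) = 0 :=
    fun c hc hc2 ξ hξ => by
      by_contra h
      have := Contrib.height_add_two_le hM hc hξ h
      omega
  have hb2 : blockDefect p a.2 = 2 := hd.trans h2
  have hdiag : ∀ ξ ∈ a.2, ¬ (p : ℤ) ∣ w ξ ξ := fun ξ hξ h => by
    refine (hdvd ξ hξ ξ hξ).2.1 ?_ (hzero _ hb hb2 ξ hξ)
    rwa [hzero _ hb hb2 ξ hξ, zero_add, pow_one]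
  set ι := {η : IrrCharacter (CG a.1 ⧸ N) // η ∈ S} with hι
  -- the eigenvalues of the generator
  set ζ : ℂ := Complex.exp (2 * Real.pi * Complex.I / p) with hζdef
  have hζ : IsPrimitiveRoot ζ p := Complex.isPrimitiveRoot_exp p hp.ne_zero
  have hzk : ∀ k : ℕ, z ^ k ∈ Subgroup.center (CG a.1) := fun k => pow_mem hzc k
  have hωk : ∀ (ξ : IrrCharacter (CG a.1)) (k : ℕ),
      centralChar (ξ : CG a.1 → ℂ) (z ^ k) = centralChar (ξ : CG a.1 → ℂ) z ^ k := by
    intro ξ k
    induction k with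
    | zero => rw [pow_zero, pow_zero, centralChar_one]
    | succ k ih => rw [pow_succ, gam_mul (hzk k) hzc, ih, pow_succ]
  have hj : ∀ ξ : IrrCharacter (CG a.1), ∃ j : Fin p,
      ζ ^ (j : ℕ) = centralChar (ξ : CG a.1 → ℂ) z := fun ξ => by
    haveI : NeZero p := ⟨hp.ne_zero⟩
    obtain ⟨i, hi, h⟩ := hζ.eq_pow_of_pow_eq_one (ξ := centralChar (ξ : CG a.1 → ℂ) z) (by
      rw [← hωk, ← hzo, pow_orderOf_eq_one, centralChar_one])
    exact ⟨⟨i, hi⟩, h⟩
  choose jf hjf using hj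
  set A := Finset.univ.filter (· ∈ B) with hA
  set Aξ := Finset.univ.filter (· ∈ a.2) with hAξ
  choose m hm using fun χ : IrrCharacter G => exists_sct_mult (irr_isChar χ) a
  set V : IrrCharacter G → Fin p → ι → ℤ := fun χ j η =>
    ∑ ξ ∈ Aξ, (if jf ξ = j then (m χ ξ : ℤ) else 0) * w ξ (qinfl N η) with hV
  set X : IrrCharacter G → ℤ := fun χ =>
    ∑ η, ((p : ℤ) * ∑ j, V χ j η ^ 2 - (∑ j, V χ j η) ^ 2) with hX
  have hza : ∀ k : ℕ, ((z ^ k : CG a.1) : G) ∈ a.1 := fun k => by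
    exact (SetLike.ext_iff.1 hay _).2 (by
      rw [Subgroup.coe_pow]; exact Subgroup.npow_mem_zpowers y k)
  -- the contributions as squares
  have hsq : ∀ (χ : IrrCharacter G) (k : ℕ), (p : ℂ) * contrib p 2 a (y ^ k) χ χ =
      ∑ η : ι, (∑ j : Fin p, (ζ ^ (j : ℕ)) ^ k * (V χ j η : ℂ)) *
        conj (∑ j : Fin p, (ζ ^ (j : ℕ)) ^ k * (V χ j η : ℂ)) := by
    intro χ k
    set c : IrrCharacter (CG a.1) → ℂ := fun ξ => (m χ ξ : ℂ) * (ζ ^ (jf ξ : ℕ)) ^ k with hc
    have hcv : ∀ v : CG a.1, sct (χ : G → ℂ) a (y ^ k) (v : G) =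
        ∑ ξ ∈ Aξ, c ξ * (ξ : CG a.1 → ℂ) v := fun v => by
      rw [show (y ^ k : G) = ((z ^ k : CG a.1) : G) by rw [Subgroup.coe_pow], hm χ (z ^ k) (hza k) v]
      exact Finset.sum_congr rfl fun ξ _ => by simp only [hc, hωk, hjf]
    have hC0 : (Nat.card (CG a.1) : ℂ) ≠ 0 := Nat.cast_ne_zero.2 Nat.card_pos.ne'
    have hval : contrib p 2 a (y ^ k) χ χ =
        ∑ ξ ∈ Aξ, ∑ ξ' ∈ Aξ, c ξ * conj (c ξ') * (w ξ ξ' : ℂ) := by
      rw [contrib, secT, sum_regs_eq_regSum a.1 _ _ _ _ (fun v _ => hcv v) (fun v _ => hcv v),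
        regSum_eq_sum, div_eq_iff hC0]
      simp only [Finset.sum_mul, map_sum, map_mul, Finset.mul_sum]
      rw [Finset.sum_comm]
      conv_lhs => enter [2, ξ]; rw [Finset.sum_comm]
      rw [Finset.sum_comm]
      refine Finset.sum_congr rfl fun ξ hξ => Finset.sum_congr rfl fun ξ' hξ' => ?_
      have h3 := hw ξ (Finset.mem_filter.1 hξ).2 ξ' (Finset.mem_filter.1 hξ').2
      rw [hb2] at h3
      rw [mul_assoc (c ξ * conj (c ξ')), mul_comm (w ξ ξ' : ℂ) (Nat.card (CG a.1) : ℂ), ← h3,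
        regSum_eq_sum, Finset.sum_mul, Finset.mul_sum]
      exact Finset.sum_congr rfl fun v _ => by ring
    have hpar : ∀ ξ ∈ Aξ, ∀ ξ' ∈ Aξ, (p : ℂ) * (w ξ ξ' : ℂ) =
        ∑ η : ι, (w ξ (qinfl N η) : ℂ) * (w ξ' (qinfl N η) : ℂ) := by
      intro ξ hξ ξ' hξ'
      have hξb := (Finset.mem_filter.1 hξ).2
      have hξb' := (Finset.mem_filter.1 hξ').2
      have h := w_parseval N hM hNc hNcard hb hw hξb hξb'
      rw [hb2, sq, mul_assoc] at h
      have h' := congrArg (fun x : ℤ => (x : ℂ))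
        (mul_left_cancel₀ (Int.natCast_ne_zero.2 hp.ne_zero) h)
      push_cast at h'
      rw [← h', Finset.sum_subtype (p := fun η => η ∈ S) _ (fun η => by simp [S])]
      refine Finset.sum_congr rfl fun η _ => ?_
      rw [hsym _ η.2 ξ' hξb']
    have hlin : ∀ η : ι, ∑ j : Fin p, (ζ ^ (j : ℕ)) ^ k * (V χ j η : ℂ) =
        ∑ ξ ∈ Aξ, c ξ * (w ξ (qinfl N η) : ℂ) := by
      intro η
      simp only [hV, Int.cast_sum, Int.cast_mul, Finset.mul_sum]
      rw [Finset.sum_comm]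
      refine Finset.sum_congr rfl fun ξ _ => ?_
      rw [Finset.sum_eq_single (jf ξ)]
      · simp only [if_pos, hc, Int.cast_natCast]; ring
      · intro j _ hne; simp [Ne.symm hne]
      · exact fun h => absurd (Finset.mem_univ _) h
    simp only [hlin, map_sum, map_mul, map_intCast, Finset.sum_mul_sum]
    rw [hval, Finset.mul_sum, Finset.sum_comm]
    refine Finset.sum_congr rfl fun ξ hξ => ?_
    rw [Finset.mul_sum, Finset.sum_comm]
    refine Finset.sum_congr rfl fun ξ' hξ' => ?_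
    rw [← mul_assoc, mul_comm (p : ℂ), mul_assoc, hpar ξ hξ ξ' hξ', Finset.mul_sum]
    exact Finset.sum_congr rfl fun η _ => by ring
  choose r hr0 hr using fun (χ : IrrCharacter G) (k : ℕ) =>
    contrib_self_nonneg p 2 a (y ^ k) χ
  have hrX : ∀ χ, (p : ℝ) * ∑ k ∈ Finset.Ico 1 p, r χ k = (X χ : ℝ) := by
    intro χ
    refine Complex.ofReal_inj.1 ?_
    push_cast
    simp only [Finset.mul_sum, ← hr, hsq]
    rw [Finset.sum_comm]
    simp only [hX, Int.cast_sum]
    refine Finset.sum_congr rfl fun η _ => ?_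
    have h := sum_root_sq hζ (fun j => V χ j η)
    rw [← Finset.sum_range_add_sum_Ico _ hp.one_le, Finset.range_one, Finset.sum_singleton] at h
    simp only [pow_zero, one_mul, map_sum, map_intCast] at h
    push_cast
    simp only [map_sum] 
    linear_combination h
  have hlow : ∀ χ ∈ A, ((p : ℝ) - 1) * (lb : ℝ) ≤ ∑ k ∈ Finset.Ico 1 p, r χ k := by
    intro χ hχ
    have hχB := (Finset.mem_filter.1 hχ).2
    have hne : ∃ i j, V χ i ≠ V χ j := by
      by_contra h
      push Not at h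
      have hX0 : X χ = 0 := by
        simp only [hX]
        refine Finset.sum_eq_zero fun η _ => ?_
        set j₀ : Fin p := ⟨0, hp.pos⟩
        rw [Finset.sum_congr rfl (g := fun _ => V χ j₀ η ^ 2) fun j _ => by rw [h j j₀],
          Finset.sum_congr rfl (f := fun j => V χ j η) (g := fun _ => V χ j₀ η) fun j _ =>
            congrFun (h j j₀) η]
        simp [sq]; ring
      have h1 := hrX χ
      rw [hX0, Int.cast_zero, mul_eq_zero] at h1
      have h1 := (Finset.sum_eq_zero_iff_of_nonneg fun k _ => hr0 χ k).1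
        (h1.resolve_left (Nat.cast_ne_zero.2 hp.ne_zero)) 1 (Finset.mem_Ico.2 ⟨le_rfl, hp.one_lt⟩)
      have h0 : contrib p 2 a (y ^ 1) χ χ = 0 := by rw [hr, h1, Complex.ofReal_zero]
      rw [pow_one] at h0
      refine (contrib_major hM ⟨1, by rw [hy, pow_one]⟩ hay haB hd χ χ).2 hχB hχB
        (hzero _ haB.2.1 h2 χ hχB) (hzero _ haB.2.1 h2 χ hχB) ?_
      rw [h2, h0]
      exact ideal_zero hM
    have hL : ∀ i j, V χ i ≠ V χ j → (p : ℤ) * lb ≤ ∑ η, (V χ i η - V χ j η) ^ 2 := by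
      intro i j hij
      have e : ∀ η : ι, V χ i η - V χ j η = ∑ ξ ∈ Aξ, ((if jf ξ = i then (m χ ξ : ℤ) else 0) -
          (if jf ξ = j then (m χ ξ : ℤ) else 0)) * w ξ (qinfl N η) := fun η => by
        simp only [hV, sub_mul, Finset.sum_sub_distrib]
      rcases long_or_zero N hM hNc hNcard hb hb2 hw hsym hdiag (fun ξ =>
        (if jf ξ = i then (m χ ξ : ℤ) else 0) - (if jf ξ = j then (m χ ξ : ℤ) else 0)) with h | h
      · exact absurd (funext fun η => sub_eq_zero.1 ((e η).trans (h η))) hij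
      · simp only [e]
        exact h
    have h := pairs_lower (V χ) ((p : ℤ) * lb) hL hne
    have h' : (((p : ℤ) - 1) * ((p : ℤ) * lb) : ℝ) ≤ (X χ : ℝ) := by exact_mod_cast h
    rw [← hrX] at h'
    refine le_of_mul_le_mul_left ?_ (Nat.cast_pos.2 hp.pos : (0 : ℝ) < p)
    push_cast at h'
    linarith
  have htr : ∀ k ∈ Finset.Ico 1 p, ∑ χ ∈ A, r χ k = (p : ℝ) ^ 2 * (blockRank p a.2 : ℝ) := by
    intro k hk
    obtain ⟨hup, hua⟩ := gen_pow hy hk
    refine Complex.ofReal_inj.1 ?_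
    push_cast
    rw [Finset.sum_congr rfl fun χ _ => (hr χ k).symm]
    simp only [contrib, ← Finset.mul_sum, ← Finset.sum_div]
    rw [sum_sct_sq hM hup (hay.trans hua) haB]
    have : (Nat.card (CG a.1) : ℂ) ≠ 0 := Nat.cast_ne_zero.2 Nat.card_pos.ne'
    field_simp
  have hk : Nat.card B = A.card := by
    rw [Nat.card_eq_fintype_card]
    exact Fintype.card_of_subtype A fun χ => by simp [hA]
  have hlle : (blockRank p a.2 : ℝ) ≤ (lb : ℝ) := by
    have := RegQuot.blockRank_le N hM hNc (IsPGroup.of_card (n := 1) (by rw [hNcard, pow_one])) hb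
    simp only [hlb]
    exact_mod_cast this
  have hlpos : (0 : ℝ) < (lb : ℝ) := by
    letI := Fintype.ofFinite (CG a.1 ⧸ N)
    have := Res.blockRank_pos hM hS
    simp only [hlb]
    exact_mod_cast this
  have hp1 : (0 : ℝ) < (p : ℝ) - 1 := by
    have := hp.two_le
    have : (2 : ℝ) ≤ p := by exact_mod_cast this
    linarith
  have h : ((p : ℝ) - 1) * (lb : ℝ) * (A.card : ℝ) ≤ ((p : ℝ) - 1) * (lb : ℝ) * (p : ℝ) ^ 2 := by
    calc ((p : ℝ) - 1) * (lb : ℝ) * (A.card : ℝ) = ∑ χ ∈ A, ((p : ℝ) - 1) * (lb : ℝ) := by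
          rw [Finset.sum_const, nsmul_eq_mul]; ring
      _ ≤ ∑ χ ∈ A, ∑ k ∈ Finset.Ico 1 p, r χ k := Finset.sum_le_sum hlow
      _ = ((p : ℝ) - 1) * ((p : ℝ) ^ 2 * (blockRank p a.2 : ℝ)) := by
          rw [Finset.sum_comm, Finset.sum_congr rfl htr, Finset.sum_const, nsmul_eq_mul,
            Nat.card_Ico, Nat.cast_sub hp.one_le, Nat.cast_one]
      _ ≤ _ := by
          rw [mul_assoc ((p : ℝ) - 1) (lb : ℝ), mul_comm (lb : ℝ)]
          exact mul_le_mul_of_nonneg_left (mul_le_mul_of_nonneg_left hlle (by positivity)) hp1.le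
  rw [hk]
  exact_mod_cast le_of_mul_le_mul_left h (mul_pos hp1 hlpos)

/-- A section of prime order at which the defect does not drop. -/
theorem exists_major [Fact p.Prime] (hM : IsPModular p M) (hB : IsPBlock M B)
    (hd : blockDefect p B ≠ 0) :
    ∃ (a : BrauerPairIdx G) (y : G), orderOf y = p ∧ a.1 = Subgroup.zpowers y ∧ OfB p M B a ∧
      blockDefect p a.2 = blockDefect p B := by
  classical
  have hp : p.Prime := Fact.out
  obtain ⟨D, hD⟩ := exists_isDefectGroup hM hB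
  have hDp := IsDefectGroup.isPGroup hD
  haveI : Nontrivial D := Finite.one_lt_card_iff_nontrivial.1
    ((card_defectGroup hM hB hD).symm ▸ Nat.one_lt_pow hd hp.one_lt)
  obtain ⟨t, ht⟩ : ∃ t : Subgroup.center D, orderOf t = p := by
    haveI := hDp.center_nontrivial
    refine exists_prime_orderOf_dvd_card' p ?_
    obtain ⟨k, hk, h⟩ := IsPGroup.nontrivial_iff_card (hDp.to_subgroup (Subgroup.center D)) |>.1
      inferInstance
    rw [h]; exact dvd_pow_self p hk.ne'
  obtain ⟨e, hx⟩ := exists_max_at_defect hM hB hD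
  set y : G := ((t : D) : G) with hy
  have hle : Subgroup.zpowers y ≤ D := Subgroup.zpowers_le.2 (t : D).2
  obtain ⟨a, ha, hax⟩ := exists_le hM hx.1.1 (Q := Subgroup.zpowers y) hle
  have hC : D ≤ CG a.1 := fun v hv => by
    rw [ha, cg_zpowers, Subgroup.mem_centralizer_singleton_iff]
    exact congrArg Subtype.val (Subgroup.mem_center_iff.1 t.2 ⟨v, hv⟩)
  refine ⟨a, y, ?_, ha, (ofB_le hM hax).1 hx.1, blockDefect_of_le_major hM hx hax hC⟩
  rw [hy, Subgroup.orderOf_coe, Subgroup.orderOf_coe, ht]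

/-- The theorem of Brauer and Feit. -/
theorem bound [Fact p.Prime] (hM : IsPModular p M) : ∀ (d : ℕ) {K : Type u} [Group K] [Fintype K]
    (C : Set (IrrCharacter K)), IsPBlock M C → blockDefect p C = d →
      (d ≤ 2 → Nat.card C ≤ p ^ d) ∧ (3 ≤ d → Nat.card C ≤ p ^ (2 * d - 2)) := by
  have hp : p.Prime := Fact.out
  intro d
  induction d using Nat.strong_induction_on with
  | _ d IH =>
    intro K _ _ C hC hd
    classical
    rcases Nat.eq_zero_or_pos d with rfl | hd0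
    · exact ⟨fun _ => (((blockRank_facts hM hC).2.1.1 hd).1).le.trans_eq (pow_zero p).symm,
        fun h => absurd h (by omega)⟩
    obtain ⟨a, y, hy, hay, haB, had⟩ := exists_major hM hC (hd ▸ hd0.ne')
    -- the rank at the section through its quotient
    letI := Fintype.ofFinite (CG a.1)
    set z : CG a.1 := ⟨y, self_mem_cg hay⟩ with hz
    have hzc : z ∈ Subgroup.center (CG a.1) := Subgroup.mem_center_iff.mpr fun t =>
      Subtype.ext (Subgroup.mem_centralizer_iff.1 t.2 y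
        ((SetLike.ext_iff.1 hay y).2 (Subgroup.mem_zpowers y))).symm
    have hzo : orderOf z = p := by rw [← hy, hz, Subgroup.orderOf_mk]
    set N : Subgroup (CG a.1) := Subgroup.zpowers z with hN
    have hNc : N ≤ Subgroup.center (CG a.1) := Subgroup.zpowers_le.2 hzc
    haveI : N.Normal := ⟨fun n hn g => by
      rw [Subgroup.mem_center_iff.1 (hNc hn) g, mul_inv_cancel_right]; exact hn⟩
    have hNcard : Nat.card N = p := by rw [hN, Nat.card_zpowers, hzo]
    obtain ⟨hS, hSd⟩ := RegQuot.block_liftSet N hM hNc hNcard haB.1.2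
    letI := Fintype.ofFinite (CG a.1 ⧸ N)
    have hSd' : blockDefect p (liftSet N a.2) = d - 1 := by omega
    have hl : blockRank p a.2 ≤ Nat.card (liftSet N a.2) :=
      (RegQuot.blockRank_le N hM hNc (IsPGroup.of_card (n := 1) (by rw [hNcard, pow_one]))
        haB.1.2).trans (blockRank_facts hM hS).1
    obtain ⟨hIH1, hIH2⟩ := IH (d - 1) (by omega) (liftSet N a.2) hS hSd'
    have hyp : ∃ k, orderOf y = p ^ k := ⟨1, by rw [hy, pow_one]⟩
    refine ⟨fun hd2 => ?_, fun hd3 => ?_⟩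
    · rcases Nat.lt_or_ge d 2 with h1 | h1
      · have : d = 1 := by omega
        subst this
        have h := hIH1 (by omega)
        rw [show 1 - 1 = 0 from rfl, pow_zero] at h
        have := card_le_of_rank_two hM hyp hay haB had (by omega)
        rwa [hd] at this
      · have : d = 2 := by omega
        subst this
        exact card_le_sq hM hy hay haB had hd
    · by_cases hh : ∀ χ ∈ C, blockHeight p C (χ : K → ℂ) = 0
      · have h := card_sq_le hM hyp hay haB had hh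
        rw [hd] at h
        have hb : blockRank p a.2 ≤ p ^ (2 * d - 4) := by
          refine hl.trans ?_
          rcases Nat.lt_or_ge d 4 with h4 | h4
          · exact (hIH1 (by omega)).trans (Nat.pow_le_pow_right hp.pos (by omega))
          · exact (hIH2 (by omega)).trans (Nat.pow_le_pow_right hp.pos (by omega))
        have h' : Nat.card C ^ 2 ≤ (p ^ (2 * d - 2)) ^ 2 := by
          refine h.trans ((Nat.mul_le_mul_left _ hb).trans_eq ?_)
          rw [← pow_add, ← pow_mul]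
          congr 1
          omega
        exact (Nat.pow_le_pow_iff_left two_ne_zero).1 h'
      · push Not at hh
        obtain ⟨ξ, hξ, hpos⟩ := hh
        have h := Contrib.two_card_le hM hC hξ hpos
        rw [hd] at h
        omega

end Cfsg.Agent.Char.BFBound
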