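import Cfsg.Agent.Lib.Char.NilpotentCount

/-!
Generalized characters fixed under the powers prime to the order: rationality, and norms.
-/

open scoped ComplexConjugate

namespace Cfsg.Agent.Char

set_option linter.unusedSectionVars false

universe u

variable {G : Type u} [Group G] [Finite G]

theorem IsGenChar.exists_int_of_fixed {χ : G → ℂ} (h : IsGeneralizedCharacter G χ) (g : G)
    (hfix : ∀ k : ℕ, k.Coprime (orderOf g) → χ (g ^ k) = χ g) : ∃ m : ℤ, χ g = m := by
  classical
  obtain ⟨a, a', ⟨n, ρ, rfl⟩, ⟨n', ρ', rfl⟩, rfl⟩ := h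
  have hint := (isIntegral_character ρ g).sub (isIntegral_character ρ' g)
  obtain ⟨b, c, -, hc, hk⟩ := exists_rep_eigenbasis ρ g
  obtain ⟨b', c', -, hc', hk'⟩ := exists_rep_eigenbasis ρ' g
  set N := orderOf g with hN
  let e : _ ⊕ _ → ℂ := Sum.elim c (fun i => - c' i)
  have hsum : ∀ k : ℕ, Odd k → ∑ i, e i ^ k = ρ.character (g ^ k) - ρ'.character (g ^ k) := by
    intro k hodd
    rw [Fintype.sum_sum_type, hk k, hk' k, sub_eq_add_neg, ← Finset.sum_neg_distrib]
    simp only [e, Sum.elim_inl, Sum.elim_inr, hodd.neg_pow]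
  obtain ⟨q, hq⟩ := exists_rat_of_fixed (N := 2 * N) (Nat.mul_pos two_pos (orderOf_pos g))
    Finset.univ e
    (fun i _ => by
      rcases i with i | i
      · simp only [e, Sum.elim_inl]
        rw [mul_comm, pow_mul, hc i, one_pow]
      · simp only [e, Sum.elim_inr]
        rw [pow_mul, neg_sq, ← pow_mul, mul_comm, pow_mul, hc' i, one_pow])
    (fun k hkc => by
      have hodd : Odd k := Nat.Coprime.odd_of_right (hkc.coprime_mul_right_right)
      have h1 := hsum 1 odd_one
      simp only [pow_one] at h1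
      rw [hsum k hodd, h1]
      exact hfix k (Nat.Coprime.coprime_mul_left_right hkc))
  have h1 := hsum 1 odd_one
  simp only [pow_one] at h1
  rw [h1] at hq
  rw [hq] at hint
  rw [Pi.sub_apply, hq]
  exact int_of_isIntegral_rat hint

theorem isGenChar_prod {Q : Type u} [Group Q] [Finite Q] {ι : Type*} (s : Finset ι)
    (f : ι → Q → ℂ) (h : ∀ i ∈ s, IsGeneralizedCharacter Q (f i)) :
    IsGeneralizedCharacter Q (∏ i ∈ s, f i) :=
  Finset.prod_induction f _ (fun _ _ ha hb => IsGenChar.mul ha hb)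
    (IsGenChar.of_isCharacter IsChar.one) h

/-- The product of a generalized character over the generators of a group of prime power order is
a rational integer. -/
theorem IsGenChar.exists_int_prod {Q : Type u} [Group Q] [Fintype Q] {θ : Q → ℂ}
    (hθ : IsGeneralizedCharacter Q θ) (s : Finset Q)
    (hord : ∀ u ∈ s, orderOf u = Nat.card Q)
    (hpow : ∀ u : Q, ∀ k : ℕ, (Nat.card Q).Coprime k → (u ^ k ∈ s ↔ u ∈ s)) :
    ∃ z : ℤ, ∏ u ∈ s, θ u = z := by
  classical
  rcases s.eq_empty_or_nonempty with rfl | ⟨u₀, hu₀⟩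
  · exact ⟨1, by simp⟩
  let g : s → Q := fun u => (u : Q)
  let Φ : (s → Q) → ℂ := ∏ u : s, fun f : s → Q => θ (f u)
  have hΦ : IsGeneralizedCharacter (s → Q) Φ := isGenChar_prod _ _ fun u _ =>
    IsGenChar.comp (Pi.evalMonoidHom (fun _ : s => Q) u) hθ
  have hval : ∀ f : Q → Q, Φ (fun u : s => f u) = ∏ u ∈ s, θ (f u) := fun f => by
    simp only [Φ, Finset.prod_apply]
    exact Finset.prod_coe_sort s (fun u => θ (f u))
  suffices hfix : ∀ k : ℕ, k.Coprime (orderOf g) → Φ (g ^ k) = Φ g by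
    obtain ⟨z, hz⟩ := IsGenChar.exists_int_of_fixed hΦ g hfix
    exact ⟨z, by rw [← hz]; exact (hval fun u => u).symm⟩
  intro k hk
  have hd : orderOf u₀ ∣ orderOf g :=
    orderOf_map_dvd (Pi.evalMonoidHom (fun _ : s => Q) ⟨u₀, hu₀⟩) g
  have hco : (Nat.card Q).Coprime k := (hord u₀ hu₀) ▸ (hk.coprime_dvd_right hd).symm
  rw [show g ^ k = fun u : s => (u : Q) ^ k from rfl, hval (fun u => u ^ k),
    show Φ g = _ from hval (fun u => u)]
  exact Finset.prod_equiv (powCoprime hco) (fun u => (hpow u k hco).symm) fun u _ => rfl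

end Cfsg.Agent.Char
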