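import Cfsg.Agent.Lib.Char.SectionRank

/-!
The reproducing kernel of the sections at a pair: the matrix of their pairings squares to a
multiple of itself.
-/

open scoped ComplexConjugate

namespace Cfsg.Agent.Char.Spec

open Cfsg.Agent.Block Cfsg.Agent.Char.BP

set_option linter.unusedSectionVars false
set_option linter.style.haveILetI false
set_option maxHeartbeats 800000

universe u

variable {G : Type u} [Group G] [Fintype G] {p : ℕ} {M : Ideal AlgInt}

/-- The kernel of the projection to a set of characters. -/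
noncomputable def kerB (b : Set (IrrCharacter G)) (s t : G) : ℂ :=
  ∑ᶠ ξ ∈ b, (ξ : G → ℂ) s * conj ((ξ : G → ℂ) t)

theorem kerB_classFun (b : Set (IrrCharacter G)) (s t y : G) :
    kerB b s (y * t * y⁻¹) = kerB b s t := by
  simp only [kerB]
  refine finsum_congr fun ξ => finsum_congr fun _ => ?_
  rw [irr_classFun ξ t y]

theorem sum_regular_kerB [Fact p.Prime] (hM : IsPModular p M) {b : Set (IrrCharacter G)}
    (hb : IsPBlock M b) [DecidablePred (· ∈ b)] (c : IrrCharacter G → ℂ) (s : G)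
    (hs : ¬ p ∣ orderOf s) :
    ∑ t ∈ Finset.univ.filter (fun t : G => ¬ p ∣ orderOf t),
        kerB b s t * ∑ ξ ∈ Finset.univ.filter (· ∈ b), c ξ * (ξ : G → ℂ) t =
      (Nat.card G : ℂ) * ∑ ξ ∈ Finset.univ.filter (· ∈ b), c ξ * (ξ : G → ℂ) s := by
  classical
  rw [Finset.sum_subset (Finset.subset_univ _) fun t _ ht => ?_]
  · simp only [kerB, finsum_mem_block b, Finset.sum_mul, Finset.mul_sum]
    rw [Finset.sum_comm]
    refine Finset.sum_congr rfl fun ξ hξ => ?_
    rw [Finset.sum_comm, Finset.sum_eq_single ξ]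
    · calc ∑ t : G, (ξ : G → ℂ) s * conj ((ξ : G → ℂ) t) * (c ξ * (ξ : G → ℂ) t)
          = c ξ * (ξ : G → ℂ) s * ∑ t : G, (ξ : G → ℂ) t * conj ((ξ : G → ℂ) t) := by
            rw [Finset.mul_sum]
            exact Finset.sum_congr rfl fun t _ => by ring
        _ = _ := by
            have h := classInner_self_irr ξ.2
            rw [classInner, inv_mul_eq_iff_eq_mul₀ (Nat.cast_ne_zero.2 Nat.card_pos.ne'),
              mul_one] at h
            rw [h, mul_comm]
    · intro η _ hne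
      calc ∑ t : G, (η : G → ℂ) s * conj ((η : G → ℂ) t) * (c ξ * (ξ : G → ℂ) t)
          = c ξ * (η : G → ℂ) s * ∑ t : G, (ξ : G → ℂ) t * conj ((η : G → ℂ) t) := by
            rw [Finset.mul_sum]
            exact Finset.sum_congr rfl fun t _ => by ring
        _ = 0 := by
            have h := classInner_irr_ne ξ.2 η.2 (fun e => hne (Subtype.ext e).symm)
            rw [classInner, inv_mul_eq_iff_eq_mul₀ (Nat.cast_ne_zero.2 Nat.card_pos.ne'),
              mul_zero] at h
            rw [h, mul_zero]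
    · exact fun h => absurd hξ h
  · rw [kerB, weak_orth hM hb hs (by simpa using ht), zero_mul]

/-- The sections of the members of a block reproduce the kernel of the block at the pair. -/
theorem sum_sct_mul_conj [Fact p.Prime] (hM : IsPModular p M) {B : Set (IrrCharacter G)}
    [DecidablePred (· ∈ B)] {a : BrauerPairIdx G} [Fintype (CG a.1)] {x : G}
    (hx : ∃ k, orderOf x = p ^ k) (hax : a.1 = Subgroup.zpowers x) (haB : OfB p M B a)
    (s s' : CG a.1) (hs : ¬ p ∣ orderOf s) (hs' : ¬ p ∣ orderOf s') :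
    ∑ χ ∈ Finset.univ.filter (· ∈ B),
      sct (χ : G → ℂ) a x (s : G) * conj (sct (χ : G → ℂ) a x (s' : G)) = kerB a.2 s s' := by
  classical
  set A := Finset.univ.filter (· ∈ a.2) with hA
  set R := Finset.univ.filter (fun c : (CG a.1) => ¬ p ∣ orderOf c) with hR
  have hxa : x ∈ a.1 := (SetLike.ext_iff.1 hax x).2 (Subgroup.mem_zpowers x)
  set K : (CG a.1) → (CG a.1) → ℂ := kerB a.2 with hK
  have hKeq : ∀ s c, K s c =
      ∑ ξ ∈ A, (ξ : (CG a.1) → ℂ) s * conj ((ξ : (CG a.1) → ℂ) c) := fun s c =>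
    finsum_mem_block a.2 _
  have hC0 : (Nat.card (CG a.1) : ℂ) ≠ 0 := Nat.cast_ne_zero.2 Nat.card_pos.ne'
  have hpart : ∀ (χ : IrrCharacter G) (s : (CG a.1)), ¬ p ∣ orderOf s →
      sct (χ : G → ℂ) a x (s : G) =
        (Nat.card (CG a.1) : ℂ)⁻¹ * ∑ c ∈ R, (χ : G → ℂ) (x * (c : G)) * K s c := by
    intro χ s hs
    rw [← blockPart_eq_sct χ hxa s, blockPart, finsum_mem_block a.2]
    calc _ = ∑ ξ ∈ A, (Nat.card (CG a.1) : ℂ)⁻¹ * ∑ c : (CG a.1),
          (χ : G → ℂ) (x * (c : G)) * ((ξ : (CG a.1) → ℂ) s * conj ((ξ : (CG a.1) → ℂ) c)) := by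
          refine Finset.sum_congr rfl fun ξ _ => ?_
          simp only [classInner]
          rw [mul_assoc, Finset.sum_mul]
          congr 1
          refine Finset.sum_congr (by congr!) fun c _ => ?_
          ring
      _ = (Nat.card (CG a.1) : ℂ)⁻¹ * ∑ c : (CG a.1), (χ : G → ℂ) (x * (c : G)) * K s c := by
          rw [← Finset.mul_sum, Finset.sum_comm]
          simp only [hKeq, Finset.mul_sum]
      _ = _ := by
          rw [Finset.sum_subset (Finset.subset_univ R) fun c _ hc => ?_]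
          rw [hK, kerB, weak_orth hM haB.1.2 hs (by simpa [R] using hc), mul_zero]
  rw [Finset.sum_subset (Finset.subset_univ _) fun χ _ hχ => by
    rw [sct_eq_zero hM (mem_blockOf_self hM χ) (isPBlock_blockOf χ) haB.1 hx hax
      (fun h => hχ (Finset.mem_filter.2 ⟨Finset.mem_univ _, by
        rw [ofB_unique hM haB h]; exact mem_blockOf_self hM χ⟩))
      s.2 (by rwa [Subgroup.orderOf_coe]), zero_mul]]
  have hcount : ∀ c ∈ R, ∀ c' ∈ R, ∑ χ : IrrCharacter G,
      (χ : G → ℂ) (x * (c : G)) * conj ((χ : G → ℂ) (x * (c' : G))) =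
      ∑ y : (CG a.1), (if y * c * y⁻¹ = c' then (1 : ℂ) else 0) := by
    intro c hc c' hc'
    have hpp : ∀ d : (CG a.1), ¬ p ∣ orderOf d → IsPPart p (x * (d : G)) x := fun d hd =>
      ⟨d, rfl, Subgroup.mem_centralizer_iff.1 d.2 x hxa, hx,
        by rwa [Subgroup.orderOf_coe]⟩
    have key : ∀ y : G, y * (x * (c : G)) * y⁻¹ = x * (c' : G) → y ∈ (CG a.1) := by
      intro y hy
      obtain ⟨d, h1, h2, ⟨k, hk⟩, h4⟩ := hpp c (Finset.mem_filter.1 hc).2
      have hconj : ∀ g : G, orderOf (y * g * y⁻¹) = orderOf g := fun g =>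
        MulEquiv.orderOf_eq (MulAut.conj y) g
      have hp' : IsPPart p (x * (c' : G)) (y * x * y⁻¹) := by
        refine ⟨y * (c : G) * y⁻¹, by rw [conj_mul, hy], ?_, ⟨k, by rw [hconj, hk]⟩, ?_⟩
        · show y * x * y⁻¹ * (y * (c : G) * y⁻¹) = y * (c : G) * y⁻¹ * (y * x * y⁻¹)
          rw [conj_mul, conj_mul, (Subgroup.mem_centralizer_iff.1 c.2 x hxa)]
        · rw [hconj, Subgroup.orderOf_coe]
          exact (Finset.mem_filter.1 hc).2
      have h5 := pPart_unique hp' (hpp c' (Finset.mem_filter.1 hc').2)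
      rw [hax, cg_zpowers, Subgroup.mem_centralizer_singleton_iff]
      exact mul_inv_eq_iff_eq_mul.1 h5
    rw [sum_irr_count, ← Finset.sum_subset (Finset.subset_univ (Finset.univ.filter (· ∈ (CG a.1))))
      (fun y _ hy => if_neg fun h => hy (Finset.mem_filter.2 ⟨Finset.mem_univ _, key y h⟩)),
      ← Finset.sum_subtype_eq_sum_filter, Finset.subtype_univ]
    refine Finset.sum_congr rfl fun y _ => if_congr ?_ rfl rfl
    have hy : (y : G) * x = x * (y : G) := (Subgroup.mem_centralizer_iff.1 y.2 x hxa).symm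
    rw [← mul_assoc (y : G), hy, Subtype.ext_iff, mul_assoc, mul_assoc, mul_right_inj, ← mul_assoc]
    simp
  have hexpand : ∀ χ : IrrCharacter G,
      sct (χ : G → ℂ) a x (s : G) * conj (sct (χ : G → ℂ) a x (s' : G)) =
        ((Nat.card (CG a.1) : ℂ)⁻¹) ^ 2 * ∑ c ∈ R, ∑ c' ∈ R, (K s c * conj (K s' c')) *
          ((χ : G → ℂ) (x * (c : G)) * conj ((χ : G → ℂ) (x * (c' : G)))) := by
    intro χ
    rw [hpart χ s hs, hpart χ s' hs', map_mul, map_sum, map_inv₀, map_natCast, sq]
    simp only [Finset.mul_sum, Finset.sum_mul, map_mul]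
    rw [Finset.sum_comm]
    exact Finset.sum_congr rfl fun c _ => Finset.sum_congr rfl fun c' _ => by ring
  rw [Finset.sum_congr rfl fun χ _ => hexpand χ, ← Finset.mul_sum]
  have hcl : ∀ y c : (CG a.1), c ∈ R → y * c * y⁻¹ ∈ R := fun y c hc => by
    simp only [R, Finset.mem_filter, Finset.mem_univ, true_and] at hc ⊢
    rwa [show orderOf (y * c * y⁻¹) = orderOf c from MulEquiv.orderOf_eq (MulAut.conj y) c]
  have hmid : ∑ χ : IrrCharacter G, ∑ c ∈ R, ∑ c' ∈ R, (K s c * conj (K s' c')) *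
      ((χ : G → ℂ) (x * (c : G)) * conj ((χ : G → ℂ) (x * (c' : G)))) =
      (Nat.card (CG a.1) : ℂ) * ∑ c ∈ R, K s c * conj (K s' c) := by
    rw [Finset.sum_comm, Finset.mul_sum]
    refine Finset.sum_congr rfl fun c hc => ?_
    rw [Finset.sum_comm, Finset.sum_congr rfl fun c' hc' => by rw [← Finset.mul_sum, hcount c hc c' hc',
      Finset.mul_sum], Finset.sum_comm, Nat.card_eq_fintype_card, ← Finset.card_univ, ← nsmul_eq_mul,
      ← Finset.sum_const]
    refine Finset.sum_congr rfl fun y _ => ?_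
    rw [Finset.sum_eq_single (y * c * y⁻¹)]
    · rw [if_pos rfl, mul_one, hK, kerB_classFun]
    · intro c' _ hne; rw [if_neg (Ne.symm hne), mul_zero]
    · exact fun h => absurd (hcl y c hc) h
  have hproj : ∑ c ∈ R, K s c * conj (K s' c) = (Nat.card (CG a.1) : ℂ) * K s s' := by
    have h := sum_regular_kerB hM haB.1.2 (fun ξ => conj ((ξ : CG a.1 → ℂ) s')) s hs
    calc ∑ c ∈ R, K s c * conj (K s' c)
        = ∑ c ∈ R, K s c * ∑ ξ ∈ A, conj ((ξ : CG a.1 → ℂ) s') * (ξ : CG a.1 → ℂ) c := by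
          refine Finset.sum_congr rfl fun c _ => ?_
          rw [hKeq s' c, map_sum]
          congr 1
          exact Finset.sum_congr rfl fun ξ _ => by rw [map_mul, Complex.conj_conj]
      _ = (Nat.card (CG a.1) : ℂ) * ∑ ξ ∈ A, conj ((ξ : CG a.1 → ℂ) s') * (ξ : CG a.1 → ℂ) s := h
      _ = _ := by
          rw [hKeq s s']
          congr 1
          exact Finset.sum_congr rfl fun ξ _ => mul_comm _ _
  rw [hmid, hproj]
  field_simp

/-- The matrix of the pairings of the sections squares to a multiple of itself. -/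
theorem sum_secT_sq [Fact p.Prime] (hM : IsPModular p M) {B : Set (IrrCharacter G)}
    [DecidablePred (· ∈ B)] {a : BrauerPairIdx G} {x : G} (hx : ∃ k, orderOf x = p ^ k)
    (hax : a.1 = Subgroup.zpowers x) (haB : OfB p M B a) (χ : IrrCharacter G) :
    ∑ η ∈ Finset.univ.filter (· ∈ B),
      secT p (χ : G → ℂ) (η : G → ℂ) a x * conj (secT p (χ : G → ℂ) (η : G → ℂ) a x) =
      (Nat.card (CG a.1) : ℂ) * secT p (χ : G → ℂ) (χ : G → ℂ) a x := by
  classical
  letI := Fintype.ofFinite (CG a.1)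
  set R := Finset.univ.filter (fun c : (CG a.1) => ¬ p ∣ orderOf c) with hR
  have hxC : x ∈ CG a.1 := self_mem_cg hax
  have hxa : x ∈ a.1 := (SetLike.ext_iff.1 hax x).2 (Subgroup.mem_zpowers x)
  obtain ⟨c, -, hc⟩ := exists_sct_coef (irr_isChar χ) (a := a) hxC hxa
  have hT : ∀ η : IrrCharacter G, secT p (χ : G → ℂ) (η : G → ℂ) a x =
      ∑ v ∈ R, sct (χ : G → ℂ) a x (v : G) * conj (sct (η : G → ℂ) a x (v : G)) := fun η => by
    rw [secT, sum_regs_eq_regSum a.1 (fun v : CG a.1 => sct (χ : G → ℂ) a x (v : G))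
      (fun v : CG a.1 => sct (η : G → ℂ) a x (v : G)) _ _ (fun _ _ => rfl) (fun _ _ => rfl),
      regSum_eq_sum]
  simp only [hT, map_sum, map_mul, Complex.conj_conj, Finset.sum_mul, Finset.mul_sum]
  conv_lhs => enter [2, η]; rw [Finset.sum_comm]
  rw [Finset.sum_comm]
  calc ∑ v ∈ R, ∑ η ∈ Finset.univ.filter (· ∈ B), ∑ v' ∈ R,
        sct (χ : G → ℂ) a x (v : G) * conj (sct (η : G → ℂ) a x (v : G)) *
          (conj (sct (χ : G → ℂ) a x (v' : G)) * sct (η : G → ℂ) a x (v' : G))
      = ∑ v' ∈ R, conj (sct (χ : G → ℂ) a x (v' : G)) *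
          ∑ v ∈ R, kerB a.2 v' v * sct (χ : G → ℂ) a x (v : G) := by
        simp only [Finset.mul_sum]
        conv_lhs => enter [2, v]; rw [Finset.sum_comm]
        rw [Finset.sum_comm]
        refine Finset.sum_congr rfl fun v' hv' => Finset.sum_congr rfl fun v hv => ?_
        rw [← sum_sct_mul_conj hM hx hax haB v' v (Finset.mem_filter.1 hv').2
          (Finset.mem_filter.1 hv).2, Finset.sum_mul, Finset.mul_sum]
        exact Finset.sum_congr rfl fun η _ => by ring
    _ = _ := by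
        refine Finset.sum_congr rfl fun v' hv' => ?_
        rw [Finset.sum_congr rfl fun v _ => by rw [hc v],
          sum_regular_kerB hM haB.1.2 c v' (Finset.mem_filter.1 hv').2, ← hc v']
        ring

end Cfsg.Agent.Char.Spec
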