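import Cfsg.Agent.Lib.Char.MajorContrib
import Cfsg.Agent.Lib.Char.GenCharNorm
import Cfsg.Agent.Lib.Char.SectionKernel

/-!
A block all of whose characters have height zero: the square of the number of characters is at
most the square of the order of a defect group times the rank of a major subsection.
-/

open scoped ComplexConjugate

namespace Cfsg.Agent.Char.Spec

open Cfsg.Agent.Block Cfsg.Agent.Char.BP

set_option linter.unusedSectionVars false
set_option linter.style.haveILetI false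

universe u

/-- Positive reals with product at least one sum to at least their number. -/
theorem card_le_sum_of_one_le_prod {ι : Type*} (s : Finset ι) (t : ι → ℝ) (hpos : ∀ i ∈ s, 0 < t i)
    (hprod : 1 ≤ ∏ i ∈ s, t i) : (s.card : ℝ) ≤ ∑ i ∈ s, t i := by
  have h := Finset.sum_le_sum fun j hj => Real.log_le_sub_one_of_pos (hpos j hj)
  rw [← Real.log_prod (fun j hj => (hpos j hj).ne'), Finset.sum_sub_distrib, Finset.sum_const,
    nsmul_eq_mul, mul_one] at h
  linarith [Real.log_nonneg hprod]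

variable {G : Type u} [Group G] [Fintype G] {p : ℕ} {M : Ideal AlgInt}
variable {B : Set (IrrCharacter G)}

/-- The contributions, as a generalized character of the subgroup of the pair. -/
theorem exists_contrib_genChar [Fact p.Prime] (hM : IsPModular p M) (a : BrauerPairIdx G)
    (hb : IsPBlock M a.2) (hcomm : a.1 ≤ CG a.1) (χ η : IrrCharacter G) :
    ∃ θ : a.1 → ℂ, IsGeneralizedCharacter a.1 θ ∧
      ∀ u : a.1, θ u = contrib p (blockDefect p a.2) a (u : G) χ η := by
  classical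
  letI := Fintype.ofFinite (CG a.1)
  set A := Finset.univ.filter (· ∈ a.2) with hA
  obtain ⟨m, hm⟩ := exists_sct_mult (irr_isChar χ) a
  obtain ⟨m', hm'⟩ := exists_sct_mult (irr_isChar η) a
  obtain ⟨w, hw, -, -, -, -⟩ := Contrib.exists_regMatrix hM hb
  have hcen : ∀ u : a.1, Subgroup.inclusion hcomm u ∈ Subgroup.center (CG a.1) := fun u =>
    Subgroup.mem_center_iff.mpr fun t =>
      Subtype.ext (Subgroup.mem_centralizer_iff.1 t.2 (u : G) u.2).symm
  let lam : IrrCharacter (CG a.1) → (a.1 →* ℂ) := fun ξ =>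
    { toFun := fun u => centralChar (ξ : CG a.1 → ℂ) (Subgroup.inclusion hcomm u)
      map_one' := by rw [map_one, centralChar_one]
      map_mul' := fun u v => by rw [map_mul, gam_mul (hcen u) (hcen v)] }
  have hlin : ∀ ξ, IsCharacter a.1 (fun u => lam ξ u) ∧
      IsCharacter a.1 (fun u => conj (lam ξ u)) := by
    intro ξ
    have h1 := IsIrr.mul_linear (isIrr_one (G := a.1)) (lam ξ).toHomUnits
    have e : (fun u => lam ξ u) = fun g : a.1 => (((lam ξ).toHomUnits g : ℂˣ) : ℂ) * (1 : ℂ) := by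
      funext g; simp [MonoidHom.coe_toHomUnits]
    rw [e]
    exact ⟨IsIrr.isCharacter h1, by
      have h2 := IsChar.conj (IsIrr.isCharacter h1)
      simpa [MonoidHom.coe_toHomUnits] using h2⟩
  set θ : a.1 → ℂ := ∑ ξ ∈ A, ∑ ξ' ∈ A, (((m ξ : ℤ) * (m' ξ' : ℤ) * w ξ ξ' : ℤ) : ℂ) •
    ((fun u => lam ξ u) * fun u => conj (lam ξ' u)) with hθ
  refine ⟨θ, IsGenChar.sum fun ξ _ => IsGenChar.sum fun ξ' _ => IsGenChar.zsmul
    (IsGenChar.mul (IsGenChar.of_isCharacter (hlin ξ).1) (IsGenChar.of_isCharacter (hlin ξ').2)) _,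
    fun u => ?_⟩
  set z := Subgroup.inclusion hcomm u with hz
  have h1 : ∀ v : CG a.1, ¬ p ∣ orderOf v → sct (χ : G → ℂ) a (u : G) (v : G) =
      ∑ ξ ∈ A, ((m ξ : ℂ) * centralChar (ξ : CG a.1 → ℂ) z) * (ξ : CG a.1 → ℂ) v :=
    fun v _ => hm z u.2 v
  have h2 : ∀ v : CG a.1, ¬ p ∣ orderOf v → sct (η : G → ℂ) a (u : G) (v : G) =
      ∑ ξ ∈ A, ((m' ξ : ℂ) * centralChar (ξ : CG a.1 → ℂ) z) * (ξ : CG a.1 → ℂ) v :=
    fun v _ => hm' z u.2 v
  have hC0 : (Nat.card (CG a.1) : ℂ) ≠ 0 := Nat.cast_ne_zero.2 Nat.card_pos.ne'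
  rw [contrib, secT, sum_regs_eq_regSum a.1 _ _ _ _ h1 h2, regSum_eq_sum, eq_div_iff hC0, hθ]
  simp only [Finset.sum_apply, Pi.smul_apply, Pi.mul_apply, smul_eq_mul, Finset.sum_mul, map_sum,
    map_mul, Finset.mul_sum, map_natCast]
  symm
  conv_lhs => enter [2, v]; rw [Finset.sum_comm]
  rw [Finset.sum_comm]
  refine Finset.sum_congr rfl fun ξ hξ => ?_
  rw [Finset.sum_comm]
  refine Finset.sum_congr rfl fun ξ' hξ' => ?_
  have h3 := hw ξ (Finset.mem_filter.1 hξ).2 ξ' (Finset.mem_filter.1 hξ').2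
  rw [regSum_eq_sum, Finset.sum_mul] at h3
  calc _ = (m ξ : ℂ) * (m' ξ' : ℂ) *
        (centralChar (ξ : CG a.1 → ℂ) z * conj (centralChar (ξ' : CG a.1 → ℂ) z)) *
        ∑ v ∈ Finset.univ.filter (fun v : CG a.1 => ¬ p ∣ orderOf v),
          (ξ : CG a.1 → ℂ) v * conj ((ξ' : CG a.1 → ℂ) v) * (p : ℂ) ^ blockDefect p a.2 := by
        rw [Finset.mul_sum]
        exact Finset.sum_congr rfl fun v _ => by ring
    _ = _ := by
        rw [h3]
        show _ = _ * (centralChar (ξ : CG a.1 → ℂ) z * conj (centralChar (ξ' : CG a.1 → ℂ) z)) * _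
        push_cast
        ring

/-- The bound for blocks all of whose characters have height zero. -/
theorem card_sq_le [Fact p.Prime] (hM : IsPModular p M) {y : G} (hy : ∃ k, orderOf y = p ^ k)
    {a : BrauerPairIdx G} (hay : a.1 = Subgroup.zpowers y) (haB : OfB p M B a)
    (hd : blockDefect p a.2 = blockDefect p B)
    (hh : ∀ χ ∈ B, blockHeight p B (χ : G → ℂ) = 0) :
    Nat.card B ^ 2 ≤ p ^ (2 * blockDefect p B) * blockRank p a.2 := by
  classical
  set d := blockDefect p B with hddef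
  have hcomm : a.1 ≤ CG a.1 := by
    rw [hay]; exact Subgroup.zpowers_le.2 (hay ▸ self_mem_cg hay)
  set A := Finset.univ.filter (· ∈ B) with hA
  set s : Finset a.1 := Finset.univ.filter (fun u => orderOf u = Nat.card a.1) with hs
  have hs0 : 0 < s.card := by
    refine Finset.card_pos.2 ⟨⟨y, (SetLike.ext_iff.1 hay y).2 (Subgroup.mem_zpowers y)⟩, ?_⟩
    simp only [s, Finset.mem_filter, Finset.mem_univ, true_and, Subgroup.orderOf_mk]
    rw [hay, Nat.card_zpowers]
  have hgen : ∀ u ∈ s, (∃ k, orderOf (u : G) = p ^ k) ∧ a.1 = Subgroup.zpowers (u : G) := by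
    intro u hu
    have hu' : orderOf (u : G) = Nat.card a.1 := by
      rw [Subgroup.orderOf_coe]; exact (Finset.mem_filter.1 hu).2
    obtain ⟨k, hk⟩ := hy
    refine ⟨⟨k, by rw [hu', hay, Nat.card_zpowers, hk]⟩, ?_⟩
    exact (Subgroup.eq_of_le_of_card_ge (Subgroup.zpowers_le.2 u.2)
      (by rw [Nat.card_zpowers, hu'])).symm
  have hpow : ∀ u : a.1, ∀ k : ℕ, (Nat.card a.1).Coprime k → (u ^ k ∈ s ↔ u ∈ s) := by
    intro u k hk
    simp only [s, Finset.mem_filter, Finset.mem_univ, true_and]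
    rw [((hk.coprime_dvd_left (orderOf_dvd_natCard u))).orderOf_pow]
  set N : IrrCharacter G → IrrCharacter G → a.1 → ℂ :=
    fun χ η u => contrib p d a (u : G) χ η with hN
  -- each pair contributes at least the number of generators
  have hlow : ∀ χ ∈ B, ∀ η ∈ B, (s.card : ℝ) ≤ ∑ u ∈ s, Complex.normSq (N χ η u) := by
    intro χ hχ η hη
    obtain ⟨θ, hθ, hθv⟩ := exists_contrib_genChar hM a haB.1.2 hcomm χ η
    rw [hd] at hθv
    have hne : ∀ u ∈ s, θ u ≠ 0 := fun u hu h0 => by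
      refine (contrib_major hM (hgen u hu).1 (hgen u hu).2 haB hd χ η).2 hχ hη (hh χ hχ) (hh η hη) ?_
      rw [← hθv u, h0]
      exact ideal_zero hM
    obtain ⟨z, hz⟩ := IsGenChar.exists_int_prod hθ s
      (fun u hu => (Finset.mem_filter.1 hu).2) hpow
    have hz0 : z ≠ 0 := by
      intro h
      rw [h, Int.cast_zero] at hz
      exact Finset.prod_ne_zero_iff.2 hne hz
    refine card_le_sum_of_one_le_prod s _ (fun u hu => Complex.normSq_pos.2 (by
      show contrib p d a (u : G) χ η ≠ 0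
      rw [← hθv u]; exact hne u hu)) ?_
    have h1 : (∏ u ∈ s, Complex.normSq (N χ η u)) = (z : ℝ) ^ 2 := by
      rw [← map_prod Complex.normSq, Finset.prod_congr rfl fun u _ => (hθv u).symm, hz,
        Complex.normSq_intCast, sq]
    rw [h1]
    have h2 : (1 : ℤ) ≤ z ^ 2 := sq_pos_of_ne_zero hz0
    exact_mod_cast h2
  -- the total at each generator
  have htot : ∀ u ∈ s, ((∑ χ ∈ A, ∑ η ∈ A, Complex.normSq (N χ η u) : ℝ) : ℂ) =
      (((p ^ (2 * d) * blockRank p a.2 : ℕ) : ℝ) : ℂ) := by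
    intro u hu
    obtain ⟨hup, hua⟩ := hgen u hu
    have hC0 : (Nat.card (CG a.1) : ℂ) ≠ 0 := Nat.cast_ne_zero.2 Nat.card_pos.ne'
    push_cast
    simp only [← Complex.mul_conj]
    simp only [hN, contrib, map_div₀, map_mul, map_pow, map_natCast]
    calc _ = ∑ χ ∈ A, ((p : ℂ) ^ (2 * d) / (Nat.card (CG a.1) : ℂ) ^ 2) *
          ∑ η ∈ A, secT p (χ : G → ℂ) (η : G → ℂ) a (u : G) *
            conj (secT p (χ : G → ℂ) (η : G → ℂ) a (u : G)) := by
          refine Finset.sum_congr rfl fun χ _ => ?_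
          rw [Finset.mul_sum]
          refine Finset.sum_congr rfl fun η _ => ?_
          field_simp
          ring
      _ = _ := by
          rw [Finset.sum_congr rfl fun χ _ => by rw [sum_secT_sq hM hup hua haB χ],
            ← Finset.mul_sum, ← Finset.mul_sum, sum_sct_sq hM hup hua haB]
          field_simp
  have hfinal : (s.card : ℝ) * ((A.card : ℝ) ^ 2) ≤
      (s.card : ℝ) * ((p ^ (2 * d) * blockRank p a.2 : ℕ) : ℝ) := by
    calc (s.card : ℝ) * ((A.card : ℝ) ^ 2) = ∑ χ ∈ A, ∑ η ∈ A, (s.card : ℝ) := by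
          simp only [Finset.sum_const, nsmul_eq_mul]; ring
      _ ≤ ∑ χ ∈ A, ∑ η ∈ A, ∑ u ∈ s, Complex.normSq (N χ η u) :=
          Finset.sum_le_sum fun χ hχ => Finset.sum_le_sum fun η hη =>
            hlow χ (Finset.mem_filter.1 hχ).2 η (Finset.mem_filter.1 hη).2
      _ = ∑ u ∈ s, ((p ^ (2 * d) * blockRank p a.2 : ℕ) : ℝ) := by
          conv_lhs => enter [2, χ]; rw [Finset.sum_comm]
          rw [Finset.sum_comm]
          exact Finset.sum_congr rfl fun u hu => Complex.ofReal_inj.1 (htot u hu)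
      _ = _ := by rw [Finset.sum_const, nsmul_eq_mul]
  have h := le_of_mul_le_mul_left hfinal (Nat.cast_pos.2 hs0)
  have hcard : Nat.card B = A.card := by
    rw [Nat.card_eq_fintype_card]
    exact Fintype.card_of_subtype A (fun η => by simp [A])
  rw [hcard]
  exact_mod_cast h

/-- The same bound, phrased with an induced block. -/
theorem card_sq_le_induced [Fact p.Prime] (hM : IsPModular p M) {y : G}
    (hy : ∃ k, orderOf y = p ^ k) {H : Subgroup G} (hH : H = CG (Subgroup.zpowers y))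
    {b : Set (IrrCharacter H)} (hb : IsInducedBlock M H b B)
    (hd : blockDefect p b = blockDefect p B)
    (hh : ∀ χ ∈ B, blockHeight p B (χ : G → ℂ) = 0) :
    Nat.card B ^ 2 ≤ p ^ (2 * blockDefect p B) * blockRank p b := by
  subst hH
  exact card_sq_le hM hy (a := ⟨Subgroup.zpowers y, b⟩) rfl
    ((ofB_iff_induced hM hb.2.1 hy b).2 hb) hd hh

end Cfsg.Agent.Char.Spec
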