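import Mathlib.GroupTheory.PGroup
import Mathlib.GroupTheory.Commutator.Basic
import Mathlib.GroupTheory.SpecificGroups.Cyclic
import Mathlib.Tactic.Group

/-!
A nonabelian p-group with centre of index p² has derived subgroup of order p.
-/

namespace Cfsg.Agent.Char

open scoped commutatorElement

universe u

variable {P : Type u} [Group P] [Finite P] {p : ℕ} [hp : Fact p.Prime]

theorem card_commutator_of_center_index (_hP : IsPGroup p P)
    (hi : (Subgroup.center P).index = p ^ 2) (hna : ¬ ∀ a b : P, a * b = b * a) :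
    Nat.card (commutator P) = p := by
  set Z := Subgroup.center P with hZ
  obtain ⟨x, y, hxy⟩ : ∃ x y : P, x * y ≠ y * x := by simpa using hna
  have hncyc : ¬ IsCyclic (P ⧸ Z) := fun h => hna fun a b =>
    ((QuotientGroup.mk' Z).isMulCommutative_of_isCyclic_of_ker_le_center
      (le_of_eq (QuotientGroup.ker_mk' _))).is_comm.comm a b
  have hpow : ∀ g : P, g ^ p ∈ Z := by
    intro g
    obtain ⟨e, he, hge⟩ := (Nat.dvd_prime_pow hp.out).1
      (show orderOf (g : P ⧸ Z) ∣ p ^ 2 by rw [← hi, Subgroup.index_eq_card]; exact orderOf_dvd_natCard _)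
    rw [← QuotientGroup.eq_one_iff, QuotientGroup.mk_pow, ← orderOf_dvd_iff_pow_eq_one, hge]
    rcases (show e ≤ 1 ∨ e = 2 by omega) with h | rfl
    · exact (pow_dvd_pow p h).trans (dvd_of_eq (pow_one p))
    · exact absurd (isCyclic_of_orderOf_eq_card (g : P ⧸ Z)
        (by rw [hge, ← hi, Subgroup.index_eq_card])) hncyc
  have hxZ : x ∉ Z := fun h => hxy (Subgroup.mem_center_iff.1 h y).symm
  set A := Z ⊔ Subgroup.zpowers x with hA
  have hyA : y ∉ A := fun h => by
    refine hxy (Subgroup.mem_centralizer_singleton_iff.1 ((sup_le (fun z hz => ?_)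
      (Subgroup.zpowers_le.2 (Subgroup.mem_centralizer_singleton_iff.2 rfl)) :
        A ≤ Subgroup.centralizer ({x} : Set P)) h)).symm
    exact Subgroup.mem_centralizer_singleton_iff.2 (Subgroup.mem_center_iff.1 hz x).symm
  have htop : A ⊔ Subgroup.zpowers y = ⊤ := by
    have h1 : Z < A := lt_of_le_of_ne le_sup_left fun e =>
      hxZ (e ▸ Subgroup.mem_sup_right (Subgroup.mem_zpowers x))
    have h2 : A < A ⊔ Subgroup.zpowers y := lt_of_le_of_ne le_sup_left fun e =>
      hyA (e ▸ Subgroup.mem_sup_right (Subgroup.mem_zpowers y))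
    have d1 := Subgroup.index_dvd_of_le h1.le
    have d2 := Subgroup.index_dvd_of_le h2.le
    rw [hi, Nat.dvd_prime_pow hp.out] at d1
    obtain ⟨a, ha, ea⟩ := d1
    rw [ea, Nat.dvd_prime_pow hp.out] at d2
    obtain ⟨b, hb, eb⟩ := d2
    have s1 := Subgroup.index_strictAnti h1
    have s2 := Subgroup.index_strictAnti h2
    rw [hi, ea, Nat.pow_lt_pow_iff_right hp.out.one_lt] at s1
    rw [ea, eb, Nat.pow_lt_pow_iff_right hp.out.one_lt] at s2
    exact Subgroup.index_eq_one.1 (by rw [eb, show b = 0 by omega, pow_zero])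
  set c := ⁅y, x⁆ with hc
  haveI hAb : ∀ a b : P ⧸ Z, Commute a b := fun a b => by
    haveI : IsPGroup p (P ⧸ Z) := IsPGroup.of_card (n := 2) (by rw [← Subgroup.index_eq_card, hi])
    exact (IsPGroup.commGroupOfCardEqPrimeSq
      (by rw [← Subgroup.index_eq_card, hi] : Nat.card (P ⧸ Z) = p ^ 2)).mul_comm a b
  have hcen : ∀ a b : P, ⁅a, b⁆ ∈ Z := fun a b => by
    rw [← QuotientGroup.eq_one_iff]
    exact (map_commutatorElement (QuotientGroup.mk' Z) a b).trans
      (commutatorElement_eq_one_iff_mul_comm.2 (hAb _ _).eq)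
  have hcn : (Subgroup.zpowers c).Normal := ⟨fun n hn g => by
    have h1 : Subgroup.zpowers c ≤ Z := Subgroup.zpowers_le.2 (hcen y x)
    rwa [Subgroup.mem_center_iff.1 (h1 hn) g, mul_inv_cancel_right]⟩
  haveI := hcn
  have hle : commutator P ≤ Subgroup.zpowers c := by
    rw [commutator_def, Subgroup.commutator_le]
    intro a _ b _
    let π := QuotientGroup.mk' (Subgroup.zpowers c)
    have hπ : π y * π x = π x * π y := by
      rw [← commutatorElement_eq_one_iff_mul_comm, ← map_commutatorElement]
      exact (QuotientGroup.eq_one_iff _).2 (Subgroup.mem_zpowers _)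
    have hgen : ∀ w : P, Commute (π w) (π x) → Commute (π w) (π y) → ∀ v, Commute (π v) (π w) := by
      intro w hwx hwy v
      have : A ⊔ Subgroup.zpowers y ≤ (Subgroup.centralizer {π w}).comap π := by
        refine sup_le (sup_le (fun z hz => ?_) (Subgroup.zpowers_le.2 ?_)) (Subgroup.zpowers_le.2 ?_) <;>
          rw [Subgroup.mem_comap, Subgroup.mem_centralizer_singleton_iff]
        · rw [← map_mul, ← map_mul, (Subgroup.mem_center_iff.1 hz w).symm]
        · exact hwx.eq.symm
        · exact hwy.eq.symm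
      exact Subgroup.mem_centralizer_singleton_iff.1 (this (htop ▸ Subgroup.mem_top v))
    have hx' : ∀ v, Commute (π v) (π x) := hgen x rfl hπ.symm
    have hy' : ∀ v, Commute (π v) (π y) := hgen y hπ rfl
    rw [← QuotientGroup.eq_one_iff]
    exact (map_commutatorElement π a b).trans
      (commutatorElement_eq_one_iff_mul_comm.2 (hgen b (hx' b) (hy' b) a).eq)
  have hc1 : c ≠ 1 := fun h => hxy (commutatorElement_eq_one_iff_mul_comm.1 h).symm
  have hcp : c ^ p = 1 := by
    have hzx : ∀ n : ℕ, ⁅y ^ n, x⁆ = c ^ n := by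
      intro n
      induction n with
      | zero => simp
      | succ n ih =>
        have e : ⁅y * y ^ n, x⁆ = y * ⁅y ^ n, x⁆ * y⁻¹ * ⁅y, x⁆ := by
          simp only [commutatorElement_def]; group
        rw [pow_succ', e, Subgroup.mem_center_iff.1 (hcen _ _) y, mul_inv_cancel_right, ih, ← hc,
          ← pow_succ]
    rw [← hzx, commutatorElement_eq_one_iff_mul_comm]
    exact (Subgroup.mem_center_iff.1 (hpow y) x).symm
  have heq : commutator P = Subgroup.zpowers c := le_antisymm hle
    (Subgroup.zpowers_le.2 (Subgroup.commutator_mem_commutator (Subgroup.mem_top _) (Subgroup.mem_top _)))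
  rw [heq, Nat.card_zpowers, orderOf_eq_prime hcp hc1]

end Cfsg.Agent.Char
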