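import Cfsg.Agent.Lib.Char.FeitCoherence

/-!
The characters nontrivial on a central subgroup of a kernel of odd prime power order are coherent.
-/

set_option autoImplicit false
set_option linter.unusedSectionVars false

namespace Cfsg.Agent.Char.KerSets

open scoped ComplexConjugate commutatorElement
open Cfsg Cfsg.Agent.Char.FrobTI Cfsg.Agent.Char.Coh

universe u v

variable {L : Type u} [Group L] [Fintype L] {G : Type v} [Group G] [Fintype G]
variable (K : Subgroup L) [K.Normal]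
  (hC : ∀ k ∈ K, k ≠ 1 → Subgroup.centralizer ({k} : Set L) ≤ K)

theorem dg_conjFun (f : L → ℂ) : dg (conjFun f) = dg f := by
  simp [dg, conjFun]

theorem TT_subset_top {A B : Subgroup L} (hA : A ≤ K) :
    (↑(TT A B) : Set (L → ℂ)) ⊆ ↑(TT K ⊥) := fun f hf => by
  obtain ⟨h1, h2, -⟩ := mem_TT.1 hf
  exact mem_TT.2 ⟨h1, nonTriv_mono hA h2, not_nonTriv_bot f⟩

include hC in
/-- The degrees over a central subgroup are the index times prime powers. -/
theorem dg_prime_pow {p : ℕ} (hp : p.Prime) (hpK : IsPGroup p K) {Z : Subgroup L} [Z.Normal]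
    (hZK : Z ≤ K) (hZc : ∀ z ∈ Z, ∀ k ∈ K, z * k * z⁻¹ * k⁻¹ = 1) {f : L → ℂ} (hf : f ∈ TT Z ⊥) :
    ∃ i : ℕ, dg f = K.index * p ^ i ∧ p ^ (2 * i) ∣ Z.relIndex K := by
  haveI := Fact.mk hp
  obtain ⟨n, -, hdeg, hle, hdvd⟩ := sq_le_relIndex K hC hZK bot_le hZK
    (fun z hz k hk => Subgroup.mem_bot.2 (hZc z hz k hk)) hf
  obtain ⟨N, hN⟩ := IsPGroup.iff_card.1 hpK
  rw [hN] at hdvd
  obtain ⟨i, -, rfl⟩ := (Nat.dvd_prime_pow hp).1 hdvd
  refine ⟨i, hdeg, ?_⟩
  obtain ⟨j, -, hj⟩ := (Nat.dvd_prime_pow hp).1 (hN ▸ (Z.subgroupOf K).index_dvd_card)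
  rw [← pow_mul, mul_comm] at hle
  rw [Subgroup.relIndex] at hle ⊢
  rw [hj] at hle ⊢
  exact pow_dvd_pow p ((Nat.pow_le_pow_iff_right hp.one_lt).1 hle)

include hC in
theorem central_coherent (hodd : Odd (Nat.card L)) {p : ℕ} (hp : p.Prime) (hpK : IsPGroup p K)
    {Z : Subgroup L} [Z.Normal] (hZK : Z ≤ K) (hZ : Z ≠ ⊥)
    (hZc : ∀ z ∈ Z, ∀ k ∈ K, z * k * z⁻¹ * k⁻¹ = 1) {τ : (L → ℂ) → (G → ℂ)}
    (hH : Hyp (↑(TT K ⊥) : Set (L → ℂ)) τ) :
    IsCoherent (↑(TT Z ⊥) : Set (L → ℂ)) {1}ᶜ τ := by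
  classical
  haveI := Fact.mk hp
  have hK1 : K ≠ ⊥ := fun h => hZ (le_bot_iff.1 (hZK.trans h.le))
  have hp3 : 3 ≤ p := by
    rcases hp.eq_two_or_odd' with rfl | h
    · obtain ⟨i, hi⟩ := IsPGroup.iff_card.1 hpK
      have hi0 : i ≠ 0 := fun h => hK1 (Subgroup.card_eq_one.1 (by rw [hi, h, pow_zero]))
      have := Odd.of_dvd_nat hodd ((hi ▸ dvd_pow_self 2 hi0).trans K.card_subgroup_dvd_card)
      exact absurd this (by decide)
    · have := hp.two_le; obtain ⟨r, rfl⟩ := h; omega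
  have he : 0 < K.index := Nat.pos_of_ne_zero Subgroup.index_ne_zero_of_finite
  set X := TT Z ⊥ with hX
  have hsum := sum_sq_TT (A := Z) (B := ⊥) bot_le
  rw [Subgroup.index_bot] at hsum
  have hne : X.Nonempty := by
    rw [Finset.nonempty_iff_ne_empty]
    intro h
    rw [← hX, h, Finset.sum_empty, zero_add] at hsum
    have h2 := Z.card_mul_index
    rw [← hsum] at h2
    exact hZ (Subgroup.card_eq_one.1 (Nat.eq_of_mul_eq_mul_right
      (Nat.pos_of_ne_zero Subgroup.index_ne_zero_of_finite) (h2.trans (one_mul _).symm)))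
  obtain ⟨χ₀, hχ₀, hmin⟩ := X.exists_min_image dg hne
  obtain ⟨i, hi, -⟩ := dg_prime_pow K hC hp hpK hZK hZc hχ₀
  have hcoh : ∀ j, i ≤ j →
      IsCoherent (↑(X.filter fun f => dg f ≤ K.index * p ^ j) : Set (L → ℂ)) {1}ᶜ τ := by
    intro j hj
    induction j, hj using Nat.le_induction with
    | base =>
      have heq : ∀ f ∈ X.filter (fun f => dg f ≤ K.index * p ^ i), dg f = dg χ₀ := fun f hf => by
        obtain ⟨h1, h2⟩ := Finset.mem_filter.1 hf
        exact le_antisymm (hi ▸ h2) (hmin f h1)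
      refine equal_degree_irr _ (hH.mono ((Finset.coe_subset.2 (Finset.filter_subset _ _)).trans
        (TT_subset_top K hZK))) (d := dg χ₀) (fun f hf => ?_) ⟨χ₀, ?_, conjFun χ₀, ?_, ?_⟩
      · rw [dg_spec (mem_TT.1 (Finset.mem_filter.1 hf).1).1, heq f hf]
      · exact Finset.mem_filter.2 ⟨hχ₀, hi.le⟩
      · exact Finset.mem_filter.2 ⟨conjFun_mem hχ₀, by rw [dg_conjFun, hi]⟩
      · exact (conjFun_ne hodd hχ₀).symm
    | succ j hj ih =>
      set U := X.filter fun f => dg f ≤ K.index * p ^ j with hU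
      set W := X.filter fun f => dg f = K.index * p ^ (j + 1) with hW
      have hle : p ^ j ≤ p ^ (j + 1) := Nat.pow_le_pow_right hp.pos (Nat.le_succ j)
      have hcases : X.filter (fun f => dg f ≤ K.index * p ^ (j + 1)) = U ∪ W := by
        ext f
        simp only [hU, hW, Finset.mem_union, Finset.mem_filter]
        constructor
        · rintro ⟨hf, hle'⟩
          obtain ⟨l, hl, -⟩ := dg_prime_pow K hC hp hpK hZK hZc hf
          rw [hl] at hle'
          have := (Nat.pow_le_pow_iff_right hp.one_lt).1 (Nat.le_of_mul_le_mul_left hle' he)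
          by_cases h : l = j + 1
          · exact Or.inr ⟨hf, by rw [hl, h]⟩
          · exact Or.inl ⟨hf, hl ▸ Nat.mul_le_mul_left _ (Nat.pow_le_pow_right hp.pos (by omega))⟩
        · rintro (⟨hf, h⟩ | ⟨hf, h⟩)
          · exact ⟨hf, h.trans (Nat.mul_le_mul_left _ hle)⟩
          · exact ⟨hf, h.le⟩
      have hdis : Disjoint U W := Finset.disjoint_filter.2 fun f _ h1 h2 => by
        rw [h2] at h1
        have := (Nat.pow_le_pow_iff_right hp.one_lt).1 (Nat.le_of_mul_le_mul_left h1 he)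
        omega
      rw [hcases, Finset.coe_union]
      have hχU : χ₀ ∈ U := Finset.mem_filter.2
        ⟨hχ₀, by rw [hi]; exact Nat.mul_le_mul_left _ (Nat.pow_le_pow_right hp.pos hj)⟩
      refine extend_many U dg hχU ih W hdis (hH.mono ?_)
        (fun ξ hξ => dg_spec (mem_TT.1 (Finset.mem_filter.1 hξ).1).1)
        (fun ξ hξ => dg_spec (mem_TT.1 (Finset.mem_filter.1 hξ).1).1) fun χ hχ => ?_
      · rw [← Finset.coe_union, ← hcases]
        exact (Finset.coe_subset.2 (Finset.filter_subset _ _)).trans (TT_subset_top K hZK)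
      obtain ⟨hχX, hχd⟩ := Finset.mem_filter.1 hχ
      rw [hi, hχd]
      refine ⟨Nat.mul_dvd_mul_left _ (pow_dvd_pow p (by omega)), ?_⟩
      obtain ⟨l, hl, hldvd⟩ := dg_prime_pow K hC hp hpK hZK hZc hχX
      have hlj : l = j + 1 := Nat.pow_right_injective hp.two_le
        (Nat.eq_of_mul_eq_mul_left he (hl.symm.trans hχd))
      subst hlj
      have hdU : ∀ f ∈ U, dg f ^ 2 = K.index ^ 2 * (dg f / K.index) ^ 2 := fun f hf => by
        rw [← mul_pow, Nat.mul_div_cancel' (index_dvd_dg K hC hZK bot_le (Finset.mem_filter.1 hf).1)]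
      have hrest : p ^ (2 * (j + 1)) * K.index ^ 2 ∣
          ∑ f ∈ X.filter (fun f => ¬ dg f ≤ K.index * p ^ j), dg f ^ 2 := by
        refine Finset.dvd_sum fun f hf => ?_
        obtain ⟨h1, h2⟩ := Finset.mem_filter.1 hf
        obtain ⟨l, hl, -⟩ := dg_prime_pow K hC hp hpK hZK hZc h1
        rw [hl, mul_pow, ← pow_mul, mul_comm l 2, mul_comm (K.index ^ 2)]
        refine Nat.mul_dvd_mul_right (pow_dvd_pow p ?_) _
        by_contra h
        exact h2 (by rw [hl]; exact Nat.mul_le_mul_left _ (Nat.pow_le_pow_right hp.pos (by omega)))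
      set M := ∑ f ∈ U, (dg f / K.index) ^ 2 with hM
      have hUM : ∑ f ∈ U, dg f ^ 2 = K.index ^ 2 * M := by
        rw [hM, Finset.mul_sum]; exact Finset.sum_congr rfl hdU
      obtain ⟨R, hR⟩ := hrest
      have htot : K.index ^ 2 * M + p ^ (2 * (j + 1)) * K.index ^ 2 * R + Z.index = Nat.card L := by
        rw [← hUM, ← hR, hU, Finset.sum_filter_add_sum_filter_not]; exact hsum
      obtain ⟨D, hD⟩ := hldvd
      have hZi : Z.index = p ^ (2 * (j + 1)) * D * K.index := by
        rw [← hD, Subgroup.relIndex_mul_index hZK]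
      have hmain : p ^ (2 * (j + 1)) ∣ K.index * M := by
        have h1 : p ^ (2 * (j + 1)) * K.index ∣ K.index * (K.index * M) := by
          refine (Nat.dvd_add_iff_left (n := p ^ (2 * (j + 1)) * K.index ^ 2 * R + Z.index) ?_).2 ?_
          · exact dvd_add ⟨K.index * R, by ring⟩ ⟨D, by rw [hZi]; ring⟩
          · rw [show K.index * (K.index * M) + (p ^ (2 * (j + 1)) * K.index ^ 2 * R + Z.index) =
              Nat.card L by rw [← htot]; ring, ← K.card_mul_index]
            refine Nat.mul_dvd_mul_right ?_ _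
            exact (hD ▸ dvd_mul_right _ D).trans (Z.subgroupOf K).index_dvd_card
        rw [mul_comm (p ^ (2 * (j + 1)))] at h1
        exact Nat.dvd_of_mul_dvd_mul_left he h1
      have hMdvd : p ^ (2 * (j + 1)) ∣ M := by
        refine Nat.Coprime.dvd_of_dvd_mul_left ?_ hmain
        refine Nat.Coprime.pow_left _ (hp.coprime_iff_not_dvd.2 fun h => hp.not_dvd_one ?_)
        obtain ⟨r, hr⟩ := IsPGroup.iff_card.1 hpK
        have hr0 : r ≠ 0 := fun h => hK1 (Subgroup.card_eq_one.1 (by rw [hr, h, pow_zero]))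
        rw [← coprime_card_index K hC, hr]
        exact Nat.dvd_gcd (dvd_pow_self p hr0) h
      have hM0 : 0 < M := by
        refine Finset.sum_pos' (fun _ _ => Nat.zero_le _) ⟨χ₀, hχU, ?_⟩
        rw [hi, Nat.mul_div_cancel_left _ he]
        exact pow_pos (pow_pos hp.pos _) _
      rw [hUM]
      have h2 : 2 * p ^ i < p ^ (j + 1) := by
        calc 2 * p ^ i < p * p ^ i := Nat.mul_lt_mul_of_pos_right (by omega) (pow_pos hp.pos i)
          _ = p ^ (i + 1) := by rw [pow_succ']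
          _ ≤ _ := Nat.pow_le_pow_right hp.pos (by omega)
      calc 2 * (K.index * p ^ i) * (K.index * p ^ (j + 1))
          = K.index ^ 2 * ((2 * p ^ i) * p ^ (j + 1)) := by ring
        _ < K.index ^ 2 * (p ^ (j + 1) * p ^ (j + 1)) :=
          Nat.mul_lt_mul_of_pos_left (Nat.mul_lt_mul_of_pos_right h2 (pow_pos hp.pos _)) (pow_pos he 2)
        _ ≤ K.index ^ 2 * M := Nat.mul_le_mul_left _ (by
          rw [← pow_add, ← two_mul]; exact Nat.le_of_dvd hM0 hMdvd)
  obtain ⟨J, hJ⟩ := IsPGroup.iff_card.1 hpK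
  have hall : X.filter (fun f => dg f ≤ K.index * p ^ (max i J)) = X := by
    refine Finset.filter_true_of_mem fun f hf => ?_
    obtain ⟨n, -, hd, -, hdvd⟩ := sq_le_relIndex K hC hZK bot_le hZK
      (fun z hz k hk => Subgroup.mem_bot.2 (hZc z hz k hk)) hf
    rw [hd]
    refine Nat.mul_le_mul_left _ ((Nat.le_of_dvd Nat.card_pos hdvd).trans ?_)
    rw [hJ]
    exact Nat.pow_le_pow_right hp.pos (le_max_right _ _)
  have := hcoh (max i J) (le_max_left _ _)
  rwa [hall] at this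

end Cfsg.Agent.Char.KerSets
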