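import Cfsg.Agent.Lib.Char.CentralCoherence

/-!
Coherence of characters nontrivial on a central subgroup, from their degrees alone.
-/

set_option autoImplicit false
set_option linter.unusedSectionVars false

namespace Cfsg.Agent.Char.KerSets

open scoped ComplexConjugate commutatorElement
open Cfsg Cfsg.Agent.Char.FrobTI Cfsg.Agent.Char.Coh

universe u v

variable {L : Type u} [Group L] [Fintype L] {G : Type v} [Group G] [Fintype G]
variable (K : Subgroup L) [K.Normal]

/-- The characters nontrivial on `Z`, when their degrees are the index times bounded prime powers. -/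
theorem central_coherent_of_degrees (hodd : Odd (Nat.card L)) {p : ℕ} (hp : p.Prime) (hpK : IsPGroup p K)
    {Z : Subgroup L} [Z.Normal] (hZK : Z ≤ K) (hZ : Z ≠ ⊥) (hcop : ¬ p ∣ K.index)
    (hdg : ∀ f ∈ TT Z ⊥, ∃ i : ℕ, dg f = K.index * p ^ i ∧ p ^ (2 * i) ∣ Z.relIndex K)
    {τ : (L → ℂ) → (G → ℂ)} (hH : Hyp (↑(TT Z ⊥) : Set (L → ℂ)) τ) :
    IsCoherent (↑(TT Z ⊥) : Set (L → ℂ)) {1}ᶜ τ := by
  classical
  haveI := Fact.mk hp
  have hK1 : K ≠ ⊥ := fun h => hZ (le_bot_iff.1 (hZK.trans h.le))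
  have hp3 : 3 ≤ p := by
    rcases hp.eq_two_or_odd' with rfl | h
    · obtain ⟨i, hi⟩ := IsPGroup.iff_card.1 hpK
      have hi0 : i ≠ 0 := fun h => hK1 (Subgroup.card_eq_one.1 (by rw [hi, h, pow_zero]))
      have := Odd.of_dvd_nat hodd ((hi ▸ dvd_pow_self 2 hi0).trans K.card_subgroup_dvd_card)
      exact absurd this (by decide)
    · have := hp.two_le; obtain ⟨r, rfl⟩ := h; omega
  have he : 0 < K.index := Nat.pos_of_ne_zero Subgroup.index_ne_zero_of_finite
  set X := TT Z ⊥ with hX
  have hsum := sum_sq_TT (A := Z) (B := ⊥) bot_le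
  rw [Subgroup.index_bot] at hsum
  have hne : X.Nonempty := by
    rw [Finset.nonempty_iff_ne_empty]
    intro h
    rw [← hX, h, Finset.sum_empty, zero_add] at hsum
    have h2 := Z.card_mul_index
    rw [← hsum] at h2
    exact hZ (Subgroup.card_eq_one.1 (Nat.eq_of_mul_eq_mul_right
      (Nat.pos_of_ne_zero Subgroup.index_ne_zero_of_finite) (h2.trans (one_mul _).symm)))
  obtain ⟨χ₀, hχ₀, hmin⟩ := X.exists_min_image dg hne
  obtain ⟨i, hi, -⟩ := hdg _ hχ₀
  have hcoh : ∀ j, i ≤ j →
      IsCoherent (↑(X.filter fun f => dg f ≤ K.index * p ^ j) : Set (L → ℂ)) {1}ᶜ τ := by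
    intro j hj
    induction j, hj using Nat.le_induction with
    | base =>
      have heq : ∀ f ∈ X.filter (fun f => dg f ≤ K.index * p ^ i), dg f = dg χ₀ := fun f hf => by
        obtain ⟨h1, h2⟩ := Finset.mem_filter.1 hf
        exact le_antisymm (hi ▸ h2) (hmin f h1)
      refine equal_degree_irr _ (hH.mono (Finset.coe_subset.2 (Finset.filter_subset _ _))) (d := dg χ₀) (fun f hf => ?_) ⟨χ₀, ?_, conjFun χ₀, ?_, ?_⟩
      · rw [dg_spec (mem_TT.1 (Finset.mem_filter.1 hf).1).1, heq f hf]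
      · exact Finset.mem_filter.2 ⟨hχ₀, hi.le⟩
      · exact Finset.mem_filter.2 ⟨conjFun_mem hχ₀, by rw [dg_conjFun, hi]⟩
      · exact (conjFun_ne hodd hχ₀).symm
    | succ j hj ih =>
      set U := X.filter fun f => dg f ≤ K.index * p ^ j with hU
      set W := X.filter fun f => dg f = K.index * p ^ (j + 1) with hW
      have hle : p ^ j ≤ p ^ (j + 1) := Nat.pow_le_pow_right hp.pos (Nat.le_succ j)
      have hcases : X.filter (fun f => dg f ≤ K.index * p ^ (j + 1)) = U ∪ W := by
        ext f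
        simp only [hU, hW, Finset.mem_union, Finset.mem_filter]
        constructor
        · rintro ⟨hf, hle'⟩
          obtain ⟨l, hl, -⟩ := hdg _ hf
          rw [hl] at hle'
          have := (Nat.pow_le_pow_iff_right hp.one_lt).1 (Nat.le_of_mul_le_mul_left hle' he)
          by_cases h : l = j + 1
          · exact Or.inr ⟨hf, by rw [hl, h]⟩
          · exact Or.inl ⟨hf, hl ▸ Nat.mul_le_mul_left _ (Nat.pow_le_pow_right hp.pos (by omega))⟩
        · rintro (⟨hf, h⟩ | ⟨hf, h⟩)
          · exact ⟨hf, h.trans (Nat.mul_le_mul_left _ hle)⟩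
          · exact ⟨hf, h.le⟩
      have hdis : Disjoint U W := Finset.disjoint_filter.2 fun f _ h1 h2 => by
        rw [h2] at h1
        have := (Nat.pow_le_pow_iff_right hp.one_lt).1 (Nat.le_of_mul_le_mul_left h1 he)
        omega
      rw [hcases, Finset.coe_union]
      have hχU : χ₀ ∈ U := Finset.mem_filter.2
        ⟨hχ₀, by rw [hi]; exact Nat.mul_le_mul_left _ (Nat.pow_le_pow_right hp.pos hj)⟩
      refine extend_many U dg hχU ih W hdis (hH.mono ?_)
        (fun ξ hξ => dg_spec (mem_TT.1 (Finset.mem_filter.1 hξ).1).1)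
        (fun ξ hξ => dg_spec (mem_TT.1 (Finset.mem_filter.1 hξ).1).1) fun χ hχ => ?_
      · rw [← Finset.coe_union, ← hcases]
        exact Finset.coe_subset.2 (Finset.filter_subset _ _)
      obtain ⟨hχX, hχd⟩ := Finset.mem_filter.1 hχ
      rw [hi, hχd]
      refine ⟨Nat.mul_dvd_mul_left _ (pow_dvd_pow p (by omega)), ?_⟩
      obtain ⟨l, hl, hldvd⟩ := hdg _ hχX
      have hlj : l = j + 1 := Nat.pow_right_injective hp.two_le
        (Nat.eq_of_mul_eq_mul_left he (hl.symm.trans hχd))
      subst hlj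
      have hdU : ∀ f ∈ U, dg f ^ 2 = K.index ^ 2 * (dg f / K.index) ^ 2 := fun f hf => by
        obtain ⟨l, hl, -⟩ := hdg _ (Finset.mem_filter.1 hf).1
        rw [← mul_pow, Nat.mul_div_cancel' (hl ▸ dvd_mul_right _ _)]
      have hrest : p ^ (2 * (j + 1)) * K.index ^ 2 ∣
          ∑ f ∈ X.filter (fun f => ¬ dg f ≤ K.index * p ^ j), dg f ^ 2 := by
        refine Finset.dvd_sum fun f hf => ?_
        obtain ⟨h1, h2⟩ := Finset.mem_filter.1 hf
        obtain ⟨l, hl, -⟩ := hdg _ h1
        rw [hl, mul_pow, ← pow_mul, mul_comm l 2, mul_comm (K.index ^ 2)]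
        refine Nat.mul_dvd_mul_right (pow_dvd_pow p ?_) _
        by_contra h
        exact h2 (by rw [hl]; exact Nat.mul_le_mul_left _ (Nat.pow_le_pow_right hp.pos (by omega)))
      set M := ∑ f ∈ U, (dg f / K.index) ^ 2 with hM
      have hUM : ∑ f ∈ U, dg f ^ 2 = K.index ^ 2 * M := by
        rw [hM, Finset.mul_sum]; exact Finset.sum_congr rfl hdU
      obtain ⟨R, hR⟩ := hrest
      have htot : K.index ^ 2 * M + p ^ (2 * (j + 1)) * K.index ^ 2 * R + Z.index = Nat.card L := by
        rw [← hUM, ← hR, hU, Finset.sum_filter_add_sum_filter_not]; exact hsum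
      obtain ⟨D, hD⟩ := hldvd
      have hZi : Z.index = p ^ (2 * (j + 1)) * D * K.index := by
        rw [← hD, Subgroup.relIndex_mul_index hZK]
      have hmain : p ^ (2 * (j + 1)) ∣ K.index * M := by
        have h1 : p ^ (2 * (j + 1)) * K.index ∣ K.index * (K.index * M) := by
          refine (Nat.dvd_add_iff_left (n := p ^ (2 * (j + 1)) * K.index ^ 2 * R + Z.index) ?_).2 ?_
          · exact dvd_add ⟨K.index * R, by ring⟩ ⟨D, by rw [hZi]; ring⟩
          · rw [show K.index * (K.index * M) + (p ^ (2 * (j + 1)) * K.index ^ 2 * R + Z.index) =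
              Nat.card L by rw [← htot]; ring, ← K.card_mul_index]
            refine Nat.mul_dvd_mul_right ?_ _
            exact (hD ▸ dvd_mul_right _ D).trans (Z.subgroupOf K).index_dvd_card
        rw [mul_comm (p ^ (2 * (j + 1)))] at h1
        exact Nat.dvd_of_mul_dvd_mul_left he h1
      have hMdvd : p ^ (2 * (j + 1)) ∣ M := by
        refine Nat.Coprime.dvd_of_dvd_mul_left ?_ hmain
        exact Nat.Coprime.pow_left _ (hp.coprime_iff_not_dvd.2 hcop)
      have hM0 : 0 < M := by
        refine Finset.sum_pos' (fun _ _ => Nat.zero_le _) ⟨χ₀, hχU, ?_⟩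
        rw [hi, Nat.mul_div_cancel_left _ he]
        exact pow_pos (pow_pos hp.pos _) _
      rw [hUM]
      have h2 : 2 * p ^ i < p ^ (j + 1) := by
        calc 2 * p ^ i < p * p ^ i := Nat.mul_lt_mul_of_pos_right (by omega) (pow_pos hp.pos i)
          _ = p ^ (i + 1) := by rw [pow_succ']
          _ ≤ _ := Nat.pow_le_pow_right hp.pos (by omega)
      calc 2 * (K.index * p ^ i) * (K.index * p ^ (j + 1))
          = K.index ^ 2 * ((2 * p ^ i) * p ^ (j + 1)) := by ring
        _ < K.index ^ 2 * (p ^ (j + 1) * p ^ (j + 1)) :=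
          Nat.mul_lt_mul_of_pos_left (Nat.mul_lt_mul_of_pos_right h2 (pow_pos hp.pos _)) (pow_pos he 2)
        _ ≤ K.index ^ 2 * M := Nat.mul_le_mul_left _ (by
          rw [← pow_add, ← two_mul]; exact Nat.le_of_dvd hM0 hMdvd)
  obtain ⟨J, hJ⟩ := IsPGroup.iff_card.1 hpK
  have hall : X.filter (fun f => dg f ≤ K.index * p ^ (max i J)) = X := by
    refine Finset.filter_true_of_mem fun f hf => ?_
    obtain ⟨l, hd, hdvd⟩ := hdg _ hf
    rw [hd]
    refine Nat.mul_le_mul_left _ (Nat.pow_le_pow_right hp.pos (le_trans ?_ (le_max_right _ _)))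
    have h1 := Nat.le_of_dvd Nat.card_pos (hdvd.trans (Z.subgroupOf K).index_dvd_card)
    rw [hJ] at h1
    have := (Nat.pow_le_pow_iff_right hp.one_lt).1 h1
    omega
  have := hcoh (max i J) (le_max_left _ _)
  rwa [hall] at this

end Cfsg.Agent.Char.KerSets
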