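import Cfsg.Agent.Lib.Char.NilpotentExtension
import Cfsg.Agent.Lib.Char.PairBlock
import Cfsg.Agent.Lib.Char.PairDefect
import Cfsg.Agent.Lib.Char.PairFusion

/-!
A block over a centric pair stable in the whole group: its idempotent is that of the pair and the
local block is nilpotent.
-/

namespace Cfsg.Agent.Char.CentricLocal

open Cfsg Cfsg.Agent.Block Cfsg.Agent.Char.BP Cfsg.Agent.Char.Knorr

set_option linter.unusedSectionVars false
set_option linter.style.haveILetI false

universe u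

variable {G : Type u} [Group G] [Fintype G] {p : ℕ} [Fact p.Prime] {M : Ideal AlgInt}

/-- A block with central defect group is nilpotent. -/
theorem nilpotent_of_central (hM : IsPModular p M) {B : Set (IrrCharacter G)}
    (hB : IsPBlock M B) {D : Subgroup G} (hD : IsDefectGroup p M B D)
    (hc : ∀ d ∈ D, ∀ g : G, d * g = g * d) : IsNilpotentBlock p M B := by
  refine (nil_iff hM).2 ⟨hB, fun a ha y _ _ => Subgroup.mem_centralizer_iff.2 fun r hr => ?_⟩
  obtain ⟨g, hg⟩ := conj_le_defect hM ha hD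
  have h := hc _ (hg (conj_mem_map_conj.2 hr)) (g * y * g⁻¹)
  calc r * y = g⁻¹ * ((g * r * g⁻¹) * (g * y * g⁻¹)) * g := by group
    _ = g⁻¹ * ((g * y * g⁻¹) * (g * r * g⁻¹)) * g := by rw [h]
    _ = y * r := by group

theorem blockCoeff_eq_bc (hM : IsPModular p M) {Q : Subgroup G} [Q.Normal] (hQp : IsPGroup p Q)
    {f : Set (IrrCharacter (CG Q))} (hf : IsPBlock M f)
    (hst : ∀ x : G, StabilizesBlock (CG Q) f x)
    {B : Set (IrrCharacter G)} (hab : OfB p M B (⟨Q, f⟩ : BrauerPairIdx G)) :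
    blockCoeff B = bc (CG Q) f := by
  classical
  letI := Fintype.ofFinite (CG Q)
  have key : ∀ B' : Set (IrrCharacter G), IsPBlock M B' →
      (∃ χ ∈ B', ∃ θ ∈ f, classInner (fun n : CG Q => (χ : G → ℂ) n) (θ : CG Q → ℂ) ≠ 0) →
      B' = B := by
    rintro B' hB' ⟨χ, hχ, θ, hθ, hne⟩
    have hinv : ∀ W : Subgroup G, Inv W (blockCoeff B') :=
      inv_of_classFun (blockCoeff_classFun B')
    refine ofB_unique hM (ofB_of_holds hB' ⟨hQp, hf⟩ ((holds_or hM (x := ⟨Q, f⟩) ⟨hQp, hf⟩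
      (blockCoeff_idem hM hB') (hinv _) (hinv _)).resolve_right fun h0 => ?_)) hab
    have h1 := h0 θ hθ
    rw [val_eq, show res (CG Q) (blockCoeff B') = fun n : CG Q => blockCoeff B' (n : G) from rfl,
      ← omegaFun_cover (CG Q) (blockCoeff_classFun B') (supp_of_normal hM hQp hB') χ hne,
      funext (blockCoeff_eq B'), omegaFun_coeffFun, blockInd_of_mem hχ] at h1
    exact ideal_one hM h1
  obtain ⟨θ, hθ⟩ := pblock_nonempty hM hf
  obtain ⟨χ, hχ⟩ := exists_over (CG Q) θ
  have hcov' := key _ (isPBlock_blockOf χ) ⟨χ, mem_blockOf_self hM χ, θ, hθ, hχ⟩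
  exact stable_cover_eq (CG Q) hM hf hst hab.2.1
    ⟨χ, hcov' ▸ mem_blockOf_self hM χ, θ, hθ, hχ⟩ key

theorem nilpotent_local (hM : IsPModular p M) {Q : Subgroup G} [Q.Normal] (hQp : IsPGroup p Q)
    {f : Set (IrrCharacter (CG Q))} (hf : IsPBlock M f)
    (hst : ∀ x : G, StabilizesBlock (CG Q) f x)
    (hD : IsDefectGroup p M f ((Q ⊓ CG Q).subgroupOf (CG Q))) :
    ∃ F' : Set (IrrCharacter ↥(Q ⊔ CG Q)), IsPBlock M F' ∧
      (∀ t : ↥(Q ⊔ CG Q), blockCoeff F' t = bc (CG Q) f (t : G)) ∧ IsNilpotentBlock p M F' := by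
  classical
  set T := Q ⊔ CG Q
  letI := Fintype.ofFinite T
  set C' := (CG Q).subgroupOf T with hC'
  haveI : C'.Normal := (inferInstance : (CG Q).Normal).subgroupOf T
  letI := Fintype.ofFinite C'
  have hle : CG Q ≤ T := le_sup_right
  let e := Subgroup.subgroupOfEquivOfLe hle
  set f' := pullB e.symm f with hf'
  have hf'B : IsPBlock M f' := isPBlock_pullB hM _ hf
  have hval : ∀ t : T, bc C' f' t = bc (CG Q) f (t : G) := by
    intro t
    by_cases h : (t : G) ∈ CG Q
    · calc bc C' f' t = blockCoeff f' (e.symm ⟨(t : G), h⟩) := bc_coe C' f' ⟨t, h⟩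
        _ = blockCoeff f ⟨(t : G), h⟩ := blockCoeff_pullB _ f _
        _ = bc (CG Q) f (t : G) := (bc_coe (CG Q) f ⟨(t : G), h⟩).symm
    · rw [bc_supp (CG Q) f _ h, bc_supp C' f' t fun h' => h (Subgroup.mem_subgroupOf.1 h')]
  have hidx : ∃ k : ℕ, C'.index = p ^ k := by
    obtain ⟨a, ha⟩ := hQp.exists_card_eq
    have h : (CG Q).relIndex T ∣ p ^ a := by
      rw [show (CG Q).relIndex T = (CG Q).relIndex Q by
        rw [show T = Q ⊔ CG Q from rfl, Subgroup.relIndex_sup_right], ← ha]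
      exact Subgroup.index_dvd_card _
    obtain ⟨j, -, hj⟩ := (Nat.dvd_prime_pow (Fact.out : p.Prime)).1 h
    exact ⟨j, hj⟩
  have hst' : ∀ t : T, StabilizesBlock C' f' t := by
    intro t
    have hn : t ∈ Subgroup.normalizer (C' : Set T) := by
      rw [Subgroup.normalizer_eq_top]; exact Subgroup.mem_top t
    refine (stabilizes_iff hM hf'B hn).2 (funext fun g => ?_)
    have h1 := congrFun ((stabilizes_iff hM hf (hst (t : G)).1).1 (hst (t : G))) (g : G)
    show bc C' f' (t⁻¹ * g * t) = bc C' f' g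
    rw [hval, hval]
    exact h1
  obtain ⟨F', hF', hcoef⟩ := exists_block_eq C' hM hidx hf'B hst'
  refine ⟨F', hF', fun t => (congrFun hcoef t).trans (hval t), ?_⟩
  obtain ⟨k, hk⟩ := hidx
  refine (NilExt.nilpotent_iff C' hM hk hf'B hF' hcoef).1 ?_
  -- the central defect group
  set Z : Subgroup C' := ((Q ⊓ CG Q).subgroupOf (CG Q)).map e.symm.toMonoidHom
  have hZc : ∀ d ∈ Z, ∀ g : C', d * g = g * d := by
    rintro d ⟨z, hz, rfl⟩ g
    refine e.injective ?_
    rw [map_mul, map_mul]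
    refine Subtype.ext ?_
    show ((e (e.symm z) : CG Q) : G) * (e g : CG Q) = (e g : CG Q) * ((e (e.symm z) : CG Q) : G)
    rw [MulEquiv.apply_symm_apply]
    exact Subgroup.mem_centralizer_iff.1 (e g).2 _ hz.1
  haveI : Z.Normal := ⟨fun d hd g => by
    rwa [← hZc d hd g, mul_inv_cancel_right]⟩
  obtain ⟨D, hDd⟩ := exists_isDefectGroup hM hf'B
  refine nilpotent_of_central hM hf'B hDd fun d hd => hZc d ?_
  have hZp : IsPGroup p Z := (IsDefectGroup.isPGroup hD).map _
  have hle' := normal_le_defectGroup hM hf'B hDd hZp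
  have hcard : Nat.card D ≤ Nat.card Z := by
    rw [card_defectGroup hM hf'B hDd, hf', blockDefect_pullB, ← card_defectGroup hM hf hD,
      Subgroup.card_map_of_injective e.symm.injective]
  rwa [Subgroup.eq_of_le_of_card_ge hle' hcard]

end Cfsg.Agent.Char.CentricLocal
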