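import Cfsg.Agent.Lib.Char.SectionRank
import Cfsg.Agent.Lib.Block.Roots
import Mathlib.GroupTheory.Nilpotent

/-!
The alternating sum over normal chains of `p`-subgroups of the defect `k - l` of the sets of
characters lying over a given block.
-/

open scoped ComplexConjugate

namespace Cfsg.Agent.Char.ChainSum

open Cfsg.Agent.Block Cfsg.Agent.Char.Spec

set_option linter.unusedSectionVars false
set_option linter.style.haveILetI false

universe u

section Orth

variable {N : Type u} [Group N] [Fintype N] {p : ℕ} {M : Ideal AlgInt}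

/-- The characters whose block satisfies a predicate. -/
noncomputable def overSet (M : Ideal AlgInt) (Q : Set (IrrCharacter N) → Prop) :
    Finset (IrrCharacter N) :=
  open Classical in Finset.univ.filter (fun ξ => Q (blockOf M (ξ : N → ℂ)))

theorem mem_overSet {Q : Set (IrrCharacter N) → Prop} {ξ : IrrCharacter N} :
    ξ ∈ overSet M Q ↔ Q (blockOf M (ξ : N → ℂ)) := by
  classical
  simp [overSet]

theorem weak_orth_over [Fact p.Prime] (hM : IsPModular p M) (Q : Set (IrrCharacter N) → Prop)
    {x y : N} (hx : ¬ p ∣ orderOf x) (hy : p ∣ orderOf y) :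
    ∑ ξ ∈ overSet M Q, (ξ : N → ℂ) x * conj ((ξ : N → ℂ) y) = 0 := by
  classical
  rw [← Finset.sum_fiberwise_of_maps_to
    (t := (overSet M Q).image fun ξ : IrrCharacter N => blockOf M (ξ : N → ℂ))
    (fun ξ hξ => Finset.mem_image_of_mem _ hξ)]
  refine Finset.sum_eq_zero fun b hb => ?_
  obtain ⟨ξ₀, hξ₀, rfl⟩ := Finset.mem_image.1 hb
  have h0 := weak_orth hM (isPBlock_blockOf (M := M) ξ₀) hx hy
  rw [finsum_mem_block] at h0
  rw [← h0]
  refine Finset.sum_congr ?_ fun ξ _ => rfl
  ext ξ
  simp only [Finset.mem_filter, Finset.mem_univ, true_and, mem_overSet]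
  constructor
  · rintro ⟨-, hξ⟩
    rw [← hξ]
    exact mem_blockOf_self hM ξ
  · intro hξ
    rw [mem_overSet] at hξ₀
    rw [← blockOf_eq hM hξ]
    exact ⟨hξ₀, rfl⟩

/-- The regular rank of a union of blocks. -/
theorem regSum_eq_rank_over [Fact p.Prime] (hM : IsPModular p M)
    (Q : Set (IrrCharacter N) → Prop) :
    ∑ ξ ∈ overSet M Q, regSum p (ξ : N → ℂ) (ξ : N → ℂ) =
      (Nat.card N : ℂ) * (blockRank p (overSet M Q : Set (IrrCharacter N)) : ℂ) := by
  classical
  set A := overSet M Q with hA
  set S := Submodule.span ℂ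
    ((fun χ : IrrCharacter N => pRegularPart p (χ : N → ℂ)) '' (A : Set (IrrCharacter N))) with hS
  let w : IrrCharacter N → N → ℂ := fun ξ x =>
    if ¬ p ∣ orderOf x then (Nat.card N : ℂ)⁻¹ * conj ((ξ : N → ℂ) x) else 0
  let φ : IrrCharacter N → (N → ℂ) →ₗ[ℂ] ℂ := fun ξ => ∑ x, w ξ x • LinearMap.proj x
  let T : (N → ℂ) →ₗ[ℂ] (N → ℂ) :=
    ∑ ξ ∈ A, (φ ξ).smulRight (pRegularPart p (ξ : N → ℂ))
  have hφ : ∀ ξ f, φ ξ f = ∑ x : N, w ξ x * f x := fun ξ f => by
    simp [φ, LinearMap.sum_apply]
  have hreg : ∀ ξ : IrrCharacter N, φ ξ (pRegularPart p (ξ : N → ℂ)) =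
      (Nat.card N : ℂ)⁻¹ * regSum p (ξ : N → ℂ) (ξ : N → ℂ) := fun ξ => by
    rw [hφ, regSum_eq_sum, Finset.mul_sum, Finset.sum_filter]
    refine Finset.sum_congr rfl fun x _ => ?_
    by_cases hx : p ∣ orderOf x <;> simp [w, pRegularPart_apply, IsPRegular, hx] <;> ring
  have hfix : ∀ η ∈ A, T (pRegularPart p (η : N → ℂ)) = pRegularPart p (η : N → ℂ) := by
    intro η hη
    funext y
    simp only [T, LinearMap.sum_apply, LinearMap.smulRight_apply, Finset.sum_apply, Pi.smul_apply,
      smul_eq_mul, pRegularPart_apply, IsPRegular]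
    by_cases hy : p ∣ orderOf y
    · simp [hy]
    simp only [hy, not_false_eq_true, if_true]
    have h1 : ∀ ξ : IrrCharacter N, φ ξ (pRegularPart p (η : N → ℂ)) * (ξ : N → ℂ) y =
        ∑ x ∈ Finset.univ.filter (fun x : N => ¬ p ∣ orderOf x),
          (Nat.card N : ℂ)⁻¹ * (η : N → ℂ) x * ((ξ : N → ℂ) y * conj ((ξ : N → ℂ) x)) := by
      intro ξ
      rw [hφ, Finset.sum_mul, Finset.sum_filter]
      refine Finset.sum_congr rfl fun x _ => ?_
      by_cases hx : p ∣ orderOf x <;> simp [w, pRegularPart_apply, IsPRegular, hx] <;> ring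
    rw [Finset.sum_congr rfl fun ξ _ => h1 ξ, Finset.sum_comm,
      Finset.sum_subset (Finset.subset_univ _) fun x _ hx => ?_]
    · rw [Finset.sum_comm, Finset.sum_eq_single η]
      · rw [show ∑ x : N, (Nat.card N : ℂ)⁻¹ * (η : N → ℂ) x *
            ((η : N → ℂ) y * conj ((η : N → ℂ) x)) =
            (η : N → ℂ) y * classInner (η : N → ℂ) (η : N → ℂ) by
          rw [classInner, Finset.mul_sum, Finset.mul_sum]
          exact Finset.sum_congr rfl fun x _ => by ring, classInner_self_irr η.2, mul_one]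
      · intro ξ _ hne
        rw [show ∑ x : N, (Nat.card N : ℂ)⁻¹ * (η : N → ℂ) x *
            ((ξ : N → ℂ) y * conj ((ξ : N → ℂ) x)) =
            (ξ : N → ℂ) y * classInner (η : N → ℂ) (ξ : N → ℂ) by
          rw [classInner, Finset.mul_sum, Finset.mul_sum]
          exact Finset.sum_congr rfl fun x _ => by ring,
          classInner_irr_ne η.2 ξ.2 (fun e => hne (Subtype.ext e).symm), mul_zero]
      · exact fun h => absurd hη h
    · have hxs : p ∣ orderOf x := by simpa using hx
      rw [← Finset.mul_sum, hA, weak_orth_over hM Q hy hxs, mul_zero]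
  have hproj : LinearMap.IsProj S T := by
    constructor
    · intro f
      simp only [T, LinearMap.sum_apply, LinearMap.smulRight_apply]
      exact Submodule.sum_mem _ fun ξ hξ => Submodule.smul_mem _ _
        (Submodule.subset_span ⟨ξ, hξ, rfl⟩)
    · intro f hf
      induction hf using Submodule.span_induction with
      | mem f hf =>
        obtain ⟨η, hη, rfl⟩ := hf
        exact hfix η hη
      | zero => exact map_zero T
      | add f g _ _ hf hg => rw [map_add, hf, hg]
      | smul r f _ hf => rw [map_smul, hf]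
  have htr := hproj.trace
  simp only [T, map_sum, LinearMap.trace_smulRight, hreg, ← Finset.mul_sum] at htr
  rw [blockRank, ← hS, ← htr, mul_inv_cancel_left₀ (Nat.cast_ne_zero.2 Nat.card_pos.ne')]

/-- The defect `k - l` as a sum over the singular elements. -/
theorem defect_eq_sum [Fact p.Prime] (hM : IsPModular p M) (Q : Set (IrrCharacter N) → Prop) :
    ((Nat.card N : ℤ) * ((overSet M Q).card -
        (blockRank p (overSet M Q : Set (IrrCharacter N)) : ℤ)) : ℤ) =
      ∑ g ∈ Finset.univ.filter (fun g : N => p ∣ orderOf g),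
        ∑ ξ ∈ overSet M Q, (ξ : N → ℂ) g * conj ((ξ : N → ℂ) g) := by
  classical
  have hall : ∑ g : N, ∑ ξ ∈ overSet M Q, (ξ : N → ℂ) g * conj ((ξ : N → ℂ) g) =
      (Nat.card N : ℂ) * (overSet M Q).card := by
    rw [Finset.sum_comm, Finset.sum_congr rfl (g := fun _ => (Nat.card N : ℂ)) fun χ _ => ?_,
      Finset.sum_const, nsmul_eq_mul, mul_comm]
    have h := classInner_self_irr χ.2
    rw [classInner, inv_mul_eq_iff_eq_mul₀ (Nat.cast_ne_zero.2 Nat.card_pos.ne'), mul_one] at h
    exact h
  have hreg := regSum_eq_rank_over hM Q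
  simp only [regSum_eq_sum] at hreg
  rw [Finset.sum_comm] at hreg
  rw [← Finset.sum_filter_add_sum_filter_not Finset.univ (fun g : N => p ∣ orderOf g), hreg] at hall
  push_cast
  linear_combination -hall

/-- The square norm at `x * y` of the characters over a predicate on blocks, read in the
centralizer of `x`. -/
theorem norm_section [Fact p.Prime] (hM : IsPModular p M) {x : N} (hx : ∃ k : ℕ, orderOf x = p ^ k)
    {y : Subgroup.centralizer ({x} : Set N)} (hy : ¬ p ∣ orderOf y)
    (Q : Set (IrrCharacter N) → Prop)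
    (P : Set (IrrCharacter (Subgroup.centralizer ({x} : Set N))) → Prop)
    [Fintype (Subgroup.centralizer ({x} : Set N))]
    (hPQ : ∀ θ : IrrCharacter (Subgroup.centralizer ({x} : Set N)), ∀ β : Set (IrrCharacter N),
      IsInducedBlock M _ (blockOf M (θ : Subgroup.centralizer ({x} : Set N) → ℂ)) β →
        (P (blockOf M (θ : Subgroup.centralizer ({x} : Set N) → ℂ)) ↔ Q β)) :
    ∑ ξ ∈ overSet M Q, (ξ : N → ℂ) (x * (y : N)) * conj ((ξ : N → ℂ) (x * (y : N))) =
      ∑ θ ∈ overSet M P, (θ : Subgroup.centralizer ({x} : Set N) → ℂ) y *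
        conj ((θ : Subgroup.centralizer ({x} : Set N) → ℂ) y) := by
  classical
  let C := Subgroup.centralizer ({x} : Set N)
  obtain ⟨k, hk⟩ := hx
  have hZ : IsPGroup p (Subgroup.zpowers x) := IsPGroup.of_card (n := k) (by rw [Nat.card_zpowers, hk])
  have hPC : Subgroup.zpowers x ≤ C := Subgroup.zpowers_le.2 (centralizer_self_mem x)
  have hCH : Subgroup.centralizer (Subgroup.zpowers x : Set N) ≤ C :=
    Subgroup.centralizer_le (Set.singleton_subset_iff.2 (Subgroup.mem_zpowers x))
  have hHN : C ≤ Subgroup.normalizer (Subgroup.zpowers x : Set N) := by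
    refine le_trans ?_ (Subgroup.centralizer_le_normalizer _)
    intro t ht
    rw [Subgroup.mem_centralizer_iff]
    intro w hw
    obtain ⟨i, rfl⟩ := Subgroup.mem_zpowers_iff.1 hw
    exact ((show Commute t x from Subgroup.mem_centralizer_singleton_iff.1 ht).zpow_right i).eq.symm
  have hdef : ∀ θ : IrrCharacter C, ∃ β, IsInducedBlock M C (blockOf M (θ : C → ℂ)) β := fun θ =>
    inducedBlockDefined_brauer hM hZ hPC hCH hHN (isPBlock_blockOf θ)
  choose β hβ using hdef
  let term : IrrCharacter N → IrrCharacter C → ℂ := fun ξ θ =>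
    classInner (fun c : C => (ξ : N → ℂ) (x * (c : N))) (θ : C → ℂ) * (θ : C → ℂ) y
  have hval : ∀ ξ : IrrCharacter N, ∑ θ ∈ overSet M P, term ξ θ =
      if Q (blockOf M (ξ : N → ℂ)) then (ξ : N → ℂ) (x * (y : N)) else 0 := by
    intro ξ
    rw [← Finset.sum_fiberwise_of_maps_to
      (t := (overSet M P).image β) (fun θ hθ => Finset.mem_image_of_mem _ hθ)]
    have hfib : ∀ B ∈ (overSet M P).image β, ∑ θ ∈ (overSet M P).filter (fun θ => β θ = B), term ξ θ =
        if ξ ∈ B then (ξ : N → ℂ) (x * (y : N)) else 0 := by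
      intro B hB
      obtain ⟨θ₀, hθ₀, rfl⟩ := Finset.mem_image.1 hB
      rw [← value_eq_sum_inducing hM ⟨k, hk⟩ (hβ θ₀).2.1 hy ξ]
      refine Finset.sum_congr ?_ fun θ _ => rfl
      ext θ
      simp only [Finset.mem_filter, Finset.mem_univ, true_and, mem_overSet]
      constructor
      · rintro ⟨-, h⟩
        rw [← h]
        exact hβ θ
      · intro h
        have h' := induced_unique hM (hβ θ) h
        refine ⟨(hPQ θ _ (hβ θ)).2 ?_, h'⟩
        rw [h']
        exact (hPQ θ₀ _ (hβ θ₀)).1 (mem_overSet.1 hθ₀)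
    rw [Finset.sum_congr rfl hfib]
    by_cases hQ : Q (blockOf M (ξ : N → ℂ))
    · rw [if_pos hQ]
      by_cases hmem : blockOf M (ξ : N → ℂ) ∈ (overSet M P).image β
      · rw [Finset.sum_eq_single_of_mem _ hmem, if_pos (mem_blockOf_self hM ξ)]
        intro B hB hne
        obtain ⟨θ₀, -, rfl⟩ := Finset.mem_image.1 hB
        exact if_neg fun h => hne (pblock_eq_blockOf hM (hβ θ₀).2.1 h)
      · rw [Finset.sum_eq_zero]
        · have h0 := value_eq_sum_inducing hM ⟨k, hk⟩ (isPBlock_blockOf (M := M) ξ) hy ξ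
          rw [if_pos (mem_blockOf_self hM ξ), Finset.filter_false_of_mem, Finset.sum_empty] at h0
          · exact h0
          · intro θ _ h
            exact hmem (Finset.mem_image.2 ⟨θ, mem_overSet.2 ((hPQ θ _ h).2 hQ),
              induced_unique hM (hβ θ) h⟩)
        · intro B hB
          obtain ⟨θ₀, -, rfl⟩ := Finset.mem_image.1 hB
          exact if_neg fun h => hmem (pblock_eq_blockOf hM (hβ θ₀).2.1 h ▸ hB)
    · rw [if_neg hQ]
      refine Finset.sum_eq_zero fun B hB => ?_
      obtain ⟨θ₀, hθ₀, rfl⟩ := Finset.mem_image.1 hB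
      exact if_neg fun h => hQ (pblock_eq_blockOf hM (hβ θ₀).2.1 h ▸
        (hPQ θ₀ _ (hβ θ₀)).1 (mem_overSet.1 hθ₀))
  set Φ := fun c : C => ∑ θ ∈ overSet M P, (θ : C → ℂ) y * conj ((θ : C → ℂ) c) with hΦ
  have hlin : ∀ ξ : IrrCharacter N, ∑ θ ∈ overSet M P, term ξ θ =
      (Nat.card C : ℂ)⁻¹ * ∑ c : C, Φ c * (ξ : N → ℂ) (x * (c : N)) := by
    intro ξ
    simp only [term, Φ, classInner, Finset.mul_sum, Finset.sum_mul]
    rw [Finset.sum_comm]
    exact Finset.sum_congr rfl fun θ _ => Finset.sum_congr rfl fun c _ => by ring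
  calc ∑ ξ ∈ overSet M Q, (ξ : N → ℂ) (x * (y : N)) * conj ((ξ : N → ℂ) (x * (y : N)))
      = ∑ ξ : IrrCharacter N,
          (∑ θ ∈ overSet M P, term ξ θ) * conj ((ξ : N → ℂ) (x * (y : N))) := by
        rw [Finset.sum_congr rfl (g := fun ξ : IrrCharacter N =>
            (∑ θ ∈ overSet M P, term ξ θ) * conj ((ξ : N → ℂ) (x * (y : N))))
          (fun ξ hξ => by rw [hval ξ, if_pos (mem_overSet.1 hξ)])]
        refine Finset.sum_subset (Finset.subset_univ _) fun ξ _ hξ => ?_
        rw [hval ξ, if_neg (fun h => hξ (mem_overSet.2 h)), zero_mul]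
    _ = (Nat.card C : ℂ)⁻¹ * ∑ c : C, Φ c *
          ∑ ξ : IrrCharacter N, (ξ : N → ℂ) (x * (c : N)) * conj ((ξ : N → ℂ) (x * (y : N))) := by
        simp only [hlin, Finset.mul_sum, Finset.sum_mul]
        rw [Finset.sum_comm]
        exact Finset.sum_congr rfl fun c _ => Finset.sum_congr rfl fun ξ _ => by ring
    _ = (Nat.card C : ℂ)⁻¹ * ∑ c : C, Φ c *
          ∑ t : C, (if t * c * t⁻¹ = y then (1 : ℂ) else 0) := by
        congr 1
        refine Finset.sum_congr rfl fun c _ => ?_
        by_cases hc : p ∣ orderOf c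
        · rw [hΦ]
          simp only
          rw [weak_orth_over hM P hy hc, zero_mul, zero_mul]
        congr 1
        rw [sum_irr_count]
        have key : ∀ t : N, t * (x * (c : N)) * t⁻¹ = x * (y : N) → t ∈ C := by
          intro t ht
          have hord : ∀ a : N, orderOf (t * a * t⁻¹) = orderOf a := fun a =>
            MulEquiv.orderOf_eq (MulAut.conj t) a
          have h1 : IsPPart p (x * (y : N)) x := ⟨(y : N), rfl,
            (Subgroup.mem_centralizer_singleton_iff.1 y.2).symm, ⟨k, hk⟩,
            by rwa [Subgroup.orderOf_coe]⟩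
          have h2 : IsPPart p (x * (y : N)) (t * x * t⁻¹) := by
            refine ⟨t * (c : N) * t⁻¹, by rw [conj_mul, ht], ?_, ⟨k, by rw [hord, hk]⟩,
              by rwa [hord, Subgroup.orderOf_coe]⟩
            show t * x * t⁻¹ * (t * (c : N) * t⁻¹) = t * (c : N) * t⁻¹ * (t * x * t⁻¹)
            rw [conj_mul, conj_mul, (Subgroup.mem_centralizer_singleton_iff.1 c.2)]
          rw [Subgroup.mem_centralizer_singleton_iff]
          exact mul_inv_eq_iff_eq_mul.1 (pPart_unique h2 h1)
        rw [← Finset.sum_subset (Finset.subset_univ (Finset.univ.filter (· ∈ C)))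
            (fun t _ ht => if_neg fun h => ht (Finset.mem_filter.2 ⟨Finset.mem_univ _, key t h⟩)),
          ← Finset.sum_subtype_eq_sum_filter, Finset.subtype_univ]
        refine Finset.sum_congr rfl fun t _ => if_congr ?_ rfl rfl
        have ht : (t : N) * x = x * (t : N) := Subgroup.mem_centralizer_singleton_iff.1 t.2
        rw [← mul_assoc (t : N), ht, Subtype.ext_iff, mul_assoc, mul_assoc, mul_right_inj, ← mul_assoc]
        simp
    _ = _ := by
        have hstep : ∀ t : C, ∑ c : C, Φ c * (if t * c * t⁻¹ = y then (1 : ℂ) else 0) = Φ y := by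
          intro t
          rw [Finset.sum_eq_single (t⁻¹ * y * t)]
          · rw [if_pos (by group), mul_one]
            simp only [Φ]
            refine Finset.sum_congr rfl fun θ _ => ?_
            congr 2
            have h := irr_classFun θ y t⁻¹
            rw [inv_inv] at h
            exact h
          · intro c _ hne
            rw [if_neg fun h => hne (by rw [← h]; group), mul_zero]
          · exact fun h => absurd (Finset.mem_univ _) h
        simp only [Finset.mul_sum]
        rw [Finset.sum_comm]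
        simp only [← Finset.mul_sum, hstep, Finset.sum_const, Finset.card_univ, nsmul_eq_mul,
          ← Nat.card_eq_fintype_card]
        rw [inv_mul_cancel_left₀ (Nat.cast_ne_zero.2 Nat.card_pos.ne')]

end Orth

section Over

variable {G : Type u} [Group G] [Fintype G] {p : ℕ} {M : Ideal AlgInt}

/-- One member suffices to recognise the induced block. -/
theorem induced_iff_one (hM : IsPModular p M) {H : Subgroup G} {b : Set (IrrCharacter G)}
    (hb : IsPBlock M b) (ξ : IrrCharacter H) :
    IsInducedBlock M H (blockOf M (ξ : H → ℂ)) b ↔ ∀ χ ∈ b, ∀ g : G, MemLocalIdeal M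
      (inducedCentralChar H (ξ : H → ℂ) g - centralChar (χ : G → ℂ) g) := by
  refine ⟨fun h => h.2.2 ξ (mem_blockOf_self hM ξ), fun h => ⟨isPBlock_blockOf ξ, hb, ?_⟩⟩
  intro η hη χ hχ g
  have h1 := ((cenInt_centralChar hM g).resCen (H := H)).congr_block hM (sameBlock_symm hη)
  rw [resCen_centralChar, resCen_centralChar] at h1
  simpa using ideal_add hM h1 (h χ hχ g)

/-- The square norm, at a regular element, of the characters of `W` lying over `b`. -/
noncomputable def secNorm (M : Ideal AlgInt) (b : Set (IrrCharacter G)) (W : Subgroup G) (y : G) :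
    ℂ :=
  open Classical in
  if h : y ∈ W then
    ∑ θ ∈ overSet M (fun γ => IsInducedBlock M W γ b),
      (θ : W → ℂ) ⟨y, h⟩ * conj ((θ : W → ℂ) ⟨y, h⟩)
  else 0

theorem inducedCentralChar_inf (N : Subgroup G) (x : N) {W : Subgroup G}
    (e : Subgroup.centralizer ({x} : Set N) ≃* W)
    (he : ∀ c, ((e c : W) : G) = ((c : N) : G)) (η : IrrCharacter W) (g : G) :
    inducedCentralChar W (η : W → ℂ) g =
      resCen (Subgroup.centralizer ({x} : Set N))
        (resCen N (fun χ : IrrCharacter G => centralChar (χ : G → ℂ) g)) (irrPull e η) := by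
  classical
  cases nonempty_fintype (Subgroup.centralizer ({x} : Set N))
  cases nonempty_fintype W
  rw [resCen, finsum_eq_sum_of_fintype, inducedCentralChar,
    finsum_mem_eq_sum_of_inter_support_eq _
      (t := Finset.univ.filter (fun h : W => IsConj g (h : G))) (by ext; simp),
    Finset.sum_div, Finset.sum_filter, ← e.toEquiv.sum_comp]
  refine Finset.sum_congr rfl fun c _ => ?_
  rw [coeffFun_resCen, coeffFun_centralChar]
  simp only [classInd, irrPull_apply, map_one, MulEquiv.toEquiv_eq_coe, MulEquiv.coe_toEquiv,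
    EquivLike.coe_coe, he]
  split_ifs <;> simp

/-- The characters of a subgroup over a block of the group, at an element of the subgroup. -/
theorem norm_over_subgroup [Fact p.Prime] (hM : IsPModular p M) {b : Set (IrrCharacter G)}
    (hb : IsPBlock M b) (N : Subgroup G) [Fintype N] {g : N} {x y : G}
    (hx : x ∈ N) (hy : y ∈ N) (hg : x * y = (g : G)) (hc : Commute x y)
    (hxp : ∃ k : ℕ, orderOf x = p ^ k) (hyp : ¬ p ∣ orderOf y) :
    ∑ ξ ∈ overSet M (fun β => IsInducedBlock M N β b), (ξ : N → ℂ) g * conj ((ξ : N → ℂ) g) =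
      secNorm M b (N ⊓ Subgroup.centralizer ({x} : Set G)) y := by
  classical
  set W := N ⊓ Subgroup.centralizer ({x} : Set G)
  let x' : N := ⟨x, hx⟩
  have hyW : y ∈ W := ⟨hy, Subgroup.mem_centralizer_singleton_iff.2 hc.symm.eq⟩
  let y' : Subgroup.centralizer ({x'} : Set N) :=
    ⟨⟨y, hy⟩, Subgroup.mem_centralizer_singleton_iff.2 (Subtype.ext hc.symm.eq)⟩
  let e : Subgroup.centralizer ({x'} : Set N) ≃* W :=
    { toFun := fun c => ⟨((c : N) : G), (c : N).2, Subgroup.mem_centralizer_singleton_iff.2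
        (congrArg Subtype.val (Subgroup.mem_centralizer_singleton_iff.1 c.2))⟩
      invFun := fun w => ⟨⟨(w : G), w.2.1⟩, Subgroup.mem_centralizer_singleton_iff.2
        (Subtype.ext (Subgroup.mem_centralizer_singleton_iff.1 w.2.2))⟩
      left_inv := fun c => rfl
      right_inv := fun w => rfl
      map_mul' := fun a b => rfl }
  letI := Fintype.ofFinite (Subgroup.centralizer ({x'} : Set N))
  letI := Fintype.ofFinite W
  rw [show g = x' * (y' : N) from Subtype.ext hg.symm,
    norm_section hM (x := x') (hxp.imp fun k hk => by rwa [Subgroup.orderOf_mk]) (y := y')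
      (by rwa [← Subgroup.orderOf_coe, Subgroup.orderOf_mk])
      (fun β => IsInducedBlock M N β b)
      (fun γ => ∃ η : IrrCharacter W, irrPull e η ∈ γ ∧
        IsInducedBlock M W (blockOf M (η : W → ℂ)) b) ?_]
  · rw [secNorm, dif_pos hyW]
    refine Finset.sum_equiv
      { toFun := fun θ => irrPull e.symm θ
        invFun := fun η => irrPull e η
        left_inv := fun θ => irrPull_symm_self e θ
        right_inv := fun η => irrPull_self_symm e η } (fun θ => ?_) fun θ _ => ?_
    · simp only [mem_overSet, Equiv.coe_fn_mk]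
      constructor
      · rintro ⟨η, hη, hind⟩
        have h : SameBlock M
            (irrPull e (irrPull e.symm θ) : Subgroup.centralizer ({x'} : Set N) → ℂ)
            (irrPull e η : Subgroup.centralizer ({x'} : Set N) → ℂ) := by
          rw [irrPull_symm_self]; exact hη
        rw [sameBlock_irrPull_iff] at h
        rwa [blockOf_eq hM h]
      · intro h
        exact ⟨_, by rw [irrPull_symm_self]; exact mem_blockOf_self hM θ, h⟩
    · simp only [Equiv.coe_fn_mk, irrPull_apply]
      rfl
  · intro θ β hβ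
    obtain ⟨χ, hχ⟩ := pblock_nonempty hM hβ.2.1
    rw [pblock_eq_blockOf hM hβ.2.1 hχ, induced_iff_one hM hb]
    have hstep : ∀ η : IrrCharacter W, irrPull e η ∈ blockOf M (θ : _ → ℂ) → ∀ h : G,
        MemLocalIdeal M
          (inducedCentralChar W (η : W → ℂ) h - inducedCentralChar N (χ : N → ℂ) h) := by
      intro η hη h
      rw [inducedCentralChar_inf N x' e (fun c => rfl), ← resCen_centralChar N h χ]
      exact induced_congr hM hβ ((cenInt_centralChar hM h).resCen) hη hχ
    constructor
    · rintro ⟨η, hη, hind⟩ ψ hψ h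
      simpa using ideal_add hM (ideal_sub_comm (hstep η hη h))
        ((induced_iff_one hM hb η).1 hind ψ hψ h)
    · intro h
      have hmem : irrPull e (irrPull e.symm θ) ∈ blockOf M (θ : _ → ℂ) := by
        rw [irrPull_symm_self]; exact mem_blockOf_self hM θ
      refine ⟨_, hmem, (induced_iff_one hM hb _).2 fun ψ hψ t => ?_⟩
      simpa using ideal_add hM (hstep _ hmem t) (h ψ hψ t)

/-- The same in the whole group. -/
theorem norm_over_top [Fact p.Prime] (hM : IsPModular p M) {b : Set (IrrCharacter G)}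
    (hb : IsPBlock M b) {x y : G} (hc : Commute x y)
    (hxp : ∃ k : ℕ, orderOf x = p ^ k) (hyp : ¬ p ∣ orderOf y) :
    ∑ ξ ∈ overSet M (fun β => β = b), (ξ : G → ℂ) (x * y) * conj ((ξ : G → ℂ) (x * y)) =
      secNorm M b (Subgroup.centralizer ({x} : Set G)) y := by
  classical
  letI := Fintype.ofFinite (Subgroup.centralizer ({x} : Set G))
  have hyC : y ∈ Subgroup.centralizer ({x} : Set G) :=
    Subgroup.mem_centralizer_singleton_iff.2 hc.symm.eq
  rw [secNorm, dif_pos hyC]
  exact norm_section hM hxp (y := ⟨y, hyC⟩) (by rwa [Subgroup.orderOf_mk]) (fun β => β = b)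
    (fun γ => IsInducedBlock M _ γ b) fun θ β hβ =>
    ⟨fun h => induced_unique hM hβ h, fun h => h ▸ hβ⟩

end Over

end Cfsg.Agent.Char.ChainSum
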