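import Mathlib

/-!
Cancellation of the normal chains of `p`-subgroups fixed by a `p`-element `x` against each other,
by toggling the join of the largest member missing `x` with the closure of the conjugates of `x`
under the largest member.
-/

namespace Cfsg.Agent.Char.ChainToggle

set_option linter.unusedSectionVars false

variable {G : Type*} [Group G] [Finite G] {p : ℕ}

open scoped Classical

/-- A nonempty chain of nontrivial `p`-subgroups, each normal in the largest. -/
def IsNChain (p : ℕ) (s : Finset (Subgroup G)) : Prop :=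
  s.Nonempty ∧ (∀ Q ∈ s, ∀ R ∈ s, Q ≤ R ∨ R ≤ Q) ∧ (∀ Q ∈ s, Q ≠ ⊥ ∧ IsPGroup p Q) ∧
    ∃ T ∈ s, ∀ Q ∈ s, Q ≤ T ∧ T ≤ Subgroup.normalizer ((Q : Subgroup G) : Set G)

/-- The stabiliser of a chain. -/
abbrev stN (s : Finset (Subgroup G)) : Subgroup G :=
  ⨅ Q ∈ s, Subgroup.normalizer ((Q : Subgroup G) : Set G)

theorem mem_stN {s : Finset (Subgroup G)} {w : G} :
    w ∈ stN s ↔ ∀ Q ∈ s, w ∈ Subgroup.normalizer ((Q : Subgroup G) : Set G) := by
  simp [stN, Subgroup.mem_iInf]

/-- The largest member missing `x`. -/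
noncomputable def lowU (s : Finset (Subgroup G)) (x : G) : Subgroup G :=
  (s.filter (fun Q => x ∉ Q)).sup id

/-- The conjugates of `x` under the largest member. -/
def cls (s : Finset (Subgroup G)) (x : G) : Subgroup G :=
  Subgroup.closure {z | ∃ t ∈ s.sup id, t * x * t⁻¹ = z}

/-- The subgroup to be toggled. -/
noncomputable def keyK (s : Finset (Subgroup G)) (x : G) : Subgroup G := lowU s x ⊔ cls s x

/-- The partner chain. -/
noncomputable def toggle (s : Finset (Subgroup G)) (x : G) : Finset (Subgroup G) :=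
  if keyK s x ∈ s then s.erase (keyK s x) else insert (keyK s x) s

theorem IsNChain.sup_eq {s : Finset (Subgroup G)} {T : Subgroup G} (hT : T ∈ s)
    (h : ∀ Q ∈ s, Q ≤ T) : s.sup id = T :=
  le_antisymm (Finset.sup_le h) (Finset.le_sup (f := id) hT)

theorem IsNChain.top {s : Finset (Subgroup G)} (h : IsNChain p s) :
    s.sup id ∈ s ∧ (∀ Q ∈ s, s.sup id ≤ Subgroup.normalizer ((Q : Subgroup G) : Set G)) ∧
      IsPGroup p (s.sup id : Subgroup G) := by
  obtain ⟨-, -, hp, T, hT, hle⟩ := h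
  rw [IsNChain.sup_eq hT fun Q hQ => (hle Q hQ).1]
  exact ⟨hT, fun Q hQ => (hle Q hQ).2, (hp T hT).2⟩

theorem lowU_mem {s : Finset (Subgroup G)} (h : IsNChain p s) (x : G) :
    lowU s x = ⊥ ∨ (lowU s x ∈ s ∧ x ∉ lowU s x) := by
  rcases (s.filter (fun Q => x ∉ Q)).eq_empty_or_nonempty with he | hne
  · exact Or.inl (by rw [lowU, he, Finset.sup_empty])
  · right
    obtain ⟨U, hU, hmax⟩ := (s.filter (fun Q => x ∉ Q)).exists_maximal hne
    obtain ⟨hUs, hxU⟩ := Finset.mem_filter.1 hU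
    have : lowU s x = U := le_antisymm (Finset.sup_le fun Q hQ => by
      rcases h.2.1 Q (Finset.mem_filter.1 hQ).1 U hUs with hQU | hUQ
      · exact hQU
      · exact hmax hQ hUQ) (Finset.le_sup (f := id) hU)
    rw [this]
    exact ⟨hUs, hxU⟩

theorem self_mem_cls (s : Finset (Subgroup G)) (x : G) : x ∈ cls s x :=
  Subgroup.subset_closure ⟨1, one_mem _, by group⟩

theorem self_mem_keyK (s : Finset (Subgroup G)) (x : G) : x ∈ keyK s x :=
  Subgroup.mem_sup_right (self_mem_cls s x)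

theorem conj_mem_of_normalizes {w : G} {H : Subgroup G}
    (hw : w ∈ Subgroup.normalizer (H : Set G)) {a : G} (ha : a ∈ H) : w * a * w⁻¹ ∈ H :=
  (Subgroup.mem_normalizer_iff.1 hw a).1 ha

theorem normalizes_closure {S : Set G} {w : G} (h : ∀ z, z ∈ S ↔ w * z * w⁻¹ ∈ S) :
    w ∈ Subgroup.normalizer ((Subgroup.closure S : Subgroup G) : Set G) := by
  rw [Subgroup.mem_normalizer_iff]
  have h1 : (Subgroup.closure S).map (MulAut.conj w).toMonoidHom = Subgroup.closure S := by
    rw [MonoidHom.map_closure]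
    congr 1
    ext z
    constructor
    · rintro ⟨a, ha, rfl⟩
      exact (h a).1 ha
    · intro hz
      refine ⟨w⁻¹ * z * w, (h _).2 ?_, ?_⟩
      · convert hz using 1; group
      · show w * (w⁻¹ * z * w) * w⁻¹ = z
        group
  intro z
  constructor
  · intro hz
    rw [← h1]
    exact ⟨z, hz, rfl⟩
  · intro hz
    rw [← h1] at hz
    obtain ⟨a, ha, ha'⟩ := hz
    have : w * a * w⁻¹ = w * z * w⁻¹ := ha'
    rwa [show a = z from mul_left_cancel (mul_right_cancel this)] at ha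

theorem normalizes_sup {w : G} {A B : Subgroup G} (hA : w ∈ Subgroup.normalizer (A : Set G))
    (hB : w ∈ Subgroup.normalizer (B : Set G)) :
    w ∈ Subgroup.normalizer ((A ⊔ B : Subgroup G) : Set G) := by
  rw [Subgroup.sup_eq_closure]
  refine normalizes_closure fun z => ?_
  simp only [Set.mem_union, SetLike.mem_coe]
  rw [← Subgroup.mem_normalizer_iff.1 hA z, ← Subgroup.mem_normalizer_iff.1 hB z]

theorem normalizes_cls {s : Finset (Subgroup G)} {x w : G}
    (hw : w ∈ Subgroup.normalizer ((s.sup id : Subgroup G) : Set G))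
    (hfix : ∃ t ∈ s.sup id, w * x * w⁻¹ = t * x * t⁻¹) :
    w ∈ Subgroup.normalizer ((cls s x : Subgroup G) : Set G) := by
  obtain ⟨t₀, ht₀, ht₀'⟩ := hfix
  refine normalizes_closure fun z => ⟨?_, ?_⟩
  · rintro ⟨t, ht, rfl⟩
    refine ⟨w * t * w⁻¹ * t₀, mul_mem (conj_mem_of_normalizes hw ht) ht₀, ?_⟩
    calc w * t * w⁻¹ * t₀ * x * (w * t * w⁻¹ * t₀)⁻¹
        = w * t * w⁻¹ * (t₀ * x * t₀⁻¹) * (w * t * w⁻¹)⁻¹ := by group
      _ = w * (t * x * t⁻¹) * w⁻¹ := by rw [← ht₀']; group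
  · rintro ⟨t, ht, hz⟩
    have hx : w⁻¹ * t₀ * x * (w⁻¹ * t₀)⁻¹ = x := by
      calc w⁻¹ * t₀ * x * (w⁻¹ * t₀)⁻¹ = w⁻¹ * (t₀ * x * t₀⁻¹) * w := by group
        _ = x := by rw [← ht₀']; group
    refine ⟨w⁻¹ * (t * t₀⁻¹) * w, ?_, ?_⟩
    · have := conj_mem_of_normalizes (Subgroup.inv_mem _ hw) (mul_mem ht (inv_mem ht₀))
      rwa [inv_inv] at this
    · calc w⁻¹ * (t * t₀⁻¹) * w * x * (w⁻¹ * (t * t₀⁻¹) * w)⁻¹
          = w⁻¹ * (t * t₀⁻¹) * (w * x * w⁻¹) * (t * t₀⁻¹)⁻¹ * w := by group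
        _ = w⁻¹ * (t * x * t⁻¹) * w := by rw [ht₀']; group
        _ = z := by rw [hz]; group

section Fixed

variable {s : Finset (Subgroup G)} {x : G}
variable (h : IsNChain p s) (hx : x ∈ stN s)
include h hx

theorem x_normalizes_top : x ∈ Subgroup.normalizer ((s.sup id : Subgroup G) : Set G) :=
  mem_stN.1 hx _ h.top.1

theorem top_normalizes_cls :
    s.sup id ≤ Subgroup.normalizer ((cls s x : Subgroup G) : Set G) := fun t ht =>
  normalizes_cls (Subgroup.le_normalizer ht) ⟨t, ht, rfl⟩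

theorem x_normalizes_cls : x ∈ Subgroup.normalizer ((cls s x : Subgroup G) : Set G) :=
  normalizes_cls (x_normalizes_top h hx) ⟨1, one_mem _, by group⟩

theorem normalizes_lowU {w : G} (hw : w ∈ stN s) :
    w ∈ Subgroup.normalizer ((lowU s x : Subgroup G) : Set G) := by
  rcases lowU_mem h x with h0 | ⟨h0, -⟩
  · rw [h0, Subgroup.mem_normalizer_iff]
    intro z
    simp
  · exact mem_stN.1 hw _ h0

theorem top_le_stN : s.sup id ≤ stN s := fun t ht =>
  mem_stN.2 fun Q hQ => h.top.2.1 Q hQ ht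

theorem normalizes_keyK {w : G} (hw : w ∈ stN s)
    (hfix : ∃ t ∈ s.sup id, w * x * w⁻¹ = t * x * t⁻¹) :
    w ∈ Subgroup.normalizer ((keyK s x : Subgroup G) : Set G) :=
  normalizes_sup (normalizes_lowU h hx hw) (normalizes_cls (mem_stN.1 hw _ h.top.1) hfix)

theorem keyK_le : keyK s x ≤ s.sup id ⊔ Subgroup.zpowers x := by
  refine sup_le ?_ ((Subgroup.closure_le _).2 ?_)
  · refine le_trans ?_ le_sup_left
    exact Finset.sup_mono (Finset.filter_subset _ _)
  · rintro z ⟨t, ht, rfl⟩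
    exact mul_mem (mul_mem (Subgroup.mem_sup_left ht)
      (Subgroup.mem_sup_right (Subgroup.mem_zpowers x))) (inv_mem (Subgroup.mem_sup_left ht))

theorem keyK_comparable {Q : Subgroup G} (hQ : Q ∈ s) :
    Q ≤ keyK s x ∨ (x ∈ Q ∧ keyK s x ≤ Q) := by
  by_cases hxQ : x ∈ Q
  · refine Or.inr ⟨hxQ, sup_le ?_ ((Subgroup.closure_le _).2 ?_)⟩
    · rcases lowU_mem h x with h0 | ⟨h0, h1⟩
      · rw [h0]; exact bot_le
      · rcases h.2.1 _ h0 Q hQ with h2 | h2
        · exact h2
        · exact absurd (h2 hxQ) h1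
    · rintro z ⟨t, ht, rfl⟩
      exact conj_mem_of_normalizes (h.top.2.1 Q hQ ht) hxQ
  · exact Or.inl (le_trans (Finset.le_sup (f := id) (Finset.mem_filter.2 ⟨hQ, hxQ⟩)) le_sup_left)

theorem sup_zpowers_isPGroup [Fact p.Prime] (hxp : ∃ k : ℕ, orderOf x = p ^ k) :
    IsPGroup p ((s.sup id ⊔ Subgroup.zpowers x : Subgroup G) : Subgroup G) := by
  obtain ⟨k, hk⟩ := hxp
  exact IsPGroup.to_sup_of_normal_left' h.top.2.2
    (IsPGroup.of_card (n := k) (by rw [Nat.card_zpowers, hk]))
    (Subgroup.zpowers_le.2 (x_normalizes_top h hx))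

/-- In a `p`-group, a join with the conjugates of `x` is the join with `x`. -/
theorem eq_sup_zpowers [Fact p.Prime] (hT : keyK s x = s.sup id) :
    s.sup id = lowU s x ⊔ Subgroup.zpowers x := by
  set T := s.sup id
  set A := lowU s x ⊔ Subgroup.zpowers x
  have hxT : x ∈ T := hT ▸ self_mem_keyK s x
  have hAT : A ≤ T := sup_le (le_trans le_sup_left hT.le) (Subgroup.zpowers_le.2 hxT)
  refine le_antisymm ?_ hAT
  by_contra hne
  have hA : A.subgroupOf T ≠ ⊤ := fun e => hne (Subgroup.subgroupOf_eq_top.1 e)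
  obtain ⟨M, hM, hle⟩ := (eq_top_or_exists_le_coatom (A.subgroupOf T)).resolve_left hA
  haveI := h.top.2.2.isNilpotent
  haveI : M.Normal := Subgroup.NormalizerCondition.normal_of_coatom M Group.normalizerCondition_of_isNilpotent hM
  have hKM : keyK s x ≤ M.map T.subtype := by
    refine sup_le ?_ ((Subgroup.closure_le _).2 ?_)
    · intro u hu
      have huT : u ∈ T := hAT (Subgroup.mem_sup_left hu)
      exact ⟨⟨u, huT⟩, hle (Subgroup.mem_subgroupOf.2 (Subgroup.mem_sup_left hu)), rfl⟩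
    · rintro z ⟨t, ht, rfl⟩
      refine ⟨⟨t, ht⟩ * ⟨x, hxT⟩ * ⟨t, ht⟩⁻¹, ?_, rfl⟩
      exact Subgroup.Normal.conj_mem ‹_› _
        (hle (Subgroup.mem_subgroupOf.2 (Subgroup.mem_sup_right (Subgroup.mem_zpowers x)))) _
  apply hM.1
  rw [Subgroup.eq_top_iff']
  intro t
  obtain ⟨a, ha, he⟩ := hKM (hT.ge t.2)
  rwa [← Subtype.ext (a1 := a) (a2 := t) he]

theorem keyK_ne_bot (hx1 : x ≠ 1) : keyK s x ≠ ⊥ := fun e => hx1 (by
  have := self_mem_keyK s x
  rwa [e, Subgroup.mem_bot] at this)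

theorem top_insert : (insert (keyK s x) s).sup id = s.sup id ⊔ keyK s x := by
  rw [Finset.sup_insert, sup_comm, id_eq]

theorem top_insert_normalizes {Q : Subgroup G} (hQ : Q ∈ insert (keyK s x) s) :
    s.sup id ⊔ keyK s x ≤ Subgroup.normalizer ((Q : Subgroup G) : Set G) := by
  have h1 : s.sup id ⊔ keyK s x ≤ s.sup id ⊔ Subgroup.zpowers x :=
    sup_le le_sup_left (keyK_le h hx)
  refine le_trans h1 (sup_le ?_ (Subgroup.zpowers_le.2 ?_))
  · intro t ht
    rcases Finset.mem_insert.1 hQ with rfl | hQ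
    · exact normalizes_keyK h hx (top_le_stN h hx ht) ⟨t, ht, rfl⟩
    · exact h.top.2.1 Q hQ ht
  · rcases Finset.mem_insert.1 hQ with rfl | hQ
    · exact normalizes_keyK h hx hx ⟨1, one_mem _, by group⟩
    · exact mem_stN.1 hx Q hQ

theorem isNChain_insert [Fact p.Prime] (hx1 : x ≠ 1) (hxp : ∃ k : ℕ, orderOf x = p ^ k) :
    IsNChain p (insert (keyK s x) s) := by
  have hcomp : ∀ Q ∈ s, Q ≤ keyK s x ∨ keyK s x ≤ Q := fun Q hQ =>
    (keyK_comparable h hx hQ).imp_right And.right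
  refine ⟨Finset.insert_nonempty _ _, ?_, ?_, ?_⟩
  · intro Q hQ R hR
    rcases Finset.mem_insert.1 hQ with rfl | hQ <;> rcases Finset.mem_insert.1 hR with rfl | hR
    · exact Or.inl le_rfl
    · exact (hcomp R hR).symm
    · exact hcomp Q hQ
    · exact h.2.1 Q hQ R hR
  · intro Q hQ
    rcases Finset.mem_insert.1 hQ with rfl | hQ
    · exact ⟨keyK_ne_bot h hx hx1, (sup_zpowers_isPGroup h hx hxp).to_le (keyK_le h hx)⟩
    · exact h.2.2.1 Q hQ
  · refine ⟨s.sup id ⊔ keyK s x, ?_, fun Q hQ => ⟨?_, top_insert_normalizes h hx hQ⟩⟩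
    · rcases hcomp _ h.top.1 with h1 | h1
      · rw [sup_eq_right.2 h1]; exact Finset.mem_insert_self _ _
      · rw [sup_eq_left.2 h1]; exact Finset.mem_insert_of_mem h.top.1
    · rw [← top_insert h hx]
      exact Finset.le_sup (f := id) hQ

theorem x_mem_stN_insert : x ∈ stN (insert (keyK s x) s) := mem_stN.2 fun Q hQ =>
  (Finset.mem_insert.1 hQ).elim (fun e => e ▸ normalizes_keyK h hx hx ⟨1, one_mem _, by group⟩)
    (mem_stN.1 hx Q)

theorem stN_insert :
    stN (insert (keyK s x) s) ⊓ Subgroup.centralizer ({x} : Set G) =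
      stN s ⊓ Subgroup.centralizer ({x} : Set G) := by
  ext w
  simp only [Subgroup.mem_inf, mem_stN, Finset.forall_mem_insert]
  refine ⟨fun hw => ⟨hw.1.2, hw.2⟩, fun hw => ⟨⟨?_, hw.1⟩, hw.2⟩⟩
  refine normalizes_keyK h hx (mem_stN.2 hw.1) ⟨1, one_mem _, ?_⟩
  rw [Subgroup.mem_centralizer_singleton_iff.1 hw.2]
  group

theorem cls_insert : cls (insert (keyK s x) s) x = cls s x := by
  refine le_antisymm ((Subgroup.closure_le _).2 ?_) (Subgroup.closure_mono ?_)
  · rintro z ⟨t, ht, rfl⟩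
    have hle : (insert (keyK s x) s).sup id ≤
        Subgroup.normalizer ((cls s x : Subgroup G) : Set G) := by
      rw [top_insert h hx]
      refine sup_le (top_normalizes_cls h hx) (le_trans (keyK_le h hx) ?_)
      exact sup_le (top_normalizes_cls h hx) (Subgroup.zpowers_le.2 (x_normalizes_cls h hx))
    exact conj_mem_of_normalizes (hle ht) (self_mem_cls s x)
  · rintro z ⟨t, ht, rfl⟩
    exact ⟨t, by rw [top_insert h hx]; exact Subgroup.mem_sup_left ht, rfl⟩

theorem lowU_insert : lowU (insert (keyK s x) s) x = lowU s x := by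
  rw [lowU, lowU, Finset.filter_insert, if_neg (not_not.2 (self_mem_keyK s x))]

theorem keyK_insert : keyK (insert (keyK s x) s) x = keyK s x := by
  rw [keyK, lowU_insert h hx, cls_insert h hx, ← keyK]

theorem keyK_erase [Fact p.Prime] (hK : keyK s x ∈ s) (hne : (s.erase (keyK s x)).Nonempty) :
    IsNChain p (s.erase (keyK s x)) ∧ x ∈ stN (s.erase (keyK s x)) ∧
      keyK (s.erase (keyK s x)) x = keyK s x := by
  set K := keyK s x with hKdef
  have hstN : x ∈ stN (s.erase K) :=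
    mem_stN.2 fun Q hQ => mem_stN.1 hx Q (Finset.mem_of_mem_erase hQ)
  have hU : lowU (s.erase K) x = lowU s x := by
    rw [lowU, lowU, Finset.filter_erase, Finset.erase_eq_of_notMem]
    exact fun hm => (Finset.mem_filter.1 hm).2 (self_mem_keyK s x)
  have hsub : ∀ Q ∈ s.erase K, Q ∈ s := fun Q hQ => Finset.mem_of_mem_erase hQ
  by_cases hKT : K = s.sup id
  · have hall : ∀ Q ∈ s.erase K, x ∉ Q := by
      intro Q hQ hxQ
      rcases keyK_comparable h hx (hsub Q hQ) with h1 | ⟨-, h1⟩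
      · obtain ⟨Q0, hQ0⟩ := hne
        refine Finset.ne_of_mem_erase hQ (le_antisymm h1 (sup_le ?_ ((Subgroup.closure_le _).2 ?_)))
        · rcases lowU_mem h x with h0 | ⟨h0, h2⟩
          · rw [h0]; exact bot_le
          · rcases h.2.1 _ h0 Q (hsub Q hQ) with h3 | h3
            · exact h3
            · exact absurd (h3 hxQ) h2
        · rintro z ⟨t, ht, rfl⟩
          exact conj_mem_of_normalizes (h.top.2.1 Q (hsub Q hQ) ht) hxQ
      · exact Finset.ne_of_mem_erase hQ (le_antisymm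
          ((Finset.le_sup (f := id) (hsub Q hQ)).trans hKT.ge) h1)
    have htop : (s.erase K).sup id = lowU s x := by
      rw [← hU, lowU, Finset.filter_true_of_mem hall]
    obtain ⟨hUs, hxU⟩ : lowU s x ∈ s ∧ x ∉ lowU s x := by
      rcases lowU_mem h x with h0 | h0
      · obtain ⟨Q, hQ⟩ := hne
        exact absurd (le_bot_iff.1 (h0 ▸ htop ▸ Finset.le_sup (f := id) hQ))
          (h.2.2.1 Q (hsub Q hQ)).1
      · exact h0
    have hUe : lowU s x ∈ s.erase K :=
      Finset.mem_erase.2 ⟨fun e => hxU (e ▸ self_mem_keyK s x), hUs⟩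
    refine ⟨⟨hne, fun Q hQ R hR => h.2.1 Q (hsub Q hQ) R (hsub R hR),
      fun Q hQ => h.2.2.1 Q (hsub Q hQ), lowU s x, hUe, fun Q hQ => ⟨?_, ?_⟩⟩, hstN, ?_⟩
    · exact htop ▸ Finset.le_sup (f := id) hQ
    · exact le_trans (le_trans le_sup_left hKT.le) (h.top.2.1 Q (hsub Q hQ))
    · rw [keyK, hU, hKdef, keyK]
      refine le_antisymm (sup_le_sup_left (Subgroup.closure_mono ?_) _) ?_
      · rintro z ⟨t, ht, rfl⟩
        exact ⟨t, hKT.le (Subgroup.mem_sup_left (htop ▸ ht)), rfl⟩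
      · rw [← keyK, ← hKdef, hKT, eq_sup_zpowers h hx hKT]
        exact sup_le_sup_left (Subgroup.zpowers_le.2 (self_mem_cls _ x)) _
  · have hTe : s.sup id ∈ s.erase K := Finset.mem_erase.2 ⟨fun e => hKT e.symm, h.top.1⟩
    have htop : (s.erase K).sup id = s.sup id :=
      IsNChain.sup_eq hTe fun Q hQ => Finset.le_sup (f := id) (hsub Q hQ)
    refine ⟨⟨hne, fun Q hQ R hR => h.2.1 Q (hsub Q hQ) R (hsub R hR),
      fun Q hQ => h.2.2.1 Q (hsub Q hQ), s.sup id, hTe,
      fun Q hQ => ⟨Finset.le_sup (f := id) (hsub Q hQ), h.top.2.1 Q (hsub Q hQ)⟩⟩, hstN, ?_⟩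
    rw [keyK, hU, cls, htop, ← cls, ← keyK]

/-- A chain losing all its members is the chain of `x` alone. -/
theorem eq_singleton_of_erase [Fact p.Prime] (hK : keyK s x ∈ s)
    (he : s.erase (keyK s x) = ∅) : s = {Subgroup.zpowers x} := by
  have hs : s = {keyK s x} := by
    conv_lhs => rw [← Finset.insert_erase hK, he]
    rfl
  have hU : lowU s x = ⊥ := by
    rw [lowU, Finset.filter_false_of_mem, Finset.sup_empty]
    intro Q hQ
    rw [hs, Finset.mem_singleton] at hQ
    rw [hQ, not_not]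
    exact self_mem_keyK s x
  have hT : keyK s x = s.sup id := by
    conv_rhs => rw [hs, Finset.sup_singleton, id_eq]
  have := eq_sup_zpowers h hx hT
  rw [hU, bot_sup_eq, ← hT] at this
  rwa [this] at hs

end Fixed

/-- The toggle pairs off all fixed chains but one. -/
theorem toggle_spec [Fact p.Prime] {s : Finset (Subgroup G)} {x : G} (h : IsNChain p s)
    (hx : x ∈ stN s) (hx1 : x ≠ 1) (hxp : ∃ k : ℕ, orderOf x = p ^ k)
    (hne : s ≠ {Subgroup.zpowers x}) :
    IsNChain p (toggle s x) ∧ x ∈ stN (toggle s x) ∧ toggle s x ≠ {Subgroup.zpowers x} ∧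
      toggle (toggle s x) x = s ∧
      stN (toggle s x) ⊓ Subgroup.centralizer ({x} : Set G) =
        stN s ⊓ Subgroup.centralizer ({x} : Set G) ∧
      ((toggle s x).card + 1 = s.card ∨ s.card + 1 = (toggle s x).card) ∧ toggle s x ≠ s := by
  set K := keyK s x with hKdef
  by_cases hK : K ∈ s
  · have htg : toggle s x = s.erase K := if_pos hK
    have hnemp : (s.erase K).Nonempty := Finset.nonempty_iff_ne_empty.2 fun e =>
      hne (eq_singleton_of_erase h hx hK e)
    obtain ⟨h1, h2, h3⟩ := keyK_erase h hx hK hnemp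
    rw [htg]
    refine ⟨h1, h2, fun e => ?_, ?_, ?_, Or.inl ?_, ?_⟩
    · rw [← hKdef] at h3
      have h4 : keyK (s.erase K) x = Subgroup.zpowers x := by
        rw [e]
        have hU : lowU ({Subgroup.zpowers x} : Finset (Subgroup G)) x = ⊥ := by
          rw [lowU, Finset.filter_false_of_mem, Finset.sup_empty]
          intro Q hQ
          rw [Finset.mem_singleton.1 hQ, not_not]
          exact Subgroup.mem_zpowers x
        rw [keyK, hU, bot_sup_eq]
        refine le_antisymm ((Subgroup.closure_le _).2 ?_)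
          (Subgroup.zpowers_le.2 (self_mem_cls _ x))
        rintro z ⟨t, ht, rfl⟩
        rw [Finset.sup_singleton, id_eq] at ht
        exact mul_mem (mul_mem ht (Subgroup.mem_zpowers x)) (inv_mem ht)
      have : K ∈ s.erase K := by
        rw [e, Finset.mem_singleton]; exact h3.symm.trans h4
      exact Finset.ne_of_mem_erase this rfl
    · rw [toggle, h3, ← hKdef, if_neg (Finset.notMem_erase _ _), Finset.insert_erase hK]
    · have := stN_insert h1 h2
      rw [h3, ← hKdef, Finset.insert_erase hK] at this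
      exact this.symm
    · exact Finset.card_erase_add_one hK
    · exact Finset.erase_ne_self.2 hK
  · have htg : toggle s x = insert K s := if_neg hK
    rw [htg]
    refine ⟨isNChain_insert h hx hx1 hxp, x_mem_stN_insert h hx, fun e => ?_, ?_,
      stN_insert h hx, Or.inr (Finset.card_insert_of_notMem hK).symm, Finset.insert_ne_self.2 hK⟩
    · obtain ⟨Q, hQ⟩ := h.1
      have h1 : Q ∈ insert K s := Finset.mem_insert_of_mem hQ
      have h2 : K ∈ insert K s := Finset.mem_insert_self _ _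
      rw [e, Finset.mem_singleton] at h1 h2
      exact hK (h2 ▸ h1 ▸ hQ)
    · rw [toggle, keyK_insert h hx, ← hKdef, if_pos (Finset.mem_insert_self _ _),
        Finset.erase_insert hK]

end Cfsg.Agent.Char.ChainToggle
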