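import Cfsg.Agent.Lib.Char.Integral
import Mathlib.Analysis.Fourier.FiniteAbelian.PontryaginDuality

/-! Projections of an elementary abelian group of operators on its characters. -/

set_option autoImplicit false
set_option linter.unusedSectionVars false

namespace Cfsg.Agent.Char

open Module

universe u v w

variable {V : Type v} [AddCommGroup V] [Module ℂ V] [FiniteDimensional ℂ V]

/-- An idempotent has a natural number as trace, and it vanishes only with the trace. -/
theorem idem_trace_nat {P : Module.End ℂ V} (h : IsIdempotentElem P) :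
    ∃ r : ℕ, LinearMap.trace ℂ V P = r ∧ r = finrank ℂ (LinearMap.range P) ∧ (r = 0 → P = 0) := by
  have h1 := ((LinearMap.isProj_range_iff_isIdempotentElem P).2 h).trace
  refine ⟨_, h1, rfl, fun h0 => ?_⟩
  rw [Submodule.finrank_eq_zero, LinearMap.range_eq_bot] at h0
  exact h0

theorem idem_sub {P Q : Module.End ℂ V} (hP : IsIdempotentElem P) (hQ : IsIdempotentElem Q)
    (h1 : P * Q = Q) (h2 : Q * P = Q) : IsIdempotentElem (P - Q) := by
  show (P - Q) * (P - Q) = P - Q
  rw [sub_mul, mul_sub, mul_sub, hP.eq, hQ.eq, h1, h2, sub_self, sub_zero]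

/-- If `Q` is dominated by `P`, its trace is at most that of `P`. -/
theorem idem_trace_le {P Q : Module.End ℂ V} (hP : IsIdempotentElem P) (hQ : IsIdempotentElem Q)
    (h1 : P * Q = Q) (h2 : Q * P = Q) {p q : ℕ} (hp : LinearMap.trace ℂ V P = p)
    (hq : LinearMap.trace ℂ V Q = q) : q ≤ p := by
  obtain ⟨r, hr, -, -⟩ := idem_trace_nat (idem_sub hP hQ h1 h2)
  rw [map_sub, hp, hq] at hr
  have : (p : ℂ) = ((r + q : ℕ) : ℂ) := by rw [Nat.cast_add, ← hr]; ring
  have := Nat.cast_injective this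
  omega

section Proj

variable {F : Type u} [Field F] [Fintype F] {W : Type w} [AddCommGroup W] [Module F W] [Fintype W]

/-- The projection on the character `w ↦ ψ (β w)`. -/
noncomputable def cproj (ψ : AddChar F ℂ) (a : W → Module.End ℂ V) (β : W →ₗ[F] F) :
    Module.End ℂ V :=
  (Fintype.card W : ℂ)⁻¹ • ∑ w : W, ψ (-(β w)) • a w

variable {ψ : AddChar F ℂ} (hψ : ψ ≠ 1) {a : W → Module.End ℂ V} (h0 : a 0 = 1)
  (hmul : ∀ u w, a (u + w) = a u * a w)

omit [FiniteDimensional ℂ V] in
include hψ in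
theorem sum_char_linear (β : W →ₗ[F] F) (hβ : β ≠ 0) : ∑ w : W, ψ (β w) = 0 := by
  classical
  let χ : AddChar W ℂ := ⟨fun w => ψ (β w), by simp, fun u w => by simp [AddChar.map_add_eq_mul]⟩
  refine AddChar.sum_eq_zero_of_ne_one (ψ := χ) fun e => hψ ?_
  obtain ⟨w, hw⟩ : ∃ w, β w ≠ 0 := by
    by_contra h
    push Not at h
    exact hβ (LinearMap.ext fun w => by simp [h w])
  ext x
  have := congrArg (fun c : AddChar W ℂ => c ((x / β w) • w)) e
  simpa [χ, map_smul, div_mul_cancel₀ _ hw] using this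

include hmul in
theorem a_mul_cproj (β : W →ₗ[F] F) (u : W) : a u * cproj ψ a β = ψ (β u) • cproj ψ a β := by
  rw [cproj, Algebra.mul_smul_comm, smul_comm (ψ (β u)) ((Fintype.card W : ℂ)⁻¹), Finset.mul_sum,
    Finset.smul_sum (r := ψ (β u))]
  congr 1
  refine Fintype.sum_equiv (Equiv.addLeft u) _ _ fun w => ?_
  simp only [Equiv.coe_addLeft]
  rw [Algebra.mul_smul_comm, smul_smul, hmul u w]
  congr 1
  simp [← AddChar.map_add_eq_mul]

include hψ hmul in
theorem cproj_mul_cproj (β β' : W →ₗ[F] F) [Decidable (β = β')] :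
    cproj ψ a β * cproj ψ a β' = if β = β' then cproj ψ a β' else 0 := by
  have hW : (Fintype.card W : ℂ) ≠ 0 := Nat.cast_ne_zero.mpr Fintype.card_ne_zero
  conv_lhs => rw [cproj]
  rw [Algebra.smul_mul_assoc, Finset.sum_mul]
  simp only [Algebra.smul_mul_assoc, a_mul_cproj hmul, smul_smul, ← Finset.sum_smul,
    ← AddChar.map_add_eq_mul]
  by_cases e : β = β'
  · subst e
    rw [if_pos rfl]
    simp [inv_mul_cancel₀ hW]
  · rw [if_neg e]
    have h1 : ∑ w : W, ψ (-(β w) + β' w) = 0 := by
      rw [← sum_char_linear hψ (β' - β) (sub_ne_zero.2 (Ne.symm e))]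
      exact Finset.sum_congr rfl fun w _ => by rw [LinearMap.sub_apply, neg_add_eq_sub]
    simp [h1]

include hψ hmul in
theorem cproj_idem (β : W →ₗ[F] F) : IsIdempotentElem (cproj ψ a β) := by
  classical
  show cproj ψ a β * cproj ψ a β = cproj ψ a β
  rw [cproj_mul_cproj hψ hmul, if_pos rfl]

include hψ h0 in
theorem sum_cproj [Fintype (W →ₗ[F] F)] : ∑ β : W →ₗ[F] F, cproj ψ a β = 1 := by
  classical
  have hW : (Fintype.card W : ℂ) ≠ 0 := Nat.cast_ne_zero.mpr Fintype.card_ne_zero
  simp only [cproj, ← Finset.smul_sum]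
  rw [Finset.sum_comm]
  simp only [← Finset.sum_smul]
  have key : ∀ w : W, ∑ β : W →ₗ[F] F, ψ (-(β w)) =
      if w = 0 then (Fintype.card W : ℂ) else 0 := by
    intro w
    by_cases hw : w = 0
    · rw [if_pos hw]
      simp only [hw, map_zero, neg_zero, AddChar.map_zero_eq_one, Finset.sum_const, nsmul_eq_mul,
        mul_one, Finset.card_univ]
      rw [show Fintype.card (W →ₗ[F] F) = Fintype.card W from ?_]
      rw [← Nat.card_eq_fintype_card, ← Nat.card_eq_fintype_card,
        Module.natCard_eq_pow_finrank (K := F), Module.natCard_eq_pow_finrank (K := F) (V := W)]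
      congr 1
      exact Subspace.dual_finrank_eq
    · rw [if_neg hw]
      obtain ⟨φ, hφ⟩ : ∃ φ : W →ₗ[F] F, φ w ≠ 0 := by
        by_contra h
        push Not at h
        exact hw ((Module.forall_dual_apply_eq_zero_iff F w).1 h)
      let ev : (W →ₗ[F] F) →ₗ[F] F := -(LinearMap.applyₗ w)
      refine sum_char_linear hψ ev fun he => hφ ?_
      simpa [ev] using LinearMap.congr_fun he φ
  simp only [key, ite_smul, zero_smul, Finset.sum_ite_eq', Finset.mem_univ, if_true, h0, smul_smul,
    inv_mul_cancel₀ hW, one_smul]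

include hψ h0 in
theorem trace_cproj {d c : ℂ} (hd : LinearMap.trace ℂ V 1 = d)
    (hc : ∀ w, w ≠ 0 → LinearMap.trace ℂ V (a w) = c) (β : W →ₗ[F] F) [Decidable (β = 0)] :
    LinearMap.trace ℂ V (cproj ψ a β) = (Fintype.card W : ℂ)⁻¹ *
      (if β = 0 then d + ((Fintype.card W : ℂ) - 1) * c else d - c) := by
  classical
  rw [cproj, map_smul, map_sum, smul_eq_mul]
  congr 1
  simp only [map_smul, smul_eq_mul]
  rw [← Finset.add_sum_erase _ _ (Finset.mem_univ (0 : W)), h0, hd, map_zero, neg_zero,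
    AddChar.map_zero_eq_one, one_mul,
    Finset.sum_congr rfl (fun w hw => by rw [hc w (Finset.ne_of_mem_erase hw)]), ← Finset.sum_mul]
  have h1 : ∑ w ∈ (Finset.univ.erase (0 : W)), ψ (-(β w)) =
      (if β = 0 then (Fintype.card W : ℂ) else 0) - 1 := by
    rw [Finset.sum_erase_eq_sub (Finset.mem_univ _), map_zero, neg_zero, AddChar.map_zero_eq_one]
    congr 1
    split_ifs with h
    · simp [h]
    · exact sum_char_linear hψ (-β) (neg_ne_zero.2 h)
  rw [h1]
  split_ifs <;> ring

omit [FiniteDimensional ℂ V] in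
/-- Conjugation permutes the projections. -/
theorem cproj_conj {P Q : Module.End ℂ V} (hPQ : P * Q = 1) (σ : W ≃ₗ[F] W)
    (hσ : ∀ w, P * a w * Q = a (σ w)) (β : W →ₗ[F] F) :
    P * cproj ψ a β * Q = cproj ψ a (β ∘ₗ σ.symm.toLinearMap) := by
  rw [cproj, Algebra.mul_smul_comm, Algebra.smul_mul_assoc, Finset.mul_sum, Finset.sum_mul, cproj]
  congr 1
  refine Fintype.sum_equiv σ.toEquiv _ _ fun w => ?_
  rw [Algebra.mul_smul_comm, Algebra.smul_mul_assoc, hσ]
  simp

end Proj

/-- The central character at `g` times the class size is an integer multiple of the degree. -/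
theorem dvd_index_mul {G : Type u} [Group G] [Finite G] (ρ : Representation ℂ G V)
    [ρ.IsIrreducible] (g : G) {z : ℤ} (hz : ρ.character g = z) :
    (finrank ℂ V : ℤ) ∣ ((Subgroup.centralizer ({g} : Set G)).index : ℤ) * z := by
  have h := isIntegral_centralChar_rep ρ g
  rw [hz] at h
  obtain ⟨m, hm⟩ := int_of_isIntegral_rat
    (q := (((Subgroup.centralizer ({g} : Set G)).index : ℚ) * z) / (finrank ℂ V : ℚ)) (by simpa using h)
  refine ⟨m, ?_⟩
  have hne : (finrank ℂ V : ℂ) ≠ 0 := Nat.cast_ne_zero.mpr (finrank_pos_of_irreducible ρ).ne'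
  have h1 : ((((Subgroup.centralizer ({g} : Set G)).index : ℤ) * z : ℤ) : ℂ) =
      (((finrank ℂ V : ℤ) * m : ℤ) : ℂ) := by
    push_cast at hm ⊢
    field_simp at hm
    linear_combination hm
  exact_mod_cast h1

end Cfsg.Agent.Char
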