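import Cfsg.Agent.Lib.Char.FrobTI
import Cfsg.Prelude.Def_Transfer

/-!
Brauer–Suzuki: exceptional characters for an abelian TI subgroup with Frobenius normalizer.
-/

set_option autoImplicit false

namespace Cfsg.Agent.Char.FrobTI

open scoped ComplexConjugate
open Cfsg

universe u

section Kernel

variable {L : Type u} [Group L] [Fintype L] (K : Subgroup L) [K.Normal]

/-- Over an abelian kernel every nontrivial character has degree the index. -/
theorem degree_eq_index (hab : ∀ a ∈ K, ∀ b ∈ K, a * b = b * a)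
    (hfix : ∀ k ∈ K, k ≠ 1 → ∀ x : L, x * k = k * x → x ∈ K) {χ : L → ℂ}
    (hχ : IsIrrCharacter L χ) (h : NonTriv K χ) : χ 1 = (K.index : ℂ) := by
  classical
  cases nonempty_fintype K
  obtain ⟨θ, hθ⟩ := IsChar.exists_constituent'
    (IsChar.res (IsIrr.isCharacter hχ) K) (by simpa using IsIrr.one_ne_zero hχ)
  have hθ1 : (θ : K → ℂ) 1 = 1 :=
    IsIrr.one_of_comm (fun a b => Subtype.ext (hab a a.2 b b.2)) θ.2
  obtain ⟨l, hl⟩ := linearHom_of_isCharacter (IsIrr.isCharacter θ.2) hθ1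
  have hl1 : l ≠ 1 := by
    intro he
    refine hθ ?_
    have h0 := congrFun (avg_of_nonTriv K hχ h) 1
    rw [avgN_one_eq, Pi.zero_apply] at h0
    rw [hl, he]
    simpa using h0
  have hin : inertia K (θ : K → ℂ) = K := by
    refine le_antisymm (fun x hx => ?_) (le_inertia K (IsIrr.classFun θ.2))
    by_contra hxK
    refine hl1 (MonoidHom.ext fun k => ?_)
    let φ : K → K := fun j => ⟨x * (j : L) * x⁻¹ * (j : L)⁻¹,
      K.mul_mem (‹K.Normal›.conj_mem _ j.2 x) (K.inv_mem j.2)⟩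
    have hinj : Function.Injective φ := by
      intro a b hab'
      have h1 : x * (a : L) * x⁻¹ * (a : L)⁻¹ = x * (b : L) * x⁻¹ * (b : L)⁻¹ :=
        congrArg Subtype.val hab'
      set c : L := (a : L)⁻¹ * b with hc
      have hcK : c ∈ K := K.mul_mem (K.inv_mem a.2) b.2
      have hb : (b : L) = a * c := by rw [hc]; group
      have hxc : x * c * x⁻¹ ∈ K := ‹K.Normal›.conj_mem _ hcK x
      rw [hb, show x * ((a : L) * c) * x⁻¹ * ((a : L) * c)⁻¹ =
        (x * (a : L) * x⁻¹) * ((x * c * x⁻¹) * c⁻¹) * (a : L)⁻¹ by group] at h1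
      have h2 : (x * c * x⁻¹) * c⁻¹ = 1 := by
        have h3 := mul_right_cancel h1
        exact mul_left_cancel (a := x * (a : L) * x⁻¹) (by rw [mul_one]; exact h3.symm)
      by_contra hne
      refine hxK (hfix c hcK (fun e => hne ?_) x ?_)
      · exact Subtype.ext (inv_mul_eq_one.1 e)
      · exact mul_inv_eq_iff_eq_mul.1 (mul_inv_eq_one.1 h2)
    obtain ⟨j, rfl⟩ := (Finite.injective_iff_surjective.1 hinj) k
    refine Units.ext ?_
    have hx' := congrFun ((mem_inertia K).1 hx) j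
    rw [conjN_apply, hl] at hx'
    have e : φ j = (⟨x * (j : L) * x⁻¹, ‹K.Normal›.conj_mem _ j.2 x⟩ : K) * j⁻¹ := rfl
    rw [e, map_mul, map_inv, Units.val_mul]
    simp only at hx'
    rw [hx', Units.mul_inv]
    rfl
  have hirr := indFun_irr_of_inertia_eq K θ.2 hin
  have hne : classInner (indFun K (θ : K → ℂ)) χ ≠ 0 := by
    rw [classInner_indFun K _ (IsIrr.classFun hχ), ← classInner_conj_symm]
    exact (map_ne_zero (starRingEnd ℂ)).2 hθ
  rw [← eq_of_constituent_irr hirr hχ hne, indFun_one_eq, hθ1, mul_one]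

end Kernel

/-- A family of differences of irreducibles with mutual inner product one has a common member. -/
theorem common_member {G : Type u} [Group G] [Fintype G] {ι : Type*} (a b : ι → IrrCharacter G)
    (hab : ∀ i, a i ≠ b i)
    (h : ∀ i j, i ≠ j → classInner ((a i : G → ℂ) - (b i : G → ℂ)) ((a j : G → ℂ) - (b j : G → ℂ)) = 1) :
    (∀ i j, a i = a j) ∨ (∀ i j, b i = b j) := by
  classical
  have hx : ∀ i j, i ≠ j → (a i = a j ∧ b i ≠ b j) ∨ (a i ≠ a j ∧ b i = b j) := by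
    intro i j hij
    have h1 := h i j hij
    simp only [classInner_sub_left, classInner_sub_right,
      classInner_irr_eq_ite (a i).2 (a j).2, classInner_irr_eq_ite (a i).2 (b j).2,
      classInner_irr_eq_ite (b i).2 (a j).2, classInner_irr_eq_ite (b i).2 (b j).2,
      Subtype.coe_inj] at h1
    have h1i : ((if a i = a j then (1 : ℤ) else 0) - (if a i = b j then 1 else 0) -
        ((if b i = a j then 1 else 0) - (if b i = b j then 1 else 0))) = 1 := by
      apply Int.cast_injective (α := ℂ)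
      push_cast
      linear_combination h1
    by_cases p : a i = a j <;> by_cases q : b i = b j
    · exfalso
      rw [if_pos p, if_pos q, if_neg (fun e => hab i (e.trans q.symm)),
        if_neg (fun e => hab i (p.trans e.symm))] at h1i
      norm_num at h1i
    · exact Or.inl ⟨p, q⟩
    · exact Or.inr ⟨p, q⟩
    · exfalso
      rw [if_neg p, if_neg q] at h1i
      split_ifs at h1i <;> norm_num at h1i
  by_cases hA : ∀ i j, a i = a j
  · exact Or.inl hA
  refine Or.inr ?_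
  push Not at hA
  obtain ⟨i, j, hij⟩ := hA
  have hne : i ≠ j := fun e => hij (by rw [e])
  have hb : b i = b j := ((hx i j hne).resolve_left fun h => hij h.1).2
  have key : ∀ l, b l = b i := by
    intro l
    by_cases hl : l = i
    · rw [hl]
    rcases hx l i hl with ⟨e1, e2⟩ | ⟨-, e2⟩
    · exfalso
      have hlj : l ≠ j := fun e => hij (by rw [← e1, e])
      rcases hx l j hlj with ⟨e3, -⟩ | ⟨-, e4⟩
      · exact hij (e1.symm.trans e3)
      · exact e2 (e4.trans hb.symm)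
    · exact e2
  exact fun l m => (key l).trans (key m).symm

variable {G : Type u} [Group G] [Fintype G] (K : Subgroup G)

/-- The relevant characters. -/
abbrev Rel : Type u :=
  {χ : IrrCharacter ↥(Subgroup.normalizer (K : Set G)) //
    ∃ k : ↥(Subgroup.normalizer (K : Set G)), (k : G) ∈ K ∧
      (χ : ↥(Subgroup.normalizer (K : Set G)) → ℂ) k ≠
        (χ : ↥(Subgroup.normalizer (K : Set G)) → ℂ) 1}

theorem brauer_suzuki (hTI : ∀ g : G, g ∉ Subgroup.normalizer (K : Set G) →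
      ∀ k ∈ K, g * k * g⁻¹ ∈ K → k = 1)
    (hlt : K < Subgroup.normalizer (K : Set G))
    (hC : ∀ k ∈ K, k ≠ 1 → Subgroup.centralizer ({k} : Set G) ≤ K)
    (hab : ∀ a ∈ K, ∀ b ∈ K, a * b = b * a) :
    (Nat.card (Rel K) = 1 ∧ ∃ p : ℕ, p.Prime ∧ Cfsg.IsElementaryAbelian p K ∧
      Nat.card K = (KN K).index + 1) ∨
    ∃ (ε : ℂ) (f : Rel K → IrrCharacter G), (ε = 1 ∨ ε = -1) ∧ Function.Injective f ∧
      ∀ χ ξ, indFun (Subgroup.normalizer (K : Set G))
        ((χ.1 : ↥(Subgroup.normalizer (K : Set G)) → ℂ) -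
          (ξ.1 : ↥(Subgroup.normalizer (K : Set G)) → ℂ)) =
        ε • ((f χ : G → ℂ) - (f ξ : G → ℂ)) := by
  classical
  letI : Fintype ↥(Subgroup.normalizer (K : Set G)) := Fintype.ofFinite _
  have hfix := fix_of_centralizer K hC
  have hnt : ∀ χ : Rel K, NonTriv (KN K) (χ.1 : ↥(Subgroup.normalizer (K : Set G)) → ℂ) :=
    fun χ => χ.2
  have hab' : ∀ a ∈ KN K, ∀ b ∈ KN K, a * b = b * a := fun a ha b hb =>
    Subtype.ext (hab _ ha _ hb)
  have hdeg : ∀ χ : Rel K, (χ.1 : ↥(Subgroup.normalizer (K : Set G)) → ℂ) 1 =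
      ((KN K).index : ℂ) := fun χ => degree_eq_index (KN K) hab' hfix χ.1.2 (hnt χ)
  by_cases hemp : IsEmpty (Rel K)
  · exact Or.inr ⟨1, fun χ => isEmptyElim χ, Or.inl rfl, fun χ => isEmptyElim χ,
      fun χ => isEmptyElim χ⟩
  rw [not_isEmpty_iff] at hemp
  obtain ⟨χ₀⟩ := hemp
  by_cases hone : ∀ χ : Rel K, χ = χ₀
  · left
    refine ⟨Nat.card_eq_one_iff_unique.2
      ⟨⟨fun a b => (hone a).trans (hone b).symm⟩, ⟨χ₀⟩⟩, ?_⟩
    -- one nontrivial character
    have hS := sum_sq_nonTriv (KN K)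
    rw [show Finset.univ.filter (fun χ : IrrCharacter ↥(Subgroup.normalizer (K : Set G)) =>
        NonTriv (KN K) (χ : ↥(Subgroup.normalizer (K : Set G)) → ℂ)) = {χ₀.1} from by
      ext χ
      simp only [Finset.mem_filter, Finset.mem_univ, true_and, Finset.mem_singleton]
      exact ⟨fun hh => congrArg Subtype.val (hone ⟨χ, hh⟩), fun hh => hh ▸ hnt χ₀⟩,
      Finset.sum_singleton, hdeg] at hS
    set N := Subgroup.normalizer (K : Set G)
    set e := (KN K).index with he
    set m := Nat.card (KN K) with hm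
    have hNm : Nat.card N = m * e := ((KN K).card_mul_index).symm
    have he0 : 0 < e := Nat.pos_of_ne_zero Subgroup.index_ne_zero_of_finite
    have hme : e + 1 = m := by
      rw [hNm, Nat.cast_mul] at hS
      have h1 : ((e : ℂ) + 1) * (e : ℂ) = (m : ℂ) * (e : ℂ) := by linear_combination hS
      exact_mod_cast mul_right_cancel₀ (Nat.cast_ne_zero.mpr he0.ne') h1
    have hmK : m = Nat.card K :=
      Nat.card_congr (Subgroup.subgroupOfEquivOfLe (Subgroup.le_normalizer)).toEquiv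
    obtain ⟨p, hp, hpdvd⟩ := Nat.exists_prime_and_dvd (n := m) (by omega)
    haveI : Fact p.Prime := ⟨hp⟩
    obtain ⟨k₀, hk₀⟩ := exists_prime_orderOf_dvd_card' (G := KN K) p hpdvd
    have hk₀1 : k₀ ≠ 1 := fun h => hp.one_lt.ne' (by rw [← hk₀, h, orderOf_one])
    let ψ : ↥N ⧸ KN K → {k : KN K // k ≠ 1} := Quotient.lift
      (fun x : ↥N => ⟨⟨x * (k₀ : ↥N) * x⁻¹, (inferInstance : (KN K).Normal).conj_mem _ k₀.2 x⟩,
        fun h => hk₀1 (Subtype.ext (conj_eq_one_iff.1 (congrArg Subtype.val h :)))⟩)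
      (fun x y hxy => by
        have h' : x⁻¹ * y ∈ KN K := QuotientGroup.leftRel_apply.mp hxy
        refine Subtype.ext (Subtype.ext ?_)
        show x * (k₀ : ↥N) * x⁻¹ = y * (k₀ : ↥N) * y⁻¹
        have hc := hab' _ h' _ k₀.2
        calc x * (k₀ : ↥N) * x⁻¹ = x * ((k₀ : ↥N) * (x⁻¹ * y)) * y⁻¹ := by group
          _ = x * ((x⁻¹ * y) * (k₀ : ↥N)) * y⁻¹ := by rw [hc]
          _ = y * (k₀ : ↥N) * y⁻¹ := by group)
    have hψ : Function.Injective ψ := by
      intro x y hxy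
      induction x using Quotient.inductionOn with
      | h x =>
        induction y using Quotient.inductionOn with
        | h y =>
          refine Quotient.sound (QuotientGroup.leftRel_apply.mpr ?_)
          have h1 : x * (k₀ : ↥N) * x⁻¹ = y * (k₀ : ↥N) * y⁻¹ :=
            congrArg (fun z : {k : KN K // k ≠ 1} => ((z.1 : KN K) : ↥N)) hxy
          refine hfix _ k₀.2 (fun h => hk₀1 (Subtype.ext h)) _ ?_
          calc x⁻¹ * y * (k₀ : ↥N) = x⁻¹ * (y * (k₀ : ↥N) * y⁻¹) * y := by group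
            _ = x⁻¹ * (x * (k₀ : ↥N) * x⁻¹) * y := by rw [h1]
            _ = (k₀ : ↥N) * (x⁻¹ * y) := by group
    have hcard : Nat.card {k : KN K // k ≠ 1} ≤ Nat.card (↥N ⧸ KN K) := by
      rw [← Subgroup.index_eq_card, ← he, Nat.card_eq_fintype_card,
        Fintype.card_subtype_compl, Fintype.card_subtype_eq, ← Nat.card_eq_fintype_card, ← hm]
      omega
    have hsurj := (hψ.bijective_of_nat_card_le hcard).2
    refine ⟨p, hp, ⟨⟨⟨fun a b => Subtype.ext (hab a a.2 b b.2)⟩⟩, fun a ha => ?_⟩, by omega⟩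
    by_cases ha1 : a = 1
    · rw [ha1, one_pow]
    obtain ⟨q, hq⟩ := hsurj ⟨⟨⟨a, Subgroup.le_normalizer ha⟩, ha⟩,
      fun h => ha1 (congrArg (fun z : KN K => ((z : ↥N) : G)) h)⟩
    induction q using Quotient.inductionOn with
    | h x =>
      have h1 : x * (k₀ : ↥N) * x⁻¹ = ⟨a, Subgroup.le_normalizer ha⟩ :=
        congrArg (fun z : {k : KN K // k ≠ 1} => ((z.1 : KN K) : ↥N)) hq
      have h2 : ((⟨a, Subgroup.le_normalizer ha⟩ : ↥N)) ^ p = 1 := by
        rw [← h1, conj_pow, show (k₀ : ↥N) ^ p = 1 from by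
          rw [← SubmonoidClass.coe_pow, ← hk₀, pow_orderOf_eq_one]; rfl, mul_one, mul_inv_cancel]
      exact congrArg Subtype.val h2
  right
  push Not at hone
  obtain ⟨χ₁, hχ₁⟩ := hone
  -- the differences
  let D : Rel K → G → ℂ := fun ξ => indFun (Subgroup.normalizer (K : Set G))
    ((χ₀.1 : ↥(Subgroup.normalizer (K : Set G)) → ℂ) - ξ.1)
  have hα : ∀ ξ : Rel K,
      IsGeneralizedCharacter ↥(Subgroup.normalizer (K : Set G))
        ((χ₀.1 : ↥(Subgroup.normalizer (K : Set G)) → ℂ) - ξ.1) := fun ξ =>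
    IsGenChar.sub (IsGenChar.of_isCharacter (IsIrr.isCharacter χ₀.1.2))
      (IsGenChar.of_isCharacter (IsIrr.isCharacter ξ.1.2))
  have hinner : ∀ ξ η : Rel K, ξ ≠ χ₀ → η ≠ χ₀ →
      classInner (D ξ) (D η) = 1 + (if ξ = η then 1 else 0) := by
    intro ξ η hξ hη
    rw [classInner_indFun _ _ (IsGenChar.classFun (IsGenChar.ind _ (hα η)))]
    have e : (fun x : ↥(Subgroup.normalizer (K : Set G)) => D η x) =
        ((χ₀.1 : ↥(Subgroup.normalizer (K : Set G)) → ℂ) - η.1) := by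
      funext x
      refine res_ind K hC hTI hlt (IsGenChar.classFun (hα η)) (fun y hy => ?_) ?_ x
      · rw [Pi.sub_apply, vanish (KN K) hfix χ₀.1.2 (hnt χ₀) hy,
          vanish (KN K) hfix η.1.2 (hnt η) hy, sub_self]
      · rw [Pi.sub_apply, hdeg, hdeg, sub_self]
    rw [e, classInner_sub_left, classInner_sub_right, classInner_sub_right,
      classInner_self_irr χ₀.1.2, classInner_irr_eq_ite ξ.1.2 η.1.2,
      classInner_irr_ne χ₀.1.2 η.1.2 (fun h => hη (Subtype.ext (Subtype.ext h)).symm),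
      classInner_irr_ne ξ.1.2 χ₀.1.2 (fun h => hξ (Subtype.ext (Subtype.ext h)))]
    simp only [Subtype.coe_inj]
    ring
  have hex : ∀ ξ : {ξ : Rel K // ξ ≠ χ₀}, ∃ a b : IrrCharacter G, a ≠ b ∧
      D ξ = (a : G → ℂ) - b := fun ξ => by
    obtain ⟨φ, ψ, hφ, hψ, hne, he⟩ := IsGenChar.norm_two (α := D ξ) (IsGenChar.ind _ (hα ξ))
      (by rw [hinner _ _ ξ.2 ξ.2, if_pos rfl]; norm_num)
      (by show indFun _ _ 1 = 0; rw [indFun_one_eq, Pi.sub_apply, hdeg, hdeg, sub_self, mul_zero])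
    exact ⟨⟨φ, hφ⟩, ⟨ψ, hψ⟩, fun h => hne (congrArg Subtype.val h), he⟩
  choose a b hab2 hD using hex
  have hcross : ∀ i j : {ξ : Rel K // ξ ≠ χ₀}, i ≠ j →
      classInner ((a i : G → ℂ) - (b i : G → ℂ)) ((a j : G → ℂ) - (b j : G → ℂ)) = 1 := fun i j hij => by
    rw [← hD, ← hD, hinner _ _ i.2 j.2, if_neg fun h => hij (Subtype.ext h), add_zero]
  have hDinj : ∀ i j : {ξ : Rel K // ξ ≠ χ₀}, a i = a j → b i = b j → i = j := fun i j h1 h2 => by
    by_contra hne
    have h3 := hinner _ _ i.2 i.2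
    have h4 := hinner _ _ i.2 j.2
    rw [show D j.1 = D i.1 by rw [hD, hD, h1, h2], h3, if_pos rfl,
      if_neg fun h => hne (Subtype.ext h)] at h4
    norm_num at h4
  have main : ∀ (ε : ℂ) (_ : ε = 1 ∨ ε = -1) (A : IrrCharacter G)
      (c : {ξ : Rel K // ξ ≠ χ₀} → IrrCharacter G), (∀ i, c i ≠ A) → Function.Injective c →
      (∀ i : {ξ : Rel K // ξ ≠ χ₀}, D i.1 = ε • ((A : G → ℂ) - c i)) →
      ∃ (ε : ℂ) (f : Rel K → IrrCharacter G), (ε = 1 ∨ ε = -1) ∧ Function.Injective f ∧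
        ∀ χ ξ, indFun (Subgroup.normalizer (K : Set G))
          ((χ.1 : ↥(Subgroup.normalizer (K : Set G)) → ℂ) -
            (ξ.1 : ↥(Subgroup.normalizer (K : Set G)) → ℂ)) =
          ε • ((f χ : G → ℂ) - (f ξ : G → ℂ)) := by
    intro ε hε A c hcA hcinj hDc
    let f : Rel K → IrrCharacter G := fun χ => if h : χ = χ₀ then A else c ⟨χ, h⟩
    have hDf : ∀ ξ, D ξ = ε • ((A : G → ℂ) - f ξ) := fun ξ => by
      by_cases h : ξ = χ₀
      · subst h
        simp only [D, f, dif_pos rfl, sub_self, smul_zero]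
        exact indFun_zero (Subgroup.normalizer (K : Set G))
      · simp only [f, dif_neg h]
        exact hDc ⟨ξ, h⟩
    refine ⟨ε, f, hε, fun x y hxy => ?_, fun χ ξ => ?_⟩
    · by_cases hx : x = χ₀ <;> by_cases hy : y = χ₀
      · rw [hx, hy]
      · exact absurd (by simpa [f, hx, hy] using hxy.symm) (hcA ⟨y, hy⟩)
      · exact absurd (by simpa [f, hx, hy] using hxy) (hcA ⟨x, hx⟩)
      · exact congrArg Subtype.val (hcinj (by simpa [f, hx, hy] using hxy))
    · have e : indFun (Subgroup.normalizer (K : Set G))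
          ((χ.1 : ↥(Subgroup.normalizer (K : Set G)) → ℂ) - ξ.1) = D ξ - D χ := by
        rw [← indFun_sub, sub_sub_sub_cancel_left]
      rw [e, hDf, hDf, ← smul_sub, sub_sub_sub_cancel_left]
  obtain ⟨i₀⟩ : Nonempty {ξ : Rel K // ξ ≠ χ₀} := ⟨⟨χ₁, hχ₁⟩⟩
  rcases common_member a b hab2 hcross with hA | hB
  · refine main 1 (Or.inl rfl) (a i₀) b (fun i h => hab2 i ((hA i i₀).trans h.symm))
      (fun i j h => hDinj i j (hA i j) h) fun i => ?_
    rw [one_smul, hD, hA i i₀]
  · refine main (-1) (Or.inr rfl) (b i₀) a (fun i h => hab2 i (h.trans (hB i₀ i)))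
      (fun i j h => hDinj i j h (hB i j)) fun i => ?_
    rw [neg_one_smul, neg_sub, hD, hB i i₀]

end Cfsg.Agent.Char.FrobTI
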