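import Cfsg.Agent.Lib.Char.CohCriteria
import Cfsg.Agent.Lib.Char.CoherentExtend
import Cfsg.Agent.Lib.Char.FrobTIAbelian

/-!
Coherence for irreducible characters: equal degrees, and adding characters of moderate degree.
-/

set_option autoImplicit false
set_option linter.unusedSectionVars false

namespace Cfsg.Agent.Char.Coh

open scoped ComplexConjugate
open Cfsg

universe u v

variable {L : Type u} [Group L] [Fintype L] {G : Type v} [Group G] [Fintype G]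

/-- An isometry on the part vanishing at one, with images vanishing at one. -/
structure Hyp (S : Set (L → ℂ)) (τ : (L → ℂ) → (G → ℂ)) : Prop where
  irr : ∀ ξ ∈ S, IsIrrCharacter L ξ
  iso : IsLinearIsometryOn (zspanOn S {1}ᶜ) τ
  one : ∀ α ∈ zspanOn S {1}ᶜ, τ α 1 = 0

theorem zspanOn_mono {U V : Set (L → ℂ)} (h : U ⊆ V) {α : L → ℂ} (hα : α ∈ zspanOn U {1}ᶜ) :
    α ∈ zspanOn V {1}ᶜ := ⟨Submodule.span_mono h hα.1, hα.2⟩

theorem Hyp.mono {S U : Set (L → ℂ)} {τ : (L → ℂ) → (G → ℂ)} (h : Hyp S τ) (hU : U ⊆ S) :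
    Hyp U τ :=
  ⟨fun ξ hξ => h.irr ξ (hU hξ),
    ⟨fun α hα β hβ => h.iso.1 α (zspanOn_mono hU hα) β (zspanOn_mono hU hβ),
      fun α hα => h.iso.2.1 α (zspanOn_mono hU hα),
      fun α hα β hβ => h.iso.2.2.1 α (zspanOn_mono hU hα) β (zspanOn_mono hU hβ),
      fun α hα => h.iso.2.2.2 α (zspanOn_mono hU hα)⟩,
    fun α hα => h.one α (zspanOn_mono hU hα)⟩

/-- Characters of moderate degree can be added to a coherent set. -/
theorem extend_many {τ : (L → ℂ) → (G → ℂ)} (U : Finset (L → ℂ)) (d : (L → ℂ) → ℕ) {ψ : L → ℂ}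
    (hψ : ψ ∈ U) (hcoh : IsCoherent (↑U : Set (L → ℂ)) {1}ᶜ τ) :
    ∀ W : Finset (L → ℂ), Disjoint U W → Hyp (↑U ∪ ↑W : Set (L → ℂ)) τ →
      (∀ ξ ∈ U, ξ 1 = (d ξ : ℂ)) → (∀ ξ ∈ W, ξ 1 = (d ξ : ℂ)) →
      (∀ χ ∈ W, d ψ ∣ d χ ∧ 2 * d ψ * d χ < ∑ ξ ∈ U, d ξ ^ 2) →
      IsCoherent (↑U ∪ ↑W : Set (L → ℂ)) {1}ᶜ τ := by
  classical
  intro W
  induction W using Finset.induction_on with
  | empty => intro _ _ _ _ _; simpa using hcoh
  | @insert χ W hχW ih =>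
    intro hdis hH hdU hdW hW
    rw [Finset.disjoint_insert_right] at hdis
    have hsub : (↑U ∪ ↑W : Set (L → ℂ)) ⊆ ↑U ∪ ↑(insert χ W) :=
      Set.union_subset_union_right _ (Finset.coe_subset.2 (Finset.subset_insert _ _))
    have h1 := ih hdis.2 (hH.mono hsub) hdU (fun ξ hξ => hdW ξ (Finset.mem_insert_of_mem hξ))
      fun ξ hξ => hW ξ (Finset.mem_insert_of_mem hξ)
    have e : (↑U ∪ ↑(insert χ W) : Set (L → ℂ)) = ↑(insert χ (U ∪ W)) := by
      rw [Finset.coe_insert, Finset.coe_insert, Finset.coe_union, Set.union_insert]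
    rw [e]
    rw [e] at hH
    obtain ⟨hdvd, hlt⟩ := hW χ (Finset.mem_insert_self _ _)
    refine extend_one (U ∪ W) χ (fun ξ hξ => hH.irr ξ (Finset.mem_insert_of_mem hξ))
      (hH.irr χ (Finset.mem_insert_self _ _))
      (by rw [Finset.mem_union, not_or]; exact ⟨hdis.1, hχW⟩) d ?_ τ hH.iso hH.one
      (by rw [Finset.coe_union]; exact h1) ψ (Finset.mem_union_left _ hψ) hdvd ?_
    · intro ξ hξ
      rcases Finset.mem_insert.1 hξ with rfl | hξ
      · exact hdW _ (Finset.mem_insert_self _ _)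
      · rcases Finset.mem_union.1 hξ with h | h
        · exact hdU ξ h
        · exact hdW ξ (Finset.mem_insert_of_mem h)
    · exact lt_of_lt_of_le hlt (Finset.sum_le_sum_of_subset Finset.subset_union_left)

/-- At least two irreducible characters of one degree form a coherent set. -/
theorem equal_degree_irr {τ : (L → ℂ) → (G → ℂ)} (U : Finset (L → ℂ)) (hH : Hyp (↑U : Set (L → ℂ)) τ)
    {d : ℕ} (hd : ∀ ξ ∈ U, ξ 1 = (d : ℂ)) (htwo : ∃ a ∈ U, ∃ b ∈ U, a ≠ b) :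
    IsCoherent (↑U : Set (L → ℂ)) {1}ᶜ τ := by
  classical
  obtain ⟨χ₀, hχ₀, χ₁, hχ₁, hne01⟩ := htwo
  have hd0 : d ≠ 0 := fun h => IsIrr.one_ne_zero (hH.irr χ₀ hχ₀) (by rw [hd χ₀ hχ₀, h, Nat.cast_zero])
  have hmem : ∀ ξ ∈ U, χ₀ - ξ ∈ zspanOn (↑U : Set (L → ℂ)) {1}ᶜ := fun ξ hξ =>
    sub_mem (Finset.mem_coe.2 hχ₀) (Finset.mem_coe.2 hξ) (by rw [hd χ₀ hχ₀, hd ξ hξ])
  have hval : ∀ ξ ∈ U, ∀ η ∈ U, classInner (τ (χ₀ - ξ)) (τ (χ₀ - η)) =
      1 - (if χ₀ = η then 1 else 0) - ((if ξ = χ₀ then 1 else 0) - (if ξ = η then 1 else 0)) :=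
    fun ξ hξ η hη => by
      rw [hH.iso.2.2.1 _ (hmem ξ hξ) _ (hmem η hη), classInner_sub_left, classInner_sub_right,
        classInner_sub_right, classInner_self_irr (hH.irr χ₀ hχ₀),
        classInner_irr_eq_ite (hH.irr χ₀ hχ₀) (hH.irr η hη),
        classInner_irr_eq_ite (hH.irr ξ hξ) (hH.irr χ₀ hχ₀),
        classInner_irr_eq_ite (hH.irr ξ hξ) (hH.irr η hη)]
  have hex : ∀ ξ : {ξ // ξ ∈ U.erase χ₀}, ∃ a b : IrrCharacter G, a ≠ b ∧
      τ (χ₀ - ξ.1) = (a : G → ℂ) - b := fun ξ => by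
    obtain ⟨hne, hξ⟩ := Finset.mem_erase.1 ξ.2
    obtain ⟨φ, ψ, hφ, hψ, hne', he⟩ := IsGenChar.norm_two (hH.iso.2.2.2 _ (hmem _ hξ))
      (by rw [hval _ hξ _ hξ, if_neg (Ne.symm hne), if_neg hne, if_pos rfl]; norm_num)
      (hH.one _ (hmem _ hξ))
    exact ⟨⟨φ, hφ⟩, ⟨ψ, hψ⟩, fun h => hne' (congrArg Subtype.val h), he⟩
  choose a b hab hD using hex
  let ξ₁ : {ξ // ξ ∈ U.erase χ₀} := ⟨χ₁, Finset.mem_erase.2 ⟨hne01.symm, hχ₁⟩⟩
  have hinner : ∀ ξ η : {ξ // ξ ∈ U.erase χ₀}, ξ ≠ η →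
      classInner ((a ξ : G → ℂ) - (b ξ : G → ℂ)) ((a η : G → ℂ) - (b η : G → ℂ)) = 1 := fun ξ η hne => by
    obtain ⟨h1, h2⟩ := Finset.mem_erase.1 ξ.2
    obtain ⟨h3, h4⟩ := Finset.mem_erase.1 η.2
    rw [← hD, ← hD, hval _ h2 _ h4, if_neg (Ne.symm h3), if_neg h1,
      if_neg fun e => hne (Subtype.ext e)]
    ring
  have hsep : ∀ ξ η, a ξ = a η → b ξ = b η → ξ = η := fun ξ η e1 e2 => by
    by_contra hne
    have h := hinner ξ η hne
    rw [← e1, ← e2, ← hD] at h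
    obtain ⟨h1, h2⟩ := Finset.mem_erase.1 ξ.2
    rw [hval _ h2 _ h2, if_neg (Ne.symm h1), if_neg h1, if_pos rfl] at h
    norm_num at h
  obtain ⟨ε, c, g, hε, hg, hgc, hDc⟩ : ∃ (ε : ℂ) (c : IrrCharacter G)
      (g : {ξ // ξ ∈ U.erase χ₀} → IrrCharacter G), (ε = 1 ∨ ε = -1) ∧ Function.Injective g ∧
      (∀ ξ, g ξ ≠ c) ∧ ∀ ξ, τ (χ₀ - ξ.1) = ε • ((c : G → ℂ) - g ξ) := by
    rcases FrobTI.common_member a b hab hinner with hc | hc
    · exact ⟨1, a ξ₁, b, Or.inl rfl, fun ξ η e => hsep ξ η (hc ξ η) e,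
        fun ξ e => hab ξ ((hc ξ ξ₁).trans e.symm), fun ξ => by rw [one_smul, hD ξ, hc ξ₁ ξ]⟩
    · exact ⟨-1, b ξ₁, a, Or.inr rfl, fun ξ η e => hsep ξ η e (hc ξ η),
        fun ξ e => hab ξ (e.trans (hc ξ₁ ξ)), fun ξ => by
          rw [hD ξ, hc ξ₁ ξ, neg_smul, one_smul, neg_sub]⟩
  let F : (L → ℂ) → (G → ℂ) := fun u =>
    if h : u ∈ U.erase χ₀ then ε • (g ⟨u, h⟩ : G → ℂ) else ε • (c : G → ℂ)
  have hεε : ε * conj ε = 1 := by rcases hε with h | h <;> rw [h] <;> simp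
  have hεε' : conj ε * ε = 1 := by rw [mul_comm]; exact hεε
  have hFirr : ∀ u ∈ U, ∀ v ∈ U, classInner (F u) (F v) = classInner u v := by
    intro u hu v hv
    rw [classInner_irr_eq_ite (hH.irr u hu) (hH.irr v hv)]
    by_cases h1 : u ∈ U.erase χ₀ <;> by_cases h2 : v ∈ U.erase χ₀ <;>
      simp only [F, dif_pos, dif_neg, h1, h2, not_false_eq_true, classInner_smul_left,
        classInner_smul_right, ← mul_assoc, hεε, hεε', one_mul]
    · rw [classInner_irr_eq_ite (g _).2 (g _).2]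
      refine if_congr ?_ rfl rfl
      rw [Subtype.coe_inj, hg.eq_iff, Subtype.mk.injEq]
    · have hv0 : v = χ₀ := by by_contra h; exact h2 (Finset.mem_erase.2 ⟨h, hv⟩)
      rw [classInner_irr_ne (g _).2 c.2 fun e => hgc _ (Subtype.ext e),
        if_neg (fun e : u = v => h2 (e ▸ h1))]
    · have hu0 : u = χ₀ := by by_contra h; exact h1 (Finset.mem_erase.2 ⟨h, hu⟩)
      rw [classInner_irr_ne c.2 (g _).2 fun e => hgc _ (Subtype.ext e).symm,
        if_neg (fun e : u = v => h1 (e ▸ h2))]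
    · have hu0 : u = χ₀ := by by_contra h; exact h1 (Finset.mem_erase.2 ⟨h, hu⟩)
      have hv0 : v = χ₀ := by by_contra h; exact h2 (Finset.mem_erase.2 ⟨h, hv⟩)
      rw [classInner_self_irr c.2, if_pos (hu0.trans hv0.symm)]
  have hgen : ∀ u ∈ U, IsGeneralizedCharacter G (F u) := fun u _ => by
    have h : ∀ x : IrrCharacter G, IsGeneralizedCharacter G (ε • (x : G → ℂ)) := fun x => by
      rcases hε with h | h
      · simpa [h] using IsGenChar.of_isCharacter (IsIrr.isCharacter x.2)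
      · simpa [h] using IsGenChar.neg (IsGenChar.of_isCharacter (IsIrr.isCharacter x.2))
    by_cases h1 : u ∈ U.erase χ₀ <;> simp only [F, dif_pos, dif_neg, h1, not_false_eq_true] <;> exact h _
  obtain ⟨τ₁, hτ₁, hτ₁F⟩ := exists_isometry U F
    (fun u hu v hv h => classInner_irr_ne (hH.irr u hu) (hH.irr v hv) h)
    (fun u hu => by rw [classInner_self_irr (hH.irr u hu)]; exact one_ne_zero) hFirr hgen
  refine ⟨⟨χ₀ - χ₁, hmem χ₁ hχ₁, sub_ne_zero.2 hne01⟩, τ₁, hτ₁, ?_⟩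
  refine agree_of_generators U (fun _ => d) hd hχ₀ hd0 hH.iso hτ₁ fun u hu => ?_
  have hu' : u ∈ zspan (↑U : Set (L → ℂ)) := Submodule.subset_span hu
  have h0' : χ₀ ∈ zspan (↑U : Set (L → ℂ)) := Submodule.subset_span hχ₀
  have e1 : (d : ℤ) • u - (d : ℤ) • χ₀ = (-(d : ℤ)) • (χ₀ - u) := by
    rw [neg_smul, smul_sub, neg_sub]
  have e2 : τ₁ (χ₀ - u) = τ₁ χ₀ - τ₁ u := by
    rw [sub_eq_add_neg, ← neg_one_zsmul u, hτ₁.1 _ h0' _ (Submodule.smul_mem _ _ hu'),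
      hτ₁.2.1 _ hu', neg_one_zsmul, ← sub_eq_add_neg]
  rw [e1, hτ₁.2.1 _ (Submodule.sub_mem _ h0' hu'), hH.iso.2.1 _ (hmem u hu), e2, hτ₁F _ hχ₀, hτ₁F _ hu]
  congr 1
  by_cases hu0 : u = χ₀
  · subst hu0
    rw [sub_self, show (u - u : L → ℂ) = (0 : ℤ) • (u - χ₁) by rw [zero_smul, sub_self],
      hH.iso.2.1 _ (hmem χ₁ hχ₁), zero_smul]
  · have hue : u ∈ U.erase χ₀ := Finset.mem_erase.2 ⟨hu0, hu⟩
    simp only [F, dif_pos hue, dif_neg (Finset.notMem_erase χ₀ U)]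
    rw [hDc ⟨u, hue⟩, smul_sub]

/-- Two members of one degree allow a second choice of the extension. -/
theorem flip_pair {x y : L → ℂ} (hx : IsIrrCharacter L x) (hy : IsIrrCharacter L y) (hne : x ≠ y)
    (hxy : x 1 = y 1) {σ : (L → ℂ) → (G → ℂ)} (hσ : IsLinearIsometryOn (zspan ({x, y} : Set (L → ℂ))) σ) :
    ∃ σ', IsLinearIsometryOn (zspan ({x, y} : Set (L → ℂ))) σ' ∧
      (∀ α ∈ zspanOn ({x, y} : Set (L → ℂ)) {1}ᶜ, σ' α = σ α) ∧ σ' x = -σ y ∧ σ' y = -σ x := by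
  classical
  have hmx : x ∈ zspan ({x, y} : Set (L → ℂ)) := Submodule.subset_span (Or.inl rfl)
  have hmy : y ∈ zspan ({x, y} : Set (L → ℂ)) := Submodule.subset_span (Or.inr rfl)
  let F : (L → ℂ) → (G → ℂ) := fun u => if u = x then -σ y else -σ x
  have hU : (↑({x, y} : Finset (L → ℂ)) : Set (L → ℂ)) = {x, y} := by simp
  obtain ⟨τ₁, hτ₁, hF⟩ := exists_isometry ({x, y} : Finset (L → ℂ)) F
    (fun u hu v hv h => by
      simp only [Finset.mem_insert, Finset.mem_singleton] at hu hv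
      exact classInner_irr_ne (by rcases hu with rfl | rfl <;> assumption)
        (by rcases hv with rfl | rfl <;> assumption) h)
    (fun u hu => by
      simp only [Finset.mem_insert, Finset.mem_singleton] at hu
      rw [classInner_self_irr (by rcases hu with rfl | rfl <;> assumption)]; exact one_ne_zero)
    (fun u hu v hv => by
      simp only [Finset.mem_insert, Finset.mem_singleton] at hu hv
      have nyx : y ≠ x := hne.symm
      rcases hu with rfl | rfl <;> rcases hv with rfl | rfl <;>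
        simp only [F, if_true, if_neg nyx, classInner_neg_left, classInner_neg_right, neg_neg] <;>
        rw [hσ.2.2.1 _ (by assumption) _ (by assumption)] <;>
        simp [classInner_self_irr hx, classInner_self_irr hy, classInner_irr_ne hx hy hne,
          classInner_irr_ne hy hx nyx])
    (fun u hu => by
      simp only [F]
      split_ifs
      · exact IsGenChar.neg (hσ.2.2.2 _ hmy)
      · exact IsGenChar.neg (hσ.2.2.2 _ hmx))
  rw [hU] at hτ₁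
  have h1 : τ₁ x = -σ y := by rw [hF x (by simp)]; simp [F]
  have h2 : τ₁ y = -σ x := by rw [hF y (by simp)]; simp [F, hne.symm]
  refine ⟨τ₁, hτ₁, fun α hα => ?_, h1, h2⟩
  obtain ⟨a, b, rfl⟩ := Submodule.mem_span_pair.1 hα.1
  have hz := hα.2 1 (by simp)
  simp only [Pi.add_apply, ← Int.cast_smul_eq_zsmul ℂ, Pi.smul_apply, smul_eq_mul, ← hxy, ← add_mul, mul_eq_zero,
    IsIrr.one_ne_zero hx, or_false] at hz
  have hb : b = -a := by
    have : ((a + b : ℤ) : ℂ) = ((0 : ℤ) : ℂ) := by push_cast; exact hz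
    have := Int.cast_injective this
    omega
  rw [hb, hσ.1 _ (Submodule.smul_mem _ _ hmx) _ (Submodule.smul_mem _ _ hmy), hσ.2.1 _ hmx,
    hσ.2.1 _ hmy, hτ₁.1 _ (Submodule.smul_mem _ _ hmx) _ (Submodule.smul_mem _ _ hmy), hτ₁.2.1 _ hmx,
    hτ₁.2.1 _ hmy, h1, h2, smul_neg, smul_neg, neg_smul, neg_smul]
  abel

end Cfsg.Agent.Char.Coh
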