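import Cfsg.Agent.Lib.Char.Coherence
import Mathlib.Tactic.Linarith
import Mathlib.Tactic.Module
import Mathlib.Tactic.LinearCombination

/-!
Coherence criteria for irreducible characters of an arbitrary finite group.
-/

set_option autoImplicit false
set_option linter.unusedSectionVars false

namespace Cfsg.Agent.Char.Coh

open scoped ComplexConjugate
open Cfsg

universe u v

variable {L : Type u} [Group L] [Fintype L] {G : Type v} [Group G] [Fintype G]

theorem extend_one (S₀ : Finset (L → ℂ)) (χ : L → ℂ) (hirr : ∀ ξ ∈ S₀, IsIrrCharacter L ξ)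
    (hχ : IsIrrCharacter L χ) (hχS : χ ∉ S₀) (d : (L → ℂ) → ℕ)
    (hd : ∀ ξ ∈ insert χ S₀, ξ 1 = (d ξ : ℂ)) (τ : (L → ℂ) → (G → ℂ))
    (hτ : IsLinearIsometryOn (zspanOn (↑(insert χ S₀) : Set (L → ℂ)) {1}ᶜ) τ)
    (hτ1 : ∀ α ∈ zspanOn (↑(insert χ S₀) : Set (L → ℂ)) {1}ᶜ, τ α 1 = 0)
    (hcoh : IsCoherent (↑S₀ : Set (L → ℂ)) {1}ᶜ τ) (ψ : L → ℂ) (hψ : ψ ∈ S₀) (hdvd : d ψ ∣ d χ)
    (hlt : 2 * d ψ * d χ < ∑ ξ ∈ S₀, d ξ ^ 2) :
    IsCoherent (↑(insert χ S₀) : Set (L → ℂ)) {1}ᶜ τ := by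
  classical
  obtain ⟨⟨α₀, hα₀, hα₀ne⟩, τ₁, hτ₁, hagree⟩ := hcoh
  have hins : (↑(insert χ S₀) : Set (L → ℂ)) = insert χ (↑S₀ : Set (L → ℂ)) := Finset.coe_insert χ S₀
  set U : Set (L → ℂ) := ↑(insert χ S₀) with hUdef
  set S : Set (L → ℂ) := ↑S₀ with hSdef
  have hSU : S ⊆ U := Finset.coe_subset.2 (Finset.subset_insert χ S₀)
  have hmono : ∀ α ∈ zspan S, α ∈ zspan U := fun α h => Submodule.span_mono hSU h
  have hdpos : ∀ ξ ∈ insert χ S₀, 0 < d ξ := by
    intro ξ hξ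
    have hi : IsIrrCharacter L ξ := by
      rcases Finset.mem_insert.1 hξ with rfl | h
      · exact hχ
      · exact hirr ξ h
    refine Nat.pos_of_ne_zero fun h0 => IsIrr.one_ne_zero hi ?_
    rw [hd ξ hξ, h0, Nat.cast_zero]
  have hψi : ψ ∈ insert χ S₀ := Finset.mem_insert_of_mem hψ
  have hχi : χ ∈ insert χ S₀ := Finset.mem_insert_self χ S₀
  obtain ⟨a, ha⟩ := hdvd
  have hapos : 0 < a := by
    rcases Nat.eq_zero_or_pos a with h | h
    · exact absurd ha (by rw [h, mul_zero]; exact (hdpos χ hχi).ne')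
    · exact h
  have hne : ∀ ξ ∈ S₀, ξ ≠ χ := fun ξ hξ e => hχS (e ▸ hξ)
  have hmem : ∀ ξ ∈ S₀, ξ ∈ zspan S := fun ξ hξ => Submodule.subset_span hξ
  have hmemU : ∀ ξ ∈ insert χ S₀, ξ ∈ zspan U := fun ξ hξ => Submodule.subset_span hξ
  have hon : ∀ {T : Set (L → ℂ)} {α : L → ℂ}, α ∈ zspan T → α 1 = 0 → α ∈ zspanOn T {1}ᶜ := by
    intro T α h h1
    exact ⟨h, fun x hx => by rw [Set.mem_compl_iff, Set.mem_singleton_iff, not_not] at hx; rw [hx, h1]⟩
  have hon1 : ∀ {T : Set (L → ℂ)} {α : L → ℂ}, α ∈ zspanOn T {1}ᶜ → α 1 = 0 := fun h => h.2 1 (by simp)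
  set β : L → ℂ := χ - (a : ℤ) • ψ with hβdef
  have hβ : β ∈ zspanOn U {1}ᶜ := hon
    (Submodule.sub_mem _ (hmemU χ hχi) (Submodule.smul_mem _ _ (hmemU ψ hψi)))
    (by rw [hβdef, Pi.sub_apply, Pi.smul_apply, zsmul_eq_mul, hd χ hχi, hd ψ hψi, ha]; push_cast; ring)
  set α' : (L → ℂ) → (L → ℂ) := fun ξ => (d ψ : ℤ) • ξ - (d ξ : ℤ) • ψ with hα'
  have hα'S : ∀ ξ ∈ S₀, α' ξ ∈ zspanOn S {1}ᶜ := fun ξ hξ => hon
    (Submodule.sub_mem _ (Submodule.smul_mem _ _ (hmem ξ hξ)) (Submodule.smul_mem _ _ (hmem ψ hψ)))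
    (by simp only [hα', ← Int.cast_smul_eq_zsmul ℂ, Pi.sub_apply, Pi.smul_apply, smul_eq_mul, hd ξ (Finset.mem_insert_of_mem hξ),
      hd ψ hψi]; push_cast; ring)
  have hsub : ∀ α ∈ zspanOn S {1}ᶜ, α ∈ zspanOn U {1}ᶜ := fun α h => hon (hmono α h.1) (hon1 h)
  have hτ₁α : ∀ ξ ∈ S₀, τ₁ (α' ξ) = (d ψ : ℤ) • τ₁ ξ - (d ξ : ℤ) • τ₁ ψ := by
    intro ξ hξ
    simp only [hα', sub_eq_add_neg, ← neg_smul]
    rw [hτ₁.1 _ (Submodule.smul_mem _ _ (hmem ξ hξ)) _ (Submodule.smul_mem _ _ (hmem ψ hψ)),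
      hτ₁.2.1 _ (hmem ξ hξ), hτ₁.2.1 _ (hmem ψ hψ)]
  have hortho : ∀ ξ ∈ S₀, ∀ η ∈ S₀, classInner (τ₁ ξ) (τ₁ η) = if ξ = η then 1 else 0 := fun ξ hξ η hη => by
    rw [hτ₁.2.2.1 _ (hmem ξ hξ) _ (hmem η hη),
      classInner_irr_eq_ite (hirr ξ hξ) (hirr η hη)]
  set D := τ β with hD
  have hDgen : IsGeneralizedCharacter G D := hτ.2.2.2 β hβ
  choose! c hc using fun ξ (hξ : ξ ∈ S₀) =>
    IsGenChar.classInner_int hDgen (hτ₁.2.2.2 _ (hmem ξ hξ))
  set b : ℤ := c ψ + (a : ℤ) with hbdef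
  have hrel : ∀ ξ ∈ S₀, ξ ≠ ψ → c ξ * d ψ = (d ξ : ℤ) * b := by
    intro ξ hξ hξψ
    have h := hτ.2.2.1 β hβ _ (hsub _ (hα'S ξ hξ))
    rw [← hagree _ (hα'S ξ hξ), hτ₁α ξ hξ, ← hD] at h
    simp only [hα', hβdef, ← Int.cast_smul_eq_zsmul ℂ, classInner_sub_right,
      classInner_sub_left, classInner_smul_right,
      classInner_smul_left, map_intCast] at h
    rw [classInner_irr_ne hχ (hirr ξ hξ) (hne ξ hξ).symm,
      classInner_irr_ne hχ (hirr ψ hψ) (hne ψ hψ).symm,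
      classInner_irr_ne (hirr ψ hψ) (hirr ξ hξ) (Ne.symm hξψ),
      classInner_self_irr (hirr ψ hψ)] at h
    rw [hc ξ hξ, hc ψ hψ] at h
    have h' : ((c ξ * d ψ : ℤ) : ℂ) = (((d ξ : ℤ) * b : ℤ) : ℂ) := by
      rw [hbdef]; push_cast at h ⊢; linear_combination h
    exact_mod_cast h'
  set P : G → ℂ := ∑ ξ ∈ S₀, (c ξ : ℂ) • τ₁ ξ with hP
  set Γ : G → ℂ := D - P with hΓ
  have hPξ : ∀ ξ ∈ S₀, classInner P (τ₁ ξ) = (c ξ : ℂ) := fun ξ hξ => by
    rw [hP, classInner_sum_left, Finset.sum_congr rfl fun η hη => by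
      rw [classInner_smul_left, hortho η hη ξ hξ],
      Finset.sum_eq_single ξ (fun η _ h => by rw [if_neg h, mul_zero]) (fun h => absurd hξ h),
      if_pos rfl, mul_one]
  have hΓξ : ∀ ξ ∈ S₀, classInner Γ (τ₁ ξ) = 0 := fun ξ hξ => by
    rw [hΓ, classInner_sub_left, hc ξ hξ, hPξ ξ hξ, sub_self]
  have hΓgen : IsGeneralizedCharacter G Γ := IsGenChar.sub hDgen
    (IsGenChar.sum fun ξ hξ =>
      IsGenChar.zsmul (hτ₁.2.2.2 _ (hmem ξ hξ)) (c ξ))
  obtain ⟨g, hg⟩ := IsGenChar.classInner_int hΓgen hΓgen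
  have hg0 : 0 ≤ g := by
    have := classInner_self_re_nonneg Γ
    rw [hg] at this
    exact_mod_cast this
  have hnorm : (a : ℤ) ^ 2 + 1 = g + ∑ ξ ∈ S₀, c ξ ^ 2 := by
    have h := hτ.2.2.1 β hβ β hβ
    have e1 : classInner β β = (((a : ℤ) ^ 2 + 1 : ℤ) : ℂ) := by
      simp only [hβdef, ← Int.cast_smul_eq_zsmul ℂ, classInner_sub_right,
        classInner_sub_left, classInner_smul_right,
        classInner_smul_left, map_intCast,
        classInner_irr_ne hχ (hirr ψ hψ) (hne ψ hψ).symm,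
        classInner_irr_ne (hirr ψ hψ) hχ (hne ψ hψ),
        classInner_self_irr (hirr ψ hψ), classInner_self_irr hχ]
      push_cast; ring
    have hΓP : classInner Γ P = 0 := by
      rw [hP, classInner_sum_right]
      exact Finset.sum_eq_zero fun ξ hξ => by
        rw [classInner_smul_right, hΓξ ξ hξ, mul_zero]
    have hPP : classInner P P = ((∑ ξ ∈ S₀, c ξ ^ 2 : ℤ) : ℂ) := by
      conv_lhs => arg 2; rw [hP]
      rw [classInner_sum_right, Int.cast_sum]
      refine Finset.sum_congr rfl fun ξ hξ => ?_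
      rw [classInner_smul_right, hPξ ξ hξ, map_intCast]
      push_cast; ring
    have hDD : classInner D D = ((g + ∑ ξ ∈ S₀, c ξ ^ 2 : ℤ) : ℂ) := by
      have e : D = Γ + P := (sub_add_cancel D P).symm
      rw [e, classInner_add_left, classInner_add_right,
        classInner_add_right, hg, hΓP, hPP,
        ← classInner_conj_symm Γ P, hΓP, map_zero]
      push_cast; ring
    rw [e1, ← hD, hDD] at h
    exact_mod_cast h.symm
  have hψpos : (0 : ℤ) < d ψ := by exact_mod_cast hdpos ψ hψi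
  set Q : ℤ := ∑ ξ ∈ S₀, (d ξ : ℤ) ^ 2 with hQ
  have hQlt : 2 * (a : ℤ) * (d ψ : ℤ) ^ 2 < Q := by
    have : 2 * d ψ * (d ψ * a) < ∑ ξ ∈ S₀, d ξ ^ 2 := ha ▸ hlt
    have h' : (2 : ℤ) * d ψ * (d ψ * a) < Q := by rw [hQ]; exact_mod_cast this
    linarith [h', show (2 : ℤ) * d ψ * (d ψ * a) = 2 * (a : ℤ) * (d ψ : ℤ) ^ 2 by ring]
  have hsumsq : (∑ ξ ∈ S₀, c ξ ^ 2) * (d ψ : ℤ) ^ 2 =
      ((a : ℤ) ^ 2 - 2 * a * b) * (d ψ : ℤ) ^ 2 + b ^ 2 * Q := by
    rw [hQ, Finset.sum_mul, Finset.mul_sum, ← Finset.add_sum_erase _ _ hψ,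
      ← Finset.add_sum_erase _ _ hψ, Finset.sum_congr rfl (g := fun ξ => b ^ 2 * (d ξ : ℤ) ^ 2)
      fun ξ hξ => by
        rw [← mul_pow, hrel ξ (Finset.mem_of_mem_erase hξ) (Finset.ne_of_mem_erase hξ)]; ring]
    rw [hbdef]; ring
  have hb : b = 0 := by
    by_contra hb
    have h1 : b ^ 2 * Q = (2 * a * b + 1 - g) * (d ψ : ℤ) ^ 2 := by
      linear_combination -hsumsq - (d ψ : ℤ) ^ 2 * hnorm
    have hb1 : b ≤ b ^ 2 := Int.le_self_sq b
    have hb2 : 0 < b ^ 2 := by positivity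
    have h2 : (2 * a * b : ℤ) * (d ψ : ℤ) ^ 2 < (2 * a * b + 1 - g) * (d ψ : ℤ) ^ 2 := by
      rw [← h1]
      calc (2 * a * b : ℤ) * (d ψ : ℤ) ^ 2 ≤ b ^ 2 * (2 * a * (d ψ : ℤ) ^ 2) := by
            nlinarith [mul_nonneg (mul_nonneg (Int.natCast_nonneg a) (sq_nonneg (d ψ : ℤ))) (sub_nonneg.2 hb1)]
        _ < _ := mul_lt_mul_of_pos_left hQlt hb2
    have hgz : g = 0 := by
      have := lt_of_mul_lt_mul_right h2 (sq_nonneg _)
      omega
    have hΓ0 : Γ = 0 := by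
      rw [← classInner_self_eq_zero, hg, hgz, Int.cast_zero]
    have hval : ∀ ξ ∈ S₀, (d ψ : ℂ) * τ₁ ξ 1 = (d ξ : ℂ) * τ₁ ψ 1 := by
      intro ξ hξ
      have h := hτ1 _ (hsub _ (hα'S ξ hξ))
      rw [← hagree _ (hα'S ξ hξ), hτ₁α ξ hξ] at h
      simp only [← Int.cast_smul_eq_zsmul ℂ, Pi.sub_apply, Pi.smul_apply, smul_eq_mul, Int.cast_natCast] at h
      linear_combination h
    have hD1 := hτ1 β hβ
    rw [← hD, show D = P from sub_eq_zero.1 hΓ0, hP, Finset.sum_apply] at hD1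
    have h3 : ((b * Q - a * (d ψ : ℤ) ^ 2 : ℤ) : ℂ) * τ₁ ψ 1 = 0 := by
      have e : ((b * Q - a * (d ψ : ℤ) ^ 2 : ℤ)) = ∑ ξ ∈ S₀, c ξ * d ψ * d ξ := by
        rw [hQ, Finset.mul_sum, ← Finset.add_sum_erase _ _ hψ, ← Finset.add_sum_erase _ _ hψ,
          Finset.sum_congr rfl (f := fun ξ => c ξ * d ψ * d ξ) (g := fun ξ => b * (d ξ : ℤ) ^ 2) fun ξ hξ => by
            rw [hrel ξ (Finset.mem_of_mem_erase hξ) (Finset.ne_of_mem_erase hξ)]; ring]
        rw [hbdef]; ring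
      rw [e, Int.cast_sum, Finset.sum_mul]
      calc ∑ ξ ∈ S₀, ((c ξ * d ψ * d ξ : ℤ) : ℂ) * τ₁ ψ 1
          = ∑ ξ ∈ S₀, (d ψ : ℂ) ^ 2 * ((c ξ : ℂ) • τ₁ ξ) 1 := Finset.sum_congr rfl fun ξ hξ => by
            rw [Pi.smul_apply, smul_eq_mul]
            push_cast
            linear_combination -((c ξ : ℂ) * (d ψ : ℂ)) * hval ξ hξ
        _ = 0 := by rw [← Finset.mul_sum, hD1, mul_zero]
    have hne1 : τ₁ ψ 1 ≠ 0 := by
      rcases IsGenChar.norm_one (hτ₁.2.2.2 _ (hmem ψ hψ))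
        (by rw [hortho ψ hψ ψ hψ, if_pos rfl]) with h | h
      · exact IsIrr.one_ne_zero h
      · exact fun e => IsIrr.one_ne_zero h (by rw [Pi.neg_apply, e, neg_zero])
    rw [mul_eq_zero, Int.cast_eq_zero] at h3
    have h4 := h3.resolve_right hne1
    have hQ0 : 0 < Q := lt_of_le_of_lt (by positivity) hQlt
    have hb' : 0 < b := by
      have : 0 < b * Q := by
        have : 0 < (a : ℤ) * (d ψ : ℤ) ^ 2 := mul_pos (by exact_mod_cast hapos) (pow_pos hψpos 2)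
        linarith
      exact pos_of_mul_pos_left this hQ0.le
    have h5 : Q ≤ b * Q := le_mul_of_one_le_left hQ0.le hb'
    have h6 : 0 < (a : ℤ) * (d ψ : ℤ) ^ 2 := mul_pos (by exact_mod_cast hapos) (pow_pos hψpos 2)
    linarith [h5, h6]
  have hcψ : c ψ = -(a : ℤ) := by rw [hbdef] at hb; omega
  have hc0 : ∀ ξ ∈ S₀, ξ ≠ ψ → c ξ = 0 := fun ξ hξ h => by
    have := hrel ξ hξ h
    rw [hb, mul_zero, mul_eq_zero] at this
    exact this.resolve_right hψpos.ne'
  have hΓΓ : classInner Γ Γ = 1 := by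
    have : g = 1 := by
      rw [← Finset.add_sum_erase _ _ hψ, Finset.sum_eq_zero fun ξ hξ => by
        rw [hc0 ξ (Finset.mem_of_mem_erase hξ) (Finset.ne_of_mem_erase hξ)]; rfl, hcψ, neg_sq] at hnorm
      omega
    rw [hg, this, Int.cast_one]
  have hDeq : D = (-(a : ℤ)) • τ₁ ψ + Γ := by
    have e : P = (-(a : ℤ)) • τ₁ ψ := by
      rw [hP, Finset.sum_eq_single ψ (fun ξ hξ h => by rw [hc0 ξ hξ h, Int.cast_zero, zero_smul])
        (fun h => absurd hψ h), hcψ, Int.cast_smul_eq_zsmul]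
    rw [hΓ, ← e]; abel
  have hχperp : ∀ γ ∈ zspan S, classInner γ χ = 0 := by
    intro γ hγ
    induction hγ using Submodule.span_induction with
    | mem x hx => exact classInner_irr_ne (hirr x hx) hχ (hne x hx)
    | zero => exact classInner_zero_left χ
    | add x y _ _ hx hy => rw [classInner_add_left, hx, hy, add_zero]
    | smul k x _ hx => rw [← Int.cast_smul_eq_zsmul ℂ, classInner_smul_left, hx, mul_zero]
  have hΓperp : ∀ γ ∈ zspan S, classInner Γ (τ₁ γ) = 0 := by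
    intro γ hγ
    induction hγ using Submodule.span_induction with
    | mem x hx => exact hΓξ x hx
    | zero =>
      have h0 := hτ₁.2.1 ψ (hmem ψ hψ) 0
      rw [zero_smul, zero_smul] at h0
      rw [h0, classInner_zero_right]
    | add x y hxs hys hx hy => rw [hτ₁.1 x hxs y hys, classInner_add_right, hx, hy, add_zero]
    | smul k x hxs hx =>
      rw [hτ₁.2.1 x hxs k, ← Int.cast_smul_eq_zsmul ℂ, classInner_smul_right, hx, mul_zero]
  have hdec : ∀ α ∈ zspan U, ∃ k : ℤ, α - k • χ ∈ zspan S ∧ classInner α χ = k := by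
    intro α hα
    rw [hins] at hα
    obtain ⟨k, γ, hγ, rfl⟩ := Submodule.mem_span_insert.1 hα
    refine ⟨k, by rw [add_sub_cancel_left]; exact hγ, ?_⟩
    rw [classInner_add_left, hχperp γ hγ, ← Int.cast_smul_eq_zsmul ℂ,
      classInner_smul_left, classInner_self_irr hχ, mul_one, add_zero]
  choose! k hk hkin using hdec
  let τ₂ : (L → ℂ) → (G → ℂ) := fun α => τ₁ (α - k α • χ) + k α • Γ
  have kuniq : ∀ {α : L → ℂ} {z : ℤ}, α ∈ zspan U → classInner α χ = z → k α = z :=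
    fun {α z} hα h => Int.cast_injective ((hkin α hα).symm.trans h)
  refine ⟨⟨α₀, hsub α₀ hα₀, hα₀ne⟩, τ₂, ⟨fun α hα α₂ hα₂ => ?_, fun α hα z => ?_,
    fun α hα α₂ hα₂ => ?_, fun α hα => ?_⟩, fun α hα => ?_⟩
  · simp only [τ₂]
    rw [kuniq (z := k α + k α₂) (Submodule.add_mem _ hα hα₂) (by
      rw [classInner_add_left, hkin α hα, hkin α₂ hα₂]; push_cast; ring),
      add_smul, add_smul, add_sub_add_comm, hτ₁.1 _ (hk α hα) _ (hk α₂ hα₂)]
    abel
  · simp only [τ₂]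
    rw [kuniq (z := z * k α) (Submodule.smul_mem _ _ hα) (by
      rw [← Int.cast_smul_eq_zsmul ℂ, classInner_smul_left, hkin α hα]; push_cast; ring),
      mul_smul, mul_smul, ← smul_sub, hτ₁.2.1 _ (hk α hα) z, smul_add]
  · have p1 := hΓperp _ (hk α₂ hα₂)
    have p2 : classInner (τ₁ (α - k α • χ)) Γ = 0 := by
      rw [← classInner_conj_symm, hΓperp _ (hk α hα), map_zero]
    have q1 : classInner χ (α₂ - k α₂ • χ) = 0 := by
      rw [← classInner_conj_symm, hχperp _ (hk α₂ hα₂), map_zero]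
    have q2 := hχperp _ (hk α hα)
    have hq := hτ₁.2.2.1 _ (hk α hα) _ (hk α₂ hα₂)
    conv_rhs => rw [← sub_add_cancel α (k α • χ), ← sub_add_cancel α₂ (k α₂ • χ)]
    simp only [τ₂, ← Int.cast_smul_eq_zsmul ℂ, classInner_add_left,
      classInner_add_right, classInner_smul_left,
      classInner_smul_right] at p1 p2 q1 q2 hq ⊢
    rw [p1, p2, q1, q2, hq, hΓΓ, classInner_self_irr hχ]
  · simp only [τ₂]
    rw [← Int.cast_smul_eq_zsmul ℂ (k α) Γ]
    exact IsGenChar.add (hτ₁.2.2.2 _ (hk α hα))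
      (IsGenChar.zsmul hΓgen _)
  · have hγ : α - k α • β ∈ zspanOn S {1}ᶜ := hon (by
      have e : α - k α • β = (α - k α • χ) + k α • ((a : ℤ) • ψ) := by rw [hβdef, smul_sub]; abel
      rw [e]
      exact Submodule.add_mem _ (hk α hα.1) (Submodule.smul_mem _ _ (Submodule.smul_mem _ _ (hmem ψ hψ))))
      (by rw [Pi.sub_apply, Pi.smul_apply, hon1 hα, hon1 hβ, smul_zero, sub_zero])
    have hkβ : k α • β ∈ zspanOn U {1}ᶜ := hon (Submodule.smul_mem _ _ hβ.1)
      (by rw [Pi.smul_apply, hon1 hβ, smul_zero])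
    have e2 : τ α = τ₁ (α - k α • β) + k α • D := by
      conv_lhs => rw [← sub_add_cancel α (k α • β)]
      rw [hτ.1 _ (hsub _ hγ) _ hkβ, hτ.2.1 β hβ, hagree _ hγ]
    have e3 : α - k α • β = (α - k α • χ) + (k α * a) • ψ := by rw [hβdef, smul_sub, mul_smul]; abel
    rw [e2, e3, hτ₁.1 _ (hk α hα.1) _ (Submodule.smul_mem _ _ (hmem ψ hψ)), hτ₁.2.1 _ (hmem ψ hψ),
      hDeq, smul_add, ← mul_smul, mul_neg, neg_smul]
    simp only [τ₂]
    abel


theorem join (S X Y : Set (L → ℂ)) (hirr : ∀ ξ ∈ S, IsIrrCharacter L ξ) (hXS : X ⊆ S)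
    (hYS : Y ⊆ S) (hXY : Disjoint X Y) (hX2 : ∃ a ∈ X, ∃ b ∈ X, a ≠ b) (hY2 : ∃ a ∈ Y, ∃ b ∈ Y, a ≠ b)
    (α : (L → ℂ) → (G → ℂ)) (hα : IsLinearIsometryOn (zspanOn S {1}ᶜ) α)
    (hα1 : ∀ θ ∈ zspanOn S {1}ᶜ, α θ 1 = 0) (σ τ : (L → ℂ) → (G → ℂ))
    (hσ : IsLinearIsometryOn (zspan X) σ) (hσα : ∀ θ ∈ zspanOn X {1}ᶜ, σ θ = α θ)
    (hτ : IsLinearIsometryOn (zspan Y) τ) (hτα : ∀ θ ∈ zspanOn Y {1}ᶜ, τ θ = α θ) :
    (∀ χ ∈ X, ∀ η ∈ Y, classInner (σ χ) (τ η) = 0) ∧
      ((∃ χ₀ ∈ X, ∃ η₀ ∈ Y, α (χ₀ 1 • η₀ - η₀ 1 • χ₀) = χ₀ 1 • τ η₀ - η₀ 1 • σ χ₀) →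
        IsCoherent (X ∪ Y) {1}ᶜ α) := by
  classical
  have hd : ∀ ξ ∈ S, ∃ n : ℕ, 0 < n ∧ ξ 1 = n := fun ξ hξ => IsIrr.one_eq_pos (hirr ξ hξ)
  choose! d hdpos hd using hd
  have hon : ∀ {T : Set (L → ℂ)} {f : L → ℂ}, f ∈ zspan T → f 1 = 0 → f ∈ zspanOn T {1}ᶜ := by
    intro T f h h1
    exact ⟨h, fun x hx => by rw [Set.mem_compl_iff, Set.mem_singleton_iff, not_not] at hx; rw [hx, h1]⟩
  have hint : ∀ {T : Set (L → ℂ)}, T ⊆ S → ∀ f ∈ zspan T, ∃ z : ℤ, f 1 = z := by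
    intro T hT f hf
    induction hf using Submodule.span_induction with
    | mem x hx => exact ⟨d x, by rw [hd x (hT hx)]; simp⟩
    | zero => exact ⟨0, by simp⟩
    | add x y _ _ hx hy =>
      obtain ⟨i, hi⟩ := hx; obtain ⟨j, hj⟩ := hy
      exact ⟨i + j, by rw [Pi.add_apply, hi, hj]; push_cast; rfl⟩
    | smul c x _ hx =>
      obtain ⟨i, hi⟩ := hx
      exact ⟨c * i, by rw [← Int.cast_smul_eq_zsmul ℂ, Pi.smul_apply, hi, smul_eq_mul]; push_cast; rfl⟩
  have hXon : ∀ f ∈ zspanOn X {1}ᶜ, f ∈ zspanOn S {1}ᶜ := fun f h =>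
    hon (Submodule.span_mono hXS h.1) (h.2 1 (by simp))
  have hYon : ∀ f ∈ zspanOn Y {1}ᶜ, f ∈ zspanOn S {1}ᶜ := fun f h =>
    hon (Submodule.span_mono hYS h.1) (h.2 1 (by simp))
  let cb : (L → ℂ) → (L → ℂ) → (L → ℂ) := fun u v => (d v : ℤ) • u - (d u : ℤ) • v
  have hcb : ∀ {T : Set (L → ℂ)}, T ⊆ S → ∀ u ∈ T, ∀ v ∈ T, cb u v ∈ zspanOn T {1}ᶜ := by
    intro T hT u hu v hv
    refine hon (Submodule.sub_mem _ (Submodule.smul_mem _ _ (Submodule.subset_span hu))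
      (Submodule.smul_mem _ _ (Submodule.subset_span hv))) ?_
    simp only [cb, ← Int.cast_smul_eq_zsmul ℂ, Pi.sub_apply, Pi.smul_apply, smul_eq_mul, hd u (hT hu), hd v (hT hv)]
    push_cast; ring
  have himg : ∀ {T : Set (L → ℂ)} {ρ : (L → ℂ) → (G → ℂ)}, IsLinearIsometryOn (zspan T) ρ →
      ∀ u ∈ T, ∀ v ∈ T, ρ (cb u v) = (d v : ℤ) • ρ u - (d u : ℤ) • ρ v := by
    intro T ρ hρ u hu v hv
    simp only [cb, sub_eq_add_neg, ← neg_smul]
    rw [hρ.1 _ (Submodule.smul_mem _ _ (Submodule.subset_span hu)) _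
      (Submodule.smul_mem _ _ (Submodule.subset_span hv)), hρ.2.1 _ (Submodule.subset_span hu),
      hρ.2.1 _ (Submodule.subset_span hv)]
  have hpm : ∀ {T : Set (L → ℂ)} {ρ : (L → ℂ) → (G → ℂ)}, IsLinearIsometryOn (zspan T) ρ → T ⊆ S →
      ∀ u ∈ T, IsIrrCharacter G (ρ u) ∨ IsIrrCharacter G (-ρ u) := fun {T ρ} hρ hT u hu =>
    IsGenChar.norm_one (hρ.2.2.2 u (Submodule.subset_span hu)) (by
      rw [hρ.2.2.1 u (Submodule.subset_span hu) u (Submodule.subset_span hu),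
        classInner_self_irr (hirr u (hT hu))])
  have horthT : ∀ {T : Set (L → ℂ)} {ρ : (L → ℂ) → (G → ℂ)}, IsLinearIsometryOn (zspan T) ρ → T ⊆ S →
      ∀ u ∈ T, ∀ v ∈ T, u ≠ v → classInner (ρ u) (ρ v) = 0 := fun {T ρ} hρ hT u hu v hv h => by
    rw [hρ.2.2.1 u (Submodule.subset_span hu) v (Submodule.subset_span hv),
      classInner_irr_ne (hirr u (hT hu)) (hirr v (hT hv)) h]
  have hXYS : ∀ u ∈ X, ∀ v ∈ Y, classInner u v = 0 := fun u hu v hv =>
    classInner_irr_ne (hirr u (hXS hu)) (hirr v (hYS hv))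
      fun e => Set.disjoint_left.1 hXY hu (e ▸ hv)
  have horth : ∀ χ ∈ X, ∀ η ∈ Y, classInner (σ χ) (τ η) = 0 := by
    intro χ hχ η hη
    by_contra hne
    have hother : ∀ {T : Set (L → ℂ)}, (∃ a ∈ T, ∃ b ∈ T, a ≠ b) → ∀ u ∈ T, ∃ v ∈ T, u ≠ v := by
      rintro T ⟨a, ha, b, hb, hab⟩ u hu
      by_cases h : u = a
      · exact ⟨b, hb, h ▸ hab⟩
      · exact ⟨a, ha, h⟩
    obtain ⟨χ', hχ', hχχ'⟩ := hother hX2 χ hχ
    obtain ⟨η', hη', hηη'⟩ := hother hY2 η hη
    have hsign : ∀ {f g : G → ℂ}, (IsIrrCharacter G f ∨ IsIrrCharacter G (-f)) →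
        (IsIrrCharacter G g ∨ IsIrrCharacter G (-g)) → classInner f g ≠ 0 →
        ∃ e : ℂ, (e = 1 ∨ e = -1) ∧ g = e • f ∧ classInner f g = e := by
      intro f g hf hg h
      rcases hf with hf | hf <;> rcases hg with hg | hg
      · have : g = f := by
          by_contra hfg; exact h (classInner_irr_ne hf hg (Ne.symm hfg))
        exact ⟨1, Or.inl rfl, by rw [this, one_smul], by rw [this, classInner_self_irr hf]⟩
      · have : -g = f := by
          by_contra hfg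
          refine h ?_
          rw [← neg_neg g, classInner_neg_right,
            classInner_irr_ne hf hg (Ne.symm hfg), neg_zero]
        refine ⟨-1, Or.inr rfl, by rw [← this]; simp, ?_⟩
        rw [← neg_neg g, this, classInner_neg_right, classInner_self_irr hf]
      · have : g = -f := by
          by_contra hfg
          refine h ?_
          rw [← neg_neg f, classInner_neg_left,
            classInner_irr_ne hf hg (Ne.symm hfg), neg_zero]
        refine ⟨-1, Or.inr rfl, by rw [this]; simp, ?_⟩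
        rw [this, classInner_neg_right, ← neg_neg f, classInner_neg_left, neg_neg,
          classInner_neg_right, classInner_self_irr hf]
      · have : g = f := by
          by_contra hfg
          refine h ?_
          rw [← neg_neg f, ← neg_neg g, classInner_neg_left,
            classInner_neg_right,
            classInner_irr_ne hf hg (fun e => hfg (neg_injective e).symm), neg_zero, neg_zero]
        refine ⟨1, Or.inl rfl, by rw [this, one_smul], ?_⟩
        rw [this, ← neg_neg f, classInner_neg_left, classInner_neg_right,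
          classInner_self_irr hf, neg_neg]
    obtain ⟨e, he, hb, hin⟩ := hsign (hpm hσ hXS χ hχ) (hpm hτ hYS η hη) hne
    have z1 : classInner (σ χ') (τ η) = 0 := by
      rw [hb, classInner_smul_right, horthT hσ hXS χ' hχ' χ hχ hχχ'.symm, mul_zero]
    have he0 : e ≠ 0 := by rcases he with rfl | rfl <;> simp
    have z2 : classInner (σ χ) (τ η') = 0 := by
      have : σ χ = e⁻¹ • τ η := by rw [hb, inv_smul_smul₀ he0]
      rw [this, classInner_smul_left, horthT hτ hYS η hη η' hη' hηη', mul_zero]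
    have hu := hcb hXS χ hχ χ' hχ'
    have hw := hcb hYS η hη η' hη'
    have hzero : classInner (σ (cb χ χ')) (τ (cb η η')) = 0 := by
      rw [hσα _ hu, hτα _ hw, hα.2.2.1 _ (hXon _ hu) _ (hYon _ hw)]
      simp only [cb, ← Int.cast_smul_eq_zsmul ℂ, classInner_sub_left,
        classInner_sub_right, classInner_smul_left,
        classInner_smul_right, hXYS χ hχ η hη, hXYS χ hχ η' hη', hXYS χ' hχ' η hη,
        hXYS χ' hχ' η' hη', mul_zero, sub_zero]
    rw [himg hσ χ hχ χ' hχ', himg hτ η hη η' hη'] at hzero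
    simp only [← Int.cast_smul_eq_zsmul ℂ, classInner_sub_left,
      classInner_sub_right, classInner_smul_left,
      classInner_smul_right, Int.cast_natCast, map_natCast, z1, z2, hin,
      mul_zero, sub_zero, zero_sub, mul_neg, neg_neg, sub_neg_eq_add] at hzero
    have hne' : classInner (σ χ') (τ η') ≠ 0 := by
      intro h0
      rw [h0] at hzero
      have : (d χ' : ℂ) * ((d η' : ℂ) * e) = 0 := by linear_combination hzero
      simp only [mul_eq_zero, Nat.cast_eq_zero] at this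
      rcases this with h | h | h
      · exact (hdpos χ' (hXS hχ')).ne' h
      · exact (hdpos η' (hYS hη')).ne' h
      · exact he0 h
    obtain ⟨e', he', hb', hin'⟩ := hsign (hpm hσ hXS χ' hχ') (hpm hτ hYS η' hη') hne'
    rw [hin'] at hzero
    have v1 : (d χ' : ℂ) * σ χ 1 - (d χ : ℂ) * σ χ' 1 = 0 := by
      have h := hα1 _ (hXon _ hu)
      rw [← hσα _ hu, himg hσ χ hχ χ' hχ'] at h
      simpa [← Int.cast_smul_eq_zsmul ℂ] using h
    have v2 : (d η' : ℂ) * τ η 1 - (d η : ℂ) * τ η' 1 = 0 := by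
      have h := hα1 _ (hYon _ hw)
      rw [← hτα _ hw, himg hτ η hη η' hη'] at h
      simpa [← Int.cast_smul_eq_zsmul ℂ] using h
    rw [hb, hb', Pi.smul_apply, Pi.smul_apply, smul_eq_mul, smul_eq_mul] at v2
    have ha1 : σ χ 1 ≠ 0 := by
      rcases hpm hσ hXS χ hχ with h | h
      · exact IsIrr.one_ne_zero h
      · exact fun e => IsIrr.one_ne_zero h (by rw [Pi.neg_apply, e, neg_zero])
    have key : ((d η' : ℂ) * (d χ : ℂ) * e - (d η : ℂ) * e' * (d χ' : ℂ)) * σ χ 1 = 0 := by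
      linear_combination (d χ : ℂ) * v2 - (d η : ℂ) * e' * v1
    have key' := (mul_eq_zero.1 key).resolve_right ha1
    have hee : e' = -e := by
      rcases he with rfl | rfl <;> rcases he' with rfl | rfl <;> try norm_num
      all_goals
        exfalso
        have h : (((d χ' * d η' + d χ * d η : ℕ)) : ℂ) = 0 := by
          push_cast
          first
            | linear_combination hzero
            | linear_combination -hzero
        rw [Nat.cast_eq_zero] at h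
        have := Nat.mul_pos (hdpos χ' (hXS hχ')) (hdpos η' (hYS hη'))
        omega
    rw [hee] at key'
    have h : (((d η' * d χ + d η * d χ' : ℕ)) : ℂ) * e = 0 := by push_cast; linear_combination key'
    rw [mul_eq_zero, Nat.cast_eq_zero] at h
    have h' := h.resolve_right he0
    have := Nat.mul_pos (hdpos η' (hYS hη')) (hdpos χ (hXS hχ))
    omega
  refine ⟨horth, ?_⟩
  rintro ⟨χ₀, hχ₀, η₀, hη₀, hlink⟩
  have hσ0 : ∀ f ∈ zspan X, ∀ g ∈ zspan Y, classInner (σ f) (τ g) = 0 := by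
    intro f hf g hg
    induction hf using Submodule.span_induction with
    | mem u hu =>
      induction hg using Submodule.span_induction with
      | mem v hv => exact horth u hu v hv
      | zero =>
        have h0 := hτ.2.1 η₀ (Submodule.subset_span hη₀) 0
        rw [zero_smul, zero_smul] at h0
        rw [h0, classInner_zero_right]
      | add x y hx hy ix iy => rw [hτ.1 x hx y hy, classInner_add_right, ix, iy, add_zero]
      | smul c x hx ix => rw [hτ.2.1 x hx c, ← Int.cast_smul_eq_zsmul ℂ, classInner_smul_right, ix, mul_zero]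
    | zero =>
      have h0 := hσ.2.1 χ₀ (Submodule.subset_span hχ₀) 0
      rw [zero_smul, zero_smul] at h0
      rw [h0, classInner_zero_left]
    | add x y hx hy ix iy => rw [hσ.1 x hx y hy, classInner_add_left, ix, iy, add_zero]
    | smul c x hx ix => rw [hσ.2.1 x hx c, ← Int.cast_smul_eq_zsmul ℂ, classInner_smul_left, ix, mul_zero]
  have hperp : ∀ f ∈ zspan X, ∀ g ∈ zspan Y, classInner f g = 0 := by
    intro f hf g hg
    induction hf using Submodule.span_induction with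
    | mem u hu =>
      induction hg using Submodule.span_induction with
      | mem v hv => exact hXYS u hu v hv
      | zero => exact classInner_zero_right u
      | add x y _ _ ix iy => rw [classInner_add_right, ix, iy, add_zero]
      | smul c x _ ix => rw [← Int.cast_smul_eq_zsmul ℂ, classInner_smul_right, ix, mul_zero]
    | zero => exact classInner_zero_left g
    | add x y _ _ ix iy => rw [classInner_add_left, ix, iy, add_zero]
    | smul c x _ ix => rw [← Int.cast_smul_eq_zsmul ℂ, classInner_smul_left, ix, mul_zero]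
  have hex : ∀ f ∈ zspan (X ∪ Y), ∃ u, u ∈ zspan X ∧ f - u ∈ zspan Y := by
    intro f hf
    have hf' : f ∈ Submodule.span ℤ (X ∪ Y) := hf
    rw [Submodule.span_union, Submodule.mem_sup] at hf'
    obtain ⟨u, hu, v, hv, rfl⟩ := hf'
    exact ⟨u, hu, by rw [add_sub_cancel_left]; exact hv⟩
  choose! px hpx hpy using hex
  have puniq : ∀ {f u : L → ℂ}, f ∈ zspan (X ∪ Y) → u ∈ zspan X → f - u ∈ zspan Y → px f = u := by
    intro f u hf hu hv
    have h1 : px f - u ∈ zspan X := Submodule.sub_mem _ (hpx f hf) hu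
    have h2 : px f - u ∈ zspan Y := by
      have := Submodule.sub_mem (Submodule.span ℤ Y) hv (hpy f hf)
      rwa [sub_sub_sub_cancel_left] at this
    exact sub_eq_zero.1 ((classInner_self_eq_zero _).1 (hperp _ h1 _ h2))
  let ρ : (L → ℂ) → (G → ℂ) := fun f => σ (px f) + τ (f - px f)
  obtain ⟨a₀, ha₀, b₀, hb₀, hab₀⟩ := hX2
  refine ⟨⟨cb a₀ b₀, hon (Submodule.span_mono Set.subset_union_left (hcb hXS a₀ ha₀ b₀ hb₀).1)
    ((hcb hXS a₀ ha₀ b₀ hb₀).2 1 (by simp)), fun h0 => ?_⟩, ρ, ⟨fun f hf g hg => ?_, fun f hf n => ?_,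
    fun f hf g hg => ?_, fun f hf => ?_⟩, fun f hf => ?_⟩
  · have := congrArg (fun f => classInner f a₀) h0
    simp only [cb, ← Int.cast_smul_eq_zsmul ℂ, classInner_sub_left,
      classInner_smul_left, classInner_zero_left,
      classInner_self_irr (hirr a₀ (hXS ha₀)),
      classInner_irr_ne (hirr b₀ (hXS hb₀)) (hirr a₀ (hXS ha₀)) (Ne.symm hab₀)] at this
    simp at this
    exact (hdpos b₀ (hXS hb₀)).ne' this
  · simp only [ρ]
    rw [puniq (u := px f + px g) (Submodule.add_mem _ hf hg) (Submodule.add_mem _ (hpx f hf) (hpx g hg))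
      (by rw [add_sub_add_comm]; exact Submodule.add_mem _ (hpy f hf) (hpy g hg)),
      hσ.1 _ (hpx f hf) _ (hpx g hg), add_sub_add_comm, hτ.1 _ (hpy f hf) _ (hpy g hg)]
    abel
  · simp only [ρ]
    rw [puniq (u := n • px f) (Submodule.smul_mem _ _ hf) (Submodule.smul_mem _ _ (hpx f hf))
      (by rw [← smul_sub]; exact Submodule.smul_mem _ _ (hpy f hf)),
      hσ.2.1 _ (hpx f hf), ← smul_sub, hτ.2.1 _ (hpy f hf), smul_add]
  · simp only [ρ]
    have w1 := hσ0 _ (hpx f hf) _ (hpy g hg)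
    have w2 : classInner (τ (f - px f)) (σ (px g)) = 0 := by
      rw [← classInner_conj_symm, hσ0 _ (hpx g hg) _ (hpy f hf), map_zero]
    have w3 := hperp _ (hpx f hf) _ (hpy g hg)
    have w4 : classInner (f - px f) (px g) = 0 := by
      rw [← classInner_conj_symm, hperp _ (hpx g hg) _ (hpy f hf), map_zero]
    have q1 := hσ.2.2.1 _ (hpx f hf) _ (hpx g hg)
    have q2 := hτ.2.2.1 _ (hpy f hf) _ (hpy g hg)
    conv_rhs => rw [← add_sub_cancel (px f) f, ← add_sub_cancel (px g) g]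
    simp only [classInner_add_left, classInner_add_right, w1, w2, w3, w4, q1, q2]
  · exact IsGenChar.add (hσ.2.2.2 _ (hpx f hf)) (hτ.2.2.2 _ (hpy f hf))
  · have hf1 : f 1 = 0 := hf.2 1 (by simp)
    set u := px f with hu
    set v := f - u with hv
    have hu' := hpx f hf.1
    have hv' := hpy f hf.1
    obtain ⟨z, hz⟩ := hint hXS u hu'
    have hz' : v 1 = -(z : ℂ) := by rw [hv, Pi.sub_apply, hf1, hz, zero_sub]
    have hsubU : ∀ {h : L → ℂ}, h ∈ zspan (X ∪ Y) → h ∈ zspan S := fun h =>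
      Submodule.span_mono (Set.union_subset hXS hYS) h
    set p : ℤ := (d χ₀ : ℤ) with hp
    set q : ℤ := (d η₀ : ℤ) with hq
    set A := p • u - z • χ₀ with hA
    set B := q • v + z • η₀ with hB
    set C := p • η₀ - q • χ₀ with hC
    have hA' : A ∈ zspanOn X {1}ᶜ := hon
      (Submodule.sub_mem _ (Submodule.smul_mem _ _ hu') (Submodule.smul_mem _ _ (Submodule.subset_span hχ₀)))
      (by simp only [hA, ← Int.cast_smul_eq_zsmul ℂ, Pi.sub_apply, Pi.smul_apply, smul_eq_mul, hz, hd χ₀ (hXS hχ₀), hp]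
          push_cast; ring)
    have hB' : B ∈ zspanOn Y {1}ᶜ := hon
      (Submodule.add_mem _ (Submodule.smul_mem _ _ hv') (Submodule.smul_mem _ _ (Submodule.subset_span hη₀)))
      (by simp only [hB, ← Int.cast_smul_eq_zsmul ℂ, Pi.add_apply, Pi.smul_apply, smul_eq_mul, hz', hd η₀ (hYS hη₀), hq]
          push_cast; ring)
    have hC' : C ∈ zspanOn S {1}ᶜ := hon
      (Submodule.sub_mem _ (Submodule.smul_mem _ _ (Submodule.subset_span (hYS hη₀)))
        (Submodule.smul_mem _ _ (Submodule.subset_span (hXS hχ₀))))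
      (by simp only [hC, ← Int.cast_smul_eq_zsmul ℂ, Pi.sub_apply, Pi.smul_apply, smul_eq_mul, hd χ₀ (hXS hχ₀), hd η₀ (hYS hη₀), hp, hq]
          push_cast; ring)
    have hαC : α C = p • τ η₀ - q • σ χ₀ := by
      rw [hd χ₀ (hXS hχ₀), hd η₀ (hYS hη₀)] at hlink
      simp only [hC, hp, hq, ← Int.cast_smul_eq_zsmul ℂ, Int.cast_natCast]
      exact hlink
    have hfS : f ∈ zspanOn S {1}ᶜ := hon (hsubU hf.1) hf1
    have hsum : (p * q) • f = (q • A + p • B) + (-z) • C := by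
      rw [show f = u + v from (add_sub_cancel u f).symm, hA, hB, hC]
      module
    have hqA : q • A ∈ zspanOn S {1}ᶜ := hon (Submodule.smul_mem _ _ (hXon _ hA').1)
      (by rw [Pi.smul_apply, (hXon _ hA').2 1 (by simp), smul_zero])
    have hpB : p • B ∈ zspanOn S {1}ᶜ := hon (Submodule.smul_mem _ _ (hYon _ hB').1)
      (by rw [Pi.smul_apply, (hYon _ hB').2 1 (by simp), smul_zero])
    have hAB : q • A + p • B ∈ zspanOn S {1}ᶜ := hon (Submodule.add_mem _ hqA.1 hpB.1)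
      (by rw [Pi.add_apply, hqA.2 1 (by simp), hpB.2 1 (by simp), add_zero])
    have hzC : (-z) • C ∈ zspanOn S {1}ᶜ := hon (Submodule.smul_mem _ _ hC'.1)
      (by rw [Pi.smul_apply, hC'.2 1 (by simp), smul_zero])
    have h := hα.2.1 f hfS (p * q)
    rw [hsum, hα.1 _ hAB _ hzC, hα.1 _ hqA _ hpB, hα.2.1 _ (hXon _ hA'), hα.2.1 _ (hYon _ hB'),
      hα.2.1 _ hC', ← hσα _ hA', ← hτα _ hB', hαC, hA, hB, sub_eq_add_neg, ← neg_smul z χ₀,
      hσ.1 _ (Submodule.smul_mem _ _ hu') _ (Submodule.smul_mem _ _ (Submodule.subset_span hχ₀)),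
      hσ.2.1 _ hu', hσ.2.1 _ (Submodule.subset_span hχ₀),
      hτ.1 _ (Submodule.smul_mem _ _ hv') _ (Submodule.smul_mem _ _ (Submodule.subset_span hη₀)),
      hτ.2.1 _ hv', hτ.2.1 _ (Submodule.subset_span hη₀)] at h
    have hpq : ((p * q : ℤ) : ℂ) ≠ 0 := by
      have h1 := hdpos χ₀ (hXS hχ₀)
      have h2 := hdpos η₀ (hYS hη₀)
      rw [Int.cast_ne_zero]
      exact mul_ne_zero (by omega) (by omega)
    funext g
    refine mul_left_cancel₀ hpq ?_
    have hg := congrFun h g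
    simp only [ρ, ← hu, ← hv, ← Int.cast_smul_eq_zsmul ℂ, Pi.add_apply, Pi.sub_apply, Pi.smul_apply, smul_eq_mul, Pi.neg_apply] at hg ⊢
    push_cast at hg ⊢
    linear_combination hg


end Cfsg.Agent.Char.Coh
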