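import Cfsg.Agent.Lib.Char.CohDescent
import Cfsg.Agent.S1520
import Cfsg.Agent.S1517

/-!
Coherence of the characters induced from a kernel with Frobenius abelianization.
-/

set_option autoImplicit false
set_option linter.unusedSectionVars false

namespace Cfsg.Agent.Char.Descent

open scoped ComplexConjugate commutatorElement
open Cfsg Cfsg.Agent.Char.FrobTI Cfsg.Agent.Char.KerSets Cfsg.Agent.Char.Coh

universe u v

section
variable {Q : Type u} [Group Q] [Finite Q]

theorem isPGroup_of_commutator_index [Group.IsNilpotent Q] {q j : ℕ} (hq : q.Prime)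
    (h : (commutator Q).index = q ^ j) : IsPGroup q Q := by
  haveI := Fact.mk hq
  refine IsPGroup.iff_card.2 ⟨_, Nat.eq_prime_pow_of_unique_prime_dvd Nat.card_pos.ne'
    fun {r} hr hrQ => ?_⟩
  by_contra hne
  haveI := Fact.mk hr
  obtain ⟨R⟩ : Nonempty (Sylow r Q) := inferInstance
  refine R.ne_bot_of_dvd_card hrQ (Transfer.CN.sylow_eq_bot_of_le_commutator R fun x hx => ?_)
  obtain ⟨i, hi⟩ := IsPGroup.iff_orderOf.1 R.isPGroup' ⟨x, hx⟩
  rw [Subgroup.orderOf_mk] at hi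
  have h2 : orderOf (QuotientGroup.mk' (commutator Q) x) ∣ Nat.gcd (r ^ i) (q ^ j) :=
    Nat.dvd_gcd ((orderOf_map_dvd _ _).trans (dvd_of_eq hi))
      (h ▸ (commutator Q).index_eq_card ▸ orderOf_dvd_natCard _)
  rw [Nat.Coprime.gcd_eq_one (Nat.Coprime.pow _ _ ((Nat.coprime_primes hr hq).2 hne)),
    Nat.dvd_one, orderOf_eq_one_iff] at h2
  exact (QuotientGroup.eq_one_iff x).1 h2

theorem commutator_eq_bot_of_index_prime [Group.IsNilpotent Q] {q : ℕ} (hq : q.Prime)
    (h : (commutator Q).index = q) : commutator Q = ⊥ := by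
  haveI := Fact.mk hq
  by_contra hne
  have hlt := Transfer.MaxAbelianExponent.commutator_lt_of_normal (N := commutator Q) hne
  set B : Subgroup Q := ⁅commutator Q, (⊤ : Subgroup Q)⁆ with hB
  set π := QuotientGroup.mk' B with hπ
  have hcentral : ∀ c ∈ commutator Q, ∀ y : Q, Commute (π c) (π y) := fun c hc y =>
    commutatorElement_eq_one_iff_mul_comm.1 (by
      rw [← map_commutatorElement]
      exact (QuotientGroup.eq_one_iff _).2 (Subgroup.commutator_mem_commutator hc (Subgroup.mem_top y)))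
  have hcard : Nat.card (Q ⧸ commutator Q) = q := by rw [← Subgroup.index_eq_card, h]
  haveI : Nontrivial (Q ⧸ commutator Q) := (Finite.one_lt_card_iff_nontrivial).1 (by rw [hcard]; exact hq.one_lt)
  obtain ⟨kb, hkb⟩ := exists_ne (1 : Q ⧸ commutator Q)
  obtain ⟨k, rfl⟩ := QuotientGroup.mk'_surjective (commutator Q) kb
  have hgen : ∀ a : Q, ∃ i : ℤ, (k ^ i)⁻¹ * a ∈ commutator Q := fun a => by
    have h1 : QuotientGroup.mk' (commutator Q) a ∈ Subgroup.zpowers (QuotientGroup.mk' (commutator Q) k) := by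
      rw [zpowers_eq_top_of_prime_card hcard hkb]; exact Subgroup.mem_top _
    obtain ⟨i, hi⟩ := Subgroup.mem_zpowers_iff.1 h1
    rw [← map_zpow] at hi
    exact ⟨i, (QuotientGroup.eq).1 hi⟩
  refine hlt.not_ge ?_
  rw [commutator_def, Subgroup.commutator_le]
  intro a _ b _
  obtain ⟨i, hi⟩ := hgen a
  obtain ⟨j, hj⟩ := hgen b
  refine (QuotientGroup.eq_one_iff _).1 ?_
  show π ⁅a, b⁆ = 1
  rw [map_commutatorElement, commutatorElement_eq_one_iff_mul_comm]
  have ea : π a = π k ^ i * π ((k ^ i)⁻¹ * a) := by rw [map_mul, map_inv, map_zpow]; group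
  have eb : π b = π k ^ j * π ((k ^ j)⁻¹ * b) := by rw [map_mul, map_inv, map_zpow]; group
  rw [ea, eb]
  have h1 : Commute (π k ^ i) (π k ^ j) := Commute.zpow_zpow_self _ _ _
  have h2 : ∀ y : Q ⧸ B, Commute (π ((k ^ i)⁻¹ * a)) y := fun y => by
    obtain ⟨y, rfl⟩ := QuotientGroup.mk'_surjective B y
    exact hcentral _ hi y
  have h3 : ∀ y : Q ⧸ B, Commute (π ((k ^ j)⁻¹ * b)) y := fun y => by
    obtain ⟨y, rfl⟩ := QuotientGroup.mk'_surjective B y
    exact hcentral _ hj y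
  exact ((h1.mul_right (h3 _).symm).mul_left ((h2 _).mul_right (h2 _)))

end

theorem two_mul_add_one_le {e X : ℕ} (he : Odd e) (hX : Odd X) (h : e ∣ X - 1) (h1 : X ≠ 1) :
    2 * e + 1 ≤ X := by
  obtain ⟨s, hs⟩ := h
  have h5 : X = e * s + 1 := by obtain ⟨r, hr⟩ := hX; omega
  rw [h5] at hX
  obtain ⟨r, hr⟩ := (Nat.even_mul.1 (Nat.not_odd_iff_even.1 (Nat.odd_add_one.1 hX))).resolve_left
    (Nat.not_even_iff_odd.2 he)
  have hr0 : r ≠ 0 := fun e' => h1 (by rw [h5, hr, e']; simp)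
  rw [h5, hr, mul_add]
  have := Nat.mul_le_mul_left e (Nat.one_le_iff_ne_zero.2 hr0)
  omega

variable {L : Type u} [Group L] [Fintype L] {G : Type v} [Group G] [Fintype G]
variable (K : Subgroup L) [hK : K.Normal] {M H₁ : Subgroup L} [M.Normal] [H₁.Normal]

theorem commutator_index_quotient (hMK : M ≤ K) [(M.subgroupOf K).Normal]
    (hH₁ : H₁ = ⁅K, K⁆ ⊔ M) :
    (commutator (K ⧸ M.subgroupOf K)).index = H₁.relIndex K := by
  have h1 : (commutator K ⊔ M.subgroupOf K) = H₁.subgroupOf K := by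
    refine Subgroup.map_injective K.subtype_injective ?_
    have hle : H₁ ≤ K := hH₁.trans_le (sup_le (Subgroup.commutator_le_self K) hMK)
    rw [Subgroup.map_sup, Subgroup.map_subtype_commutator, Subgroup.map_subgroupOf_eq_of_le hMK,
      Subgroup.map_subgroupOf_eq_of_le hle, ← hH₁]
  rw [Subgroup.relIndex, ← h1, ← Subgroup.index_map_eq (f := QuotientGroup.mk' (M.subgroupOf K)) _
    (QuotientGroup.mk'_surjective _) ((QuotientGroup.ker_mk' _).trans_le le_sup_right),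
    Subgroup.map_sup, QuotientGroup.map_mk'_self, sup_bot_eq, commutator_def, commutator_def,
    Subgroup.map_commutator, Subgroup.map_top_of_surjective _ (QuotientGroup.mk'_surjective _)]

theorem kernel_coherent [Fintype K] [Group.IsSolvable K] {τ : (L → ℂ) → (G → ℂ)}
    {R : (L → ℂ) → Finset (G → ℂ)} (hS : IsCoherenceSystem (inducedIrrAbove K ⊥) τ R)
    (hodd : Odd (Nat.card L)) (hMK : M ≤ K) [(M.subgroupOf K).Normal]
    (hnil : Group.IsNilpotent (↥K ⧸ M.subgroupOf K)) (hH₁ : H₁ = ⁅K, K⁆ ⊔ M) (hH₁K : H₁ < K)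
    (hfrob : ∀ k ∈ K, k ∉ H₁ → ∀ x : L, x * k * x⁻¹ * k⁻¹ ∈ H₁ → x ∈ K)
    (hgood : (∃ N : Subgroup L, N.Normal ∧ H₁ < N ∧ N < K) ∨ 4 * K.index ^ 2 + 1 < H₁.relIndex K ∨
      (¬ ∃ p m : ℕ, p.Prime ∧ M.relIndex K = p ^ m) ∨ ⁅K, K⁆ ≤ M ∨
      (∃ p m : ℕ, p.Prime ∧ M.relIndex K = p ^ m ∧ K.index ∣ p - 1)) :
    IsCoherent (inducedIrrAbove K M) {1}ᶜ τ := by
  classical
  have hbase : IsCoherent (inducedIrrAbove K H₁) {1}ᶜ τ := by
    obtain ⟨f, hf, -⟩ := exists_degree_index K hH₁K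
    have hdeg : ∀ φ ∈ inducedIrrAbove K H₁, φ 1 = (K.index : ℂ) := by
      rintro _ ⟨θ, hθ, -, hA, rfl⟩
      rw [indFun_one_eq, one_of_commutator hθ fun k hk => hA k ?_, mul_one]
      rw [hH₁]
      refine Subgroup.mem_sup_left ?_
      rw [← Subgroup.map_subtype_commutator]
      exact Subgroup.mem_map_of_mem K.subtype hk
    exact Cfsg.Agent.S1517.result _ τ R (system_mono hS (mono_inducedIrrAbove K bot_le) ⟨f, hf⟩
      fun χ hχ => conjFun_mem_above K hχ) fun φ hφ ψ hψ => (hdeg φ hφ).trans (hdeg ψ hψ).symm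
  have hbigcase : 4 * K.index ^ 2 + 1 < H₁.relIndex K → IsCoherent (inducedIrrAbove K M) {1}ᶜ τ :=
    fun hbig => Cfsg.Agent.S1520.result K inferInstance τ R hS M H₁ K
      (hH₁ ▸ le_sup_right) hH₁K.le le_rfl hnil hbase hbig
  -- the Frobenius quotient
  set π := QuotientGroup.mk' H₁ with hπ
  set Kb := K.map π with hKb
  haveI : Kb.Normal := Subgroup.Normal.map inferInstance π (QuotientGroup.mk'_surjective H₁)
  have hker : π.ker = H₁ := QuotientGroup.ker_mk' H₁
  have hC : ∀ k ∈ Kb, k ≠ 1 → Subgroup.centralizer ({k} : Set (L ⧸ H₁)) ≤ Kb := by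
    rintro _ ⟨k, hk, rfl⟩ hk1 y hy
    obtain ⟨x, rfl⟩ := QuotientGroup.mk'_surjective H₁ y
    refine Subgroup.mem_map_of_mem π (hfrob k hk (fun h => hk1 ((QuotientGroup.eq_one_iff k).2 h)) x
      ((QuotientGroup.eq_one_iff _).1 ?_))
    show π _ = 1
    have hy' : π x * π k = π k * π x := Subgroup.mem_centralizer_singleton_iff.1 hy
    rw [map_mul, map_mul, map_mul, map_inv, map_inv, hy']
    group
  have heb : Kb.index = K.index :=
    Subgroup.index_map_eq _ (QuotientGroup.mk'_surjective H₁) (hker.trans_le hH₁K.le)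
  have hcardKb : Nat.card Kb = H₁.relIndex K := by rw [hKb, ← Subgroup.relIndex_ker, hker]
  have hodde : Odd K.index := Odd.of_dvd_nat hodd K.index_dvd_card
  have hoddx : Odd (H₁.relIndex K) := Odd.of_dvd_nat hodd
    ((H₁.subgroupOf K).index_dvd_card.trans K.card_subgroup_dvd_card)
  have hbetween : ∀ Nb : Subgroup (L ⧸ H₁), Nb.Normal → ⊥ < Nb → Nb < Kb →
      4 * K.index ^ 2 + 1 < H₁.relIndex K := by
    intro Nb hNb h1 h2
    have a1 := index_dvd_relIndex_sub_one Kb hC (A := Nb) (B := ⊥) bot_le h2.le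
    have a2 := index_dvd_relIndex_sub_one Kb hC (A := Kb) (B := Nb) h2.le le_rfl
    rw [heb] at a1 a2
    have h3 := Subgroup.relIndex_mul_relIndex (⊥ : Subgroup (L ⧸ H₁)) Nb Kb bot_le h2.le
    rw [Subgroup.relIndex_bot_left Kb, hcardKb] at h3
    have o1 : Odd ((⊥ : Subgroup (L ⧸ H₁)).relIndex Nb) := Odd.of_dvd_nat hoddx (h3 ▸ dvd_mul_right _ _)
    have o2 : Odd (Nb.relIndex Kb) := Odd.of_dvd_nat hoddx (h3 ▸ dvd_mul_left _ _)
    have b1 := two_mul_add_one_le hodde o1 a1 fun h => h1.not_ge (Subgroup.relIndex_eq_one.1 h)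
    have b2 := two_mul_add_one_le hodde o2 a2 fun h => h2.not_ge (Subgroup.relIndex_eq_one.1 h)
    have b3 := Nat.mul_le_mul b1 b2
    rw [h3] at b3
    have : 0 < K.index := Nat.pos_of_ne_zero Subgroup.index_ne_zero_of_finite
    nlinarith
  rcases hgood with ⟨N, hNn, h1, h2⟩ | hbig | hnp | hKM | ⟨p, m, hp, hm, hep⟩
  · haveI := hNn
    refine hbigcase (hbetween (N.map π) (Subgroup.Normal.map hNn π (QuotientGroup.mk'_surjective H₁)) ?_ ?_)
    · refine bot_lt_iff_ne_bot.2 fun h => h1.not_ge ?_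
      rw [Subgroup.map_eq_bot_iff, hker] at h
      exact h
    · refine lt_of_le_of_ne (Subgroup.map_mono h2.le) fun h => h2.ne ?_
      have := congrArg (Subgroup.comap π) h
      rwa [hKb, Subgroup.comap_map_eq_self (hker.trans_le h1.le),
        Subgroup.comap_map_eq_self (hker.trans_le hH₁K.le)] at this
  · exact hbigcase hbig
  · have hx1 : H₁.relIndex K ≠ 1 := fun h => hH₁K.not_ge (Subgroup.relIndex_eq_one.1 h)
    obtain ⟨q, hq, hqx⟩ := Nat.exists_prime_and_dvd hx1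
    haveI := Fact.mk hq
    have hab : ∀ a ∈ Kb, ∀ b ∈ Kb, Commute a b := by
      rintro _ ⟨a, ha, rfl⟩ _ ⟨b, hb, rfl⟩
      refine commutatorElement_eq_one_iff_mul_comm.1 ?_
      rw [← map_commutatorElement]
      refine (QuotientGroup.eq_one_iff _).2 ?_
      rw [hH₁]
      exact Subgroup.mem_sup_left (Subgroup.commutator_mem_commutator ha hb)
    let Om : Subgroup (L ⧸ H₁) :=
      { carrier := {x | x ∈ Kb ∧ x ^ (q ^ H₁.relIndex K) = 1}
        one_mem' := ⟨Kb.one_mem, one_pow _⟩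
        mul_mem' := fun {a b} ha hb => ⟨Kb.mul_mem ha.1 hb.1, by
          rw [Commute.mul_pow (hab a ha.1 b hb.1), ha.2, hb.2, one_mul]⟩
        inv_mem' := fun {a} ha => ⟨Kb.inv_mem ha.1, by rw [inv_pow, ha.2, inv_one]⟩ }
    have hOn : Om.Normal := ⟨fun x hx g => ⟨(inferInstance : Kb.Normal).conj_mem x hx.1 g,
      by rw [conj_pow, hx.2, mul_one, mul_inv_cancel]⟩⟩
    obtain ⟨z, hz⟩ := exists_prime_orderOf_dvd_card' (G := Kb) q (hcardKb ▸ hqx)
    rw [← Subgroup.orderOf_coe] at hz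
    have hzO : (z : L ⧸ H₁) ∈ Om := ⟨z.2, orderOf_dvd_iff_pow_eq_one.1 (by
      rw [hz]; exact dvd_pow_self q (Nat.pos_of_ne_zero (H₁.subgroupOf K).index_ne_zero_of_finite).ne')⟩
    refine hbigcase (hbetween Om hOn (bot_lt_iff_ne_bot.2 fun h => ?_)
      (lt_of_le_of_ne (fun x hx => hx.1) fun h => hnp ?_))
    · have h' : (z : L ⧸ H₁) ∈ (⊥ : Subgroup (L ⧸ H₁)) := h ▸ hzO
      rw [Subgroup.mem_bot.1 h', orderOf_one] at hz
      exact hq.one_lt.ne hz
    · have hpg : IsPGroup q Kb := fun x => ⟨H₁.relIndex K,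
        Subtype.ext (by rw [SubmonoidClass.coe_pow]; exact (h.ge x.2).2)⟩
      obtain ⟨j, hj⟩ := IsPGroup.iff_card.1 hpg
      rw [hcardKb, ← commutator_index_quotient K hMK hH₁] at hj
      haveI := hnil
      obtain ⟨i, hi⟩ := IsPGroup.iff_card.1 (isPGroup_of_commutator_index hq hj)
      exact ⟨q, i, hq, hi⟩
  · rw [sup_eq_right.2 hKM] at hH₁
    exact hH₁ ▸ hbase
  · haveI := Fact.mk hp
    by_cases hbig : 4 * K.index ^ 2 + 1 < H₁.relIndex K
    · exact hbigcase hbig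
    obtain ⟨j, -, hj⟩ := (Nat.dvd_prime_pow hp).1
      (hm ▸ Subgroup.relIndex_dvd_of_le_left K (hH₁ ▸ le_sup_right : M ≤ H₁))
    have hj0 : j ≠ 0 := fun h => hH₁K.not_ge (Subgroup.relIndex_eq_one.1 (by rw [hj, h, pow_zero]))
    have hpodd : Odd p := Odd.of_dvd_nat hoddx (hj ▸ dvd_pow_self p hj0)
    have hp2 : 2 * K.index + 1 ≤ p := two_mul_add_one_le hodde hpodd hep hp.one_lt.ne'
    have hj1 : j = 1 := by
      by_contra hne
      refine hbig (hj ▸ lt_of_lt_of_le ?_ (Nat.pow_le_pow_right hp.pos (show 2 ≤ j by omega)))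
      have : 0 < K.index := Nat.pos_of_ne_zero Subgroup.index_ne_zero_of_finite
      nlinarith [Nat.mul_le_mul hp2 hp2]
    haveI := hnil
    have hcomm := commutator_eq_bot_of_index_prime (Q := K ⧸ M.subgroupOf K) hp
      ((commutator_index_quotient K hMK hH₁).trans (by rw [hj, hj1, pow_one]))
    have hKM : ⁅K, K⁆ ≤ M := by
      rw [← Subgroup.map_subtype_commutator]
      rintro _ ⟨c, hc, rfl⟩
      have h := Subgroup.mem_map_of_mem (QuotientGroup.mk' (M.subgroupOf K)) hc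
      rw [commutator_def, Subgroup.map_commutator, Subgroup.map_top_of_surjective _
        (QuotientGroup.mk'_surjective _), ← commutator_def, hcomm, Subgroup.mem_bot] at h
      exact Subgroup.mem_subgroupOf.1 ((QuotientGroup.eq_one_iff c).1 h)
    rw [sup_eq_right.2 hKM] at hH₁
    exact hH₁ ▸ hbase

end Cfsg.Agent.Char.Descent
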