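import Cfsg.Agent.Lib.Char.KnorrBlocks
import Mathlib.RingTheory.Jacobson.Semiprimary
import Mathlib.RingTheory.SimpleModule.Basic
import Mathlib.RingTheory.Idempotents

/-!
A block covering a block of a normal subgroup has a character over every character of the covered
block.
-/

namespace Cfsg.Agent.Char.CoverAll

open Cfsg Cfsg.Agent.Block Cfsg.Agent.Char.BP Cfsg.Agent.Char.Knorr Cfsg.Agent.Char.Spec
open MonoidAlgebra (single)

set_option linter.unusedSectionVars false
set_option linter.style.haveILetI false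

universe u v

/-! ### An idempotent for a two-sided ideal -/

theorem exists_idem_of_ideal {A : Type*} [Ring A] [IsArtinianRing A] (I : Ideal A)
    [I.IsTwoSided] :
    ∃ ε : A, ε * ε = ε ∧ ε ∈ I ∧ ∀ i ∈ I, (1 - ε) * i ∈ Ring.jacobson A := by
  set J := Ring.jacobson A with hJ
  set π := Ideal.Quotient.mk J
  have hsurj : Function.Surjective π := Ideal.Quotient.mk_surjective
  obtain ⟨e, he, hIe⟩ := IsSemisimpleRing.ideal_eq_span_idempotent (I.map π)
  obtain ⟨i₀, hi₀, rfl⟩ := (Ideal.mem_map_iff_of_surjective π hsurj).1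
    (hIe.symm ▸ Ideal.mem_span_singleton_self e)
  obtain ⟨n, hn⟩ := (inferInstance : IsSemiprimaryRing A).isNilpotent
  have hker : ∀ x ∈ RingHom.ker π, IsNilpotent x := fun x hx => by
    rw [Ideal.mk_ker] at hx
    exact ⟨n, by simpa [hJ, hn] using Ideal.pow_mem_pow hx n⟩
  obtain ⟨ε, hε, hεe⟩ := exists_isIdempotentElem_eq_of_ker_isNilpotent π hker (π i₀)
    ⟨i₀, rfl⟩ he
  refine ⟨ε, hε.eq, ?_, fun i hi => ?_⟩
  · set w := ε * i₀ * ε with hw
    have hwI : w ∈ I := I.mul_mem_right _ (I.mul_mem_left _ hi₀)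
    have hd : ∀ m : ℕ, ε - (ε - w) ^ (m + 1) ∈ I := by
      intro m
      induction m with
      | zero => simpa using hwI
      | succ m ih =>
        rw [pow_succ]
        rw [show ε - (ε - w) ^ (m + 1) * (ε - w) =
          ε * w + (ε - (ε - w) ^ (m + 1)) * ε - (ε - (ε - w) ^ (m + 1)) * w by
            rw [sub_mul ε ((ε - w) ^ (m + 1)) ε, sub_mul ε ((ε - w) ^ (m + 1)) w, mul_sub,
              hε.eq]; abel]
        exact sub_mem (add_mem (I.mul_mem_left _ hwI) (I.mul_mem_right _ ih))
          (I.mul_mem_left _ hwI)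
    obtain ⟨k, hk⟩ := hker (ε - w) (by
      rw [RingHom.mem_ker, hw, map_sub, map_mul, map_mul, hεe, he.eq, he.eq, sub_self])
    have h0 : (ε - w) ^ (k + 1) = 0 := by rw [pow_succ, hk, zero_mul]
    simpa [h0] using hd k
  · rw [← Ideal.Quotient.eq_zero_iff_mem]
    show π ((1 - ε) * i) = 0
    rw [map_mul, map_sub, map_one, hεe]
    set f := π i₀
    have hmem : ∀ a ∈ I, π a * f = π a := fun a ha => by
      obtain ⟨c, hc⟩ := Ideal.mem_span_singleton'.1
        (hIe ▸ Ideal.mem_map_of_mem π ha : π a ∈ Ideal.span {f})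
      rw [← hc, mul_assoc, he.eq]
    set x := (1 - f) * π i with hx
    have hsq : ∀ y, y * x * (y * x) = 0 := by
      intro y
      obtain ⟨y', rfl⟩ := hsurj y
      have h1 : π i * π y' * (1 - f) = 0 := by
        rw [← map_mul, mul_sub, mul_one, hmem _ (I.mul_mem_right _ hi), sub_self]
      calc π y' * x * (π y' * x)
          = π y' * (1 - f) * (π i * π y' * (1 - f)) * π i := by simp only [hx, mul_assoc]
        _ = 0 := by rw [h1, mul_zero, zero_mul]
    obtain ⟨g, hg, hxg⟩ := IsSemisimpleRing.ideal_eq_span_idempotent (Ideal.span {x})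
    obtain ⟨a, ha⟩ := Ideal.mem_span_singleton'.1
      (hxg.symm ▸ Ideal.mem_span_singleton_self g : g ∈ Ideal.span {x})
    have hg0 : g = 0 := by
      have h2 := hsq a
      rwa [ha, hg.eq] at h2
    have hx0 : x ∈ Ideal.span ({g} : Set (A ⧸ J)) := hxg ▸ Ideal.mem_span_singleton_self x
    rw [hg0, Ideal.span_singleton_zero, Ideal.mem_bot] at hx0
    exact hx0

/-! ### Parts -/

section parts

variable {k : Type v} [Field k] {G : Type u} [Group G] [Fintype G] (N : Subgroup G) [N.Normal]

theorem part_add (q : G ⧸ N) (x y : MonoidAlgebra k G) :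
    part N q (x + y) = part N q x + part N q y := by
  classical
  ext g
  simp only [MonoidAlgebra.coeff_add, Finsupp.add_apply, part_coeff]
  split_ifs <;> simp

theorem part_zero (q : G ⧸ N) : part N q (0 : MonoidAlgebra k G) = 0 := by
  classical
  ext g
  simp [part_coeff]

theorem part_eq_self {q : G ⧸ N} {x : MonoidAlgebra k G} (h : Deg N x q) : part N q x = x := by
  classical
  ext g
  rw [part_coeff]
  split_ifs with hg
  · rfl
  · exact (h g hg).symm

theorem part_right (q : G ⧸ N) {c x : MonoidAlgebra k G} (hc : Deg N c 1) :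
    part N q x * c = part N q (x * c) := by
  classical
  ext g
  rw [coeff_mul, part_coeff, coeff_mul]
  split_ifs with hg
  · refine Finset.sum_congr rfl fun a _ => ?_
    rw [part_coeff]
    split_ifs with ha
    · rfl
    · rw [zero_mul, hc (a⁻¹ * g) fun h => ha ?_, mul_zero]
      rw [QuotientGroup.mk_mul, QuotientGroup.mk_inv, inv_mul_eq_one] at h
      exact h.trans hg
  · refine Finset.sum_eq_zero fun a _ => ?_
    rw [part_coeff]
    split_ifs with ha
    · rw [hc (a⁻¹ * g) fun h => hg ?_, mul_zero]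
      rw [QuotientGroup.mk_mul, QuotientGroup.mk_inv, inv_mul_eq_one] at h
      exact h.symm.trans ha
    · rw [zero_mul]

theorem part_mul_comm (q : G ⧸ N) (x b : MonoidAlgebra k G) :
    part N 1 (part N q x * b) = part N 1 (x * part N q⁻¹ b) := by
  classical
  ext g
  rw [part_coeff, part_coeff]
  split_ifs with hg
  · rw [coeff_mul, coeff_mul]
    refine Finset.sum_congr rfl fun a _ => ?_
    rw [part_coeff, part_coeff]
    have hiff : ((a⁻¹ * g : G) : G ⧸ N) = q⁻¹ ↔ (a : G ⧸ N) = q := by
      rw [QuotientGroup.mk_mul, QuotientGroup.mk_inv, hg, mul_one, inv_inj]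
    simp only [hiff]
    split_ifs <;> simp
  · rfl

end parts

variable {G : Type u} [Group G] [Fintype G] {p : ℕ} {M : Ideal AlgInt}

attribute [local instance] Knorr.fieldInst

variable (N : Subgroup G) [hN : N.Normal] [Fintype N]

theorem deg_phi (hM : IsPModular p M) (z : MonoidAlgebra (ResField hM) N) :
    Deg N (phi N hM z) 1 := fun g hg => by
  classical
  rw [phi_coeff, dif_neg fun h => hg ((QuotientGroup.eq_one_iff g).2 h)]

theorem phi_injective (hM : IsPModular p M) : Function.Injective (phi N hM) := fun z w h => by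
  classical
  ext n
  have h1 := congrArg (fun x : MonoidAlgebra (ResField hM) G => x.coeff (n : G)) h
  simpa [phi_coeff, n.2] using h1

theorem exists_phi_eq (hM : IsPModular p M) {x : MonoidAlgebra (ResField hM) G}
    (hx : Deg N x 1) : ∃ z, phi N hM z = x := by
  classical
  refine ⟨∑ n : N, single n (x.coeff (n : G)), ?_⟩
  ext g
  rw [phi_coeff]
  split_ifs with h
  · simp [MonoidAlgebra.coeff_sum, Finsupp.single_apply]
  · exact (hx g fun e => h ((QuotientGroup.eq_one_iff g).1 e)).symm

/-- The identity components of the multiples of the block idempotent. -/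
def coefIdeal (hM : IsPModular p M) (B : Set (IrrCharacter G)) :
    Ideal (MonoidAlgebra (ResField hM) N) where
  carrier := {z | ∃ b, phi N hM z = part N 1 (eb hM B * b)}
  add_mem' := by
    rintro z w ⟨b, hb⟩ ⟨c, hc⟩
    exact ⟨b + c, by rw [map_add, hb, hc, mul_add, part_add]⟩
  zero_mem' := ⟨0, by rw [map_zero, mul_zero, part_zero]⟩
  smul_mem' := by
    rintro y z ⟨b, hb⟩
    refine ⟨phi N hM y * b, ?_⟩
    rw [smul_eq_mul, map_mul, hb, part_left N 1 (deg_phi N hM y), ← mul_assoc, ← eb_comm,
      mul_assoc]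

instance coefIdeal_isTwoSided (hM : IsPModular p M) (B : Set (IrrCharacter G)) :
    (coefIdeal N hM B).IsTwoSided :=
  ⟨fun {z} y hz => by
    obtain ⟨b, hb⟩ := hz
    refine ⟨b * phi N hM y, ?_⟩
    rw [map_mul, hb, part_right N 1 (deg_phi N hM y), mul_assoc]⟩

/-- The ideal of coefficients has an identity, which fixes the block idempotent. -/
theorem exists_coef_unit (hM : IsPModular p M) {B : Set (IrrCharacter G)} (hB : IsPBlock M B) :
    ∃ ε ∈ coefIdeal N hM B, ε * ε = ε ∧ (∀ x, ε * x = x * ε) ∧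
      phi N hM ε * eb hM B = eb hM B := by
  classical
  haveI : Module.Finite (ResField hM) (MonoidAlgebra (ResField hM) N) :=
    Module.Finite.of_basis (MonoidAlgebra.basis N (ResField hM))
  haveI : IsArtinianRing (MonoidAlgebra (ResField hM) N) :=
    IsArtinianRing.of_finite (ResField hM) _
  obtain ⟨ε, hε, hεI, hεJ⟩ := exists_idem_of_ideal (coefIdeal N hM B)
  set J := Ring.jacobson (MonoidAlgebra (ResField hM) N) with hJ
  obtain ⟨n, hn⟩ := (inferInstance :
    IsSemiprimaryRing (MonoidAlgebra (ResField hM) N)).isNilpotent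
  set x := (1 - phi N hM ε) * eb hM B with hx
  have hidem : x * x = x := by
    rw [hx, mul_assoc, ← mul_assoc (eb hM B), eb_comm, mul_assoc,
      show eb hM B * eb hM B = eb hM B from redAlg_blockCoeff_idem hM hB, ← mul_assoc]
    congr 1
    rw [← map_one (phi N hM), ← map_sub, ← map_mul]
    congr 1
    noncomm_ring [hε]
  have h0 : x = 0 := by
    refine Knorr.idem_eq_zero N (fun y => ∀ b, ∃ j ∈ J, phi N hM j = part N 1 (y * b))
      (n := n) ?_ ?_ ?_ ?_ hidem
    · intro y z hy _ b
      rw [mul_assoc]; exact hy _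
    · intro q y hy b
      rw [part_mul_comm]; exact hy _
    · intro lst hlen hlst
      have key : ∀ l : List (MonoidAlgebra (ResField hM) G),
          (∀ z ∈ l, z ∈ lst) → ∃ w ∈ J ^ l.length, phi N hM w = l.prod := by
        intro l
        induction l with
        | nil => exact fun _ => ⟨1, by rw [List.length_nil, Submodule.pow_zero, Ideal.one_eq_top]; exact Submodule.mem_top, map_one _⟩
        | cons z t ih =>
          intro hl
          obtain ⟨w, hw, hwp⟩ := ih fun y hy => hl y (List.mem_cons_of_mem _ hy)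
          obtain ⟨hS, hd⟩ := hlst z (hl z (List.mem_cons_self ..))
          obtain ⟨j, hj, hjz⟩ := hS 1
          rw [mul_one, part_eq_self N hd] at hjz
          refine ⟨j * w, ?_, by rw [map_mul, hjz, hwp, List.prod_cons]⟩
          rw [List.length_cons, Ideal.IsTwoSided.pow_succ]
          exact Ideal.mul_mem_mul hj hw
      obtain ⟨w, hw, hwp⟩ := key lst fun z h => h
      rw [hlen, hn] at hw
      rw [← hwp, show w = 0 from hw, map_zero]
    · intro b
      obtain ⟨i, hi⟩ := exists_phi_eq N hM (deg_part N 1 (eb hM B * b))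
      refine ⟨(1 - ε) * i, hεJ i ⟨b, hi⟩, ?_⟩
      have hd : Deg N (1 - phi N hM ε) 1 := by
        rw [← map_one (phi N hM), ← map_sub]; exact deg_phi N hM _
      rw [map_mul, map_sub, map_one, hi, part_left N 1 hd, hx, mul_assoc]
  rw [hx, sub_mul, one_mul, sub_eq_zero] at h0
  have hl : ∀ i ∈ coefIdeal N hM B, ε * i = i := by
    rintro i ⟨b, hb⟩
    refine phi_injective N hM ?_
    rw [map_mul, hb, part_left N 1 (deg_phi N hM ε), ← mul_assoc, ← h0]
  have hr : ∀ i ∈ coefIdeal N hM B, i * ε = i := by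
    rintro i ⟨b, hb⟩
    refine phi_injective N hM ?_
    rw [map_mul, hb, part_right N 1 (deg_phi N hM ε), eb_comm, mul_assoc, eb_comm, ← h0]
  refine ⟨ε, hεI, hε, fun y => ?_, h0.symm⟩
  have h1 := hr (ε * y) ((coefIdeal N hM B).mul_mem_right y hεI)
  have h2 := hl (y * ε) ((coefIdeal N hM B).mul_mem_left y hεI)
  rw [← h1, mul_assoc, h2]

/-- A nonzero central idempotent under a block idempotent is the block idempotent. -/
theorem central_idem_eq (hM : IsPModular p M) {H : Type u} [Group H] [Fintype H]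
    {c : Set (IrrCharacter H)} (hc : IsPBlock M c) {z : MonoidAlgebra (ResField hM) H}
    (hz : ∀ x, z * x = x * z) (hzz : z * z = z)
    (hcz : redAlg hM (coeffFun (blockInd c)) * z = z) (hne : z ≠ 0) :
    z = redAlg hM (coeffFun (blockInd c)) := by
  classical
  set s := redAlg hM (coeffFun (blockInd c)) with hs
  choose lift hlr hl using Cfsg.Agent.Char.Res.red_surjective hM
  set a : H → ℂ := fun h => lift (z.coeff h)
  have ha : IsClassFunction H a := fun h w => by
    show lift (z.coeff (w * h * w⁻¹)) = lift (z.coeff h)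
    congr 1
    have h1 := congrArg (fun y : MonoidAlgebra (ResField hM) H => y.coeff (w * h))
      (hz (single w 1))
    simpa [MonoidAlgebra.coeff_mul_single_apply, MonoidAlgebra.coeff_single_mul_apply,
      mul_assoc] using h1
  have hFa : CenInt M (fun ξ : IrrCharacter H => omegaFun ξ a) := fun h => by
    rw [coeffFun_omegaFun ha]; exact hlr _
  have hsI := cenInt_blockInd hM hc
  set F := blockInd c * (fun ξ : IrrCharacter H => omegaFun ξ a) with hF
  have hFI : CenInt M F := hsI.mul hM hFa
  have hFz : redAlg hM (coeffFun F) = z := by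
    rw [hF, redAlg_mul hM hsI hFa, coeffFun_omegaFun ha]
    convert hcz
    ext h
    rw [redAlg_coeff]; exact hl _
  set F' := blockInd c - F with hF'
  have hF'I : CenInt M F' := hsI.sub hM hFI
  have hF'z : redAlg hM (coeffFun F') = s - z := by
    rw [← hFz, hs]
    ext h
    rw [MonoidAlgebra.coeff_sub, Finsupp.sub_apply, redAlg_coeff, redAlg_coeff, redAlg_coeff, hF',
      coeffFun_sub, Cfsg.Agent.Char.Res.red_sub hM (hsI h) (hFI h)]
  have hFF : redAlg hM (coeffFun (F * F')) = 0 := by
    rw [redAlg_mul hM hFI hF'I, hFz, hF'z, mul_sub, hzz, hz, hcz, sub_self]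
  have h0 : BrZero M (⊥ : Subgroup H) (F * F') := BrZero.of_coeff fun h => by
    have h1 := congrArg (fun y : MonoidAlgebra (ResField hM) H => y.coeff h) hFF
    rw [← red_eq_zero hM ((hFI.mul hM hF'I) h)]
    simpa [redAlg_coeff] using h1
  have hbot : ¬ BrZero M (⊥ : Subgroup H) (blockInd c) := fun h => by
    refine redAlg_blockCoeff_ne_zero hM hc ?_
    ext g
    rw [redAlg_coeff, blockCoeff_eq, (red_eq_zero hM (hsI g)).2 (h g
      (Subgroup.mem_centralizer_iff.2 fun u hu => by
        rw [Subgroup.mem_bot.1 hu, one_mul, mul_one]))]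
    rfl
  have hval : ∀ ξ ∈ c, MemLocalIdeal M ((F * F') ξ) := fun ξ hξ =>
    brZero_omega_ideal hM hc IsPGroup.of_bot hbot (hFI.mul hM hF'I) h0 hξ
  -- a function with ideal values on the block has nilpotent reduction
  have hnil : ∀ (f : IrrCharacter H → ℂ), CenInt M f → (∀ ξ, MemLocalIdeal M (f ξ)) →
      ∀ y, redAlg hM (coeffFun f) = y → y * y = y → y = 0 := by
    intro f hf hf0 y hy hyy
    obtain ⟨i, hi, hpow⟩ := exists_pow_coeff_ideal hM hf hf0
    have hp : ∀ j : ℕ, redAlg hM (coeffFun (f ^ (j + 1))) = y := by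
      intro j
      induction j with
      | zero => simpa using hy
      | succ j ih => rw [pow_succ f, redAlg_mul hM (hf.pow hM _) hf, ih, hy, hyy]
    obtain ⟨j, rfl⟩ : ∃ j, i = j + 1 := ⟨i - 1, by omega⟩
    rw [← hp j]
    ext h
    rw [redAlg_coeff, (red_eq_zero hM (hf.pow hM _ h)).2 (hpow h)]
    rfl
  obtain ⟨ξ₀, hξ₀⟩ := pblock_nonempty hM hc
  have hall : ∀ f : IrrCharacter H → ℂ, CenInt M f → (∀ ξ, ξ ∉ c → f ξ = 0) →
      MemLocalIdeal M (f ξ₀) → ∀ ξ, MemLocalIdeal M (f ξ) := by
    intro f hf hoff h ξ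
    by_cases hξ : ξ ∈ c
    · have h1 := hf.congr_block hM (pblock_sameBlock hM hc hξ hξ₀)
      simpa using ideal_add hM h1 h
    · rw [hoff ξ hξ]; exact ideal_zero hM
  by_cases hF0 : MemLocalIdeal M (F ξ₀)
  · exact absurd (hnil F hFI (hall F hFI (fun ξ hξ => by
      simp [hF, blockInd_of_notMem hξ]) hF0) z hFz hzz) hne
  · have hF'0 : MemLocalIdeal M (F' ξ₀) := by
      have h1 := ideal_mul_left hM (ring_inv hM (hFI.ring hM ξ₀) hF0) (hval ξ₀ hξ₀)
      have h2 : F ξ₀ ≠ 0 := fun e => hF0 (e ▸ ideal_zero hM)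
      simpa [Pi.mul_apply, ← mul_assoc, h2] using h1
    have hss : s * s = s := by
      rw [hs, ← redAlg_mul hM hsI hsI, blockInd_mul_self]
    have h1 := hnil F' hF'I (hall F' hF'I (fun ξ hξ => by
      simp [hF', hF, blockInd_of_notMem hξ]) hF'0) (s - z) hF'z (by
        rw [sub_mul, mul_sub, mul_sub, hss, hcz, hz, hcz, hzz, sub_self, sub_zero])
    exact (sub_eq_zero.1 h1).symm

/-- The idempotent of a covered block is an identity component of a multiple. -/
theorem exists_part_eq_sn (hM : IsPModular p M) {B : Set (IrrCharacter G)} (hB : IsPBlock M B)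
    {c : Set (IrrCharacter N)} (hc : IsPBlock M c)
    (hcov : ∃ χ ∈ B, ∃ θ ∈ c, classInner (fun n : N => (χ : G → ℂ) n) (θ : N → ℂ) ≠ 0) :
    ∃ b, part N 1 (eb hM B * b) = sn N hM c := by
  classical
  obtain ⟨ε, hεI, hεε, hεc, hεB⟩ := exists_coef_unit N hM hB
  set s := redAlg hM (coeffFun (blockInd c)) with hs
  have hsI := cenInt_blockInd hM hc
  have hsc : ∀ x, s * x = x * s := commute_of_classFun hM (coeffFun_classFun _)
  have hss : s * s = s := by rw [hs, ← redAlg_mul hM hsI hsI, blockInd_mul_self]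
  have hne : s * ε ≠ 0 := fun h0 => by
    refine ne_of_covered N hM hB hc hcov ?_
    rw [← sn_eq_phi, ← hs, ← hεB, mul_assoc, eb_comm hM B, ← mul_assoc, ← map_mul, hεc, h0,
      map_zero, zero_mul]
  have he := central_idem_eq hM hc (z := s * ε)
    (fun x => by rw [mul_assoc, hεc, ← mul_assoc, hsc, mul_assoc])
    (by rw [mul_assoc, ← mul_assoc ε, hεc s, mul_assoc, hεε, ← mul_assoc, hss])
    (by rw [← mul_assoc, hss]) hne
  have hmem : s ∈ coefIdeal N hM B := by
    have h := (coefIdeal N hM B).mul_mem_left s hεI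
    rwa [he] at h
  obtain ⟨b, hb⟩ := hmem
  exact ⟨b, by rw [← hb, sn_eq_phi]⟩

/-! ### The theorem -/

theorem det_one_sub_ne_zero [DecidableEq G] (hM : IsPModular p M) {d : MonoidAlgebra ℂ G} (hd : AlgIdeal M d) :
    (leftMat (1 - d)).det ≠ 0 := by
  classical
  have hr : AlgRing M (1 - d) := AlgRing.sub hM (AlgRing.one hM) (AlgIdeal.ring hd)
  let e := Fintype.equivFin G
  have h := Cfsg.Agent.Char.Res.det_ne_zero_of_red_eq_one hM
    (A := (leftMat (1 - d)).submatrix e.symm e.symm) (fun i j => hr.matRing _ _) (by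
      ext i j
      rw [Cfsg.Agent.Char.Res.redMat, Matrix.map_apply, Matrix.submatrix_apply, map_sub, map_one,
        Matrix.sub_apply]
      have h0 : MemLocalIdeal M (leftMat d (e.symm i) (e.symm j)) := by
        rw [leftMat_apply]; exact hd _
      rw [Cfsg.Agent.Char.Res.red_sub hM (by
          rw [Matrix.one_apply]; split_ifs
          exacts [ring_one hM, ring_zero hM]) (ring_of_ideal h0),
        (red_eq_zero hM (ring_of_ideal h0)).2 h0, sub_zero]
      simp only [Matrix.one_apply, e.symm.injective.eq_iff]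
      split_ifs
      · exact red_one hM
      · exact red_zero hM)
  rwa [Matrix.det_submatrix_equiv_self] at h

/-- Every character of a covered block lies under a character of the covering block. -/
theorem exists_over_mem (hM : IsPModular p M) {B : Set (IrrCharacter G)} (hB : IsPBlock M B)
    {c : Set (IrrCharacter N)} (hc : IsPBlock M c)
    (hcov : ∃ χ ∈ B, ∃ θ ∈ c, classInner (fun n : N => (χ : G → ℂ) n) (θ : N → ℂ) ≠ 0)
    {θ : IrrCharacter N} (hθ : θ ∈ c) :
    ∃ χ ∈ B, classInner (fun n : N => (χ : G → ℂ) n) (θ : N → ℂ) ≠ 0 := by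
  classical
  by_contra hno
  push Not at hno
  set O := conjUnion N ({θ} : Set (IrrCharacter N)) with hO
  have hst : ConjStable N O := conjStable_conjUnion N _
  have hzero : blockInd B * covInd N O = 0 := by
    funext χ
    by_cases hχ : χ ∈ B
    · rcases covInd_zero_or_one N hst χ with h | h
      · simp [h]
      · obtain ⟨η, ⟨g, hg⟩, hη⟩ := (covInd_eq_one_iff N hst χ).1 h
        have h1 := constituent_of_conj N g hη
        rw [Set.mem_singleton_iff.1 hg] at h1
        exact absurd (hno χ hχ) h1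
    · simp [blockInd_of_notMem hχ]
  set E := algOf (MonoidHom.id G) (blockCoeff B) with hE
  set W := algOf (MonoidHom.id G) (covCoeff N O) with hW
  set Cn := algOf (MonoidHom.id G) (bc N c) with hCn
  have hWE : W * E = 0 := by
    rw [hW, hE, ← algOf_convFun, funext (blockCoeff_eq B),
      ← coeffFun_omegaFun (covCoeff_classFun N hst), ← coeffFun_mul, mul_comm,
      show blockInd B * (fun χ => omegaFun χ (covCoeff N O)) = 0 from hzero]
    ext g
    simp [algOf_coeff_id, coeffFun]
  have hWs : W = algOf N.subtype (coeffFun (blockInd O)) := by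
    ext g
    rw [hW, algOf_coeff_id, algOf_coeff_subtype]
    rfl
  have hCs : Cn = algOf N.subtype (coeffFun (blockInd c)) := by
    ext g
    rw [hCn, algOf_coeff_id, algOf_coeff_subtype]
    split_ifs with h
    · exact (bc_coe N c ⟨g, h⟩).trans (blockCoeff_eq c _)
    · exact bc_supp N c g h
  have hmulc : ∀ f : IrrCharacter N → ℂ, algOf N.subtype (coeffFun f) * Cn =
      algOf N.subtype (coeffFun (f * blockInd c)) := fun f => by
    rw [hCs, ← algOf_convFun, coeffFun_mul]
  set W' := W * Cn with hW'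
  have hW'C : W' * Cn = W' := by
    rw [hW', hWs, hmulc, hmulc, mul_assoc, blockInd_mul_self]
  have hW'0 : W' ≠ 0 := by
    intro h0
    rw [hW', hWs, hmulc] at h0
    have h1 : blockInd O * blockInd c = 0 := eq_of_coeffFun_eq (funext fun n => by
      have h2 := congrArg (fun y : MonoidAlgebra ℂ G => y.coeff (n : G)) h0
      simp only [algOf_coeff_subtype, dif_pos n.2] at h2
      simpa [coeffFun] using h2)
    have h2 := congrFun h1 θ
    rw [Pi.mul_apply, blockInd_of_mem (subset_conjUnion N _ (Set.mem_singleton θ)),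
      blockInd_of_mem hθ, mul_one] at h2
    exact one_ne_zero h2
  have hW'E : W' * E = 0 := by
    have hEc : ∀ x, E * x = x * E := by
      intro x
      induction x using MonoidAlgebra.induction_on with
      | of g => exact algOf_comm_single (MonoidHom.id G) (blockCoeff_classFun B) g
      | add u v hu hv => rw [mul_add, add_mul, hu, hv]
      | smul r u hu => rw [mul_smul_comm, smul_mul_assoc, hu]
    rw [hW', mul_assoc, ← hEc, ← mul_assoc, hWE, zero_mul]
  obtain ⟨b, hb⟩ := exists_part_eq_sn N hM hB hc hcov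
  obtain ⟨b', hb'r, hb'⟩ := Cfsg.Agent.Char.Res.redA_surjective hM b
  have hEr : AlgRing M E := AlgRing.algOf hM _ (blockCoeff_ring hM hB)
  set z := part N 1 (E * b') with hz
  have hEb : AlgRing M (E * b') := AlgRing.mul hM hEr hb'r
  have hzr : AlgRing M z := fun g => by
    rw [hz, part_coeff]
    split_ifs
    exacts [hEb g, ring_zero hM]
  have hCr : AlgRing M Cn := AlgRing.algOf hM _ (bc_ring hM hc)
  have hd : AlgIdeal M (Cn - z) := by
    refine (Cfsg.Agent.Char.Res.redA_eq_zero hM (AlgRing.sub hM hCr hzr)).1 ?_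
    rw [Cfsg.Agent.Char.Res.redA_sub hM hCr hzr, sub_eq_zero]
    have hEred : Cfsg.Agent.Char.Res.redA hM E = eb hM B := by
      ext g
      rw [Cfsg.Agent.Char.Res.redA_coeff, hE, algOf_coeff_id, eb, redAlg_coeff]
    ext g
    rw [Cfsg.Agent.Char.Res.redA_coeff, Cfsg.Agent.Char.Res.redA_coeff, hCn, algOf_coeff_id,
      hz, part_coeff]
    have h1 := congrArg (fun y : MonoidAlgebra (ResField hM) G => y.coeff g) hb
    simp only [part_coeff, sn, redAlg_coeff] at h1
    rw [← h1, ← hb', ← hEred, ← Cfsg.Agent.Char.Res.redA_mul hM hEr hb'r]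
    split_ifs
    · rw [Cfsg.Agent.Char.Res.redA_coeff]
    · rw [red_zero hM]
  have hWdeg : Deg N W' 1 := fun g hg => by
    rw [hW', hWs, hmulc, algOf_coeff_subtype,
      dif_neg fun h => hg ((QuotientGroup.eq_one_iff g).2 h)]
  have hWz : W' * z = 0 := by
    rw [hz, part_left N 1 hWdeg, ← mul_assoc, hW'E, zero_mul, part_zero]
  have h1 : leftMat W' * leftMat (1 - (Cn - z)) = 0 := by
    rw [← map_mul, mul_sub, mul_one, mul_sub, hW'C, hWz, sub_zero, sub_self, map_zero]
  apply hW'0
  refine leftMat_injective ?_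
  rw [map_zero]
  calc leftMat W' = leftMat W' * leftMat (1 - (Cn - z)) * (leftMat (1 - (Cn - z)))⁻¹ := by
        rw [mul_assoc, Matrix.mul_nonsing_inv _ (isUnit_iff_ne_zero.2 (det_one_sub_ne_zero hM hd)),
          mul_one]
    _ = 0 := by rw [h1, zero_mul]

end Cfsg.Agent.Char.CoverAll
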