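import Cfsg.Agent.Lib.Char.CoverTIFamilies

/-!
No nontrivial group of odd order is covered by TI subgroups with Frobenius normalizers and coherent
character sets.
-/

set_option autoImplicit false
set_option linter.unusedSectionVars false

namespace Cfsg.Agent.Char.CoverTI

open scoped ComplexConjugate
open Cfsg Cfsg.Agent.Char.FrobTI

universe u v

variable {G : Type u} [Group G] [Fintype G] {ι : Type v} [Fintype ι]
variable {K : ι → Subgroup G} [∀ i, Fintype ↥(NI K i)]
variable {star : ∀ i, (↥(NI K i) → ℂ) → (G → ℂ)}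

open Classical in
/-- The nontrivial elements of a member. -/
noncomputable abbrev Kn (K : ι → Subgroup G) (j : ι) : Finset G :=
  Finset.univ.filter fun k : G => k ∈ K j ∧ k ≠ 1

theorem card_Kn (hD : Data K star) (j : ι) : (Kn K j).card = ee K j * ss hD j := by
  classical
  have h1 : (Kn K j).card + 1 = Nat.card (K j) := by
    rw [Nat.card_eq_fintype_card, Fintype.card_subtype, ← Finset.card_erase_add_one
      (s := Finset.univ.filter fun k : G => k ∈ K j) (a := 1) (by simp [(K j).one_mem])]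
    congr 2
    ext k
    simp [and_comm]
  have := ss_spec hD j
  omega

theorem card_conj_into (hD : Data K star) {j : ι} {g : G} (hg : g ≠ 1)
    [DecidablePred fun t : G => t * g * t⁻¹ ∈ K j] :
    ((Finset.univ.filter fun t : G => t * g * t⁻¹ ∈ K j).card = Nat.card ↥(NI K j) ∧
      ∃ t : G, t * g * t⁻¹ ∈ K j) ∨
    ((Finset.univ.filter fun t : G => t * g * t⁻¹ ∈ K j).card = 0 ∧
      ¬ ∃ t : G, t * g * t⁻¹ ∈ K j) := by
  classical
  by_cases h : ∃ t : G, t * g * t⁻¹ ∈ K j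
  · refine Or.inl ⟨?_, h⟩
    obtain ⟨t₀, ht₀⟩ := h
    rw [Nat.card_eq_fintype_card, Fintype.card_subtype]
    refine Finset.card_nbij' (fun t => t * t₀⁻¹) (fun n => n * t₀) ?_ ?_ ?_ ?_
    · intro t ht
      simp only [Finset.coe_filter, Finset.mem_univ, true_and, Set.mem_setOf_eq] at ht ⊢
      by_contra hn
      have h1 := (hD.star_data j).tI _ hn _ ht₀ (by
        rw [show t * t₀⁻¹ * (t₀ * g * t₀⁻¹) * (t * t₀⁻¹)⁻¹ = t * g * t⁻¹ by group]
        exact ht)
      exact hg (mul_eq_left.1 (mul_inv_eq_one.1 h1))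
    · intro n hn
      simp only [Finset.coe_filter, Finset.mem_univ, true_and, Set.mem_setOf_eq] at hn ⊢
      rw [show n * t₀ * g * (n * t₀)⁻¹ = n * (t₀ * g * t₀⁻¹) * n⁻¹ by group]
      exact (Subgroup.mem_normalizer_iff.1 hn _).1 ht₀
    · intro t _; simp
    · intro n _; simp
  · refine Or.inr ⟨Finset.card_eq_zero.2 (Finset.filter_eq_empty_iff.2 fun t _ ht => h ⟨t, ht⟩), h⟩

open Classical in
theorem sum_one_member (hD : Data K star) {f : G → ℂ} (hf : IsClassFunction G f) (j : ι)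
    :
    (Nat.card G : ℂ) * ∑ k ∈ Kn K j, f k =
      ∑ g ∈ (Finset.univ : Finset G).erase 1,
        ((Finset.univ.filter fun t : G => t * g * t⁻¹ ∈ K j).card : ℂ) * f g := by
  classical
  calc (Nat.card G : ℂ) * ∑ k ∈ Kn K j, f k
      = ∑ t : G, ∑ k ∈ Kn K j, f (t⁻¹ * k * t) := by
        rw [Finset.sum_congr rfl (g := fun _ => ∑ k ∈ Kn K j, f k) fun t _ =>
          Finset.sum_congr rfl fun k _ => by simpa using hf k t⁻¹]
        simp [Nat.card_eq_fintype_card]
    _ = ∑ t : G, ∑ g ∈ ((Finset.univ : Finset G).erase 1).filter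
          (fun g => t * g * t⁻¹ ∈ K j), f g := by
        refine Finset.sum_congr rfl fun t _ => ?_
        refine Finset.sum_nbij' (fun k => t⁻¹ * k * t) (fun g => t * g * t⁻¹) ?_ ?_ ?_ ?_ ?_
        · intro k hk
          simp only [Finset.mem_filter, Finset.mem_univ, true_and,
            Finset.mem_erase, and_true] at hk ⊢
          refine ⟨fun h => hk.2 ?_, by simpa [mul_assoc] using hk.1⟩
          calc k = t * (t⁻¹ * k * t) * t⁻¹ := by group
            _ = 1 := by rw [h]; group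
        · intro g hg
          simp only [Finset.mem_filter, Finset.mem_univ, true_and,
            Finset.mem_erase, and_true] at hg ⊢
          exact ⟨hg.2, fun h => hg.1 (mul_eq_left.1 (mul_inv_eq_one.1 h))⟩
        · intro k _; simp [mul_assoc]
        · intro g _; simp [mul_assoc]
        · intro k _; rfl
    _ = ∑ g ∈ (Finset.univ : Finset G).erase 1, ∑ t : G,
          if t * g * t⁻¹ ∈ K j then f g else 0 := by
        rw [Finset.sum_comm]
        exact Finset.sum_congr rfl fun t _ => Finset.sum_filter _ _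
    _ = _ := by
        refine Finset.sum_congr rfl fun g _ => ?_
        rw [← Finset.sum_filter, Finset.sum_const, nsmul_eq_mul]

open Classical in
/-- Sums over the nontrivial elements split along the covering. -/
theorem partition (hD : Data K star) {f : G → ℂ} (hf : IsClassFunction G f) :
    ∑ g ∈ (Finset.univ : Finset G).erase 1, f g =
      ∑ j, (Nat.card G : ℂ) / (Nat.card ↥(NI K j) : ℂ) * ∑ k ∈ Kn K j, f k := by
  classical
  have e : ∀ j, (Nat.card G : ℂ) / (Nat.card ↥(NI K j) : ℂ) * ∑ k ∈ Kn K j, f k =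
      ∑ g ∈ (Finset.univ : Finset G).erase 1,
        ((Finset.univ.filter fun t : G => t * g * t⁻¹ ∈ K j).card : ℂ) /
          (Nat.card ↥(NI K j) : ℂ) * f g := fun j => by
    rw [div_mul_eq_mul_div, sum_one_member hD hf j, Finset.sum_div]
    exact Finset.sum_congr rfl fun g _ => by ring
  simp only [e]
  rw [Finset.sum_comm]
  refine Finset.sum_congr rfl fun g hg => ?_
  have hg1 := (Finset.mem_erase.1 hg).1
  rw [← Finset.sum_mul]
  obtain ⟨i, t, ht⟩ := hD.cover g hg1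
  rw [Finset.sum_eq_single i]
  · rcases card_conj_into hD (j := i) hg1 with ⟨hc, -⟩ | ⟨-, hc⟩
    · rw [hc, div_self (Nat.cast_ne_zero.2 Nat.card_pos.ne'), one_mul]
    · exact absurd ⟨t, ht⟩ hc
  · intro j _ hji
    rcases card_conj_into hD (j := j) hg1 with ⟨-, s, hs⟩ | ⟨hc, -⟩
    · exfalso
      refine hD.disj i j hji.symm _ ht
        (fun h => hg1 (mul_eq_left.1 (mul_inv_eq_one.1 h))) (s * t⁻¹) ?_
      simpa [mul_assoc] using hs
    · rw [hc]; simp
  · exact fun h => absurd (Finset.mem_univ i) h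

open Classical in
theorem sum_triv_kernel {i : ι} {k : ↥(NI K i)} (hk : k ∈ KN (K i)) :
    ∑ χ ∈ Finset.univ.filter (fun χ : IrrCharacter ↥(NI K i) =>
      ¬ NonTriv (KN (K i)) (χ : ↥(NI K i) → ℂ)),
      (χ : ↥(NI K i) → ℂ) k * conj ((χ : ↥(NI K i) → ℂ) k) = (ee K i : ℂ) ∧
    ∑ χ ∈ Finset.univ.filter (fun χ : IrrCharacter ↥(NI K i) =>
      ¬ NonTriv (KN (K i)) (χ : ↥(NI K i) → ℂ)),
      (χ : ↥(NI K i) → ℂ) 1 * (χ : ↥(NI K i) → ℂ) k = (ee K i : ℂ) := by
  have h : ∀ χ : IrrCharacter ↥(NI K i), ¬ NonTriv (KN (K i)) (χ : ↥(NI K i) → ℂ) →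
      (χ : ↥(NI K i) → ℂ) k = (χ : ↥(NI K i) → ℂ) 1 ∧
      conj ((χ : ↥(NI K i) → ℂ) 1) = (χ : ↥(NI K i) → ℂ) 1 := fun χ hn => by
    simp only [NonTriv, not_exists, not_and, not_not] at hn
    obtain ⟨n, -, hn'⟩ := IsIrr.one_eq_pos χ.2
    exact ⟨hn k hk, by rw [hn', map_natCast]⟩
  constructor <;>
  · rw [← sum_sq_triv (KN (K i))]
    refine Finset.sum_congr rfl fun χ hχ => ?_
    obtain ⟨h1, h2⟩ := h χ (Finset.mem_filter.1 hχ).2
    simp only [h1, h2]

open Classical in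
/-- The weighted sum of the family on the member. -/
theorem sum_th_apply (hD : Data K star) {i : ι} {k : ↥(NI K i)} (hk : k ∈ KN (K i)) (hk1 : k ≠ 1) :
    ∑ χ : SI K i, (th hD χ : ℂ) * (χ.1 : ↥(NI K i) → ℂ) k = -1 := by
  have h := regular_expansion (G := ↥(NI K i)) k
  rw [if_neg hk1, ← Finset.sum_filter_add_sum_filter_not Finset.univ
    (fun χ : IrrCharacter ↥(NI K i) => NonTriv (KN (K i)) (χ : ↥(NI K i) → ℂ)),
    (sum_triv_kernel hk).2,
    ← sum_SI (fun χ : IrrCharacter ↥(NI K i) =>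
      (χ : ↥(NI K i) → ℂ) 1 * (χ : ↥(NI K i) → ℂ) k)] at h
  simp only [th_spec hD, Nat.cast_mul, mul_assoc, ← Finset.mul_sum] at h
  refine mul_left_cancel₀ (Nat.cast_ne_zero.2 (ee_pos (K := K) i).ne') ?_
  linear_combination h

open Classical in
/-- The squares of the family on the member. -/
theorem sum_sq_apply (hD : Data K star) {i : ι} {k : ↥(NI K i)} (hk : k ∈ KN (K i)) (hk1 : k ≠ 1) :
    ∑ χ : SI K i, (χ.1 : ↥(NI K i) → ℂ) k * conj ((χ.1 : ↥(NI K i) → ℂ) k) =
      (Nat.card (Subgroup.centralizer ({(k : G)} : Set G)) : ℂ) - (ee K i : ℂ) := by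
  have h := sum_irr_mul_conj (G := ↥(NI K i)) k k
  rw [if_pos (IsConj.refl k), ← Finset.sum_filter_add_sum_filter_not Finset.univ
    (fun χ : IrrCharacter ↥(NI K i) => NonTriv (KN (K i)) (χ : ↥(NI K i) → ℂ)),
    (sum_triv_kernel hk).1,
    ← sum_SI (fun χ : IrrCharacter ↥(NI K i) =>
      (χ : ↥(NI K i) → ℂ) k * conj ((χ : ↥(NI K i) → ℂ) k))] at h
  have hle : Subgroup.centralizer ({(k : G)} : Set G) ≤ NI K i :=
    ((hD.star_data i).cent _ hk (fun e => hk1 (Subtype.ext e))).trans Subgroup.le_normalizer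
  have he : Subgroup.centralizer ({k} : Set ↥(NI K i)) =
      (Subgroup.centralizer ({(k : G)} : Set G)).subgroupOf (NI K i) := by
    ext x
    simp [Subgroup.mem_subgroupOf, Subgroup.mem_centralizer_singleton_iff, Subtype.ext_iff]
  rw [he, Nat.card_congr (Subgroup.subgroupOfEquivOfLe hle).toEquiv] at h
  linear_combination h

/-- The images are integral multiples of the degrees at one. -/
theorem exists_deg (hD : Data K star) (i : ι) :
    ∃ D : ℤ, D ≠ 0 ∧ ∀ χ : SI K i, star i χ.1 1 = (D : ℂ) * (th hD χ : ℂ) := by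
  classical
  obtain ⟨χ₀⟩ := exists_mem hD i
  have h0 : (th hD χ₀ : ℂ) ≠ 0 := Nat.cast_ne_zero.2 (th_pos hD χ₀).ne'
  set q : ℂ := star i χ₀.1 1 / (th hD χ₀ : ℂ) with hq
  have key : ∀ χ : SI K i, star i χ.1 1 = q * (th hD χ : ℂ) := fun χ => by
    rw [hq]; field_simp
    linear_combination star_one hD χ χ₀
  have he : (ee K i : ℂ) ≠ 0 := Nat.cast_ne_zero.2 (ee_pos i).ne'
  obtain ⟨z, hz⟩ := int_of_int (KN (K i)) (t := q / (ee K i : ℂ)) (χ₀ := χ₀.1) χ₀.2 fun ρ hρ => by
    obtain ⟨n, -, hn⟩ := IsIrr.one_eq_pos (ex hD (⟨ρ, hρ⟩ : SI K i)).2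
    have e := star_eq hD (⟨ρ, hρ⟩ : SI K i)
    have e1 := key ⟨ρ, hρ⟩
    rw [e, Pi.smul_apply, smul_eq_mul, hn] at e1
    rw [th_spec hD ⟨ρ, hρ⟩]
    rcases sgn_spec hD (⟨ρ, hρ⟩ : SI K i) with hs | hs <;> rw [hs] at e1
    · exact ⟨n, by push_cast; field_simp; linear_combination -e1⟩
    · exact ⟨-(n : ℤ), by push_cast; field_simp; linear_combination -e1⟩
  rw [div_mul_cancel₀ _ he] at hz
  refine ⟨z, fun h => ?_, fun χ => by rw [key χ, hz]⟩
  exact star_one_ne hD χ₀ (by rw [key χ₀, hz, h, Int.cast_zero, zero_mul])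

/-- Off its own member an image is an integral multiple of the degree. -/
theorem exists_coef (hD : Data K star) {i j : ι} (hij : i ≠ j) :
    ∃ c : ℤ, ∀ χ : SI K i, ∀ k ∈ K j, k ≠ 1 → star i χ.1 k = (c : ℂ) * (th hD χ : ℂ) := by
  classical
  choose z hz using fun χ : SI K i => const_of_orth hD ((hD.star_data i).gen (hD.mem_S χ))
    (i := j) fun η => star_orth hD hij χ η
  obtain ⟨χ₀⟩ := exists_mem hD i
  obtain ⟨k₀, hk₀, hk₀1⟩ := (K j).ne_bot_iff_exists_ne_one.1 (hD.ne_bot j) |>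
    fun ⟨k, hk⟩ => (⟨k.1, k.2, fun e => hk (Subtype.ext e)⟩ : ∃ k : G, k ∈ K j ∧ k ≠ 1)
  have he : (ee K i : ℂ) ≠ 0 := Nat.cast_ne_zero.2 (ee_pos i).ne'
  have rel : ∀ χ ξ : SI K i, (th hD ξ : ℂ) * (z χ : ℂ) = (th hD χ : ℂ) * (z ξ : ℂ) := fun χ ξ => by
    have h := congrFun (star_beta hD χ ξ) k₀
    rw [ind_beta_eq_zero hD χ ξ fun t ht => absurd ht (hD.disj j i hij.symm k₀ hk₀ hk₀1 t)] at h
    simp only [Pi.sub_apply, Pi.smul_apply, smul_eq_mul, Nat.cast_mul, hz χ k₀ hk₀ hk₀1,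
      hz ξ k₀ hk₀ hk₀1] at h
    refine mul_left_cancel₀ he ?_
    linear_combination -h
  set q : ℂ := (z χ₀ : ℂ) / (th hD χ₀ : ℂ) with hq
  have h0 : (th hD χ₀ : ℂ) ≠ 0 := Nat.cast_ne_zero.2 (th_pos hD χ₀).ne'
  have key : ∀ χ : SI K i, (z χ : ℂ) = q * (th hD χ : ℂ) := fun χ => by
    rw [hq]; field_simp
    linear_combination rel χ χ₀
  obtain ⟨c, hc⟩ := int_of_int (KN (K i)) (t := q / (ee K i : ℂ)) (χ₀ := χ₀.1) χ₀.2 fun ρ hρ =>
    ⟨z ⟨ρ, hρ⟩, by rw [th_spec hD ⟨ρ, hρ⟩, key ⟨ρ, hρ⟩, Nat.cast_mul]; field_simp⟩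
  rw [div_mul_cancel₀ _ he] at hc
  exact ⟨c, fun χ k hk hk1 => by rw [hz χ k hk hk1, key χ, hc]⟩

theorem exists_own (hD : Data K star) (i : ι) :
    ∃ m : ℤ, ∀ χ : SI K i, ∀ k : ↥(NI K i), (k : G) ∈ K i → k ≠ 1 →
      star i χ.1 k = (χ.1 : ↥(NI K i) → ℂ) k + (m : ℂ) * (th hD χ : ℂ) := by
  obtain ⟨χ₀⟩ := exists_mem hD i
  obtain ⟨m, hm⟩ := (hD.star_data i).exists_m (hD.mem_S χ₀)
  refine ⟨m, fun χ k hk hk1 => ?_⟩
  have h := hm χ.1 (hD.mem_S χ) k hk hk1
  rw [th_spec hD χ, Nat.cast_mul, mul_div_assoc,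
    mul_div_cancel_left₀ _ (Nat.cast_ne_zero.2 (ee_pos (K := K) i).ne')] at h
  linear_combination h

open Classical in
/-- The numerical constraints on the coefficients. -/
theorem numbers (hD : Data K star) :
    ∃ (c : ι → ι → ℤ) (m D : ι → ℤ),
      (∀ i j, i ≠ j → ∀ χ : SI K i, ∀ k ∈ K j, k ≠ 1 → star i χ.1 k = (c i j : ℂ) * (th hD χ : ℂ)) ∧
      (∀ i, D i ≠ 0 ∧ ∀ χ : SI K i, star i χ.1 1 = (D i : ℂ) * (th hD χ : ℂ)) ∧
      (∀ j k, j ≠ k → c j k ≠ 0 ∨ c k j ≠ 0) ∧
      (∀ u, ∑ i ∈ Finset.univ.erase u, c i u ^ 2 * (ss hD i : ℤ) +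
        (m u ^ 2 * (ss hD u : ℤ) - 2 * m u) = (ee K u : ℤ) - 1) ∧
      (∀ u, (Nat.card G : ℂ) * (ss hD u : ℂ) = (ss hD u : ℂ) ^ 2 * (D u : ℂ) ^ 2 +
        ∑ j, (Nat.card G : ℂ) / (Nat.card ↥(NI K j) : ℂ) *
          (((ee K j * ss hD j : ℕ) : ℂ) *
            ((if u = j then m u * (ss hD u : ℤ) - 1 else c u j * (ss hD u : ℤ) : ℤ) : ℂ) ^ 2)) := by
  have hc0 : ∀ i j, ∃ c : ℤ, i ≠ j → ∀ χ : SI K i, ∀ k ∈ K j, k ≠ 1 →
      star i χ.1 k = (c : ℂ) * (th hD χ : ℂ) := fun i j => by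
    by_cases h : i = j
    · exact ⟨0, fun h' => absurd h h'⟩
    · obtain ⟨c, hc⟩ := exists_coef hD h
      exact ⟨c, fun _ => hc⟩
  choose c hc using hc0
  choose m hm using exists_own hD
  choose D hD0 hD1 using exists_deg hD
  -- the weighted sums
  let V : ι → ι → ℤ := fun i j =>
    if i = j then m i * (ss hD i : ℤ) - 1 else c i j * (ss hD i : ℤ)
  have hss : ∀ i, (ss hD i : ℂ) = ∑ χ : SI K i, (th hD χ : ℂ) * (th hD χ : ℂ) := fun i => by
    rw [ss, Nat.cast_sum]
    exact Finset.sum_congr rfl fun χ _ => by push_cast; ring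
  have hV : ∀ i j, ∀ x ∈ K j, x ≠ 1 →
      ∑ χ : SI K i, (th hD χ : ℂ) * star i χ.1 x = (V i j : ℂ) := by
    intro i j x hx hx1
    by_cases h : i = j
    · subst h
      have hk : (⟨x, Subgroup.le_normalizer hx⟩ : ↥(NI K i)) ≠ 1 :=
        fun e => hx1 (congrArg Subtype.val e)
      simp only [V, if_true, hm i _ ⟨x, Subgroup.le_normalizer hx⟩ hx hk]
      rw [show ∑ χ : SI K i, (th hD χ : ℂ) * ((χ.1 : ↥(NI K i) → ℂ) ⟨x, Subgroup.le_normalizer hx⟩ +
          (m i : ℂ) * (th hD χ : ℂ)) = (∑ χ : SI K i, (th hD χ : ℂ) *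
          (χ.1 : ↥(NI K i) → ℂ) ⟨x, Subgroup.le_normalizer hx⟩) +
          (m i : ℂ) * ∑ χ : SI K i, (th hD χ : ℂ) * (th hD χ : ℂ) by
        rw [Finset.mul_sum, ← Finset.sum_add_distrib]
        exact Finset.sum_congr rfl fun χ _ => by ring]
      rw [sum_th_apply hD (Subgroup.mem_subgroupOf.2 hx) hk, ← hss]
      push_cast; ring
    · simp only [V, if_neg h, hc i j h _ x hx hx1]
      push_cast
      rw [hss, Finset.mul_sum]
      exact Finset.sum_congr rfl fun χ _ => by ring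
  have hne : ∀ j, ∃ x : G, x ∈ K j ∧ x ≠ 1 := fun j => by
    obtain ⟨k, hk⟩ := (K j).ne_bot_iff_exists_ne_one.1 (hD.ne_bot j)
    exact ⟨k.1, k.2, fun e => hk (Subtype.ext e)⟩
  refine ⟨c, m, D, fun i j h => hc i j h, fun i => ⟨hD0 i, hD1 i⟩, ?_, ?_, ?_⟩
  · intro j k hjk
    obtain ⟨x, hx, hx1⟩ := hne j
    obtain ⟨y, hy, hy1⟩ := hne k
    have h := col_sum hD x y
    rw [sum_irr_mul_conj, if_neg fun hh => by
      obtain ⟨g, hg⟩ := isConj_iff.1 hh
      exact hD.disj j k hjk x hx hx1 g (hg ▸ hy)] at h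
    have e : ∀ i, ∑ χ : SI K i, star i χ.1 x * conj (star i χ.1 y) =
        ((if i = k then c k j * V k k else c i k * V i j : ℤ) : ℂ) := fun i => by
      by_cases hik : i = k
      · subst hik
        have h2 := congrArg conj (hV i i y hy hy1)
        simp only [map_sum, map_mul, map_natCast, map_intCast] at h2
        rw [if_pos rfl, Int.cast_mul, ← h2, Finset.mul_sum]
        exact Finset.sum_congr rfl fun χ _ => by rw [hc i j hjk.symm χ x hx hx1]; ring
      · rw [if_neg hik, Int.cast_mul, ← hV i j x hx hx1, Finset.mul_sum]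
        exact Finset.sum_congr rfl fun χ _ => by
          rw [hc i k hik χ y hy hy1, map_mul, map_intCast, map_natCast]; ring
    rw [Finset.sum_congr rfl fun i _ => e i, ← Int.cast_sum] at h
    have h' : 1 + ∑ i, (if i = k then c k j * V k k else c i k * V i j) = 0 := by
      exact_mod_cast h.symm
    by_contra hcon
    push Not at hcon
    have hev : (2 : ℤ) ∣ ∑ i, (if i = k then c k j * V k k else c i k * V i j) := by
      refine Finset.dvd_sum fun i _ => ?_
      split_ifs with hik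
      · simp [hcon.2]
      · by_cases hij : i = j
        · subst hij; simp [hcon.1]
        · simp only [V, if_neg hij]
          refine Dvd.dvd.mul_left (Dvd.dvd.mul_left ?_ _) _
          obtain ⟨w, hw⟩ := (ss_even hD i).1
          exact ⟨w, by rw [hw]; push_cast; ring⟩
    omega
  · intro u
    obtain ⟨x, hx, hx1⟩ := hne u
    set k : ↥(NI K u) := ⟨x, Subgroup.le_normalizer hx⟩ with hk
    have hk1 : k ≠ 1 := fun e => hx1 (congrArg Subtype.val e)
    have hkK : k ∈ KN (K u) := Subgroup.mem_subgroupOf.2 hx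
    have h := col_sum hD x x
    rw [sum_irr_mul_conj, if_pos (IsConj.refl x), ← Finset.add_sum_erase _ _ (Finset.mem_univ u)] at h
    have e : ∀ i ∈ Finset.univ.erase u, ∑ χ : SI K i, star i χ.1 x * conj (star i χ.1 x) =
        ((c i u ^ 2 * (ss hD i : ℤ) : ℤ) : ℂ) := fun i hi => by
      push_cast
      rw [hss, Finset.mul_sum]
      exact Finset.sum_congr rfl fun χ _ => by
        rw [hc i u (Finset.ne_of_mem_erase hi) χ x hx hx1, map_mul, map_intCast, map_natCast]; ring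
    have h2 := sum_th_apply hD hkK hk1
    have h3 := congrArg conj h2
    simp only [map_sum, map_mul, map_natCast, map_neg, map_one] at h3
    have h4 := sum_sq_apply hD hkK hk1
    have eu : ∑ χ : SI K u, star u χ.1 x * conj (star u χ.1 x) =
        (Nat.card (Subgroup.centralizer ({x} : Set G)) : ℂ) - (ee K u : ℂ) +
          (((m u ^ 2 * (ss hD u : ℤ) - 2 * m u : ℤ)) : ℂ) := by
      rw [Finset.sum_congr rfl (g := fun χ : SI K u =>
        (χ.1 : ↥(NI K u) → ℂ) k * conj ((χ.1 : ↥(NI K u) → ℂ) k) +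
          (m u : ℂ) * ((th hD χ : ℂ) * (χ.1 : ↥(NI K u) → ℂ) k) +
          (m u : ℂ) * ((th hD χ : ℂ) * conj ((χ.1 : ↥(NI K u) → ℂ) k)) +
          (m u : ℂ) ^ 2 * ((th hD χ : ℂ) * (th hD χ : ℂ))) fun χ _ => by
        rw [show x = (k : G) from rfl, hm u χ k hx hk1, map_add, map_mul, map_intCast, map_natCast]
        ring]
      rw [Finset.sum_add_distrib, Finset.sum_add_distrib, Finset.sum_add_distrib, h4,
        ← Finset.mul_sum, ← Finset.mul_sum, ← Finset.mul_sum, h2, h3, ← hss]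
      push_cast; ring
    rw [eu, Finset.sum_congr rfl e, ← Int.cast_sum] at h
    have h' : ((∑ i ∈ Finset.univ.erase u, c i u ^ 2 * (ss hD i : ℤ) +
        (m u ^ 2 * (ss hD u : ℤ) - 2 * m u) : ℤ) : ℂ) = (((ee K u : ℤ) - 1 : ℤ) : ℂ) := by
      push_cast at h ⊢
      linear_combination -h
    exact_mod_cast h'
  · intro u
    set Φ : G → ℂ := ∑ χ : SI K u, (th hD χ : ℂ) • star u χ.1 with hΦ
    have hn : classInner Φ Φ = (ss hD u : ℂ) := by
      rw [hΦ, classInner_sum_left]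
      simp only [classInner_sum_right, classInner_smul_left, classInner_smul_right, star_norm hD,
        map_natCast, mul_ite, mul_one, mul_zero, Finset.sum_ite_eq, Finset.mem_univ, if_true]
      exact (hss u).symm
    have hΦx : ∀ x, Φ x = ∑ χ : SI K u, (th hD χ : ℂ) * star u χ.1 x := fun x => by
      simp [hΦ, Finset.sum_apply]
    have hcl : IsClassFunction G fun g => Φ g * conj (Φ g) := fun g x => by
      have e : Φ (x * g * x⁻¹) = Φ g := by
        simp only [hΦx, IsGenChar.classFun ((hD.star_data u).gen (hD.mem_S _)) g x]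
      show Φ _ * conj (Φ _) = _
      rw [e]
    rw [classInner, inv_mul_eq_iff_eq_mul₀ (Nat.cast_ne_zero.2 Nat.card_pos.ne'),
      ← Finset.add_sum_erase _ _ (Finset.mem_univ (1 : G)), partition hD hcl] at hn
    rw [← hn]
    congr 1
    · rw [hΦx, Finset.sum_congr rfl (g := fun χ : SI K u =>
        (D u : ℂ) * ((th hD χ : ℂ) * (th hD χ : ℂ))) fun χ _ => by rw [hD1 u χ]; ring,
        ← Finset.mul_sum, ← hss, map_mul, map_intCast, map_natCast]
      ring
    · refine Finset.sum_congr rfl fun j _ => ?_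
      congr 1
      rw [Finset.sum_congr rfl (g := fun _ => (V u j : ℂ) ^ 2) fun k hk => by
        obtain ⟨-, hkj, hk1⟩ := Finset.mem_filter.1 hk
        rw [hΦx, hV u j k hkj hk1, map_intCast]; ring,
        Finset.sum_const, card_Kn hD, nsmul_eq_mul]

theorem one_lt_ee (hD : Data K star) (i : ι) : 1 < ee K i := by
  by_contra h
  have h1 : ee K i = 1 := le_antisymm (not_lt.1 h) (ee_pos i)
  exact (hD.star_data i).lt.not_ge (Subgroup.subgroupOf_eq_top.1 (Subgroup.index_eq_one.1 h1))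

/-- There is no such covering. -/
theorem no_cover (hD : Data K star) [Nontrivial G] : False := by
  classical
  obtain ⟨g, hg⟩ := _root_.exists_ne (1 : G)
  haveI : Nonempty ι := ⟨(hD.cover g hg).choose⟩
  obtain ⟨c, m, D, hc, hDD, hpar, hcol, hrow⟩ := numbers hD
  obtain ⟨u, hu⟩ := Finite.exists_min (ee K)
  set s : ι → ℝ := fun j => (ss hD j : ℝ) with hs
  set e : ι → ℝ := fun j => (ee K j : ℝ) with he
  set w : ι → ℝ := fun j => s j / (e j * s j + 1) with hw
  set γ : ℝ := (Nat.card G : ℝ) with hγ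
  set V : ι → ℤ := fun j => if u = j then m u * (ss hD u : ℤ) - 1 else c u j * (ss hD u : ℤ)
    with hV
  have hγ0 : 0 < γ := Nat.cast_pos.2 Nat.card_pos
  have hs2 : ∀ j, 2 ≤ s j := fun j => by
    show (2 : ℝ) ≤ (ss hD j : ℝ)
    exact_mod_cast (ss_even hD j).2
  have he0 : ∀ j, 0 < e j := fun j => by
    show (0 : ℝ) < (ee K j : ℝ)
    exact_mod_cast ee_pos j
  have he3 : 3 ≤ e u := by
    show (3 : ℝ) ≤ (ee K u : ℝ)
    obtain ⟨r, hr⟩ := odd_ee hD u
    have := one_lt_ee hD u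
    exact_mod_cast (by omega : 3 ≤ ee K u)
  have hw0 : ∀ j, 0 ≤ w j := fun j => by
    have := hs2 j
    have := he0 j
    rw [hw]; positivity
  have hcoef : ∀ j, (Nat.card G : ℂ) / (Nat.card ↥(NI K j) : ℂ) * ((ee K j * ss hD j : ℕ) : ℂ) =
      ((γ * w j : ℝ) : ℂ) := fun j => by
    have h1 : (ee K j : ℂ) ≠ 0 := Nat.cast_ne_zero.2 (ee_pos j).ne'
    have h2 : ((ee K j * ss hD j + 1 : ℕ) : ℂ) ≠ 0 := Nat.cast_ne_zero.2 (by omega)
    rw [card_NI, ← ss_spec hD j]
    simp only [hw, hs, he, hγ]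
    push_cast at h2 ⊢
    field_simp
  -- the two global identities
  have hsum : ∑ j, w j = 1 - 1 / γ := by
    have h := partition hD (f := fun _ => (1 : ℂ)) fun _ _ => rfl
    simp only [Finset.sum_const, nsmul_eq_mul, mul_one, card_Kn hD, hcoef,
      Finset.card_erase_of_mem (Finset.mem_univ (1 : G)), Finset.card_univ,
      ← Nat.card_eq_fintype_card, Nat.cast_sub Nat.card_pos, Nat.cast_one] at h
    rw [← Complex.ofReal_natCast, ← Complex.ofReal_one, ← Complex.ofReal_sub, ← Complex.ofReal_sum,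
      Complex.ofReal_inj, ← Finset.mul_sum, ← hγ] at h
    field_simp
    linarith
  have hrowR : s u = s u ^ 2 * (D u : ℝ) ^ 2 / γ + ∑ j, w j * (V j : ℝ) ^ 2 := by
    have h : ((γ * s u : ℝ) : ℂ) =
        ((s u ^ 2 * (D u : ℝ) ^ 2 + γ * ∑ j, w j * (V j : ℝ) ^ 2 : ℝ) : ℂ) := by
      push_cast
      rw [Finset.mul_sum]
      simp only [hs, hγ, Complex.ofReal_natCast]
      rw [hrow u]
      congr 1
      refine Finset.sum_congr rfl fun j _ => ?_
      rw [← mul_assoc, hcoef j]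
      simp only [hV, hγ]
      split_ifs <;> push_cast <;> ring
    rw [Complex.ofReal_inj] at h
    field_simp
    linarith
  -- the splitting
  set A := (Finset.univ.erase u).filter (fun j => c u j = 0) with hA
  set B := (Finset.univ.erase u).filter (fun j => ¬ c u j = 0) with hB
  have hsplit : ∑ j, w j = w u + (∑ j ∈ A, w j + ∑ j ∈ B, w j) := by
    rw [hA, hB, Finset.sum_filter_add_sum_filter_not,
      Finset.add_sum_erase _ _ (Finset.mem_univ u)]
  have hVu : 1 ≤ (V u : ℝ) ^ 2 := by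
    have h0 : V u ≠ 0 := by
      simp only [hV, if_true]
      obtain ⟨r, hr⟩ := (ss_even hD u).1
      intro h
      have : (2 : ℤ) ∣ 1 := ⟨m u * r, by rw [hr] at h; push_cast at h; linarith⟩
      omega
    have : 1 ≤ V u ^ 2 := by
      have := mul_self_pos.2 h0
      nlinarith
    exact_mod_cast this
  have hBle : s u ^ 2 * (D u : ℝ) ^ 2 / γ + w u + s u ^ 2 * ∑ j ∈ B, w j ≤ s u := by
    conv_rhs => rw [hrowR]
    rw [← Finset.add_sum_erase _ _ (Finset.mem_univ u), add_assoc, Finset.mul_sum]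
    refine add_le_add le_rfl (add_le_add (le_mul_of_one_le_right (hw0 u) hVu) ?_)
    refine le_trans (Finset.sum_le_sum fun j hj => ?_)
      (Finset.sum_le_sum_of_subset_of_nonneg (Finset.filter_subset _ _)
        fun j _ _ => mul_nonneg (hw0 j) (sq_nonneg _))
    obtain ⟨hju, hcj⟩ := Finset.mem_filter.1 hj
    simp only [hV, if_neg (Finset.ne_of_mem_erase hju).symm]
    push_cast
    have h1 : (1 : ℝ) ≤ (c u j : ℝ) ^ 2 := by
      have : 1 ≤ c u j ^ 2 := by nlinarith [mul_self_pos.2 hcj]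
      exact_mod_cast this
    rw [mul_pow]
    nlinarith [hw0 j, sq_nonneg (s u), mul_nonneg (hw0 j) (sq_nonneg (s u))]
  have hAsum : ∑ j ∈ A, (ss hD j : ℤ) ≤ (ee K u : ℤ) - 1 := by
    have h1 : 0 ≤ m u ^ 2 * (ss hD u : ℤ) - 2 * m u := by
      have h2 : (2 : ℤ) ≤ ss hD u := by exact_mod_cast (ss_even hD u).2
      have h3 : m u ≤ m u ^ 2 := Int.le_self_sq _
      nlinarith [sq_nonneg (m u)]
    rw [← hcol u]
    refine le_trans ?_ (le_add_of_nonneg_right h1)
    refine le_trans (Finset.sum_le_sum fun j hj => ?_)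
      (Finset.sum_le_sum_of_subset_of_nonneg (Finset.filter_subset _ _)
        fun j _ _ => mul_nonneg (sq_nonneg _) (Int.natCast_nonneg _))
    obtain ⟨hju, hcj⟩ := Finset.mem_filter.1 hj
    have hne : c j u ≠ 0 :=
      (hpar u j (Finset.ne_of_mem_erase hju).symm).resolve_left (not_not.2 hcj)
    refine le_mul_of_one_le_left (Int.natCast_nonneg _) ?_
    nlinarith [mul_self_pos.2 hne]
  have hAle : ∑ j ∈ A, w j ≤ (e u - 1) / (2 * e u + 1) := by
    have h1 : ∑ j ∈ A, s j ≤ e u - 1 := by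
      have : ((∑ j ∈ A, (ss hD j : ℤ) : ℤ) : ℝ) ≤ (((ee K u : ℤ) - 1 : ℤ) : ℝ) :=
        Int.cast_le.2 hAsum
      push_cast at this
      exact this
    refine le_trans (Finset.sum_le_sum (g := fun j => s j / (2 * e u + 1)) fun j _ => ?_) ?_
    · have h2 : e u ≤ e j := by
        show (ee K u : ℝ) ≤ (ee K j : ℝ)
        exact_mod_cast hu j
      simp only [hw]
      refine div_le_div_of_nonneg_left (by linarith [hs2 j]) (by linarith) ?_
      nlinarith [hs2 j]
    · rw [← Finset.sum_div]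
      exact div_le_div_of_nonneg_right h1 (by linarith)
  -- the comparison
  have hden : 0 < e u * s u + 1 := by nlinarith [hs2 u]
  have hB' : ∑ j ∈ B, w j ≤ e u / (e u * s u + 1) - (D u : ℝ) ^ 2 / γ := by
    have hspos : 0 < s u ^ 2 := by nlinarith [hs2 u]
    refine le_of_mul_le_mul_left ?_ hspos
    have heq : s u ^ 2 * (e u / (e u * s u + 1) - (D u : ℝ) ^ 2 / γ) =
        s u - w u - s u ^ 2 * (D u : ℝ) ^ 2 / γ := by
      have h' : s u - w u = s u ^ 2 * (e u / (e u * s u + 1)) := by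
        simp only [hw]
        rw [eq_comm, mul_div_assoc', eq_sub_iff_add_eq, ← add_div, div_eq_iff hden.ne']
        ring
      rw [h']; ring
    rw [heq]; linarith
  have hmain : 1 - 1 / γ + (D u : ℝ) ^ 2 / γ ≤
      (s u + e u) / (e u * s u + 1) + ∑ j ∈ A, w j := by
    have : w u + e u / (e u * s u + 1) = (s u + e u) / (e u * s u + 1) := by
      simp only [hw]; rw [← add_div]
    linarith
  have hX : (s u + e u) / (e u * s u + 1) ≤ (2 + e u) / (2 * e u + 1) := by
    rw [div_le_div_iff₀ hden (by linarith)]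
    nlinarith [mul_nonneg (sub_nonneg.2 (hs2 u)) (show 0 ≤ e u * e u - 1 by nlinarith)]
  have htot : (2 + e u) / (2 * e u + 1) + (e u - 1) / (2 * e u + 1) = 1 := by
    rw [← add_div, div_eq_one_iff_eq (by linarith)]; ring
  have hD1 : D u ^ 2 = 1 := by
    have h1 : (D u : ℝ) ^ 2 / γ ≤ 1 / γ := by linarith
    rw [div_le_div_iff_of_pos_right hγ0] at h1
    have h2 : D u ^ 2 ≤ 1 := by exact_mod_cast h1
    nlinarith [mul_self_pos.2 (hDD u).1]
  have hDr : (D u : ℝ) ^ 2 / γ = 1 / γ := by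
    rw [show (D u : ℝ) ^ 2 = 1 by exact_mod_cast hD1]
  have hsu : ss hD u = 2 := by
    have h1 : (2 + e u) / (2 * e u + 1) ≤ (s u + e u) / (e u * s u + 1) := by linarith
    rw [div_le_div_iff₀ (by linarith) hden] at h1
    have h2 : s u ≤ 2 := by
      by_contra h3
      nlinarith [mul_pos (sub_pos.2 (not_le.1 h3)) (show 0 < e u * e u - 1 by nlinarith)]
    have h3 : (ss hD u : ℝ) ≤ ((2 : ℕ) : ℝ) := by push_cast; exact h2
    exact le_antisymm (Nat.cast_le.1 h3) (ss_even hD u).2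
  -- linear images
  obtain ⟨χ⟩ := exists_mem hD u
  have hth : th hD χ = 1 := by
    have h1 : th hD χ ^ 2 + th hD (cj χ) ^ 2 ≤ ss hD u := by
      have h := Finset.sum_le_sum_of_subset (f := fun η : SI K u => th hD η ^ 2)
        (Finset.subset_univ ({χ, cj χ} : Finset (SI K u)))
      rwa [Finset.sum_pair (cj_ne hD χ).symm] at h
    have := th_pos hD χ
    have := th_pos hD (cj χ)
    rw [hsu] at h1
    nlinarith
  have hlin : ((ex hD χ : IrrCharacter G) : G → ℂ) 1 = 1 := by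
    obtain ⟨n, hn, hn'⟩ := IsIrr.one_eq_pos (ex hD χ).2
    have h := (hDD u).2 χ
    rw [star_eq hD, Pi.smul_apply, smul_eq_mul, hn', hth, Nat.cast_one, mul_one] at h
    rcases sgn_spec hD χ with hg | hg <;> rw [hg] at h
    · have h' : (n : ℤ) = D u := by
        have : ((n : ℤ) : ℂ) = ((D u : ℤ) : ℂ) := by push_cast; linear_combination h
        exact_mod_cast this
      rw [← h'] at hD1
      rw [hn', show n = 1 by nlinarith, Nat.cast_one]
    · have h' : -(n : ℤ) = D u := by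
        have : ((-(n : ℤ) : ℤ) : ℂ) = ((D u : ℤ) : ℂ) := by push_cast; linear_combination h
        exact_mod_cast this
      rw [← h'] at hD1
      rw [hn', show n = 1 by nlinarith, Nat.cast_one]
  obtain ⟨l, hl⟩ := linearHom_of_isCharacter (IsIrr.isCharacter (ex hD χ).2) hlin
  have hA0 : A = ∅ := by
    rw [hA, Finset.filter_eq_empty_iff]
    intro j hj h0
    obtain ⟨k, hk⟩ := (K j).ne_bot_iff_exists_ne_one.1 (hD.ne_bot j)
    have h := hc u j (Finset.ne_of_mem_erase hj).symm χ k k.2 fun e => hk (Subtype.ext e)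
    rw [h0, Int.cast_zero, zero_mul, star_eq hD, Pi.smul_apply, smul_eq_mul, hl] at h
    exact mul_ne_zero (sgn_ne hD χ) (Units.ne_zero _) h
  rw [hA0, Finset.sum_empty] at hmain
  have h1 : 1 ≤ (2 + e u) / (2 * e u + 1) := by linarith
  rw [le_div_iff₀ (by linarith)] at h1
  linarith

end Cfsg.Agent.Char.CoverTI
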