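import Cfsg.Agent.Lib.Char.CoverTIFamilies
import Cfsg.Agent.Lib.Char.FrobTIAbelian

/-!
The coherent character set of an abelian TI subgroup in a group of odd order.
-/

set_option autoImplicit false
set_option linter.unusedSectionVars false

namespace Cfsg.Agent.Char.FrobTI

open scoped ComplexConjugate
open Cfsg

universe u

variable {G : Type u} [Group G] [Fintype G] (K : Subgroup G)
  [Fintype ↥(Subgroup.normalizer (K : Set G))]

theorem exists_star_abelian (hodd : Odd (Nat.card G)) (hK : K ≠ ⊥)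
    (hTI : ∀ g : G, g ∉ Subgroup.normalizer (K : Set G) → ∀ k ∈ K, g * k * g⁻¹ ∈ K → k = 1)
    (hlt : K < Subgroup.normalizer (K : Set G))
    (hC : ∀ k ∈ K, k ≠ 1 → Subgroup.centralizer ({k} : Set G) ≤ K)
    (hab : ∀ a ∈ K, ∀ b ∈ K, a * b = b * a) :
    ∃ star, StarData K {χ : ↥(Subgroup.normalizer (K : Set G)) → ℂ |
      IsIrrCharacter ↥(Subgroup.normalizer (K : Set G)) χ ∧ NonTriv (KN K) χ} star := by
  classical
  have hfix := fix_of_centralizer K hC
  have hab' : ∀ a ∈ KN K, ∀ b ∈ KN K, a * b = b * a := fun a ha b hb =>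
    Subtype.ext (hab _ ha _ hb)
  set S : Set (↥(Subgroup.normalizer (K : Set G)) → ℂ) := {χ : ↥(Subgroup.normalizer (K : Set G)) → ℂ | IsIrrCharacter ↥(Subgroup.normalizer (K : Set G)) χ ∧ NonTriv (KN K) χ} with hS
  have hdeg : ∀ χ : Rel K, (χ.1 : ↥(Subgroup.normalizer (K : Set G)) → ℂ) 1 = ((KN K).index : ℂ) :=
    fun χ => degree_eq_index (KN K) hab' hfix χ.1.2 χ.2
  -- two members
  have hmem : Nonempty (Rel K) := by
    by_contra hno
    have h := sum_sq_nonTriv (KN K)
    have h0 : ∑ χ ∈ Finset.univ.filter (fun χ : IrrCharacter ↥(Subgroup.normalizer (K : Set G)) =>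
        NonTriv (KN K) (χ : ↥(Subgroup.normalizer (K : Set G)) → ℂ)),
        (χ : ↥(Subgroup.normalizer (K : Set G)) → ℂ) 1 * (χ : ↥(Subgroup.normalizer (K : Set G)) → ℂ) 1 = 0 :=
      Finset.sum_eq_zero fun χ hχ => absurd ⟨⟨χ, (Finset.mem_filter.1 hχ).2⟩⟩ hno
    rw [h0, eq_comm,
      sub_eq_zero, Nat.cast_inj, ← (KN K).card_mul_index,
      Nat.mul_eq_right Subgroup.index_ne_zero_of_finite, Subgroup.card_eq_one,
      Subgroup.subgroupOf_eq_bot] at h
    exact hK (disjoint_self.1 (Disjoint.mono_right Subgroup.le_normalizer h))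
  obtain ⟨χ₀⟩ := hmem
  obtain ⟨k₀, hk₀, hk₀ne⟩ := id χ₀.2
  let χ₁ : Rel K := ⟨⟨fun x => conj ((χ₀.1 : ↥(Subgroup.normalizer (K : Set G)) → ℂ) x), IsIrr.conj χ₀.1.2⟩,
    k₀, hk₀, fun h => hk₀ne ((starRingEnd ℂ).injective h)⟩
  have hne : χ₁ ≠ χ₀ := fun h => by
    have h1 := Cfsg.Agent.Block.FS.eq_one_of_real_of_odd
      (Odd.of_dvd_nat hodd (Subgroup.card_subgroup_dvd_card _)) χ₀.1
      (fun g => congrFun (congrArg (fun z : Rel K => (z.1 : ↥(Subgroup.normalizer (K : Set G)) → ℂ)) h) g)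
    exact hk₀ne (by rw [h1])
  rcases brauer_suzuki K hTI hlt hC hab with ⟨h1, -⟩ | ⟨ε, f, hε, hf, hind⟩
  · exact absurd ((Nat.card_eq_one_iff_unique.1 h1).1.allEq χ₁ χ₀) hne
  have hεε : ε * conj ε = 1 := by rcases hε with h | h <;> rw [h] <;> simp
  -- the map
  let T : (↥(Subgroup.normalizer (K : Set G)) → ℂ) → (G → ℂ) := fun α =>
    ε • ∑ χ : Rel K, classInner α (χ.1 : ↥(Subgroup.normalizer (K : Set G)) → ℂ) • (f χ : G → ℂ)
  have hexp : ∀ α ∈ zspan S, α = ∑ χ : Rel K, classInner α (χ.1 : ↥(Subgroup.normalizer (K : Set G)) → ℂ) • (χ.1 : ↥(Subgroup.normalizer (K : Set G)) → ℂ) := by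
    intro α hα
    induction hα using Submodule.span_induction with
    | mem x hx =>
      rw [Finset.sum_eq_single (⟨⟨x, hx.1⟩, hx.2⟩ : Rel K)]
      · simp [classInner_self_irr hx.1]
      · intro χ _ hχ
        rw [classInner_irr_ne hx.1 χ.1.2 fun e => hχ (Subtype.ext (Subtype.ext e.symm)), zero_smul]
      · simp
    | zero => simp [classInner_zero_left]
    | add x y _ _ hx hy =>
      conv_lhs => rw [hx, hy]
      simp only [classInner_add_left, add_smul, Finset.sum_add_distrib]
    | smul c x _ hx =>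
      conv_lhs => rw [hx]
      simp only [← Int.cast_smul_eq_zsmul ℂ, classInner_smul_left, mul_smul, Finset.smul_sum]
  have hgenN : ∀ α ∈ zspan S, IsGeneralizedCharacter ↥(Subgroup.normalizer (K : Set G)) α := by
    intro α hα
    induction hα using Submodule.span_induction with
    | mem x hx => exact IsGenChar.of_isCharacter (IsIrr.isCharacter hx.1)
    | zero => exact IsGenChar.zero
    | add x y _ _ hx hy => exact IsGenChar.add hx hy
    | smul c x _ hx => rw [← Int.cast_smul_eq_zsmul ℂ]; exact IsGenChar.zsmul hx c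
  refine ⟨T, hTI, hlt, hC, fun χ => Iff.rfl, ⟨fun α _ β _ => ?_, fun α _ n => ?_, fun α hα β hβ => ?_,
    fun α hα => ?_⟩, fun α hα => ?_⟩
  · simp only [T, classInner_add_left, add_smul, Finset.sum_add_distrib, smul_add]
  · simp only [T, ← Int.cast_smul_eq_zsmul ℂ, classInner_smul_left, mul_smul, ← Finset.smul_sum]
    exact smul_comm _ _ _
  · have hTT : ∀ χ : Rel K, classInner ((f χ : G → ℂ)) (∑ ξ : Rel K,
        classInner β (ξ.1 : ↥(Subgroup.normalizer (K : Set G)) → ℂ) • (f ξ : G → ℂ)) = conj (classInner β (χ.1 : ↥(Subgroup.normalizer (K : Set G)) → ℂ)) := fun χ => by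
      rw [classInner_sum_right, Finset.sum_eq_single χ]
      · rw [classInner_smul_right, classInner_self_irr (f χ).2, mul_one]
      · intro ξ _ hξ
        rw [classInner_smul_right, classInner_irr_ne (f χ).2 (f ξ).2
          fun e => hξ (hf (Subtype.ext e)).symm, mul_zero]
      · simp
    conv_rhs => rw [hexp α hα]
    rw [classInner_smul_left, classInner_smul_right, ← mul_assoc, hεε, one_mul, classInner_sum_left,
      classInner_sum_left]
    refine Finset.sum_congr rfl fun χ _ => ?_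
    rw [classInner_smul_left, classInner_smul_left, hTT χ, classInner_conj_symm]
  · have hsum : IsGeneralizedCharacter G
        (∑ χ : Rel K, classInner α (χ.1 : ↥(Subgroup.normalizer (K : Set G)) → ℂ) • (f χ : G → ℂ)) := by
      refine IsGenChar.sum fun χ _ => ?_
      obtain ⟨w, hw⟩ := IsGenChar.classInner_int (hgenN α hα)
        (IsGenChar.of_isCharacter (IsIrr.isCharacter χ.1.2))
      rw [hw]
      exact IsGenChar.zsmul (IsGenChar.of_isCharacter (IsIrr.isCharacter (f χ).2)) w
    rcases hε with h | h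
    · simpa [T, h] using hsum
    · simpa [T, h] using IsGenChar.neg hsum
  · have h0 : ∑ χ : Rel K, classInner α (χ.1 : ↥(Subgroup.normalizer (K : Set G)) → ℂ) = 0 := by
      have h := congrFun (hexp α hα.1) 1
      simp only [hα.2 1 (by simp), Finset.sum_apply, Pi.smul_apply, smul_eq_mul, hdeg,
        ← Finset.sum_mul] at h
      exact (mul_eq_zero.1 h.symm).resolve_right (Nat.cast_ne_zero.2 Subgroup.index_ne_zero_of_finite)
    have hα' : α = ∑ χ : Rel K, classInner α (χ.1 : ↥(Subgroup.normalizer (K : Set G)) → ℂ) •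
        ((χ.1 : ↥(Subgroup.normalizer (K : Set G)) → ℂ) - (χ₀.1 : ↥(Subgroup.normalizer (K : Set G)) → ℂ)) := by
      simp only [smul_sub, Finset.sum_sub_distrib, ← Finset.sum_smul, h0, zero_smul, sub_zero]
      exact hexp α hα.1
    conv_rhs => rw [hα', indFun_sum]
    simp only [indFun_smul, hind, T, Finset.smul_sum, smul_comm ε]
    simp only [smul_sub, Finset.sum_sub_distrib, ← Finset.sum_smul, h0, zero_smul, sub_zero]

end Cfsg.Agent.Char.FrobTI
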