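import Cfsg.Agent.Lib.Char.FrobTIStar
import Cfsg.Agent.Lib.Block.SchurIndicator
import Cfsg.Agent.S1528

/-!
A group of odd order covered by TI subgroups with Frobenius normalizers and coherent character
sets: the families of exceptional characters.
-/

set_option autoImplicit false
set_option linter.unusedSectionVars false

namespace Cfsg.Agent.Char.CoverTI

open scoped ComplexConjugate
open Cfsg Cfsg.Agent.Char.FrobTI

universe u v

variable {G : Type u} [Group G] [Fintype G] {ι : Type v} [Fintype ι]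

/-- The normalizer of a member. -/
abbrev NI (K : ι → Subgroup G) (i : ι) : Subgroup G := Subgroup.normalizer (K i : Set G)

/-- The characters of a normalizer that are nontrivial on the member. -/
abbrev SI (K : ι → Subgroup G) (i : ι) : Type u :=
  {χ : IrrCharacter ↥(NI K i) // NonTriv (KN (K i)) (χ : ↥(NI K i) → ℂ)}

variable (K : ι → Subgroup G) [∀ i, Fintype ↥(NI K i)]

/-- A covering of a group of odd order with coherent families. -/
structure Data (star : ∀ i, (↥(NI K i) → ℂ) → (G → ℂ)) : Prop where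
  odd : Odd (Nat.card G)
  ne_bot : ∀ i, K i ≠ ⊥
  star_data : ∀ i, StarData (K i)
    {χ : ↥(NI K i) → ℂ | IsIrrCharacter ↥(NI K i) χ ∧ NonTriv (KN (K i)) χ} (star i)
  disj : ∀ i j, i ≠ j → ∀ k ∈ K i, k ≠ 1 → ∀ g : G, g * k * g⁻¹ ∉ K j
  cover : ∀ g : G, g ≠ 1 → ∃ i, ∃ t : G, t * g * t⁻¹ ∈ K i

variable {K} {star : ∀ i, (↥(NI K i) → ℂ) → (G → ℂ)}

/-- The index of a member in its normalizer. -/
noncomputable abbrev ee (K : ι → Subgroup G) (i : ι) : ℕ := (KN (K i)).index

theorem ee_pos (i : ι) : 0 < ee K i := Nat.pos_of_ne_zero Subgroup.index_ne_zero_of_finite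

theorem card_KN (i : ι) : Nat.card (KN (K i)) = Nat.card (K i) :=
  Nat.card_congr (Subgroup.subgroupOfEquivOfLe Subgroup.le_normalizer).toEquiv

theorem card_NI (i : ι) : Nat.card ↥(NI K i) = Nat.card (K i) * ee K i := by
  rw [← card_KN (K := K) i]
  exact ((KN (K i)).card_mul_index).symm

theorem Data.mem_S (_hD : Data K star) {i : ι} (χ : SI K i) :
    (χ.1 : ↥(NI K i) → ℂ) ∈
      {χ : ↥(NI K i) → ℂ | IsIrrCharacter ↥(NI K i) χ ∧ NonTriv (KN (K i)) χ} :=
  ⟨χ.1.2, χ.2⟩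

theorem Data.exists_th (hD : Data K star) {i : ι} (χ : SI K i) :
    ∃ n : ℕ, 0 < n ∧ (χ.1 : ↥(NI K i) → ℂ) 1 = ((ee K i * n : ℕ) : ℂ) := by
  classical
  letI : Fintype (KN (K i)) := Fintype.ofFinite _
  obtain ⟨φ, hφ, he⟩ := Cfsg.Agent.S1528.result (KN (K i))
    (fun k hk hk1 => fun x hx => fix_of_centralizer (K i) (hD.star_data i).cent k hk hk1 x
      (Subgroup.mem_centralizer_singleton_iff.1 hx)) (χ.1 : ↥(NI K i) → ℂ) χ.1.2 χ.2
  obtain ⟨n, hn, hn'⟩ := IsIrr.one_eq_pos hφ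
  refine ⟨n, hn, ?_⟩
  rw [he, indFun_one_eq, hn', Nat.cast_mul]

/-- The degree divided by the index. -/
noncomputable def th (hD : Data K star) {i : ι} (χ : SI K i) : ℕ := (hD.exists_th χ).choose

theorem th_pos (hD : Data K star) {i : ι} (χ : SI K i) : 0 < th hD χ :=
  (hD.exists_th χ).choose_spec.1

theorem th_spec (hD : Data K star) {i : ι} (χ : SI K i) :
    (χ.1 : ↥(NI K i) → ℂ) 1 = ((ee K i * th hD χ : ℕ) : ℂ) :=
  (hD.exists_th χ).choose_spec.2

open Classical in
/-- The sum of the squares. -/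
noncomputable def ss (hD : Data K star) (i : ι) : ℕ := ∑ χ : SI K i, th hD χ ^ 2

open Classical in
theorem sum_SI {i : ι} (F : IrrCharacter ↥(NI K i) → ℂ) :
    ∑ χ : SI K i, F χ.1 = ∑ χ ∈ Finset.univ.filter
      (fun χ : IrrCharacter ↥(NI K i) => NonTriv (KN (K i)) (χ : ↥(NI K i) → ℂ)), F χ :=
  (Finset.sum_subtype _ (fun χ => by simp) F).symm

theorem ss_spec (hD : Data K star) (i : ι) :
    ee K i * ss hD i + 1 = Nat.card (K i) := by
  classical
  have h := sum_sq_nonTriv (KN (K i))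
  rw [← sum_SI] at h
  simp only [th_spec hD, card_NI] at h
  have h' : (ee K i : ℂ) * ((ee K i : ℂ) * (ss hD i : ℂ)) =
      (ee K i : ℂ) * ((Nat.card (K i) : ℂ) - 1) := by
    rw [ss, Nat.cast_sum, Finset.mul_sum, Finset.mul_sum]
    push_cast at h ⊢
    rw [Finset.sum_congr rfl (g := fun χ : SI K i =>
      (ee K i : ℂ) * (th hD χ : ℂ) * ((ee K i : ℂ) * (th hD χ : ℂ))) fun χ _ => by ring, h]
    ring
  have h2 := mul_left_cancel₀ (Nat.cast_ne_zero.2 (ee_pos i).ne') h'
  have h3 : ((ee K i * ss hD i + 1 : ℕ) : ℂ) = (Nat.card (K i) : ℂ) := by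
    push_cast
    rw [h2]; ring
  exact_mod_cast h3

theorem odd_ee (hD : Data K star) (i : ι) : Odd (ee K i) := by
  refine Odd.of_dvd_nat hD.odd ((dvd_mul_left (ee K i) (Nat.card (K i))).trans ?_)
  rw [← card_NI i]
  exact Subgroup.card_subgroup_dvd_card _

theorem ss_even (hD : Data K star) (i : ι) : Even (ss hD i) ∧ 2 ≤ ss hD i := by
  have hodd : Odd (Nat.card (K i)) :=
    Odd.of_dvd_nat hD.odd (Subgroup.card_subgroup_dvd_card _)
  have h := ss_spec hD i
  have hev : Even (ee K i * ss hD i) := by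
    rw [← h] at hodd
    exact Nat.odd_add_one.1 hodd |> Nat.not_odd_iff_even.1
  have hev' : Even (ss hD i) := (Nat.even_mul.1 hev).resolve_left
    (Nat.not_even_iff_odd.2 (odd_ee hD i))
  have hpos : ss hD i ≠ 0 := fun h0 => by
    rw [h0, mul_zero] at h
    exact hD.ne_bot i (Subgroup.card_eq_one.1 h.symm)
  obtain ⟨c, hc⟩ := hev'
  exact ⟨⟨c, hc⟩, by omega⟩

theorem exists_mem (hD : Data K star) (i : ι) : Nonempty (SI K i) := by
  by_contra h
  rw [not_nonempty_iff] at h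
  have := (ss_even hD i).2
  simp [ss] at this

/-- Complex conjugation on a family. -/
noncomputable def cj {i : ι} (χ : SI K i) : SI K i :=
  ⟨⟨fun x => conj ((χ.1 : ↥(NI K i) → ℂ) x), IsIrr.conj χ.1.2⟩, by
    obtain ⟨k, hk, hne⟩ := χ.2
    exact ⟨k, hk, fun h => hne ((starRingEnd ℂ).injective h)⟩⟩

theorem cj_ne (hD : Data K star) {i : ι} (χ : SI K i) : cj χ ≠ χ := by
  intro h
  have h1 := Cfsg.Agent.Block.FS.eq_one_of_real_of_odd
    (Odd.of_dvd_nat hD.odd (Subgroup.card_subgroup_dvd_card _)) χ.1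
    (fun g => congrFun (congrArg (fun z : SI K i => (z.1 : ↥(NI K i) → ℂ)) h) g)
  obtain ⟨k, hk, hne⟩ := χ.2
  exact hne (by rw [h1])

theorem exists_ne (hD : Data K star) {i : ι} (χ : SI K i) : ∃ ξ : SI K i, ξ ≠ χ :=
  ⟨cj χ, cj_ne hD χ⟩

/-- The combination of two members vanishing at one. -/
noncomputable def beta (hD : Data K star) {i : ι} (χ ξ : SI K i) : ↥(NI K i) → ℂ :=
  ((ee K i * th hD ξ : ℕ) : ℤ) • (χ.1 : ↥(NI K i) → ℂ) +
    (-((ee K i * th hD χ : ℕ) : ℤ)) • (ξ.1 : ↥(NI K i) → ℂ)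

theorem star_beta (hD : Data K star) {i : ι} (χ ξ : SI K i) :
    indFun (NI K i) (beta hD χ ξ) =
      ((ee K i * th hD ξ : ℕ) : ℂ) • star i χ.1 - ((ee K i * th hD χ : ℕ) : ℂ) • star i ξ.1 := by
  obtain ⟨h1, h2⟩ := (hD.star_data i).comb (hD.mem_S χ) (hD.mem_S ξ) (th_spec hD χ) (th_spec hD ξ)
  rw [← h2, (hD.star_data i).ext _ h1]
  rfl

theorem beta_supp (hD : Data K star) {i : ι} (χ ξ : SI K i) (x : ↥(NI K i))
    (hx : x ∉ KN (K i) ∨ x = 1) : beta hD χ ξ x = 0 := by
  rcases hx with hx | rfl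
  · simp [beta, vanish (KN (K i)) (fix_of_centralizer (K i) (hD.star_data i).cent) χ.1.2 χ.2 hx,
      vanish (KN (K i)) (fix_of_centralizer (K i) (hD.star_data i).cent) ξ.1.2 ξ.2 hx]
  · simp [beta, th_spec hD]
    ring

/-- The difference is supported on the conjugates of the nontrivial elements of the member. -/
theorem ind_beta_eq_zero (hD : Data K star) {i : ι} (χ ξ : SI K i) {g : G}
    (hg : ∀ t : G, t * g * t⁻¹ ∈ K i → g = 1) : indFun (NI K i) (beta hD χ ξ) g = 0 := by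
  refine indFun_eq_zero_of_not_conj _ _ fun x hx => beta_supp hD χ ξ _ ?_
  by_cases hm : (⟨x⁻¹ * g * x, hx⟩ : ↥(NI K i)) ∈ KN (K i)
  · refine Or.inr (Subtype.ext ?_)
    have hm' : x⁻¹ * g * x ∈ K i := Subgroup.mem_subgroupOf.1 hm
    have h1 : g = 1 := hg x⁻¹ (by simpa using hm')
    show x⁻¹ * g * x = 1
    rw [h1]; group
  · exact Or.inl hm

theorem ind_beta_orth (hD : Data K star) {i j : ι} (hij : i ≠ j) (χ ξ : SI K i) (η ζ : SI K j) :
    classInner (indFun (NI K i) (beta hD χ ξ)) (indFun (NI K j) (beta hD η ζ)) = 0 := by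
  unfold classInner
  rw [Finset.sum_eq_zero fun g _ => ?_, mul_zero]
  by_cases hg : ∀ t : G, t * g * t⁻¹ ∈ K i → g = 1
  · rw [ind_beta_eq_zero hD χ ξ hg, zero_mul]
  · push Not at hg
    obtain ⟨t, ht, hg1⟩ := hg
    rw [ind_beta_eq_zero hD η ζ (g := g) fun s hs => ?_, map_zero, mul_zero]
    exfalso
    refine hD.disj i j hij _ ht ?_ (s * t⁻¹) ?_
    · intro h
      rw [mul_inv_eq_one] at h
      exact hg1 (mul_eq_left.1 h)
    · simpa [mul_assoc] using hs

theorem star_norm (hD : Data K star) {i : ι} (χ ξ : SI K i) :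
    classInner (star i χ.1) (star i ξ.1) = if χ = ξ then 1 else 0 := by
  classical
  rw [(hD.star_data i).isometry.2.2.1 _ ((hD.star_data i).mem_span (hD.mem_S χ)) _
    ((hD.star_data i).mem_span (hD.mem_S ξ)), classInner_irr_eq_ite χ.1.2 ξ.1.2]
  simp [Subtype.coe_inj]

theorem star_irr (hD : Data K star) {i : ι} (χ : SI K i) :
    ∃ ψ : IrrCharacter G, ∃ ε : ℂ, (ε = 1 ∨ ε = -1) ∧ star i χ.1 = ε • (ψ : G → ℂ) := by
  have hn : classInner (star i χ.1) (star i χ.1) = 1 := by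
    classical rw [star_norm hD, if_pos rfl]
  rcases IsGenChar.norm_one ((hD.star_data i).gen (hD.mem_S χ)) hn with h | h
  · exact ⟨⟨_, h⟩, 1, Or.inl rfl, by simp⟩
  · exact ⟨⟨_, h⟩, -1, Or.inr rfl, by simp⟩

/-- The exceptional character. -/
noncomputable def ex (hD : Data K star) {i : ι} (χ : SI K i) : IrrCharacter G :=
  (star_irr hD χ).choose

/-- Its sign. -/
noncomputable def sgn (hD : Data K star) {i : ι} (χ : SI K i) : ℂ :=
  (star_irr hD χ).choose_spec.choose

theorem sgn_spec (hD : Data K star) {i : ι} (χ : SI K i) : sgn hD χ = 1 ∨ sgn hD χ = -1 :=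
  (star_irr hD χ).choose_spec.choose_spec.1

theorem star_eq (hD : Data K star) {i : ι} (χ : SI K i) :
    star i χ.1 = sgn hD χ • (ex hD χ : G → ℂ) :=
  (star_irr hD χ).choose_spec.choose_spec.2

theorem sgn_mul_conj (hD : Data K star) {i : ι} (χ : SI K i) :
    sgn hD χ * conj (sgn hD χ) = 1 := by
  rcases sgn_spec hD χ with h | h <;> rw [h] <;> simp

theorem star_one (hD : Data K star) {i : ι} (χ ξ : SI K i) :
    (th hD ξ : ℂ) * star i χ.1 1 = (th hD χ : ℂ) * star i ξ.1 1 := by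
  have h := congrFun (star_beta hD χ ξ) 1
  rw [indFun_one_eq, beta_supp hD χ ξ 1 (Or.inr rfl), mul_zero] at h
  simp only [Pi.sub_apply, Pi.smul_apply, smul_eq_mul, Nat.cast_mul] at h
  refine mul_left_cancel₀ (Nat.cast_ne_zero.2 (ee_pos (K := K) i).ne') ?_
  linear_combination -h

theorem star_one_ne (hD : Data K star) {i : ι} (χ : SI K i) : star i χ.1 1 ≠ 0 := by
  rw [star_eq hD, Pi.smul_apply, smul_eq_mul]
  refine mul_ne_zero ?_ (IsIrr.one_ne_zero (ex hD χ).2)
  rcases sgn_spec hD χ with h | h <;> rw [h] <;> norm_num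

theorem sgn_real (hD : Data K star) {i : ι} (χ : SI K i) : conj (sgn hD χ) = sgn hD χ := by
  rcases sgn_spec hD χ with h | h <;> rw [h] <;> simp

theorem sgn_ne (hD : Data K star) {i : ι} (χ : SI K i) : sgn hD χ ≠ 0 := by
  rcases sgn_spec hD χ with h | h <;> rw [h] <;> norm_num

theorem ex_injective (hD : Data K star) {i : ι} {χ ξ : SI K i} (h : ex hD χ = ex hD ξ) :
    χ = ξ := by
  classical
  by_contra hne
  have h1 := star_norm hD χ ξ
  rw [if_neg hne, star_eq hD χ, star_eq hD ξ, classInner_smul_left, classInner_smul_right, h,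
    classInner_self_irr (ex hD ξ).2, mul_one] at h1
  exact mul_ne_zero (sgn_ne hD χ) ((map_ne_zero _).2 (sgn_ne hD ξ)) h1

/-- Different families are disjoint. -/
theorem ex_ne (hD : Data K star) {i j : ι} (hij : i ≠ j) (χ : SI K i) (η : SI K j) :
    ex hD χ ≠ ex hD η := by
  classical
  intro hψ
  obtain ⟨ξ, hξ⟩ := exists_ne hD χ
  obtain ⟨ζ, hζ⟩ := exists_ne hD η
  have h := ind_beta_orth hD hij χ ξ η ζ
  rw [star_beta, star_beta, star_eq hD χ, star_eq hD ξ, star_eq hD η, star_eq hD ζ] at h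
  simp only [classInner_sub_left, classInner_sub_right, classInner_smul_left,
    classInner_smul_right, classInner_irr_eq_ite (ex hD χ).2 (ex hD η).2,
    classInner_irr_eq_ite (ex hD χ).2 (ex hD ζ).2, classInner_irr_eq_ite (ex hD ξ).2 (ex hD η).2,
    classInner_irr_eq_ite (ex hD ξ).2 (ex hD ζ).2, Subtype.coe_inj, map_natCast, sgn_real hD] at h
  have n1 : ex hD χ ≠ ex hD ζ := fun e => hζ (ex_injective hD (e.symm.trans hψ))
  have n2 : ex hD ξ ≠ ex hD η := fun e => hξ (ex_injective hD (e.trans hψ.symm))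
  rw [if_pos hψ, if_neg n1, if_neg n2] at h
  have hee : ((ee K i : ℂ) * (ee K j : ℂ)) ≠ 0 :=
    mul_ne_zero (Nat.cast_ne_zero.2 (ee_pos i).ne') (Nat.cast_ne_zero.2 (ee_pos j).ne')
  have hth : ∀ {l : ι} (x : SI K l), (th hD x : ℂ) ≠ 0 := fun x =>
    Nat.cast_ne_zero.2 (th_pos hD x).ne'
  push_cast at h
  by_cases hψ' : ex hD ξ = ex hD ζ
  · -- the degrees exclude a second coincidence
    rw [if_pos hψ'] at h
    have h' : (th hD ξ : ℂ) * (th hD ζ : ℂ) * (sgn hD χ * sgn hD η) +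
        (th hD χ : ℂ) * (th hD η : ℂ) * (sgn hD ξ * sgn hD ζ) = 0 := by
      refine mul_left_cancel₀ hee ?_
      linear_combination h
    set P := ((ex hD χ : IrrCharacter G) : G → ℂ) 1 with hP
    set Q := ((ex hD ξ : IrrCharacter G) : G → ℂ) 1 with hQ
    have e1 := star_one hD χ ξ
    have e2 := star_one hD η ζ
    rw [star_eq hD χ, star_eq hD ξ, Pi.smul_apply, Pi.smul_apply, smul_eq_mul, smul_eq_mul,
      ← hP, ← hQ] at e1
    rw [star_eq hD η, star_eq hD ζ, Pi.smul_apply, Pi.smul_apply, smul_eq_mul, smul_eq_mul,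
      ← hψ, ← hψ', ← hP, ← hQ] at e2
    have s1 : sgn hD χ * sgn hD χ = 1 := by
      rcases sgn_spec hD χ with h | h <;> rw [h] <;> norm_num
    have s2 : sgn hD ζ * sgn hD ζ = 1 := by
      rcases sgn_spec hD ζ with h | h <;> rw [h] <;> norm_num
    -- positive quantities
    obtain ⟨p, hp, hp'⟩ := IsIrr.one_eq_pos (ex hD χ).2
    obtain ⟨q, hq, hq'⟩ := IsIrr.one_eq_pos (ex hD ξ).2
    rw [← hP] at hp'
    rw [← hQ] at hq'
    have k1 : sgn hD ξ = sgn hD χ * ((th hD ξ * p : ℕ) : ℂ) / ((th hD χ * q : ℕ) : ℂ) := by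
      rw [eq_div_iff (Nat.cast_ne_zero.2 (Nat.mul_pos (th_pos hD χ) hq).ne')]
      push_cast
      rw [← hp', ← hq']
      linear_combination -e1
    have k2 : sgn hD η = sgn hD ζ * ((th hD η * q : ℕ) : ℂ) / ((th hD ζ * p : ℕ) : ℂ) := by
      rw [eq_div_iff (Nat.cast_ne_zero.2 (Nat.mul_pos (th_pos hD ζ) hp).ne')]
      push_cast
      rw [← hp', ← hq']
      linear_combination e2
    rw [k1, k2] at h'
    push_cast at h'
    have hp0 : (p : ℂ) ≠ 0 := Nat.cast_ne_zero.2 hp.ne'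
    have hq0 : (q : ℂ) ≠ 0 := Nat.cast_ne_zero.2 hq.ne'
    have := hth χ
    have := hth ξ
    have := hth η
    have := hth ζ
    have hsz : sgn hD χ * sgn hD ζ ≠ 0 := mul_ne_zero (sgn_ne hD χ) (sgn_ne hD ζ)
    field_simp at h'
    have hsum : ((q * q + p * p : ℕ) : ℂ) = 0 := by
      refine ((mul_eq_zero (a := sgn hD χ * sgn hD ζ)).1 ?_).resolve_left hsz
      push_cast
      first
        | linear_combination h'
        | (refine mul_left_cancel₀ (hth η) ?_; linear_combination h')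
        | (refine mul_left_cancel₀ (mul_ne_zero (hth η) (hth ξ)) ?_; linear_combination h')
    rw [Nat.cast_eq_zero] at hsum
    have := Nat.mul_pos hp hp
    omega
  · rw [if_neg hψ'] at h
    refine mul_ne_zero hee (mul_ne_zero (mul_ne_zero (hth ξ) (hth ζ))
      (mul_ne_zero (sgn_ne hD χ) (sgn_ne hD η))) ?_
    linear_combination h

/-- No exceptional character is principal. -/
theorem ex_ne_one (hD : Data K star) {i : ι} (χ : SI K i) :
    (ex hD χ : G → ℂ) ≠ fun _ => 1 := by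
  classical
  intro hψ
  obtain ⟨ξ, hξ⟩ := exists_ne hD χ
  letI : Fintype ↥(NI K i) := inferInstance
  have h := classInner_indFun (NI K i) (beta hD χ ξ) (χ := fun _ : G => (1 : ℂ))
    (fun _ _ => rfl)
  rw [star_beta, star_eq hD χ, star_eq hD ξ] at h
  have hz : classInner (beta hD χ ξ) (fun _ : ↥(NI K i) => (1 : ℂ)) = 0 := by
    simp only [beta, ← Int.cast_smul_eq_zsmul ℂ, classInner_add_left, classInner_smul_left]
    have hn : ∀ x : SI K i, classInner (x.1 : ↥(NI K i) → ℂ) (fun _ => (1 : ℂ)) = 0 := fun x =>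
      classInner_irr_ne x.1.2 isIrr_one fun e => by
        obtain ⟨k, hk, hne⟩ := x.2
        exact hne (by rw [e])
    rw [hn, hn, mul_zero, mul_zero, add_zero]
  rw [hz, classInner_sub_left, classInner_smul_left, classInner_smul_left, classInner_smul_left,
    classInner_smul_left, hψ, classInner_self_irr isIrr_one, mul_one,
    classInner_irr_ne (ex hD ξ).2 isIrr_one fun e =>
      hξ (ex_injective hD (Subtype.ext (e.trans hψ.symm))), mul_zero, mul_zero, sub_zero] at h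
  exact mul_ne_zero (Nat.cast_ne_zero.2 (Nat.mul_pos (ee_pos i) (th_pos hD ξ)).ne')
    (sgn_ne hD χ) h

theorem star_orth (hD : Data K star) {i j : ι} (hij : i ≠ j) (χ : SI K i) (η : SI K j) :
    classInner (star i χ.1) (star j η.1) = 0 := by
  rw [star_eq hD χ, star_eq hD η, classInner_smul_left, classInner_smul_right,
    classInner_irr_ne (ex hD χ).2 (ex hD η).2 fun e => ex_ne hD hij χ η (Subtype.ext e),
    mul_zero, mul_zero]

/-- A generalized character orthogonal to a family is a constant integer on its member. -/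
theorem const_of_orth (hD : Data K star) {i : ι} {F : G → ℂ} (hF : IsGeneralizedCharacter G F)
    (h : ∀ χ : SI K i, classInner F (star i χ.1) = 0) :
    ∃ z : ℤ, ∀ k ∈ K i, k ≠ 1 → F k = (z : ℂ) := by
  classical
  set N := NI K i
  set f : ↥N → ℂ := fun y => F y with hf
  have hgen : IsGeneralizedCharacter ↥N f := IsGenChar.comp N.subtype hF
  obtain ⟨χ₀⟩ := exists_mem hD i
  set t := classInner f (χ₀.1 : ↥N → ℂ) / ((ee K i * th hD χ₀ : ℕ) : ℂ) with ht
  have hne : ((ee K i * th hD χ₀ : ℕ) : ℂ) ≠ 0 :=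
    Nat.cast_ne_zero.2 (Nat.mul_pos (ee_pos i) (th_pos hD χ₀)).ne'
  have hprop : ∀ ρ : IrrCharacter ↥N, NonTriv (KN (K i)) (ρ : ↥N → ℂ) →
      classInner f (ρ : ↥N → ℂ) = t * (ρ : ↥N → ℂ) 1 := by
    intro ρ hρ
    have e := (hD.star_data i).inner_comb (hD.mem_S χ₀) (hD.mem_S ⟨ρ, hρ⟩) (th_spec hD χ₀)
      (th_spec hD ⟨ρ, hρ⟩) (IsGenChar.classFun hF)
    rw [h χ₀, h ⟨ρ, hρ⟩] at e
    rw [ht, th_spec hD ⟨ρ, hρ⟩]
    field_simp
    linear_combination -e
  obtain ⟨z, hz⟩ := int_of_int (KN (K i)) (t := t) (χ₀ := χ₀.1) χ₀.2 fun ρ hρ => by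
    obtain ⟨w, hw⟩ := IsGenChar.classInner_int hgen
      (IsGenChar.of_isCharacter (IsIrr.isCharacter ρ.2))
    exact ⟨w, by rw [← hprop ρ hρ, hw]⟩
  choose w hw using fun ρ : IrrCharacter ↥N => IsGenChar.classInner_int hgen
    (IsGenChar.of_isCharacter (IsIrr.isCharacter ρ.2))
  choose d hd0 hd using fun ρ : IrrCharacter ↥N => IsIrr.one_eq_pos ρ.2
  refine ⟨(∑ ρ ∈ Finset.univ.filter (fun ρ : IrrCharacter ↥N =>
    ¬ NonTriv (KN (K i)) (ρ : ↥N → ℂ)), w ρ * (d ρ : ℤ)) - z, fun k hk hk1 => ?_⟩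
  have e := value_of_proportional (KN (K i)) (IsGenChar.classFun hgen) hprop
    (k := ⟨k, Subgroup.le_normalizer hk⟩) hk (fun he => hk1 (congrArg Subtype.val he))
  rw [hz] at e
  rw [show F k = f ⟨k, Subgroup.le_normalizer hk⟩ from rfl, e]
  push_cast
  simp [hw, hd]
  exact Finset.sum_congr (by ext; simp) fun _ _ => rfl

/-- Every nonprincipal irreducible character is exceptional. -/
theorem exists_ex (hD : Data K star) (ψ : IrrCharacter G) (hψ : (ψ : G → ℂ) ≠ fun _ => 1) :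
    ∃ i, ∃ χ : SI K i, ex hD χ = ψ := by
  classical
  by_contra hno
  push Not at hno
  have horth : ∀ i, ∀ χ : SI K i, classInner (ψ : G → ℂ) (star i χ.1) = 0 := fun i χ => by
    rw [star_eq hD, classInner_smul_right,
      classInner_irr_ne ψ.2 (ex hD χ).2 (fun e => hno i χ (Subtype.ext e).symm), mul_zero]
  refine hψ (Cfsg.Agent.Block.FS.eq_one_of_real_of_odd hD.odd ψ fun g => ?_)
  by_cases hg : g = 1
  · subst hg
    obtain ⟨n, -, hn⟩ := IsIrr.one_eq_pos ψ.2
    rw [hn, map_natCast]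
  · obtain ⟨i, t, ht⟩ := hD.cover g hg
    obtain ⟨z, hz⟩ := const_of_orth hD (IsGenChar.of_isCharacter (IsIrr.isCharacter ψ.2)) (horth i)
    have ht1 : t * g * t⁻¹ ≠ 1 := fun h => hg (mul_eq_left.1 (mul_inv_eq_one.1 h))
    rw [← IsIrr.classFun ψ.2 g t, hz _ ht ht1, map_intCast]

open Classical in
/-- Column sums through the families. -/
theorem col_sum (hD : Data K star) (x y : G) :
    ∑ ψ : IrrCharacter G, (ψ : G → ℂ) x * conj ((ψ : G → ℂ) y) =
      1 + ∑ i, ∑ χ : SI K i, star i χ.1 x * conj (star i χ.1 y) := by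
  set E : Option (Σ i, SI K i) → IrrCharacter G := fun o =>
    o.elim ⟨fun _ => 1, isIrr_one⟩ fun p => ex hD p.2
  have hE : Function.Bijective E := by
    refine ⟨fun a b hab => ?_, fun ψ => ?_⟩
    · rcases a with - | ⟨i, χ⟩ <;> rcases b with - | ⟨j, η⟩
      · rfl
      · exact absurd (congrArg Subtype.val hab).symm (ex_ne_one hD η)
      · exact absurd (congrArg Subtype.val hab) (ex_ne_one hD χ)
      · by_cases hij : i = j
        · subst hij
          obtain rfl := ex_injective hD (χ := χ) (ξ := η) hab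
          rfl
        · exact absurd hab (ex_ne hD hij χ η)
    · by_cases hψ : (ψ : G → ℂ) = fun _ => 1
      · exact ⟨none, Subtype.ext hψ.symm⟩
      · obtain ⟨i, χ, h⟩ := exists_ex hD ψ hψ
        exact ⟨some ⟨i, χ⟩, h⟩
  rw [← Fintype.sum_bijective E hE
    (fun o => (E o : G → ℂ) x * conj ((E o : G → ℂ) y)) _ (fun _ => rfl),
    Fintype.sum_option, Fintype.sum_sigma]
  congr 1
  · show (1 : ℂ) * conj (1 : ℂ) = 1
    simp
  · refine Finset.sum_congr rfl fun i _ => Finset.sum_congr rfl fun χ _ => ?_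
    show (ex hD χ : G → ℂ) x * conj ((ex hD χ : G → ℂ) y) = _
    rw [star_eq hD, Pi.smul_apply, Pi.smul_apply, smul_eq_mul, smul_eq_mul, map_mul,
      mul_mul_mul_comm, sgn_mul_conj, one_mul]

end Cfsg.Agent.Char.CoverTI
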