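import Cfsg.Agent.Lib.Char.PairCyclic
import Cfsg.Agent.Lib.Char.PairSub

/-!
Blocks with cyclic defect group: the local blocks at the nontrivial subgroups of the defect group.
-/

namespace Cfsg.Agent.Char.BP

open Cfsg.Agent.Block

set_option linter.unusedSectionVars false
set_option linter.style.haveILetI false

universe u

variable {G : Type u} [Group G] [Fintype G] {p : ℕ} {M : Ideal AlgInt}
variable {B : Set (IrrCharacter G)} {P : Subgroup G} {e : Set (IrrCharacter (CG P))}

theorem comm_of_cyclic (hcyc : IsCyclic P) : ∀ x ∈ P, ∀ y ∈ P, x * y = y * x := fun x hx y hy =>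
  haveI := hcyc
  congrArg Subtype.val ((IsCyclic.commutative (α := P)).is_comm.comm ⟨x, hx⟩ ⟨y, hy⟩)

/-- The stabilizer of a cyclic subgroup normalizes each of its subgroups. -/
theorem le_normalizer_of_cyclic (hcyc : IsCyclic P) {Q : Subgroup G} (hQ : Q ≤ P) :
    Subgroup.normalizer (P : Set G) ≤ Subgroup.normalizer (Q : Set G) := by
  intro g hg
  have h1 : Q.map (MulAut.conj g).toMonoidHom = Q := eq_of_le_cyclic_of_card_eq hcyc
    (by
      rintro _ ⟨v, hv, rfl⟩
      exact (Subgroup.mem_normalizer_iff.1 hg v).1 (hQ hv)) hQ (card_map_conj g Q)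
  refine Subgroup.mem_normalizer_iff.2 fun v => ?_
  conv_rhs => rw [← h1]
  exact conj_mem_map_conj.symm

/-- The local block at a nontrivial subgroup of a cyclic defect group: stabilizer, index and
nilpotence. -/
theorem cyclic_local [Fact p.Prime] (hM : IsPModular p M)
    (hx : IsMx p M B (⟨P, e⟩ : BrauerPairIdx G)) (hcyc : IsCyclic P) {a : BrauerPairIdx G}
    (h : Step p M a (⟨P, e⟩ : BrauerPairIdx G)) (hQ1 : a.1 ≠ ⊥) :
    stab a = stab (⟨P, e⟩ : BrauerPairIdx G) ⊔ CG a.1 ∧
      (CG a.1).relIndex (stab a) = (CG P).relIndex (stab (⟨P, e⟩ : BrauerPairIdx G)) ∧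
      IsNilpotentBlock p M a.2 := by
  have hab := comm_of_cyclic hcyc
  have hQ : a.1 ≤ P := h.2.2.1
  have hle : LE p M a (⟨P, e⟩ : BrauerPairIdx G) := Relation.ReflTransGen.single h
  have hTN : stab (⟨P, e⟩ : BrauerPairIdx G) ≤ Subgroup.normalizer (a.1 : Set G) :=
    (stab_le_normalizer _).trans (le_normalizer_of_cyclic hcyc hQ)
  have hfree := free_of_cyclic hM hx hcyc
  have hinter : stab (⟨P, e⟩ : BrauerPairIdx G) ⊓ CG a.1 = CG P := by
    refine le_antisymm ?_ (le_inf (cg_le_stab (⟨P, e⟩ : BrauerPairIdx G))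
      (Subgroup.centralizer_le hQ))
    rintro g ⟨hg, hgQ⟩
    obtain ⟨x, hx1⟩ := Subgroup.ne_bot_iff_exists_ne_one.1 hQ1
    exact hfree g hg x (hQ x.2) (fun h => hx1 (Subtype.ext h))
      (by rw [← Subgroup.mem_centralizer_iff.1 hgQ x x.2, mul_inv_cancel_right])
  refine ⟨le_antisymm (fun y hy => ?_) (sup_le ?_ (cg_le_stab a)), ?_, ?_⟩
  · obtain ⟨t, ht, c, hc, rfl⟩ := stab_factor hM hx hle hab hy
    exact mul_mem (Subgroup.mem_sup_left ht) (Subgroup.mem_sup_right hc)
  · calc stab (⟨P, e⟩ : BrauerPairIdx G)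
        = stab (⟨P, e⟩ : BrauerPairIdx G) ⊓ Subgroup.normalizer (a.1 : Set G) :=
          (inf_eq_left.2 hTN).symm
      _ ≤ stab a := stab_inf_normalizer_le hM hle
  · rw [Subgroup.relIndex, stab_index hM hx hle hab, inf_eq_left.2 hTN, hinter]
    rfl
  · exact (nilpotent_local_iff hM hx hab h).2 hinter.le

end Cfsg.Agent.Char.BP
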