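import Cfsg.Agent.Lib.Char.CycDefRoots
import Cfsg.Agent.Lib.Char.PairCyclicLocal

/-!
Blocks with cyclic defect group: the sections at the nontrivial elements of the defect group have
integral coordinates in the characters of the defect group.
-/

open scoped ComplexConjugate

namespace Cfsg.Agent.Char.CycDef

open Cfsg Cfsg.Agent.Block Cfsg.Agent.Char.BP Cfsg.Agent.Char.Spec Cfsg.Agent.Char.Star

set_option linter.unusedSectionVars false
set_option linter.style.haveILetI false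
set_option maxHeartbeats 1600000

universe u

variable {G : Type u} [Group G] [Fintype G] {p : ℕ} [hp : Fact p.Prime] {M : Ideal AlgInt}
variable {B : Set (IrrCharacter G)} {x : BrauerPairIdx G} {N : ℕ} [NeZero N]

/-- A function on a subgroup read on the group. -/
noncomputable def up (K : Subgroup G) (f : K → ℂ) (g : G) : ℂ := by
  classical exact if h : g ∈ K then f ⟨g, h⟩ else 0

theorem up_coe (K : Subgroup G) (f : K → ℂ) (k : K) : up K f (k : G) = f k := by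
  simp [up, k.2]

/-- The inertial group acts freely on the exponents. -/
theorem free_pw (hM : IsPModular p M) (hx : IsMx p M B x) (hcyc : IsCyclic x.1) {u₀ : G}
    (hgen : Subgroup.zpowers u₀ = x.1) (hN : orderOf u₀ = N) {R : Subgroup (ZMod N)ˣ}
    (hR : ∀ r : (ZMod N)ˣ, r ∈ R → ∃ t ∈ stab x, t * u₀ * t⁻¹ = pw u₀ (r : ZMod N))
    {r : (ZMod N)ˣ} (hr : r ∈ R) {i : ZMod N} (hi : i ≠ 0) (h : (r : ZMod N) * i = i) : r = 1 := by
  obtain ⟨t, ht, htu⟩ := hR r hr
  have hmem : u₀ ∈ x.1 := hgen ▸ Subgroup.mem_zpowers u₀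
  have h1 := free_of_cyclic hM (P := x.1) (e := x.2) hx hcyc t ht (pw u₀ i) (pow_mem hmem _)
    (pw_ne_one hN hi) (by rw [conj_pw hN htu, h])
  rw [← Subgroup.mem_centralizer_iff.1 h1 u₀ hmem, mul_inv_cancel_right] at htu
  exact Units.ext (pw_inj hN (by rw [← htu, Units.val_one, pw_one hN]))

/-- The sections of the members of a block with cyclic defect group, in the units of the sections of
one character of the block of the centralizer of the subgroup of order `p`. -/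
theorem exists_coords (hM : IsPModular p M) (hB : IsPBlock M B) (hx : IsMx p M B x)
    (hcyc : IsCyclic x.1) (hP1 : x.1 ≠ ⊥) {u₀ : G} (hgen : Subgroup.zpowers u₀ = x.1)
    (hN : orderOf u₀ = N) :
    ∃ (R : Subgroup (ZMod N)ˣ) (β : ZMod N → G → ℂ) (m : IrrCharacter G → ZMod N → ℕ),
      Nat.card R = (CG x.1).relIndex (stab x) ∧
      (∀ r : (ZMod N)ˣ, r ∈ R ↔ ∃ t ∈ stab x, t * u₀ * t⁻¹ = pw u₀ (r : ZMod N)) ∧
      (∀ i : ZMod N, i ≠ 0 → (N : ℂ) * (β i 1 * conj (β i 1)) = wgt (av p M x (pw u₀ i))) ∧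
      (∀ r ∈ R, ∀ i : ZMod N, i ≠ 0 → β ((r : ZMod N) * i) 1 = β i 1) ∧
      ∀ (χ : IrrCharacter G) (i : ZMod N), i ≠ 0 → ∀ w ∈ CG (Subgroup.zpowers (pw u₀ i)),
        ¬ p ∣ orderOf w → sct (χ : G → ℂ) (av p M x (pw u₀ i)) (pw u₀ i) w =
          (∑ j, (m χ j : ℂ) * ψN (i * j)) * β i w := by
  classical
  have hab := comm_of_cyclic hcyc
  have hu₀ : u₀ ∈ x.1 := hgen ▸ Subgroup.mem_zpowers u₀
  have hcardN : Nat.card x.1 = N := by rw [← hgen, Nat.card_zpowers, hN]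
  have hPp : IsPGroup p x.1 := hx.1.1.1
  have hpw : ∀ i : ZMod N, pw u₀ i ∈ x.1 := fun i => pow_mem hu₀ _
  -- the action on the exponents
  have hTN : ∀ {t : G}, t ∈ stab x → t ∈ Subgroup.normalizer (x.1 : Set G) :=
    fun ht => stab_le_normalizer x ht
  have hex : ∀ t : stab x, ∃ i : ZMod N, (t : G) * u₀ * (t : G)⁻¹ = pw u₀ i := fun t => by
    obtain ⟨i, hi⟩ := exists_pw hN (v := (t : G) * u₀ * (t : G)⁻¹)
      (by rw [hgen]; exact (Subgroup.mem_normalizer_iff.1 (hTN t.2) u₀).1 hu₀)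
    exact ⟨i, hi.symm⟩
  choose φ₀ hφ₀ using hex
  have hφmul : ∀ t t' : stab x, φ₀ (t * t') = φ₀ t * φ₀ t' := fun t t' => pw_inj hN (by
    rw [← hφ₀ (t * t'), ← conj_pw hN (hφ₀ t), ← hφ₀ t', Subgroup.coe_mul]
    group)
  have hφone : φ₀ 1 = 1 := pw_inj hN (by rw [← hφ₀ 1, pw_one hN]; simp)
  let φ : stab x →* (ZMod N)ˣ := MonoidHom.mk'
    (fun t => ⟨φ₀ t, φ₀ t⁻¹, by rw [← hφmul, mul_inv_cancel, hφone],
      by rw [← hφmul, inv_mul_cancel, hφone]⟩)
    fun t t' => Units.ext (hφmul t t')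
  have hker : φ.ker = (CG x.1).subgroupOf (stab x) := by
    ext t
    rw [MonoidHom.mem_ker, Subgroup.mem_subgroupOf]
    constructor
    · intro h
      refine Subgroup.mem_centralizer_iff.2 fun v hv => ?_
      obtain ⟨i, rfl⟩ := exists_pw hN (v := v) (by rw [hgen]; exact hv)
      have h1 := conj_pw hN (hφ₀ t) i
      rw [show φ₀ t = 1 from congrArg Units.val h, one_mul, mul_inv_eq_iff_eq_mul] at h1
      exact h1.symm
    · intro h
      refine Units.ext (pw_inj hN ?_)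
      show pw u₀ (φ₀ t) = pw u₀ ((1 : (ZMod N)ˣ) : ZMod N)
      rw [← hφ₀ t, Units.val_one, pw_one hN, ← Subgroup.mem_centralizer_iff.1 h u₀ hu₀,
        mul_inv_cancel_right]
  have hcardR : Nat.card φ.range = (CG x.1).relIndex (stab x) := by
    rw [← Subgroup.index_ker φ, hker]
    rfl
  have hRiff : ∀ r : (ZMod N)ˣ, r ∈ φ.range ↔ ∃ t ∈ stab x, t * u₀ * t⁻¹ = pw u₀ (r : ZMod N) := by
    intro r
    constructor
    · rintro ⟨t, rfl⟩
      exact ⟨t, t.2, hφ₀ t⟩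
    · rintro ⟨t, ht, h⟩
      exact ⟨⟨t, ht⟩, Units.ext (pw_inj hN ((hφ₀ ⟨t, ht⟩).symm.trans h))⟩
  -- the subgroup of order `p`
  haveI : Nontrivial x.1 := x.1.nontrivial_iff_ne_bot.2 hP1
  obtain ⟨n, hn, hcard⟩ := hPp.nontrivial_iff_card.1 ‹_›
  obtain ⟨z, hz⟩ := exists_prime_orderOf_dvd_card' (G := x.1) p (hcard ▸ dvd_pow_self p hn.ne')
  set Z := Subgroup.zpowers (z : G) with hZdef
  have hZP : Z ≤ x.1 := Subgroup.zpowers_le.2 z.2
  have hZc : Nat.card Z = p := by rw [Nat.card_zpowers, Subgroup.orderOf_coe, hz]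
  have hZne : Z ≠ ⊥ := fun h => hp.out.ne_one (by rw [← hZc, h, Subgroup.card_bot])
  have hz1 : (z : G) ≠ 1 := fun h => hZne (Subgroup.zpowers_eq_bot.2 h)
  have hZle : ∀ v ∈ x.1, v ≠ 1 → Z ≤ Subgroup.zpowers v := by
    intro v hv hv1
    obtain ⟨k, hk⟩ := order_pow hPp ⟨v, hv⟩
    have hk0 : k ≠ 0 := fun h0 => hv1 (orderOf_eq_one_iff.1 (by rw [show orderOf v = p ^ k from hk, h0, pow_zero]))
    obtain ⟨y, hy⟩ := exists_prime_orderOf_dvd_card' (G := Subgroup.zpowers v) p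
      (by rw [Nat.card_zpowers, show orderOf v = p ^ k from hk]; exact dvd_pow_self p hk0)
    have hle : Subgroup.zpowers (y : G) ≤ Subgroup.zpowers v := Subgroup.zpowers_le.2 y.2
    have he : Subgroup.zpowers (y : G) = Z := eq_of_le_cyclic_of_card_eq hcyc
      (hle.trans (Subgroup.zpowers_le.2 hv)) hZP
      (by rw [Nat.card_zpowers, Subgroup.orderOf_coe, hy, hZc])
    exact he ▸ hle
  -- the block of its centralizer
  obtain ⟨ha1, hale, haB⟩ := av_spec hM hx z.2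
  set a := av p M x (z : G) with ha
  letI := Fintype.ofFinite (CG a.1)
  have h1 : x.1 ≤ CG a.1 := le_cg_of_comm hab (le_subgroup hale)
  have h2 : CG x.1 ≤ CG a.1 := Subgroup.centralizer_le (le_subgroup hale)
  set x' := dn (CG a.1) x h1 h2 with hx'def
  have hx' : IsMx p M a.2 x' := Wat.isMx_dn hM hx hab hale h1 h2
  have hab' := Wat.comm_dn hab h1 h2
  obtain ⟨-, -, hnil⟩ := cyclic_local hM (P := x.1) (e := x.2) hx hcyc
    (Wat.step_of_le hM hx.1.1 hab hale) (by rw [ha1]; exact hZne)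
  have hst : stab x' ≤ CG x'.1 := by
    intro y hy
    refine (mem_cg_subgroupOf h1 y).2 (free_of_cyclic hM (P := x.1) (e := x.2) hx hcyc _
      ((Wat.mem_stab_dn h1 h2 y).1 hy) z z.2 hz1 ?_)
    rw [← Subgroup.mem_centralizer_iff.1 y.2 z (ha1 ▸ Subgroup.mem_zpowers _), mul_inv_cancel_right]
  obtain ⟨η₀, hη₀, hloc, hnorm⟩ := exists_local hM hnil hx' hab' hst
  have hcard' : Nat.card x'.1 = N := by
    rw [hx'def, dn_fst, Nat.card_congr (Subgroup.subgroupOfEquivOfLe h1).toEquiv, hcardN]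
  -- the pairs inside
  have hcgle : ∀ v ∈ x.1, v ≠ 1 → CG (av p M x v).1 ≤ CG a.1 := fun v hv hv1 => by
    rw [(av_spec hM hx hv).1, ha1]
    exact Subgroup.centralizer_le (hZle v hv hv1)
  have hdn : ∀ (v : G) (hv : v ∈ x.1) (hv1 : v ≠ 1)
      (k1 : (av p M x v).1 ≤ CG a.1),
      dn (CG a.1) (av p M x v) k1 (hcgle v hv hv1) = av p M x' (⟨v, h1 hv⟩ : CG a.1) := by
    intro v hv hv1 k1
    obtain ⟨e1, l1, -⟩ := av_spec hM hx hv
    have hl := le_dn hM l1 (hcgle v hv hv1) h1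
    have h3 := Wat.bl_eq hM hx'.1.1 hl
    rw [dn_fst] at h3
    have h4 : (av p M x v).1.subgroupOf (CG a.1) =
        Subgroup.zpowers (⟨v, h1 hv⟩ : CG a.1) := by
      rw [e1]
      exact Wat.zpowers_subgroupOf (H := CG a.1) ⟨v, h1 hv⟩
    rw [h4] at h3
    exact h3.symm
  let S : IrrCharacter (CG a.1) → G → G → ℂ := fun η v w =>
    sct (up (CG a.1) (η : CG a.1 → ℂ)) (av p M x v) v w
  have hS : ∀ (η : IrrCharacter (CG a.1)) (v : G) (hv : v ∈ x.1) (_ : v ≠ 1) (w : CG a.1),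
      S η v (w : G) =
        sct (η : CG a.1 → ℂ) (av p M x' (⟨v, h1 hv⟩ : CG a.1)) ⟨v, h1 hv⟩ w := by
    intro η v hv hv1 w
    have k1 : (av p M x v).1 ≤ CG a.1 := (le_subgroup (av_spec hM hx hv).2.1).trans h1
    rw [← hdn v hv hv1 k1]
    show ∑ k : G, _ = ∑ k : CG a.1, _
    rw [← Finset.sum_subset (Finset.subset_univ (Finset.univ.filter (· ∈ CG a.1))) fun k _ hk => by
        rw [show be (av p M x v) k = 0 from bc_supp _ _ _ fun h =>
          hk (by simpa using hcgle v hv hv1 h), zero_mul],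
      Finset.sum_subtype (p := fun k => k ∈ CG a.1) _ (fun k => by simp)]
    refine Finset.sum_congr rfl fun k _ => ?_
    rw [be_dn _ k1 (hcgle v hv hv1),
      show v * (k : G) * (w : G) = (((⟨v, h1 hv⟩ : CG a.1) * k * w : CG a.1) : G) from rfl, up_coe]
    rfl
  have hwC : ∀ v ∈ x.1, v ≠ 1 → ∀ w ∈ CG (Subgroup.zpowers v), w ∈ CG a.1 := fun v hv hv1 w hw =>
    hcgle v hv hv1 ((av_spec hM hx hv).1 ▸ hw)
  have hwC' : ∀ (v : G) (hv : v ∈ x.1) (w : CG a.1), (w : G) ∈ CG (Subgroup.zpowers v) →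
      w ∈ CG (Subgroup.zpowers (⟨v, h1 hv⟩ : CG a.1)) := fun v hv w hw => by
    rw [← Wat.zpowers_subgroupOf (H := CG a.1) ⟨v, h1 hv⟩]
    exact (mem_cg_subgroupOf ((Subgroup.zpowers_le.2 hv).trans h1) w).2 hw
  -- the sections inside the block
  have hval : ∀ η ∈ a.2, ∃ j : ZMod N, ∀ i : ZMod N, i ≠ 0 →
      ∀ w ∈ CG (Subgroup.zpowers (pw u₀ i)), ¬ p ∣ orderOf w →
        S η (pw u₀ i) w = ψN (i * j) * S η₀ (pw u₀ i) w := by
    intro η hη
    obtain ⟨l, hl⟩ := hloc η hη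
    set g₀ : x'.1 := ⟨⟨u₀, h1 hu₀⟩, Subgroup.mem_subgroupOf.2 hu₀⟩ with hg₀
    have hg₀N : g₀ ^ N = 1 := by rw [← hcard']; exact pow_card_eq_one'
    obtain ⟨j, hj⟩ := exists_ψN (N := N) (z := (l g₀ : ℂ))
      (by rw [← Units.val_pow_eq_pow_val, ← map_pow, hg₀N, map_one, Units.val_one])
    refine ⟨j, fun i hi w hw hwr => ?_⟩
    obtain ⟨w, rfl⟩ : ∃ w' : CG a.1, (w' : G) = w :=
      ⟨⟨w, hwC _ (hpw i) (pw_ne_one hN hi) w hw⟩, rfl⟩
    have hv' : g₀ ^ i.val = (⟨⟨pw u₀ i, h1 (hpw i)⟩, Subgroup.mem_subgroupOf.2 (hpw i)⟩ : x'.1) :=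
      Subtype.ext (Subtype.ext (by simp [hg₀, pw]))
    have hh := hl (g₀ ^ i.val) w (by rw [hv']; exact hwC' _ (hpw i) w hw)
      (by rwa [← Subgroup.orderOf_coe])
    rw [hv'] at hh
    rw [hS η _ (hpw i) (pw_ne_one hN hi), hS η₀ _ (hpw i) (pw_ne_one hN hi), hh]
    congr 1
    rw [← hv', map_pow, Units.val_pow_eq_pow_val, hj, ← AddChar.map_nsmul_eq_pow, nsmul_eq_mul,
      ZMod.natCast_zmod_val]
  have hzero : ∀ η ∉ a.2, ∀ v ∈ x.1, v ≠ 1 → ∀ w ∈ CG (Subgroup.zpowers v), ¬ p ∣ orderOf w →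
      S η v w = 0 := by
    intro η hη v hv hv1 w hw hwr
    obtain ⟨w, rfl⟩ : ∃ w' : CG a.1, (w' : G) = w := ⟨⟨w, hwC v hv hv1 w hw⟩, rfl⟩
    rw [hS η v hv hv1]
    obtain ⟨e1, -, e3⟩ := av_spec hM hx' (v := (⟨v, h1 hv⟩ : CG a.1)) (Subgroup.mem_subgroupOf.2 hv)
    refine sct_eq_zero hM (mem_blockOf_self hM η) (isPBlock_blockOf η) e3.1
      (by rw [← Subgroup.orderOf_coe]; exact order_pow hPp ⟨v, hv⟩) e1 (fun h => hη ?_)
      (by rw [e1]; exact hwC' v hv w hw) (by rwa [← Subgroup.orderOf_coe])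
    rw [ofB_unique hM e3 h]
    exact mem_blockOf_self hM η
  have hreg1 : ¬ p ∣ orderOf (1 : G) := by rw [orderOf_one]; exact hp.out.not_dvd_one
  let b : ZMod N → ℂ := fun i => S η₀ (pw u₀ i) 1
  have hbnorm : ∀ i : ZMod N, i ≠ 0 → (N : ℂ) * (b i * conj (b i)) = wgt (av p M x (pw u₀ i)) := by
    intro i hi
    have hh := hnorm (⟨pw u₀ i, h1 (hpw i)⟩ : CG a.1) (Subgroup.mem_subgroupOf.2 (hpw i))
    rw [hcard'] at hh
    have k1 : (av p M x (pw u₀ i)).1 ≤ CG a.1 :=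
      (le_subgroup (av_spec hM hx (hpw i)).2.1).trans h1
    show (N : ℂ) * (S η₀ (pw u₀ i) 1 * conj (S η₀ (pw u₀ i) 1)) = _
    rw [show (1 : G) = ((1 : CG a.1) : G) from rfl, hS η₀ _ (hpw i) (pw_ne_one hN hi), hh,
      ← hdn _ (hpw i) (pw_ne_one hN hi) k1, wgt_dn]
  have hb0 : ∀ i : ZMod N, i ≠ 0 → b i ≠ 0 := fun i hi h => by
    have hh := hbnorm i hi
    rw [h, zero_mul, mul_zero] at hh
    exact wgt_ne_zero hM (av_spec hM hx (hpw i)).2.2.1.2 hh.symm
  -- the action of the inertial group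
  have hact : ∀ r : φ.range, ∃ j : ZMod N, ∀ i : ZMod N, i ≠ 0 →
      b (((r : (ZMod N)ˣ) : ZMod N) * i) = ψN (i * j) * b i := by
    rintro ⟨r, hr⟩
    obtain ⟨t, ht, htu⟩ := (hRiff r).1 hr
    have hta : t ∈ Subgroup.normalizer (a.1 : Set G) :=
      le_normalizer_of_cyclic hcyc (le_subgroup hale) (hTN ht)
    set η' := irrPull (centEquiv hta) η₀ with hη'
    have hb : ∀ i : ZMod N, i ≠ 0 → b ((r : ZMod N) * i) = S η' (pw u₀ i) 1 := by
      intro i hi
      show sct _ (av p M x (pw u₀ ((r : ZMod N) * i))) (pw u₀ ((r : ZMod N) * i)) 1 =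
        sct _ (av p M x (pw u₀ i)) (pw u₀ i) 1
      rw [← conj_pw hN htu i, ← av_conj hM hx ht (hpw i)]
      refine (Fintype.sum_equiv (MulAut.conj t).toEquiv _ _ fun k => ?_).symm
      simp only [MulEquiv.toEquiv_eq_coe, MulEquiv.coe_toEquiv, MulAut.conj_apply]
      rw [be_cjI, show cfun t (be (av p M x (pw u₀ i))) (t * k * t⁻¹) =
        be (av p M x (pw u₀ i)) k by simp [cfun, mul_assoc]]
      by_cases hk : be (av p M x (pw u₀ i)) k = 0
      · rw [hk, zero_mul, zero_mul]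
      have hkC : k ∈ CG (av p M x (pw u₀ i)).1 := by
        by_contra h
        exact hk (bc_supp _ _ _ h)
      set k' : CG a.1 :=
        ⟨_, mul_mem (mul_mem (h1 (hpw i)) (hcgle _ (hpw i) (pw_ne_one hN hi) hkC)) (one_mem _)⟩
        with hk'
      congr 1
      rw [show pw u₀ i * k * 1 = (k' : G) from rfl, up_coe, hη', irrPull_apply]
      rw [show t * pw u₀ i * t⁻¹ * (t * k * t⁻¹) * 1 = ((centEquiv hta k' : CG a.1) : G) by
        rw [centEquiv_val, hk']; group, up_coe]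
    by_cases hmem : η' ∈ a.2
    · obtain ⟨j, hj⟩ := hval η' hmem
      exact ⟨j, fun i hi => by rw [hb i hi, hj i hi 1 (one_mem _) hreg1]⟩
    · refine ⟨0, fun i hi => absurd ?_ (hb0 ((r : ZMod N) * i) fun h0 => hi ?_)⟩
      · rw [hb i hi, hzero η' hmem _ (hpw i) (pw_ne_one hN hi) 1 (one_mem _) hreg1]
      · simpa using h0
  choose jr hjr using hact
  have hcoc : ∀ r s : φ.range, jr (r * s) = ((s : (ZMod N)ˣ) : ZMod N) * jr r + jr s := by
    intro r s
    refine ψN_ext fun i => ?_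
    by_cases hi : i = 0
    · subst hi; simp
    have hsi : ((s : (ZMod N)ˣ) : ZMod N) * i ≠ 0 := fun h => hi (by simpa using h)
    refine mul_right_cancel₀ (hb0 i hi) ?_
    rw [← hjr (r * s) i hi, Subgroup.coe_mul, Units.val_mul, mul_assoc, hjr r _ hsi, hjr s i hi,
      ← mul_assoc, ← AddChar.map_add_eq_mul]
    congr 2
    ring
  have hunit : IsUnit ((Nat.card φ.range : ℕ) : ZMod N) := by
    refine (ZMod.isUnit_iff_coprime _ _).2 ?_
    rw [hcardR, ← hcardN, hcard]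
    exact Nat.Coprime.pow_right _ (hp.out.coprime_iff_not_dvd.2
      (not_dvd_relIndex hM (P := x.1) (e := x.2) hx hab)).symm
  obtain ⟨u, hu⟩ := hunit
  letI : Fintype φ.range := Fintype.ofFinite _
  set k : ZMod N := (↑u⁻¹ : ZMod N) * ∑ r, jr r with hk
  have hjk : ∀ s : φ.range, jr s + k * ((s : (ZMod N)ˣ) : ZMod N) = k := by
    intro s
    have h3 : ∑ r : φ.range, jr r =
        ((s : (ZMod N)ˣ) : ZMod N) * ∑ r, jr r + (u : ZMod N) * jr s := by
      rw [hu, Finset.mul_sum, Nat.card_eq_fintype_card, ← Finset.card_univ, ← nsmul_eq_mul,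
        ← Finset.sum_const, ← Finset.sum_add_distrib]
      exact (Fintype.sum_equiv (Equiv.mulRight s) _ _ fun r => (hcoc r s).symm).symm
    calc jr s + k * ((s : (ZMod N)ˣ) : ZMod N)
        = (↑u⁻¹ : ZMod N) * (((s : (ZMod N)ˣ) : ZMod N) * ∑ r, jr r + (u : ZMod N) * jr s) := by
          rw [hk, mul_add (↑u⁻¹ : ZMod N), Units.inv_mul_cancel_left]
          ring
      _ = k := by rw [← h3]
  -- the coordinates
  have hj' : ∀ η : IrrCharacter (CG a.1), ∃ j : ZMod N, η ∈ a.2 → ∀ i : ZMod N, i ≠ 0 →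
      ∀ w ∈ CG (Subgroup.zpowers (pw u₀ i)), ¬ p ∣ orderOf w →
        S η (pw u₀ i) w = ψN (i * j) * S η₀ (pw u₀ i) w := fun η => by
    by_cases hη : η ∈ a.2
    · obtain ⟨j, hj⟩ := hval η hη
      exact ⟨j, fun _ => hj⟩
    · exact ⟨0, fun h => absurd h hη⟩
  choose jη hjη using hj'
  refine ⟨φ.range, fun i w => ψN (i * k) * S η₀ (pw u₀ i) w,
    fun χ l => ∑ η ∈ Finset.univ.filter (fun η => η ∈ a.2 ∧ jη η - k = l),
      Glaub.mult (CG a.1) (χ : G → ℂ) (η : CG a.1 → ℂ),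
    hcardR, hRiff, fun i hi => ?_, fun r hr i hi => ?_, fun χ i hi w hw hwr => ?_⟩
  · have h3 : ψN (i * k) * b i * conj (ψN (i * k) * b i) = b i * conj (b i) := by
      rw [map_mul (starRingEnd ℂ)]
      linear_combination (b i * conj (b i)) * ψN_mul_conj (i * k)
    show (N : ℂ) * (ψN (i * k) * b i * conj (ψN (i * k) * b i)) = _
    rw [h3]
    exact hbnorm i hi
  · show ψN ((r : ZMod N) * i * k) * b ((r : ZMod N) * i) = ψN (i * k) * b i
    rw [hjr ⟨r, hr⟩ i hi, ← mul_assoc, ← AddChar.map_add_eq_mul]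
    congr 2
    linear_combination i * hjk ⟨r, hr⟩
  · set v := pw u₀ i with hv
    have hv1 := pw_ne_one hN hi
    calc sct (χ : G → ℂ) (av p M x v) v w
        = ∑ η : IrrCharacter (CG a.1),
            (Glaub.mult (CG a.1) (χ : G → ℂ) (η : CG a.1 → ℂ) : ℂ) * S η v w := by
          simp only [S, sct, Finset.mul_sum]
          rw [Finset.sum_comm]
          refine Finset.sum_congr rfl fun k' _ => ?_
          by_cases hk0 : be (av p M x v) k' = 0
          · rw [hk0]; simp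
          have hkC : k' ∈ CG (av p M x v).1 := by
            by_contra h
            exact hk0 (bc_supp _ _ _ h)
          obtain ⟨c, hc⟩ : ∃ c : CG a.1, (c : G) = v * k' * w :=
            ⟨⟨_, mul_mem (mul_mem (h1 (hpw i)) (hcgle _ (hpw i) hv1 hkC))
              (hwC _ (hpw i) hv1 w hw)⟩, rfl⟩
          rw [← hc, Glaub.res_expansion _ (irr_isChar χ) c, Finset.mul_sum]
          exact Finset.sum_congr rfl fun η _ => by rw [up_coe]; ring
      _ = ∑ η ∈ Finset.univ.filter (· ∈ a.2),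
            (Glaub.mult (CG a.1) (χ : G → ℂ) (η : CG a.1 → ℂ) : ℂ) * S η v w := by
          refine (Finset.sum_subset (Finset.subset_univ _) fun η _ hη => ?_).symm
          rw [hzero η (by simpa using hη) v (hpw i) hv1 w hw hwr, mul_zero]
      _ = _ := by
          rw [← Finset.sum_fiberwise (Finset.univ.filter (· ∈ a.2)) (fun η => jη η - k),
            Finset.sum_mul]
          refine Finset.sum_congr rfl fun l _ => ?_
          rw [Finset.filter_filter, Nat.cast_sum, Finset.sum_mul, Finset.sum_mul]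
          refine Finset.sum_congr rfl fun η hη => ?_
          obtain ⟨-, hη1, hη2⟩ := Finset.mem_filter.1 hη
          rw [hjη η hη1 i hi w hw hwr, ← hη2, mul_sub, sub_eq_add_neg, AddChar.map_add_eq_mul,
            ← ψN_conj]
          linear_combination (-((Glaub.mult (CG a.1) (χ : G → ℂ) (η : CG a.1 → ℂ) : ℂ) *
            ψN (i * jη η) * S η₀ v w)) * ψN_mul_conj (i * k)

end Cfsg.Agent.Char.CycDef
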