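import Cfsg.Agent.Lib.Char.CycDefect

/-!
Blocks with cyclic defect group: the sections are divisible by the orders of centralizers.
-/

open scoped ComplexConjugate

namespace Cfsg.Agent.Char.CycDef

open Cfsg Cfsg.Agent.Block Cfsg.Agent.Char.BP Cfsg.Agent.Char.Spec Cfsg.Agent.Char.Star

set_option linter.unusedSectionVars false
set_option linter.style.haveILetI false
set_option maxHeartbeats 1600000

universe u

variable {G : Type u} [Group G] [Fintype G] {p : ℕ} [hp : Fact p.Prime] {M : Ideal AlgInt}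
variable {B : Set (IrrCharacter G)} {x : BrauerPairIdx G}

open scoped Classical in
/-- A combination vanishing on the singular elements is divisible by the centralizers. -/
theorem div_centralizer_ring (hM : IsPModular p M) (s : Finset (IrrCharacter G))
    (c : IrrCharacter G → ℂ) (hc : ∀ χ ∈ s, MemLocalRing M (c χ))
    (hvan : ∀ g : G, p ∣ orderOf g → ∑ χ ∈ s, c χ * (χ : G → ℂ) g = 0)
    {g : G} (hg : ¬ p ∣ orderOf g) :
    MemLocalRing M ((∑ χ ∈ s, c χ * (χ : G → ℂ) g) /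
      (Nat.card (Subgroup.centralizer ({g} : Set G)) : ℂ)) := by
  rw [← cg_zpowers]
  set W := CG (Subgroup.zpowers g) with hW
  have hgW : g ∈ W := by
    rw [hW, cg_zpowers, Subgroup.mem_centralizer_singleton_iff]
  letI := Fintype.ofFinite W
  obtain ⟨S⟩ : Nonempty (Sylow p W) := inferInstance
  letI := Fintype.ofFinite (S : Subgroup W)
  set gz : W := ⟨g, hgW⟩ with hgz
  have hzc : gz ∈ Subgroup.center W := Subgroup.mem_center_iff.2 fun t =>
    Subtype.ext (Subgroup.mem_centralizer_iff.1 t.2 g (Subgroup.mem_zpowers g)).symm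
  have hQ0 : (Nat.card S : ℂ) ≠ 0 := Nat.cast_ne_zero.2 Nat.card_pos.ne'
  let A : IrrCharacter G → ℂ := fun χ => ∑ ξ : IrrCharacter W,
    (Glaub.mult W (χ : G → ℂ) (ξ : W → ℂ) : ℂ) * centralChar (ξ : W → ℂ) gz *
      (Glaub.mult (S : Subgroup W) (ξ : W → ℂ) (trivialIrr (S : Subgroup W) : S → ℂ) : ℂ)
  have hA : ∀ χ : IrrCharacter G,
      (Nat.card S : ℂ) * A χ = ∑ q : S, (χ : G → ℂ) (g * ((q : W) : G)) := by
    intro χ
    have h1 : ∀ ξ : IrrCharacter W, (Nat.card S : ℂ) *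
        (Glaub.mult (S : Subgroup W) (ξ : W → ℂ) (trivialIrr (S : Subgroup W) : S → ℂ) : ℂ) =
        ∑ q : S, (ξ : W → ℂ) q := fun ξ => by
      rw [← Glaub.mult_spec _ (irr_isChar ξ) (irr_isChar (trivialIrr (S : Subgroup W))), classInner,
        mul_inv_cancel_left₀ hQ0]
      refine Finset.sum_congr rfl fun q _ => ?_
      simp [show ((trivialIrr (S : Subgroup W) : IrrCharacter S) : S → ℂ) = fun _ => 1 from rfl]
    simp only [A, Finset.mul_sum]
    rw [Finset.sum_congr rfl fun ξ _ => by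
      rw [mul_left_comm, h1 ξ, Finset.mul_sum], Finset.sum_comm]
    refine Finset.sum_congr rfl fun q _ => ?_
    rw [show g * ((q : W) : G) = ((gz * (q : W) : W) : G) from rfl,
      Glaub.res_expansion W (irr_isChar χ)]
    exact Finset.sum_congr rfl fun ξ _ => by rw [centralChar_of_center hzc, mul_assoc]
  have hsum : ∑ χ ∈ s, c χ * (χ : G → ℂ) g = (Nat.card S : ℂ) * ∑ χ ∈ s, c χ * A χ := by
    rw [Finset.mul_sum, eq_comm, Finset.sum_congr rfl (g := fun χ : IrrCharacter G =>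
      ∑ q : S, c χ * (χ : G → ℂ) (g * ((q : W) : G))) fun χ _ => by
        rw [mul_left_comm, hA, Finset.mul_sum], Finset.sum_comm]
    refine (Finset.sum_eq_single (1 : (S : Subgroup W)) ?_ ?_).trans ?_
    rotate_right
    · simp
    · intro q _ hq
      refine hvan _ ?_
      obtain ⟨k, hk⟩ := IsPGroup.iff_orderOf.1 S.isPGroup' q
      have hqo : orderOf (((q : W) : G)) = p ^ k := by
        rw [Subgroup.orderOf_coe, Subgroup.orderOf_coe, hk]
      have hk0 : k ≠ 0 := fun h0 => hq (orderOf_eq_one_iff.1 (by rw [hk, h0, pow_zero]))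
      have hcm : Commute g ((q : W) : G) :=
        Subgroup.mem_centralizer_iff.1 (q : W).2 g (Subgroup.mem_zpowers g)
      rw [hcm.orderOf_mul_eq_mul_orderOf_of_coprime (by
        rw [hqo]; exact Nat.Coprime.pow_right _ (hp.out.coprime_iff_not_dvd.2 hg).symm), hqo]
      exact (dvd_pow_self p hk0).trans (dvd_mul_left _ _)
    · exact fun h => absurd (Finset.mem_univ _) h
  have hidx : ¬ p ∣ (S : Subgroup W).index := S.not_dvd_index
  have e : (∑ χ ∈ s, c χ * (χ : G → ℂ) g) / (Nat.card W : ℂ) =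
      (∑ χ ∈ s, c χ * A χ) * (((S : Subgroup W).index : ℂ))⁻¹ := by
    rw [hsum, ← (S : Subgroup W).card_mul_index]
    push_cast
    field_simp
  rw [e]
  refine ring_mul hM (ring_sum hM fun χ hχ => ring_mul hM (hc χ hχ) ?_) (ring_inv_natCast hM hidx)
  refine ring_sum hM fun ξ _ => ring_mul hM (ring_mul hM (ring_natCast hM _) ?_)
    (ring_natCast hM _)
  exact ring_of_integral hM (centralChar_isIntegral ξ _)

/-- The centralizer of an element with given `p`-part. -/
theorem card_centralizer_mul {v : G} (hv : ∃ k, orderOf v = p ^ k)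
    (w : CG (Subgroup.zpowers v)) (hw : ¬ p ∣ orderOf w) :
    Nat.card (Subgroup.centralizer ({v * (w : G)} : Set G)) =
      Nat.card (Subgroup.centralizer ({w} : Set (CG (Subgroup.zpowers v)))) := by
  have hc : Commute v (w : G) := Subgroup.mem_centralizer_iff.1 w.2 v (Subgroup.mem_zpowers v)
  have hwr : ¬ p ∣ orderOf (w : G) := by rwa [Subgroup.orderOf_coe]
  have key : ∀ y : G, y ∈ Subgroup.centralizer ({v * (w : G)} : Set G) →
      y ∈ CG (Subgroup.zpowers v) ∧ y * (w : G) = (w : G) * y := by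
    intro y hy
    have h : y * (v * (w : G)) * y⁻¹ = v * (w : G) :=
      mul_inv_eq_iff_eq_mul.2 (Subgroup.mem_centralizer_singleton_iff.1 hy)
    have h1 : y * v * y⁻¹ = v := by
      refine pPart_unique (p := p) (g := v * (w : G)) ⟨y * (w : G) * y⁻¹, ?_, ?_, ?_, ?_⟩
        ⟨(w : G), rfl, hc, hv, hwr⟩
      · rw [conj_mul, h]
      · exact hc.map (MulAut.conj y).toMonoidHom
      · obtain ⟨k, hk⟩ := hv
        exact ⟨k, hk ▸ MulEquiv.orderOf_eq (MulAut.conj y) v⟩
      · rwa [show y * (w : G) * y⁻¹ = MulAut.conj y (w : G) from rfl, MulEquiv.orderOf_eq]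
    refine ⟨Wat.mem_cg_zpowers.2 h1, mul_inv_eq_iff_eq_mul.1 ?_⟩
    rw [← conj_mul, h1] at h
    exact mul_left_cancel h
  refine Nat.card_congr
    { toFun := fun y => ⟨⟨y, (key y y.2).1⟩, Subgroup.mem_centralizer_singleton_iff.2
        (Subtype.ext (key y y.2).2)⟩
      invFun := fun y => ⟨((y : CG (Subgroup.zpowers v)) : G),
        Subgroup.mem_centralizer_singleton_iff.2 ?_⟩
      left_inv := fun y => rfl
      right_inv := fun y => rfl }
  have h1 : ((y : CG (Subgroup.zpowers v)) : G) * v = v * ((y : CG (Subgroup.zpowers v)) : G) :=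
    (Subgroup.mem_centralizer_iff.1 (y : CG (Subgroup.zpowers v)).2 v (Subgroup.mem_zpowers v)).symm
  have h2 : ((y : CG (Subgroup.zpowers v)) : G) * (w : G) =
      (w : G) * ((y : CG (Subgroup.zpowers v)) : G) :=
    congrArg Subtype.val (Subgroup.mem_centralizer_singleton_iff.1 y.2)
  rw [← mul_assoc, h1, mul_assoc, h2, mul_assoc]

theorem card_eq_of_nilpotent (hM : IsPModular p M) (hnil : IsNilpotentBlock p M B)
    (hx : IsMx p M B x) (hab : ∀ v ∈ x.1, ∀ w ∈ x.1, v * w = w * v) :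
    Nat.card B = Nat.card x.1 := by
  classical
  letI := Fintype.ofFinite x.1
  obtain ⟨Φ, -⟩ := exists_height_equiv hM hnil (defect_of_max hM hx)
  rw [Nat.card_congr Φ, card_irrCharacter]
  refine (Nat.card_congr (Equiv.ofBijective ConjClasses.mk ⟨fun a c h => ?_,
    ConjClasses.mk_surjective⟩)).symm
  obtain ⟨t, ht⟩ := isConj_iff.1 (ConjClasses.mk_eq_mk_iff_isConj.1 h)
  rw [show t * a = a * t from Subtype.ext (hab _ t.2 _ a.2), mul_inv_cancel_right] at ht
  exact ht

variable {N : ℕ} [NeZero N] {u₀ : G} {R : Subgroup (ZMod N)ˣ} {β : ZMod N → G → ℂ}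
  {X : Finset (IrrCharacter G)} {y : ZMod N → IrrCharacter G} {c : IrrCharacter G → ℤ} {ε : ℤ}

/-- The sections are integral and divisible by the centralizers. -/
theorem beta_ring (hM : IsPModular p M) (hx : IsMx p M B x) (hcyc : IsCyclic x.1)
    (hgen : Subgroup.zpowers u₀ = x.1) (hN : orderOf u₀ = N)
    (hD : CData p M B x u₀ R β X y c ε) {i : ZMod N} (hi : i ≠ 0) {w : G}
    (hw : w ∈ CG (Subgroup.zpowers (pw u₀ i))) (hwr : ¬ p ∣ orderOf w) :
    MemLocalRing M (β i w) ∧ MemLocalRing M ((N : ℂ) * β i w /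
      (Nat.card (Subgroup.centralizer ({pw u₀ i * w} : Set G)) : ℂ)) := by
  classical
  have hab := comm_of_cyclic hcyc
  have hv : pw u₀ i ∈ x.1 := pow_mem (hgen ▸ Subgroup.mem_zpowers u₀) _
  have hv1 : pw u₀ i ≠ 1 := pw_ne_one hN hi
  obtain ⟨ha1, hale, haB⟩ := av_spec hM hx hv
  have hvp := order_pow hx.1.1.1 ⟨_, hv⟩
  set v := pw u₀ i with hvdef
  set a := av p M x v with ha
  have hcardN : Nat.card x.1 = N := by rw [← hgen, Nat.card_zpowers, hN]
  letI := Fintype.ofFinite (CG a.1)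
  have h1 : x.1 ≤ CG a.1 := le_cg_of_comm hab (le_subgroup hale)
  have h2 : CG x.1 ≤ CG a.1 := Subgroup.centralizer_le (le_subgroup hale)
  have hne : a.1 ≠ ⊥ := fun h => hv1 (Subgroup.zpowers_eq_bot.1 (ha1.symm.trans h))
  have hx' : IsMx p M a.2 (dn (CG a.1) x h1 h2) := Wat.isMx_dn hM hx hab hale h1 h2
  obtain ⟨-, -, hnil⟩ := cyclic_local hM (P := x.1) (e := x.2) hx hcyc
    (Wat.step_of_le hM hx.1.1 hab hale) hne
  set x' := dn (CG a.1) x h1 h2 with hx'def
  have hst : stab x' ≤ CG x'.1 := by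
    intro t ht
    refine (mem_cg_subgroupOf h1 t).2 (free_of_cyclic hM (P := x.1) (e := x.2) hx hcyc _
      ((Wat.mem_stab_dn h1 h2 t).1 ht) v hv hv1 ?_)
    rw [← Subgroup.mem_centralizer_iff.1 t.2 v (ha1 ▸ Subgroup.mem_zpowers _), mul_inv_cancel_right]
  have hab' := Wat.comm_dn hab h1 h2
  obtain ⟨η₀, hη₀, hloc, -⟩ := exists_local hM hnil hx' hab' hst
  -- all the members agree on the regular elements
  have hreg : ∀ η ∈ a.2, ∀ t : CG a.1, ¬ p ∣ orderOf t →
      (η : CG a.1 → ℂ) t = (η₀ : CG a.1 → ℂ) t := by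
    intro η hη t ht
    obtain ⟨l, hl⟩ := hloc η hη
    obtain ⟨e1, e2, -⟩ := av_spec hM hx' (one_mem x'.1)
    have hh := hl 1 t (by rw [OneMemClass.coe_one, Wat.mem_cg_zpowers]; simp) ht
    rw [map_one, Units.val_one, one_mul, OneMemClass.coe_one] at hh
    have hc : ∀ ξ ∈ a.2, sct (ξ : CG a.1 → ℂ) (av p M x' 1) 1 t = (ξ : CG a.1 → ℂ) t := fun ξ hξ => by
      have h := sct_center hM hnil.1 (P := x'.1) (e := x'.2) hx' (u := (1 : x'.1))
        (by simp) e1 e2 hξ ht
      rw [OneMemClass.coe_one, centralChar_one, one_mul] at h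
      exact h
    rw [hc η hη, hc η₀ hη₀] at hh
    exact hh
  -- integrality
  obtain ⟨χ, hχ⟩ : X.Nonempty := Finset.card_pos.1 (by
    rw [hD.card_X, ← hD.card_R]; exact Nat.card_pos)
  obtain ⟨m, hm⟩ := exists_sct_mult (irr_isChar χ) a
  obtain ⟨w', rfl⟩ : ∃ w' : CG a.1, (w' : G) = w := ⟨⟨w, by rw [ha1]; exact hw⟩, rfl⟩
  have hwr' : ¬ p ∣ orderOf w' := by rwa [← Subgroup.orderOf_coe]
  set κ : ℂ := -(c χ : ℂ) * ∑ ξ ∈ Finset.univ.filter (· ∈ a.2),
    (m ξ : ℂ) * centralChar (ξ : CG a.1 → ℂ) ⟨v, h1 hv⟩ with hκ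
  have hβ : β i (w' : G) = κ * (η₀ : CG a.1 → ℂ) w' := by
    have h := hm ⟨v, h1 hv⟩ ((SetLike.ext_iff.1 ha1 v).2 (Subgroup.mem_zpowers v)) w'
    rw [show sct (χ : G → ℂ) a ((⟨v, h1 hv⟩ : CG a.1) : G) (w' : G) = -(c χ : ℂ) * β i w' from
      hD.sct_X χ hχ i hi w' hw hwr, Finset.sum_congr rfl fun ξ hξ => by
      rw [hreg ξ (Finset.mem_filter.1 hξ).2 w' hwr'], ← Finset.sum_mul] at h
    have hc2 : (c χ : ℂ) * (c χ : ℂ) = 1 := by
      rcases hD.c_sign χ hχ with e | e <;> simp [e]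
    rw [hκ]
    linear_combination (-(c χ : ℂ)) * h - β i (w' : G) * hc2
  have hκr : MemLocalRing M κ := ring_mul hM (ring_neg (ring_intCast hM _))
    (ring_sum hM fun ξ _ => ring_mul hM (ring_natCast hM _)
      (ring_of_integral hM (centralChar_isIntegral ξ _)))
  refine ⟨hβ ▸ ring_mul hM hκr (irr_ring hM _ _), ?_⟩
  have hvan : ∀ t : CG a.1, p ∣ orderOf t →
      ∑ ξ ∈ Finset.univ.filter (· ∈ a.2), (1 : ℂ) * (ξ : CG a.1 → ℂ) t = 0 := by
    intro t ht
    have h := DefectOne.blockCoeff_singular hM hnil.1 (k := t) ht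
    rw [blockCoeff, finsum_mem_block a.2, mul_eq_zero] at h
    replace h := h.resolve_left (inv_ne_zero (Nat.cast_ne_zero.2 Nat.card_pos.ne'))
    rw [Finset.sum_congr rfl (g := fun ξ : IrrCharacter (CG a.1) =>
      (η₀ : CG a.1 → ℂ) 1 * conj ((ξ : CG a.1 → ℂ) t)) fun ξ hξ => by
        rw [hreg ξ (Finset.mem_filter.1 hξ).2 1 (by rw [orderOf_one]; exact hp.out.not_dvd_one)],
      ← Finset.mul_sum, ← map_sum] at h
    have h' := congrArg (starRingEnd ℂ) ((mul_eq_zero.1 h).resolve_left (irr_one_ne_zero η₀))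
    simpa using h'
  have hdiv := div_centralizer_ring (G := CG a.1) hM (Finset.univ.filter (· ∈ a.2))
    (fun _ => 1) (fun _ _ => ring_one hM) hvan hwr'
  have hcard : Nat.card a.2 = N := by
    rw [card_eq_of_nilpotent hM hnil hx' hab', hx'def, dn_fst,
      Nat.card_congr (Subgroup.subgroupOfEquivOfLe h1).toEquiv, hcardN]
  rw [Finset.sum_congr rfl (g := fun _ => (η₀ : CG a.1 → ℂ) w') fun ξ hξ => by
      rw [one_mul, hreg ξ (Finset.mem_filter.1 hξ).2 w' hwr'], Finset.sum_const, nsmul_eq_mul,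
    show (Finset.univ.filter (· ∈ a.2)).card = N by
      rw [← hcard, Nat.card_eq_fintype_card, Fintype.card_subtype]] at hdiv
  have hcc : Nat.card (Subgroup.centralizer ({v * (w' : G)} : Set G)) =
      Nat.card (Subgroup.centralizer ({w'} : Set (CG a.1))) := by
    have hgen : ∀ (Q : Subgroup G), Q = Subgroup.zpowers v → ∀ t : CG Q, ¬ p ∣ orderOf t →
        Nat.card (Subgroup.centralizer ({v * (t : G)} : Set G)) =
          Nat.card (Subgroup.centralizer ({t} : Set (CG Q))) := by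
      rintro Q rfl t ht
      exact card_centralizer_mul hvp t ht
    exact hgen a.1 ha1 w' hwr'
  rw [hcc, hβ]
  convert ring_mul hM hκr hdiv using 1
  ring

end Cfsg.Agent.Char.CycDef
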