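import Cfsg.Agent.Lib.Char.CycDefIso
import Cfsg.Agent.Lib.Block.Elementary
import Mathlib.RingTheory.ZMod.UnitsCyclic

/-!
The Frobenius group with cyclic kernel as a block with cyclic defect group.
-/

open scoped ComplexConjugate

namespace Cfsg.Agent.Char.CycDef

open Cfsg Cfsg.Agent.Block Cfsg.Agent.Char.BP Cfsg.Agent.Char.Spec Cfsg.Agent.Char.Star

set_option linter.unusedSectionVars false
set_option linter.style.haveILetI false
set_option maxHeartbeats 1600000

universe u

/-- Subgroups of the units of the same order dividing `p - 1` are equal. -/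
theorem units_subgroup_eq {p : ℕ} [hp : Fact p.Prime] {a N : ℕ} [NeZero N] (hN : N = p ^ a)
    {R R' : Subgroup (ZMod N)ˣ} (hcard : Nat.card R = Nat.card R') (he : Nat.card R ∣ p - 1) :
    R = R' := by
  by_cases h2 : p = 2
  · subst h2
    have h1 : Nat.card R = 1 := Nat.dvd_one.1 he
    rw [Subgroup.eq_bot_of_card_eq R h1, Subgroup.eq_bot_of_card_eq R' (hcard ▸ h1)]
  · subst hN
    letI : Fintype (ZMod (p ^ a))ˣ := Fintype.ofFinite _
    haveI : IsCyclic (ZMod (p ^ a))ˣ := ZMod.isCyclic_units_of_prime_pow p hp.out h2 a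
    exact eq_of_le_cyclic_of_card_eq (P := (⊤ : Subgroup (ZMod (p ^ a))ˣ))
      ((MulEquiv.isCyclic Subgroup.topEquiv).2 inferInstance) le_top le_top hcard

variable {F : Type u} [Group F] [Fintype F] {p : ℕ} [hp : Fact p.Prime] {M : Ideal AlgInt}
variable {Q : Subgroup F} [hQn : Q.Normal] {N : ℕ} [NeZero N]

/-- The coefficient function of the only block. -/
theorem blockCoeff_all {H : Type u} [Group H] [Fintype H] [DecidableEq H]
    {f : Set (IrrCharacter H)} (hf : ∀ ξ, ξ ∈ f) (k : H) :
    blockCoeff f k = if k = 1 then 1 else 0 := by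
  classical
  rw [blockCoeff, finsum_mem_block f, Finset.filter_true_of_mem fun ξ _ => hf ξ,
    Cfsg.Agent.Char.sum_irr_mul_conj]
  by_cases hk : k = 1
  · subst hk
    have h : Subgroup.centralizer ({(1 : H)} : Set H) = ⊤ := eq_top_iff.2 fun t _ =>
      Subgroup.mem_centralizer_singleton_iff.2 (by simp)
    rw [if_pos (IsConj.refl 1), if_pos rfl, h, Subgroup.card_top,
      inv_mul_cancel₀ (Nat.cast_ne_zero.2 Nat.card_pos.ne')]
  · rw [if_neg hk, if_neg fun h => hk (isConj_one_right.1 h), mul_zero]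

/-- Everything about the Frobenius group. -/
theorem frob_setup (hM : IsPModular p M) {a e : ℕ} (hQc : IsCyclic Q) (hQ : Nat.card Q = p ^ a)
    (hF : Nat.card F = p ^ a * e) (hpe : ¬ p ∣ e) (hC : Subgroup.centralizer (Q : Set F) = Q) :
    IsPBlock M (Set.univ : Set (IrrCharacter F)) ∧
      IsMx p M (Set.univ : Set (IrrCharacter F)) (prPair M Q) ∧
      stab (prPair M Q : BrauerPairIdx F) = ⊤ ∧
      (CG Q).relIndex (stab (prPair M Q : BrauerPairIdx F)) = e := by
  have hQp : IsPGroup p Q := IsPGroup.of_card hQ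
  have hidx : Q.index = e := by
    have h := Q.card_mul_index
    rw [hQ, hF] at h
    exact Nat.eq_of_mul_eq_mul_left (pow_pos hp.out.pos a) h
  have huniv : principalBlock M F = Set.univ := by
    refine Set.eq_univ_of_forall fun χ => ?_
    rw [pblock_eq_blockOf hM (isPBlock_principalBlock (M := M) (G := F))
      (trivial_mem_principalBlock hM)]
    exact mem_blockOf.2 (single_block_of_centralizer hM Q hQp hC.le (trivialIrr F) χ)
  have hst : stab (prPair M Q : BrauerPairIdx F) = ⊤ := eq_top_iff.2 fun g _ => by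
    have hg : g ∈ Subgroup.normalizer (Q : Set F) := Subgroup.normalizer_eq_top Q ▸ Subgroup.mem_top g
    refine mem_stab_of_cjI hg ?_
    rw [cjI_prPair hM, map_conj_eq_of_normalizer hg]
  refine ⟨huniv ▸ isPBlock_principalBlock, ?_, hst, ?_⟩
  · have h := isMx_prPair_sylow hM (hQp.toSylow (by rw [hidx]; exact hpe))
    rwa [huniv, IsPGroup.toSylow_coe] at h
  · rw [hst, Subgroup.relIndex_top_right, show CG Q = Q from hC, hidx]

variable {u₀ : F} {R : Subgroup (ZMod N)ˣ} {β : ZMod N → F → ℂ} {X : Finset (IrrCharacter F)}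
  {y : ZMod N → IrrCharacter F} {c : IrrCharacter F → ℤ} {ε : ℤ}

/-- At most one member off the unit rows is nontrivial on the kernel, and then there is only one
exceptional member. -/
theorem frob_signs (hM : IsPModular p M) {a e : ℕ} (hQc : IsCyclic Q) (hQ : Nat.card Q = p ^ a)
    (hF : Nat.card F = p ^ a * e) (hpe : ¬ p ∣ e) (hC : Subgroup.centralizer (Q : Set F) = Q)
    (ha : 0 < a) (he1 : 1 < e) (hgen : Subgroup.zpowers u₀ = Q) (hN : orderOf u₀ = N)
    (hD : CData p M (Set.univ : Set (IrrCharacter F)) (prPair M Q) u₀ R β X y c ε)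
    {η η' : IrrCharacter F} (hη : ∃ q ∈ Q, (η : F → ℂ) q ≠ (η : F → ℂ) 1)
    (hη' : ∃ q ∈ Q, (η' : F → ℂ) q ≠ (η' : F → ℂ) 1) (hX : η ∈ X) : η' = η := by
  classical
  obtain ⟨hB, hx, hst, hrel⟩ := frob_setup hM hQc hQ hF hpe hC
  have hNa : N = p ^ a := by rw [← hN, ← Nat.card_zpowers, hgen, hQ]
  have hN2 : 2 ≤ N := hNa ▸ le_trans hp.out.two_le (Nat.le_self_pow ha.ne' p)
  have hgen' : Subgroup.zpowers u₀ = (prPair M Q : BrauerPairIdx F).1 := hgen
  have hu : u₀ ∈ Q := hgen ▸ Subgroup.mem_zpowers u₀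
  have hpw : ∀ i : ZMod N, pw u₀ i ∈ Q := fun i => pow_mem hu _
  have hfree := free_of_cyclic hM (P := Q) (e := (prPair M Q : BrauerPairIdx F).2) hx hQc
  have hcen : ∀ v ∈ Q, v ≠ 1 → CG (Subgroup.zpowers v) = Q := by
    intro v hv hv1
    refine le_antisymm (fun g hg => ?_) ?_
    · have h1 : g ∈ CG Q := hfree g (hst ▸ Subgroup.mem_top g) v hv hv1 (Wat.mem_cg_zpowers.1 hg)
      exact hC.le h1
    · calc Q = CG Q := hC.symm
        _ ≤ _ := Subgroup.centralizer_le (Subgroup.zpowers_le.2 hv)
  have hreg1 : ¬ p ∣ orderOf (1 : F) := by rw [orderOf_one]; exact hp.out.not_dvd_one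
  -- the sections are the values
  have hval : ∀ (ξ : IrrCharacter F) (i : ZMod N), i ≠ 0 →
      sct (ξ : F → ℂ) (av p M (prPair M Q) (pw u₀ i)) (pw u₀ i) 1 = (ξ : F → ℂ) (pw u₀ i) := by
    intro ξ i hi
    obtain ⟨e1, e2, e3⟩ := av_spec hM hx (v := pw u₀ i) (hpw i)
    set b := av p M (prPair M Q) (pw u₀ i) with hb
    clear_value b
    letI := Fintype.ofFinite (CG b.1)
    have hCp : IsPGroup p (CG b.1) := by
      rw [e1, hcen _ (hpw i) (pw_ne_one hN hi)]
      exact IsPGroup.of_card hQ
    have hall : ∀ θ : IrrCharacter (CG b.1), θ ∈ b.2 := fun θ => by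
      obtain ⟨θ₀, hθ₀⟩ := pblock_nonempty hM e3.1.2
      rw [pblock_eq_blockOf hM e3.1.2 hθ₀]
      exact mem_blockOf.2 (single_block_of_centralizer hM ⊤ (hCp.to_subgroup ⊤) le_top θ₀ θ)
    rw [sct_eq_sub, Finset.sum_eq_single (1 : CG b.1)]
    · rw [blockCoeff_all hall, if_pos rfl, one_mul]
      simp
    · intro k _ hk
      rw [blockCoeff_all hall, if_neg hk, zero_mul]
    · exact fun h => absurd (Finset.mem_univ _) h
  replace hrel : (CG (prPair M Q : BrauerPairIdx F).1).relIndex
      (stab (prPair M Q : BrauerPairIdx F)) = e := hrel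
  have hey := card_ys hD
  rw [hrel] at hey
  -- the units
  have hβ : ∃ k : ℤ, (k = 1 ∨ k = -1) ∧ ∀ i : ZMod N, i ≠ 0 → β i 1 = k := by
    rcases (hD.mem_iff (trivialIrr F)).1 trivial with h | ⟨j₀, hj₀, hj₀'⟩
    · refine ⟨-c (trivialIrr F), by rcases hD.c_sign _ h with e | e <;> simp [e], fun i hi => ?_⟩
      have h1 := hD.sct_X _ h i hi 1 (one_mem _) hreg1
      rw [hval _ i hi, show ((trivialIrr F : IrrCharacter F) : F → ℂ) = fun _ => 1 from rfl] at h1
      rcases hD.c_sign _ h with e | e <;> rw [e] at h1 ⊢ <;> push_cast at h1 ⊢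
      · linear_combination h1
      · linear_combination -h1
    · have htriv : trivialIrr F ∈ ys y := mem_ys.2 ⟨j₀, hj₀, hj₀'⟩
      have honly : ys y = {trivialIrr F} := by
        refine Finset.eq_singleton_iff_unique_mem.2 ⟨htriv, fun ψ hψ => ?_⟩
        have hone : ∀ g : F, ¬ p ∣ orderOf g → (ψ : F → ℂ) g = 1 := fun g hg => by
          rw [agree hD hψ htriv hg]; rfl
        obtain ⟨l, hl'⟩ := linearHom_of_isCharacter (irr_isChar ψ) (hone 1 hreg1)
        have hl : ∀ g, ((l g : ℂˣ) : ℂ) = (ψ : F → ℂ) g := fun g => (congrFun hl' g).symm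
        have hR1 : ∃ r ∈ R, r ≠ 1 := by
          by_contra hall
          push Not at hall
          have h1 : Nat.card R = 1 := by
            rw [show R = ⊥ from (Subgroup.eq_bot_iff_forall R).2 hall, Subgroup.card_bot]
          rw [hD.card_R] at h1
          exact he1.ne' (hrel.symm.trans h1)
        obtain ⟨r, hr, hr1⟩ := hR1
        obtain ⟨t, -, htu⟩ := (hD.mem_R r).1 hr
        have hsurj : Function.Surjective fun i : ZMod N => ((r : ZMod N) - 1) * i := by
          refine Finite.injective_iff_surjective.1 fun i i' h => ?_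
          by_contra hne
          refine hr1 (hD.free r hr (i - i') (sub_ne_zero.2 hne) ?_)
          replace h : ((r : ZMod N) - 1) * i = ((r : ZMod N) - 1) * i' := h
          linear_combination h
        have hQ1 : ∀ q ∈ Q, (ψ : F → ℂ) q = 1 := by
          intro q hq
          obtain ⟨i, rfl⟩ := exists_pw hN (v := q) (hgen ▸ hq)
          obtain ⟨i', rfl⟩ := hsurj i
          have h1 := irr_classFun ψ (pw u₀ i') t
          rw [conj_pw hN htu i'] at h1
          have hmul : pw u₀ ((r : ZMod N) * i') = pw u₀ (((r : ZMod N) - 1) * i') * pw u₀ i' := by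
            rw [pw, pw, pw, ← pow_add, pow_eq_pow_iff_modEq, hN, ← ZMod.natCast_eq_natCast_iff]
            push_cast
            simp only [ZMod.natCast_zmod_val]
            ring
          rw [hmul, ← hl, ← hl, map_mul, Units.val_mul] at h1
          rw [← hl]
          exact mul_right_cancel₀ (Units.ne_zero _) (h1.trans (one_mul _).symm)
        refine Subtype.ext (funext fun g => ?_)
        show (ψ : F → ℂ) g = 1
        obtain ⟨u, w, rfl, hc, hu', hw⟩ := Star.exists_split (p := p) g
        obtain ⟨k, hk⟩ := hu'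
        have huQ : u ∈ Q := by
          have h1 : u ∈ Q := by
            have hzp : IsPGroup p (Subgroup.zpowers u) := IsPGroup.of_card (n := k)
              (by rw [Nat.card_zpowers, hk])
            obtain ⟨S, hS⟩ := hzp.exists_le_sylow
            have hidx : ¬ p ∣ Q.index := by
              have h := Q.card_mul_index
              rw [hQ, hF] at h
              rw [Nat.eq_of_mul_eq_mul_left (pow_pos hp.out.pos a) h]
              exact hpe
            set S₀ := (IsPGroup.of_card hQ).toSylow hidx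
            haveI : (S₀ : Subgroup F).Normal := by rw [IsPGroup.toSylow_coe]; exact hQn
            haveI := Sylow.unique_of_normal S₀ inferInstance
            have hSQ : (S : Subgroup F) = Q := by
              rw [Subsingleton.elim S S₀, IsPGroup.toSylow_coe]
            exact hSQ ▸ hS (Subgroup.mem_zpowers u)
          exact h1
        rw [← hl, map_mul, Units.val_mul, hl, hl, hQ1 u huQ, hone w hw, mul_one]
      refine ⟨-ε, by rcases hD.ε_sign with e | e <;> simp [e], fun i hi => ?_⟩
      have h1 := sum_sct_ys hD hi (one_mem _) hreg1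
      rw [honly, Finset.sum_singleton, hval _ i hi,
        show ((trivialIrr F : IrrCharacter F) : F → ℂ) = fun _ => 1 from rfl] at h1
      rcases hD.ε_sign with e | e <;> rw [e] at h1 ⊢ <;> push_cast at h1 ⊢
      · linear_combination h1
      · linear_combination -h1
  obtain ⟨k, hk, hβk⟩ := hβ
  -- a member constant on the kernel and nontrivial there
  have key : ∀ ξ : IrrCharacter F, (∃ q ∈ Q, (ξ : F → ℂ) q ≠ (ξ : F → ℂ) 1) →
      ∀ l : ℤ, (l = 1 ∨ l = -1) → (∀ i : ZMod N, i ≠ 0 → (ξ : F → ℂ) (pw u₀ i) = l) →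
      (charDegree (ξ : F → ℂ) : ℤ) = N - 1 := by
    intro ξ hξ l hl hv
    letI := Fintype.ofFinite Q
    have h0 : classInner (fun q : Q => (ξ : F → ℂ) q) (trivialIrr Q : Q → ℂ) = 0 := by
      by_contra hne
      obtain ⟨q, hq, hq'⟩ := hξ
      exact hq' (OverCyclic.apply_eq_one (trivialIrr Q).2 ξ.2 hne (x := ⟨q, hq⟩) fun _ => rfl)
    rw [classInner, mul_eq_zero] at h0
    replace h0 := h0.resolve_left (inv_ne_zero (Nat.cast_ne_zero.2 Nat.card_pos.ne'))
    have h1 : ∑ i : ZMod N, (ξ : F → ℂ) (pw u₀ i) = 0 := by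
      rw [← h0]
      refine Finset.sum_bij (fun i _ => (⟨pw u₀ i, hpw i⟩ : Q)) (fun _ _ => Finset.mem_univ _)
        (fun i _ j _ h => pw_inj hN (congrArg Subtype.val h)) (fun q _ => ?_) fun i _ => ?_
      · obtain ⟨i, hi⟩ := exists_pw hN (v := (q : F)) (hgen ▸ q.2)
        exact ⟨i, Finset.mem_univ _, Subtype.ext hi⟩
      · simp [show ((trivialIrr Q : IrrCharacter Q) : Q → ℂ) = fun _ => 1 from rfl]
    rw [← Finset.add_sum_erase _ _ (Finset.mem_univ (0 : ZMod N)), pw_zero, charDeg_spec',
      Finset.sum_congr rfl fun i hi => hv i (Finset.ne_of_mem_erase hi), Finset.sum_const,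
      Finset.card_erase_of_mem (Finset.mem_univ _), Finset.card_univ, ZMod.card, nsmul_eq_mul,
      Nat.cast_sub (by omega : 1 ≤ N)] at h1
    have h2 : (charDegree (ξ : F → ℂ) : ℤ) + ((N : ℤ) - 1) * l = 0 := by
      apply Int.cast_injective (α := ℂ)
      push_cast
      push_cast at h1
      exact h1
    rcases hl with rfl | rfl
    · have h3 : (0 : ℤ) ≤ charDegree (ξ : F → ℂ) := Int.natCast_nonneg _
      have : (2 : ℤ) ≤ N := by exact_mod_cast hN2
      omega
    · omega
  have hconstX : ∀ ξ ∈ X, ∀ i : ZMod N, i ≠ 0 → (ξ : F → ℂ) (pw u₀ i) = ((-(c ξ * k) : ℤ) : ℂ) :=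
    fun ξ hξ i hi => by
      rw [← hval ξ i hi, hD.sct_X ξ hξ i hi 1 (one_mem _) hreg1, hβk i hi]
      push_cast
      ring
  have hsq : ∀ ξ ξ' : IrrCharacter F, ξ ≠ ξ' →
      charDegree (ξ : F → ℂ) ^ 2 + charDegree (ξ' : F → ℂ) ^ 2 ≤ Nat.card F := by
    intro ξ ξ' hne
    have h : ∑ χ : IrrCharacter F, charDegree (χ : F → ℂ) ^ 2 = Nat.card F := by
      apply Nat.cast_injective (R := ℂ)
      push_cast
      rw [← sum_degree_sq (G := F)]
      exact Finset.sum_congr rfl fun χ _ => by rw [charDeg_spec']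
    rw [← h, ← Finset.sum_pair hne (f := fun χ : IrrCharacter F => charDegree (χ : F → ℂ) ^ 2)]
    exact Finset.sum_le_univ_sum_of_nonneg fun _ => Nat.zero_le _
  have hd : (charDegree (η : F → ℂ) : ℤ) = N - 1 :=
    key η hη _ (by rcases hD.c_sign η hX with e | e <;> rcases hk with e' | e' <;> simp [e, e'])
      (hconstX η hX)
  have hd' : charDegree (η : F → ℂ) = N - 1 := by omega
  have hcardF : Nat.card F = N * e := by rw [hF, hNa]
  have hntriv : η ≠ trivialIrr F := fun h => by
    obtain ⟨q, -, hq⟩ := hη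
    exact hq (by rw [h]; rfl)
  have htd : charDegree ((trivialIrr F : IrrCharacter F) : F → ℂ) = 1 := by
    apply Nat.cast_injective (R := ℂ)
    rw [← charDeg_spec', Nat.cast_one]
    rfl
  have hy1 : (ys y).card = 1 := by
    have h1 := hsq η (trivialIrr F) hntriv
    rw [hd', htd, one_pow, hcardF] at h1
    have hy0 : (ys y).card ≠ 0 := fun h => by rw [h, zero_mul] at hey; omega
    by_contra hne
    have h2 : 2 * e ≤ N - 1 := hey ▸ Nat.mul_le_mul_right e (by omega)
    obtain ⟨m, rfl⟩ : ∃ m, N = m + 2 := ⟨N - 2, by omega⟩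
    simp only [show m + 2 - 1 = m + 1 from rfl] at h1 h2
    nlinarith
  by_contra hne
  have hd2 : charDegree (η' : F → ℂ) = N - 1 := by
    have h : (charDegree (η' : F → ℂ) : ℤ) = N - 1 := by
      rcases (hD.mem_iff η').1 trivial with h | ⟨j, hj, rfl⟩
      · exact key η' hη' _
          (by rcases hD.c_sign η' h with e | e <;> rcases hk with e' | e' <;> simp [e, e'])
          (hconstX η' h)
      · obtain ⟨ψ₀, hψ₀⟩ := Finset.card_eq_one.1 hy1
        have hmem : y j ∈ ys y := mem_ys.2 ⟨j, hj, rfl⟩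
        rw [hψ₀, Finset.mem_singleton] at hmem
        refine key (y j) hη' (-(ε * k))
          (by rcases hD.ε_sign with e | e <;> rcases hk with e' | e' <;> simp [e, e']) fun i hi => ?_
        have h1 := sum_sct_ys hD hi (one_mem _) hreg1
        rw [hψ₀, Finset.sum_singleton, ← hmem, hval _ i hi, hβk i hi] at h1
        rw [h1]
        push_cast
        ring
    omega
  have h1 := hsq η η' (Ne.symm hne)
  rw [hd', hd2, hcardF] at h1
  rw [hy1, one_mul] at hey
  obtain ⟨m, rfl⟩ : ∃ m, N = m + 2 := ⟨N - 2, by omega⟩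
  simp only [show m + 2 - 1 = m + 1 from rfl] at h1 hey
  subst hey
  nlinarith

end Cfsg.Agent.Char.CycDef
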