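import Cfsg.Agent.Lib.Char.MajorSubsection
import Cfsg.Agent.Lib.Char.RegularIntegral

/-!
The contributions of a major subsection: they are algebraic integers, and those of two characters
of height zero are units at the prime.
-/

open scoped ComplexConjugate

namespace Cfsg.Agent.Char.Spec

open Cfsg.Agent.Block Cfsg.Agent.Char.BP

set_option linter.unusedSectionVars false
set_option linter.style.haveILetI false

universe u

variable {G : Type u} [Group G] [Fintype G] {p : ℕ} {M : Ideal AlgInt}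
variable {B : Set (IrrCharacter G)}

/-- The section at a pair through the multiplicities in the restriction. -/
theorem exists_sct_mult {χ : G → ℂ} (hχ : IsCharacter G χ) (a : BrauerPairIdx G)
    [Fintype (CG a.1)] [DecidablePred (· ∈ a.2)] :
    ∃ m : IrrCharacter (CG a.1) → ℕ, ∀ (z : CG a.1), (z : G) ∈ a.1 → ∀ v : CG a.1,
      sct χ a (z : G) (v : G) = ∑ ξ ∈ Finset.univ.filter (· ∈ a.2),
        ((m ξ : ℂ) * centralChar (ξ : CG a.1 → ℂ) z) * (ξ : CG a.1 → ℂ) v := by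
  classical
  refine ⟨fun ξ => Glaub.mult (CG a.1) χ (ξ : CG a.1 → ℂ), fun z hza v => ?_⟩
  have hz : z ∈ Subgroup.center (CG a.1) := Subgroup.mem_center_iff.mpr fun t =>
    Subtype.ext (Subgroup.mem_centralizer_iff.1 t.2 (z : G) hza).symm
  have hexp : ∀ w : CG a.1, χ ((z * w : CG a.1) : G) = ∑ φ : IrrCharacter (CG a.1),
      ((Glaub.mult (CG a.1) χ (φ : CG a.1 → ℂ) : ℂ) * centralChar (φ : CG a.1 → ℂ) z) *
        (φ : CG a.1 → ℂ) w := by
    intro w
    rw [Glaub.res_expansion _ hχ (z * w)]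
    exact Finset.sum_congr rfl fun φ _ => by rw [centralChar_of_center hz w, mul_assoc]
  have hid : ∀ φ : IrrCharacter (CG a.1),
      ∑ k : CG a.1, blockCoeff a.2 k * (φ : CG a.1 → ℂ) (k * v) =
        blockInd a.2 φ * (φ : CG a.1 → ℂ) v := by
    intro φ
    simp only [blockCoeff_eq]
    rw [sum_classFun_mul_apply φ.2 (coeffFun_classFun _) v,
      ← omegaFun_coeffFun (blockInd a.2) φ, omegaFun]
  rw [sct_eq_sub]
  simp only [← Subgroup.coe_mul, mul_assoc z, hexp, Finset.mul_sum]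
  rw [Finset.sum_comm, Finset.sum_filter]
  refine Finset.sum_congr rfl fun φ _ => ?_
  simp only [mul_left_comm (blockCoeff a.2 _), ← Finset.mul_sum, hid]
  by_cases hφ : φ ∈ a.2
  · rw [if_pos hφ, blockInd_of_mem hφ, one_mul]
  · rw [if_neg hφ, blockInd_of_notMem hφ, zero_mul, mul_zero]

/-- The central character at a central `p`-element is one modulo the ideal. -/
theorem centralChar_sub_one [Fact p.Prime] (hM : IsPModular p M) (ξ : IrrCharacter G) {z : G}
    (hz : z ∈ Subgroup.center G) (hzp : ∃ k, orderOf z = p ^ k) :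
    MemLocalIdeal M (centralChar (ξ : G → ℂ) z - 1) := by
  obtain ⟨k, hk⟩ := hzp
  refine ideal_root_sub_one hM (k := k) ?_
  have h1 : ∀ n : ℕ, (ξ : G → ℂ) (z ^ n) = centralChar (ξ : G → ℂ) z ^ n * (ξ : G → ℂ) 1 := by
    intro n
    induction n with
    | zero => simp
    | succ n ih => rw [pow_succ', centralChar_of_center hz, ih, pow_succ', mul_assoc]
  have h2 := h1 (p ^ k)
  rw [← hk, pow_orderOf_eq_one] at h2
  exact mul_right_cancel₀ (irr_one_ne_zero ξ) (by rw [one_mul, ← hk]; exact h2.symm)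

/-- The block part of the restriction to a major subsection has the full `p`-part. -/
theorem section_degree_unit [Fact p.Prime] (hM : IsPModular p M) {a : BrauerPairIdx G} {y : G}
    (hay : a.1 = Subgroup.zpowers y) (haB : OfB p M B a)
    (hd : blockDefect p a.2 = blockDefect p B) {χ : IrrCharacter G} (hχ : χ ∈ B)
    (h0 : blockHeight p B (χ : G → ℂ) = 0) :
    ¬ MemLocalIdeal M ((p : ℂ) ^ blockDefect p B * sct (χ : G → ℂ) a 1 1 /
      (Nat.card (CG a.1) : ℂ)) := by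
  classical
  have hp : p.Prime := Fact.out
  letI := Fintype.ofFinite (G ⧸ CG a.1)
  obtain ⟨x, hx, hle, hC⟩ := exists_max_major hM haB hd
  obtain ⟨ξ, hξ⟩ := pblock_nonempty hM hx.1.1.2
  set f : G → ℂ := fun g => ∑ t : G ⧸ CG a.1, be (cjI t.out a) g with hf
  have hcf : IsClassFunction G f := by
    intro g u
    refine Fintype.sum_equiv (MulAction.toPerm u⁻¹) _ _ fun t => ?_
    obtain ⟨c, hc⟩ := QuotientGroup.mk_out_eq_mul (CG a.1) (u⁻¹ * t.out)
    have e : MulAction.toPerm u⁻¹ t = ((u⁻¹ * t.out : G) : G ⧸ CG a.1) := by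
      conv_lhs => rw [← QuotientGroup.out_eq' t]
      rfl
    rw [e, hc, ← cjI_cjI, cjI_eq_of_stab (cg_le_stab a c.2), be_cjI, be_cjI]
    show be a (t.out⁻¹ * (u * g * u⁻¹) * t.out) = be a ((u⁻¹ * t.out)⁻¹ * g * (u⁻¹ * t.out))
    congr 1
    group
  have hr : ∀ g, MemLocalRing M (f g) := fun g =>
    ring_sum hM fun t _ => (be_idem hM (isPr_cjI hM _ haB.1)).1 g
  have h1 := omega_congr_val hM hx.1 hcf hr hχ hξ
  have h2 := val_orbit_major hM hay hx hle hC hξ
  have homega : ¬ MemLocalIdeal M (omegaFun χ f) := by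
    intro hi
    have h3 : MemLocalIdeal M (((CG a.1).relIndex (stab x) : ℕ) : ℂ) := by
      have := ideal_sub hM (ideal_sub hM hi h1) h2
      simpa [hf] using this
    exact not_dvd_major hM hx hle hC ((ideal_natCast_iff hM _).1 h3)
  have hval : omegaFun χ f = ((CG a.1).index : ℂ) * sct (χ : G → ℂ) a 1 1 / (χ : G → ℂ) 1 := by
    rw [omegaFun]
    congr 1
    simp only [hf, Finset.sum_mul]
    rw [Finset.sum_comm]
    have hterm : ∀ t : G ⧸ CG a.1,
        ∑ g : G, be (cjI t.out a) g * (χ : G → ℂ) g = sct (χ : G → ℂ) a 1 1 := by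
      intro t
      have h := sct_conj (irr_classFun χ) a t.out 1 1
      simp only [mul_one, mul_inv_cancel] at h
      rw [← h, sct]
      simp
    rw [Finset.sum_congr rfl fun t _ => hterm t, Finset.sum_const, nsmul_eq_mul,
      Finset.card_univ, ← Nat.card_eq_fintype_card, Subgroup.index_eq_card]
  have hu : ¬ MemLocalIdeal M (((charDegree (χ : G → ℂ) * p ^ blockDefect p B : ℕ) : ℂ) /
      (Nat.card G : ℂ)) := by
    refine natDiv_notMem hM Nat.card_pos.ne'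
      (Nat.mul_ne_zero (charDeg_pos χ).ne' (pow_ne_zero _ hp.ne_zero)) ?_
    rw [Nat.factorization_mul (charDeg_pos χ).ne' (pow_ne_zero _ hp.ne_zero), Finsupp.add_apply,
      Nat.Prime.factorization_pow hp, Finsupp.single_eq_same,
      ← (blockHeight_zero_iff hM haB.2.1 hχ).1 h0, add_comm]
  intro hi
  refine ideal_notMem_mul hM (?_ : MemLocalRing M (omegaFun χ f)) ?_ homega hu ?_
  · have := ring_add hM (ring_of_ideal h1) (val_ring hM hr (inv_of_classFun hcf _) ξ)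
    simpa using this
  · refine ring_natDiv hM Nat.card_pos.ne'
      (Nat.mul_ne_zero (charDeg_pos χ).ne' (pow_ne_zero _ hp.ne_zero)) ?_
    rw [Nat.factorization_mul (charDeg_pos χ).ne' (pow_ne_zero _ hp.ne_zero), Finsupp.add_apply,
      Nat.Prime.factorization_pow hp, Finsupp.single_eq_same,
      ← (blockHeight_zero_iff hM haB.2.1 hχ).1 h0, add_comm]
  · convert hi using 1
    rw [hval, Nat.cast_mul, ← charDeg_spec', Nat.cast_pow,
      ← Subgroup.index_mul_card (CG a.1), Nat.cast_mul]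
    have h4 : (((CG a.1).index : ℕ) : ℂ) ≠ 0 :=
      Nat.cast_ne_zero.2 Subgroup.index_ne_zero_of_finite
    have h5 := irr_one_ne_zero χ
    field_simp

/-- The contribution of a subsection to a pair of characters. -/
noncomputable def contrib (p : ℕ) (d : ℕ) (a : BrauerPairIdx G) (y : G) (χ η : IrrCharacter G) :
    ℂ :=
  (p : ℂ) ^ d * secT p (χ : G → ℂ) (η : G → ℂ) a y / (Nat.card (CG a.1) : ℂ)

/-- The contributions at a major subsection: integral, units for height zero. -/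
theorem contrib_major [Fact p.Prime] (hM : IsPModular p M) {a : BrauerPairIdx G} {y : G}
    (hy : ∃ k, orderOf y = p ^ k) (hay : a.1 = Subgroup.zpowers y) (haB : OfB p M B a)
    (hd : blockDefect p a.2 = blockDefect p B) (χ η : IrrCharacter G) :
    IsIntegral ℤ (contrib p (blockDefect p B) a y χ η) ∧
      (χ ∈ B → η ∈ B → blockHeight p B (χ : G → ℂ) = 0 → blockHeight p B (η : G → ℂ) = 0 →
        ¬ MemLocalIdeal M (contrib p (blockDefect p B) a y χ η)) := by
  classical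
  have hp : p.Prime := Fact.out
  letI := Fintype.ofFinite (CG a.1)
  set A := Finset.univ.filter (· ∈ a.2) with hA
  set C := (Nat.card (CG a.1) : ℂ) with hC
  have hC0 : C ≠ 0 := Nat.cast_ne_zero.2 Nat.card_pos.ne'
  have hb := haB.1.2
  set z : CG a.1 := ⟨y, self_mem_cg hay⟩ with hz
  have hza : (z : G) ∈ a.1 := (SetLike.ext_iff.1 hay y).2 (Subgroup.mem_zpowers y)
  have hzc : z ∈ Subgroup.center (CG a.1) := Subgroup.mem_center_iff.mpr fun t =>
    Subtype.ext (Subgroup.mem_centralizer_iff.1 t.2 y hza).symm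
  obtain ⟨k, hk⟩ := hy
  have hzp : ∃ k, orderOf z = p ^ k := ⟨k, by rw [← hk, ← Subgroup.orderOf_coe]⟩
  obtain ⟨m, hm⟩ := exists_sct_mult (irr_isChar χ) a
  obtain ⟨m', hm'⟩ := exists_sct_mult (irr_isChar η) a
  set c : IrrCharacter (CG a.1) → ℂ := fun ξ => (m ξ : ℂ) * centralChar (ξ : CG a.1 → ℂ) z with hc
  set c' : IrrCharacter (CG a.1) → ℂ :=
    fun ξ => (m' ξ : ℂ) * centralChar (ξ : CG a.1 → ℂ) z with hc'
  obtain ⟨w, hw, hsym, -, -, hdvd⟩ := Contrib.exists_regMatrix hM hb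
  rw [hd] at hw
  have hval : contrib p (blockDefect p B) a y χ η =
      ∑ ξ ∈ A, ∑ ξ' ∈ A, c ξ * conj (c' ξ') * (w ξ ξ' : ℂ) := by
    have h1 : ∀ v : CG a.1, ¬ p ∣ orderOf v → sct (χ : G → ℂ) a y (v : G) =
        ∑ ξ ∈ A, c ξ * (ξ : CG a.1 → ℂ) v := fun v _ => hm z hza v
    have h2 : ∀ v : CG a.1, ¬ p ∣ orderOf v → sct (η : G → ℂ) a y (v : G) =
        ∑ ξ ∈ A, c' ξ * (ξ : CG a.1 → ℂ) v := fun v _ => hm' z hza v
    rw [contrib, secT, sum_regs_eq_regSum a.1 _ _ _ _ h1 h2, regSum_eq_sum, ← hC, div_eq_iff hC0]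
    simp only [Finset.sum_mul, map_sum, map_mul, Finset.mul_sum]
    rw [Finset.sum_comm]
    conv_lhs => enter [2, ξ]; rw [Finset.sum_comm]
    rw [Finset.sum_comm]
    refine Finset.sum_congr rfl fun ξ hξ => Finset.sum_congr rfl fun ξ' hξ' => ?_
    have h3 := hw ξ (Finset.mem_filter.1 hξ).2 ξ' (Finset.mem_filter.1 hξ').2
    rw [mul_assoc (c ξ * conj (c' ξ')), mul_comm (w ξ ξ' : ℂ) C, hC, ← h3, regSum_eq_sum,
      Finset.sum_mul, Finset.mul_sum]
    exact Finset.sum_congr rfl fun v _ => by ring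
  have hint : ∀ ξ, IsIntegral ℤ (c ξ) ∧ IsIntegral ℤ (c' ξ) := fun ξ =>
    ⟨IsIntegral.mul (by simpa using isIntegral_algebraMap (R := ℤ) (A := ℂ) (x := (m ξ : ℤ)))
      (centralChar_isIntegral ξ z),
    IsIntegral.mul (by simpa using isIntegral_algebraMap (R := ℤ) (A := ℂ) (x := (m' ξ : ℤ)))
      (centralChar_isIntegral ξ z)⟩
  refine ⟨?_, fun hχ hη h0 h0' hi => ?_⟩
  · rw [hval]
    exact IsIntegral.sum _ fun ξ _ => IsIntegral.sum _ fun ξ' _ =>
      ((hint ξ).1.mul (isIntegral_conj (hint ξ').2)).mul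
        (by simpa using isIntegral_algebraMap (R := ℤ) (A := ℂ) (x := w ξ ξ'))
  -- modulo the ideal the pairing has rank one
  obtain ⟨ξ₀, hξ₀, h00⟩ := exists_height_zero hM hb
  set u : IrrCharacter (CG a.1) → ℂ := fun ξ =>
    ((charDegree (ξ : CG a.1 → ℂ) * p ^ blockDefect p B : ℕ) : ℂ) / C with hu
  have hufac : ∀ ξ ∈ a.2, (Nat.card (CG a.1)).factorization p ≤
      (charDegree (ξ : CG a.1 → ℂ) * p ^ blockDefect p B).factorization p := fun ξ hξ => by
    rw [Nat.factorization_mul (charDeg_pos ξ).ne' (pow_ne_zero _ hp.ne_zero), Finsupp.add_apply,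
      Nat.Prime.factorization_pow hp, Finsupp.single_eq_same, ← hd, add_comm]
    exact le_defect_add hM hb hξ
  have hur : ∀ ξ ∈ a.2, MemLocalRing M (u ξ) := fun ξ hξ => ring_natDiv hM Nat.card_pos.ne'
    (Nat.mul_ne_zero (charDeg_pos ξ).ne' (pow_ne_zero _ hp.ne_zero)) (hufac ξ hξ)
  set r := regPair p ξ₀ ξ₀ with hr
  have hrr : MemLocalRing M r := (cenInt_regPair hM ξ₀).ring hM ξ₀
  have hwu : ∀ ξ ∈ a.2, ∀ ξ' ∈ a.2, (w ξ ξ' : ℂ) = regPair p ξ' ξ * u ξ := fun ξ hξ ξ' hξ' => by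
    have h3 := hw ξ hξ ξ' hξ'
    simp only [regPair, hu]
    rw [Nat.cast_mul, ← charDeg_spec', Nat.cast_pow]
    have h5 := irr_one_ne_zero ξ
    rw [← hC] at h3
    field_simp
    linear_combination -h3
  have hpc : ∀ ξ ∈ a.2, ∀ ξ' ∈ a.2,
      MemLocalIdeal M (regPair p ξ' ξ - regPair p ξ' ξ₀) := fun ξ hξ ξ' _ =>
    (cenInt_regPair hM ξ').congr_block hM (pblock_sameBlock hM hb hξ hξ₀)
  have hrank : ∀ ξ ∈ a.2, ∀ ξ' ∈ a.2,
      MemLocalIdeal M ((w ξ ξ' : ℂ) * u ξ₀ - r * (u ξ * u ξ')) := by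
    intro ξ hξ ξ' hξ'
    have e1 : (w ξ ξ' : ℂ) * u ξ₀ - r * (u ξ * u ξ') =
        (regPair p ξ' ξ - regPair p ξ' ξ₀) * (u ξ * u ξ₀) +
        (regPair p ξ₀ ξ' - regPair p ξ₀ ξ₀) * (u ξ * u ξ') := by
      have h4 := hwu ξ₀ hξ₀ ξ' hξ'
      rw [hsym ξ₀ hξ₀ ξ' hξ', hwu ξ' hξ' ξ₀ hξ₀] at h4
      rw [hwu ξ hξ ξ' hξ']
      linear_combination -(u ξ) * h4
    rw [e1]
    exact ideal_add hM
      (ideal_mul_right hM (hpc ξ hξ ξ' hξ') (ring_mul hM (hur ξ hξ) (hur ξ₀ hξ₀)))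
      (ideal_mul_right hM (hpc ξ' hξ' ξ₀ hξ₀) (ring_mul hM (hur ξ hξ) (hur ξ' hξ')))
  have hL : ∀ (μ : IrrCharacter G) (mm : IrrCharacter (CG a.1) → ℕ),
      (∀ (z : CG a.1), (z : G) ∈ a.1 → ∀ v : CG a.1, sct (μ : G → ℂ) a (z : G) (v : G) =
        ∑ ξ ∈ A, ((mm ξ : ℂ) * centralChar (ξ : CG a.1 → ℂ) z) * (ξ : CG a.1 → ℂ) v) →
      μ ∈ B → blockHeight p B (μ : G → ℂ) = 0 →
      ¬ MemLocalIdeal M (∑ ξ ∈ A, (mm ξ : ℂ) * centralChar (ξ : CG a.1 → ℂ) z * u ξ) ∧
      ¬ MemLocalIdeal M (∑ ξ ∈ A, conj ((mm ξ : ℂ) * centralChar (ξ : CG a.1 → ℂ) z) * u ξ) := by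
    intro μ mm hmm hμ hμ0
    have h1 : (p : ℂ) ^ blockDefect p B * sct (μ : G → ℂ) a 1 1 / C =
        ∑ ξ ∈ A, (mm ξ : ℂ) * u ξ := by
      have h := hmm 1 (one_mem _) 1
      rw [OneMemClass.coe_one] at h
      rw [h, Finset.mul_sum, Finset.sum_div]
      refine Finset.sum_congr rfl fun ξ _ => ?_
      simp only [centralChar_one, hu]
      rw [Nat.cast_mul, ← charDeg_spec', Nat.cast_pow]
      ring
    have hone : ∀ ξ : IrrCharacter (CG a.1), MemLocalIdeal M (centralChar (ξ : CG a.1 → ℂ) z - 1) :=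
      fun ξ => centralChar_sub_one hM ξ hzc hzp
    have hconj : ∀ ξ : IrrCharacter (CG a.1),
        MemLocalIdeal M (conj (centralChar (ξ : CG a.1 → ℂ) z) - 1) := by
      intro ξ
      obtain ⟨k, hk⟩ := hzp
      have hi : z⁻¹ ∈ Subgroup.center (CG a.1) := inv_mem hzc
      have e : conj (centralChar (ξ : CG a.1 → ℂ) z) = centralChar (ξ : CG a.1 → ℂ) z⁻¹ := by
        refine mul_right_cancel₀ (irr_one_ne_zero ξ) ?_
        rw [← centralChar_of_center hi, mul_one, irr_apply_inv,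
          ← mul_one z, centralChar_of_center hzc, map_mul, mul_one, charDeg_spec', map_natCast]
      rw [e]
      exact centralChar_sub_one hM ξ hi ⟨k, by rw [orderOf_inv, hk]⟩
    have hnot := section_degree_unit hM hay haB hd hμ hμ0
    rw [← hC, h1] at hnot
    constructor <;> intro hi <;> apply hnot <;> refine (ideal_congr hM ?_).1 hi
    · rw [← Finset.sum_sub_distrib]
      refine ideal_sum hM fun ξ hξ => ?_
      rw [show (mm ξ : ℂ) * centralChar (ξ : CG a.1 → ℂ) z * u ξ - (mm ξ : ℂ) * u ξ =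
        (centralChar (ξ : CG a.1 → ℂ) z - 1) * ((mm ξ : ℂ) * u ξ) by ring]
      exact ideal_mul_right hM (hone ξ)
        (ring_mul hM (ring_natCast hM _) (hur ξ (Finset.mem_filter.1 hξ).2))
    · rw [← Finset.sum_sub_distrib]
      refine ideal_sum hM fun ξ hξ => ?_
      rw [map_mul, map_natCast, show (mm ξ : ℂ) * conj (centralChar (ξ : CG a.1 → ℂ) z) * u ξ -
        (mm ξ : ℂ) * u ξ =
        (conj (centralChar (ξ : CG a.1 → ℂ) z) - 1) * ((mm ξ : ℂ) * u ξ) by ring]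
      exact ideal_mul_right hM (hconj ξ)
        (ring_mul hM (ring_natCast hM _) (hur ξ (Finset.mem_filter.1 hξ).2))
  have hcr : ∀ ξ, MemLocalRing M (c ξ) ∧ MemLocalRing M (conj (c' ξ)) := fun ξ =>
    ⟨ring_of_integral hM (hint ξ).1, ring_of_integral hM (isIntegral_conj (hint ξ).2)⟩
  have hfinal : MemLocalIdeal M (contrib p (blockDefect p B) a y χ η * u ξ₀ -
      r * ((∑ ξ ∈ A, c ξ * u ξ) * (∑ ξ ∈ A, conj (c' ξ) * u ξ))) := by
    have e : contrib p (blockDefect p B) a y χ η * u ξ₀ -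
        r * ((∑ ξ ∈ A, c ξ * u ξ) * (∑ ξ ∈ A, conj (c' ξ) * u ξ)) =
        ∑ ξ ∈ A, ∑ ξ' ∈ A, c ξ * conj (c' ξ') * ((w ξ ξ' : ℂ) * u ξ₀ - r * (u ξ * u ξ')) := by
      rw [hval, Finset.sum_mul_sum]
      simp only [Finset.sum_mul, Finset.mul_sum, ← Finset.sum_sub_distrib]
      exact Finset.sum_congr rfl fun ξ _ => Finset.sum_congr rfl fun ξ' _ => by ring
    rw [e]
    exact ideal_sum hM fun ξ hξ => ideal_sum hM fun ξ' hξ' => ideal_mul_left hM
      (ring_mul hM (hcr ξ).1 (hcr ξ').2)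
      (hrank ξ (Finset.mem_filter.1 hξ).2 ξ' (Finset.mem_filter.1 hξ').2)
  have h1 := (hL χ m hm hχ h0).1
  have h2 := (hL η m' hm' hη h0').2
  have h3 : MemLocalIdeal M (contrib p (blockDefect p B) a y χ η * u ξ₀) :=
    ideal_mul_right hM hi (hur ξ₀ hξ₀)
  have h4 : MemLocalIdeal M (r * ((∑ ξ ∈ A, c ξ * u ξ) * (∑ ξ ∈ A, conj (c' ξ) * u ξ))) := by
    simpa using ideal_sub hM h3 hfinal
  have hr1 : MemLocalRing M (∑ ξ ∈ A, c ξ * u ξ) := ring_sum hM fun ξ hξ =>
    ring_mul hM (hcr ξ).1 (hur ξ (Finset.mem_filter.1 hξ).2)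
  have hr2 : MemLocalRing M (∑ ξ ∈ A, conj (c' ξ) * u ξ) := ring_sum hM fun ξ hξ =>
    ring_mul hM (hcr ξ).2 (hur ξ (Finset.mem_filter.1 hξ).2)
  exact ideal_notMem_mul hM hrr (ring_mul hM hr1 hr2) (regPair_unit hM hb hξ₀ hξ₀ h00)
    (ideal_notMem_mul hM hr1 hr2 h1 h2) h4

end Cfsg.Agent.Char.Spec
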