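import Cfsg.Agent.Lib.Char.SectionNonvanish
import Cfsg.Agent.Lib.Char.MajorContrib
import Cfsg.Agent.Lib.Char.CentricLocal
import Cfsg.Agent.Lib.Block.MaximalPair
import Cfsg.Agent.Lib.Block.NilpotentBlock

/-!
Blocks with a Sylow subgroup `P` of order `p`: the structure of a block of the centralizer of `P`,
and the orthogonality of the generalized decomposition numbers at the non-trivial elements of `P`.
-/

open scoped ComplexConjugate

namespace Cfsg.Agent.Char.DefectOne

open Cfsg Cfsg.Agent.Block Cfsg.Agent.Char.BP Cfsg.Agent.Char.Spec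

set_option linter.unusedSectionVars false
set_option linter.style.haveILetI false
set_option maxHeartbeats 800000

universe u

variable {G : Type u} [Group G] [Fintype G] {p : ℕ} [hp : Fact p.Prime] {M : Ideal AlgInt}
variable {P : Subgroup G}

theorem mem_zpowers_of_prime (hPp : Nat.card P = p) {u : G} (hu : u ∈ P) (hu1 : u ≠ 1) :
    Subgroup.zpowers u = P := by
  refine Subgroup.eq_of_le_of_card_ge (Subgroup.zpowers_le.2 hu) ?_
  rw [hPp, Nat.card_zpowers]
  refine le_of_eq (Eq.symm ?_)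
  rw [← Subgroup.orderOf_mk u hu]
  exact ((Nat.dvd_prime hp.out).1 (hPp ▸ orderOf_dvd_natCard _)).resolve_left
    fun h => hu1 (congrArg Subtype.val (orderOf_eq_one_iff.1 h))

theorem le_cg (hPp : Nat.card P = p) : P ≤ CG P := by
  intro u hu
  haveI : Fact (Nat.card P).Prime := ⟨hPp.symm ▸ hp.out⟩
  haveI := isCyclic_of_prime_card (α := P) rfl
  letI : CommGroup P := IsCyclic.commGroup
  exact Subgroup.mem_centralizer_iff.2 fun v hv =>
    congrArg Subtype.val (mul_comm (⟨v, hv⟩ : P) ⟨u, hu⟩)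

theorem pPow_mem (hPp : Nat.card P = p) {u : G} (hu : u ∈ P) : ∃ k, orderOf u = p ^ k := by
  by_cases h : u = 1
  · exact ⟨0, by simp [h]⟩
  · exact ⟨1, by rw [pow_one, ← hPp, ← mem_zpowers_of_prime hPp hu h, Nat.card_zpowers]⟩

/-- A block of the centralizer: `p` members, all restricting to the canonical one on regular
elements, one of them with `P` in its kernel. -/
theorem local_block (hM : IsPModular p M) (hPp : Nat.card P = p) (hsyl : ¬ p ∣ P.index)
    {b : Set (IrrCharacter (CG P))} (hb : IsPBlock M b) {θ : IrrCharacter (CG P)} (hθ : θ ∈ b)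
    (hθP : ∀ x : CG P, (x : G) ∈ P → (θ : CG P → ℂ) x = (θ : CG P → ℂ) 1) :
    Nat.card b = p ∧
      (∀ ξ ∈ b, (∀ x : CG P, (x : G) ∈ P → (ξ : CG P → ℂ) x = (ξ : CG P → ℂ) 1) → ξ = θ) ∧
      ∀ ξ ∈ b, ∀ v : CG P, ¬ p ∣ orderOf v → (ξ : CG P → ℂ) v = (θ : CG P → ℂ) v := by
  classical
  letI := Fintype.ofFinite (CG P)
  have hPC : P ≤ (CG P) := le_cg hPp
  set P' := P.subgroupOf (CG P) with hP'
  have hc' : ∀ d ∈ P', ∀ g : (CG P), d * g = g * d := fun d hd g =>
    Subtype.ext (Subgroup.mem_centralizer_iff.1 g.2 (d : G) hd)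
  haveI : P'.Normal := ⟨fun d hd g => by rwa [← hc' d hd g, mul_inv_cancel_right]⟩
  have hcard' : Nat.card P' = p := by
    rw [Nat.card_congr (Subgroup.subgroupOfEquivOfLe hPC).toEquiv, hPp]
  have hP'p : IsPGroup p P' := IsPGroup.of_card (n := 1) (by rw [hcard', pow_one])
  obtain ⟨D, hD⟩ := exists_isDefectGroup hM hb
  have hle : P' ≤ D := normal_le_defectGroup hM hb hD hP'p
  have hDeq : P' = D := by
    refine Subgroup.eq_of_le_of_card_ge hle ?_
    obtain ⟨a, ha⟩ := (IsDefectGroup.isPGroup hD).exists_card_eq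
    rw [ha, hcard']
    rcases Nat.lt_or_ge a 2 with h | h
    · exact le_trans (Nat.pow_le_pow_right hp.out.pos (Nat.le_of_lt_succ h)) (pow_one p).le
    · exfalso
      have h2 : p * p ∣ Nat.card G :=
        ((sq p ▸ pow_dvd_pow p h).trans (ha ▸ Subgroup.card_subgroup_dvd_card D)).trans
          (Subgroup.card_subgroup_dvd_card (CG P))
      rw [← P.card_mul_index, hPp] at h2
      exact hsyl ((Nat.mul_dvd_mul_iff_left hp.out.pos).1 h2)
  subst hDeq
  have hG : P' ⊔ Subgroup.centralizer (P' : Set (CG P)) = ⊤ := eq_top_iff.2 fun g _ =>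
    Subgroup.mem_sup_right (Subgroup.mem_centralizer_iff.2 fun d hd => hc' d hd g)
  obtain ⟨⟨θ₀, -, huniq⟩, -, hcard, hstr⟩ := sup_centralizer_block_full hM hG hb hD
  have hker : ∀ ξ : IrrCharacter (CG P),
      (∀ x : (CG P), (x : G) ∈ P → (ξ : (CG P) → ℂ) x = (ξ : (CG P) → ℂ) 1) →
      ∀ x ∈ P', (ξ : (CG P) → ℂ) x = (ξ : (CG P) → ℂ) 1 := fun ξ h x hx => h x hx
  have heq : ∀ ξ ∈ b, (∀ x ∈ P', (ξ : (CG P) → ℂ) x = (ξ : (CG P) → ℂ) 1) → ξ = θ := fun ξ hξ h =>
    (huniq ξ ⟨hξ, h⟩).trans (huniq θ ⟨hθ, hker θ hθP⟩).symm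
  haveI : Fact (Nat.card P').Prime := ⟨hcard'.symm ▸ hp.out⟩
  have hcomm : ∀ a c : P', a * c = c * a := fun a c => Subtype.ext (hc' a a.2 c)
  have hk : Nat.card (ConjClasses P') = p := by
    refine (Nat.card_congr (Equiv.ofBijective ConjClasses.mk ⟨fun a c h => ?_,
      ConjClasses.mk_surjective⟩)).symm.trans hcard'
    obtain ⟨t, ht⟩ := isConj_iff.1 (ConjClasses.mk_eq_mk_iff_isConj.1 h)
    rwa [hcomm, inv_mul_cancel_left] at ht
  refine ⟨hcard.trans hk, fun ξ hξ h => heq ξ hξ (hker ξ h), fun ξ hξ v hv => ?_⟩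
  choose η hη θφ hθφ hkerφ hval hdeg using hstr
  have hone : ∀ φ : IrrCharacter P', (φ : P' → ℂ) 1 = 1 := fun φ =>
    IsIrr.one_of_comm hcomm φ.2
  have hdegη : ∀ φ, (η φ : (CG P) → ℂ) 1 = (θ : (CG P) → ℂ) 1 := fun φ => by
    rw [hdeg, hone, mul_one, heq _ (hθφ φ) (hkerφ φ)]
  have hinj : Function.Injective fun φ => (⟨η φ, hη φ⟩ : b) := by
    intro φ φ' h
    have h' : η φ = η φ' := congrArg Subtype.val h
    refine Subtype.ext (funext fun x => ?_)
    have h1 := hval φ x
    rw [h', hval φ' x, hone, hone, div_one] at h1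
    exact (mul_left_cancel₀ (irr_one_ne_zero (η φ')) h1).symm
  have hsurj := ((Nat.bijective_iff_injective_and_card _).2
    ⟨hinj, by rw [card_irrCharacter, hk, hcard, hk]⟩).2
  have hdegree : ∀ ζ ∈ b, (ζ : (CG P) → ℂ) 1 = (θ : (CG P) → ℂ) 1 := fun ζ hζ => by
    obtain ⟨φ, hφ⟩ := hsurj ⟨ζ, hζ⟩
    rw [← show η φ = ζ from congrArg Subtype.val hφ]
    exact hdegη φ
  have hnil := CentricLocal.nilpotent_of_central hM hb hD hc'
  obtain ⟨-, χ₀, hχ₀, hprop⟩ := rank_of_nilpotent hM hnil
  have hreg1 : ¬ p ∣ orderOf (1 : (CG P)) := by rw [orderOf_one]; exact hp.out.not_dvd_one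
  have hkey : ∀ ζ ∈ b, (ζ : (CG P) → ℂ) v = (χ₀ : (CG P) → ℂ) v := by
    intro ζ hζ
    obtain ⟨d, hd⟩ := hprop ζ hζ
    have h1 := hd 1
    have h2 := hd v
    rw [pRegularPart_apply, pRegularPart_apply, if_pos (show IsPRegular p (1 : (CG P)) from hreg1),
      if_pos (show IsPRegular p (1 : (CG P)) from hreg1), hdegree ζ hζ, hdegree χ₀ hχ₀] at h1
    rw [pRegularPart_apply, pRegularPart_apply, if_pos (show IsPRegular p v from hv),
      if_pos (show IsPRegular p v from hv)] at h2
    have hd1 : (d : ℂ) = 1 :=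
      (mul_right_cancel₀ (irr_one_ne_zero θ) ((one_mul _).trans h1)).symm
    rw [h2, hd1, one_mul]
  rw [hkey ξ hξ, hkey θ hθ]

theorem blockCoeff_singular (hM : IsPModular p M) {H : Type u} [Group H] [Finite H]
    {b : Set (IrrCharacter H)} (hb : IsPBlock M b) {k : H} (hk : p ∣ orderOf k) :
    blockCoeff b k = 0 := by
  rw [blockCoeff, weak_orth hM hb (x := (1 : H)) (by rw [orderOf_one]; exact hp.out.not_dvd_one) hk,
    mul_zero]

/-- The product of the coefficient functions of two sets of characters. -/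
theorem sum_blockCoeff_conj {H : Type u} [Group H] [Fintype H] (b b' : Set (IrrCharacter H))
    [DecidablePred (· ∈ b)] [DecidablePred (· ∈ b')] :
    ∑ k : H, blockCoeff b k * conj (blockCoeff b' k) =
      (Nat.card H : ℂ)⁻¹ * ∑ ξ ∈ Finset.univ.filter (fun ξ => ξ ∈ b ∧ ξ ∈ b'),
        (ξ : H → ℂ) 1 * (ξ : H → ℂ) 1 := by
  classical
  have hH : (Nat.card H : ℂ) ≠ 0 := Nat.cast_ne_zero.2 Nat.card_pos.ne'
  have horth : ∀ ξ η : IrrCharacter H, ∑ k : H, conj ((ξ : H → ℂ) k) * (η : H → ℂ) k =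
      if η = ξ then (Nat.card H : ℂ) else 0 := by
    intro ξ η
    have h : (Nat.card H : ℂ) * classInner (η : H → ℂ) (ξ : H → ℂ) =
        ∑ k : H, conj ((ξ : H → ℂ) k) * (η : H → ℂ) k := by
      rw [classInner, mul_inv_cancel_left₀ hH]
      exact Finset.sum_congr rfl fun k _ => mul_comm _ _
    rw [← h]
    split
    · next e => subst e; rw [classInner_self_irr η.2, mul_one]
    · next e => rw [classInner_irr_ne η.2 ξ.2 (fun h => e (Subtype.ext h)), mul_zero]
  simp only [blockCoeff, finsum_mem_block]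
  calc ∑ k : H, (Nat.card H : ℂ)⁻¹ * (∑ ξ ∈ Finset.univ.filter (· ∈ b),
          (ξ : H → ℂ) 1 * conj ((ξ : H → ℂ) k)) *
        conj ((Nat.card H : ℂ)⁻¹ * ∑ η ∈ Finset.univ.filter (· ∈ b'),
          (η : H → ℂ) 1 * conj ((η : H → ℂ) k))
      = (Nat.card H : ℂ)⁻¹ * (Nat.card H : ℂ)⁻¹ * ∑ ξ ∈ Finset.univ.filter (· ∈ b),
          ∑ η ∈ Finset.univ.filter (· ∈ b'), (ξ : H → ℂ) 1 * conj ((η : H → ℂ) 1) *
            ∑ k : H, conj ((ξ : H → ℂ) k) * (η : H → ℂ) k := by
        simp only [map_mul, map_sum, map_inv₀, map_natCast, Complex.conj_conj, Finset.mul_sum,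
          Finset.sum_mul]
        conv_rhs => rw [Finset.sum_congr rfl fun ξ _ => Finset.sum_comm]
        rw [Finset.sum_comm (s := Finset.univ.filter (· ∈ b))]
        refine Finset.sum_congr rfl fun k _ => Finset.sum_comm.trans ?_
        exact Finset.sum_congr rfl fun ξ _ => Finset.sum_congr rfl fun η _ => by ring
    _ = _ := by
        simp only [horth, mul_ite, mul_zero, Finset.sum_ite_eq', Finset.mem_filter,
          Finset.mem_univ, true_and]
        rw [← Finset.sum_filter, Finset.filter_filter, Finset.mul_sum, Finset.mul_sum]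
        refine Finset.sum_congr rfl fun ξ _ => ?_
        rw [charDeg_spec', Complex.conj_natCast]
        field_simp

variable (hM : IsPModular p M)

include hM in
open scoped Classical in
/-- The Gram identity for the sections at two elements of `P`. -/
theorem sum_sct_mul (hPp : Nat.card P = p) (hsyl : ¬ p ∣ P.index) {B : Set (IrrCharacter G)}
    (hB : IsPBlock M B) {b : Set (IrrCharacter (CG P))}
    (haB : OfB p M B (⟨P, b⟩ : BrauerPairIdx G)) {θ : IrrCharacter (CG P)} (hθ : θ ∈ b)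
    (hθP : ∀ x : CG P, (x : G) ∈ P → (θ : CG P → ℂ) x = (θ : CG P → ℂ) 1) {T : Subgroup G}
    (hT : ∀ g : G, g ∈ T ↔ (g ∈ Subgroup.normalizer (P : Set G) ∧ ∀ c c' : CG P,
      (c' : G) = g * c * g⁻¹ → (θ : CG P → ℂ) c' = (θ : CG P → ℂ) c))
    {u u' : G} (hu : u ∈ P) (hu1 : u ≠ 1) (hu' : u' ∈ P) (hu'1 : u' ≠ 1) :
    ∑ χ ∈ Finset.univ.filter (· ∈ B), sct (χ : G → ℂ) (⟨P, b⟩ : BrauerPairIdx G) u 1 *
        conj (sct (χ : G → ℂ) (⟨P, b⟩ : BrauerPairIdx G) u' 1) =
      (p : ℂ) * ((θ : CG P → ℂ) 1 * (θ : CG P → ℂ) 1) * (Nat.card (CG P) : ℂ)⁻¹ *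
        ((Finset.univ.filter fun y : G => y ∈ T ∧ y * u * y⁻¹ = u').card : ℂ) := by
  classical
  letI := Fintype.ofFinite (CG P)
  set a : BrauerPairIdx G := ⟨P, b⟩
  have hb : IsPBlock M b := haB.1.2
  obtain ⟨hcardb, huniq, hreg⟩ := local_block hM hPp hsyl hb hθ hθP
  have hsub : ∀ χ : IrrCharacter G, χ ∉ B → sct (χ : G → ℂ) a u 1 = 0 := by
    intro χ hχ
    refine sct_eq_zero hM (mem_blockOf_self hM χ) (isPBlock_blockOf χ) haB.1 (pPow_mem hPp hu)
      (mem_zpowers_of_prime hPp hu hu1).symm (fun h => hχ ?_) (one_mem _)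
      (by rw [orderOf_one]; exact hp.out.not_dvd_one)
    rw [ofB_unique hM haB h]
    exact mem_blockOf_self hM χ
  rw [Finset.sum_subset (Finset.subset_univ _) fun χ _ hχ => by
    rw [hsub χ (by simpa using hχ), zero_mul]]
  have hexp : ∀ w (χ : IrrCharacter G), sct (χ : G → ℂ) a w 1 =
      ∑ k : G, be a k * (χ : G → ℂ) (w * k) := fun w χ => by simp [sct]
  have hsupp : ∀ k, be a k ≠ 0 → k ∈ CG P ∧ ¬ p ∣ orderOf k := by
    intro k hk
    have hkC : k ∈ CG P := by
      by_contra h
      exact hk (bc_supp _ _ _ h)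
    refine ⟨hkC, fun h => hk ?_⟩
    show bc (CG P) b ((⟨k, hkC⟩ : CG P) : G) = 0
    rw [bc_coe]
    exact blockCoeff_singular hM hb (by rwa [← Subgroup.orderOf_coe])
  have hterm : ∀ y : G,
      ∑ k : G, be a k * conj (be a (u'⁻¹ * (y * (u * k) * y⁻¹))) =
      if y ∈ T ∧ y * u * y⁻¹ = u' then
        (p : ℂ) * ((θ : CG P → ℂ) 1 * (θ : CG P → ℂ) 1) * (Nat.card (CG P) : ℂ)⁻¹ else 0 := by
    intro y
    by_cases hy : y * u * y⁻¹ = u'
    · have hyN : y ∈ Subgroup.normalizer (P : Set G) := by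
        have h1 : P.map (MulAut.conj y).toMonoidHom = P := by
          conv_lhs => rw [← mem_zpowers_of_prime hPp hu hu1, MonoidHom.map_zpowers]
          simpa [hy] using mem_zpowers_of_prime hPp hu' hu'1
        rw [Subgroup.mem_normalizer_iff]
        intro w
        constructor
        · intro hw
          rw [← h1]
          exact ⟨w, hw, rfl⟩
        · intro hw
          rw [← h1] at hw
          obtain ⟨v, hv, hvw⟩ := hw
          simp only [MulEquiv.coe_toMonoidHom, MulAut.conj_apply, mul_left_inj, mul_right_inj] at hvw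
          exact hvw ▸ hv
      set e := centEquiv hyN
      have hconj : ∀ k : G, u'⁻¹ * (y * (u * k) * y⁻¹) = y * k * y⁻¹ := fun k => by
        rw [← hy]; group
      simp only [hconj]
      rw [← Finset.sum_subset (Finset.subset_univ (Finset.univ.filter (· ∈ CG P))) fun k _ hk => by
        rw [show be a k = 0 from bc_supp _ _ _ (by simpa using hk), zero_mul],
        Finset.sum_subtype (p := fun k => k ∈ CG P) _ (fun k => by simp)]
      have h2 : ∀ k : CG P, be a (k : G) * conj (be a (y * (k : G) * y⁻¹)) =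
          blockCoeff b k * conj (blockCoeff (pullB e.symm b) k) := by
        intro k
        show bc (CG P) b k * conj (bc (CG P) b ((e k : CG P) : G)) = _
        rw [bc_coe, bc_coe, ← blockCoeff_pullB e.symm b (e k), MulEquiv.symm_apply_apply]
      rw [Finset.sum_congr rfl fun k _ => h2 k, sum_blockCoeff_conj]
      have hmem : irrPull e θ ∈ pullB e.symm b := by
        show irrPull e.symm (irrPull e θ) ∈ b
        rw [irrPull_self_symm]
        exact hθ
      have hb' : IsPBlock M (pullB e.symm b) := isPBlock_pullB hM _ hb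
      by_cases hyT : y ∈ T
      · rw [if_pos ⟨hyT, hy⟩]
        have hfix : irrPull e θ = θ := Subtype.ext (funext fun k =>
          ((hT y).1 hyT).2 k (e k) (centEquiv_val hyN k))
        rw [hfix] at hmem
        have heq : pullB e.symm b = b := by
          rw [pblock_eq_blockOf hM hb' hmem, ← pblock_eq_blockOf hM hb hθ]
        simp only [heq, and_self]
        have hreg1 : ¬ p ∣ orderOf (1 : CG P) := by rw [orderOf_one]; exact hp.out.not_dvd_one
        rw [Finset.sum_congr rfl fun ξ hξ => by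
          rw [hreg ξ (Finset.mem_filter.1 hξ).2 1 hreg1], Finset.sum_const, nsmul_eq_mul,
          show (Finset.univ.filter (· ∈ b)).card = p by
            rw [← hcardb, Nat.card_eq_fintype_card, Fintype.card_subtype]]
        ring
      · rw [if_neg fun h => hyT h.1, Finset.sum_eq_zero fun ξ hξ => absurd ?_ hyT, mul_zero]
        obtain ⟨-, h1, h2⟩ := Finset.mem_filter.1 hξ
        have heq : pullB e.symm b = b := by
          rw [pblock_eq_blockOf hM hb' h2, ← pblock_eq_blockOf hM hb h1]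
        rw [heq] at hmem
        have hfix : irrPull e θ = θ := huniq _ hmem fun x hx => by
          rw [irrPull_apply, irrPull_apply, map_one]
          refine hθP _ ?_
          rw [centEquiv_val]
          exact (Subgroup.mem_normalizer_iff.1 hyN _).1 hx
        refine (hT y).2 ⟨hyN, fun c c' hc => ?_⟩
        have h3 : e c = c' := Subtype.ext ((centEquiv_val hyN c).trans hc.symm)
        rw [← h3, ← irrPull_apply, hfix]
    · rw [if_neg fun h => hy h.2]
      refine Finset.sum_eq_zero fun k _ => ?_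
      by_contra hne
      obtain ⟨hk, hkr⟩ := hsupp k fun h => hne (by simp [h])
      obtain ⟨hz, hzr⟩ := hsupp (u'⁻¹ * (y * (u * k) * y⁻¹)) fun h => hne (by simp [h])
      refine hy (pPart_unique (p := p) (g := y * (u * k) * y⁻¹) ?_ ?_)
      · refine ⟨y * k * y⁻¹, by group, ?_, ?_, ?_⟩
        · exact (show Commute u k from Subgroup.mem_centralizer_iff.1 hk u hu).map
            (MulAut.conj y).toMonoidHom
        · obtain ⟨j, hj⟩ := pPow_mem hPp hu
          exact ⟨j, hj ▸ MulEquiv.orderOf_eq (MulAut.conj y) u⟩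
        · rwa [show y * k * y⁻¹ = MulAut.conj y k from rfl, MulEquiv.orderOf_eq]
      · exact ⟨_, mul_inv_cancel_left u' _, Subgroup.mem_centralizer_iff.1 hz u' hu',
          pPow_mem hPp hu', hzr⟩
  calc ∑ χ : IrrCharacter G, sct (χ : G → ℂ) a u 1 * conj (sct (χ : G → ℂ) a u' 1)
      = ∑ k : G, ∑ k' : G, be a k * conj (be a k') *
          ∑ χ : IrrCharacter G, (χ : G → ℂ) (u * k) * conj ((χ : G → ℂ) (u' * k')) := by
        simp only [hexp, map_sum, map_mul, Finset.mul_sum, Finset.sum_mul]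
        rw [Finset.sum_comm]
        conv_rhs => rw [Finset.sum_comm]
        refine Finset.sum_congr rfl fun k' _ => ?_
        rw [Finset.sum_comm]
        exact Finset.sum_congr rfl fun k _ => Finset.sum_congr rfl fun χ _ => by ring
    _ = ∑ k : G, ∑ k' : G, ∑ y : G,
          (if y * (u * k) * y⁻¹ = u' * k' then be a k * conj (be a k') else 0) := by
        refine Finset.sum_congr rfl fun k _ => Finset.sum_congr rfl fun k' _ => ?_
        rw [sum_irr_count, Finset.mul_sum]
        exact Finset.sum_congr rfl fun y _ => by rw [mul_ite, mul_one, mul_zero]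
    _ = ∑ k : G, ∑ y : G, be a k * conj (be a (u'⁻¹ * (y * (u * k) * y⁻¹))) := by
        refine Finset.sum_congr rfl fun k _ => ?_
        rw [Finset.sum_comm]
        refine Finset.sum_congr rfl fun y _ => ?_
        rw [Finset.sum_eq_single (u'⁻¹ * (y * (u * k) * y⁻¹))]
        · rw [if_pos (mul_inv_cancel_left _ _).symm]
        · intro k' _ hk'
          exact if_neg fun h => hk' (by rw [h, inv_mul_cancel_left])
        · exact fun h => absurd (Finset.mem_univ _) h
    _ = _ := by
        rw [Finset.sum_comm, Finset.sum_congr rfl fun y _ => hterm y, ← Finset.sum_filter,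
          Finset.sum_const, nsmul_eq_mul, mul_comm]

end Cfsg.Agent.Char.DefectOne
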