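import Cfsg.Agent.Lib.Char.NilpotentCount
import Cfsg.Prelude.Def_BlockRank

/-!
Nilpotent blocks have rank one on the regular elements, and their characters correspond to those of
a defect group.
-/

namespace Cfsg.Agent.Char.Spec

open Cfsg.Agent.Block Cfsg.Agent.Char.BP

set_option linter.unusedSectionVars false
set_option linter.style.haveILetI false

universe u

variable {p : ℕ} {M : Ideal AlgInt}

theorem rankOne_of_srcData {G : Type u} [Group G] [Fintype G] [Fact p.Prime]
    (hM : IsPModular p M) {B : Set (IrrCharacter G)} (hnil : IsNilpotentBlock p M B)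
    (hIH : ∀ H : Subgroup G, H ≠ ⊤ → ∀ b : Set (IrrCharacter H), IsNilpotentBlock p M b →
      RankOne p b) : RankOne p B := by
  intro χ hχ h0
  obtain ⟨D, hD⟩ := exists_isDefectGroup hM hnil.1
  obtain ⟨S, rfl⟩ := exists_srcData hM hnil hIH hχ h0 hD
  letI := Fintype.ofFinite S.P
  have hPg := IsDefectGroup.isPGroup hD
  refine ⟨?_, fun η hη => ?_⟩
  · have h := (count_one hM S hnil.1 hχ h0 hPg).1
    rw [mReg, S.card_P, Nat.cast_pow, div_mul_eq_mul_div,
      div_eq_iff (Nat.cast_ne_zero.2 Nat.card_pos.ne'), one_mul] at h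
    rw [mul_comm, h]
  · obtain ⟨n, -, hn, -⟩ := exists_mult hM S hnil.1 hχ h0 hPg hη
    exact ⟨n, hn⟩

/-- Every nilpotent block has rank one. -/
theorem rankOne_of_nilpotent [Fact p.Prime] (hM : IsPModular p M) :
    ∀ (G : Type u) [Group G] [Fintype G] (B : Set (IrrCharacter G)),
      IsNilpotentBlock p M B → RankOne p B := by
  suffices h : ∀ (m : ℕ) (G : Type u) [Group G] [Fintype G] (B : Set (IrrCharacter G)),
      Nat.card G = m → IsNilpotentBlock p M B → RankOne p B from
    fun G _ _ B hnil => h _ G B rfl hnil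
  intro m
  induction m using Nat.strong_induction_on with
  | _ m ih =>
    intro G _ _ B hm hnil
    refine rankOne_of_srcData hM hnil fun H hH b hb => ?_
    letI := Fintype.ofFinite H
    refine ih (Nat.card H) ?_ H b rfl hb
    rw [← hm]
    exact lt_of_le_of_ne (Nat.le_of_dvd Nat.card_pos (Subgroup.card_subgroup_dvd_card H))
      fun h => hH (Subgroup.card_eq_iff_eq_top H |>.1 h)

/-- The rank of a nilpotent block. -/
theorem rank_of_nilpotent [Fact p.Prime] (hM : IsPModular p M) {G : Type u} [Group G] [Fintype G]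
    {B : Set (IrrCharacter G)} (hnil : IsNilpotentBlock p M B) :
    blockRank p B = 1 ∧ ∃ χ₀ ∈ B, ∀ χ ∈ B, ∃ d : ℕ, ∀ x : G,
      pRegularPart p (χ : G → ℂ) x = (d : ℂ) * pRegularPart p (χ₀ : G → ℂ) x := by
  classical
  obtain ⟨χ, hχ, h0⟩ := exists_height_zero hM hnil.1
  obtain ⟨-, hn⟩ := rankOne_of_nilpotent hM G B hnil χ hχ h0
  have hmul : ∀ η ∈ B, ∃ d : ℕ, ∀ x : G,
      pRegularPart p (η : G → ℂ) x = (d : ℂ) * pRegularPart p (χ : G → ℂ) x := by
    intro η hη
    obtain ⟨d, hd⟩ := hn η hη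
    refine ⟨d, fun x => ?_⟩
    simp only [pRegularPart]
    split_ifs with h
    · exact hd x h
    · rw [mul_zero]
  refine ⟨?_, χ, hχ, hmul⟩
  have hspan : Submodule.span ℂ ((fun η : IrrCharacter G => pRegularPart p (η : G → ℂ)) '' B) =
      Submodule.span ℂ {pRegularPart p (χ : G → ℂ)} := by
    refine le_antisymm (Submodule.span_le.2 ?_)
      (Submodule.span_mono (Set.singleton_subset_iff.2 ⟨χ, hχ, rfl⟩))
    rintro _ ⟨η, hη, rfl⟩
    obtain ⟨d, hd⟩ := hmul η hη
    exact Submodule.mem_span_singleton.2 ⟨(d : ℂ), funext fun x => (hd x).symm⟩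
  rw [blockRank, hspan]
  refine finrank_span_singleton fun h => irr_one_ne_zero χ ?_
  have h1 := congrFun h 1
  simp only [pRegularPart, Pi.zero_apply] at h1
  rwa [if_pos] at h1
  show ¬ p ∣ orderOf (1 : G)
  rw [orderOf_one]
  exact (Fact.out : p.Prime).not_dvd_one

/-- The characters of a nilpotent block and those of its defect group. -/
theorem exists_height_equiv [Fact p.Prime] (hM : IsPModular p M) {G : Type u} [Group G] [Fintype G]
    {B : Set (IrrCharacter G)} (hnil : IsNilpotentBlock p M B) {P : Subgroup G}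
    (hP : IsDefectGroup p M B P) :
    ∃ Φ : B ≃ IrrCharacter P, ∀ χ : B, blockHeight p B ((χ : IrrCharacter G) : G → ℂ) =
      (charDegree ((Φ χ : IrrCharacter P) : P → ℂ)).factorization p := by
  classical
  obtain ⟨χ, hχ, h0⟩ := exists_height_zero hM hnil.1
  obtain ⟨S, rfl⟩ := exists_srcData hM hnil
    (fun H _ b hb => by letI := Fintype.ofFinite H; exact rankOne_of_nilpotent hM H b hb) hχ h0 hP
  letI := Fintype.ofFinite S.P
  obtain ⟨lam, hbij, hdeg⟩ := exists_irr hM S hnil.1 hχ h0 (IsDefectGroup.isPGroup hP)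
  refine ⟨Equiv.ofBijective lam hbij, fun η => ?_⟩
  have hmin : sInf ((fun ψ : IrrCharacter G => (charDegree (ψ : G → ℂ)).factorization p) '' B) =
      (charDegree (χ : G → ℂ)).factorization p := by
    have h1 : sInf ((fun ψ : IrrCharacter G => (charDegree (ψ : G → ℂ)).factorization p) '' B) ≤
        (charDegree (χ : G → ℂ)).factorization p := Nat.sInf_le ⟨χ, hχ, rfl⟩
    rw [blockHeight] at h0
    omega
  rw [Equiv.ofBijective_apply, blockHeight, hmin, hdeg η,
    Nat.factorization_mul (charDeg_pos _).ne' (charDeg_pos χ).ne', Finsupp.add_apply]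
  omega

end Cfsg.Agent.Char.Spec
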