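import Cfsg.Agent.Lib.Char.WatanabeMain
import Cfsg.Agent.Lib.Char.DefectOneData
import Cfsg.Agent.Lib.Char.NilpotentMain

/-!
A block with abelian defect group: the orthogonality of the sections at the elements of the defect
group, and what follows from the vanishing of sections.
-/

open scoped ComplexConjugate

namespace Cfsg.Agent.Char.CycDef

open Cfsg Cfsg.Agent.Block Cfsg.Agent.Char.BP Cfsg.Agent.Char.Spec Cfsg.Agent.Char.Star

set_option linter.unusedSectionVars false
set_option linter.style.haveILetI false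
set_option maxHeartbeats 1600000

universe u

variable {G : Type u} [Group G] [Fintype G] {p : ℕ} [hp : Fact p.Prime] {M : Ideal AlgInt}
variable {B : Set (IrrCharacter G)} {x : BrauerPairIdx G}

/-- The pair below `x` at an element. -/
noncomputable def av (p : ℕ) [Fact p.Prime] (M : Ideal AlgInt) (x : BrauerPairIdx G) (v : G) :
    BrauerPairIdx G :=
  Wat.bl p M x (Subgroup.zpowers v)

/-- The square norm of a pair. -/
noncomputable def wgt (a : BrauerPairIdx G) : ℂ :=
  (Nat.card (CG a.1) : ℂ) * ∑ k : G, be a k * conj (be a k)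

theorem av_spec (hM : IsPModular p M) (hx : IsMx p M B x) {v : G} (hv : v ∈ x.1) :
    (av p M x v).1 = Subgroup.zpowers v ∧ LE p M (av p M x v) x ∧ OfB p M B (av p M x v) := by
  obtain ⟨h1, h2⟩ := Wat.bl_spec hM hx.1.1 (Subgroup.zpowers_le.2 hv)
  exact ⟨h1, h2, (ofB_le hM h2).1 hx.1⟩

theorem av_conj (hM : IsPModular p M) (hx : IsMx p M B x) {t : G} (ht : t ∈ stab x) {v : G}
    (hv : v ∈ x.1) : cjI t (av p M x v) = av p M x (t * v * t⁻¹) := by
  obtain ⟨h1, h2, -⟩ := av_spec hM hx hv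
  have h3 := le_cjI hM t h2
  rw [cjI_eq_of_stab ht] at h3
  have h4 : (cjI t (av p M x v)).1 = Subgroup.zpowers (t * v * t⁻¹) := by
    show (av p M x v).1.map (MulAut.conj t).toMonoidHom = _
    rw [h1, MonoidHom.map_zpowers]
    rfl
  have h5 := Wat.bl_eq hM hx.1.1 h3
  rw [h4] at h5
  exact h5.symm

/-- Coefficient functions of different blocks of a centralizer are orthogonal. -/
theorem be_orth (hM : IsPModular p M) {Q : Subgroup G} {f f' : Set (IrrCharacter (CG Q))}
    (hf : IsPBlock M f) (hf' : IsPBlock M f') (hne : f ≠ f') :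
    ∑ k : G, be (⟨Q, f⟩ : BrauerPairIdx G) k * conj (be (⟨Q, f'⟩ : BrauerPairIdx G) k) = 0 := by
  classical
  letI := Fintype.ofFinite (CG Q)
  rw [← Finset.sum_subset (Finset.subset_univ (Finset.univ.filter (· ∈ CG Q))) fun k _ hk => by
      rw [show be (⟨Q, f⟩ : BrauerPairIdx G) k = 0 from bc_supp _ _ _ (by simpa using hk), zero_mul],
    Finset.sum_subtype (p := fun k => k ∈ CG Q) _ (fun k => by simp)]
  calc ∑ k : CG Q, bc (CG Q) f k * conj (bc (CG Q) f' k)
      = ∑ k : CG Q, blockCoeff f k * conj (blockCoeff f' k) := by simp only [bc_coe]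
    _ = 0 := by
      rw [DefectOne.sum_blockCoeff_conj, Finset.sum_eq_zero fun ξ hξ => absurd ?_ hne, mul_zero]
      obtain ⟨-, h1, h2⟩ := Finset.mem_filter.1 hξ
      rw [pblock_eq_blockOf hM hf h1, ← pblock_eq_blockOf hM hf' h2]

theorem wgt_ne_zero (hM : IsPModular p M) {a : BrauerPairIdx G} (ha : IsPBlock M a.2) :
    wgt a ≠ 0 := by
  classical
  letI := Fintype.ofFinite (CG a.1)
  rw [wgt, ← Finset.sum_subset (Finset.subset_univ (Finset.univ.filter (· ∈ CG a.1))) fun k _ hk => by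
      rw [show be a k = 0 from bc_supp _ _ _ (by simpa using hk), zero_mul],
    Finset.sum_subtype (p := fun k => k ∈ CG a.1) _ (fun k => by simp)]
  have h : ∑ k : CG a.1, be a k * conj (be a k) =
      ∑ k : CG a.1, blockCoeff a.2 k * conj (blockCoeff a.2 k) :=
    Finset.sum_congr rfl fun k _ => by rw [show be a k = blockCoeff a.2 k from bc_coe _ _ k]
  rw [h, DefectOne.sum_blockCoeff_conj, ← mul_assoc,
    mul_inv_cancel₀ (Nat.cast_ne_zero.2 Nat.card_pos.ne'), one_mul]
  obtain ⟨ξ, hξ⟩ := pblock_nonempty hM ha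
  simp only [charDeg_spec', ← Nat.cast_mul, ← Nat.cast_sum, Nat.cast_ne_zero]
  exact (Finset.sum_pos (fun η _ => Nat.mul_pos (charDeg_pos η) (charDeg_pos η))
    ⟨ξ, Finset.mem_filter.2 ⟨Finset.mem_univ _, hξ, hξ⟩⟩).ne'

theorem wgt_dn {H : Subgroup G} [Fintype H] (a : BrauerPairIdx G) (h1 : a.1 ≤ H)
    (h2 : CG a.1 ≤ H) : wgt (dn H a h1 h2) = wgt a := by
  classical
  have hC : CG (a.1.subgroupOf H) = (CG a.1).subgroupOf H := Subgroup.ext fun c => by
    rw [mem_cg_subgroupOf h1, Subgroup.mem_subgroupOf]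
  rw [wgt, wgt, dn_fst, hC, Nat.card_congr (Subgroup.subgroupOfEquivOfLe h2).toEquiv, be_dn a h1 h2,
    ← Finset.sum_subset (Finset.subset_univ (Finset.univ.filter (· ∈ H))) fun k _ hk => by
      rw [show be a k = 0 from bc_supp _ _ _ fun h => hk (by simpa using h2 h), zero_mul],
    Finset.sum_subtype (p := fun k => k ∈ H) _ (fun k => by simp)]
  rfl

/-- The Gram identity of the sections. -/
theorem sum_sct_mul (hM : IsPModular p M) (hx : IsMx p M B x)
    (hab : ∀ v ∈ x.1, ∀ w ∈ x.1, v * w = w * v) {v w : G} (hv : v ∈ x.1) (hw : w ∈ x.1)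
    [DecidablePred (· ∈ B)] [Decidable (∃ t ∈ stab x, t * v * t⁻¹ = w)] :
    ∑ χ ∈ Finset.univ.filter (· ∈ B), sct (χ : G → ℂ) (av p M x v) v 1 *
        conj (sct (χ : G → ℂ) (av p M x w) w 1) =
      if ∃ t ∈ stab x, t * v * t⁻¹ = w then wgt (av p M x v) else 0 := by
  classical
  obtain ⟨ha1, hale, haB⟩ := av_spec hM hx hv
  obtain ⟨hb1, hble, hbB⟩ := av_spec hM hx hw
  set a := av p M x v with ha
  set b := av p M x w with hb
  have hvp := order_pow hx.1.1.1 ⟨v, hv⟩
  have hwp := order_pow hx.1.1.1 ⟨w, hw⟩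
  have hpp : ¬ p ∣ orderOf (1 : G) := by rw [orderOf_one]; exact hp.out.not_dvd_one
  have hsub : ∀ χ : IrrCharacter G, χ ∉ B → sct (χ : G → ℂ) a v 1 = 0 := by
    intro χ hχ
    refine sct_eq_zero hM (mem_blockOf_self hM χ) (isPBlock_blockOf χ) haB.1 hvp ha1
      (fun h => hχ ?_) (one_mem _) hpp
    rw [ofB_unique hM haB h]
    exact mem_blockOf_self hM χ
  rw [Finset.sum_subset (Finset.subset_univ _) fun χ _ hχ => by
    rw [hsub χ (by simpa using hχ), zero_mul]]
  have hexp : ∀ (c : BrauerPairIdx G) (z : G) (χ : IrrCharacter G), sct (χ : G → ℂ) c z 1 =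
      ∑ k : G, be c k * (χ : G → ℂ) (z * k) := fun c z χ => by simp [sct]
  have hsupp : ∀ (c : BrauerPairIdx G), IsPBlock M c.2 → ∀ k, be c k ≠ 0 →
      k ∈ CG c.1 ∧ ¬ p ∣ orderOf k := by
    intro c hc k hk
    have hkC : k ∈ CG c.1 := by
      by_contra h
      exact hk (bc_supp _ _ _ h)
    refine ⟨hkC, fun h => hk ?_⟩
    show bc (CG c.1) c.2 ((⟨k, hkC⟩ : CG c.1) : G) = 0
    rw [bc_coe]
    exact DefectOne.blockCoeff_singular hM hc (by rwa [← Subgroup.orderOf_coe])
  have hterm : ∀ y : G, ∑ k : G, be a k * conj (be b (w⁻¹ * (y * (v * k) * y⁻¹))) =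
      if y * v * y⁻¹ = w ∧ cjI y a = b then ∑ k : G, be a k * conj (be a k) else 0 := by
    intro y
    by_cases hy : y * v * y⁻¹ = w
    · have hconj : ∀ k : G, w⁻¹ * (y * (v * k) * y⁻¹) = y * k * y⁻¹ := fun k => by
        rw [← hy]; group
      simp only [hconj]
      by_cases hc : cjI y a = b
      · rw [if_pos ⟨hy, hc⟩]
        refine Finset.sum_congr rfl fun k _ => ?_
        rw [← hc, be_cjI, show cfun y (be a) (y * k * y⁻¹) = be a k by simp [cfun, mul_assoc]]
      · rw [if_neg fun h => hc h.2]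
        have h1 : ∑ k : G, be a k * conj (be b (y * k * y⁻¹)) =
            ∑ k : G, be (cjI y a) k * conj (be b k) :=
          Fintype.sum_equiv (MulAut.conj y).toEquiv _ _ fun k => by
            simp only [MulEquiv.toEquiv_eq_coe, MulEquiv.coe_toEquiv, MulAut.conj_apply]
            rw [be_cjI, show cfun y (be a) (y * k * y⁻¹) = be a k by simp [cfun, mul_assoc]]
        rw [h1]
        have hs : (cjI y a).1 = b.1 := by
          rw [hb1, ← hy]
          show a.1.map (MulAut.conj y).toMonoidHom = _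
          rw [ha1, MonoidHom.map_zpowers]
          rfl
        have hca := isPr_cjI hM y haB.1
        generalize cjI y a = c at hs hc hca ⊢
        obtain ⟨Q, f⟩ := c
        have hbp := hbB.1
        clear_value b
        obtain ⟨Q', f'⟩ := b
        obtain rfl : Q = Q' := hs
        exact be_orth hM hca.2 hbp.2 fun h => hc (by rw [h])
    · rw [if_neg fun h => hy h.1]
      refine Finset.sum_eq_zero fun k _ => ?_
      by_contra hne
      obtain ⟨hk, hkr⟩ := hsupp a haB.1.2 k fun h => hne (by simp [h])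
      obtain ⟨hz, hzr⟩ := hsupp b hbB.1.2 (w⁻¹ * (y * (v * k) * y⁻¹)) fun h => hne (by simp [h])
      rw [ha1] at hk
      rw [hb1] at hz
      refine hy (pPart_unique (p := p) (g := y * (v * k) * y⁻¹) ?_ ?_)
      · refine ⟨y * k * y⁻¹, by group, ?_, ?_, ?_⟩
        · exact (show Commute v k from
            Subgroup.mem_centralizer_iff.1 hk v (Subgroup.mem_zpowers v)).map
            (MulAut.conj y).toMonoidHom
        · obtain ⟨j, hj⟩ := hvp
          exact ⟨j, hj ▸ MulEquiv.orderOf_eq (MulAut.conj y) v⟩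
        · rwa [show y * k * y⁻¹ = MulAut.conj y k from rfl, MulEquiv.orderOf_eq]
      · exact ⟨_, mul_inv_cancel_left w _,
          Subgroup.mem_centralizer_iff.1 hz w (Subgroup.mem_zpowers w), hwp, hzr⟩
  calc ∑ χ : IrrCharacter G, sct (χ : G → ℂ) a v 1 * conj (sct (χ : G → ℂ) b w 1)
      = ∑ χ : IrrCharacter G, ∑ k : G, ∑ l : G, be a k * conj (be b l) *
          ((χ : G → ℂ) (v * k) * conj ((χ : G → ℂ) (w * l))) := by
        refine Finset.sum_congr rfl fun χ _ => ?_
        rw [hexp, hexp, map_sum, Finset.sum_mul]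
        refine Finset.sum_congr rfl fun k _ => ?_
        rw [Finset.mul_sum]
        exact Finset.sum_congr rfl fun l _ => by rw [map_mul]; ring
    _ = ∑ k : G, ∑ l : G, be a k * conj (be b l) *
          ∑ y : G, (if y * (v * k) * y⁻¹ = w * l then (1 : ℂ) else 0) := by
        rw [Finset.sum_comm]
        refine Finset.sum_congr rfl fun k _ => ?_
        rw [Finset.sum_comm]
        refine Finset.sum_congr rfl fun l _ => ?_
        rw [← Finset.mul_sum, sum_irr_count]
    _ = ∑ y : G, ∑ k : G, be a k * conj (be b (w⁻¹ * (y * (v * k) * y⁻¹))) := by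
        rw [Finset.sum_comm]
        refine Eq.trans ?_ Finset.sum_comm
        rw [Finset.sum_comm]
        refine Finset.sum_congr rfl fun k _ => ?_
        simp only [Finset.mul_sum]
        rw [Finset.sum_comm]
        refine Finset.sum_congr rfl fun y _ => ?_
        rw [Finset.sum_eq_single (w⁻¹ * (y * (v * k) * y⁻¹))]
        · rw [if_pos (mul_inv_cancel_left w _).symm, mul_one]
        · intro l _ hl
          rw [if_neg fun h => hl (by rw [h, inv_mul_cancel_left]), mul_zero]
        · exact fun h => absurd (Finset.mem_univ _) h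
    _ = _ := by
        rw [Finset.sum_congr rfl fun y _ => hterm y, ← Finset.sum_filter, Finset.sum_const,
          nsmul_eq_mul]
        have hfac : ∀ y, y * v * y⁻¹ = w ∧ cjI y a = b →
            ∃ t ∈ stab x, ∃ z ∈ CG a.1, y = t * z ∧ t * v * t⁻¹ = w := by
          rintro y ⟨hy, hc⟩
          obtain ⟨t, ht, z, hz, rfl⟩ := Wat.control hM hx hab hale (g := y) (hc ▸ hble)
          refine ⟨t, ht, z, hz, rfl, ?_⟩
          rw [ha1] at hz
          have hzv := Wat.mem_cg_zpowers.1 hz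
          rw [← hy, show t * z * v * (t * z)⁻¹ = t * (z * v * z⁻¹) * t⁻¹ by group, hzv]
        by_cases hex : ∃ t ∈ stab x, t * v * t⁻¹ = w
        · rw [if_pos hex, wgt]
          congr 2
          obtain ⟨t, ht, htv⟩ := hex
          letI := Fintype.ofFinite (CG a.1)
          rw [Nat.card_eq_fintype_card, ← Fintype.card_subtype]
          have hto : ∀ z : CG a.1, t * (z : G) * v * (t * (z : G))⁻¹ = w ∧
              cjI (t * (z : G)) a = b := fun z => by
            have hzv : (z : G) * v * (z : G)⁻¹ = v :=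
              Wat.mem_cg_zpowers.1 ((SetLike.ext_iff.1 (congrArg (fun Q : Subgroup G => CG Q) ha1) _).1 z.2)
            refine ⟨?_, ?_⟩
            · rw [show t * (z : G) * v * (t * (z : G))⁻¹ = t * ((z : G) * v * (z : G)⁻¹) * t⁻¹ by
                group, hzv, htv]
            · rw [← cjI_cjI, cjI_of_mem_cg z.2, ha, av_conj hM hx ht hv, htv]
          have hinv : ∀ y : G, y * v * y⁻¹ = w → t⁻¹ * y ∈ CG a.1 := fun y hy => by
            rw [ha1]
            refine Wat.mem_cg_zpowers.2 ?_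
            rw [show t⁻¹ * y * v * (t⁻¹ * y)⁻¹ = t⁻¹ * (y * v * y⁻¹) * t by group, hy, ← htv]
            group
          exact (Fintype.card_congr
            (⟨fun z => ⟨t * (z : G), hto z⟩, fun y => ⟨t⁻¹ * (y : G), hinv y y.2.1⟩,
              fun z => Subtype.ext (inv_mul_cancel_left t _),
              fun y => Subtype.ext (mul_inv_cancel_left t _)⟩ :
              CG a.1 ≃ {y : G // y * v * y⁻¹ = w ∧ cjI y a = b})).symm
        · rw [if_neg hex, Finset.filter_false_of_mem, Finset.card_empty, Nat.cast_zero, zero_mul]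
          intro y _ hy
          obtain ⟨t, ht, -, -, -, htv⟩ := hfac y hy
          exact hex ⟨t, ht, htv⟩

/-- The regular columns are orthogonal to the sections. -/
theorem sum_sct_regular (hM : IsPModular p M) {a : BrauerPairIdx G} {u : G}
    (ha : a.1 = Subgroup.zpowers u) (hu : ∃ k, orderOf u = p ^ k) (hu1 : u ≠ 1)
    [DecidablePred (· ∈ B)] (haB : OfB p M B a) {h : G} (hh : ¬ p ∣ orderOf h) :
    ∑ χ ∈ Finset.univ.filter (· ∈ B), sct (χ : G → ℂ) a u 1 * (χ : G → ℂ) h = 0 := by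
  classical
  rw [Finset.sum_subset (Finset.subset_univ _) fun χ _ hχ => ?_]
  · simp only [sct, mul_one, Finset.sum_mul]
    rw [Finset.sum_comm]
    refine Finset.sum_eq_zero fun k _ => ?_
    simp only [mul_assoc, ← Finset.mul_sum]
    by_cases hk : be a k = 0
    · rw [hk, zero_mul]
    have hkC : k ∈ CG a.1 := by
      by_contra hk'
      exact hk (bc_supp _ _ _ hk')
    have hkr : ¬ p ∣ orderOf k := fun hd => hk (by
      show bc (CG a.1) a.2 ((⟨k, hkC⟩ : CG a.1) : G) = 0
      rw [bc_coe]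
      exact DefectOne.blockCoeff_singular hM haB.1.2 (by rwa [← Subgroup.orderOf_coe]))
    rw [Finset.sum_congr rfl (g := fun χ : IrrCharacter G =>
      (χ : G → ℂ) (u * k) * conj ((χ : G → ℂ) h⁻¹)) fun χ _ => by
        rw [← irr_apply_inv, inv_inv], Cfsg.Agent.Char.sum_irr_mul_conj, if_neg, mul_zero]
    intro hconj
    obtain ⟨t, ht⟩ := isConj_iff.1 hconj
    obtain ⟨j, hj⟩ := hu
    have hj0 : j ≠ 0 := fun h0 => hu1 (orderOf_eq_one_iff.1 (by rw [hj, h0, pow_zero]))
    have hcop : Nat.Coprime (orderOf u) (orderOf k) := by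
      rw [hj]
      exact Nat.Coprime.pow_left _ (hp.out.coprime_iff_not_dvd.2 hkr)
    have hord : p ∣ orderOf (u * k) := by
      have hc : Commute u k := Subgroup.mem_centralizer_iff.1 hkC u (ha ▸ Subgroup.mem_zpowers u)
      rw [hc.orderOf_mul_eq_mul_orderOf_of_coprime hcop, hj]
      exact (dvd_pow_self p hj0).trans (dvd_mul_right _ _)
    refine hh ?_
    rw [← orderOf_inv h, ← ht]
    rwa [show t * (u * k) * t⁻¹ = MulAut.conj t (u * k) from rfl, MulEquiv.orderOf_eq]
  · rw [sct_eq_zero hM (mem_blockOf_self hM χ) (isPBlock_blockOf χ) haB.1 hu ha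
      (fun h' => (by simpa using hχ : χ ∉ B) ?_) (one_mem _)
      (by rw [orderOf_one]; exact hp.out.not_dvd_one), zero_mul]
    rw [ofB_unique hM haB h']
    exact mem_blockOf_self hM χ

/-- Sections vanishing at the defect group make a combination vanish on the singular elements. -/
theorem vanish_of_sections (hM : IsPModular p M) (hB : IsPBlock M B) (hx : IsMx p M B x)
    (s : Finset (IrrCharacter G)) (c : IrrCharacter G → ℂ) (hs : ∀ χ ∈ s, χ ∈ B)
    (h : ∀ v ∈ x.1, v ≠ 1 → ∀ w ∈ CG (Subgroup.zpowers v), ¬ p ∣ orderOf w →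
      ∑ χ ∈ s, c χ * sct (χ : G → ℂ) (av p M x v) v w = 0)
    {g : G} (hg : p ∣ orderOf g) : ∑ χ ∈ s, c χ * (χ : G → ℂ) g = 0 := by
  classical
  obtain ⟨u, w, rfl, hc, hu, hw⟩ := Star.exists_split (p := p) g
  have hu1 : u ≠ 1 := fun h1 => hw (by rwa [h1, one_mul] at hg)
  have hw' : w ∈ regs p (Subgroup.zpowers u) := mem_regs.2
    ⟨by rw [cg_zpowers]; exact Subgroup.mem_centralizer_singleton_iff.2 hc.symm.eq, hw⟩
  rw [Finset.sum_congr rfl fun χ _ => by
    rw [Star.value_prs hM (χ : G → ℂ) hu w, Finset.mul_sum], Finset.sum_comm]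
  refine Finset.sum_eq_zero fun a ha => ?_
  by_cases haB : OfB p M B a
  swap
  · exact Finset.sum_eq_zero fun χ hχ => by
      rw [Star.sct_zero_of_not hM hB (hs χ hχ) hu ha haB hw', mul_zero]
  obtain ⟨l, hl⟩ := le_conj_max hM haB (x := x) hx
  have ha1 := (Star.mem_prs.1 ha).1
  have h1 : (cjI l a).1 = Subgroup.zpowers (l * u * l⁻¹) := by
    show a.1.map (MulAut.conj l).toMonoidHom = _
    rw [ha1, MonoidHom.map_zpowers]
    rfl
  have hm : l * u * l⁻¹ ∈ x.1 := le_subgroup hl (h1 ▸ Subgroup.mem_zpowers _)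
  have h2 : cjI l a = av p M x (l * u * l⁻¹) := by
    have := Wat.bl_eq hM hx.1.1 hl
    rw [h1] at this
    exact this.symm
  have hwC : l * w * l⁻¹ ∈ CG (Subgroup.zpowers (l * u * l⁻¹)) := by
    rw [← h1]
    exact (cg_map_conj l a.1 w).1 (ha1 ▸ (mem_regs.1 hw').1)
  rw [Finset.sum_congr rfl fun χ _ => by
    rw [← sct_conj (irr_classFun χ) a l u w, h2]]
  refine h _ hm (fun h3 => hu1 ?_) _ hwC ?_
  · simpa using h3
  · rwa [show l * w * l⁻¹ = MulAut.conj l w from rfl, MulEquiv.orderOf_eq]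

/-- A combination vanishing on the singular elements has degree divisible by the `p`-part of the
order of the group. -/
theorem dvd_degree_of_vanish (s : Finset (IrrCharacter G)) (c : IrrCharacter G → ℤ)
    (h : ∀ g : G, p ∣ orderOf g → ∑ χ ∈ s, (c χ : ℂ) * (χ : G → ℂ) g = 0) :
    (p : ℤ) ^ (Nat.card G).factorization p ∣
      ∑ χ ∈ s, c χ * (charDegree (χ : G → ℂ) : ℤ) := by
  classical
  obtain ⟨S⟩ : Nonempty (Sylow p G) := inferInstance
  letI := Fintype.ofFinite (S : Subgroup G)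
  refine ⟨∑ χ ∈ s, c χ *
    (Glaub.mult (S : Subgroup G) (χ : G → ℂ) (trivialIrr (S : Subgroup G) : S → ℂ) : ℤ), ?_⟩
  apply Int.cast_injective (α := ℂ)
  push_cast
  rw [← Nat.cast_pow, ← S.card_eq_multiplicity]
  have hS : (Nat.card S : ℂ) ≠ 0 := Nat.cast_ne_zero.2 Nat.card_pos.ne'
  have h1 : ∀ χ : IrrCharacter G, (Nat.card S : ℂ) *
      (Glaub.mult (S : Subgroup G) (χ : G → ℂ) (trivialIrr (S : Subgroup G) : S → ℂ) : ℂ) =
      ∑ g : S, (χ : G → ℂ) g := fun χ => by
    rw [← Glaub.mult_spec _ (irr_isChar χ) (irr_isChar (trivialIrr (S : Subgroup G))), classInner,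
      mul_inv_cancel_left₀ hS]
    refine Finset.sum_congr rfl fun g _ => ?_
    simp [show ((trivialIrr (S : Subgroup G) : IrrCharacter S) : S → ℂ) = fun _ => 1 from rfl]
  rw [Finset.mul_sum, Finset.sum_congr rfl (s₁ := s)
    (g := fun χ => (c χ : ℂ) * (χ : G → ℂ) 1) fun χ _ => by rw [charDeg_spec']]
  rw [show ∑ χ ∈ s, (Nat.card S : ℂ) * ((c χ : ℂ) *
      (Glaub.mult (S : Subgroup G) (χ : G → ℂ) (trivialIrr (S : Subgroup G) : S → ℂ) : ℂ)) =
      ∑ g : S, ∑ χ ∈ s, (c χ : ℂ) * (χ : G → ℂ) g by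
    rw [Finset.sum_comm]
    exact Finset.sum_congr rfl fun χ _ => by rw [mul_left_comm, h1, Finset.mul_sum]]
  refine ((Finset.sum_eq_single (1 : S) ?_ ?_).trans ?_).symm
  rotate_right
  · simp
  · intro g _ hg
    refine h g ?_
    obtain ⟨k, hk⟩ := IsPGroup.iff_orderOf.1 S.isPGroup' g
    rw [Subgroup.orderOf_coe, hk]
    refine dvd_pow_self p fun h0 => hg (orderOf_eq_one_iff.1 ?_)
    rw [hk, h0, pow_zero]
  · exact fun h' => absurd (Finset.mem_univ _) h'

end Cfsg.Agent.Char.CycDef
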