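import Cfsg.Agent.Lib.Char.CycDefDiv

/-!
Two blocks with cyclic defect groups of the same order and the same inertial action are perfectly
isometric.
-/

open scoped ComplexConjugate

namespace Cfsg.Agent.Char.CycDef

open Cfsg Cfsg.Agent.Block Cfsg.Agent.Char.BP Cfsg.Agent.Char.Spec Cfsg.Agent.Char.Star

set_option linter.unusedSectionVars false
set_option linter.style.haveILetI false
set_option maxHeartbeats 1600000

universe u v

section One

variable {G : Type u} [Group G] [Fintype G] {p : ℕ} [hp : Fact p.Prime] {M : Ideal AlgInt}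
variable {B : Set (IrrCharacter G)} {x : BrauerPairIdx G} {N : ℕ} [NeZero N]
variable {u₀ : G} {R : Subgroup (ZMod N)ˣ} {β : ZMod N → G → ℂ} {X : Finset (IrrCharacter G)}
  {y : ZMod N → IrrCharacter G} {c : IrrCharacter G → ℤ} {ε : ℤ}

theorem orbit_sum [Fintype R] (hD : CData p M B x u₀ R β X y c ε) (i : ZMod N) {j : ZMod N}
    (hj : j ≠ 0) :
    (open Classical in
      ∑ l : ZMod N, if (∃ r ∈ R, l = (r : ZMod N) * j) then ψN (i * l) else 0) =
      ∑ r : R, ψN (i * (((r : (ZMod N)ˣ) : ZMod N) * j)) := by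
  classical
  rw [← Finset.sum_filter]
  symm
  refine Finset.sum_bij (fun (r : R) _ => ((r : (ZMod N)ˣ) : ZMod N) * j)
    (fun r _ => Finset.mem_filter.2 ⟨Finset.mem_univ _, r, r.2, rfl⟩) (fun r _ s _ h => ?_)
    (fun l hl => ?_) fun r _ => rfl
  · have h' := hD.free ((s : (ZMod N)ˣ)⁻¹ * r) (mul_mem (inv_mem s.2) r.2) j hj (by
      rw [Units.val_mul, mul_assoc, h, Units.inv_mul_cancel_left])
    exact (Subtype.ext (inv_mul_eq_one.1 h')).symm
  · obtain ⟨r, hr, hl'⟩ := (Finset.mem_filter.1 hl).2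
    exact ⟨⟨r, hr⟩, Finset.mem_univ _, hl'.symm⟩

/-- A member of `X` and the exceptional members vanish together on the singular elements. -/
theorem bracket_vanish (hM : IsPModular p M) (hB : IsPBlock M B) (hx : IsMx p M B x)
    (hgen : Subgroup.zpowers u₀ = x.1) (hN : orderOf u₀ = N)
    (hD : CData p M B x u₀ R β X y c ε) {χ : IrrCharacter G} (hχ : χ ∈ X)
    [DecidableEq (IrrCharacter G)] {g : G} (hg : p ∣ orderOf g) :
    ∑ ξ ∈ insert χ (ys y), (((if ξ = χ then c χ else -ε : ℤ)) : ℂ) * (ξ : G → ℂ) g = 0 := by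
  have hnot : ∀ ξ ∈ ys y, ξ ≠ χ := fun ξ hξ h => by
    obtain ⟨j, hj, rfl⟩ := mem_ys.1 hξ
    exact hD.disj j hj (h ▸ hχ)
  refine vanish_of_sections hM hB hx _ (fun ξ => (((if ξ = χ then c χ else -ε : ℤ)) : ℂ))
    (fun ξ hξ => ?_) (fun v hv hv1 w hw hwr => ?_) hg
  · rcases Finset.mem_insert.1 hξ with h | h
    · exact h ▸ (hD.mem_iff χ).2 (Or.inl hχ)
    · exact (hD.mem_iff ξ).2 (Or.inr (mem_ys.1 h))
  · obtain ⟨i, rfl⟩ := exists_pw hN (v := v) (hgen ▸ hv)
    have hi : i ≠ 0 := fun h => hv1 (by rw [h, pw_zero])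
    rw [Finset.sum_insert fun h => hnot χ h rfl, if_pos rfl,
      Finset.sum_congr rfl (g := fun ξ : IrrCharacter G => -(ε : ℂ) *
        sct (ξ : G → ℂ) (av p M x (pw u₀ i)) (pw u₀ i) w) (fun ξ hξ => by
          rw [if_neg (hnot ξ hξ), Int.cast_neg]),
      ← Finset.mul_sum, hD.sct_X χ hχ i hi w hw hwr, sum_sct_ys hD hi hw hwr]
    rcases hD.c_sign χ hχ with h | h <;> rcases hD.ε_sign with h' | h' <;>
      rw [h, h'] <;> push_cast <;> ring

theorem bracket_eq (hD : CData p M B x u₀ R β X y c ε) {χ : IrrCharacter G} (hχ : χ ∈ X)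
    [DecidableEq (IrrCharacter G)] (g : G) :
    ∑ ξ ∈ insert χ (ys y), (((if ξ = χ then c χ else -ε : ℤ)) : ℂ) * (ξ : G → ℂ) g =
      (c χ : ℂ) * (χ : G → ℂ) g - (ε : ℂ) * ∑ ξ ∈ ys y, (ξ : G → ℂ) g := by
  have hnot : ∀ ξ ∈ ys y, ξ ≠ χ := fun ξ hξ h => by
    obtain ⟨j, hj, rfl⟩ := mem_ys.1 hξ
    exact hD.disj j hj (h ▸ hχ)
  rw [Finset.sum_insert fun h => hnot χ h rfl, if_pos rfl, Finset.mul_sum, sub_eq_add_neg,
    ← Finset.sum_neg_distrib]
  exact congrArg _ (Finset.sum_congr rfl fun ξ hξ => by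
    rw [if_neg (hnot ξ hξ), Int.cast_neg]; ring)

/-- The bracket is divisible by the centralizer at a regular element and vanishes elsewhere. -/
theorem bracket (hM : IsPModular p M) (hB : IsPBlock M B) (hx : IsMx p M B x)
    (hgen : Subgroup.zpowers u₀ = x.1) (hN : orderOf u₀ = N)
    (hD : CData p M B x u₀ R β X y c ε) {χ : IrrCharacter G} (hχ : χ ∈ X) (g : G) :
    MemLocalRing M (((c χ : ℂ) * (χ : G → ℂ) g - (ε : ℂ) * ∑ ξ ∈ ys y, (ξ : G → ℂ) g) /
      (Nat.card (Subgroup.centralizer ({g} : Set G)) : ℂ)) ∧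
    (p ∣ orderOf g → (c χ : ℂ) * (χ : G → ℂ) g - (ε : ℂ) * ∑ ξ ∈ ys y, (ξ : G → ℂ) g = 0) := by
  classical
  have hv : p ∣ orderOf g → (c χ : ℂ) * (χ : G → ℂ) g - (ε : ℂ) * ∑ ξ ∈ ys y, (ξ : G → ℂ) g = 0 :=
    fun h => by rw [← bracket_eq hD hχ]; exact bracket_vanish hM hB hx hgen hN hD hχ h
  refine ⟨?_, hv⟩
  by_cases hg : p ∣ orderOf g
  · rw [hv hg, zero_div]; exact ring_zero hM
  · rw [← bracket_eq hD hχ]
    exact div_centralizer_ring hM _ (fun ξ => (((if ξ = χ then c χ else -ε : ℤ)) : ℂ))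
      (fun _ _ => ring_intCast hM _)
      (fun g' hg' => bracket_vanish hM hB hx hgen hN hD hχ hg') hg

/-- The pairs of the block at a singular element, moved into the defect group. -/
theorem exists_moved (hM : IsPModular p M) (hx : IsMx p M B x)
    (hgen : Subgroup.zpowers u₀ = x.1) (hN : orderOf u₀ = N) {u w : G}
    (hu : ∃ k, orderOf u = p ^ k) (hu1 : u ≠ 1) {a : BrauerPairIdx G}
    (ha : a.1 = Subgroup.zpowers u) (haB : OfB p M B a) (hw : w ∈ CG a.1)
    (hwr : ¬ p ∣ orderOf w) :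
    ∃ i : ZMod N, i ≠ 0 ∧ ∃ w' ∈ CG (Subgroup.zpowers (pw u₀ i)), ¬ p ∣ orderOf w' ∧
      (∀ χ : IrrCharacter G, sct (χ : G → ℂ) a u w =
        sct (χ : G → ℂ) (av p M x (pw u₀ i)) (pw u₀ i) w') ∧
      Nat.card (Subgroup.centralizer ({pw u₀ i * w'} : Set G)) =
        Nat.card (Subgroup.centralizer ({u * w} : Set G)) := by
  obtain ⟨l, hl⟩ := le_conj_max hM haB (x := x) hx
  have h1 : (cjI l a).1 = Subgroup.zpowers (l * u * l⁻¹) := by
    show a.1.map (MulAut.conj l).toMonoidHom = _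
    rw [ha, MonoidHom.map_zpowers]
    rfl
  have hm : l * u * l⁻¹ ∈ x.1 := le_subgroup hl (h1 ▸ Subgroup.mem_zpowers _)
  obtain ⟨i, hi⟩ := exists_pw hN (v := l * u * l⁻¹) (hgen ▸ hm)
  have h2 : cjI l a = av p M x (l * u * l⁻¹) := by
    have := Wat.bl_eq hM hx.1.1 hl
    rw [h1] at this
    exact this.symm
  refine ⟨i, fun h => hu1 ?_, l * w * l⁻¹, ?_, ?_, fun χ => ?_, ?_⟩
  · rw [h, pw_zero] at hi
    simpa using hi.symm
  · rw [hi, ← h1]
    exact (cg_map_conj l a.1 w).1 hw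
  · rwa [show l * w * l⁻¹ = MulAut.conj l w from rfl, MulEquiv.orderOf_eq]
  · rw [← sct_conj (irr_classFun χ) a l u w, h2, hi]
  · rw [hi, conj_mul]
    exact (Nat.card_congr (conjIso l (W := Subgroup.centralizer ({u * w} : Set G))
      (W' := Subgroup.centralizer ({l * (u * w) * l⁻¹} : Set G)) fun g => by
        rw [Subgroup.mem_centralizer_singleton_iff, Subgroup.mem_centralizer_singleton_iff,
          conj_mul, conj_mul, mul_left_inj, mul_right_inj]).toEquiv).symm

end One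

section Two

variable {G : Type u} [Group G] [Fintype G] {G' : Type v} [Group G'] [Fintype G'] {p : ℕ}
  [hp : Fact p.Prime] {M : Ideal AlgInt}
variable {B : Set (IrrCharacter G)} {x : BrauerPairIdx G} {N : ℕ} [NeZero N]
variable {u₀ : G} {R : Subgroup (ZMod N)ˣ} {β : ZMod N → G → ℂ} {X : Finset (IrrCharacter G)}
  {y : ZMod N → IrrCharacter G} {c : IrrCharacter G → ℤ} {ε : ℤ}
variable {B' : Set (IrrCharacter G')} {x' : BrauerPairIdx G'} {u₀' : G'}
  {β' : ZMod N → G' → ℂ} {X' : Finset (IrrCharacter G')}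
  {y' : ZMod N → IrrCharacter G'} {c' : IrrCharacter G' → ℤ} {ε' : ℤ}

/-- The perfect isometry. -/
theorem exists_isometry (hM : IsPModular p M)
    (hB : IsPBlock M B) (hx : IsMx p M B x) (hcyc : IsCyclic x.1) (hP1 : x.1 ≠ ⊥)
    (hgen : Subgroup.zpowers u₀ = x.1) (hN : orderOf u₀ = N)
    (hD : CData p M B x u₀ R β X y c ε)
    (hB' : IsPBlock M B') (hx' : IsMx p M B' x') (hcyc' : IsCyclic x'.1)
    (hgen' : Subgroup.zpowers u₀' = x'.1) (hN' : orderOf u₀' = N)
    (hD' : CData p M B' x' u₀' R β' X' y' c' ε') :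
    ∃ (I : IrrCharacter G' → IrrCharacter G) (σ : IrrCharacter G' → ℤ),
      IsPerfectIsometry p M B' B I σ ∧ (∀ η ∈ X', I η ∈ X ∧ σ η = c (I η) * c' η) ∧
      ∀ η ∈ ys y', σ η = ε * ε' := by
  classical
  letI := Fintype.ofFinite R
  have hcard : X'.card = X.card := by rw [hD.card_X, hD'.card_X, ← hD.card_R, hD'.card_R]
  let eX := Finset.equivOfCardEq hcard
  let I : IrrCharacter G' → IrrCharacter G := fun η =>
    if h : η ∈ X' then (eX ⟨η, h⟩ : IrrCharacter G)
    else if h : ∃ j : ZMod N, j ≠ 0 ∧ y' j = η then y h.choose else trivialIrr G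
  let σ : IrrCharacter G' → ℤ := fun η => if η ∈ X' then c (I η) * c' η else ε * ε'
  have hIX : ∀ η ∈ X', I η ∈ X := fun η hη => by simp only [I, dif_pos hη]; exact (eX ⟨η, hη⟩).2
  have hIy : ∀ j : ZMod N, j ≠ 0 → I (y' j) = y j := by
    intro j hj
    have hex : ∃ l : ZMod N, l ≠ 0 ∧ y' l = y' j := ⟨j, hj, rfl⟩
    simp only [I, dif_neg (hD'.disj j hj), dif_pos hex]
    exact (hD.y_eq _ _ hex.choose_spec.1 hj).2
      ((hD'.y_eq _ _ hex.choose_spec.1 hj).1 hex.choose_spec.2)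
  have hsX : ∀ η ∈ X', σ η = c (I η) * c' η := fun η hη => if_pos hη
  have hsY : ∀ η ∈ ys y', σ η = ε * ε' := fun η hη => by
    obtain ⟨j, hj, rfl⟩ := mem_ys.1 hη
    exact if_neg (hD'.disj j hj)
  refine ⟨I, σ, ⟨⟨?_, ?_, ?_⟩, ?_, ?_⟩, fun η hη => ⟨hIX η hη, hsX η hη⟩, hsY⟩
  · intro η hη
    rcases (hD'.mem_iff η).1 hη with h | ⟨j, hj, rfl⟩
    · exact (hD.mem_iff _).2 (Or.inl (hIX η h))
    · exact (hD.mem_iff _).2 (Or.inr ⟨j, hj, (hIy j hj).symm⟩)
  · intro η hη η' hη' heq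
    rcases (hD'.mem_iff η).1 hη with h | ⟨j, hj, rfl⟩ <;>
      rcases (hD'.mem_iff η').1 hη' with h' | ⟨j', hj', rfl⟩
    · simp only [I, dif_pos h, dif_pos h'] at heq
      exact congrArg Subtype.val (eX.injective (Subtype.ext heq))
    · exact absurd (hIy j' hj' ▸ heq ▸ hIX η h) (hD.disj j' hj')
    · exact absurd (hIy j hj ▸ heq.symm ▸ hIX η' h') (hD.disj j hj)
    · rw [hIy j hj, hIy j' hj'] at heq
      exact (hD'.y_eq j j' hj hj').2 ((hD.y_eq j j' hj hj').1 heq)
  · intro χ hχ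
    rcases (hD.mem_iff χ).1 hχ with h | ⟨j, hj, rfl⟩
    · refine ⟨(eX.symm ⟨χ, h⟩ : IrrCharacter G'),
        (hD'.mem_iff _).2 (Or.inl (eX.symm ⟨χ, h⟩).2), ?_⟩
      simp only [I, dif_pos (eX.symm ⟨χ, h⟩).2]
      simp
    · exact ⟨y' j, (hD'.mem_iff _).2 (Or.inr ⟨j, hj, rfl⟩), hIy j hj⟩
  · intro η hη
    rcases (hD'.mem_iff η).1 hη with h | ⟨j, hj, rfl⟩
    · rw [hsX η h]
      rcases hD.c_sign _ (hIX η h) with e | e <;> rcases hD'.c_sign η h with e' | e' <;> simp [e, e']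
    · rw [hsY _ (mem_ys.2 ⟨j, hj, rfl⟩)]
      rcases hD.ε_sign with e | e <;> rcases hD'.ε_sign with e' | e' <;> simp [e, e']
  -- the sums over the block
  have hdisj : Disjoint X' (ys y') := Finset.disjoint_left.2 fun η h1 h2 => by
    obtain ⟨j, hj, rfl⟩ := mem_ys.1 h2
    exact hD'.disj j hj h1
  have hsplit : ∀ F : IrrCharacter G → IrrCharacter G' → ℂ,
      ∑ᶠ η ∈ B', (σ η : ℂ) * F (I η) η =
        ∑ η ∈ X', (c (I η) : ℂ) * (c' η : ℂ) * F (I η) η +
          (ε : ℂ) * (ε' : ℂ) * ∑ η ∈ ys y', F (I η) η := by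
    intro F
    rw [finsum_mem_block B', show Finset.univ.filter (· ∈ B') = X' ∪ ys y' by
      ext η; simp [hD'.mem_iff, mem_ys], Finset.sum_union hdisj, Finset.mul_sum]
    refine congrArg₂ (· + ·) (Finset.sum_congr rfl fun η hη => ?_)
      (Finset.sum_congr rfl fun η hη => ?_)
    · rw [hsX η hη, Int.cast_mul]
    · rw [hsY η hη, Int.cast_mul]
  set e : ℕ := (CG x'.1).relIndex (stab x') with he
  have he0 : (e : ℂ) ≠ 0 := Nat.cast_ne_zero.2 (by rw [he, ← hD'.card_R]; exact Nat.card_pos.ne')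
  have hfib : ∀ F : IrrCharacter G → IrrCharacter G' → ℂ,
      (e : ℂ) * ∑ η ∈ ys y', F (I η) η = ∑ j ∈ Finset.univ.erase (0 : ZMod N), F (y j) (y' j) := by
    intro F
    rw [← Finset.sum_fiberwise_of_maps_to (s := Finset.univ.erase (0 : ZMod N)) (t := ys y')
      (g := y') (fun j hj => mem_ys.2 ⟨j, Finset.ne_of_mem_erase hj, rfl⟩), Finset.mul_sum]
    refine Finset.sum_congr rfl fun η hη => ?_
    rw [Finset.sum_congr rfl (g := fun _ => F (I η) η) fun j hj => by
      obtain ⟨h1, h2⟩ := Finset.mem_filter.1 hj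
      rw [← hIy j (Finset.ne_of_mem_erase h1), h2], Finset.sum_const, fiber_card hD' hη,
      nsmul_eq_mul]
  have hU : ∀ g : G, ∑ η ∈ ys y', (I η : G → ℂ) g = ∑ ξ ∈ ys y, (ξ : G → ℂ) g := by
    intro g
    refine mul_left_cancel₀ he0 ((hfib fun χ _ => (χ : G → ℂ) g).trans ?_)
    rw [← Finset.sum_fiberwise_of_maps_to (s := Finset.univ.erase (0 : ZMod N)) (t := ys y)
      (g := y) (fun j hj => mem_ys.2 ⟨j, Finset.ne_of_mem_erase hj, rfl⟩), Finset.mul_sum]
    refine Finset.sum_congr rfl fun ξ hξ => ?_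
    rw [Finset.sum_congr rfl (g := fun _ => (ξ : G → ℂ) g) fun j hj => by
      rw [(Finset.mem_filter.1 hj).2], Finset.sum_const, fiber_card hD hξ, nsmul_eq_mul, he,
      ← hD.card_R, hD'.card_R]
  have h1N : (1 : ZMod N) ≠ 0 := fun h => hP1 (by
    rw [← hgen, Subgroup.zpowers_eq_bot, ← pw_one hN, h, pw_zero])
  -- the kernel with one regular argument
  have hformA : ∀ (g : G) (h : G'), ¬ p ∣ orderOf h →
      signedBijectionKernel B' I σ g h = ∑ η ∈ X', (c' η : ℂ) * (η : G' → ℂ) h *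
        ((c (I η) : ℂ) * (I η : G → ℂ) g - (ε : ℂ) * ∑ ξ ∈ ys y, (ξ : G → ℂ) g) := by
    intro g h hh
    have hψ : ∑ η ∈ X', (c' η : ℂ) * (η : G' → ℂ) h = -((ε' : ℂ) * (y' 1 : G' → ℂ) h) :=
      eq_neg_of_add_eq_zero_left (hD'.regular 1 h1N h hh)
    simp only [signedBijectionKernel, mul_assoc]
    rw [hsplit fun χ η => (χ : G → ℂ) g * (η : G' → ℂ) h,
      Finset.sum_congr rfl (s₁ := ys y') (g := fun η => (I η : G → ℂ) g * (y' 1 : G' → ℂ) h)
        (fun η hη => by rw [agree hD' hη (mem_ys.2 ⟨1, h1N, rfl⟩) hh]), ← Finset.sum_mul, hU]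
    simp only [mul_sub, Finset.sum_sub_distrib]
    have hK : ∀ k : ℂ, ∑ η ∈ X', (c' η : ℂ) * ((η : G' → ℂ) h * k) =
        -((ε' : ℂ) * (y' 1 : G' → ℂ) h) * k := fun k => by
      rw [← hψ, Finset.sum_mul]
      exact Finset.sum_congr rfl fun η _ => (mul_assoc _ _ _).symm
    rw [hK]
    rw [Finset.sum_congr rfl (g := fun η => (c' η : ℂ) * (η : G' → ℂ) h *
      ((c (I η) : ℂ) * (I η : G → ℂ) g)) fun η _ => by ring]
    simp only [mul_assoc]
    ring
  have hformB : ∀ (g : G) (h : G'), ¬ p ∣ orderOf g →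
      signedBijectionKernel B' I σ g h = ∑ η ∈ X', (c (I η) : ℂ) * (I η : G → ℂ) g *
        ((c' η : ℂ) * (η : G' → ℂ) h - (ε' : ℂ) * ∑ ξ ∈ ys y', (ξ : G' → ℂ) h) := by
    intro g h hg
    have hψ : ∑ η ∈ X', (c (I η) : ℂ) * (I η : G → ℂ) g = -((ε : ℂ) * (y 1 : G → ℂ) g) := by
      rw [← eq_neg_of_add_eq_zero_left (hD.regular 1 h1N g hg)]
      refine Finset.sum_bij (fun η _ => I η) (fun η hη => hIX η hη) (fun η hη η' hη' heq => ?_)
        (fun χ hχ => ?_) fun η _ => rfl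
      · simp only [I, dif_pos hη, dif_pos hη'] at heq
        exact congrArg Subtype.val (eX.injective (Subtype.ext heq))
      · refine ⟨(eX.symm ⟨χ, hχ⟩ : IrrCharacter G'), (eX.symm ⟨χ, hχ⟩).2, ?_⟩
        simp only [I, dif_pos (eX.symm ⟨χ, hχ⟩).2]
        simp
    simp only [signedBijectionKernel, mul_assoc]
    rw [hsplit fun χ η => (χ : G → ℂ) g * (η : G' → ℂ) h,
      Finset.sum_congr rfl (s₁ := ys y') (g := fun η => (y 1 : G → ℂ) g * (η : G' → ℂ) h)
        (fun η hη => by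
          obtain ⟨j, hj, rfl⟩ := mem_ys.1 hη
          rw [hIy j hj, agree hD (mem_ys.2 ⟨j, hj, rfl⟩) (mem_ys.2 ⟨1, h1N, rfl⟩) hg]),
      ← Finset.mul_sum]
    simp only [mul_sub, Finset.sum_sub_distrib]
    have hK : ∀ k : ℂ, ∑ η ∈ X', (c (I η) : ℂ) * ((I η : G → ℂ) g * k) =
        -((ε : ℂ) * (y 1 : G → ℂ) g) * k := fun k => by
      rw [← hψ, Finset.sum_mul]
      exact Finset.sum_congr rfl fun η _ => (mul_assoc _ _ _).symm
    rw [hK]
    rw [Finset.sum_congr rfl (g := fun η => (c (I η) : ℂ) * (I η : G → ℂ) g *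
      ((c' η : ℂ) * (η : G' → ℂ) h)) fun η _ => by ring]
    simp only [mul_assoc]
    ring
  -- the kernel at two singular elements
  have hsing : ∀ (g : G) (h : G'), p ∣ orderOf g → p ∣ orderOf h →
      MemLocalRing M (signedBijectionKernel B' I σ g h /
        (Nat.card (Subgroup.centralizer ({g} : Set G)) : ℂ)) ∧
      MemLocalRing M (signedBijectionKernel B' I σ g h /
        (Nat.card (Subgroup.centralizer ({h} : Set G')) : ℂ)) := by
    intro g h hg hh
    obtain ⟨u, w, rfl, hc, hu, hw⟩ := Star.exists_split (p := p) g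
    obtain ⟨u', w', rfl, hc', hu', hw'⟩ := Star.exists_split (p := p) h
    have hu1 : u ≠ 1 := fun h1 => hw (by rwa [h1, one_mul] at hg)
    have hu1' : u' ≠ 1 := fun h1 => hw' (by rwa [h1, one_mul] at hh)
    have hwm : w ∈ regs p (Subgroup.zpowers u) := mem_regs.2
      ⟨by rw [cg_zpowers]; exact Subgroup.mem_centralizer_singleton_iff.2 hc.symm.eq, hw⟩
    have hwm' : w' ∈ regs p (Subgroup.zpowers u') := mem_regs.2
      ⟨by rw [cg_zpowers]; exact Subgroup.mem_centralizer_singleton_iff.2 hc'.symm.eq, hw'⟩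
    let K : BrauerPairIdx G → BrauerPairIdx G' → ℂ := fun a a' =>
      ∑ᶠ η ∈ B', (σ η : ℂ) * (sct (I η : G → ℂ) a u w * sct (η : G' → ℂ) a' u' w')
    have hker : signedBijectionKernel B' I σ (u * w) (u' * w') =
        ∑ a ∈ prs p M u, ∑ a' ∈ prs p M u', K a a' := by
      simp only [K, signedBijectionKernel, finsum_mem_block B']
      rw [Finset.sum_congr rfl fun a _ => Finset.sum_comm, Finset.sum_comm]
      refine Finset.sum_congr rfl fun η _ => ?_
      rw [Star.value_prs hM (I η : G → ℂ) hu w, Star.value_prs hM (η : G' → ℂ) hu' w', mul_assoc,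
        Finset.sum_mul, Finset.mul_sum]
      exact Finset.sum_congr rfl fun a _ => by rw [Finset.mul_sum, Finset.mul_sum]
    have hterm : ∀ a ∈ prs p M u, ∀ a' ∈ prs p M u',
        MemLocalRing M (K a a' / (Nat.card (Subgroup.centralizer ({u * w} : Set G)) : ℂ)) ∧
        MemLocalRing M (K a a' / (Nat.card (Subgroup.centralizer ({u' * w'} : Set G')) : ℂ)) := by
      intro a ha a' ha'
      by_cases hof : OfB p M B a ∧ OfB p M B' a'
      swap
      · have h0 : K a a' = 0 := by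
          simp only [K, finsum_mem_block B']
          refine Finset.sum_eq_zero fun η hη => ?_
          have hηB := (Finset.mem_filter.1 hη).2
          rcases not_and_or.1 hof with h1 | h1
          · rw [Star.sct_zero_of_not hM hB (χ := I η) ?_ hu ha h1 hwm]
            · ring
            · rcases (hD'.mem_iff η).1 hηB with h | ⟨j, hj, rfl⟩
              · exact (hD.mem_iff _).2 (Or.inl (hIX η h))
              · exact (hD.mem_iff _).2 (Or.inr ⟨j, hj, (hIy j hj).symm⟩)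
          · rw [Star.sct_zero_of_not hM hB' hηB hu' ha' h1 hwm']
            ring
        rw [h0, zero_div, zero_div]
        exact ⟨ring_zero hM, ring_zero hM⟩
      obtain ⟨i, hi, w₁, hw₁, hw₁r, hsct, hcg⟩ := exists_moved hM hx hgen hN hu hu1
        (Star.mem_prs.1 ha).1 hof.1 ((Star.mem_prs.1 ha).1 ▸ (mem_regs.1 hwm).1) hw
      obtain ⟨i', hi', w₂, hw₂, hw₂r, hsct', hcg'⟩ := exists_moved hM hx' hgen' hN' hu' hu1'
        (Star.mem_prs.1 ha').1 hof.2 ((Star.mem_prs.1 ha').1 ▸ (mem_regs.1 hwm').1) hw'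
      set T : ℕ := (Finset.univ.filter fun t : R =>
        i + i' * ((t : (ZMod N)ˣ) : ZMod N) = 0).card with hT
      have hK : K a a' = (T : ℂ) * (N : ℂ) * (β i w₁ * β' i' w₂) := by
        simp only [K]
        rw [hsplit fun χ η => sct (χ : G → ℂ) a u w * sct (η : G' → ℂ) a' u' w',
          Finset.sum_congr rfl (s₁ := X') (g := fun _ => β i w₁ * β' i' w₂) fun η hη => ?_,
          Finset.sum_const, hD'.card_X, nsmul_eq_mul]
        swap
        · rw [hsct, hsct', hD.sct_X _ (hIX η hη) i hi w₁ hw₁ hw₁r,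
            hD'.sct_X η hη i' hi' w₂ hw₂ hw₂r]
          rcases hD.c_sign _ (hIX η hη) with e | e <;> rcases hD'.c_sign η hη with e' | e' <;>
            rw [e, e'] <;> push_cast <;> ring
        refine mul_left_cancel₀ he0 ?_
        rw [mul_add, mul_left_comm (e : ℂ) ((ε : ℂ) * (ε' : ℂ)),
          hfib fun χ η => sct (χ : G → ℂ) a u w * sct (η : G' → ℂ) a' u' w',
          Finset.sum_congr rfl (g := fun j => (ε : ℂ) * (ε' : ℂ) * (β i w₁ * β' i' w₂) *
            ∑ r : R, ∑ s : R, ψN (j * (i * ((r : (ZMod N)ˣ) : ZMod N) +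
              i' * ((s : (ZMod N)ˣ) : ZMod N)))) fun j hj => ?_, ← Finset.mul_sum]
        swap
        · have hj0 := Finset.ne_of_mem_erase hj
          rw [hsct, hsct', hD.sct_Y j hj0 i hi w₁ hw₁ hw₁r, hD'.sct_Y j hj0 i' hi' w₂ hw₂ hw₂r,
            orbit_sum hD i hj0, orbit_sum hD' i' hj0]
          rw [show ∑ r : R, ∑ s : R, ψN (j * (i * ((r : (ZMod N)ˣ) : ZMod N) +
              i' * ((s : (ZMod N)ˣ) : ZMod N))) =
              (∑ r : R, ψN (i * (((r : (ZMod N)ˣ) : ZMod N) * j))) *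
                ∑ s : R, ψN (i' * (((s : (ZMod N)ˣ) : ZMod N) * j)) by
            rw [Finset.sum_mul_sum]
            refine Finset.sum_congr rfl fun r _ => Finset.sum_congr rfl fun s _ => ?_
            rw [← AddChar.map_add_eq_mul]
            congr 1
            ring]
          ring
        have hin : ∑ j ∈ Finset.univ.erase (0 : ZMod N), ∑ r : R, ∑ s : R,
            ψN (j * (i * ((r : (ZMod N)ˣ) : ZMod N) + i' * ((s : (ZMod N)ˣ) : ZMod N))) =
            (e : ℂ) * ((N : ℂ) * T - e) := by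
          rw [Finset.sum_comm, Finset.sum_congr rfl (g := fun _ : R => (N : ℂ) * T - e) fun r _ => ?_,
            Finset.sum_const, Finset.card_univ, ← Nat.card_eq_fintype_card, hD'.card_R, nsmul_eq_mul]
          rw [Finset.sum_comm, Finset.sum_congr rfl (g := fun s : R => (if i * ((r : (ZMod N)ˣ) : ZMod N)
              + i' * ((s : (ZMod N)ˣ) : ZMod N) = 0 then (N : ℂ) else 0) - 1) fun s _ => by
            rw [← ψN_sum, ← Finset.add_sum_erase _ _ (Finset.mem_univ (0 : ZMod N)), zero_mul,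
              AddChar.map_zero_eq_one, add_sub_cancel_left],
            Finset.sum_sub_distrib, Finset.sum_const, Finset.card_univ, ← Nat.card_eq_fintype_card,
            hD'.card_R, nsmul_one]
          congr 1
          rw [hT, Finset.natCast_card_filter, Finset.mul_sum]
          refine (Fintype.sum_equiv (Equiv.mulLeft r) _ _ fun t => ?_).symm
          simp only [Equiv.coe_mulLeft, Subgroup.coe_mul, Units.val_mul, mul_ite, mul_one, mul_zero]
          refine if_congr ?_ rfl rfl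
          rw [show i * ((r : (ZMod N)ˣ) : ZMod N) + i' * (((r : (ZMod N)ˣ) : ZMod N) *
              ((t : (ZMod N)ˣ) : ZMod N)) = ((r : (ZMod N)ˣ) : ZMod N) *
                (i + i' * ((t : (ZMod N)ˣ) : ZMod N)) by ring]
          simp
        rw [hin]
        have hε : (ε : ℂ) * (ε : ℂ) = 1 := by rcases hD.ε_sign with e | e <;> simp [e]
        have hε' : (ε' : ℂ) * (ε' : ℂ) = 1 := by rcases hD'.ε_sign with e | e <;> simp [e]
        linear_combination ((e : ℂ) * ((N : ℂ) * T - e) * (β i w₁ * β' i' w₂) *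
          ((ε' : ℂ) * (ε' : ℂ))) * hε + ((e : ℂ) * ((N : ℂ) * T - e) * (β i w₁ * β' i' w₂)) * hε'
      obtain ⟨b1, d1⟩ := beta_ring hM hx hcyc hgen hN hD hi hw₁ hw₁r
      obtain ⟨b2, d2⟩ := beta_ring hM hx' hcyc' hgen' hN' hD' hi' hw₂ hw₂r
      rw [hcg] at d1
      rw [hcg'] at d2
      rw [hK]
      refine ⟨?_, ?_⟩
      · convert ring_mul hM (ring_mul hM (ring_natCast hM T) b2) d1 using 1
        ring
      · convert ring_mul hM (ring_mul hM (ring_natCast hM T) b1) d2 using 1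
        ring
    rw [hker]
    simp only [Finset.sum_div]
    exact ⟨ring_sum hM fun a ha => ring_sum hM fun a' ha' => (hterm a ha a' ha').1,
      ring_sum hM fun a ha => ring_sum hM fun a' ha' => (hterm a ha a' ha').2⟩
  intro g h
  by_cases hg : p ∣ orderOf g <;> by_cases hh : p ∣ orderOf h
  · exact ⟨(hsing g h hg hh).1, (hsing g h hg hh).2,
      Or.inl ⟨fun h1 => absurd hg h1, fun h1 => absurd hh h1⟩⟩
  · have h0 : signedBijectionKernel B' I σ g h = 0 := by
      rw [hformA g h hh]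
      exact Finset.sum_eq_zero fun η hη => by
        rw [(bracket hM hB hx hgen hN hD (hIX η hη) g).2 hg, mul_zero]
    rw [h0, zero_div, zero_div]
    exact ⟨ring_zero hM, ring_zero hM, Or.inr rfl⟩
  · have h0 : signedBijectionKernel B' I σ g h = 0 := by
      rw [hformB g h hg]
      exact Finset.sum_eq_zero fun η hη => by
        rw [(bracket hM hB' hx' hgen' hN' hD' hη h).2 hh, mul_zero]
    rw [h0, zero_div, zero_div]
    exact ⟨ring_zero hM, ring_zero hM, Or.inr rfl⟩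
  · refine ⟨?_, ?_, Or.inl ⟨fun _ => hh, fun _ => hg⟩⟩
    · rw [hformA g h hh, Finset.sum_div]
      refine ring_sum hM fun η hη => ?_
      rw [mul_div_assoc]
      exact ring_mul hM (ring_mul hM (ring_intCast hM _) (irr_ring hM η h))
        (bracket hM hB hx hgen hN hD (hIX η hη) g).1
    · rw [hformB g h hg, Finset.sum_div]
      refine ring_sum hM fun η hη => ?_
      rw [mul_div_assoc]
      exact ring_mul hM (ring_mul hM (ring_intCast hM _) (irr_ring hM _ g))
        (bracket hM hB' hx' hgen' hN' hD' hη h).1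

end Two

end Cfsg.Agent.Char.CycDef
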