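import Cfsg.Agent.Lib.Char.CycDefGram

/-!
A block whose inertial group is the centralizer of its abelian defect group: its characters are the
twists of one of them, and the sections of that one have the norm of the pairs.
-/

open scoped ComplexConjugate

namespace Cfsg.Agent.Char.CycDef

open Cfsg Cfsg.Agent.Block Cfsg.Agent.Char.BP Cfsg.Agent.Char.Spec Cfsg.Agent.Char.Star

set_option linter.unusedSectionVars false
set_option linter.style.haveILetI false
set_option maxHeartbeats 1600000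

universe u

variable {G : Type u} [Group G] [Fintype G] {p : ℕ} [hp : Fact p.Prime] {M : Ideal AlgInt}
variable {B : Set (IrrCharacter G)} {x : BrauerPairIdx G}

theorem conj_mul_self_of_finite {P : Type u} [Group P] [Finite P] (l : P →* ℂˣ) (v : P) :
    (l v : ℂ) * conj (l v : ℂ) = 1 := by
  have h : ‖(l v : ℂ)‖ = 1 := by
    refine Complex.norm_eq_one_of_pow_eq_one ?_ (n := Nat.card P) Nat.card_pos.ne'
    rw [← Units.val_pow_eq_pow_val, ← map_pow, pow_card_eq_one', map_one, Units.val_one]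
  rw [Complex.mul_conj', h]
  simp

/-- The characters of the block and their sections. -/
theorem exists_local (hM : IsPModular p M) (hnil : IsNilpotentBlock p M B) (hx : IsMx p M B x)
    (hab : ∀ v ∈ x.1, ∀ w ∈ x.1, v * w = w * v) (hst : stab x ≤ CG x.1) :
    ∃ η₀ ∈ B,
      (∀ η ∈ B, ∃ l : x.1 →* ℂˣ, ∀ v : x.1, ∀ w ∈ CG (Subgroup.zpowers (v : G)),
        ¬ p ∣ orderOf w → sct (η : G → ℂ) (av p M x (v : G)) (v : G) w =
          (l v : ℂ) * sct (η₀ : G → ℂ) (av p M x (v : G)) (v : G) w) ∧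
      ∀ v ∈ x.1, (Nat.card x.1 : ℂ) * (sct (η₀ : G → ℂ) (av p M x v) v 1 *
        conj (sct (η₀ : G → ℂ) (av p M x v) v 1)) = wgt (av p M x v) := by
  classical
  letI := Fintype.ofFinite x.1
  have hF := isBlockFS hM (P := x.1) (e := x.2) hx
  have hB := hnil.1
  obtain ⟨η₀, hη₀, h0⟩ := exists_height_zero hM hB
  have hK0 : Wat.K0 x ≤ ⊥ := by
    refine (Subgroup.closure_le _).2 ?_
    rintro y ⟨t, ht, w, hw, he⟩
    rw [SetLike.mem_coe, Subgroup.mem_bot]
    refine Subtype.ext ?_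
    rw [he, ← Subgroup.mem_centralizer_iff.1 (hst ht) w hw]
    simp
  have hfoc : ∀ l : x.1 →* ℂˣ, TrivFoc (blockFS hM hx.1.1) l := fun l =>
    Wat.trivFoc_of_K0 hM hx hab fun y hy => by rw [Subgroup.mem_bot.1 (hK0 hy), map_one]
  choose tw htwB htw _ using fun l => exists_twist hM hF (hfoc l) hη₀
  have hsct : ∀ (l : x.1 →* ℂˣ) (v : x.1), ∀ w ∈ CG (Subgroup.zpowers (v : G)), ¬ p ∣ orderOf w →
      sct (tw l : G → ℂ) (av p M x (v : G)) (v : G) w =
        (l v : ℂ) * sct (η₀ : G → ℂ) (av p M x (v : G)) (v : G) w := by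
    intro l v w hw hwr
    obtain ⟨h1, h2, -⟩ := av_spec hM hx v.2
    rw [sct_twist hM hF (hfoc l) (htw l) (order_pow hx.1.1.1 v)
      (mem_prs.2 ⟨h1, le_isPr h2 hx.1.1⟩) (mem_regs.2 ⟨hw, hwr⟩), lamW_self hM hF (hfoc l) v h1 h2]
  have hinj : Function.Injective fun l => (⟨tw l, htwB l⟩ : B) := by
    intro l l' h
    refine MonoidHom.ext fun v => Units.ext ?_
    obtain ⟨h1, -, h3⟩ := av_spec hM hx v.2
    obtain ⟨w, hw, hwr, hne⟩ := exists_sct_ne_zero (x := (v : G)) hM hη₀ h0 h1 h3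
    refine mul_right_cancel₀ hne ?_
    rw [h1] at hw
    rw [← hsct l v w hw hwr, ← hsct l' v w hw hwr,
      show tw l = tw l' from congrArg Subtype.val h]
  have hcard : Nat.card B = Nat.card x.1 := by
    obtain ⟨Φ, -⟩ := exists_height_equiv hM hnil (defect_of_max hM hx)
    rw [Nat.card_congr Φ, card_irrCharacter]
    refine (Nat.card_congr (Equiv.ofBijective ConjClasses.mk ⟨fun a c h => ?_,
      ConjClasses.mk_surjective⟩)).symm
    obtain ⟨t, ht⟩ := isConj_iff.1 (ConjClasses.mk_eq_mk_iff_isConj.1 h)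
    rw [show t * a = a * t from Subtype.ext (hab _ t.2 _ a.2), mul_inv_cancel_right] at ht
    exact ht
  letI : CommGroup x.1 :=
    { (inferInstance : Group x.1) with mul_comm := fun a b => Subtype.ext (hab _ a.2 _ b.2) }
  have hcl : Nat.card (x.1 →* ℂˣ) = Nat.card x.1 :=
    CommGroup.card_monoidHom_of_hasEnoughRootsOfUnity _ ℂ
  have hsurj := ((Nat.bijective_iff_injective_and_card _).2 ⟨hinj, hcl.trans hcard.symm⟩).2
  refine ⟨η₀, hη₀, fun η hη => ?_, fun v hv => ?_⟩
  · obtain ⟨l, hl⟩ := hsurj ⟨η, hη⟩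
    exact ⟨l, fun v w hw hwr => by
      rw [← show tw l = η from congrArg Subtype.val hl]; exact hsct l v w hw hwr⟩
  · have hsum := sum_sct_mul (B := B) hM hx hab hv hv
    rw [if_pos ⟨1, one_mem _, by group⟩] at hsum
    rw [← hsum, ← hcard, Nat.card_eq_fintype_card, Fintype.card_subtype]
    rw [Finset.sum_congr rfl (g := fun _ => sct (η₀ : G → ℂ) (av p M x v) v 1 *
      conj (sct (η₀ : G → ℂ) (av p M x v) v 1)) fun η hη => ?_, Finset.sum_const, nsmul_eq_mul]
    obtain ⟨l, hl⟩ := hsurj ⟨η, (Finset.mem_filter.1 hη).2⟩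
    rw [← show tw l = η from congrArg Subtype.val hl, hsct l ⟨v, hv⟩ 1 (one_mem _)
      (by rw [orderOf_one]; exact hp.out.not_dvd_one), map_mul]
    linear_combination (sct (η₀ : G → ℂ) (av p M x v) v 1 *
      conj (sct (η₀ : G → ℂ) (av p M x v) v 1)) * conj_mul_self_of_finite l ⟨v, hv⟩

end Cfsg.Agent.Char.CycDef
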