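import Cfsg.Agent.Lib.Char.CycDefFrob
import Cfsg.Agent.Lib.Block.InducedDefect
import Cfsg.Agent.Lib.Block.PiKernel

/-!
A block of a subgroup containing the normalizer of its defect group and the block it induces: a
common maximal pair.
-/

namespace Cfsg.Agent.Char.CycDef

open Cfsg Cfsg.Agent.Block Cfsg.Agent.Char.BP Cfsg.Agent.Char.Spec

set_option linter.unusedSectionVars false
set_option linter.style.haveILetI false

universe u

variable {G : Type u} [Group G] [Fintype G] {p : ℕ} [hp : Fact p.Prime] {M : Ideal AlgInt}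

/-- A maximal pair of the induced block that is one of the block of the subgroup. -/
theorem exists_common_max (hM : IsPModular p M) {B : Set (IrrCharacter G)} (hB : IsPBlock M B)
    {P H : Subgroup G} [Fintype H] (hPD : IsDefectGroup p M B P) (hN : Subgroup.normalizer (P : Set G) ≤ H)
    {c : Set (IrrCharacter H)} (hcD : IsDefectGroup p M c (P.subgroupOf H))
    (hind : IsInducedBlock M H c B) :
    ∃ (x : BrauerPairIdx G) (h1 : x.1 ≤ H) (h2 : CG x.1 ≤ H), x.1 = P ∧ IsMx p M B x ∧
      IsMx p M c (dn H x h1 h2) := by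
  classical
  have hle : P ≤ H := Subgroup.le_normalizer.trans hN
  have hC : CG P ≤ H := (cg_le_normalizer P).trans hN
  obtain ⟨f, hf⟩ := exists_max_at_defect hM hind.1 hcD
  set e : CG (P.subgroupOf H) ≃* CG P := cgSub hle hC
  have hpr : IsPr p M (⟨P, pullB e f⟩ : BrauerPairIdx G) :=
    ⟨IsPGroup.of_card (card_defectGroup hM hB hPD), isPBlock_pullB hM e hf.1.1.2⟩
  have hof : OfB p M B (⟨P, pullB e f⟩ : BrauerPairIdx G) := by
    refine ofB_of_holds hB hpr fun ξ hξ => ?_
    obtain ⟨χ, hχ⟩ := pblock_nonempty hM hB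
    obtain ⟨θ, hθ⟩ := pblock_nonempty hM hind.1
    have hη : irrPull e ξ ∈ f := hξ
    show MemLocalIdeal M (val P (blockCoeff B) ξ - 1)
    rw [show blockCoeff B = coeffFun (blockInd B) from funext (blockCoeff_eq B),
      val_pull (G := G) (G' := H) e (φ' := coeffFun (resCen H (blockInd B)))
        (φ := coeffFun (blockInd B)) (fun k => coeffFun_resCen H (blockInd B) _)]
    have h1 := IndDefect.val_eq_of_ofB hM hf.1 hη (cenInt_blockInd hM hB).resCen hθ
    have h2 := induced_congr hM hind (cenInt_blockInd hM hB) hθ hχ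
    rw [blockInd_of_mem hχ] at h2
    have h3 := ideal_add hM h1 h2
    rwa [sub_add_sub_cancel] at h3
  have hmx := max_of_defect hM hof hPD
  refine ⟨⟨P, pullB e f⟩, hle, hC, rfl, hmx, ?_⟩
  have he : dn H (⟨P, pullB e f⟩ : BrauerPairIdx G) hle hC =
      (⟨P.subgroupOf H, f⟩ : BrauerPairIdx H) := by
    show (⟨P.subgroupOf H, pullB e.symm (pullB e f)⟩ : BrauerPairIdx H) = _
    refine congrArg (Sigma.mk (P.subgroupOf H)) (Set.ext fun η => ?_)
    show irrPull e (irrPull e.symm η) ∈ f ↔ η ∈ f
    rw [irrPull_symm_self]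
  rw [he]
  exact hf

end Cfsg.Agent.Char.CycDef
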