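import Cfsg.Agent.Lib.Char.CycDefLocal
import Mathlib.NumberTheory.LegendreSymbol.AddCharacter

/-!
Powers of a generator and characters of the residues modulo its order.
-/

open scoped ComplexConjugate

namespace Cfsg.Agent.Char.CycDef

set_option linter.unusedSectionVars false

universe u

variable {N : ℕ} [NeZero N]

/-- The character of the residues. -/
noncomputable def ψN : AddChar (ZMod N) ℂ := ZMod.stdAddChar

theorem ψN_sum (b : ZMod N) : ∑ x : ZMod N, ψN (x * b) = if b = 0 then (N : ℂ) else 0 := by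
  show ∑ x, ZMod.stdAddChar (x * b) = _
  rw [AddChar.sum_mulShift b (ZMod.isPrimitive_stdAddChar N), ZMod.card]
  push_cast
  rfl

theorem ψN_conj (x : ZMod N) : conj (ψN x) = ψN (-x) := (AddChar.map_neg_eq_conj _ x).symm

theorem ψN_mul_conj (x : ZMod N) : ψN x * conj (ψN x) = 1 := by
  rw [ψN_conj, ← AddChar.map_add_eq_mul, add_neg_cancel, AddChar.map_zero_eq_one]

theorem ψN_ne_zero (x : ZMod N) : ψN x ≠ 0 := fun h => one_ne_zero (α := ℂ)
  (by rw [← ψN_mul_conj x, h, zero_mul])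

theorem ψN_ext {j k : ZMod N} (h : ∀ i : ZMod N, ψN (i * j) = ψN (i * k)) : j = k := by
  by_contra hne
  have h1 := ψN_sum (j - k)
  rw [if_neg (sub_ne_zero.2 hne), Finset.sum_congr rfl (g := fun _ => (1 : ℂ)) fun x _ => ?_] at h1
  · simp [NeZero.ne N] at h1
  · rw [mul_sub, sub_eq_add_neg, AddChar.map_add_eq_mul, h, ← AddChar.map_add_eq_mul, add_neg_cancel,
      AddChar.map_zero_eq_one]

theorem exists_ψN {z : ℂ} (hz : z ^ N = 1) : ∃ j : ZMod N, z = ψN j := by
  have hpow : ∀ l : ℕ, (ψN (N := N) 1) ^ l = ψN (l : ZMod N) := fun l => by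
    rw [← AddChar.map_nsmul_eq_pow, nsmul_one]
  have h1 : (ψN (N := N) 1) ^ N = 1 := by rw [hpow, ZMod.natCast_self, AddChar.map_zero_eq_one]
  have hprim : IsPrimitiveRoot (ψN (N := N) 1) N :=
    { pow_eq_one := h1
      dvd_of_pow_eq_one := fun l hl => by
        rw [← ZMod.natCast_eq_zero_iff]
        refine ψN_ext fun i => ?_
        rw [mul_zero, AddChar.map_zero_eq_one, ← ZMod.natCast_zmod_val i, ← Nat.cast_mul, mul_comm,
          ← hpow, pow_mul, hl, one_pow] }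
  obtain ⟨i, -, hi⟩ := hprim.eq_pow_of_pow_eq_one hz
  exact ⟨i, by rw [← hi, hpow]⟩

variable {G : Type u} [Group G] {u₀ : G}

/-- A power of a fixed element indexed by residues. -/
def pw (u₀ : G) (i : ZMod N) : G := u₀ ^ i.val

theorem pw_zero : pw u₀ (0 : ZMod N) = 1 := by simp [pw]

variable (hN : orderOf u₀ = N)

include hN

theorem pw_natCast (n : ℕ) : pw u₀ (n : ZMod N) = u₀ ^ n := by
  rw [pw, pow_eq_pow_iff_modEq, hN, ← ZMod.natCast_eq_natCast_iff, ZMod.natCast_zmod_val]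

theorem pw_pow (i : ZMod N) (n : ℕ) : pw u₀ i ^ n = pw u₀ (i * (n : ZMod N)) := by
  conv_rhs => rw [← ZMod.natCast_zmod_val i, ← Nat.cast_mul, pw_natCast hN]
  rw [pw, ← pow_mul]

theorem pw_inj {i j : ZMod N} (h : pw u₀ i = pw u₀ j) : i = j := by
  rw [pw, pw, pow_eq_pow_iff_modEq, hN, ← ZMod.natCast_eq_natCast_iff,
    ZMod.natCast_zmod_val, ZMod.natCast_zmod_val] at h
  exact h

theorem pw_ne_one {i : ZMod N} (hi : i ≠ 0) : pw u₀ i ≠ 1 := fun h =>
  hi (pw_inj hN (h.trans pw_zero.symm))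

theorem pw_one : pw u₀ (1 : ZMod N) = u₀ := by
  have := pw_natCast hN 1
  simpa using this

theorem conj_pw {t : G} {r : ZMod N} (h : t * u₀ * t⁻¹ = pw u₀ r) (i : ZMod N) :
    t * pw u₀ i * t⁻¹ = pw u₀ (r * i) := by
  rw [show t * pw u₀ i * t⁻¹ = (t * u₀ * t⁻¹) ^ i.val by rw [pw, conj_pow], h,
    pw_pow hN, ZMod.natCast_zmod_val]

theorem exists_pw [Finite G] {v : G} (hv : v ∈ Subgroup.zpowers u₀) :
    ∃ i : ZMod N, pw u₀ i = v := by
  obtain ⟨n, hn⟩ := mem_powers_iff_mem_zpowers.2 hv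
  exact ⟨n, (pw_natCast hN n).trans hn⟩

end Cfsg.Agent.Char.CycDef
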