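import Cfsg.Agent.Lib.Char.CycModular
import Mathlib.RingTheory.RootsOfUnity.AlgebraicallyClosed
import Mathlib.RingTheory.RootsOfUnity.EnoughRootsOfUnity

/-!
A simple representation of a normal subgroup with cyclic quotient of order prime to the
characteristic which is stable has as many pairwise different extensions as the index.
-/

namespace Cfsg.Agent.Char.CycGreen

open Cfsg.Agent.Char.CycMod

set_option linter.unusedSectionVars false
set_option linter.style.haveILetI false

universe u v w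

variable {G : Type u} [Group G] [Fintype G] {k : Type v} [Field k] [IsAlgClosed k]
variable {V : Type w} [AddCommGroup V] [Module k V] [FiniteDimensional k V]

/-- The extensions. -/
theorem exists_extensions {C T : Subgroup G} (hCT : C ≤ T)
    (hnorm : ∀ t ∈ T, ∀ c ∈ C, t * c * t⁻¹ ∈ C) [(C.subgroupOf T).Normal]
    (hcyc : IsCyclic (T ⧸ C.subgroupOf T)) (he : ((C.relIndex T : ℕ) : k) ≠ 0)
    (ρ : C →* Module.End k V) (hirr : Irr ρ)
    (hstab : ∀ t ∈ T, ∃ f : V →ₗ[k] V, f ≠ 0 ∧ ∀ (c d : C), (d : G) = t * c * t⁻¹ →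
      ∀ v, f (ρ c v) = ρ d (f v)) :
    ∃ τ : Fin (C.relIndex T) → (T →* Module.End k V),
      (∀ j (t : T) (c : C), (t : G) = c → τ j t = ρ c) ∧
      ∀ i j, i ≠ j → ∀ f : V →ₗ[k] V, (∀ t v, f (τ i t v) = τ j t (f v)) → f = 0 := by
  classical
  haveI := hirr.1
  set e := C.relIndex T with he'
  set K := C.subgroupOf T
  haveI : NeZero (e : k) := ⟨he⟩
  haveI : NeZero e := ⟨fun h => he (by rw [h, Nat.cast_zero])⟩
  have hcard : Nat.card (T ⧸ K) = e := (Subgroup.index_eq_card K).symm
  obtain ⟨g, hg⟩ := hcyc.exists_generator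
  obtain ⟨s, rfl⟩ := QuotientGroup.mk_surjective g
  have hord : orderOf (QuotientGroup.mk s : T ⧸ K) = e :=
    (orderOf_eq_card_of_forall_mem_zpowers hg).trans hcard
  have hdec : ∀ t : T, ∃ j : ℕ, j < e ∧ ((t * (s ^ j)⁻¹ : T) : G) ∈ C := by
    intro t
    obtain ⟨j, hj⟩ := mem_powers_iff_mem_zpowers.2 (hg (QuotientGroup.mk t))
    refine ⟨j % e, Nat.mod_lt _ (Nat.pos_of_neZero e), ?_⟩
    have h : (QuotientGroup.mk (t * (s ^ (j % e))⁻¹) : T ⧸ K) = 1 := by
      rw [QuotientGroup.mk_mul, QuotientGroup.mk_inv, QuotientGroup.mk_pow, ← hord, pow_mod_orderOf,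
        ← hj, mul_inv_cancel]
    exact Subgroup.mem_subgroupOf.1 ((QuotientGroup.eq_one_iff (N := K) _).1 h)
  choose jj hjlt hjC using hdec
  have hdvd : ∀ n : ℕ, ((s ^ n : T) : G) ∈ C → e ∣ n := fun n hn => by
    rw [← hord, orderOf_dvd_iff_pow_eq_one, ← QuotientGroup.mk_pow, QuotientGroup.eq_one_iff]
    exact hn
  have hse : ((s ^ e : T) : G) ∈ C := by
    have h : (QuotientGroup.mk (s ^ e) : T ⧸ K) = 1 := by
      rw [QuotientGroup.mk_pow, ← hord, pow_orderOf_eq_one]
    exact Subgroup.mem_subgroupOf.1 ((QuotientGroup.eq_one_iff (N := K) _).1 h)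
  set c₀ : C := ⟨_, hse⟩ with hc₀
  -- the intertwining operator
  obtain ⟨A₁, hA₁0, hA₁⟩ := hstab s s.2
  have hA₁b : Function.Bijective A₁ := by
    let ρ' : C →* Module.End k V := ρ.comp
      { toFun := fun c => ⟨(s : G) * c * (s : G)⁻¹, hnorm s s.2 c c.2⟩
        map_one' := Subtype.ext (by simp)
        map_mul' := fun a b => Subtype.ext (by simp [mul_assoc]) }
    have hirr' : Irr ρ' := by
      refine ⟨hirr.1, fun X hX => hirr.2 X fun d x hx => ?_⟩
      have h := hX ⟨(s : G)⁻¹ * d * (s : G), by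
        simpa using hnorm (s : G)⁻¹ (T.inv_mem s.2) d d.2⟩ x hx
      simpa [ρ', mul_assoc] using h
    exact (zero_or_bijective ρ ρ' hirr hirr' fun c v => hA₁ c _ rfl v).resolve_left hA₁0
  have hA₁pow : ∀ (n : ℕ) (c d : C), (d : G) = (s : G) ^ n * c * ((s : G) ^ n)⁻¹ →
      ∀ v, (A₁ ^ n) (ρ c v) = ρ d ((A₁ ^ n) v) := by
    intro n
    induction n with
    | zero => intro c d h v; simp [show d = c from Subtype.ext (by simpa using h)]
    | succ n ih =>
      intro c d h v
      rw [pow_succ', Module.End.mul_apply, Module.End.mul_apply,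
        ih c ⟨_, hnorm _ (pow_mem s.2 n) c c.2⟩ rfl]
      exact hA₁ _ d (by rw [h, pow_succ']; group) _
  let u : V →ₗ[k] V := ρ (c₀⁻¹) * A₁ ^ e
  have hu : Intw ρ ρ u := fun c v => by
    simp only [u, Module.End.mul_apply]
    rw [hA₁pow e c (c₀ * c * c₀⁻¹) (by simp [hc₀])]
    have hm : ∀ (a b : C) (x : V), ρ a (ρ b x) = ρ (a * b) x := fun a b x => by
      rw [map_mul, Module.End.mul_apply]
    rw [hm, hm, show c₀⁻¹ * (c₀ * c * c₀⁻¹) = c * c₀⁻¹ by group]
  obtain ⟨a, ha⟩ := schur ρ hirr hu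
  have hAe : ∀ v, (A₁ ^ e) v = a • ρ c₀ v := fun v => by
    rw [← map_smul, ← ha v]
    simp only [u, Module.End.mul_apply]
    rw [← Module.End.mul_apply (ρ c₀), ← map_mul, mul_inv_cancel, map_one, Module.End.one_apply]
  have ha0 : a ≠ 0 := by
    intro h0
    obtain ⟨v, hv⟩ := exists_ne (0 : V)
    have hbij : Function.Bijective (A₁ ^ e) := by
      rw [Module.End.coe_pow]; exact hA₁b.iterate e
    exact hv (hbij.1 (by rw [hAe, h0, zero_smul, map_zero]))
  obtain ⟨l, hl⟩ := IsAlgClosed.exists_pow_nat_eq a⁻¹ (Nat.pos_of_neZero e)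
  obtain ⟨ζ, hζ⟩ := HasEnoughRootsOfUnity.exists_primitiveRoot k e
  have hl0 : l ≠ 0 := fun h => inv_ne_zero ha0 (by rw [← hl, h, zero_pow (NeZero.ne e)])
  let A : Fin e → Module.End k V := fun j => (l * ζ ^ (j : ℕ)) • A₁
  have hApow : ∀ j (n : ℕ) (c d : C), (d : G) = (s : G) ^ n * c * ((s : G) ^ n)⁻¹ →
      A j ^ n * ρ c = ρ d * A j ^ n := fun j n c d h => LinearMap.ext fun v => by
    simp [A, smul_pow, hA₁pow n c d h v]
  have hAe' : ∀ j, A j ^ e = ρ c₀ := fun j => LinearMap.ext fun v => by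
    simp only [A, smul_pow, LinearMap.smul_apply, hAe, smul_smul]
    rw [mul_pow, hl, pow_right_comm, hζ.pow_eq_one, one_pow, mul_one, inv_mul_cancel₀ ha0, one_smul]
  let val : Fin e → T → Module.End k V := fun j t => ρ ⟨_, hjC t⟩ * A j ^ jj t
  have hval : ∀ j (t : T) (n : ℕ) (c : C), (t : G) = c * (s : G) ^ n →
      val j t = ρ c * A j ^ n := by
    intro j t n
    induction n using Nat.strong_induction_on with
    | _ n ih =>
      intro c hc
      rcases lt_or_ge n e with hn | hn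
      · have hj : jj t = n := by
          have h1 : ((t * (s ^ n)⁻¹ : T) : G) ∈ C := by simp [hc]
          have h2 := hjC t
          have e1 : ∀ i k' : ℕ, i ≤ k' → ((t * (s ^ i)⁻¹ : T) : G) ∈ C →
              ((t * (s ^ k')⁻¹ : T) : G) ∈ C → e ∣ k' - i := by
            intro i k' hik hi hk
            refine hdvd _ ?_
            have h := C.mul_mem (C.inv_mem hk) hi
            have e2 : (((t * (s ^ k')⁻¹ : T) : G))⁻¹ * ((t * (s ^ i)⁻¹ : T) : G) =
                ((s ^ (k' - i) : T) : G) := by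
              simp only [Subgroup.coe_mul, Subgroup.coe_inv, Subgroup.coe_pow, pow_sub (s : G) hik]
              group
            rwa [e2] at h
          rcases le_total (jj t) n with h | h
          · have := Nat.eq_zero_of_dvd_of_lt (e1 _ _ h h2 h1) (by omega); omega
          · have := Nat.eq_zero_of_dvd_of_lt (e1 _ _ h h1 h2) (by have := hjlt t; omega); omega
        simp only [val, hj]
        congr 2
        exact Subtype.ext (by simp [hc, hj])
      · rw [ih (n - e) (by have := Nat.pos_of_neZero e; omega) (c * c₀) (by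
            rw [hc, hc₀]
            simp [mul_assoc, ← pow_add, show e + (n - e) = n by omega]),
          map_mul, mul_assoc, ← hAe' j, ← pow_add, show e + (n - e) = n by omega]
  refine ⟨fun j =>
    { toFun := val j
      map_one' := by rw [hval j 1 0 1 (by simp), map_one, pow_zero, one_mul]
      map_mul' := fun t t' => ?_ }, fun j t c h => ?_, fun i j hij f hf => ?_⟩
  · have hc2 := hnorm _ (pow_mem s.2 (jj t)) _ (hjC t')
    have hsplit : ∀ t : T, (t : G) =
        ((⟨_, hjC t⟩ : C) : G) * (s : G) ^ jj t := fun t => by simp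
    rw [hval j (t * t') (jj t + jj t') (⟨_, hjC t⟩ * ⟨_, hc2⟩) (by
        conv_lhs => rw [Subgroup.coe_mul, hsplit t, hsplit t']
        simp [pow_add, mul_assoc])]
    show _ = ρ ⟨_, hjC t⟩ * A j ^ jj t * (ρ ⟨_, hjC t'⟩ * A j ^ jj t')
    rw [mul_assoc (ρ ⟨_, hjC t⟩) (A j ^ jj t), ← mul_assoc (A j ^ jj t),
      hApow j (jj t) ⟨_, hjC t'⟩ ⟨_, hc2⟩ rfl, map_mul, pow_add]
    simp only [mul_assoc]
  · show val j t = ρ c
    rw [hval j t 0 c (by simp [h]), pow_zero, mul_one]
  · have hfC : Intw ρ ρ f := fun c v => by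
      have h : f (val i ⟨c, hCT c.2⟩ v) = val j ⟨c, hCT c.2⟩ (f v) := hf ⟨c, hCT c.2⟩ v
      rw [hval i _ 0 c (by simp), hval j _ 0 c (by simp)] at h
      simpa using h
    obtain ⟨z, hz⟩ := schur ρ hirr hfC
    obtain ⟨v, hv⟩ := exists_ne (0 : V)
    have h : f (val i s v) = val j s (f v) := hf s v
    rw [hval i s 1 1 (by simp), hval j s 1 1 (by simp)] at h
    simp only [map_one, one_mul, pow_one, A, LinearMap.smul_apply, hz, map_smul, smul_smul] at h
    have hne : A₁ v ≠ 0 := fun h0 => hv (hA₁b.1 (by rw [h0, map_zero]))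
    have h2 := smul_left_injective k hne h
    refine LinearMap.ext fun w => ?_
    rw [hz, show z = 0 from ?_, zero_smul]
    · rfl
    by_contra hz0
    refine hij (Fin.ext (hζ.pow_inj i.2 j.2 (mul_left_cancel₀ (mul_ne_zero hl0 hz0) ?_)))
    linear_combination h2

end Cfsg.Agent.Char.CycGreen
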