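import Cfsg.Agent.Lib.Char.SpectralIdem

/-!
Traces on idempotents of the group algebra over the local ring: idempotents vanish on singular
classes, and two idempotents commuting with a `p`-element `z` which agree modulo the maximal ideal on
the centralizer of `z` give the same trace after multiplication by `z`.
-/

namespace Cfsg.Agent.Char.Spec

open Cfsg.Agent.Block

set_option linter.unusedSectionVars false
set_option linter.style.haveILetI false

universe u

variable {G : Type u} [Group G] [Fintype G] [DecidableEq G] {p : ℕ} {M : Ideal AlgInt}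

local notation "sgl" => fun g : G => MonoidAlgebra.single g (1 : ℂ)

/-- A function extended linearly to the group algebra. -/
noncomputable def ev (f : G → ℂ) (a : MonoidAlgebra ℂ G) : ℂ := ∑ k : G, a.coeff k * f k

theorem ev_add (f : G → ℂ) (a b : MonoidAlgebra ℂ G) : ev f (a + b) = ev f a + ev f b := by
  simp only [ev, MonoidAlgebra.coeff_add, Finsupp.add_apply, add_mul, Finset.sum_add_distrib]

theorem ev_sub (f : G → ℂ) (a b : MonoidAlgebra ℂ G) : ev f (a - b) = ev f a - ev f b := by
  simp only [ev, MonoidAlgebra.coeff_sub, Finsupp.sub_apply, sub_mul, Finset.sum_sub_distrib]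

theorem ev_mul_comm {f : G → ℂ} (hf : IsClassFunction G f) (a b : MonoidAlgebra ℂ G) :
    ev f (a * b) = ev f (b * a) := by
  simp only [ev, coeff_mul_apply, Finset.sum_mul]
  rw [Finset.sum_comm]
  conv_rhs => rw [Finset.sum_comm]
  calc ∑ h : G, ∑ k : G, a.coeff (k * h⁻¹) * b.coeff h * f k
      = ∑ h : G, ∑ l : G, a.coeff l * b.coeff h * f (l * h) := by
        refine Finset.sum_congr rfl fun h _ => ?_
        refine Fintype.sum_equiv (Equiv.mulRight h⁻¹) _ _ fun k => ?_
        simp
    _ = ∑ l : G, ∑ h : G, a.coeff l * b.coeff h * f (l * h) := Finset.sum_comm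
    _ = _ := by
        refine Finset.sum_congr rfl fun l _ => ?_
        refine Fintype.sum_equiv (Equiv.mulRight l) _ _ fun h => ?_
        simp only [Equiv.coe_mulRight, mul_inv_cancel_right]
        rw [← hf (h * l) l, show l * (h * l) * l⁻¹ = l * h by group]
        ring

theorem one_sub_idem {u : MonoidAlgebra ℂ G} (h : u * u = u) :
    (1 - u) * (1 - u) = 1 - u := by
  rw [sub_mul, one_mul, mul_sub, mul_one, h, sub_self, sub_zero]

/-- The sum over the conjugates of `g` of the coefficients. -/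
noncomputable def ctr (g : G) (a : MonoidAlgebra ℂ G) : ℂ := ∑ s : G, a.coeff (s * g * s⁻¹)

theorem ev_eq_ctr {f : G → ℂ} (hf : IsClassFunction G f) (a : MonoidAlgebra ℂ G) :
    (Nat.card G : ℂ) * ev f a = ∑ g : G, f g * ctr g a := by
  simp only [ctr, Finset.mul_sum]
  rw [Finset.sum_comm]
  have h1 : ∀ s : G, ∑ g : G, f g * a.coeff (s * g * s⁻¹) = ev f a := fun s =>
    Fintype.sum_equiv (MulAut.conj s).toEquiv _ _ fun g => by
      simp only [MulEquiv.toEquiv_eq_coe, MulEquiv.coe_toEquiv, MulAut.conj_apply, hf g s, mul_comm]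
  rw [Finset.sum_congr rfl fun s _ => h1 s, Finset.sum_const, Finset.card_univ, nsmul_eq_mul,
    Nat.card_eq_fintype_card]

theorem ev_eq_zero_of_ctr {f : G → ℂ} (hf : IsClassFunction G f) {a : MonoidAlgebra ℂ G}
    (h : ∀ g, ctr g a = 0) : ev f a = 0 := by
  have h1 := ev_eq_ctr hf a
  simp only [h, mul_zero, Finset.sum_const_zero] at h1
  exact (mul_eq_zero.1 h1).resolve_left (Nat.cast_ne_zero.2 Nat.card_pos.ne')

/-- Right multiplication. -/
noncomputable def rightMat : G →* Matrix G G ℂ where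
  toFun g := Matrix.of fun s t => if t = s * g then 1 else 0
  map_one' := by ext s t; simp [Matrix.one_apply, eq_comm]
  map_mul' a b := by
    ext s t
    rw [Matrix.mul_apply, Finset.sum_eq_single (s * a)]
    · simp [mul_assoc]
    · intro y _ hy; simp [hy]
    · exact fun h => absurd (Finset.mem_univ _) h

theorem rightMat_apply (g s t : G) : rightMat g s t = if t = s * g then 1 else 0 := rfl

theorem rightMat_ring (hM : IsPModular p M) (g : G) : MatRing M (rightMat g) := fun s t => by
  rw [rightMat_apply]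
  split_ifs
  · exact ring_one hM
  · exact ring_zero hM

theorem rightMat_comm (g : G) (a : MonoidAlgebra ℂ G) :
    rightMat g * leftMat a = leftMat a * rightMat g := by
  ext s t
  rw [Matrix.mul_apply, Matrix.mul_apply, Finset.sum_eq_single (s * g),
    Finset.sum_eq_single (t * g⁻¹)]
  · simp [rightMat_apply, leftMat_apply, mul_assoc]
  · intro y _ hy
    have : t ≠ y * g := fun h => hy (by rw [h, mul_inv_cancel_right])
    simp [rightMat_apply, this]
  · exact fun h => absurd (Finset.mem_univ _) h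
  · intro y _ hy; simp [rightMat_apply, hy]
  · exact fun h => absurd (Finset.mem_univ _) h

theorem trace_left_right (g : G) (a : MonoidAlgebra ℂ G) :
    (leftMat a * rightMat g).trace = ctr g a := by
  rw [Matrix.trace, ctr]
  refine Finset.sum_congr rfl fun s _ => ?_
  rw [Matrix.diag_apply, Matrix.mul_apply, Finset.sum_eq_single (s * g⁻¹)]
  · simp [rightMat_apply, leftMat_apply, mul_assoc]
  · intro y _ hy
    have : s ≠ y * g := fun h => hy (by rw [h, mul_inv_cancel_right])
    simp [rightMat_apply, this]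
  · exact fun h => absurd (Finset.mem_univ _) h

/-- One in `p` consecutive residues. -/
theorem sum_range_dvd [Fact p.Prime] (a : ℤ) :
    ∑ i ∈ Finset.range p, (if (p : ℤ) ∣ a + i then (1 : ℂ) else 0) = 1 := by
  have hp : (0 : ℤ) < p := by exact_mod_cast (Fact.out : p.Prime).pos
  rw [Finset.sum_eq_single ((-a % (p : ℤ)).toNat), if_pos]
  · rw [Int.toNat_of_nonneg (Int.emod_nonneg _ hp.ne'), Int.emod_def]
    exact ⟨-(-a / p), by ring⟩
  · intro i hi hne
    refine if_neg fun hd => hne ?_
    have h5 : (i : ℤ) % (p : ℤ) = -a % (p : ℤ) := by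
      refine (Int.emod_eq_emod_iff_emod_sub_eq_zero.2 (Int.emod_eq_zero_of_dvd ?_))
      rwa [sub_neg_eq_add, add_comm]
    rw [Int.emod_eq_of_lt (Int.natCast_nonneg i)
      (by exact_mod_cast Finset.mem_range.1 hi)] at h5
    rw [← h5]
    simp
  · intro hn
    refine absurd (Finset.mem_range.2 ?_) hn
    have h6 := Int.emod_lt_of_pos (-a) hp
    omega

theorem exists_weight_right [Fact p.Prime] (hM : IsPModular p M) {g : G} (hg : p ∣ orderOf g) :
    ∃ π : G → ℂ, (∀ s, MemLocalRing M (π s)) ∧ (∀ s, π (s * g ^ p) = π s) ∧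
      ∀ s, ∑ i ∈ Finset.range p, π (s * g ^ i) = 1 := by
  classical
  let r : G → G := fun s => (QuotientGroup.mk s : G ⧸ Subgroup.zpowers g).out
  have hr : ∀ s : G, ∀ n : ℤ, r (s * g ^ n) = r s := fun s n => by
    simp only [r]
    rw [QuotientGroup.mk_mul_of_mem s (Subgroup.zpow_mem _ (Subgroup.mem_zpowers g) n)]
  have hr' : ∀ s : G, ∃ n : ℤ, (r s)⁻¹ * s = g ^ n := fun s => by
    obtain ⟨n, hn⟩ := Subgroup.mem_zpowers_iff.1
      (QuotientGroup.eq.1 (QuotientGroup.out_eq' (QuotientGroup.mk s : G ⧸ Subgroup.zpowers g)))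
    exact ⟨n, hn.symm⟩
  let π : G → ℂ := fun s => if ∃ l : ℤ, (r s)⁻¹ * s = g ^ ((p : ℤ) * l) then 1 else 0
  refine ⟨π, fun s => ?_, fun s => ?_, fun s => ?_⟩
  · simp only [π]
    split_ifs
    · exact ring_one hM
    · exact ring_zero hM
  · simp only [π]
    rw [← zpow_natCast g p, hr]
    refine if_congr ⟨fun ⟨l, hl⟩ => ⟨l - 1, ?_⟩, fun ⟨l, hl⟩ => ⟨l + 1, ?_⟩⟩ rfl rfl
    · rw [mul_sub, mul_one, zpow_sub, ← hl]; group
    · rw [mul_add, mul_one, zpow_add, ← hl]; group
  · obtain ⟨n, hn⟩ := hr' s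
    rw [← sum_range_dvd (p := p) n]
    refine Finset.sum_congr rfl fun i _ => ?_
    simp only [π]
    rw [← zpow_natCast g i, hr, ← mul_assoc, hn, ← zpow_add]
    refine if_congr ⟨fun ⟨l, hl⟩ => ?_, fun ⟨l, hl⟩ => ⟨l, by rw [hl]⟩⟩ rfl rfl
    have h1 : ((orderOf g : ℕ) : ℤ) ∣ n + i - (p : ℤ) * l :=
      orderOf_dvd_iff_zpow_eq_one.2 (by rw [zpow_sub, hl, mul_inv_cancel])
    have h2 := (Int.natCast_dvd_natCast.2 hg).trans h1
    have h3 := dvd_add h2 (dvd_mul_right (p : ℤ) l)
    rwa [sub_add_cancel] at h3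

/-- An idempotent has no character on singular classes. -/
theorem ctr_eq_zero_of_singular [Fact p.Prime] (hM : IsPModular p M) {j : MonoidAlgebra ℂ G}
    (hj : AlgRing M j) (hjj : j * j = j) {g : G} (hg : p ∣ orderOf g) : ctr g j = 0 := by
  obtain ⟨π, hπr, hπp, hπs⟩ := exists_weight_right hM hg
  set D : Matrix G G ℂ := Matrix.diagonal π with hD
  have hDring : MatRing M D := fun s t => by
    rw [hD, Matrix.diagonal_apply]
    split_ifs
    · exact hπr s
    · exact ring_zero hM
  have hRD : ∀ h : G, rightMat h * D = Matrix.diagonal (fun s => π (s * h)) * rightMat h := by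
    intro h
    ext s t
    simp only [hD, Matrix.mul_diagonal, Matrix.diagonal_mul, rightMat_apply]
    split_ifs with ht
    · rw [ht, mul_comm]
    · simp
  have hDp : rightMat (g ^ p) * D = D * rightMat (g ^ p) := by
    rw [hRD, hD]
    congr 2
    exact funext hπp
  have key := trace_eq_zero_of_relTrace hM (S := rightMat g) (T := rightMat g⁻¹)
    (E := leftMat j * D) (O := 1) (P := leftMat j) (rightMat_ring hM g) (rightMat_ring hM g⁻¹)
    (hj.matRing.mul hM hDring) hj.matRing
    (by rw [← map_mul, mul_inv_cancel, map_one]) (by rw [← map_mul, inv_mul_cancel, map_one])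
    (by
      rw [← map_pow, mul_assoc, ← hDp, ← mul_assoc, ← mul_assoc, rightMat_comm])
    (by rw [one_mul, mul_one]) (by rw [one_mul, mul_one]) (by rw [← map_mul, hjj])
    (by
      have h1 : ∀ i : ℕ, rightMat g ^ i * (leftMat j * D) * rightMat g⁻¹ ^ i =
          leftMat j * Matrix.diagonal (fun s => π (s * g ^ i)) := fun i => by
        rw [← map_pow, ← map_pow, ← mul_assoc, rightMat_comm, mul_assoc (leftMat j), hRD,
          mul_assoc (leftMat j), mul_assoc (Matrix.diagonal _), ← map_mul, inv_pow, mul_inv_cancel,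
          map_one, mul_one]
      rw [Finset.sum_congr rfl fun i _ => h1 i, ← Finset.mul_sum]
      conv_lhs => rw [← mul_one (leftMat j), ← Matrix.diagonal_one]
      congr 1
      ext s t
      rw [Matrix.sum_apply]
      simp only [Matrix.diagonal_apply]
      by_cases hst : s = t
      · simp only [if_pos hst, hπs]
      · simp [if_neg hst])
  rwa [mul_one, rightMat_comm, trace_left_right] at key

/-- The character of an idempotent only sees the regular classes. -/
theorem ev_idem_eq_zero [Fact p.Prime] (hM : IsPModular p M) {j : MonoidAlgebra ℂ G}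
    (hj : AlgRing M j) (hjj : j * j = j) {f : G → ℂ} (hf : IsClassFunction G f)
    (h : ∀ g, ¬ p ∣ orderOf g → f g = 0) : ev f j = 0 := by
  have h1 := ev_eq_ctr hf j
  rw [Finset.sum_eq_zero fun g _ => ?_] at h1
  · exact (mul_eq_zero.1 h1).resolve_left (Nat.cast_ne_zero.2 Nat.card_pos.ne')
  · by_cases hg : p ∣ orderOf g
    · rw [ctr_eq_zero_of_singular hM hj hjj hg, mul_zero]
    · rw [h g hg, zero_mul]

/-- The kernel of the Brauer map at `z`, among the elements commuting with `z`. -/
def BrKer (M : Ideal AlgInt) (z : G) (a : MonoidAlgebra ℂ G) : Prop :=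
  AlgRing M a ∧ Commute (sgl z) a ∧ ∀ x, Commute z x → MemLocalIdeal M (a.coeff x)

theorem coeff_conj (z : G) (a : MonoidAlgebra ℂ G) (x : G) :
    (sgl z * a * sgl z⁻¹).coeff x = a.coeff (z⁻¹ * x * z) := by
  simp only [MonoidAlgebra.coeff_mul_single_apply, MonoidAlgebra.coeff_single_mul_apply, inv_inv,
    one_mul, mul_one, mul_assoc]

theorem commute_single_iff {z : G} {a : MonoidAlgebra ℂ G} :
    Commute (sgl z) a ↔ ∀ x, a.coeff (z⁻¹ * x * z) = a.coeff x := by
  constructor
  · intro h x
    rw [← coeff_conj, h.eq, mul_assoc, MonoidAlgebra.single_mul_single, mul_inv_cancel, mul_one,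
      ← MonoidAlgebra.one_def, mul_one]
  · intro h
    have h1 : sgl z * a * sgl z⁻¹ = a := by
      ext x
      exact (coeff_conj z a x).trans (h x)
    show sgl z * a = a * sgl z
    conv_rhs => rw [← h1]
    simp only [mul_assoc, MonoidAlgebra.single_mul_single, inv_mul_cancel, mul_one,
      ← MonoidAlgebra.one_def]

/-- The relative trace from the `p`-th powers of `z`. -/
noncomputable def relTr (p : ℕ) (z : G) (d : MonoidAlgebra ℂ G) : MonoidAlgebra ℂ G :=
  ∑ i ∈ Finset.range p, sgl (z ^ i) * d * sgl ((z ^ i)⁻¹)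

theorem commute_sgl_pow {z : G} {a : MonoidAlgebra ℂ G} (h : Commute (sgl z) a) (i : ℕ) :
    Commute (sgl (z ^ i)) a := by
  have h1 := h.pow_left i
  rwa [show (sgl z) ^ i = sgl (z ^ i) by
    simp only [MonoidAlgebra.single_pow, one_pow]] at h1

theorem commute_sgl_inv {z : G} {a : MonoidAlgebra ℂ G} (h : Commute (sgl z) a) :
    Commute (sgl z⁻¹) a := by
  show sgl z⁻¹ * a = a * sgl z⁻¹
  calc sgl z⁻¹ * a = sgl z⁻¹ * a * (sgl z * sgl z⁻¹) := by
        simp [MonoidAlgebra.single_mul_single, ← MonoidAlgebra.one_def]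
    _ = sgl z⁻¹ * (sgl z * a) * sgl z⁻¹ := by rw [h.eq]; simp only [mul_assoc]
    _ = _ := by
        rw [← mul_assoc (sgl z⁻¹)]
        simp [MonoidAlgebra.single_mul_single, ← MonoidAlgebra.one_def]

theorem relTr_mul {z : G} (d : MonoidAlgebra ℂ G) {b : MonoidAlgebra ℂ G}
    (hb : Commute (sgl z) b) : relTr p z d * b = relTr p z (d * b) := by
  rw [relTr, relTr, Finset.sum_mul]
  refine Finset.sum_congr rfl fun i _ => ?_
  rw [mul_assoc (sgl (z ^ i) * d), (commute_sgl_inv (commute_sgl_pow hb i)).eq]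
  simp only [mul_assoc]

theorem mul_relTr {z : G} (d : MonoidAlgebra ℂ G) {b : MonoidAlgebra ℂ G}
    (hb : Commute (sgl z) b) : b * relTr p z d = relTr p z (b * d) := by
  rw [relTr, relTr, Finset.mul_sum]
  refine Finset.sum_congr rfl fun i _ => ?_
  rw [← mul_assoc, ← mul_assoc, ← (commute_sgl_pow hb i).eq]
  simp only [mul_assoc]

theorem relTr_coeff_fixed (d : MonoidAlgebra ℂ G) {z x : G} (hx : Commute z x) :
    (relTr p z d).coeff x = (p : ℂ) * d.coeff x := by
  rw [relTr, MonoidAlgebra.coeff_sum, Finsupp.coe_finsetSum, Finset.sum_apply,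
    Finset.sum_congr rfl (g := fun _ => d.coeff x) fun i _ => by
      rw [coeff_conj, mul_assoc, ← (hx.pow_left i).eq, inv_mul_cancel_left],
    Finset.sum_const, Finset.card_range, nsmul_eq_mul]

theorem exists_weight_conj [Fact p.Prime] (hM : IsPModular p M) {z : G} {j : ℕ}
    (hj : orderOf z = p ^ j) :
    ∃ π : G → ℂ, (∀ x, MemLocalRing M (π x)) ∧ (∀ x, π ((z ^ p)⁻¹ * x * z ^ p) = π x) ∧
      ∀ x, ¬ Commute z x → ∑ i ∈ Finset.range p, π ((z ^ i)⁻¹ * x * z ^ i) = 1 := by
  classical
  let conjSetoid : Setoid G :=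
    ⟨fun x y => ∃ a : ℤ, z ^ a * x * z ^ (-a) = y, ⟨fun x => ⟨0, by simp⟩, fun {x y} h => by
      obtain ⟨a, rfl⟩ := h
      exact ⟨-a, by group⟩, fun {x y w} h h' => by
      obtain ⟨a, rfl⟩ := h
      obtain ⟨a', rfl⟩ := h'
      exact ⟨a' + a, by group⟩⟩⟩
  let rep : G → G := fun x => (Quotient.mk conjSetoid x).out
  have hrep : ∀ x, ∃ a : ℤ, z ^ a * rep x * z ^ (-a) = x := fun x =>
    Quotient.exact (s := conjSetoid) (Quotient.out_eq (Quotient.mk conjSetoid x))
  have hrep' : ∀ (x : G) (a : ℤ), rep (z ^ a * x * z ^ (-a)) = rep x := fun x a => by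
    show (Quotient.mk conjSetoid _).out = (Quotient.mk conjSetoid x).out
    rw [Quotient.sound (s := conjSetoid) (a := x) (b := z ^ a * x * z ^ (-a)) ⟨a, rfl⟩]
  let T : G → Prop := fun x => ∃ l : ℤ, z ^ ((p : ℤ) * l) * rep x * z ^ (-((p : ℤ) * l)) = x
  refine ⟨fun x => if T x then 1 else 0, fun x => ?_, fun x => ?_, fun x hx => ?_⟩
  · show MemLocalRing M (if T x then 1 else 0)
    split_ifs
    · exact ring_one hM
    · exact ring_zero hM
  · show (if T _ then (1 : ℂ) else 0) = if T _ then 1 else 0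
    refine if_congr ?_ rfl rfl
    rw [show (z ^ p)⁻¹ * x * z ^ p = z ^ (-(p : ℤ)) * x * z ^ (-(-(p : ℤ))) by
      rw [neg_neg, zpow_neg, zpow_natCast]]
    simp only [T, hrep']
    constructor
    · rintro ⟨l, hl⟩
      exact ⟨l + 1, by
        rw [show z ^ ((p : ℤ) * (l + 1)) * rep x * z ^ (-((p : ℤ) * (l + 1))) =
          z ^ (p : ℤ) * (z ^ ((p : ℤ) * l) * rep x * z ^ (-((p : ℤ) * l))) * z ^ (-(p : ℤ)) by
          rw [mul_add, mul_one]; group, hl]
        group⟩
    · rintro ⟨l, hl⟩
      exact ⟨l - 1, by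
        conv_rhs => rw [← hl]
        rw [mul_sub, mul_one]
        group⟩
  · obtain ⟨a, ha⟩ := hrep x
    refine (Finset.sum_congr rfl fun i _ => ?_).trans (sum_range_dvd (p := p) (-a))
    show (if T _ then (1 : ℂ) else 0) = _
    refine if_congr ?_ rfl rfl
    rw [show (z ^ i)⁻¹ * x * z ^ i = z ^ (-(i : ℤ)) * x * z ^ (-(-(i : ℤ))) by
      rw [neg_neg, zpow_neg, zpow_natCast]]
    simp only [T, hrep']
    constructor
    · rintro ⟨l, hl⟩
      have hfix : z ^ ((p : ℤ) * l + i - a) * rep x * z ^ (-((p : ℤ) * l + i - a)) = rep x := by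
        conv at hl => rhs; rw [← ha]
        calc z ^ ((p : ℤ) * l + i - a) * rep x * z ^ (-((p : ℤ) * l + i - a))
            = z ^ (-a) * (z ^ (i : ℤ) * (z ^ ((p : ℤ) * l) * rep x * z ^ (-((p : ℤ) * l))) *
                z ^ (-(i : ℤ))) * z ^ a := by group
          _ = rep x := by rw [hl]; group
      by_contra hnd
      refine hx ?_
      set n := (p : ℤ) * l + i - a with hn
      have hpn : ¬ (p : ℤ) ∣ n := fun h => hnd (by
        rw [show -a + (i : ℤ) = n - (p : ℤ) * l by rw [hn]; ring]
        exact dvd_sub h (dvd_mul_right _ _))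
      have hco : Int.gcd n ((p ^ j : ℕ) : ℤ) = 1 := by
        rw [Int.gcd, Int.natAbs_natCast]
        exact Nat.Coprime.pow_right _ (((Fact.out : p.Prime).coprime_iff_not_dvd).2 fun hd =>
          hpn (Int.natCast_dvd.2 hd)).symm
      have hbez := Int.gcd_eq_gcd_ab n ((p ^ j : ℕ) : ℤ)
      rw [hco] at hbez
      have hz : z = (z ^ n) ^ Int.gcdA n ((p ^ j : ℕ) : ℤ) := by
        conv_lhs => rw [← zpow_one z, show (1 : ℤ) = n * Int.gcdA n ((p ^ j : ℕ) : ℤ) +
          ((p ^ j : ℕ) : ℤ) * Int.gcdB n ((p ^ j : ℕ) : ℤ) by exact_mod_cast hbez]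
        rw [zpow_add, zpow_mul, zpow_mul z ((p ^ j : ℕ) : ℤ), zpow_natCast, ← hj,
          pow_orderOf_eq_one, one_zpow, mul_one]
      have hc1 : Commute (z ^ n) (rep x) := by
        have := congrArg (· * z ^ n) hfix
        simpa [mul_assoc, Commute, SemiconjBy] using this
      have hc2 : Commute z (rep x) := by rw [hz]; exact hc1.zpow_left _
      have hc3 := hc2.zpow_left a
      show Commute z x
      rwa [← ha, hc3.eq, mul_assoc, ← zpow_add, add_neg_cancel, zpow_zero, mul_one]
    · rintro ⟨l, hl⟩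
      refine ⟨-l, ?_⟩
      conv_rhs => rw [← ha]
      rw [show (p : ℤ) * -l = a - i by linear_combination hl]
      group

/-- An element of the kernel of the Brauer map is a relative trace modulo the maximal ideal. -/
theorem exists_relTr_of_brKer [Fact p.Prime] (hM : IsPModular p M) {z : G} {j : ℕ}
    (hj : orderOf z = p ^ j) {a : MonoidAlgebra ℂ G} (ha : BrKer M z a) :
    ∃ d c : MonoidAlgebra ℂ G, AlgRing M d ∧ Commute (sgl (z ^ p)) d ∧ AlgIdeal M c ∧
      Commute (sgl z) c ∧ a = relTr p z d + c := by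
  classical
  obtain ⟨π, hπr, hπp, hπs⟩ := exists_weight_conj hM hj
  obtain ⟨har, haz, hai⟩ := ha
  have hinv := commute_single_iff.1 haz
  refine ⟨algOf (MonoidHom.id G) (fun x => if Commute z x then 0 else π x * a.coeff x),
    algOf (MonoidHom.id G) (fun x => if Commute z x then a.coeff x else 0), ?_, ?_, ?_, ?_, ?_⟩
  · refine AlgRing.algOf hM _ fun x => ?_
    split_ifs
    · exact ring_zero hM
    · exact ring_mul hM (hπr x) (har x)
  · refine commute_single_iff.2 fun x => ?_
    rw [algOf_coeff_id, algOf_coeff_id]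
    refine if_congr ?_ rfl ?_
    · refine ⟨fun h => ?_, fun h => ?_⟩
      · have := ((Commute.refl z).pow_right p).mul_right
          (h.mul_right ((Commute.refl z).pow_right p).inv_right)
        simpa [mul_assoc] using this
      · exact ((((Commute.refl z).pow_right p).inv_right).mul_right h).mul_right
          ((Commute.refl z).pow_right p)
    · rw [hπp, commute_single_iff.1 (commute_sgl_pow haz p) x]
  · intro x
    rw [algOf_coeff_id]
    split_ifs with h
    · exact hai x h
    · exact ideal_zero hM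
  · refine commute_single_iff.2 fun x => ?_
    rw [algOf_coeff_id, algOf_coeff_id]
    refine if_congr ?_ (hinv x) rfl
    refine ⟨fun h => ?_, fun h => ?_⟩
    · have := (Commute.refl z).mul_right (h.mul_right (Commute.refl z).inv_right)
      simpa [mul_assoc] using this
    · exact ((Commute.refl z).inv_right.mul_right h).mul_right (Commute.refl z)
  · ext x
    rw [MonoidAlgebra.coeff_add, Finsupp.add_apply, algOf_coeff_id]
    by_cases hx : Commute z x
    · rw [if_pos hx, relTr_coeff_fixed _ hx, algOf_coeff_id, if_pos hx, mul_zero, zero_add]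
    · rw [if_neg hx, add_zero, relTr, MonoidAlgebra.coeff_sum, Finsupp.coe_finsetSum,
        Finset.sum_apply, Finset.sum_congr rfl (g := fun i => π ((z ^ i)⁻¹ * x * z ^ i) * a.coeff x)
          fun i _ => ?_, ← Finset.sum_mul, hπs x hx, one_mul]
      rw [coeff_conj, algOf_coeff_id, if_neg, commute_single_iff.1 (commute_sgl_pow haz i) x]
      intro h
      refine hx ?_
      have := ((Commute.refl z).pow_right i).mul_right
        (h.mul_right ((Commute.refl z).pow_right i).inv_right)
      simpa [mul_assoc] using this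

theorem brKer_of_relTr (hM : IsPModular p M) {z : G} {d c : MonoidAlgebra ℂ G}
    (hd : AlgRing M d) (hc : AlgIdeal M c) (hz : Commute (sgl z) (relTr p z d + c)) :
    BrKer M z (relTr p z d + c) := by
  refine ⟨AlgRing.add hM (AlgRing.sum hM fun i _ =>
    ((AlgRing.single hM _).mul hM hd).mul hM (AlgRing.single hM _)) hc.ring, hz, fun x hx => ?_⟩
  rw [MonoidAlgebra.coeff_add, Finsupp.add_apply, relTr_coeff_fixed _ hx]
  exact ideal_add hM (ideal_mul_right hM (ideal_p hM) (hd x)) (hc x)

theorem BrKer.mul [Fact p.Prime] (hM : IsPModular p M) {z : G} {j : ℕ} (hj : orderOf z = p ^ j)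
    {a b : MonoidAlgebra ℂ G} (ha : BrKer M z a) (hb : AlgRing M b) (hbz : Commute (sgl z) b) :
    BrKer M z (a * b) := by
  obtain ⟨d, c, hd, -, hc, -, e⟩ := exists_relTr_of_brKer hM hj ha
  have h1 : a * b = relTr p z (d * b) + c * b := by rw [e, add_mul, relTr_mul d hbz]
  rw [h1]
  refine brKer_of_relTr hM (hd.mul hM hb) (AlgIdeal.mul_right hM hc hb) ?_
  rw [← h1]
  exact ha.2.1.mul_right hbz

theorem BrKer.add (hM : IsPModular p M) {z : G} {a b : MonoidAlgebra ℂ G} (ha : BrKer M z a)
    (hb : BrKer M z b) : BrKer M z (a + b) :=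
  ⟨AlgRing.add hM ha.1 hb.1, ha.2.1.add_right hb.2.1, fun x hx => by
    rw [MonoidAlgebra.coeff_add, Finsupp.add_apply]
    exact ideal_add hM (ha.2.2 x hx) (hb.2.2 x hx)⟩

theorem brKer_of_ideal {z : G} {a : MonoidAlgebra ℂ G} (ha : AlgIdeal M a)
    (hz : Commute (sgl z) a) : BrKer M z a := ⟨ha.ring, hz, fun x _ => ha x⟩

theorem BrKer.neg {z : G} {a : MonoidAlgebra ℂ G} (ha : BrKer M z a) : BrKer M z (-a) :=
  ⟨ha.1.neg, ha.2.1.neg_right, fun x hx => by
    rw [MonoidAlgebra.coeff_neg, Finsupp.neg_apply]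
    exact ideal_neg (ha.2.2 x hx)⟩

theorem pow_sub_ideal (hM : IsPModular p M) {q w : MonoidAlgebra ℂ G} (hq : AlgRing M q)
    (hqq : q * q = q) (hw : AlgRing M w) (h : AlgIdeal M (w - q)) :
    ∀ n : ℕ, AlgIdeal M (q * w ^ n - q)
  | 0 => by rw [pow_zero, mul_one, sub_self]; exact AlgIdeal.zero hM
  | n + 1 => by
    rw [show q * w ^ (n + 1) - q = (q * w ^ n - q) * w + q * (w - q) by
      rw [pow_succ, sub_mul, mul_sub, hqq, mul_assoc]; abel]
    exact (AlgIdeal.mul_right hM (pow_sub_ideal hM hq hqq hw h n) hw).add hM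
      (AlgIdeal.mul_left hM hq h)

/-- An idempotent in the kernel of the Brauer map at `z` is killed by `z`. -/
theorem ev_kill [Fact p.Prime] (hM : IsPModular p M) {z : G} {j : ℕ} (hj : orderOf z = p ^ j)
    {q : MonoidAlgebra ℂ G} (hq : BrKer M z q) (hqq : q * q = q) {f : G → ℂ}
    (hf : IsClassFunction G f) : ev f (sgl z * q) = 0 := by
  obtain ⟨hqr, hqz, -⟩ := id hq
  obtain ⟨d, c, hd, hdp, hc, hcz, e⟩ := exists_relTr_of_brKer hM hj hq
  set w := q * relTr p z d * q with hw
  have hwq : w = q - q * c * q := by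
    rw [hw, show relTr p z d = q - c from eq_sub_of_add_eq e.symm, mul_sub, sub_mul, hqq, hqq]
  have hcq : AlgIdeal M (q * c * q) := AlgIdeal.mul_right hM (AlgIdeal.mul_left hM hqr hc) hqr
  have hwr : AlgRing M w := by rw [hwq]; exact AlgRing.sub hM hqr hcq.ring
  obtain ⟨δ, y, hδ, hy, hδδ, hcomm, hxy, N, hN⟩ := exists_spectral hM hwr
  have hqw : q * w = w := by rw [hw, ← mul_assoc, ← mul_assoc, hqq]
  have hwq' : w * q = w := by rw [hw, mul_assoc _ q q, hqq]
  have hwqc : Commute w q := hwq'.trans hqw.symm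
  have hwz : Commute w (sgl z) := by
    rw [hwq]
    exact (hqz.sub_right ((hqz.mul_right hcz).mul_right hqz)).symm
  obtain ⟨hδq, hyq⟩ := hcomm q hwqc
  obtain ⟨-, hyz⟩ := hcomm _ hwz
  have h1δ : AlgRing M (1 - δ) := AlgRing.sub hM (AlgRing.one hM) hδ
  have hq0 : q * (1 - δ) = 0 := by
    refine idem_eq_zero hM ?_ ?_
    · have h1 := AlgIdeal.mul_right hM (pow_sub_ideal hM hqr hqq hwr (by
        rw [hwq, sub_sub_cancel_left]; exact hcq.neg) N) h1δ
      have h2 := (AlgIdeal.mul_left hM hqr hN).sub hM h1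
      convert h2 using 1
      rw [sub_mul, mul_assoc]
      abel
    · calc q * (1 - δ) * (q * (1 - δ)) = q * ((1 - δ) * q) * (1 - δ) := by simp only [mul_assoc]
        _ = q * (q * (1 - δ)) * (1 - δ) := by rw [((Commute.one_left q).sub_left hδq).eq]
        _ = q * q * ((1 - δ) * (1 - δ)) := by simp only [mul_assoc]
        _ = _ := by rw [hqq, one_sub_idem hδδ]
  have hqδ : q * δ = q := by rwa [mul_sub, mul_one, sub_eq_zero, eq_comm] at hq0
  have hfix : q = relTr p z (q * d * (q * y * q)) := by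
    have h1 : w * y * q = q := by
      calc w * y * q = w * y * (δ * q) := by rw [hδq.eq, hqδ]
        _ = δ * q := by rw [← mul_assoc, hxy]
        _ = q := by rw [hδq.eq, hqδ]
    conv_lhs => rw [← h1, hw]
    rw [← relTr_mul _ ((hqz.mul_right hyz.symm).mul_right hqz), ← mul_relTr _ hqz]
    simp only [mul_assoc]
  have hEp : Commute (sgl (z ^ p)) (q * d * (q * y * q)) :=
    ((commute_sgl_pow hqz p).mul_right hdp).mul_right
      (((commute_sgl_pow hqz p).mul_right (commute_sgl_pow hyz.symm p)).mul_right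
        (commute_sgl_pow hqz p))
  set E := q * d * (q * y * q) with hE
  refine ev_eq_zero_of_ctr hf fun g => ?_
  have hpow : ∀ (x : G) (i : ℕ), leftMat (sgl x) ^ i = leftMat (sgl (x ^ i)) := fun x i => by
    rw [← map_pow]
    simp only [MonoidAlgebra.single_pow, one_pow]
  have hinv : leftMat (sgl z) * leftMat (sgl z⁻¹) = 1 := by
    rw [← map_mul]; simp [MonoidAlgebra.single_mul_single, ← MonoidAlgebra.one_def]
  have hinv' : leftMat (sgl z⁻¹) * leftMat (sgl z) = 1 := by
    rw [← map_mul]; simp [MonoidAlgebra.single_mul_single, ← MonoidAlgebra.one_def]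
  have htr := trace_eq_zero_of_relTrace hM (S := leftMat (sgl z)) (T := leftMat (sgl z⁻¹))
    (E := leftMat E) (O := rightMat g) (P := leftMat q) (AlgRing.single hM z).matRing
    (AlgRing.single hM z⁻¹).matRing
    ((hqr.mul hM hd).mul hM ((hqr.mul hM hy).mul hM hqr)).matRing hqr.matRing hinv hinv'
    (by rw [hpow, ← map_mul, ← map_mul, hEp.eq]) (rightMat_comm g _) (rightMat_comm g _)
    (by rw [← map_mul, hqq])
    (by
      conv_lhs => rw [hfix, relTr, map_sum]
      exact Finset.sum_congr rfl fun i _ => by rw [hpow, hpow, map_mul, map_mul, inv_pow])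
  rwa [mul_assoc, rightMat_comm, ← mul_assoc, ← map_mul, trace_left_right] at htr

set_option maxHeartbeats 400000 in
/-- Idempotents with the same Brauer image at `z` have the same trace against `z`. -/
theorem ev_congr [Fact p.Prime] (hM : IsPModular p M) {z : G} {j : ℕ} (hj : orderOf z = p ^ j)
    {a b : MonoidAlgebra ℂ G} (har : AlgRing M a) (hbr : AlgRing M b) (haa : a * a = a)
    (hbb : b * b = b) (haz : Commute (sgl z) a) (hbz : Commute (sgl z) b)
    (hab : ∀ x, Commute z x → MemLocalIdeal M (a.coeff x - b.coeff x)) {f : G → ℂ}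
    (hf : IsClassFunction G f) : ev f (sgl z * a) = ev f (sgl z * b) := by
  set W := a * b + (1 - a) * (1 - b) with hW
  set W' := b * a + (1 - b) * (1 - a) with hW'
  set D := 1 - (a - b) * (a - b) with hD
  have hA0 : a * (1 - a) = 0 := by rw [mul_sub, mul_one, haa, sub_self]
  have hA1 : (1 - a) * a = 0 := by rw [sub_mul, one_mul, haa, sub_self]
  have hB0 : b * (1 - b) = 0 := by rw [mul_sub, mul_one, hbb, sub_self]
  have hB1 : (1 - b) * b = 0 := by rw [sub_mul, one_mul, hbb, sub_self]
  have hprod : ∀ u v : MonoidAlgebra ℂ G, u * u = u → v * v = v → v * (1 - v) = 0 →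
      (1 - v) * v = 0 → (u * v + (1 - u) * (1 - v)) * (v * u + (1 - v) * (1 - u)) =
        1 - (u - v) * (u - v) := by
    intro u v hu hv h0 h1
    calc (u * v + (1 - u) * (1 - v)) * (v * u + (1 - v) * (1 - u))
        = u * (v * v) * u + u * (v * (1 - v)) * (1 - u) + (1 - u) * ((1 - v) * v) * u +
            (1 - u) * ((1 - v) * (1 - v)) * (1 - u) := by noncomm_ring
      _ = u * v * u + (1 - u) * (1 - v) * (1 - u) := by
          rw [hv, h0, h1, one_sub_idem hv]
          simp
      _ = 1 + u * u - u - u - v + v * u + u * v := by noncomm_ring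
      _ = 1 - (u * u - u * v - v * u + v * v) := by rw [hu, hv]; abel
      _ = _ := by noncomm_ring
  have hWW' : W * W' = D := hprod a b haa hbb hB0 hB1
  have hW'W : W' * W = D := by
    rw [hprod b a hbb haa hA0 hA1, hD]
    noncomm_ring
  have haW : a * W = W * b := by
    simp only [hW, mul_add, add_mul, ← mul_assoc, haa, hA0, zero_mul, add_zero]
    rw [mul_assoc a b b, hbb, mul_assoc (1 - a) (1 - b) b, hB1, mul_zero, add_zero]
  have hDr : AlgRing M D := AlgRing.sub hM (AlgRing.one hM)
    ((AlgRing.sub hM har hbr).mul hM (AlgRing.sub hM har hbr))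
  obtain ⟨δ, y, hδ, hy, hδδ, hcomm, hxy, N, hN⟩ := exists_spectral hM hDr
  have hza : Commute (sgl z) (1 : MonoidAlgebra ℂ G) := Commute.one_right _
  have hDz : Commute D (sgl z) := by
    rw [hD]
    exact (hza.sub_right ((haz.sub_right hbz).mul_right (haz.sub_right hbz))).symm
  have hDa : Commute D a := by
    show D * a = a * D
    calc D * a = a - (a * a * a - a * b * a - b * (a * a) + b * b * a) := by rw [hD]; noncomm_ring
      _ = a * b * a := by rw [haa, haa, hbb]; abel
      _ = a - (a * a * a - a * a * b - a * b * a + a * (b * b)) := by rw [haa, haa, hbb]; abel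
      _ = a * D := by rw [hD]; noncomm_ring
  have hDb : Commute D b := by
    show D * b = b * D
    calc D * b = b - (a * a * b - a * (b * b) - b * a * b + b * b * b) := by rw [hD]; noncomm_ring
      _ = b * a * b := by rw [haa, hbb, hbb]; abel
      _ = b - (b * (a * a) - b * a * b - b * b * a + b * b * b) := by rw [haa, hbb, hbb]; abel
      _ = b * D := by rw [hD]; noncomm_ring
  have hDW : Commute D W := by
    show D * W = W * D
    conv_lhs => rw [← hWW', mul_assoc, hW'W]
  have hDW' : Commute D W' := by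
    show D * W' = W' * D
    conv_lhs => rw [← hW'W, mul_assoc, hWW']
  have hker : BrKer M z (1 - δ) := by
    have h1 : BrKer M z (1 - D) := by
      rw [hD, sub_sub_cancel]
      exact BrKer.mul hM hj ⟨AlgRing.sub hM har hbr, haz.sub_right hbz, fun x hx => by
        rw [MonoidAlgebra.coeff_sub, Finsupp.sub_apply]; exact hab x hx⟩
        (AlgRing.sub hM har hbr) (haz.sub_right hbz)
    have h2 : BrKer M z (1 - D ^ N) := by
      rw [← geom_sum_mul_neg]
      refine (show Commute (∑ i ∈ Finset.range N, D ^ i) (1 - D) from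
        Commute.sum_left _ _ _ fun i _ =>
          (Commute.one_right (D ^ i)).sub_right ((Commute.refl D).pow_left i)).eq ▸ ?_
      exact BrKer.mul hM hj h1 (AlgRing.sum hM fun i _ => AlgRing.pow hM hDr i)
        (Commute.sum_right _ _ _ fun i _ => (hDz.symm).pow_right i)
    have hδz : Commute (sgl z) (1 - δ) := hza.sub_right ((hcomm _ hDz).1).symm
    have h3 := (BrKer.mul hM hj h2 (AlgRing.sub hM (AlgRing.one hM) hδ) hδz).add hM
      (brKer_of_ideal hN ((hDz.symm.pow_right N).mul_right hδz))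
    convert h3 using 1
    noncomm_ring
  have hzero : ∀ c : MonoidAlgebra ℂ G, AlgRing M c → c * c = c → Commute (sgl z) c →
      Commute D c → ev f (sgl z * c) = ev f (sgl z * (c * δ)) := by
    intro c hc hcc hcz hDc
    have hδc := (hcomm c hDc).1
    have h1 : ev f (sgl z * ((1 - δ) * c)) = 0 := by
      refine ev_kill hM hj (BrKer.mul hM hj hker hc hcz) ?_ hf
      calc (1 - δ) * c * ((1 - δ) * c) = (1 - δ) * (c * (1 - δ)) * c := by simp only [mul_assoc]
        _ = (1 - δ) * ((1 - δ) * c) * c := by rw [← ((Commute.one_left c).sub_left hδc).eq]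
        _ = (1 - δ) * (1 - δ) * (c * c) := by simp only [mul_assoc]
        _ = _ := by rw [hcc, one_sub_idem hδδ]
    rw [sub_mul, one_mul, mul_sub, ev_sub, sub_eq_zero, hδc.eq] at h1
    exact h1
  rw [hzero a har haa haz hDa, hzero b hbr hbb hbz hDb]
  obtain ⟨hδW, hyW⟩ := hcomm W hDW
  have hzW : Commute (sgl z) W :=
    (haz.mul_right hbz).add_right ((hza.sub_right haz).mul_right (hza.sub_right hbz))
  have h1 : a * δ = W * (b * W' * y * δ) := by
    calc a * δ = a * (D * y * δ) := by rw [hxy]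
      _ = a * W * W' * y * δ := by rw [← hWW']; simp only [mul_assoc]
      _ = _ := by rw [haW]; simp only [mul_assoc]
  have h2 : b * W' * y * δ * W = b * δ := by
    calc b * W' * y * δ * W = b * W' * (y * (δ * W)) := by simp only [mul_assoc]
      _ = b * W' * (y * (W * δ)) := by rw [hδW.eq]
      _ = b * W' * (W * (y * δ)) := by rw [← mul_assoc y, hyW.eq, mul_assoc W]
      _ = b * (W' * W * y * δ) := by simp only [mul_assoc]
      _ = _ := by rw [hW'W, hxy]
  rw [h1, ← mul_assoc (sgl z) W, hzW.eq, mul_assoc W, ev_mul_comm hf, mul_assoc (sgl z), h2]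

end Cfsg.Agent.Char.Spec
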