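import Cfsg.Agent.Lib.Char.BrauerAlg
import Cfsg.Agent.Lib.Char.IdemTrace
import Cfsg.Agent.Lib.Char.PairStab
import Cfsg.Agent.Lib.Char.ModP
import Cfsg.Agent.Lib.Block.Height

/-!
Source idempotents: a primitive idempotent of the fixed points of a defect group whose rank on a
character of height zero is prime to `p`; its Brauer images lie in the pairs below one maximal pair.
-/

open scoped ComplexConjugate

namespace Cfsg.Agent.Char.Spec

open Cfsg.Agent.Block Cfsg.Agent.Char.BP

set_option linter.unusedSectionVars false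
set_option linter.style.haveILetI false

universe u

variable {G : Type u} [Group G] [Fintype G] [DecidableEq G] {p : ℕ} {M : Ideal AlgInt}

theorem ev_smul (f : G → ℂ) (r : ℂ) (a : MonoidAlgebra ℂ G) : ev f (r • a) = r * ev f a := by
  simp only [ev, MonoidAlgebra.coeff_smul, Finsupp.smul_apply, smul_eq_mul, Finset.mul_sum,
    mul_assoc]

theorem ev_zero (f : G → ℂ) : ev f (0 : MonoidAlgebra ℂ G) = 0 := by simp [ev]

theorem ev_sum {ι : Type*} (f : G → ℂ) (s : Finset ι) (a : ι → MonoidAlgebra ℂ G) :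
    ev f (∑ i ∈ s, a i) = ∑ i ∈ s, ev f (a i) := by
  simp only [ev, MonoidAlgebra.coeff_sum, Finsupp.coe_finsetSum, Finset.sum_apply, Finset.sum_mul]
  rw [Finset.sum_comm]

theorem ev_single (f : G → ℂ) (g : G) (r : ℂ) : ev f (MonoidAlgebra.single g r) = r * f g := by
  simp only [ev, MonoidAlgebra.coeff_single]
  rw [Finset.sum_eq_single g]
  · simp
  · intro b _ hb; simp [Ne.symm hb]
  · exact fun h => absurd (Finset.mem_univ _) h

/-- An idempotent fixed by `P` cuts a character of `P` out of a character of `G`. -/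
theorem isCharacter_cut {χ : G → ℂ} (hχ : IsCharacter G χ) {P : Subgroup G}
    {a : MonoidAlgebra ℂ G} (haa : a * a = a)
    (ha : ∀ u ∈ P, Commute (MonoidAlgebra.single u (1 : ℂ)) a) :
    IsCharacter P (fun u => ev χ (MonoidAlgebra.single (u : G) (1 : ℂ) * a)) := by
  obtain ⟨n, ρ, rfl⟩ := hχ
  have htr : ∀ b, ev ρ.character b = LinearMap.trace ℂ _ (ρ.asAlgebraHom b) := by
    intro b
    induction b using MonoidAlgebra.induction_on with
    | of g =>
      rw [MonoidAlgebra.of_apply, ev_single, one_mul, Representation.asAlgebraHom_single_one]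
      rfl
    | add x y hx hy => rw [ev_add, hx, hy, map_add, map_add]
    | smul r x hx => rw [ev_smul, hx, map_smul, map_smul, smul_eq_mul]
  set E := ρ.asAlgebraHom a with hE
  have hEE : E * E = E := by rw [hE, ← map_mul, haa]
  have hcomm : ∀ u : P, ρ (u : G) * E = E * ρ (u : G) := fun u => by
    rw [hE, ← Representation.asAlgebraHom_single_one ρ (u : G), ← map_mul, ← map_mul,
      (ha u u.2).eq]
  have hfix : ∀ w ∈ LinearMap.range E, E w = w := by
    rintro _ ⟨v, rfl⟩
    exact congrArg (fun T => T v) hEE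
  have hmaps : ∀ u : P, ∀ w ∈ LinearMap.range E, ρ (u : G) w ∈ LinearMap.range E := by
    rintro u _ ⟨v, rfl⟩
    exact ⟨ρ (u : G) v, (congrArg (fun T => T v) (hcomm u)).symm⟩
  let σ : Representation ℂ P (LinearMap.range E) :=
    { toFun := fun u => (ρ (u : G)).restrict (hmaps u)
      map_one' := LinearMap.ext fun w => Subtype.ext (by simp)
      map_mul' := fun u v => LinearMap.ext fun w => Subtype.ext (by simp) }
  convert isCharacter_character σ using 1
  funext u
  rw [htr, map_mul, Representation.asAlgebraHom_single_one, ← hE]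
  show LinearMap.trace ℂ _ (ρ (u : G) * E) = LinearMap.trace ℂ _ (σ u)
  have h1 : ρ (u : G) * E =
      (LinearMap.range E).subtype ∘ₗ (σ u ∘ₗ E.rangeRestrict) := LinearMap.ext fun v => rfl
  rw [h1, LinearMap.trace_comp_comm']
  refine congrArg _ (LinearMap.ext fun w => Subtype.ext ?_)
  show ρ (u : G) (E (w : Fin n → ℂ)) = ρ (u : G) w
  rw [hfix w w.2]

theorem ev_block {B : Set (IrrCharacter G)} {χ : IrrCharacter G} (hχ : χ ∈ B)
    (a : MonoidAlgebra ℂ G) :
    ev (χ : G → ℂ) (algOf (MonoidHom.id G) (blockCoeff B) * a) = ev (χ : G → ℂ) a := by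
  have hid : ∀ h : G, ∑ k : G, blockCoeff B k * (χ : G → ℂ) (k * h) = (χ : G → ℂ) h := by
    intro h
    simp only [blockCoeff_eq]
    rw [Cfsg.Agent.Char.sum_classFun_mul_apply χ.2 (coeffFun_classFun _) h]
    have h1 := omegaFun_coeffFun (blockInd B) χ
    rw [omegaFun, blockInd_of_mem hχ] at h1
    rw [h1, one_mul]
  simp only [ev, coeff_mul_apply, algOf_coeff_id, Finset.sum_mul]
  rw [Finset.sum_comm]
  refine Finset.sum_congr rfl fun h _ => ?_
  rw [← hid h, Finset.mul_sum]
  refine Fintype.sum_equiv (Equiv.mulRight h⁻¹) _ _ fun g => ?_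
  simp only [Equiv.coe_mulRight, inv_mul_cancel_right]
  ring

theorem exists_regular_unit [Fact p.Prime] (hM : IsPModular p M) {B : Set (IrrCharacter G)}
    (hB : IsPBlock M B) {χ : IrrCharacter G} (hχ : χ ∈ B)
    (h0 : blockHeight p B (χ : G → ℂ) = 0) {P : Subgroup G} (hD : IsDefectGroup p M B P) :
    ∃ g ∈ CG P, ¬ p ∣ orderOf g ∧ ¬ MemLocalIdeal M ((χ : G → ℂ) g) := by
  classical
  have hnz := defectGroup_not_brZero hM hB hD
  rw [BrZero] at hnz
  push Not at hnz
  obtain ⟨c, hc, hne⟩ := hnz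
  rw [← blockCoeff_eq] at hne
  have hreg := regular_of_unit hM hB hne
  refine ⟨c⁻¹, inv_mem hc, by rwa [orderOf_inv], fun hid => hne ?_⟩
  obtain ⟨S⟩ : Nonempty (Sylow p G) := inferInstance
  obtain ⟨n, hn⟩ := blockCoeff_mul_index hM hB S
  have hdef : blockDefect p B ≤
      (Nat.card (Subgroup.centralizer ({c⁻¹} : Set G))).factorization p := by
    have hle : P ≤ Subgroup.centralizer ({c⁻¹} : Set G) := fun v hv =>
      Subgroup.mem_centralizer_singleton_iff.2 (Subgroup.mem_centralizer_iff.1 (inv_mem hc) v hv)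
    have h1 := Subgroup.card_dvd_of_le hle
    rw [card_defectGroup hM hB hD] at h1
    exact ((Fact.out : p.Prime).pow_dvd_iff_le_factorization Nat.card_pos.ne').1 h1
  have hideal : MemLocalIdeal M (((S : Subgroup G).index : ℂ) * blockCoeff B c) := by
    rw [hn c hreg, finsum_mem_block]
    refine ideal_sum hM fun η hη => ideal_mul_left hM (ring_natCast hM _) ?_
    have hηB := (Finset.mem_filter.1 hη).2
    refine (ideal_congr hM (value_proportional hM hB hχ hηB hdef)).2 (ideal_mul_left hM ?_ hid)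
    refine ring_natDiv hM (charDeg_pos χ).ne' (charDeg_pos η).ne' ?_
    have := le_defect_add hM hB hηB
    rw [blockHeight_zero_iff hM hB hχ] at h0
    omega
  have h2 := ideal_mul_left hM (ring_inv_natCast hM S.not_dvd_index) hideal
  rwa [← mul_assoc, inv_mul_cancel₀ (Nat.cast_ne_zero.2 Subgroup.index_ne_zero_of_finite),
    one_mul] at h2

/-- Idempotents fixed by `P` splitting a regular element centralizing `P`. -/
theorem exists_eigen_idem [Fact p.Prime] (hM : IsPModular p M) {P : Subgroup G} {g : G}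
    (hg : g ∈ CG P) (hreg : ¬ p ∣ orderOf g) {χ : G → ℂ} (hχ : ¬ MemLocalIdeal M (χ g)) :
    ∃ a, Fx M P a ∧ a * a = a ∧ ¬ MemLocalIdeal M (ev χ a) := by
  set m := orderOf g with hm
  have hm0 : 0 < m := orderOf_pos g
  obtain ⟨ζ, hζ⟩ : ∃ ζ : ℂ, IsPrimitiveRoot ζ m := ⟨_, Complex.isPrimitiveRoot_exp m hm0.ne'⟩
  have hζr : MemLocalRing M ζ :=
    ring_of_integral hM (isIntegral_of_pow_eq_one hm0 hζ.pow_eq_one)
  let y : ℕ → MonoidAlgebra ℂ G := fun k => MonoidAlgebra.single g (ζ ^ k)
  let e : ℕ → MonoidAlgebra ℂ G := fun k => (m : ℂ)⁻¹ • ∑ l ∈ Finset.range m, y k ^ l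
  have hy : ∀ k, y k ^ m = 1 := fun k => by
    simp only [y, MonoidAlgebra.single_pow, hm, pow_orderOf_eq_one]
    rw [← hm, ← pow_mul, mul_comm, pow_mul, hζ.pow_eq_one, one_pow, MonoidAlgebra.one_def]
  have hye : ∀ k, y k * e k = e k := fun k => by
    simp only [e, mul_smul_comm, Finset.mul_sum, ← pow_succ']
    congr 1
    obtain ⟨q, hq⟩ : ∃ q, m = q + 1 := ⟨m - 1, by omega⟩
    rw [hq, Finset.sum_range_succ (fun l => y k ^ (l + 1)), ← hq, hy,
      hq, Finset.sum_range_succ' (fun l => y k ^ l), pow_zero]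
  have hee : ∀ k, e k * e k = e k := fun k => by
    have h1 : ∀ l, y k ^ l * e k = e k := fun l => by
      induction l with
      | zero => rw [pow_zero, one_mul]
      | succ l ih => rw [pow_succ, mul_assoc, hye, ih]
    conv_lhs => arg 1; simp only [e]
    rw [smul_mul_assoc, Finset.sum_mul, Finset.sum_congr rfl fun l _ => h1 l, Finset.sum_const,
      Finset.card_range, ← Nat.cast_smul_eq_nsmul ℂ, smul_smul,
      inv_mul_cancel₀ (Nat.cast_ne_zero.2 hm0.ne'), one_smul]
  have hefx : ∀ k, Fx M P (e k) := fun k => by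
    refine ⟨AlgRing.smul hM (ring_inv_natCast hM hreg) (AlgRing.sum hM fun l _ =>
      AlgRing.pow hM ?_ l), fun u hu => ?_⟩
    · intro x
      simp only [y, MonoidAlgebra.coeff_single, Finsupp.single_apply]
      split_ifs
      · exact ring_pow hM hζr k
      · exact ring_zero hM
    · refine (Commute.sum_right _ _ _ fun l _ => Commute.pow_right ?_ l).smul_right _
      simp only [y, Commute, SemiconjBy, MonoidAlgebra.single_mul_single, mul_comm (ζ ^ k),
        Subgroup.mem_centralizer_iff.1 hg u hu]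
  by_contra hno
  push Not at hno
  refine hχ ?_
  have hsum : ∑ k ∈ Finset.range m, ζ ^ (k * (m - 1)) * ev χ (e k) = χ g := by
    simp only [e, ev_smul, ev_sum, y, MonoidAlgebra.single_pow, ev_single, Finset.mul_sum]
    rw [Finset.sum_comm, Finset.sum_eq_single (1 % m)]
    · have h1 : ∀ k : ℕ, ζ ^ (k * (m - 1)) * ((m : ℂ)⁻¹ * ((ζ ^ k) ^ (1 % m) * χ (g ^ (1 % m)))) =
          (m : ℂ)⁻¹ * χ g := fun k => by
        have hg1 : g ^ (1 % m) = g := by rw [hm, pow_mod_orderOf, pow_one]
        have hz1 : ζ ^ (k * (m - 1)) * (ζ ^ k) ^ (1 % m) = 1 := by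
          rw [← pow_mul, ← pow_add, ← mul_add]
          rcases eq_or_ne m 1 with h | h
          · simp [h]
          · rw [Nat.mod_eq_of_lt (by omega), Nat.sub_add_cancel hm0, mul_comm, pow_mul,
              hζ.pow_eq_one, one_pow]
        rw [hg1]
        linear_combination (m : ℂ)⁻¹ * χ g * hz1
      rw [Finset.sum_congr rfl fun k _ => h1 k, Finset.sum_const, Finset.card_range, nsmul_eq_mul,
        mul_inv_cancel_left₀ (Nat.cast_ne_zero.2 hm0.ne')]
    · intro l hl hne
      have hl' := Finset.mem_range.1 hl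
      set r := m - 1 + l with hr
      have h1 : ζ ^ r ≠ 1 := by
        intro h
        obtain ⟨t, ht⟩ := hζ.dvd_of_pow_eq_one _ h
        refine hne ?_
        rcases t with _ | _ | t
        · simp only [mul_zero] at ht
          have : l = 0 := by omega
          have : m = 1 := by omega
          simp_all
        · simp only [zero_add, mul_one] at ht
          have : l = 1 := by omega
          subst this
          rw [Nat.mod_eq_of_lt hl']
        · have : m * 2 ≤ m * (t + 1 + 1) := Nat.mul_le_mul_left m (by omega)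
          omega
      rw [Finset.sum_congr rfl (g := fun k => (ζ ^ r) ^ k * ((m : ℂ)⁻¹ * χ (g ^ l))) fun k _ => by
        rw [← pow_mul ζ k l, ← pow_mul ζ r k, hr, add_mul, pow_add, mul_comm (m - 1) k, mul_comm l k]
        ring, ← Finset.sum_mul, geom_sum_eq h1, ← pow_mul, mul_comm r m, pow_mul, hζ.pow_eq_one,
        one_pow, sub_self, zero_div, zero_mul]
    · exact fun h => absurd (Finset.mem_range.2 (Nat.mod_lt _ hm0)) h
  rw [← hsum]
  exact ideal_sum hM fun k _ => ideal_mul_left hM (ring_pow hM hζr _) (hno _ (hefx k) (hee k))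

/-- A primitive idempotent of unit rank. -/
theorem exists_prim_unit (hM : IsPModular p M) {P : Subgroup G} {χ : G → ℂ}
    (h : ∃ a, Fx M P a ∧ a * a = a ∧ ¬ MemLocalIdeal M (ev χ a)) :
    ∃ i, Prim M P i ∧ ¬ MemLocalIdeal M (ev χ i) := by
  classical
  let rk : MonoidAlgebra ℂ G → ℕ := fun a =>
    Module.finrank ℂ (LinearMap.range (Matrix.toLin' (leftMat a)))
  have hex : ∃ n a, Fx M P a ∧ a * a = a ∧ ¬ MemLocalIdeal M (ev χ a) ∧ rk a = n :=
    ⟨_, h.choose, h.choose_spec.1, h.choose_spec.2.1, h.choose_spec.2.2, rfl⟩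
  obtain ⟨i, hi, hii, hune, hrk⟩ := Nat.find_spec hex
  refine ⟨i, ⟨hi, hii, fun q hq hqq hiq hqi => ?_⟩, hune⟩
  by_contra hne
  push Not at hne
  have hlt : ∀ r, r * r = r → i * r = r → r * i = r → r ≠ i → rk r < rk i := by
    intro r hrr hir hri hne'
    refine Submodule.finrank_lt_finrank_of_lt (lt_of_le_of_ne ?_ fun he => hne' ?_)
    · rintro _ ⟨v, rfl⟩
      exact ⟨Matrix.toLin' (leftMat r) v, by rw [← LinearMap.comp_apply, ← Matrix.toLin'_mul,
        ← map_mul, hir]⟩
    · refine (hri.symm.trans (leftMat_injective (Matrix.toLin'.injective (LinearMap.ext fun v => ?_))) :)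
      have hv : Matrix.toLin' (leftMat i) v ∈ LinearMap.range (Matrix.toLin' (leftMat r)) :=
        he ▸ ⟨v, rfl⟩
      obtain ⟨w, hw⟩ := hv
      rw [map_mul, Matrix.toLin'_mul, LinearMap.comp_apply, ← hw, ← LinearMap.comp_apply,
        ← Matrix.toLin'_mul, ← map_mul, hrr]
  have hsub : (i - q) * (i - q) = i - q := by
    rw [sub_mul, mul_sub, mul_sub, hii, hiq, hqi, hqq, sub_self, sub_zero]
  have hi' : i * (i - q) = i - q := by rw [mul_sub, hii, hiq]
  have hi'' : (i - q) * i = i - q := by rw [sub_mul, hii, hqi]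
  by_cases hu : MemLocalIdeal M (ev χ q)
  · refine Nat.find_min hex (m := rk (i - q)) ?_ ⟨i - q, hi.sub hM hq, hsub, fun hu' => hune ?_, rfl⟩
    · rw [← hrk]
      exact hlt _ hsub hi' hi'' fun e => hne.1 (by simpa using e)
    · simpa [ev_sub] using ideal_add hM hu' hu
  · refine Nat.find_min hex (m := rk q) ?_ ⟨q, hq, hqq, hu, rfl⟩
    rw [← hrk]
    exact hlt _ hqq hiq hqi hne.2

/-- An idempotent of unit rank has nonzero image at `P`. -/
theorem not_brEq_zero (hM : IsPModular p M) {P : Subgroup G} (hP : IsPGroup p P) {χ : G → ℂ}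
    (hχ : IsCharacter G χ) {i : MonoidAlgebra ℂ G} (hi : Fx M P i)
    (hu : ¬ MemLocalIdeal M (ev χ i)) : ¬ BrEq M P i 0 := by
  classical
  intro h0
  refine hu ?_
  letI : MulAction P G := MulAction.compHom G ((MulAut.conj (G := G)).comp P.subtype)
  have hsmul : ∀ (u : P) (g : G), u • g = (u : G) * g * (u : G)⁻¹ := fun u g => rfl
  have hr : ∀ g, MemLocalRing M (χ g) := fun g => ring_of_integral hM (IsChar.isIntegral hχ g)
  have h := ideal_sum_sub_fixed hM hP (F := fun g => i.coeff g * χ g)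
    (fun g => ring_mul hM (hi.1 g) (hr g)) (fun u g => by
      simp only [hsmul]
      have h1 : i.coeff ((u : G) * g * (u : G)⁻¹) = i.coeff g := (fx_iff.1 hi).2 u u.2 g
      rw [h1, IsChar.classFun hχ g u])
  have h2 : MemLocalIdeal M (∑ᶠ g ∈ MulAction.fixedPoints P G, i.coeff g * χ g) := by
    rw [finsum_mem_eq_sum_of_inter_support_eq _
      (t := Finset.univ.filter (· ∈ MulAction.fixedPoints P G)) (by ext; simp)]
    refine ideal_sum hM fun g hg => ideal_mul_right hM ?_ (hr g)
    have hg' : g ∈ CG P := Subgroup.mem_centralizer_iff.2 fun u hu => by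
      have := (Finset.mem_filter.1 hg).2 ⟨u, hu⟩
      rw [hsmul] at this
      exact mul_inv_eq_iff_eq_mul.1 this
    simpa using h0 g hg'
  simpa [ev] using ideal_add hM h h2

/-- A source idempotent, with its maximal pair. -/
theorem exists_source [Fact p.Prime] (hM : IsPModular p M) {B : Set (IrrCharacter G)}
    (hB : IsPBlock M B) {χ : IrrCharacter G} (hχ : χ ∈ B)
    (h0 : blockHeight p B (χ : G → ℂ) = 0) {P : Subgroup G} (hD : IsDefectGroup p M B P) :
    ∃ (i : MonoidAlgebra ℂ G) (e : Set (IrrCharacter (CG P))), Prim M P i ∧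
      IsMx p M B (⟨P, e⟩ : BrauerPairIdx G) ∧ ¬ MemLocalIdeal M (ev (χ : G → ℂ) i) ∧
      BrEq M P (i * pz (⟨P, e⟩ : BrauerPairIdx G)) i := by
  have hP : IsPGroup p P := IsDefectGroup.isPGroup hD
  have hχc : IsCharacter G (χ : G → ℂ) := irr_isChar χ
  obtain ⟨g, hg, hreg, hgu⟩ := exists_regular_unit hM hB hχ h0 hD
  obtain ⟨i, hi, hu⟩ := exists_prim_unit hM (exists_eigen_idem hM hg hreg (χ := (χ : G → ℂ)) hgu)
  have hne := not_brEq_zero hM hP hχc hi.1 hu
  obtain ⟨e, he, hie⟩ := exists_top_pair hM hP hi hne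
  refine ⟨i, e, hi, max_of_defect hM ?_ hD, hu, hie⟩
  set r : BrauerPairIdx G := ⟨P, e⟩ with hr
  have hpr : IsPr p M r := ⟨hP, he⟩
  refine ofB_of_holds hB hpr ?_
  have hBI := blockCoeff_idem hM hB
  have hinv : ∀ W : Subgroup G, Inv W (blockCoeff B) := inv_of_classFun (blockCoeff_classFun B)
  refine (holds_or hM hpr hBI (hinv _) (hinv _)).resolve_right fun hzero => hne ?_
  set Bz := algOf (MonoidHom.id G) (blockCoeff B) with hBz
  have hBfx : Fx M P Bz := fx_iff.2 ⟨AlgRing.algOf hM _ hBI.1, fun u hu g => by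
    show Bz.coeff _ = Bz.coeff g
    rw [hBz, algOf_coeff_id, algOf_coeff_id]
    exact hinv P u hu g⟩
  have hcen0 : ∀ a : MonoidAlgebra ℂ G, Commute a Bz := fun a => by
    rw [hBz]
    induction a using MonoidAlgebra.induction_on with
    | of g => exact (algOf_comm_single (MonoidHom.id G) (blockCoeff_classFun B) g).symm
    | add a b ha hb => exact ha.add_left hb
    | smul s a ha => exact ha.smul_left s
  have hcen : Commute i Bz := hcen0 i
  have hBB : Bz * Bz = Bz := by rw [hBz, ← algOf_convFun, hBI.2]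
  have hiB : Bz * i = i := by
    refine (hi.2.2 (Bz * i) (hBfx.mul hM hi.1) ?_ ?_ ?_).resolve_left fun h => hu ?_
    · rw [mul_assoc, ← mul_assoc i Bz, hcen.eq, mul_assoc Bz i i, hi.2.1, ← mul_assoc, hBB]
    · rw [← mul_assoc, hcen.eq, mul_assoc, hi.2.1]
    · rw [mul_assoc, hi.2.1]
    · rw [← ev_block hχ i, ← hBz, h, ev_zero]
      exact ideal_zero hM
  have hz : Fx M P (pz r) := pz_fx_self hM hpr
  have h1 : BrEq M P (Bz * pz r) 0 := fun c hc => by
    rw [MonoidAlgebra.coeff_zero, Finsupp.zero_apply, sub_zero, coeff_conv]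
    simp only [hBz, algOf_coeff_id, pz_coeff]
    exact zero_conv hM hpr hBI (hinv _) (hinv _) hzero hc
  refine hie.symm.trans hM ?_
  rw [← hiB, mul_assoc]
  have h2 : BrEq M P (Bz * (i * pz r)) (Bz * (pz r * i)) :=
    BrEq.mul hM hP hBfx hBfx (hi.1.mul hM hz) (hz.mul hM hi.1) (BrEq.refl hM Bz)
      (pz_central hM hpr hi.1)
  refine h2.trans hM ?_
  rw [← mul_assoc]
  exact BrEq.mul_zero_left hM hP (hBfx.mul hM hz) hi.1 h1

theorem commute_one_sub_sq {z : MonoidAlgebra ℂ G} (h : z * z = z) :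
    (1 - z) * (1 - z) = 1 - z := one_sub_idem h

/-- The Brauer images of a source idempotent lie in the pairs below its maximal pair. -/
theorem source_local [Fact p.Prime] (hM : IsPModular p M) {x : BrauerPairIdx G} (hx : IsPr p M x)
    {i : MonoidAlgebra ℂ G} (hi : Prim M x.1 i) (hne : ¬ BrEq M x.1 i 0)
    (htop : BrEq M x.1 (i * pz x) i) :
    ∀ {r : BrauerPairIdx G}, LE p M r x → BrEq M r.1 (i * pz r) i := by
  intro r hr
  induction hn : Nat.card x.1 - Nat.card r.1 using Nat.strong_induction_on generalizing r with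
  | _ n ih =>
    have hle := le_subgroup hr
    rcases hle.eq_or_lt with heq | hlt
    · obtain rfl : r = x := le_unique hM hr Relation.ReflTransGen.refl heq
      exact htop
    have hrp : IsPr p M r := le_isPr hr hx
    set S := x.1 ⊓ Subgroup.normalizer (r.1 : Set G) with hS
    have hRS : r.1 ≤ S := le_inf hle Subgroup.le_normalizer
    have hinvS : Inv S (be r) := inv_iff_le.2 fun v hv =>
      (mem_stab.1 ((big_norm hM hx hr).2.2.1 hv)).2
    set z := pz r with hz
    have hzS : Fx M S z := pz_fx hM hrp hinvS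
    have hz1 : Fx M S (1 - z) := (Fx.one hM).sub hM hzS
    have hiS : Fx M S i := hi.1.mono inf_le_left
    set w := i * (1 - z) * i with hw
    have hwS : Fx M S w := (hiS.mul hM hz1).mul hM hiS
    have hiR := hiS.mono hRS
    have hzR := hzS.mono hRS
    have hz1R := hz1.mono hRS
    have hwR := hwS.mono hRS
    have hcz : BrEq M r.1 ((1 - z) * i) (i * (1 - z)) := by
      rw [sub_mul, one_mul, mul_sub, mul_one]
      exact BrEq.sub hM (BrEq.refl hM i) (pz_central hM hrp hiR).symm
    have hw' : BrEq M r.1 w (i * (1 - z)) := by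
      have h2 := BrEq.mul hM hrp.1 hiR hiR (hz1R.mul hM hiR) (hiR.mul hM hz1R)
        (BrEq.refl hM i) hcz
      rwa [← mul_assoc, ← mul_assoc, hi.2.1] at h2
    have hww : BrEq M r.1 (w * w) w := by
      refine (BrEq.mul hM hrp.1 hwR (hiR.mul hM hz1R) hwR (hiR.mul hM hz1R) hw' hw').trans hM ?_
      have h2 : BrEq M r.1 (i * ((1 - z) * i) * (1 - z)) (i * (i * (1 - z)) * (1 - z)) :=
        BrEq.mul hM hrp.1 (hiR.mul hM (hz1R.mul hM hiR)) (hiR.mul hM (hiR.mul hM hz1R)) hz1R hz1R
          (BrEq.mul hM hrp.1 hiR hiR (hz1R.mul hM hiR) (hiR.mul hM hz1R) (BrEq.refl hM i) hcz)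
          (BrEq.refl hM _)
      rw [← mul_assoc i i, hi.2.1, mul_assoc i (1 - z) (1 - z),
        one_sub_idem (pz_idem hM hrp)] at h2
      refine BrEq.trans hM ?_ hw'.symm
      simpa only [mul_assoc] using h2
    have hvan : ∀ c ∈ CG r.1, x.1 ⊓ Subgroup.centralizer ({c} : Set G) ≠ r.1 →
        MemLocalIdeal M (w.coeff c) := by
      intro c hc hne'
      set T := S ⊓ Subgroup.centralizer ({c} : Set G) with hT
      have hrc : r.1 ≤ x.1 ⊓ Subgroup.centralizer ({c} : Set G) := fun v hv =>
        ⟨hle hv, Subgroup.mem_centralizer_singleton_iff.2 (Subgroup.mem_centralizer_iff.1 hc v hv)⟩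
      have hTgt : r.1 < T := by
        have h1 := exists_normalizer_gt (hx.1.to_le inf_le_left)
          (lt_of_le_of_ne hrc (Ne.symm hne'))
        refine lt_of_lt_of_le h1 fun v hv => ⟨⟨hv.1.1, hv.2⟩, hv.1.2⟩
      obtain ⟨t, ht, hst, htx⟩ := step_below hM hx hr hTgt.le (inf_le_left.trans inf_le_left)
        (inf_le_left.trans inf_le_right)
      have htp : IsPr p M t := le_isPr htx hx
      have hcard := Cfsg.Agent.Fus.card_lt_of_lt hTgt
      rw [← ht] at hcard
      have hcard2 : Nat.card t.1 ≤ Nat.card x.1 := Subgroup.card_le_of_le (le_subgroup htx)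
      have hIH := ih (Nat.card x.1 - Nat.card t.1) (by omega) htx rfl
      have htS : t.1 ≤ S := ht ▸ inf_le_left
      have hiT := hiS.mono htS
      have hzT := hzS.mono htS
      have hz1T := hz1.mono htS
      have hzt := pz_fx_self hM htp
      have h2 : BrEq M t.1 (i * (1 - z)) 0 := by
        have h3 := BrEq.mul hM htp.1 (hiT.mul hM hzt) hiT hz1T hz1T hIH (BrEq.refl hM (1 - z))
        refine h3.symm.trans hM ?_
        rw [mul_assoc]
        have h4 : BrEq M t.1 (pz t * (1 - z)) 0 := by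
          rw [mul_sub, mul_one]
          have h5 := BrEq.sub hM (BrEq.refl hM (R := t.1) (pz t)) (pz_step hM hst)
          rwa [sub_self] at h5
        have h0 : Fx M t.1 (0 : MonoidAlgebra ℂ G) :=
          ⟨AlgRing.zero hM, fun _ _ => Commute.zero_right _⟩
        simpa using BrEq.mul hM htp.1 hiT hiT (hzt.mul hM hz1T) h0 (BrEq.refl hM i) h4
      have h6 : BrEq M t.1 w 0 := BrEq.mul_zero_left hM htp.1 (hiT.mul hM hz1T) hiT h2
      have hcT : c ∈ CG t.1 := Subgroup.mem_centralizer_iff.2 fun v hv => by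
        rw [SetLike.mem_coe, ht] at hv
        exact Subgroup.mem_centralizer_singleton_iff.1 hv.2
      simpa using h6 c hcT
    obtain ⟨D, hD, hD0, hDw⟩ := exists_lift_exact hM hx.1 hlt hwS hvan
    set x₀ := i * D * i with hx₀
    have hx₀f : Fx M x.1 x₀ := (hi.1.mul hM hD).mul hM hi.1
    have hDR := hD.mono hle
    have hx₀w : BrEq M r.1 x₀ w := by
      have h1 := BrEq.mul hM hrp.1 (hiR.mul hM hDR) (hiR.mul hM hwR) hiR hiR
        (BrEq.mul hM hrp.1 hiR hiR hDR hwR (BrEq.refl hM i) hDw) (BrEq.refl hM i)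
      rwa [show i * w * i = w by
        rw [hw]; simp only [← mul_assoc, hi.2.1]; simp only [mul_assoc, hi.2.1]] at h1
    have hx₀0 : BrEq M x.1 x₀ 0 := by
      have h0 : Fx M x.1 (0 : MonoidAlgebra ℂ G) :=
        ⟨AlgRing.zero hM, fun _ _ => Commute.zero_right _⟩
      have h1 := BrEq.mul hM hx.1 (hi.1.mul hM hD) h0 hi.1 hi.1 (by
        simpa using BrEq.mul hM hx.1 hi.1 hi.1 hD h0 (BrEq.refl hM i) hD0) (BrEq.refl hM i)
      simpa using h1
    have hx₀R := hx₀f.mono hle
    have h7 : BrEq M r.1 (x₀ * x₀) x₀ :=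
      ((BrEq.mul hM hrp.1 hx₀R hwR hx₀R hwR hx₀w hx₀w).trans hM hww).trans hM hx₀w.symm
    have h8 := prim_kill hM hx.1 hle hi hne hx₀f (by rw [hx₀, ← mul_assoc, ← mul_assoc, hi.2.1])
      (by rw [hx₀, mul_assoc, hi.2.1]) hx₀0 h7
    have h9 : BrEq M r.1 (i * (1 - z)) 0 := (hw'.symm.trans hM hx₀w.symm).trans hM h8
    intro c hc
    have h10 := h9 c hc
    simp only [mul_sub, mul_one, MonoidAlgebra.coeff_sub, Finsupp.sub_apply,
      MonoidAlgebra.coeff_zero, Finsupp.zero_apply, sub_zero] at h10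
    exact ideal_sub_comm h10

/-- Push an element of the group algebra of a subgroup into that of the group. -/
noncomputable def push (C : Subgroup G) [Fintype C] (a : MonoidAlgebra ℂ C) : MonoidAlgebra ℂ G :=
  algOf C.subtype fun c => a.coeff c

theorem push_mul (C : Subgroup G) [Fintype C] [DecidableEq C] (a b : MonoidAlgebra ℂ C) :
    push C (a * b) = push C a * push C b := by
  rw [push, push, push, ← algOf_convFun]
  congr 1
  exact funext fun c => coeff_conv a b c

theorem push_coeff (C : Subgroup G) [Fintype C] [DecidablePred (· ∈ C)] (a : MonoidAlgebra ℂ C)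
    (c : C) : (push C a).coeff (c : G) = a.coeff c := by
  rw [push, algOf_coeff_subtype, dif_pos c.2]

/-- An idempotent of the centralizer, inside the block of the pair, with a given Brauer image. -/
theorem exists_idem_centralizer [Fact p.Prime] (hM : IsPModular p M) {r : BrauerPairIdx G}
    (hr : IsPr p M r) [Fintype (CG r.1)] [DecidableEq (CG r.1)]
    {i : MonoidAlgebra ℂ G} (hi : Fx M r.1 i) (hii : i * i = i)
    (hloc : BrEq M r.1 (i * pz r) i) :
    ∃ j : MonoidAlgebra ℂ (CG r.1), AlgRing M j ∧ j * j = j ∧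
      algOf (MonoidHom.id (CG r.1)) (blockCoeff r.2) * j = j ∧
      ∀ c : CG r.1, MemLocalIdeal M (j.coeff c - i.coeff c) := by
  classical
  set zC := algOf (MonoidHom.id (CG r.1)) (blockCoeff r.2) with hzC
  set iC := algOf (MonoidHom.id (CG r.1)) (fun c => i.coeff (c : G)) with hiC
  have hzr : AlgRing M zC := AlgRing.algOf hM _ (blockCoeff_ring hM hr.2)
  have hir : AlgRing M iC := AlgRing.algOf hM _ fun c => hi.1 _
  have hzz : zC * zC = zC := by rw [hzC, ← algOf_convFun, convFun_blockCoeff]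
  have hcen : ∀ a, Commute a zC := fun a => by
    induction a using MonoidAlgebra.induction_on with
    | of g => exact (algOf_comm_single (MonoidHom.id (CG r.1)) (blockCoeff_classFun r.2) g).symm
    | add a b ha hb => exact ha.add_left hb
    | smul s a ha => exact ha.smul_left s
  set y := iC * zC with hy
  have hyr : AlgRing M y := hir.mul hM hzr
  have hyi : ∀ c : CG r.1, MemLocalIdeal M (y.coeff c - i.coeff c) := by
    intro c
    have h1 := coeff_mul_centralizer hM hr.1 hi (pz_fx_self hM hr) c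
    have e : y.coeff c =
        convFun (fun h : CG r.1 => i.coeff h) (fun h : CG r.1 => (pz r).coeff h) c := by
      rw [hy, coeff_conv]
      simp only [hiC, hzC, algOf_coeff_id, pz_coeff]
      congr 1
      funext h
      exact (bc_coe _ _ h).symm
    rw [e]
    simpa using ideal_sub hM (hloc c c.2) h1
  have hii' : AlgIdeal M (iC * iC - iC) := by
    intro c
    rw [MonoidAlgebra.coeff_sub, Finsupp.sub_apply, coeff_conv]
    simp only [hiC, algOf_coeff_id]
    have h1 := coeff_mul_centralizer hM hr.1 hi hi c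
    rw [hii] at h1
    exact ideal_sub_comm h1
  have hyy : AlgIdeal M (y * y - y) := by
    have : y * y - y = (iC * iC - iC) * zC := by
      rw [hy, sub_mul, mul_assoc iC zC, ← mul_assoc zC iC, ← (hcen iC).eq, mul_assoc iC zC zC,
        hzz, ← mul_assoc]
    rw [this]
    exact AlgIdeal.mul_right hM hii' hzr
  obtain ⟨δ, t, hδ, ht, hδδ, hcomm, hyt, N, hN⟩ := exists_spectral hM hyr
  have hpow : ∀ n : ℕ, AlgIdeal M (y * y ^ n - y) := by
    intro n
    induction n with
    | zero => rw [pow_zero, mul_one, sub_self]; exact AlgIdeal.zero hM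
    | succ n ih =>
      rw [show y * y ^ (n + 1) - y = (y * y ^ n - y) * y + (y * y - y) by
        rw [pow_succ]; noncomm_ring]
      exact (AlgIdeal.mul_right hM ih hyr).add hM hyy
  have hy1 : AlgIdeal M (y * (1 - δ)) := by
    have h1 := (AlgIdeal.mul_left hM hyr hN).sub hM
      (AlgIdeal.mul_right hM (hpow N) (AlgRing.sub hM (AlgRing.one hM) hδ))
    convert h1 using 1
    noncomm_ring
  have hδy : AlgIdeal M (δ - y) := by
    have h1 : δ - y * δ = -((y * y - y) * (t * δ)) := by
      rw [sub_mul, mul_assoc y y, ← mul_assoc y t δ, hyt]; abel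
    have h2 : δ - y = (δ - y * δ) - y * (1 - δ) := by rw [mul_sub, mul_one]; abel
    rw [h2, h1]
    exact (AlgIdeal.mul_right hM hyy (ht.mul hM hδ)).neg.sub hM hy1
  refine ⟨δ, hδ, hδδ, ?_, fun c => ?_⟩
  · show zC * δ = δ
    conv_rhs => rw [← hyt]
    conv_lhs => rw [← hyt]
    rw [← mul_assoc, ← mul_assoc, hy, ← mul_assoc zC iC, ← (hcen iC).eq, mul_assoc iC zC zC, hzz]
  · have := hδy c
    rw [MonoidAlgebra.coeff_sub, Finsupp.sub_apply] at this
    simpa using ideal_add hM this (hyi c)

/-- Against `u`, a source idempotent may be replaced by an idempotent of the centralizer. -/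
theorem ev_centralizer [Fact p.Prime] (hM : IsPModular p M) {r : BrauerPairIdx G}
    (hr : IsPr p M r) [Fintype (CG r.1)] [DecidableEq (CG r.1)] {u : G}
    (hu : r.1 = Subgroup.zpowers u) {k : ℕ} (hk : orderOf u = p ^ k)
    {i : MonoidAlgebra ℂ G} (hi : Fx M r.1 i) (hii : i * i = i)
    {j : MonoidAlgebra ℂ (CG r.1)} (hj : AlgRing M j) (hjj : j * j = j)
    (hij : ∀ c : CG r.1, MemLocalIdeal M (j.coeff c - i.coeff c))
    {f : G → ℂ} (hf : IsClassFunction G f) :
    ev f (MonoidAlgebra.single u (1 : ℂ) * i) = ∑ c : CG r.1, j.coeff c * f (u * (c : G)) := by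
  classical
  have humem : u ∈ r.1 := hu ▸ Subgroup.mem_zpowers u
  have hcom : Commute (MonoidAlgebra.single u (1 : ℂ)) (push (CG r.1) j) := by
    rw [push, algOf]
    refine Commute.sum_right _ _ _ fun c _ => ?_
    simp only [Commute, SemiconjBy, MonoidAlgebra.single_mul_single, one_mul, mul_one,
      Subgroup.subtype_apply, Subgroup.mem_centralizer_iff.1 c.2 u humem]
  rw [ev_congr hM hk (b := push (CG r.1) j) hi.1 (AlgRing.algOf hM _ fun c => hj c) hii
    (by rw [← push_mul, hjj]) (hi.2 u humem) hcom (fun x hx => ?_) hf]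
  · rw [push, algOf, Finset.mul_sum, ev_sum]
    refine Finset.sum_congr rfl fun c _ => ?_
    rw [MonoidAlgebra.single_mul_single, one_mul, ev_single, Subgroup.subtype_apply]
  · have hxC : x ∈ CG r.1 := by
      rw [hu, Subgroup.mem_centralizer_iff]
      intro w hw
      obtain ⟨n, rfl⟩ := Subgroup.mem_zpowers_iff.1 hw
      exact (hx.zpow_left n).eq
    rw [show (push (CG r.1) j).coeff x = j.coeff ⟨x, hxC⟩ from push_coeff _ j ⟨x, hxC⟩]
    exact ideal_sub_comm (hij ⟨x, hxC⟩)

end Cfsg.Agent.Char.Spec
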