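import Cfsg.Agent.Lib.Char.ResidueAlgebra
import Cfsg.Agent.Lib.Char.SourceIdem
import Cfsg.Agent.Lib.Char.RegularPartGen
import Mathlib.RingTheory.SimpleModule.IsAlgClosed
import Mathlib.RingTheory.SimpleRing.Congr
import Mathlib.Algebra.Algebra.Operations
import Mathlib.RingTheory.Ideal.Quotient.Operations

/-!
Idempotents of a block of regular rank one: their character values are proportional, and a
primitive one whose value at a character of height zero is prime to `p` generates the block algebra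
modulo `p` as an ideal.
-/

namespace Cfsg.Agent.Char.Res

open Cfsg.Agent.Block Cfsg.Agent.Char.Spec Cfsg.Agent.Char.BP

set_option linter.unusedSectionVars false
set_option linter.style.haveILetI false

universe u

variable {G : Type u} [Group G] [Fintype G] [DecidableEq G] {p : ℕ} {M : Ideal AlgInt}
variable {B : Set (IrrCharacter G)}

/-- The block idempotent in the group algebra. -/
noncomputable def bz (B : Set (IrrCharacter G)) : MonoidAlgebra ℂ G :=
  algOf (MonoidHom.id G) (blockCoeff B)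

theorem bz_comm (B : Set (IrrCharacter G)) (a : MonoidAlgebra ℂ G) : Commute a (bz B) := by
  rw [bz]
  induction a using MonoidAlgebra.induction_on with
  | of g => exact (algOf_comm_single (MonoidHom.id G) (blockCoeff_classFun B) g).symm
  | add a b ha hb => exact ha.add_left hb
  | smul s a ha => exact ha.smul_left s

theorem bz_ring (hM : IsPModular p M) (hB : IsPBlock M B) : AlgRing M (bz B) :=
  AlgRing.algOf hM _ (blockCoeff_idem hM hB).1

theorem bz_idem (hM : IsPModular p M) (hB : IsPBlock M B) : bz B * bz B = bz B := by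
  rw [bz, ← algOf_convFun, (blockCoeff_idem hM hB).2]

theorem bz_mul_idem (hM : IsPModular p M) (hB : IsPBlock M B) {a : MonoidAlgebra ℂ G}
    (haa : a * a = a) : bz B * a * (bz B * a) = bz B * a := by
  rw [mul_assoc, ← mul_assoc a, (bz_comm B a).eq, mul_assoc (bz B) a a, haa, ← mul_assoc,
    bz_idem hM hB]

open Classical in
theorem ev_bz (χ : IrrCharacter G) (a : MonoidAlgebra ℂ G) :
    ev (χ : G → ℂ) (bz B * a) = if χ ∈ B then ev (χ : G → ℂ) a else 0 := by
  split_ifs with hχ
  · exact ev_block hχ a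
  have hid : ∀ h : G, ∑ k : G, blockCoeff B k * (χ : G → ℂ) (k * h) = 0 := by
    intro h
    simp only [blockCoeff_eq]
    rw [Cfsg.Agent.Char.sum_classFun_mul_apply χ.2 (coeffFun_classFun _) h]
    have h1 := omegaFun_coeffFun (blockInd B) χ
    rw [omegaFun, blockInd_of_notMem hχ] at h1
    rw [h1, zero_mul]
  simp only [bz, ev, coeff_mul_apply, algOf_coeff_id, Finset.sum_mul]
  rw [Finset.sum_comm]
  refine Finset.sum_eq_zero fun h _ => ?_
  rw [← mul_zero (a.coeff h), ← hid h, Finset.mul_sum]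
  refine Fintype.sum_equiv (Equiv.mulRight h⁻¹) _ _ fun g => ?_
  simp only [Equiv.coe_mulRight, inv_mul_cancel_right]
  ring

theorem ev_idem_nat {χ : G → ℂ} (hχ : IsCharacter G χ) {a : MonoidAlgebra ℂ G} (haa : a * a = a) :
    ∃ n : ℕ, ev χ a = n := by
  have h := isCharacter_cut hχ (P := ⊥) haa fun u hu => by
    rw [Subgroup.mem_bot.1 hu, ← MonoidAlgebra.one_def]
    exact Commute.one_left a
  obtain ⟨n, hn⟩ := IsChar.one_eq_nat h
  refine ⟨n, ?_⟩
  rw [← hn, OneMemClass.coe_one, ← MonoidAlgebra.one_def, one_mul]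

/-- The data of a block of rank one attached to a primitive idempotent. -/
structure IdemData (p : ℕ) (M : Ideal AlgInt) (B : Set (IrrCharacter G)) where
  i : MonoidAlgebra ℂ G
  d : IrrCharacter G → ℕ
  n : ℤ
  prim : Prim M (⊥ : Subgroup G) i
  inBlock : bz B * i = i
  sum_sq : ∑ᶠ χ ∈ B, d χ ^ 2 = p ^ blockDefect p B
  pos : ∀ χ ∈ B, 0 < d χ
  val : ∀ χ ∈ B, ev (χ : G → ℂ) i = (d χ : ℂ) * n
  unit : ¬ (p : ℤ) ∣ n
  scal : ∀ j, AlgRing M j → j * j = j → ∃ m : ℤ, ∀ χ ∈ B, ev (χ : G → ℂ) j = (d χ : ℂ) * m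

theorem fx_bot {a : MonoidAlgebra ℂ G} (ha : AlgRing M a) : Fx M (⊥ : Subgroup G) a :=
  ⟨ha, fun u hu => by rw [Subgroup.mem_bot.1 hu, ← MonoidAlgebra.one_def]; exact Commute.one_left a⟩

theorem exists_idemData [Fact p.Prime] (hM : IsPModular p M) (hB : IsPBlock M B) {D : Subgroup G}
    (hD : IsDefectGroup p M B D) (hl : blockRank p B = 1) : Nonempty (IdemData p M B) := by
  classical
  have hp : p.Prime := Fact.out
  obtain ⟨φ, d, ⟨e, he⟩, hval, hsum⟩ := Contrib.exists_rank_one hM hB hl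
  have hφc : IsClassFunction G φ := by
    intro g t
    rw [he, he]
    exact finsum_congr fun ψ => finsum_congr fun _ => by rw [IsIrr.classFun ψ.2 g t]
  have hscal : ∀ j, AlgRing M j → j * j = j → ∃ m : ℤ, ∀ χ ∈ B,
      ev (χ : G → ℂ) j = (d χ : ℂ) * m := by
    intro j hj hjj
    choose N hN using fun ψ : IrrCharacter G => ev_idem_nat (irr_isChar ψ) hjj
    refine ⟨∑ ψ ∈ Finset.univ.filter (· ∈ B), e ψ * N ψ, fun χ hχ => ?_⟩
    have h0 := ev_idem_eq_zero hM hj hjj (f := (χ : G → ℂ) - (d χ : ℂ) • φ)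
      (classFunction_sub (IsIrr.classFun χ.2) (classFunction_smul _ hφc)) fun g hg => by
        simp [hval χ hχ g hg]
    have h1 : ev φ j = ((∑ ψ ∈ Finset.univ.filter (· ∈ B), e ψ * N ψ : ℤ) : ℂ) := by
      push_cast
      simp only [← hN]
      simp only [ev, he, Finset.mul_sum]
      rw [Finset.sum_comm]
      refine Finset.sum_congr rfl fun g _ => ?_
      rw [finsum_mem_eq_sum_of_inter_support_eq _ (t := Finset.univ.filter (· ∈ B)) (by ext; simp),
        Finset.mul_sum]
      exact Finset.sum_congr rfl fun ψ _ => by ring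
    rw [← h1]
    simp only [ev, Pi.sub_apply, Pi.smul_apply, smul_eq_mul, mul_sub, Finset.sum_sub_distrib,
      sub_eq_zero] at h0 ⊢
    rw [h0, Finset.mul_sum]
    exact Finset.sum_congr rfl fun g _ => by ring
  obtain ⟨χ₀, hχ₀, h0⟩ := exists_height_zero hM hB
  obtain ⟨g, hg, hreg, hgu⟩ := exists_regular_unit hM hB hχ₀ h0 hD
  obtain ⟨a, ha, haa, hau⟩ := exists_eigen_idem hM hg hreg (χ := (χ₀ : G → ℂ)) hgu
  obtain ⟨i, hi, hu⟩ := exists_prim_unit hM (P := (⊥ : Subgroup G)) ⟨a, ha.mono bot_le, haa, hau⟩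
  have hcen := bz_comm B i
  have hiB : bz B * i = i := by
    refine (hi.2.2 (bz B * i) (fx_bot ((bz_ring hM hB).mul hM hi.1.1)) ?_ ?_ ?_).resolve_left
      fun h => hu ?_
    · exact bz_mul_idem hM hB hi.2.1
    · rw [← mul_assoc, hcen.eq, mul_assoc, hi.2.1]
    · rw [mul_assoc, hi.2.1]
    · rw [← ev_block hχ₀ i]
      show MemLocalIdeal M (ev _ (bz B * i))
      rw [h, ev_zero]
      exact ideal_zero hM
  obtain ⟨n, hn⟩ := hscal i hi.1.1 hi.2.1
  refine ⟨{ i := i, d := d, n := n, prim := hi, inBlock := hiB, sum_sq := hsum, val := hn,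
            unit := ?_, scal := hscal, pos := fun χ hχ => Nat.pos_of_ne_zero fun h => ?_ }⟩
  · have h1 := hval χ hχ 1 (by simpa using hp.ne_one)
    rw [h, Nat.cast_zero, zero_mul] at h1
    exact irr_one_ne_zero χ h1
  · intro hdvd
    refine hu ?_
    rw [hn χ₀ hχ₀]
    exact ideal_mul_left hM (ring_natCast hM _) ((ideal_intCast_iff hM _).2 hdvd)

theorem bz_mul_i (I : IdemData p M B) : I.i * bz B = I.i := by
  rw [(bz_comm B I.i).eq, I.inBlock]

/-- A proper ideal of a finite-dimensional algebra over an algebraically closed field lies in the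
kernel of a surjection onto matrices. -/
theorem exists_matrix_hom {K R : Type*} [Field K] [IsAlgClosed K] [Ring R] [Algebra K R]
    [FiniteDimensional K R] (I₀ : Ideal R) [I₀.IsTwoSided] (h : (1 : R) ∉ I₀) :
    ∃ (n : ℕ) (_ : NeZero n) (π : R →ₐ[K] Matrix (Fin n) (Fin n) K),
      Function.Surjective π ∧ ∀ x ∈ I₀, π x = 0 := by
  haveI : IsNoetherian R R := isNoetherian_of_tower K inferInstance
  obtain ⟨I, ⟨hIts, hI0, hI1⟩, hmax⟩ := set_has_maximal_iff_noetherian.2 this
    {I : Ideal R | I.IsTwoSided ∧ I₀ ≤ I ∧ (1 : R) ∉ I} ⟨I₀, ‹_›, le_rfl, h⟩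
  haveI := hIts
  haveI : Nontrivial (R ⧸ I) :=
    Ideal.Quotient.nontrivial_iff.2 fun htop => hI1 (htop ▸ Submodule.mem_top)
  haveI : IsSimpleRing (R ⧸ I) := by
    rw [isSimpleRing_iff_isTwoSided_imp]
    refine ⟨inferInstance, fun J hJ => ?_⟩
    by_contra hJ'
    push Not at hJ'
    haveI : J.IsTwoSided := hJ
    have hle : I ≤ J.comap (Ideal.Quotient.mk I) := fun x hx => by
      rw [Ideal.mem_comap, Ideal.Quotient.eq_zero_iff_mem.2 hx]
      exact J.zero_mem
    have hne1 : (1 : R) ∉ J.comap (Ideal.Quotient.mk I) := fun h1 => hJ'.2 (by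
      rw [Ideal.eq_top_iff_one]
      simpa using h1)
    refine hJ'.1 (le_bot_iff.1 fun y hy => ?_)
    obtain ⟨x, rfl⟩ := Ideal.Quotient.mk_surjective y
    rw [Ideal.mem_bot, Ideal.Quotient.eq_zero_iff_mem]
    by_contra hx
    exact hmax _ ⟨inferInstance, hI0.trans hle, hne1⟩ (lt_of_le_of_ne hle fun e => hx (e ▸ hy))
  haveI : Module.Finite K (R ⧸ I) :=
    Module.Finite.of_surjective (Ideal.Quotient.mkₐ K I).toLinearMap Ideal.Quotient.mk_surjective
  obtain ⟨n, hn, ⟨e⟩⟩ := IsSimpleRing.exists_algEquiv_matrix_of_isAlgClosed K (R ⧸ I)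
  refine ⟨n, hn, e.toAlgHom.comp (Ideal.Quotient.mkₐ K I),
    e.surjective.comp Ideal.Quotient.mk_surjective, fun x hx => ?_⟩
  show e (Ideal.Quotient.mk I x) = 0
  rw [Ideal.Quotient.eq_zero_iff_mem.2 (hI0 hx), map_zero]

theorem trace_redA (hM : IsPModular p M) {V : Type*} [AddCommGroup V]
    [Module (ResField hM) V] (τ : MonoidAlgebra (ResField hM) G →ₗ[ResField hM] V)
    {x : MonoidAlgebra ℂ G} :
    τ (redA hM x) = ∑ g : G, red hM (x.coeff g) • τ (MonoidAlgebra.single g 1) := by
  rw [redA, redAlg, map_sum]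
  exact Finset.sum_congr rfl fun g _ => by rw [← map_smul, MonoidAlgebra.smul_single, smul_eq_mul,
    mul_one]

/-- Elements with vanishing values at all class functions are killed by trace functionals. -/
theorem trace_eq_zero_of_ev (hM : IsPModular p M) {x : MonoidAlgebra ℂ G} (hx : AlgRing M x)
    (h : ∀ χ : IrrCharacter G, ev (χ : G → ℂ) x = 0) :
    letI := resInst hM
    ∀ τ : MonoidAlgebra (ResField hM) G →ₗ[ResField hM] ResField hM,
      (∀ a b, τ (a * b) = τ (b * a)) → τ (redA hM x) = 0 := by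
  classical
  letI := resInst hM
  intro τ hτ
  haveI : Fintype (ConjClasses G) := Fintype.ofFinite _
  have hcl : ∀ g s : G, τ (MonoidAlgebra.single (s * g * s⁻¹) 1) = τ (MonoidAlgebra.single g 1) := by
    intro g s
    rw [show (MonoidAlgebra.single (s * g * s⁻¹) (1 : ResField hM)) =
      MonoidAlgebra.single (s * g) 1 * MonoidAlgebra.single s⁻¹ 1 by simp, hτ]
    simp
  have hfib : ∀ C : ConjClasses G,
      ∑ g ∈ Finset.univ.filter (fun g => ConjClasses.mk g = C), x.coeff g = 0 := by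
    intro C
    let f : G → ℂ := fun g => if ConjClasses.mk g = C then 1 else 0
    have hf : IsClassFunction G f := fun g s => if_congr (by
      rw [show ConjClasses.mk (s * g * s⁻¹) = ConjClasses.mk g from
        (ConjClasses.mk_eq_mk_iff_isConj.2 (isConj_iff.2 ⟨s, rfl⟩)).symm]) rfl rfl
    have h1 : ev f x = 0 := by
      rw [classFunction_expansion hf]
      simp only [ev, Finset.sum_apply, Pi.smul_apply, smul_eq_mul, Finset.mul_sum]
      rw [Finset.sum_comm]
      refine Finset.sum_eq_zero fun χ _ => ?_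
      rw [← mul_zero (classInner f (χ : G → ℂ)), ← h χ, ev, Finset.mul_sum]
      exact Finset.sum_congr rfl fun g _ => by ring
    simpa [ev, f, Finset.sum_filter] using h1
  rw [trace_redA, ← Finset.sum_fiberwise Finset.univ (fun g => ConjClasses.mk g)]
  refine Finset.sum_eq_zero fun C _ => ?_
  rw [Finset.sum_congr rfl (g := fun g => red hM (x.coeff g) • τ (MonoidAlgebra.single C.out 1))
      fun g hg => by
    obtain ⟨s, hs⟩ := isConj_iff.1 (ConjClasses.mk_eq_mk_iff_isConj.1
      ((Quotient.out_eq C).trans (Finset.mem_filter.1 hg).2.symm))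
    rw [← hs, hcl],
    ← Finset.sum_smul, ← red_sum hM fun g _ => hx g, hfib C, red_zero, zero_smul]

/-- The idempotent generates the block algebra as an ideal modulo `p`. -/
theorem exists_full [Fact p.Prime] (hM : IsPModular p M) (hB : IsPBlock M B)
    (I : IdemData p M B) :
    letI := resInst hM
    ∃ (m : ℕ) (a b : Fin m → MonoidAlgebra (ResField hM) G),
      ∑ r, a r * redA hM I.i * b r = redA hM (bz B) := by
  classical
  letI := resInst hM
  haveI := resField_isAlgClosed hM
  haveI : Module.Finite (ResField hM) (MonoidAlgebra (ResField hM) G) :=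
    Module.Finite.equiv (MonoidAlgebra.coeffLinearEquiv (ResField hM)).symm
  set iK := redA hM I.i with hiK
  set eK := redA hM (bz B) with heK
  have hecen : ∀ y, eK * y = y * eK := by
    intro y
    obtain ⟨x, hx, rfl⟩ := redA_surjective hM y
    rw [heK, ← redA_mul hM (bz_ring hM hB) hx, ← redA_mul hM hx (bz_ring hM hB), (bz_comm B x).eq]
  set S := Submodule.span (ResField hM) {y | ∃ a b, y = a * iK * b} with hS
  have hSl : ∀ r, ∀ s ∈ S, r * s ∈ S ∧ s * r ∈ S := by
    intro r s hs
    induction hs using Submodule.span_induction with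
    | mem y hy =>
      obtain ⟨a, b, rfl⟩ := hy
      exact ⟨Submodule.subset_span ⟨r * a, b, by simp only [mul_assoc]⟩,
        Submodule.subset_span ⟨a, b * r, by simp only [mul_assoc]⟩⟩
    | zero => simp
    | add u v _ _ hu hv =>
      rw [mul_add, add_mul]
      exact ⟨add_mem hu.1 hv.1, add_mem hu.2 hv.2⟩
    | smul c u _ hu =>
      rw [mul_smul_comm, smul_mul_assoc]
      exact ⟨S.smul_mem c hu.1, S.smul_mem c hu.2⟩
  let I₀ : Ideal (MonoidAlgebra (ResField hM) G) :=
    { carrier := {y | eK * y ∈ S}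
      zero_mem' := by simp
      add_mem' := fun hu hv => by
        show eK * _ ∈ S
        rw [mul_add]
        exact add_mem hu hv
      smul_mem' := fun r y hy => by
        show eK * (r * y) ∈ S
        rw [← mul_assoc, hecen, mul_assoc]
        exact (hSl r _ hy).1 }
  haveI : I₀.IsTwoSided := ⟨fun {y} r hy => by
    show eK * (y * r) ∈ S
    rw [← mul_assoc]
    exact (hSl r _ hy).2⟩
  by_cases h1 : (1 : MonoidAlgebra (ResField hM) G) ∈ I₀
  · have h2 : eK ∈ S := by simpa [I₀] using h1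
    obtain ⟨m, c, y, hy⟩ := Submodule.mem_span_set'.1 h2
    choose a b hab using fun r : Fin m => (y r).2
    exact ⟨m, fun r => c r • a r, b, by
      rw [← hy]
      exact Finset.sum_congr rfl fun r _ => by rw [hab, smul_mul_assoc, smul_mul_assoc]⟩
  exfalso
  obtain ⟨n, hn, π, hπs, hπ0⟩ := exists_matrix_hom (K := ResField hM) I₀ h1
  have hee : eK * eK = eK := by rw [heK, ← redA_mul hM (bz_ring hM hB) (bz_ring hM hB),
    bz_idem hM hB]
  have hπe : π eK = 1 := by
    have h3 : π (1 - eK) = 0 := hπ0 _ (show eK * (1 - eK) ∈ S by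
      rw [mul_sub, mul_one, hee, sub_self]; exact S.zero_mem)
    rw [map_sub, map_one, sub_eq_zero] at h3
    exact h3.symm
  have hπi : π iK = 0 := hπ0 _ (Submodule.subset_span ⟨eK, 1, by rw [mul_one]⟩)
  set E : Matrix (Fin n) (Fin n) (ResField hM) := Matrix.single 0 0 1 with hE
  have hEE : E * E = E := by simp [hE]
  obtain ⟨y₀, hy₀⟩ := hπs E
  obtain ⟨X, hX, rfl⟩ := redA_surjective hM y₀
  obtain ⟨δ, y, hδ, hy, hδδ, hcomm, hxy, N, hN⟩ := exists_spectral hM hX
  have h1δ : AlgRing M (1 - δ) := AlgRing.sub hM (AlgRing.one hM) hδ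
  have e1 : E * π (redA hM y) * π (redA hM δ) = π (redA hM δ) := by
    rw [← hy₀, ← map_mul, ← map_mul, ← redA_mul hM hX hy, ← redA_mul hM (hX.mul hM hy) hδ, hxy]
  have e2 : E ^ N * (1 - π (redA hM δ)) = 0 := by
    rw [← hy₀, ← map_pow, ← map_one π, ← map_sub, ← map_mul, ← redA_pow hM hX,
      ← redA_one (G := G) hM, ← redA_sub hM (AlgRing.one hM) hδ,
      ← redA_mul hM (AlgRing.pow hM hX N) h1δ,
      (redA_eq_zero hM ((AlgRing.pow hM hX N).mul hM h1δ)).2 hN, map_zero]
  have e3 : E * π (redA hM δ) = E := by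
    rcases N with _ | N
    · rw [pow_zero, one_mul, sub_eq_zero] at e2
      rw [← e2, mul_one]
    · rw [(show IsIdempotentElem E from hEE).pow_succ_eq N, mul_sub, mul_one, sub_eq_zero] at e2
      exact e2.symm
  have e4 : π (redA hM δ) = E := by
    calc π (redA hM δ) = E * π (redA hM y) * π (redA hM δ) := e1.symm
      _ = E * (E * π (redA hM y) * π (redA hM δ)) := by simp only [← mul_assoc, hEE]
      _ = E := by rw [e1, e3]
  set j := bz B * δ with hj
  have hjr : AlgRing M j := (bz_ring hM hB).mul hM hδ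
  have hjj : j * j = j := bz_mul_idem hM hB hδδ
  obtain ⟨m, hm⟩ := I.scal j hjr hjj
  have hn0 : (I.n : ℂ) ≠ 0 := Int.cast_ne_zero.2 fun h => I.unit (h ▸ dvd_zero _)
  set r : ℂ := (m : ℂ) / (I.n : ℂ) with hr
  have hnu : ¬ MemLocalIdeal M (I.n : ℂ) := fun h => I.unit ((ideal_intCast_iff hM _).1 h)
  have hrR : MemLocalRing M r := by
    rw [hr, div_eq_mul_inv]
    exact ring_mul hM (ring_intCast hM m) (ring_inv hM (ring_intCast hM _) hnu)
  set x := j - r • I.i with hx
  have hxR : AlgRing M x := AlgRing.sub hM hjr (I.prim.1.1.smul hM hrR)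
  have hev : ∀ χ : IrrCharacter G, ev (χ : G → ℂ) x = 0 := by
    intro χ
    rw [hx, ev_sub, ev_smul, hj]
    by_cases hχ : χ ∈ B
    · rw [← hj, hm χ hχ, I.val χ hχ, hr]
      field_simp
      ring
    · rw [ev_bz, if_neg hχ, ← I.inBlock, ev_bz, if_neg hχ, mul_zero, sub_zero]
  let τ : MonoidAlgebra (ResField hM) G →ₗ[ResField hM] ResField hM :=
    (Matrix.traceLinearMap (Fin n) (ResField hM) (ResField hM)).comp π.toLinearMap
  have h4 := trace_eq_zero_of_ev hM hxR hev τ fun a b => by
    simp [τ, Matrix.trace_mul_comm (π a)]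
  rw [hx, redA_sub hM hjr (I.prim.1.1.smul hM hrR), redA_smul hM hrR I.prim.1.1, hj,
    redA_mul hM (bz_ring hM hB) hδ] at h4
  simp [τ, ← hiK, ← heK, hπe, hπi, e4, hE] at h4

end Cfsg.Agent.Char.Res
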