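import Cfsg.Agent.Lib.Char.ModularRank
import Cfsg.Agent.Lib.Char.RankOneIdem
import Cfsg.Agent.Lib.Char.Schur
import Mathlib.RepresentationTheory.Basic

/-!
Simple representations in characteristic `p` of a block: existence, uniqueness when the regular rank
is one, and the scalar by which a central function acts.
-/

open scoped ComplexConjugate

namespace Cfsg.Agent.Char.CycGreen

open Cfsg Cfsg.Agent.Block Cfsg.Agent.Char.Res Cfsg.Agent.Char.Spec Cfsg.Agent.Char.CycMod

set_option linter.unusedSectionVars false
set_option linter.style.haveILetI false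

universe u w

variable {G : Type u} [Group G] [Fintype G] {p : ℕ} [hp : Fact p.Prime] {M : Ideal AlgInt}
  {B : Set (IrrCharacter G)}

/-- The lift of a representation to the group algebra is the action of functions. -/
theorem lift_eq_act {k : Type*} [Field k] {V : Type w} [AddCommGroup V] [Module k V]
    (ρ : G →* Module.End k V) (a : MonoidAlgebra k G) :
    MonoidAlgebra.lift k (Module.End k V) G ρ a = act ρ (fun g => a.coeff g) := by
  rw [MonoidAlgebra.lift_apply, act, Finsupp.sum_fintype _ _ (by simp)]

/-- A block has a simple representation. -/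
theorem exists_simple (hM : IsPModular p M) (hB : IsPBlock M B) :
    letI := resInst hM
    ∃ (n : ℕ) (ρ : G →* Module.End (ResField hM) (Fin n → ResField hM)),
      Irr ρ ∧ ∀ v, act ρ (fun g => red hM (blockCoeff B g)) v = v := by
  classical
  letI := resInst hM
  haveI := resField_isAlgClosed hM
  haveI : Module.Finite (ResField hM) (MonoidAlgebra (ResField hM) G) :=
    Module.Finite.equiv (MonoidAlgebra.coeffLinearEquiv (ResField hM)).symm
  set eK := redA hM (Res.bz B) with heK
  have hecen : ∀ y, eK * y = y * eK := by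
    intro y
    obtain ⟨x, hx, rfl⟩ := redA_surjective hM y
    rw [heK, ← redA_mul hM (bz_ring hM hB) hx, ← redA_mul hM hx (bz_ring hM hB), (bz_comm B x).eq]
  have hne : eK ≠ 0 := fun h => by
    obtain ⟨χ, hχ⟩ := pblock_nonempty hM hB
    have h1 := idem_eq_zero hM ((redA_eq_zero hM (bz_ring hM hB)).1 h) (bz_idem hM hB)
    have h2 := ev_bz (B := B) χ 1
    rw [if_pos hχ, h1, zero_mul, ev_zero, ev, Finset.sum_eq_single (1 : G) (fun g _ hg => by
      simp [MonoidAlgebra.one_def, Ne.symm hg]) (fun h => absurd (Finset.mem_univ _) h)] at h2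
    exact irr_one_ne_zero χ (by simpa [MonoidAlgebra.one_def] using h2.symm)
  let I₀ : Ideal (MonoidAlgebra (ResField hM) G) :=
    { carrier := {y | eK * y = 0}
      zero_mem' := by simp
      add_mem' := fun {a b} (hu : eK * a = 0) (hv : eK * b = 0) => by
        show eK * (a + b) = 0
        rw [mul_add, hu, hv, add_zero]
      smul_mem' := fun r y (hy : eK * y = 0) => by
        show eK * (r * y) = 0
        rw [← mul_assoc, hecen, mul_assoc, hy, mul_zero] }
  haveI : I₀.IsTwoSided := ⟨fun {y} r (hy : eK * y = 0) => by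
    show eK * (y * r) = 0
    rw [← mul_assoc, hy, zero_mul]⟩
  obtain ⟨n, hn, π, hπs, hπ0⟩ := exists_matrix_hom (K := ResField hM) I₀ (fun h1 => hne (by
    simpa [I₀] using h1))
  have hee : eK * eK = eK := by
    rw [heK, ← redA_mul hM (bz_ring hM hB) (bz_ring hM hB), bz_idem hM hB]
  have hπe : π eK = 1 := by
    have h3 : π (1 - eK) = 0 := hπ0 _ (show eK * (1 - eK) = 0 by
      rw [mul_sub, mul_one, hee, sub_self])
    rw [map_sub, map_one, sub_eq_zero] at h3
    exact h3.symm
  let Ψ : MonoidAlgebra (ResField hM) G →ₐ[ResField hM]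
      Module.End (ResField hM) (Fin n → ResField hM) :=
    (Matrix.toLinAlgEquiv' : Matrix (Fin n) (Fin n) (ResField hM) ≃ₐ[ResField hM] _).toAlgHom.comp π
  have hΨs : Function.Surjective Ψ :=
    (Matrix.toLinAlgEquiv' : Matrix (Fin n) (Fin n) (ResField hM) ≃ₐ[ResField hM] _).surjective.comp
      hπs
  let ρ : G →* Module.End (ResField hM) (Fin n → ResField hM) :=
    Ψ.toMonoidHom.comp (MonoidAlgebra.of (ResField hM) G)
  have hρ : MonoidAlgebra.lift (ResField hM) _ G ρ = Ψ :=
    (MonoidAlgebra.lift (ResField hM) _ G).apply_symm_apply Ψ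
  haveI : Nontrivial (Fin n → ResField hM) := by
    haveI := hn
    exact Function.nontrivial
  refine ⟨n, ρ, ⟨inferInstance, fun X hX => ?_⟩, fun v => ?_⟩
  · have hA : ∀ a, ∀ x ∈ X, Ψ a x ∈ X := fun a x hx => by
      rw [← hρ, lift_eq_act]
      exact act_mem ρ _ hX hx
    by_cases h : X = ⊥
    · exact Or.inl h
    refine Or.inr (Submodule.eq_top_iff'.2 fun y => ?_)
    obtain ⟨x, hx, hx0⟩ := (Submodule.ne_bot_iff X).1 h
    obtain ⟨f, hf⟩ := LinearMap.exists_extend (p := Submodule.span (ResField hM) {x})
      ((LinearEquiv.toSpanNonzeroSingleton (ResField hM) _ x hx0).symm.toLinearMap)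
    obtain ⟨a, ha⟩ := hΨs (f.smulRight y)
    have h2 := hA a x hx
    rw [ha, LinearMap.smulRight_apply, show f x = 1 from ?_, one_smul] at h2
    · exact h2
    have h3 := LinearMap.congr_fun hf ⟨x, Submodule.mem_span_singleton_self x⟩
    simp only [LinearMap.comp_apply, Submodule.subtype_apply] at h3
    rw [h3]
    exact LinearEquiv.coord_self (ResField hM) _ x hx0
  · have h := LinearMap.congr_fun (congrArg
      (Matrix.toLinAlgEquiv' : Matrix (Fin n) (Fin n) (ResField hM) ≃ₐ[ResField hM] _) hπe) v
    rw [map_one] at h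
    change Ψ eK v = v at h
    rw [← hρ, lift_eq_act] at h
    refine Eq.trans ?_ h
    congr 2
    funext g
    rw [heK, redA_coeff, Res.bz, algOf_coeff_id]

variable {V : Type w} [AddCommGroup V]

/-- In a block of regular rank one two simple representations have a nonzero map between them. -/
theorem exists_map_of_rank_one (hM : IsPModular p M) (hB : IsPBlock M B)
    (hl : blockRank p B = 1) :
    letI := resInst hM
    ∀ [Module (ResField hM) V] [FiniteDimensional (ResField hM) V]
      (ρ ρ' : G →* Module.End (ResField hM) V), Irr ρ → Irr ρ' →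
      (∀ v, act ρ (fun g => red hM (blockCoeff B g)) v = v) →
      (∀ v, act ρ' (fun g => red hM (blockCoeff B g)) v = v) →
      ∃ f : V →ₗ[ResField hM] V, f ≠ 0 ∧ Intw ρ ρ' f := by
  letI := resInst hM
  intro iV iF ρ ρ' h1 h2 he1 he2
  by_contra hno
  push Not at hno
  have h3 : ∀ f : V →ₗ[ResField hM] V, Intw ρ ρ' f → f = 0 := fun f hf =>
    by_contra fun hf0 => hno f hf0 hf
  have h4 : ∀ f : V →ₗ[ResField hM] V, Intw ρ' ρ f → f = 0 := by
    intro f hf
    by_contra hf0
    have hb := (zero_or_bijective ρ' ρ h2 h1 hf).resolve_left hf0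
    let g := (LinearEquiv.ofBijective f hb).symm.toLinearMap
    have hg : Intw ρ ρ' g := fun x v => hb.1 (by
      show f ((LinearEquiv.ofBijective f hb).symm (ρ x v)) =
        f (ρ' x ((LinearEquiv.ofBijective f hb).symm v))
      rw [hf, show ∀ y, f ((LinearEquiv.ofBijective f hb).symm y) = y from
        fun y => (LinearEquiv.ofBijective f hb).apply_symm_apply y, show ∀ y, f ((LinearEquiv.ofBijective f hb).symm y) = y from
        fun y => (LinearEquiv.ofBijective f hb).apply_symm_apply y])
    obtain ⟨v, hv⟩ := @exists_ne V h2.1 0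
    refine hv ?_
    have := LinearMap.congr_fun (h3 g hg) (f v)
    simpa [g] using this
  have h5 := le_blockRank hM hB (ι := Fin 2) (S := fun _ => V)
    ⟨fun _ => iV, fun _ => iF, ![ρ, ρ'],
      Fin.forall_fin_two.2 ⟨h1, h2⟩,
      Fin.forall_fin_two.2 ⟨Fin.forall_fin_two.2 ⟨fun h => absurd rfl h, fun _ => h3⟩,
        Fin.forall_fin_two.2 ⟨fun _ => h4, fun h => absurd rfl h⟩⟩,
      Fin.forall_fin_two.2 ⟨he1, he2⟩⟩
  rw [hl, Fintype.card_fin] at h5
  omega

/-- A central function with all values congruent to one on the block acts as one. -/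
theorem act_eq_one_of_omega (hM : IsPModular p M) (hB : IsPBlock M B) {f : G → ℂ}
    (hf : IsClassFunction G f) (hfr : ∀ g, MemLocalRing M (f g))
    (hω : ∀ χ ∈ B, MemLocalIdeal M ((∑ g, f g * (χ : G → ℂ) g) / (χ : G → ℂ) 1 - 1)) :
    letI := resInst hM
    ∀ [Module (ResField hM) V] [FiniteDimensional (ResField hM) V]
      (ρ : G →* Module.End (ResField hM) V), Irr ρ →
      (∀ v, act ρ (fun g => red hM (blockCoeff B g)) v = v) →
      ∀ v, act ρ (fun g => red hM (f g)) v = v := by
  classical
  letI := resInst hM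
  haveI : CharP (ResField hM) p := resField_charP hM
  haveI : IsAlgClosed (ResField hM) := resField_isAlgClosed hM
  intro iV iF ρ hirr he
  obtain ⟨c, hc⟩ := schur ρ hirr (act_classFun ρ (a := fun g => red hM (f g))
    fun g t => by show red hM _ = red hM _; rw [hf g t])
  suffices h : c = 1 from fun v => by rw [hc, h, one_smul]
  let τ : G → ResField hM := fun g => LinearMap.trace _ V (ρ g)
  have hτcl : ∀ g t, τ (t * g * t⁻¹) = τ g := fun g t => by
    simp only [τ, map_mul]
    rw [LinearMap.trace_mul_comm, ← mul_assoc, ← map_mul, inv_mul_cancel, map_one, one_mul]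
  obtain ⟨co, hco⟩ := exists_red_comb (p := p) hM τ hτcl fun g u v huv hc hu _ => by
    subst huv
    obtain ⟨a, ha⟩ := hu
    exact trace_pPart ρ hc (a := a) (ha ▸ pow_orderOf_eq_one u)
  have hshift : ∀ (F : G → ℂ), (∀ g, MemLocalRing M (F g)) → ∀ g,
      LinearMap.trace _ V (act ρ (fun h => red hM (F h)) * ρ g) =
        ∑ χ : IrrCharacter G, co χ * red hM (∑ h, F h * (χ : G → ℂ) (h * g)) := by
    intro F hF g
    calc LinearMap.trace _ V (act ρ (fun h => red hM (F h)) * ρ g)
        = ∑ h, red hM (F h) * τ (h * g) := by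
          simp only [act, Finset.sum_mul, map_sum, smul_mul_assoc, map_smul, smul_eq_mul, ← map_mul]
          rfl
      _ = _ := by
          simp only [hco, Finset.mul_sum]
          rw [Finset.sum_comm]
          refine Finset.sum_congr rfl fun χ _ => ?_
          rw [red_sum_mul hM _ _ _ hF (fun h => irr_ring hM χ _), Finset.mul_sum]
          exact Finset.sum_congr rfl fun h _ => by ring
  have hτB : ∀ g, τ g = ∑ χ : IrrCharacter G,
      co χ * red hM (if χ ∈ B then (χ : G → ℂ) g else 0) := by
    intro g
    have h := hshift (blockCoeff B) (fun h => blockCoeff_ring hM hB h) g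
    rw [show act ρ (fun h => red hM (blockCoeff B h)) = 1 from
      LinearMap.ext fun x => by rw [he]; rfl, one_mul] at h
    rw [show τ g = LinearMap.trace _ V (ρ g) from rfl, h]
    simp only [sum_blockCoeff_mul_irr]
  have hτf : ∀ g, c * τ g = ∑ χ : IrrCharacter G,
      co χ * red hM ((∑ h, f h * (χ : G → ℂ) h) / (χ : G → ℂ) 1 * (χ : G → ℂ) g) := by
    intro g
    have h := hshift f hfr g
    rw [show act ρ (fun h => red hM (f h)) = c • (1 : Module.End (ResField hM) V) from
      LinearMap.ext fun x => by rw [hc]; rfl, smul_mul_assoc, one_mul, map_smul, smul_eq_mul] at h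
    rw [show τ g = LinearMap.trace _ V (ρ g) from rfl, h]
    simp only [fun χ : IrrCharacter G => Cfsg.Agent.Char.sum_classFun_mul_apply χ.2 hf g]
  obtain ⟨g₀, hg₀⟩ : ∃ g, τ g ≠ 0 := by
    by_contra hn
    push Not at hn
    obtain ⟨a, ha⟩ := exists_trace_dual (ι := Fin 1) (S := fun _ => V) (fun _ => ρ) (fun _ => hirr)
      (fun i j hij => absurd (Subsingleton.elim i j) hij) 0
    have h := ha 0
    rw [if_pos rfl, act, map_sum] at h
    simp only [map_smul, smul_eq_mul] at h
    rw [Finset.sum_eq_zero fun g _ => by rw [show LinearMap.trace _ V (ρ g) = 0 from hn g, mul_zero]]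
      at h
    exact zero_ne_one h
  -- the class function with the same values on the block
  have key : ∀ g, c * τ g = τ g := by
    intro g
    have hblk : act ρ (fun h => red hM (f h)) * ρ g =
        act ρ (fun h => red hM (f h)) * act ρ (fun h => red hM (blockCoeff B h)) * ρ g := by
      rw [show act ρ (fun h => red hM (blockCoeff B h)) = 1 from
        LinearMap.ext fun x => by rw [he]; rfl, mul_one]
    have h1 : c * τ g = ∑ h, red hM (blockCoeff B h) * (c * τ (h * g)) := by
      simp only [mul_left_comm _ c, ← Finset.mul_sum]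
      congr 1
      calc τ g = LinearMap.trace _ V (act ρ (fun h => red hM (blockCoeff B h)) * ρ g) := by
            rw [show act ρ (fun h => red hM (blockCoeff B h)) = 1 from
              LinearMap.ext fun x => by rw [he]; rfl, one_mul]
        _ = _ := by
            simp only [act, Finset.sum_mul, map_sum, smul_mul_assoc, map_smul, smul_eq_mul,
              ← map_mul]
            rfl
    rw [h1, Finset.sum_congr rfl fun h _ => by rw [hτf (h * g)]]
    simp only [Finset.mul_sum]
    rw [Finset.sum_comm, hτB g]
    refine Finset.sum_congr rfl fun χ _ => ?_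
    set om := (∑ h, f h * (χ : G → ℂ) h) / (χ : G → ℂ) 1 with hom
    have homr : MemLocalRing M om :=
      (show CenInt M (fun ξ => omegaFun ξ f) from fun g => by
        rw [coeffFun_omegaFun hf]; exact hfr g).ring hM χ
    calc ∑ h, red hM (blockCoeff B h) * (co χ * red hM (om * (χ : G → ℂ) (h * g)))
        = co χ * (red hM om * red hM (∑ h, blockCoeff B h * (χ : G → ℂ) (h * g))) := by
          rw [red_sum_mul hM _ _ _ (fun h => blockCoeff_ring hM hB h) (fun h => irr_ring hM χ _),
            Finset.mul_sum, Finset.mul_sum]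
          refine Finset.sum_congr rfl fun h _ => ?_
          rw [red_mul hM homr (irr_ring hM χ _)]
          ring
      _ = _ := by
          rw [sum_blockCoeff_mul_irr]
          by_cases hχ : χ ∈ B
          · rw [if_pos hχ, (red_eq_red hM homr (ring_one hM)).2 (hω χ hχ), red_one, one_mul]
          · rw [if_neg hχ, red_zero, mul_zero]
  exact mul_right_cancel₀ hg₀ ((key g₀).trans (one_mul _).symm)

end Cfsg.Agent.Char.CycGreen
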