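import Cfsg.Agent.Lib.Char.CycModular

/-!
Maps from a module of a local subgroup into a simple module, modulo traces from the trivial
subgroup: an endomorphism commuting with the local subgroup is a scalar on them, and every local
module over the block has one which is not a trace.
-/

namespace Cfsg.Agent.Char.CycGreen

open Cfsg.Agent.Block Cfsg.Agent.Char.CycMod

set_option linter.unusedSectionVars false
set_option linter.style.haveILetI false

universe u v w

variable {G : Type u} [Group G] [Fintype G] {k : Type v} [Field k]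
variable {S : Type*} [AddCommGroup S] [Module k S] (σ : G →* Module.End k S)
variable {T : Subgroup G} [Fintype T]
variable {W : Type w} [AddCommGroup W] [Module k W] (τ : T →* Module.End k W)

/-- A map from a local module which is a trace from the trivial subgroup. -/
def IsTr (f : W →ₗ[k] S) : Prop := ∃ h : W →ₗ[k] S, tr τ (σ.comp T.subtype) h = f

/-- A map commuting with the local subgroup. -/
def LIntw (f : W →ₗ[k] S) : Prop := ∀ (t : T) (v : W), f (τ t v) = σ (t : G) (f v)

theorem IsTr.zero : IsTr σ τ (0 : W →ₗ[k] S) :=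
  ⟨0, LinearMap.ext fun v => by simp [tr_apply]⟩

theorem IsTr.add {f f' : W →ₗ[k] S} (h : IsTr σ τ f) (h' : IsTr σ τ f') :
    IsTr σ τ (f + f') := by
  obtain ⟨a, rfl⟩ := h
  obtain ⟨b, rfl⟩ := h'
  exact ⟨a + b, LinearMap.ext fun v => by simp [tr_apply, Finset.sum_add_distrib]⟩

theorem IsTr.smul {f : W →ₗ[k] S} (h : IsTr σ τ f) (c : k) : IsTr σ τ (c • f) := by
  obtain ⟨a, rfl⟩ := h
  exact ⟨c • a, LinearMap.ext fun v => by simp [tr_apply, Finset.smul_sum]⟩

theorem IsTr.comp {f : W →ₗ[k] S} (h : IsTr σ τ f) {π : Module.End k S}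
    (hπ : ∀ t : T, ∀ x, π (σ (t : G) x) = σ (t : G) (π x)) : IsTr σ τ (π ∘ₗ f) := by
  obtain ⟨a, rfl⟩ := h
  refine ⟨π ∘ₗ a, LinearMap.ext fun v => ?_⟩
  simp [tr_apply, hπ]

variable {D : Subgroup G} [Fintype (G ⧸ D)]

theorem cj_smul_coset {ψ : Module.End k S} (hψ : ∀ d ∈ D, ∀ x, ψ (σ d x) = σ d (ψ x)) (a : G)
    (t : G ⧸ D) : cj σ (a • t).out ψ = cj σ a (cj σ t.out ψ) := by
  have h1 : (QuotientGroup.mk (a • t).out : G ⧸ D) = QuotientGroup.mk (a * t.out) := by
    rw [QuotientGroup.out_eq']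
    conv_lhs => rw [← QuotientGroup.out_eq' t]
    rfl
  obtain ⟨n, hn, hn'⟩ : ∃ n ∈ D, (a • t).out = a * t.out * n :=
    ⟨(a * t.out)⁻¹ * (a • t).out, QuotientGroup.eq.1 h1.symm, by group⟩
  rw [hn', cj_mul, cj_of_comm σ (hψ n hn), cj_mul]

variable {N : Subgroup G}

theorem smul_out_mem_iff (hDN : D ≤ N) {n : G} (hn : n ∈ N) (t : G ⧸ D) :
    (n • t).out ∈ N ↔ t.out ∈ N := by
  have h1 : (QuotientGroup.mk (n • t).out : G ⧸ D) = QuotientGroup.mk (n * t.out) := by
    rw [QuotientGroup.out_eq']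
    conv_lhs => rw [← QuotientGroup.out_eq' t]
    rfl
  have h2 := hDN (QuotientGroup.eq.1 h1.symm)
  constructor
  · intro h
    have := N.mul_mem (N.inv_mem hn) (N.mul_mem h (N.inv_mem h2))
    simpa [mul_assoc] using this
  · intro h
    have := N.mul_mem (N.mul_mem hn h) h2
    simpa [mul_assoc] using this

open scoped Classical in
/-- The cosets outside `N` give a trace from the trivial subgroup. -/
theorem isTr_outside (hDT : D ≤ T) (hDN : D ≤ N) (hTN : T ≤ N)
    (hfree : ∀ g : G, g ∉ N → ∀ d ∈ D, g⁻¹ * d * g ∈ D → d = 1) {ψ : Module.End k S}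
    (hψ : ∀ d ∈ D, ∀ x, ψ (σ d x) = σ d (ψ x)) {θ : Module.End k W}
    [Fintype (T ⧸ D.subgroupOf T)]
    (hθD : ∀ d : T, (d : G) ∈ D → ∀ v, θ (τ d v) = τ d (θ v))
    (hθ : ∀ v, ∑ s : T ⧸ D.subgroupOf T, τ s.out (θ (τ s.out⁻¹ v)) = v) {φ : W →ₗ[k] S}
    (hφ : LIntw σ τ φ) :
    IsTr σ τ ((∑ t ∈ Finset.univ.filter (fun t : G ⧸ D => t.out ∉ N), cj σ t.out ψ) ∘ₗ φ) := by
  set Ω := Finset.univ.filter (fun t : G ⧸ D => t.out ∉ N) with hΩ
  set R : Module.End k S := ∑ t ∈ Ω, cj σ t.out ψ with hR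
  have hmem : ∀ {t : G ⧸ D}, t ∈ Ω ↔ t.out ∉ N := fun {t} => by simp [hΩ]
  have hRN : ∀ n ∈ N, ∀ x, R (σ n x) = σ n (R x) := by
    intro n hn x
    simp only [hR, LinearMap.sum_apply, map_sum]
    refine Finset.sum_bij' (fun t _ => n⁻¹ • t) (fun t _ => n • t) (fun t ht => ?_) (fun t ht => ?_)
      (fun t _ => smul_inv_smul n t) (fun t _ => inv_smul_smul n t) fun t _ => ?_
    · rw [hmem, smul_out_mem_iff hDN (N.inv_mem hn)]; exact hmem.1 ht
    · rw [hmem, smul_out_mem_iff hDN hn]; exact hmem.1 ht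
    · rw [cj_smul_coset σ hψ, cj_apply σ n⁻¹, inv_inv, rep_apply_inv]
  letI : Fintype D := Fintype.ofFinite D
  have hfix : ∀ t ∈ Ω, ∀ d : D, (d : G) • t = t → d = 1 := by
    intro t ht d hd
    refine Subtype.ext (hfree t.out (hmem.1 ht) d d.2 ?_)
    rw [← QuotientGroup.out_eq' t, MulAction.Quotient.smul_mk, QuotientGroup.eq] at hd
    have h := D.inv_mem hd
    simpa [mul_assoc, mul_inv_rev] using h
  let wt : G ⧸ D → k := fun t =>
    if (Quotient.mk'' t : MulAction.orbitRel.Quotient D (G ⧸ D)).out = t then 1 else 0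
  have hwt : ∀ t ∈ Ω, ∑ d : D, wt (d • t) = 1 := by
    intro t ht
    set q : MulAction.orbitRel.Quotient D (G ⧸ D) := Quotient.mk'' t
    obtain ⟨u₁, hu₁⟩ : q.out ∈ MulAction.orbit D t :=
      MulAction.orbitRel_apply.1 (Quotient.exact' (Quotient.out_eq' q))
    have hq : ∀ u : D, (Quotient.mk'' (u • t) : MulAction.orbitRel.Quotient D (G ⧸ D)) = q :=
      fun u => Quotient.sound' ⟨u, rfl⟩
    simp only [wt, hq]
    rw [Finset.sum_eq_single u₁ (fun u _ hu => if_neg fun h => hu ?_)
      (fun h => absurd (Finset.mem_univ _) h), if_pos hu₁.symm]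
    have h2 : (u₁⁻¹ * u) • t = t := by
      rw [mul_smul, ← h, ← hu₁]
      exact inv_smul_smul u₁ t
    exact (inv_mul_eq_one.1 (hfix t ht _ h2)).symm
  have hΩD : ∀ (d : D) (t : G ⧸ D), t ∈ Ω → (d : G) • t ∈ Ω := fun d t ht => by
    rw [hmem, smul_out_mem_iff hDN (hDN d.2)]; exact hmem.1 ht
  let h₀ : W →ₗ[k] S := ∑ t ∈ Ω, wt t • (cj σ t.out ψ ∘ₗ φ)
  have hd : ∀ v, R (φ v) = ∑ d : D, σ (d : G) (h₀ (τ ⟨((d⁻¹ : D) : G), hDT (d⁻¹).2⟩ v)) := by
    intro v
    simp only [hR, LinearMap.sum_apply]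
    calc ∑ t ∈ Ω, cj σ t.out ψ (φ v)
        = ∑ t ∈ Ω, ∑ d : D, wt (d • t) • cj σ t.out ψ (φ v) :=
          Finset.sum_congr rfl fun t ht => by rw [← Finset.sum_smul, hwt t ht, one_smul]
      _ = ∑ d : D, ∑ t ∈ Ω, wt t • cj σ ((d⁻¹ : D) • t).out ψ (φ v) := by
          rw [Finset.sum_comm]
          refine Finset.sum_congr rfl fun d _ => ?_
          refine Finset.sum_bij' (fun t _ => d • t) (fun t _ => d⁻¹ • t) (fun t ht => hΩD d t ht)
            (fun t ht => hΩD d⁻¹ t ht) (fun t _ => inv_smul_smul d t)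
            (fun t _ => smul_inv_smul d t) fun t _ => by rw [inv_smul_smul]
      _ = ∑ d : D, ∑ t ∈ Ω, wt t • cj σ (((d : D) : G) • t).out ψ (φ v) := by
          refine Fintype.sum_equiv (Equiv.inv D) _ _ fun d => ?_
          rfl
      _ = _ := by
          refine Finset.sum_congr rfl fun d _ => ?_
          simp only [h₀, LinearMap.sum_apply, LinearMap.smul_apply, LinearMap.comp_apply, map_sum,
            map_smul]
          refine Finset.sum_congr rfl fun t _ => ?_
          rw [cj_smul_coset σ hψ, cj_apply σ (d : G), hφ]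
          rfl
  refine ⟨h₀ ∘ₗ θ, LinearMap.ext fun v => ?_⟩
  have key : R (φ v) = ∑ s : T ⧸ D.subgroupOf T,
      σ ((s.out : T) : G) (R (φ (θ (τ s.out⁻¹ v)))) := by
    conv_lhs => rw [← hθ v]
    simp only [map_sum]
    exact Finset.sum_congr rfl fun s _ => by rw [hφ, hRN _ (hTN s.out.2)]
  show _ = R (φ v)
  rw [key, tr_apply, ← sum_coset_mul (D.subgroupOf T)]
  refine Finset.sum_congr rfl fun s _ => ?_
  rw [hd, map_sum]
  refine Fintype.sum_equiv (Subgroup.subgroupOfEquivOfLe hDT).toEquiv _ _ fun d => ?_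
  simp only [LinearMap.comp_apply, MonoidHom.coe_comp, Function.comp_apply]
  rw [← Module.End.mul_apply (σ ((s.out : T) : G)), ← map_mul,
    ← hθD _ (D.inv_mem d.2), ← Module.End.mul_apply (τ _), ← map_mul, mul_inv_rev]
  rfl

/-- An endomorphism of a simple module of the block which commutes with `N` is a scalar on maps from
local modules, modulo traces. -/
theorem isTr_sub_scalar (hDT : D ≤ T)
    (hDN : D ≤ N) (hTN : T ≤ N)
    (hfree : ∀ g : G, g ∉ N → ∀ d ∈ D, g⁻¹ * d * g ∈ D → d = 1) {e₀ : Module.End k S}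
    (he₀ : ∀ d ∈ D, ∀ x, e₀ (σ d x) = σ d (e₀ x))
    (hsum : ∀ x, ∑ t : G ⧸ D, cj σ t.out e₀ x = x) {θ : Module.End k W}
    [Fintype (T ⧸ D.subgroupOf T)]
    (hθD : ∀ d : T, (d : G) ∈ D → ∀ v, θ (τ d v) = τ d (θ v))
    (hθ : ∀ v, ∑ s : T ⧸ D.subgroupOf T, τ s.out (θ (τ s.out⁻¹ v)) = v)
    {π : Module.End k S} (hπ : ∀ n ∈ N, ∀ x, π (σ n x) = σ n (π x)) {c : k}
    (hc : ∀ x, (∑ t : G ⧸ D, cj σ t.out (π * e₀)) x = c • x) {φ : W →ₗ[k] S}
    (hφ : LIntw σ τ φ) : IsTr σ τ (π ∘ₗ φ - c • φ) := by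
  classical
  have hπe : ∀ d ∈ D, ∀ x, (π * e₀) (σ d x) = σ d ((π * e₀) x) := fun d hd x => by
    rw [Module.End.mul_apply, he₀ d hd, hπ d (hDN hd)]; rfl
  set Ω := Finset.univ.filter (fun t : G ⧸ D => t.out ∉ N) with hΩ
  have hin : ∀ x, ∑ t ∈ Finset.univ.filter (fun t : G ⧸ D => t.out ∈ N), cj σ t.out (π * e₀) x =
      π (∑ t ∈ Finset.univ.filter (fun t : G ⧸ D => t.out ∈ N), cj σ t.out e₀ x) := by
    intro x
    rw [map_sum]
    refine Finset.sum_congr rfl fun t ht => ?_
    rw [cj_apply, cj_apply, hπ _ (Finset.mem_filter.1 ht).2]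
    rfl
  have hsplit : ∀ x, c • x = π x - π ((∑ t ∈ Ω, cj σ t.out e₀) x) +
      (∑ t ∈ Ω, cj σ t.out (π * e₀)) x := by
    intro x
    rw [← hc x, LinearMap.sum_apply, LinearMap.sum_apply, LinearMap.sum_apply,
      ← Finset.sum_filter_add_sum_filter_not Finset.univ (fun t : G ⧸ D => t.out ∈ N), hin]
    congr 1
    rw [eq_sub_iff_add_eq, ← map_add, hΩ, Finset.sum_filter_add_sum_filter_not, hsum]
  have h1 := IsTr.comp σ τ (isTr_outside σ τ hDT hDN hTN hfree he₀ hθD hθ hφ)
    (π := π) fun t x => hπ _ (hTN t.2) x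
  have h2 := (isTr_outside σ τ hDT hDN hTN hfree hπe hθD hθ hφ).smul σ τ (-1)
  convert h1.add σ τ h2 using 1
  refine LinearMap.ext fun v => ?_
  simp only [LinearMap.sub_apply, LinearMap.smul_apply, LinearMap.comp_apply, LinearMap.add_apply,
    hsplit (φ v), hΩ]
  rw [neg_one_smul]
  abel

section existence

open scoped Classical

variable {p : ℕ} [hp : Fact p.Prime] [CharP k p] {P : Subgroup G}

/-- A local module on which the restricted idempotent of the block is the identity has a map into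
a simple module of the block which is not a trace. -/
theorem exists_simple_map_local (hPp : Nat.card P = p) {E : G → k}
    (hE : ∀ g t : G, E (t * g * t⁻¹) = E g) (hEE : ∀ g, ∑ h, E h * E (h⁻¹ * g) = E g)
    {W : Type w} [AddCommGroup W] [Module k W] [FiniteDimensional k W] [Nontrivial W]
    {N : Subgroup G} [Fintype N] (hPN : P ≤ N) (hN : N ≤ Subgroup.normalizer (P : Set G))
    (τ : N →* Module.End k W)
    (hτP : ∀ n : N, (n : G) ∈ P → τ n = 1)
    (hτE : ∀ v, act τ (fun n : N =>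
      if (n : G) ∈ Subgroup.centralizer (P : Set G) then E n else 0) v = v) :
    ∃ (S : Type (max u w)) (_ : AddCommGroup S) (_ : Module k S) (_ : FiniteDimensional k S)
      (σ : G →* Module.End k S) (φ : W →ₗ[k] S), Irr σ ∧ (∀ x, act σ E x = x) ∧
        LIntw σ τ φ ∧ ¬ IsTr σ τ φ := by
  haveI : Fact (Nat.card P).Prime := ⟨hPp.symm ▸ hp.out⟩
  let V : Submodule k (G → W) :=
    { carrier := {f | ∀ (n : N) (g : G), f ((n : G) * g) = τ n (f g)}
      add_mem' := fun ha hb n g => by simp [ha n g, hb n g]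
      zero_mem' := fun n g => by simp
      smul_mem' := fun c x hx n g => by simp [hx n g] }
  haveI : FiniteDimensional k V := inferInstance
  let ρ : G →* Module.End k V :=
    { toFun := fun g =>
        { toFun := fun f => ⟨fun x => (f : G → W) (x * g), fun n x => by
            show (f : G → W) ((n : G) * x * g) = _
            rw [mul_assoc]
            exact f.2 n (x * g)⟩
          map_add' := fun a b => rfl
          map_smul' := fun c a => rfl }
      map_one' := LinearMap.ext fun f => Subtype.ext (funext fun x => congrArg _ (mul_one x))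
      map_mul' := fun a b => LinearMap.ext fun f => Subtype.ext (funext fun x =>
        congrArg (f : G → W) (mul_assoc x a b).symm) }
  have hρ : ∀ (g : G) (f : V) (x : G), (ρ g f : G → W) x = (f : G → W) (x * g) := fun _ _ _ => rfl
  let ι : W →ₗ[k] V :=
    { toFun := fun v => ⟨fun g => if h : g ∈ N then τ ⟨g, h⟩ v else 0, fun n g => by
        simp only []
        by_cases hg : g ∈ N
        · rw [dif_pos hg, dif_pos (N.mul_mem n.2 hg), ← Module.End.mul_apply, ← map_mul]
          rfl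
        · rw [dif_neg hg, dif_neg (fun h => hg ((N.mul_mem_cancel_left n.2).1 h)), map_zero]⟩
      map_add' := fun a b => Subtype.ext (funext fun g => by by_cases hg : g ∈ N <;> simp [hg])
      map_smul' := fun c a => Subtype.ext (funext fun g => by by_cases hg : g ∈ N <;> simp [hg]) }
  have hιN : ∀ (v : W) (n : N), (ι v : G → W) n = τ n v := fun v n => dif_pos n.2
  have hι0 : ∀ (v : W) (g : G), g ∉ N → (ι v : G → W) g = 0 := fun v g hg => dif_neg hg
  let π : V →ₗ[k] W := (LinearMap.proj (R := k) (φ := fun _ : G => W) 1) ∘ₗ V.subtype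
  have hρι : ∀ (n : N) (v : W), ρ (n : G) (ι v) = ι (τ n v) := by
    intro n v
    refine Subtype.ext (funext fun x => ?_)
    rw [hρ]
    by_cases hx : x ∈ N
    · have := hιN v ((⟨x, hx⟩ : N) * n)
      rw [map_mul, Module.End.mul_apply] at this
      exact this.trans (hιN (τ n v) ⟨x, hx⟩).symm
    · rw [hι0 _ _ (fun h => hx ((N.mul_mem_cancel_right n.2).1 h)), hι0 _ _ hx]
  set e : V →ₗ[k] V := act ρ E with he
  have hee : ∀ x, e (e x) = e x := act_idem ρ hEE
  have hπeι : ∀ v, π (e (ι v)) = v := by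
    intro v
    refine Eq.trans ?_ (hτE v)
    rw [he, act_apply, map_sum, act_apply]
    simp only [map_smul, π, LinearMap.comp_apply, Submodule.subtype_apply, LinearMap.proj_apply,
      hρ, one_mul]
    rw [← Finset.sum_subset (Finset.subset_univ (Finset.univ.filter (· ∈ N)))
      (fun g _ hg => by rw [hι0 _ _ (by simpa using hg), smul_zero]),
      Finset.sum_subtype (p := fun g => g ∈ N) (Finset.univ.filter (· ∈ N)) (fun g => by simp)]
    letI : MulAction P N :=
      { smul := fun u n => ⟨(u : G) * n * (u : G)⁻¹, N.mul_mem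
          (N.mul_mem (hPN u.2) n.2) (N.inv_mem (hPN u.2))⟩
        one_smul := fun n => Subtype.ext (show (1 : G) * n * 1⁻¹ = n by group)
        mul_smul := fun a b n => Subtype.ext (show (a : G) * b * n * ((a : G) * b)⁻¹ =
          (a : G) * ((b : G) * n * (b : G)⁻¹) * (a : G)⁻¹ by group) }
    have hfix : ∀ n : N, n ∈ MulAction.fixedPoints P N ↔
        (n : G) ∈ Subgroup.centralizer (P : Set G) := by
      intro n
      rw [MulAction.mem_fixedPoints, Subgroup.mem_centralizer_iff]
      exact ⟨fun h u hu => mul_inv_eq_iff_eq_mul.1 (congrArg Subtype.val (h ⟨u, hu⟩)),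
        fun h u => Subtype.ext (mul_inv_eq_iff_eq_mul.2 (h u u.2))⟩
    rw [sum_eq_sum_fixed (p := p) (fun z : W => by rw [← Nat.cast_smul_eq_nsmul k,
      CharP.cast_eq_zero, zero_smul]) (IsPGroup.of_card (by rw [hPp, pow_one]))
      (fun n : N => E n • (ι v : G → W) n) (fun u n => ?_), finsum_mem_eq_toFinset_sum,
      Finset.sum_congr rfl fun n _ => by rw [hιN]]
    · rw [← Finset.sum_filter_add_sum_filter_not Finset.univ
        (fun n : N => (n : G) ∈ Subgroup.centralizer (P : Set G))]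
      rw [Finset.sum_eq_zero (s := Finset.univ.filter fun n : N =>
        ¬ (n : G) ∈ Subgroup.centralizer (P : Set G)) fun n hn => by
          rw [if_neg (Finset.mem_filter.1 hn).2, zero_smul], add_zero]
      refine Finset.sum_congr ?_ fun n hn => by rw [if_pos (Finset.mem_filter.1 hn).2]
      ext n
      simp [hfix]
    · have h1 : ((u • n : N)) = (⟨(u : G), hPN u.2⟩ : N) * n *
          (⟨(u : G), hPN u.2⟩ : N)⁻¹ := rfl
      rw [hιN, hιN, h1]
      congr 1
      · exact hE n u
      · rw [map_mul, map_mul, hτP (⟨(u : G), hPN u.2⟩ : N) u.2,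
          hτP ((⟨(u : G), hPN u.2⟩ : N)⁻¹) (P.inv_mem u.2)]
        simp
  have hnt : ¬ ∃ ψ : V →ₗ[k] V, tr ρ ρ ψ = e := by
    rintro ⟨ψ, hψ⟩
    obtain ⟨v, hv⟩ := exists_ne (0 : W)
    refine hv ?_
    rw [← hπeι v, ← hψ, tr_apply, map_sum]
    rw [sum_eq_sum_fixed (p := p) (P := P) (fun z : W => by rw [← Nat.cast_smul_eq_nsmul k,
      CharP.cast_eq_zero, zero_smul]) (IsPGroup.of_card (by rw [hPp, pow_one])) _ (fun u g => ?_)]
    · rw [finsum_mem_congr (Set.eq_empty_of_forall_notMem fun g hg => ?_) (fun _ _ => rfl),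
        finsum_mem_empty]
      obtain ⟨u, hu1⟩ : ∃ u : P, u ≠ 1 := by
        haveI : Nontrivial P := Finite.one_lt_card_iff_nontrivial.1 (hPp.symm ▸ hp.out.one_lt)
        exact exists_ne _
      exact hu1 (Subtype.ext (mul_eq_right.1 (hg u)))
    · show π (ρ ((u : G) * g) (ψ (ρ ((u : G) * g)⁻¹ (ι v)))) = π (ρ g (ψ (ρ g⁻¹ (ι v))))
      have hu : (u : G) ∈ N := hPN u.2
      have h1 : ρ ((u : G) * g)⁻¹ (ι v) = ρ g⁻¹ (ι v) := by
        rw [mul_inv_rev, map_mul, Module.End.mul_apply]
        refine congrArg _ ?_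
        have := hρι (⟨(u : G), hu⟩⁻¹ : N) v
        rw [hτP _ (P.inv_mem u.2), Module.End.one_apply] at this
        exact this
      rw [h1]
      simp only [π, LinearMap.comp_apply, Submodule.subtype_apply, LinearMap.proj_apply, hρ,
        one_mul]
      rw [(ψ _).2 ⟨(u : G), hu⟩ g, hτP _ u.2, Module.End.one_apply]
  obtain ⟨S, i1, i2, i3, σ, f, hf, hirr, hsurj, hfe, hft⟩ :=
    exists_simple_map ρ (act_classFun ρ hE) hee hnt
  refine ⟨S, i1, i2, i3, σ, f ∘ₗ ι, hirr, fun x => ?_, fun n v => ?_, ?_⟩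
  · obtain ⟨z, rfl⟩ := hsurj x
    rw [← hf.act ρ σ E z, hfe]
  · simp only [LinearMap.comp_apply]
    rw [← hρι, hf]
  · rintro ⟨ψ, hψ⟩
    refine hft ?_
    have hkey : ∀ v, f (ι v) = ∑ n : N, σ (n : G) (ψ (τ n⁻¹ v)) := fun v => by
      rw [← LinearMap.comp_apply, ← hψ, tr_apply]
      rfl
    refine ⟨ψ ∘ₗ π, LinearMap.ext fun x => ?_⟩
    -- coset representatives
    let rp : G → Prop := fun g =>
      (Quotient.mk'' g : Quotient (QuotientGroup.rightRel N)).out = g
    let h : G → W := fun g => if rp g then (x : G → W) g else 0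
    have hx : x = ∑ a, ρ a⁻¹ (ι (h a)) := by
      refine Subtype.ext (funext fun y => ?_)
      simp only [AddSubmonoidClass.coe_finset_sum, Finset.sum_apply, hρ]
      set q : Quotient (QuotientGroup.rightRel N) := Quotient.mk'' y with hq
      have hyq : y * q.out⁻¹ ∈ N :=
        QuotientGroup.rightRel_apply.1 (Quotient.exact' (Quotient.out_eq' q))
      rw [Finset.sum_eq_single q.out (fun a _ ha => ?_) (fun h => absurd (Finset.mem_univ _) h)]
      · have hr : rp q.out := by
          show (Quotient.mk'' q.out : Quotient (QuotientGroup.rightRel N)).out = q.out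
          rw [Quotient.out_eq']
        simp only [h, if_pos hr]
        have := hιN ((x : G → W) q.out) ⟨y * q.out⁻¹, hyq⟩
        rw [this, ← x.2 ⟨y * q.out⁻¹, hyq⟩ q.out]
        simp
      · by_cases hr : rp a
        · refine hι0 _ _ fun hn => ha ?_
          rw [hq, ← hr]
          exact congrArg Quotient.out (Quotient.sound' (QuotientGroup.rightRel_apply.2 hn))
        · simp [h, if_neg hr]
    rw [hx, map_sum, map_sum]
    refine Finset.sum_congr rfl fun a _ => ?_
    rw [hf, hkey, map_sum, tr_apply]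
    rw [← Finset.sum_subset (Finset.subset_univ (Finset.univ.filter (fun g => a * g ∈ N)))
      (fun g _ hg => by
        simp only [π, LinearMap.comp_apply, Submodule.subtype_apply, LinearMap.proj_apply, hρ,
          one_mul]
        rw [hι0 _ _ (fun h => (by simpa using hg : ¬ a * g ∈ N) ((N.inv_mem_iff).1 (by
          simpa [mul_inv_rev] using h))), map_zero, map_zero])]
    refine Finset.sum_bij' (fun g hg => (⟨a * g, (Finset.mem_filter.1 hg).2⟩ : N))
      (fun n _ => a⁻¹ * (n : G)) (fun _ _ => Finset.mem_univ _)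
      (fun n _ => by simp) (fun g _ => by simp) (fun n _ => Subtype.ext (by simp)) fun g hg => ?_
    have hgN : a * g ∈ N := (Finset.mem_filter.1 hg).2
    simp only [π, LinearMap.comp_apply, Submodule.subtype_apply, LinearMap.proj_apply, hρ,
      one_mul]
    rw [← Module.End.mul_apply, ← map_mul]
    congr 2
    · simp
    · have := hιN (h a) (⟨a * g, hgN⟩⁻¹ : N)
      simpa [mul_inv_rev] using this

end existence

end Cfsg.Agent.Char.CycGreen
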