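import Cfsg.Agent.Lib.Char.CycGreenLift
import Cfsg.Agent.Lib.Char.CycGreenStable
import Cfsg.Agent.Lib.Char.CycGreenSimple

/-!
Two different local simple modules cannot both map into the same simple module by maps which are not
traces from the trivial subgroup.
-/

namespace Cfsg.Agent.Char.CycGreen

open Cfsg.Agent.Char.CycMod

set_option linter.unusedSectionVars false
set_option linter.style.haveILetI false

universe u v w

variable {G : Type u} [Group G] [Fintype G] {k : Type v} [Field k]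

/-- Conjugation of the group algebra of a normalized subgroup. -/
noncomputable def conjAlg (k : Type v) [Field k] {C N : Subgroup G}
    (hN : ∀ g ∈ N, ∀ c ∈ C, g * c * g⁻¹ ∈ C) (g : N) : MonoidAlgebra k C ≃ₐ[k] MonoidAlgebra k C :=
  MonoidAlgebra.domCongr k k
    { toFun := fun c => ⟨(g : G) * c * (g : G)⁻¹, hN g g.2 c c.2⟩
      invFun := fun c => ⟨(g : G)⁻¹ * c * (g : G), by
        simpa using hN (g : G)⁻¹ (N.inv_mem g.2) c c.2⟩
      left_inv := fun c => Subtype.ext (by simp [mul_assoc])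
      right_inv := fun c => Subtype.ext (by simp [mul_assoc])
      map_mul' := fun a b => Subtype.ext (by simp [mul_assoc]) }

theorem conjAlg_single {C N : Subgroup G} (hN : ∀ g ∈ N, ∀ c ∈ C, g * c * g⁻¹ ∈ C) (g : N) (c : C)
    (r : k) : conjAlg k hN g (MonoidAlgebra.single c r) =
      MonoidAlgebra.single ⟨(g : G) * c * (g : G)⁻¹, hN g g.2 c c.2⟩ r := by
  simp [conjAlg]

variable {S : Type*} [AddCommGroup S] [Module k S] (σ : G →* Module.End k S)

/-- The action of the group algebra of a subgroup. -/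
noncomputable def liftC (C : Subgroup G) : MonoidAlgebra k C →ₐ[k] Module.End k S :=
  MonoidAlgebra.lift k (Module.End k S) C (σ.comp C.subtype)

theorem liftC_single (C : Subgroup G) (c : C) (r : k) :
    liftC σ C (MonoidAlgebra.single c r) = r • σ (c : G) := by
  simp [liftC]

theorem liftC_conj {C N : Subgroup G} (hN : ∀ g ∈ N, ∀ c ∈ C, g * c * g⁻¹ ∈ C) (g : N)
    (a : MonoidAlgebra k C) (x : S) :
    σ (g : G) (liftC σ C a x) = liftC σ C (conjAlg k hN g a) (σ (g : G) x) := by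
  induction a using MonoidAlgebra.induction_linear with
  | zero => simp
  | add a b ha hb => simp only [map_add, LinearMap.add_apply, ha, hb]
  | single c r =>
    rw [conjAlg_single, liftC_single, liftC_single, LinearMap.smul_apply, LinearMap.smul_apply,
      map_smul, ← Module.End.mul_apply, ← Module.End.mul_apply, ← map_mul, ← map_mul]
    congr 3
    simp

variable {C T : Subgroup G} [Fintype T] {W : Type w} [AddCommGroup W] [Module k W]
  (τ : T →* Module.End k W) (hCT : C ≤ T)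

theorem liftC_local {φ : W →ₗ[k] S} (hφ : LIntw σ τ φ) (a : MonoidAlgebra k C) (v : W) :
    φ (MonoidAlgebra.lift k (Module.End k W) C (τ.comp (Subgroup.inclusion hCT)) a v) =
      liftC σ C a (φ v) := by
  induction a using MonoidAlgebra.induction_linear with
  | zero => simp
  | add a b ha hb => simp only [map_add, LinearMap.add_apply, ha, hb]
  | single c r =>
    rw [liftC_single, MonoidAlgebra.lift_single, LinearMap.smul_apply, LinearMap.smul_apply,
      map_smul]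
    congr 1
    exact hφ (Subgroup.inclusion hCT c) v

variable {N : Subgroup G}

open scoped Classical in
/-- The two local maps can be told apart by an endomorphism commuting with `N`. -/
theorem exists_separating (hCT : C ≤ T) [Fintype (T ⧸ C.subgroupOf T)] (hTN : T ≤ N)
    (hN : ∀ g ∈ N, ∀ c ∈ C, g * c * g⁻¹ ∈ C) (hcard : ((C.relIndex T : ℕ) : k) ≠ 0)
    (H : UniData k (MonoidAlgebra k C))
    (hTe : ∀ g : N, (g : G) ∈ T → conjAlg k hN g H.e = H.e)
    (horth : ∀ g : N, (g : G) ∉ T → H.e * conjAlg k hN g H.e = 0)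
    {X Y : Submodule k S} (hXT : ∀ t : T, ∀ x ∈ X, σ (t : G) x ∈ X)
    (hYT : ∀ t : T, ∀ x ∈ Y, σ (t : G) x ∈ Y) (n : ℕ) (hX : X ≤ H.lay (liftC σ C) n)
    (hY : Y ≤ H.soc (liftC σ C)) (hd : Disjoint X (Y ⊔ H.lay (liftC σ C) (n + 1))) :
    ∃ π : Module.End k S, (∀ g ∈ N, ∀ x, π (σ g x) = σ g (π x)) ∧ (∀ x ∈ X, π x = x) ∧
      ∀ y ∈ Y, π y = 0 := by
  have hstab : ∀ (U : Submodule k S), (∀ t : T, ∀ x ∈ U, σ (t : G) x ∈ U) →
      ∀ a, ∀ v ∈ U, liftC σ C a v ∈ U := by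
    intro U hU a v hv
    induction a using MonoidAlgebra.induction_linear with
    | zero => simp
    | add a b ha hb => rw [map_add, LinearMap.add_apply]; exact add_mem ha hb
    | single c r =>
      rw [liftC_single, LinearMap.smul_apply]
      exact U.smul_mem _ (hU ⟨c, hCT c.2⟩ v hv)
  obtain ⟨Θ, hΘc, hΘe, hΘX, hΘY⟩ := H.exists_endo (liftC σ C) n (hstab X hXT) (hstab Y hYT) hX hY hd
  set εS : Module.End k S := liftC σ C H.e with hεS
  have hΘε : ∀ x, Θ (εS x) = Θ x := fun x => by rw [hεS, hΘc, hΘe]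
  -- average over `T`
  let σT : T →* Module.End k S := σ.comp T.subtype
  have hΘT : ∀ c ∈ C.subgroupOf T, ∀ x, Θ (σT c x) = σT c (Θ x) := by
    intro c hc x
    have h := hΘc (MonoidAlgebra.single (⟨(c : G), hc⟩ : C) (1 : k)) x
    rwa [liftC_single, one_smul] at h
  let ψ : Module.End k S :=
    ((C.relIndex T : ℕ) : k)⁻¹ • ∑ a : T ⧸ C.subgroupOf T, cj σT a.out Θ
  have hψT : ∀ t ∈ T, ∀ x, ψ (σ t x) = σ t (ψ x) := by
    intro t ht x
    simp only [ψ, LinearMap.smul_apply, LinearMap.sum_apply, map_smul, map_sum]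
    congr 1
    refine Fintype.sum_equiv (MulAction.toPerm (⟨t, ht⟩ : T)⁻¹) _ _ fun a => ?_
    rw [MulAction.toPerm_apply, cj_smul_coset σT hΘT, cj_apply σT (⟨t, ht⟩ : T)⁻¹, inv_inv,
      show σ t = σT (⟨t, ht⟩ : T) from rfl, rep_apply_inv σT]
  have hεT : ∀ t : T, ∀ x, σ (t : G) (εS x) = εS (σ (t : G) x) := fun t x => by
    have h := liftC_conj σ hN (⟨t, hTN t.2⟩ : N) H.e x
    rw [hTe ⟨t, hTN t.2⟩ t.2] at h
    exact h
  have hψε : ∀ x, ψ (εS x) = ψ x := fun x => by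
    simp only [ψ, LinearMap.smul_apply, LinearMap.sum_apply]
    congr 1
    refine Finset.sum_congr rfl fun a _ => ?_
    rw [cj_apply, cj_apply]
    show σT a.out (Θ (σ ((a.out⁻¹ : T) : G) (εS x))) = _
    rw [hεT, hΘε]
    rfl
  have hψX : ∀ x ∈ X, ψ x = x := fun x hx => by
    simp only [ψ, LinearMap.smul_apply, LinearMap.sum_apply]
    rw [Finset.sum_congr rfl fun a _ => by
        rw [cj_apply, hΘX (σT a.out⁻¹ x) (hXT a.out⁻¹ x hx), rep_apply_inv σT],
      Finset.sum_const, Finset.card_univ, ← Nat.card_eq_fintype_card, ← Subgroup.index_eq_card,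
      ← Nat.cast_smul_eq_nsmul k, smul_smul]
    show (((C.relIndex T : ℕ) : k)⁻¹ * ((C.relIndex T : ℕ) : k)) • x = x
    rw [inv_mul_cancel₀ hcard, one_smul]
  have hψY : ∀ y ∈ Y, ψ y = 0 := fun y hy => by
    simp only [ψ, LinearMap.smul_apply, LinearMap.sum_apply]
    rw [Finset.sum_eq_zero fun a _ => by rw [cj_apply, hΘY (σT a.out⁻¹ y) (hYT a.out⁻¹ y hy), map_zero],
      smul_zero]
  -- induce to `N`
  let σN : N →* Module.End k S := σ.comp N.subtype
  have hψN : ∀ c ∈ T.subgroupOf N, ∀ x, ψ (σN c x) = σN c (ψ x) := fun c hc => hψT _ hc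
  haveI : Fintype (N ⧸ T.subgroupOf N) := Fintype.ofFinite _
  let π : Module.End k S := ∑ s : N ⧸ T.subgroupOf N, cj σN s.out ψ
  have hsoc : ∀ x ∈ H.soc (liftC σ C), π x = ψ x := by
    intro x hx
    simp only [π, LinearMap.sum_apply]
    rw [Finset.sum_eq_single (QuotientGroup.mk 1) (fun s _ hs => ?_)
      (fun h => absurd (Finset.mem_univ _) h)]
    · have h1 : (((QuotientGroup.mk 1 : N ⧸ T.subgroupOf N).out : N) : G) ∈ T := by
        have h := QuotientGroup.eq.1 (QuotientGroup.out_eq' (QuotientGroup.mk 1 : N ⧸ T.subgroupOf N))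
        simpa [Subgroup.mem_subgroupOf] using h
      rw [cj_of_comm σN (hψN _ h1)]
    · have hnot : ((s.out⁻¹ : N) : G) ∉ T := by
        intro h
        refine hs ?_
        rw [← QuotientGroup.out_eq' s, QuotientGroup.eq]
        simpa [Subgroup.mem_subgroupOf] using h
      rw [cj_apply]
      show σN s.out (ψ (σ ((s.out⁻¹ : N) : G) x)) = 0
      rw [← hψε, ← ((H.mem_soc (liftC σ C)).1 hx).1, liftC_conj σ hN, hεS,
        ← Module.End.mul_apply (liftC σ C H.e), ← map_mul, horth _ hnot]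
      simp
  refine ⟨π, fun g hg x => ?_, fun x hx => ?_, fun y hy => ?_⟩
  · simp only [π, LinearMap.sum_apply, map_sum]
    refine Fintype.sum_equiv (MulAction.toPerm (⟨g, hg⟩ : N)⁻¹) _ _ fun a => ?_
    rw [MulAction.toPerm_apply, cj_smul_coset σN hψN, cj_apply σN (⟨g, hg⟩ : N)⁻¹, inv_inv,
      show σ g = σN (⟨g, hg⟩ : N) from rfl, rep_apply_inv σN]
  · rw [hsoc x (H.lay_le_soc _ n (hX hx)), hψX x hx]
  · rw [hsoc y (hY hy), hψY y hy]

open scoped Classical in
/-- Two local modules without maps between them have separated images, in one of the two orders. -/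
theorem exists_sep_maps [Fintype (T ⧸ C.subgroupOf T)] (hTN : T ≤ N)
    (hN : ∀ g ∈ N, ∀ c ∈ C, g * c * g⁻¹ ∈ C) (hcard : ((C.relIndex T : ℕ) : k) ≠ 0)
    (H : UniData k (MonoidAlgebra k C))
    (hTe : ∀ g : N, (g : G) ∈ T → conjAlg k hN g H.e = H.e)
    (horth : ∀ g : N, (g : G) ∉ T → H.e * conjAlg k hN g H.e = 0)
    (τ₁ τ₂ : T →* Module.End k W)
    (hirr₁ : Irr (τ₁.comp (Subgroup.inclusion hCT))) (hirr₂ : Irr (τ₂.comp (Subgroup.inclusion hCT)))
    (he₁ : ∀ v, MonoidAlgebra.lift k (Module.End k W) C (τ₁.comp (Subgroup.inclusion hCT)) H.e v = v)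
    (he₂ : ∀ v, MonoidAlgebra.lift k (Module.End k W) C (τ₂.comp (Subgroup.inclusion hCT)) H.e v = v)
    (hhom : ∀ f : W →ₗ[k] W, (∀ t v, f (τ₁ t v) = τ₂ t (f v)) → f = 0)
    (hhom' : ∀ f : W →ₗ[k] W, (∀ t v, f (τ₂ t v) = τ₁ t (f v)) → f = 0)
    {φ₁ φ₂ : W →ₗ[k] S} (h₁ : LIntw σ τ₁ φ₁) (h₂ : LIntw σ τ₂ φ₂) (h₁0 : φ₁ ≠ 0) (h₂0 : φ₂ ≠ 0) :
    ∃ π : Module.End k S, (∀ g ∈ N, ∀ x, π (σ g x) = σ g (π x)) ∧
      ((π ∘ₗ φ₁ = φ₁ ∧ π ∘ₗ φ₂ = 0) ∨ (π ∘ₗ φ₂ = φ₂ ∧ π ∘ₗ φ₁ = 0)) := by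
  set Φ := liftC σ C with hΦ
  have hlayT : ∀ m, ∀ t : T, ∀ x ∈ H.lay Φ m, σ (t : G) x ∈ H.lay Φ m := fun m t x hx =>
    H.lay_invariant Φ (conjAlg k hN ⟨t, hTN t.2⟩) (hTe ⟨t, hTN t.2⟩ t.2) (σ (t : G))
      (fun a v => liftC_conj σ hN ⟨t, hTN t.2⟩ a v) m hx
  have hbasic : ∀ (τ : T →* Module.End k W) (φ : W →ₗ[k] S),
      Irr (τ.comp (Subgroup.inclusion hCT)) →
      (∀ v, MonoidAlgebra.lift k (Module.End k W) C (τ.comp (Subgroup.inclusion hCT)) H.e v = v) →
      LIntw σ τ φ → φ ≠ 0 →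
      Function.Injective φ ∧ (∀ t : T, ∀ x ∈ LinearMap.range φ, σ (t : G) x ∈ LinearMap.range φ) ∧
        ∃ n, LinearMap.range φ ≤ H.lay Φ n ∧ ¬ LinearMap.range φ ≤ H.lay Φ (n + 1) := by
    intro τ φ hirr he hφ h0
    have hinj : Function.Injective φ := by
      rw [← LinearMap.ker_eq_bot]
      refine (hirr.2 (LinearMap.ker φ) fun c v hv => ?_).resolve_right fun h =>
        h0 (LinearMap.ker_eq_top.1 h)
      rw [LinearMap.mem_ker] at hv ⊢
      show φ (τ (Subgroup.inclusion hCT c) v) = 0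
      rw [hφ, hv, map_zero]
    have hsoc : LinearMap.range φ ≤ H.soc Φ := by
      rintro _ ⟨v, rfl⟩
      refine ⟨?_, fun a ha => ?_⟩
      · rw [hΦ, ← liftC_local σ τ hCT hφ, he]
      · rw [hΦ, ← liftC_local σ τ hCT hφ, H.two_one_eq_zero _ (fun U hU => hirr.2 U fun c v hv => by
          have h := hU (MonoidAlgebra.single c 1) v hv
          rwa [MonoidAlgebra.lift_single, one_smul] at h) ha]
        simp
    refine ⟨hinj, fun t x hx => ?_, ?_⟩
    · obtain ⟨v, rfl⟩ := hx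
      exact ⟨τ t v, hφ t v⟩
    · let P : ℕ → Prop := fun m => LinearMap.range φ ≤ H.lay Φ m
      have hP0 : P 0 := hsoc.trans (H.soc_le_lay_zero Φ)
      have hPN : ¬ P H.N := fun h => h0 (LinearMap.range_eq_bot.1 (by
        simp only [P, H.lay_N] at h
        exact le_bot_iff.1 h))
      refine ⟨Nat.findGreatest P H.N, Nat.findGreatest_spec (Nat.zero_le _) hP0, fun h => ?_⟩
      by_cases hle : Nat.findGreatest P H.N + 1 ≤ H.N
      · exact absurd h (Nat.findGreatest_is_greatest (lt_add_one _) hle)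
      · have : Nat.findGreatest P H.N = H.N := le_antisymm (Nat.findGreatest_le _) (by omega)
        exact hPN (this ▸ Nat.findGreatest_spec (P := P) (Nat.zero_le H.N) hP0)
  obtain ⟨-, hT₁, n₁, hn₁, hn₁'⟩ := hbasic τ₁ φ₁ hirr₁ he₁ h₁ h₁0
  obtain ⟨-, hT₂, n₂, hn₂, hn₂'⟩ := hbasic τ₂ φ₂ hirr₂ he₂ h₂ h₂0
  have hmono : ∀ {m m' : ℕ}, m ≤ m' → H.lay Φ m' ≤ H.lay Φ m := by
    intro m m' h
    induction h with
    | refl => exact le_rfl
    | @step m'' _ ih =>
      refine le_trans (inf_le_inf_left _ (iSup_le fun a => ?_)) ih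
      exact le_iSup (fun b : H.two m'' => LinearMap.range (Φ (b : MonoidAlgebra k C)))
        ⟨a, H.two_succ_le m'' a.2⟩
  -- the main step
  have main : ∀ (τ τ' : T →* Module.End k W) (φ φ' : W →ₗ[k] S) (n n' : ℕ),
      Irr (τ.comp (Subgroup.inclusion hCT)) → Irr (τ'.comp (Subgroup.inclusion hCT)) →
      (∀ f : W →ₗ[k] W, (∀ t v, f (τ t v) = τ' t (f v)) → f = 0) →
      LIntw σ τ φ → LIntw σ τ' φ' →
      (∀ t : T, ∀ x ∈ LinearMap.range φ, σ (t : G) x ∈ LinearMap.range φ) →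
      (∀ t : T, ∀ x ∈ LinearMap.range φ', σ (t : G) x ∈ LinearMap.range φ') →
      n ≤ n' → LinearMap.range φ ≤ H.lay Φ n → ¬ LinearMap.range φ ≤ H.lay Φ (n + 1) →
      LinearMap.range φ' ≤ H.lay Φ n' → ¬ LinearMap.range φ' ≤ H.lay Φ (n' + 1) →
      ∃ π : Module.End k S, (∀ g ∈ N, ∀ x, π (σ g x) = σ g (π x)) ∧
        π ∘ₗ φ = φ ∧ π ∘ₗ φ' = 0 := by
    intro τ τ' φ φ' n n' hi hi' hh hφ hφ' hT hT' hnn hn hn₀ hn' hn₀'
    set L := H.lay Φ (n + 1) with hL
    have hLT : ∀ t : T, ∀ x ∈ L, σ (t : G) x ∈ L := hlayT (n + 1)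
    have hsub : ∀ (τ : T →* Module.End k W) (φ : W →ₗ[k] S),
        Irr (τ.comp (Subgroup.inclusion hCT)) → LIntw σ τ φ → ∀ U : Submodule k S,
        (∀ t : T, ∀ x ∈ U, σ (t : G) x ∈ U) → U.comap φ = ⊥ ∨ LinearMap.range φ ≤ U := by
      intro τ φ hi hφ U hU
      refine (hi.2 (U.comap φ) fun c v hv => ?_).imp_right fun h => ?_
      · show φ (τ (Subgroup.inclusion hCT c) v) ∈ U
        rw [hφ]
        exact hU _ _ hv
      · rintro _ ⟨v, rfl⟩
        exact (h ▸ Submodule.mem_top : v ∈ U.comap φ)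
    have hd : Disjoint (LinearMap.range φ) (LinearMap.range φ' ⊔ L) := by
      rcases hsub τ φ hi hφ (LinearMap.range φ' ⊔ L) (fun t x hx => by
        obtain ⟨y, hy, z, hz, rfl⟩ := Submodule.mem_sup.1 hx
        rw [map_add]
        exact Submodule.add_mem_sup (hT' t y hy) (hLT t z hz)) with h | h
      · rw [Submodule.disjoint_def]
        rintro _ ⟨v, rfl⟩ hv
        have : v ∈ (LinearMap.range φ' ⊔ L).comap φ := hv
        rw [h, Submodule.mem_bot] at this
        rw [this, map_zero]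
      exfalso
      rcases lt_or_eq_of_le hnn with hlt | heq
      · exact hn₀ (h.trans (sup_le (hn'.trans (hmono hlt)) le_rfl))
      subst heq
      have hinj : LinearMap.ker (L.mkQ ∘ₗ φ') = ⊥ := by
        rw [LinearMap.ker_comp, Submodule.ker_mkQ]
        exact (hsub τ' φ' hi' hφ' L hLT).resolve_right hn₀'
      obtain ⟨g, hg⟩ := (L.mkQ ∘ₗ φ').exists_leftInverse_of_injective hinj
      have hg' : ∀ w, g (L.mkQ (φ' w)) = w := fun w => LinearMap.congr_fun hg w
      let f : W →ₗ[k] W := g ∘ₗ L.mkQ ∘ₗ φ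
      have hf : ∀ v, φ v - φ' (f v) ∈ L := by
        intro v
        obtain ⟨_, ⟨w, rfl⟩, z, hz, hwz⟩ := Submodule.mem_sup.1 (h (LinearMap.mem_range_self φ v))
        have hfv : f v = w := by
          show g (L.mkQ (φ v)) = w
          rw [← hwz, map_add, show L.mkQ z = 0 from (Submodule.Quotient.mk_eq_zero L).2 hz, add_zero,
            hg']
        rw [hfv, ← hwz, add_sub_cancel_left]
        exact hz
      have hf0 : f = 0 := hh f fun t v => by
        have h3 := L.sub_mem (hLT t _ (hf v)) (hf (τ t v))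
        rw [map_sub, hφ, ← hφ', sub_sub_sub_cancel_left, ← map_sub] at h3
        have h4 : (f (τ t v) - τ' t (f v)) ∈ LinearMap.ker (L.mkQ ∘ₗ φ') := by
          rw [LinearMap.ker_comp, Submodule.ker_mkQ]
          exact h3
        rw [hinj, Submodule.mem_bot, sub_eq_zero] at h4
        exact h4
      refine hn₀ ?_
      rintro _ ⟨v, rfl⟩
      simpa [hf0] using hf v
    obtain ⟨π, hπN, hπX, hπY⟩ := exists_separating σ hCT hTN hN hcard H hTe horth hT hT' n hn
      (hn'.trans (H.lay_le_soc Φ n')) hd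
    exact ⟨π, hπN, LinearMap.ext fun v => hπX _ (LinearMap.mem_range_self φ v),
      LinearMap.ext fun v => hπY _ (LinearMap.mem_range_self φ' v)⟩
  rcases le_total n₁ n₂ with h | h
  · obtain ⟨π, h1, h2, h3⟩ :=
      main τ₁ τ₂ φ₁ φ₂ n₁ n₂ hirr₁ hirr₂ hhom h₁ h₂ hT₁ hT₂ h hn₁ hn₁' hn₂ hn₂'
    exact ⟨π, h1, Or.inl ⟨h2, h3⟩⟩
  · obtain ⟨π, h1, h2, h3⟩ :=
      main τ₂ τ₁ φ₂ φ₁ n₂ n₁ hirr₂ hirr₁ hhom' h₂ h₁ hT₂ hT₁ h hn₂ hn₂' hn₁ hn₁'
    exact ⟨π, h1, Or.inr ⟨h2, h3⟩⟩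

end Cfsg.Agent.Char.CycGreen
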