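import Cfsg.Agent.Lib.Char.PairFusion
import Cfsg.Agent.Lib.Char.PairSub
import Cfsg.Agent.Lib.Block.MaximalPair
import Cfsg.Agent.Lib.Fus.Saturation

/-!
The fusion system of a block exists and is saturated.
-/

namespace Cfsg.Agent.Char.BP

open Cfsg.Agent.Block
open scoped Pointwise

set_option linter.unusedSectionVars false
set_option linter.style.haveILetI false

universe u

variable {G : Type u} [Group G] [Fintype G] {p : ℕ} {M : Ideal AlgInt}
variable {B : Set (IrrCharacter G)} {P : Subgroup G} {e : Set (IrrCharacter (CG P))}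

theorem cjI_self {a : BrauerPairIdx G} {y : G} (hy : y ∈ a.1) : cjI y a = a :=
  cjI_eq_of_stab (self_le_stab a hy)

/-- The maps of the fusion system of a block. -/
def fsMem (p : ℕ) (M : Ideal AlgInt) (x : BrauerPairIdx G) (Q : Subgroup G) (φ : Q →* G) : Prop :=
  ∃ (a : BrauerPairIdx G) (g : G), a.1 = Q ∧ LE p M a x ∧ LE p M (cjI g a) x ∧
    ∀ u : Q, φ u = g * (u : G) * g⁻¹

/-- The fusion system of a block on a maximal pair. -/
noncomputable def blockFS [Fact p.Prime] (hM : IsPModular p M) {x : BrauerPairIdx G}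
    (hx : IsPr p M x) : FusionSystem x.1 where
  Hom Q := {φ | fsMem p M x Q φ}
  le_of_mem := by
    rintro Q φ ⟨a, g, rfl, ha, hg, hφ⟩
    exact ⟨le_subgroup ha, fun u => hφ u ▸ le_subgroup hg (conj_mem_map_conj.2 u.2)⟩
  injective_of_mem := by
    rintro Q φ ⟨a, g, -, -, -, hφ⟩ u v huv
    rw [hφ, hφ] at huv
    exact Subtype.ext (mul_left_cancel (mul_right_cancel huv))
  conj_mem := by
    intro Q g hQ hg
    obtain ⟨a, ha, hle⟩ := exists_le hM hx hQ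
    refine ⟨a, g, ha, hle, ?_, fun _ => rfl⟩
    have h1 := le_cjI hM g hle
    rwa [cjI_self hg] at h1
  comp_mem := by
    rintro Q R φ ψ ⟨a, g, rfl, ha, hg, hφ⟩ ⟨b, k, rfl, hb, hk, hψ⟩ h
    have hle : (cjI g a).1 ≤ b.1 := by
      rintro _ ⟨u, hu, rfl⟩
      show g * u * g⁻¹ ∈ b.1
      exact hφ ⟨u, hu⟩ ▸ h ⟨u, hu⟩
    obtain ⟨a', ha', hab⟩ := exists_le hM (le_isPr hb hx) hle
    obtain rfl : a' = cjI g a := le_unique hM (hab.trans hb) hg ha'
    refine ⟨a, k * g, rfl, ha, ?_, fun u => ?_⟩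
    · rw [← cjI_cjI]
      exact (le_cjI hM k hab).trans hk
    · show ψ (φ.codRestrict b.1 h u) = k * g * (u : G) * (k * g)⁻¹
      rw [hψ]
      show k * φ u * k⁻¹ = _
      rw [hφ]
      group
  inv_mem := by
    rintro Q φ ⟨a, g, rfl, ha, hg, hφ⟩
    refine ⟨conjHom φ.range g⁻¹,
      ⟨cjI g a, g⁻¹, (range_of_conj hφ).symm, hg, ?_, fun _ => rfl⟩, fun u => ?_⟩
    · rw [cjI_inv_cancel]
      exact ha
    · show g⁻¹ * φ u * g⁻¹⁻¹ = (u : G)
      rw [hφ]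
      group

theorem isBlockFS [Fact p.Prime] (hM : IsPModular p M)
    (hx : IsMx p M B (⟨P, e⟩ : BrauerPairIdx G)) :
    IsBlockFusionSystemOn p M B P e (blockFS hM (x := ⟨P, e⟩) hx.1.1) := by
  refine ⟨hx, fun Q φ => ⟨?_, ?_⟩⟩
  · rintro ⟨⟨Q', f⟩, g, hQ, ha, hg, hφ⟩
    obtain rfl : Q' = Q := hQ
    exact ⟨le_subgroup ha, g, hφ, le_subgroup hg, f, ha, hg⟩
  · rintro ⟨-, g, hφ, -, f, ha, hg⟩
    exact ⟨⟨Q, f⟩, g, rfl, ha, hg, hφ⟩

theorem isMap_iff {F : FusionSystem P} (hF : IsBlockFusionSystemOn p M B P e F) {Q : Subgroup G}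
    {f : G → G} :
    Fus.IsMap F Q f ↔ ∃ (a : BrauerPairIdx G) (g : G), a.1 = Q ∧
      LE p M a (⟨P, e⟩ : BrauerPairIdx G) ∧ LE p M (cjI g a) (⟨P, e⟩ : BrauerPairIdx G) ∧
      ∀ u ∈ Q, f u = g * u * g⁻¹ := by
  constructor
  · rintro ⟨φ, hφ, hφf⟩
    obtain ⟨-, g, hg, -, f', hf, hfg⟩ := (hF.2 Q φ).1 hφ
    exact ⟨⟨Q, f'⟩, g, rfl, hf, hfg, fun u hu => (hφf ⟨u, hu⟩).symm.trans (hg ⟨u, hu⟩)⟩
  · rintro ⟨⟨Q', f'⟩, g, hQ, ha, hg, hf⟩
    obtain rfl : Q' = Q := hQ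
    exact ⟨conjHom Q' g, (hF.2 Q' _).2 ⟨le_subgroup ha, g, fun _ => rfl, le_subgroup hg, f', ha, hg⟩,
      fun u => (hf u u.2).symm⟩

theorem p_element_mem_autInduced [Fact p.Prime] (hM : IsPModular p M) {F : FusionSystem P}
    (hF : IsBlockFusionSystemOn p M B P e F) {α : MulAut P} (hα : α ∈ F.autGroup P)
    (hord : ∃ k : ℕ, α ^ p ^ k = 1) : α ∈ autInducedBy P P := by
  have hp : p.Prime := Fact.out
  obtain ⟨k, hk⟩ := hord
  obtain ⟨a, g, haP, ha, hg, hαg⟩ := (isMap_iff hF).1 ((Fus.mem_autGroup le_rfl).1 hα)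
  have hax : a = (⟨P, e⟩ : BrauerPairIdx G) :=
    eq_of_le_of_subgroup hM ha (show P ≤ a.1 from haP.ge)
  subst hax
  have hgx : cjI g (⟨P, e⟩ : BrauerPairIdx G) = (⟨P, e⟩ : BrauerPairIdx G) := by
    refine eq_of_le_of_subgroup hM hg ?_
    show P ≤ P.map (MulAut.conj g).toMonoidHom
    exact (Subgroup.eq_of_le_of_card_ge (le_subgroup hg) (card_map_conj g P).ge).ge
  have hgN : g ∈ Subgroup.normalizer (P : Set G) := Subgroup.mem_normalizer_iff.2 fun v => by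
    have h1 : P.map (MulAut.conj g).toMonoidHom = P := congrArg Sigma.fst hgx
    conv_rhs => rw [← h1]
    exact conj_mem_map_conj.symm
  have hgs : g ∈ stab (⟨P, e⟩ : BrauerPairIdx G) := mem_stab_of_cjI hgN hgx
  set c := P.normalizerMonoidHom with hc
  have hαc : α = c ⟨g, hgN⟩ := MulEquiv.ext fun u => Subtype.ext (by
    rw [← Fus.autFun_coe, hαg u u.2, hc, Fus.normalizerMonoidHom_apply])
  obtain ⟨u, v, huv, hcomm, ⟨i, hi⟩, hv, hu', hv'⟩ := exists_pPart_zpowers (p := p) g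
  have huN : u ∈ Subgroup.normalizer (P : Set G) := Subgroup.zpowers_le.2 hgN hu'
  have hvN : v ∈ Subgroup.normalizer (P : Set G) := Subgroup.zpowers_le.2 hgN hv'
  have hus : u ∈ stab (⟨P, e⟩ : BrauerPairIdx G) := Subgroup.zpowers_le.2 hgs hu'
  obtain ⟨n, hn⟩ := Subgroup.mem_zpowers_iff.1 hv'
  have hcv : c ⟨v, hvN⟩ = 1 := by
    have h1 : c ⟨v, hvN⟩ = α ^ n := by
      rw [hαc, ← map_zpow]
      exact congrArg c (Subtype.ext (by simp [hn]))
    have h2 : orderOf (c ⟨v, hvN⟩) ∣ orderOf v := by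
      rw [← Subgroup.orderOf_mk v hvN]
      exact orderOf_map_dvd c _
    have h3 : orderOf (c ⟨v, hvN⟩) ∣ p ^ k := by
      rw [h1]
      exact (orderOf_dvd_of_mem_zpowers ⟨n, rfl⟩).trans (orderOf_dvd_of_pow_eq_one hk)
    exact orderOf_eq_one_iff.1 (Nat.eq_one_of_dvd_coprimes
      (Nat.Coprime.pow_right k (Nat.coprime_comm.1 (hp.coprime_iff_not_dvd.2 hv))) h2 h3)
  have hαu : α = c ⟨u, huN⟩ := by
    rw [hαc, show (⟨g, hgN⟩ : Subgroup.normalizer (P : Set G)) = ⟨u, huN⟩ * ⟨v, hvN⟩ from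
      Subtype.ext huv.symm, map_mul, hcv, mul_one]
  obtain ⟨θ, -, -, -, hst⟩ := (maximal_pair_iff hM P e hF.1.1.1).1 ⟨B, hF.1⟩
  have hmem := hst u huN ((mem_stab_iff hM (a := ⟨P, e⟩) hF.1.1.1.2).1 hus).2 ⟨i, hi⟩
  rw [← SetLike.mem_coe, Subgroup.coe_mul_of_right_le_normalizer_left P _
    (Subgroup.centralizer_le_normalizer _)] at hmem
  obtain ⟨q, hq, z, hz, rfl⟩ := Set.mem_mul.1 hmem
  refine Fus.mem_autInducedBy.2 ⟨q, hq, fun w => ?_⟩
  rw [hαu, hc, Fus.normalizerMonoidHom_apply]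
  have hzw : z * (w : G) * z⁻¹ = w := by
    rw [← Subgroup.mem_centralizer_iff.1 hz w w.2, mul_inv_cancel_right]
  calc q * z * (w : G) * (q * z)⁻¹ = q * (z * (w : G) * z⁻¹) * q⁻¹ := by group
    _ = q * (w : G) * q⁻¹ := by rw [hzw]

theorem fullyAutomized_self [Fact p.Prime] (hM : IsPModular p M) {F : FusionSystem P}
    (hF : IsBlockFusionSystemOn p M B P e F) : F.IsFullyAutomized p P := by
  refine ⟨le_rfl,
    { toSubgroup := (autInducedBy P P).subgroupOf (F.autGroup P)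
      isPGroup' := (Fus.isPGroup_autInducedBy hF.1.1.1.1 P).comap_subtype
      is_maximal' := fun {Q} hQ hle => le_antisymm (fun α hα => ?_) hle }, rfl⟩
  obtain ⟨k, hk⟩ := hQ ⟨α, hα⟩
  refine p_element_mem_autInduced hM hF α.2 ⟨k, ?_⟩
  exact congrArg Subtype.val (congrArg Subtype.val hk)

theorem receptive_of_fullyNormalized [Fact p.Prime] (hM : IsPModular p M) {F : FusionSystem P}
    (hF : IsBlockFusionSystemOn p M B P e F) {Qb : Subgroup G} (hfn : F.IsFullyNormalized Qb) :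
    F.IsReceptive Qb := by
  classical
  have hx : IsMx p M B (⟨P, e⟩ : BrauerPairIdx G) := hF.1
  refine Fus.receptive_of hfn.1 fun R f hf hfQ N hRN hN => ?_
  obtain ⟨a, g, rfl, ha, hg, hfg⟩ := (isMap_iff hF).1 hf
  have hQb : (cjI g a).1 = Qb := by
    rw [← hfQ, Fus.fimg_congr hfg, Fus.fimg_conj_eq_map]
    rfl
  subst hQb
  set b := cjI g a with hbdef
  have hbp : IsPr p M b := le_isPr hg hx.1.1
  have hmax := (fullyNormalized_iff_nMax hM hF hg).1 hfn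
  set NP := P ⊓ Subgroup.normalizer (b.1 : Set G) with hNP
  set L := NP ⊔ CG b.1 with hL
  have hQL : b.1 ≤ L := le_sup_of_le_left (le_inf (le_subgroup hg) Subgroup.le_normalizer)
  have hLs : L ≤ stab b := sup_le (big_norm hM hx.1.1 hg).2.2.1 (cg_le_stab b)
  have hNPL : NP ≤ L := le_sup_left
  have hCL : CG b.1 ≤ L := le_sup_right
  letI := Fintype.ofFinite L
  -- the pairs at `N` and at the normalizer
  obtain ⟨r₁, hr₁, hst₁, hr₁x⟩ := step_below hM hx.1.1 ha (R := N) hRN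
    (fun v hv => ((hN v).1 hv).1) (fun v hv => ((hN v).1 hv).2.1)
  obtain ⟨r₂, hr₂, hst₂, hr₂x⟩ := step_below hM hx.1.1 hg (R := NP)
    (le_inf (le_subgroup hg) Subgroup.le_normalizer) inf_le_left inf_le_right
  set k := cjI g r₁ with hkdef
  have hstk : Step p M b k := step_cjI hM g hst₁
  have hkL : k.1 ≤ L := by
    intro v hv
    have hv' : g⁻¹ * v * g ∈ N := hr₁ ▸ mem_map_conj.1 hv
    obtain ⟨-, hvn, h, hh, he⟩ := (hN _).1 hv'
    have hvb : v ∈ Subgroup.normalizer (b.1 : Set G) := hstk.2.2.2.1 hv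
    have hcent : h⁻¹ * v ∈ CG b.1 := by
      refine Subgroup.mem_centralizer_iff.2 fun y hy => ?_
      have hx0 : g⁻¹ * y * g ∈ a.1 := mem_map_conj.1 hy
      have h1 := he _ hx0
      rw [hfg _ hx0, hfg _ ((Subgroup.mem_normalizer_iff.1 hvn _).1 hx0)] at h1
      have h2 : v * y * v⁻¹ = h * y * h⁻¹ := by
        rw [show v * y * v⁻¹ = g * (g⁻¹ * v * g * (g⁻¹ * y * g) * (g⁻¹ * v * g)⁻¹) * g⁻¹ by group,
          h1, show g * (g⁻¹ * y * g) * g⁻¹ = y by group]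
      calc y * (h⁻¹ * v) = h⁻¹ * (h * y * h⁻¹) * v := by group
        _ = h⁻¹ * v * y := by rw [← h2]; group
    have hhN : h ∈ NP := ⟨hh, by
      rw [show h = v * (h⁻¹ * v)⁻¹ by group]
      exact Subgroup.mul_mem _ hvb (Subgroup.inv_mem _ (cg_le_normalizer _ hcent))⟩
    rw [show v = h * (h⁻¹ * v) by group]
    exact mul_mem (hNPL hhN) (hCL hcent)
  have hkC : CG k.1 ≤ L := (Subgroup.centralizer_le hstk.2.2.1).trans hCL
  have hr₂L : r₂.1 ≤ L := hr₂ ▸ hNPL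
  have hr₂C : CG r₂.1 ≤ L := (Subgroup.centralizer_le hst₂.2.2.1).trans hCL
  -- the block of `L`
  obtain ⟨FL, hFL, hFLc⟩ := exists_block_between hM hbp hQL hCL hLs
  have hofb : ∀ z : BrauerPairIdx G, ∀ (h1 : z.1 ≤ L) (h2 : CG z.1 ≤ L),
      Step p M b z → OfB p M FL (dn L z h1 h2) := fun z h1 h2 hz => by
    refine ofB_of_holds hFL (isPr_dn hM hz.2.1 h1 h2) ?_
    rw [show blockCoeff FL = res L (be b) from funext hFLc]
    exact (holds_dn z h1 h2 _).2 ((step_iff hM).1 hz).2.2.2.2.2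
  obtain ⟨D, hD⟩ := exists_isDefectGroup hM hFL
  have hmx₂ : IsMx p M FL (dn L r₂ hr₂L hr₂C) := by
    refine max_of_defect hM (hofb r₂ hr₂L hr₂C hst₂)
      (defect_of_card_le hM (hofb r₂ hr₂L hr₂C hst₂) hD ?_)
    obtain ⟨S, hS, -, hScard⟩ := exists_big_defect hM hbp hQL hLs hFL hFLc
    rw [dn_fst, Nat.card_congr (Subgroup.subgroupOfEquivOfLe hr₂L).toEquiv,
      card_defectGroup hM hFL hD, ← hScard, hr₂]
    exact hmax S hS
  obtain ⟨l, hl⟩ := le_conj_max hM (hofb k hkL hkC hstk) hmx₂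
  obtain ⟨u, hu, c, hc, huc⟩ : ∃ u ∈ NP, ∃ c ∈ CG b.1, u * c = (l : G) := by
    have hl2 : (l : G) ∈ ((NP ⊔ CG b.1 : Subgroup G) : Set G) := l.2
    rw [Subgroup.coe_mul_of_left_le_normalizer_right NP (CG b.1)
      fun v hv => mem_normalizer_cg hv.2] at hl2
    exact Set.mem_mul.1 hl2
  set cL : L := ⟨c, hCL hc⟩ with hcL
  set uL : L := ⟨u, hNPL hu⟩ with huL
  have hleL : LE p M (cjI cL (dn L k hkL hkC)) (dn L r₂ hr₂L hr₂C) := by
    have h1 := le_cjI hM uL⁻¹ hl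
    rw [show cjI uL⁻¹ (dn L r₂ hr₂L hr₂C) = dn L r₂ hr₂L hr₂C from cjI_self (inv_mem
      (show uL ∈ (dn L r₂ hr₂L hr₂C).1 from Subgroup.mem_subgroupOf.2 (hr₂ ▸ hu))), cjI_cjI] at h1
    rwa [show uL⁻¹ * l = cL from Subtype.ext (by
      show u⁻¹ * (l : G) = c
      rw [← huc, inv_mul_cancel_left])] at h1
  have hsub := le_subgroup hleL
  have hsubG : (cjI c k).1 ≤ r₂.1 := fun v hv => by
    have hv' : c⁻¹ * v * c ∈ k.1 := mem_map_conj.1 hv
    have hvL : v ∈ L := by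
      simpa [mul_assoc] using mul_mem (mul_mem (hCL hc) (hkL hv')) (inv_mem (hCL hc))
    have h2 : (⟨v, hvL⟩ : L) ∈ (k.1.subgroupOf L).map (MulAut.conj cL).toMonoidHom :=
      mem_map_conj.2 (Subgroup.mem_subgroupOf.2 hv')
    exact Subgroup.mem_subgroupOf.1 (hsub h2)
  obtain ⟨s, hs, hsr⟩ := exists_le hM hst₂.2.1 hsubG
  have hbs : b.1 ≤ (cjI c k).1 := by
    have h1 := (step_cjI hM c hstk).2.2.1
    rwa [cjI_eq_of_stab (cg_le_stab b hc)] at h1
  have hsC : CG s.1 ≤ L := (Subgroup.centralizer_le (hs ▸ hbs)).trans hCL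
  have hsL : s.1 ≤ L := (le_subgroup hsr).trans hr₂L
  have hdn : dn L s hsL hsC = cjI cL (dn L k hkL hkC) := by
    refine le_unique hM (le_dn hM hsr hsC hr₂L) hleL ?_
    show s.1.subgroupOf L = (k.1.subgroupOf L).map (MulAut.conj cL).toMonoidHom
    ext v
    rw [mem_map_conj, Subgroup.mem_subgroupOf, Subgroup.mem_subgroupOf, hs]
    exact mem_map_conj
  have heq : s = cjI c k := dn_conj_eq hM hkL hkC hsL hsC hdn
  refine ⟨fun v => c * g * v * (c * g)⁻¹,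
    (isMap_iff hF).2 ⟨r₁, c * g, hr₁, hr₁x, ?_, fun v _ => rfl⟩, fun v hv => ?_⟩
  · rw [← cjI_cjI, ← hkdef, ← heq]
    exact hsr.trans hr₂x
  · have hy : g * v * g⁻¹ ∈ b.1 := conj_mem_map_conj.2 hv
    rw [hfg v hv]
    calc c * g * v * (c * g)⁻¹ = c * (g * v * g⁻¹) * c⁻¹ := by group
      _ = g * v * g⁻¹ := by rw [← Subgroup.mem_centralizer_iff.1 hc _ hy, mul_inv_cancel_right]

theorem exists_saturated [Fact p.Prime] (hM : IsPModular p M)
    (hx : IsMx p M B (⟨P, e⟩ : BrauerPairIdx G)) :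
    ∃ F : FusionSystem P, IsBlockFusionSystemOn p M B P e F ∧ F.IsSaturated p := by
  have hF := isBlockFS hM hx
  exact ⟨_, hF, Fus.saturated_of_receptive hx.1.1.1 (fullyAutomized_self hM hF)
    fun Q hQ => receptive_of_fullyNormalized hM hF hQ⟩

end Cfsg.Agent.Char.BP
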