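import Cfsg.Agent.Lib.Char.PairNilpotent

/-!
The blocks of the pairs of a nilpotent block are nilpotent.
-/

namespace Cfsg.Agent.Char.BP

open Cfsg.Agent.Block
open scoped Pointwise

set_option linter.unusedSectionVars false
set_option linter.style.haveILetI false

universe u

variable {G : Type u} [Group G] [Fintype G] {p : ℕ} {M : Ideal AlgInt}
variable {B : Set (IrrCharacter G)} {P : Subgroup G} {e : Set (IrrCharacter (CG P))}

theorem mem_cg_map {Q : Subgroup G} (R : Subgroup (CG Q)) (c : CG Q) :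
    c ∈ CG R ↔ (c : G) ∈ CG (R.map (CG Q).subtype ⊔ Q) := by
  constructor
  · intro hc
    have hle : R.map (CG Q).subtype ⊔ Q ≤ Subgroup.centralizer ({(c : G)} : Set G) := by
      refine sup_le ?_ fun v hv => ?_
      · rintro _ ⟨d, hd, rfl⟩
        rw [Subgroup.mem_centralizer_singleton_iff]
        exact congrArg Subtype.val (Subgroup.mem_centralizer_iff.1 hc d hd)
      · rw [Subgroup.mem_centralizer_singleton_iff]
        exact Subgroup.mem_centralizer_iff.1 c.2 v hv
    exact Subgroup.mem_centralizer_iff.2 fun v hv =>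
      Subgroup.mem_centralizer_singleton_iff.1 (hle hv)
  · intro hc
    exact Subgroup.mem_centralizer_iff.2 fun d hd => Subtype.ext
      (Subgroup.mem_centralizer_iff.1 hc (d : G) (Subgroup.mem_sup_left ⟨d, hd, rfl⟩))

/-- The centralizer computed inside a centralizer. -/
def cgIn {Q : Subgroup G} (R : Subgroup (CG Q)) :
    CG R ≃* CG (R.map (CG Q).subtype ⊔ Q) where
  toFun c := ⟨((c : CG Q) : G), (mem_cg_map R _).1 c.2⟩
  invFun c := ⟨⟨(c : G), Subgroup.centralizer_le (le_sup_right : Q ≤ _) c.2⟩,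
    (mem_cg_map R _).2 c.2⟩
  left_inv _ := rfl
  right_inv _ := rfl
  map_mul' _ _ := rfl

/-- A pair of the centralizer of a pair, read in the whole group. -/
noncomputable def upIn (a : BrauerPairIdx G) (b : BrauerPairIdx (CG a.1)) : BrauerPairIdx G :=
  ⟨b.1.map (CG a.1).subtype ⊔ a.1, pullB (cgIn b.1) b.2⟩

theorem be_upIn (a : BrauerPairIdx G) [Fintype (CG a.1)] (b : BrauerPairIdx (CG a.1))
    (c : CG a.1) :
    be (upIn a b) (c : G) = be b c := by
  by_cases hc : c ∈ CG b.1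
  · have h1 := blockCoeff_pullB (cgIn b.1) b.2 ⟨c, hc⟩
    rw [← bc_coe, ← bc_coe] at h1
    exact h1
  · show bc _ _ (c : G) = bc _ _ c
    rw [bc_supp _ _ _ hc]
    exact bc_supp _ _ _ fun h => hc ((mem_cg_map b.1 c).2 h)

theorem step_upIn (hM : IsPModular p M) {a : BrauerPairIdx G} (ha : IsPr p M a)
    {b : BrauerPairIdx (CG a.1)} [Fintype (CG a.1)] (hb : OfB p M a.2 b) :
    Step p M a (upIn a b) := by
  have hR : b.1.map (CG a.1).subtype ≤ CG a.1 := by
    rintro _ ⟨d, -, rfl⟩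
    exact d.2
  refine (step_iff hM).2 ⟨ha, ⟨(hb.1.1.map _).to_sup_of_normal_right' ha.1
      (hR.trans (cg_le_normalizer a.1)), isPBlock_pullB hM _ hb.1.2⟩, le_sup_right,
    sup_le (hR.trans (cg_le_normalizer a.1)) Subgroup.le_normalizer,
    ((be_inv_cg a).mono hR).sup (be_inv_self a), ?_⟩
  refine (holds_pullB (cgIn b.1) (φ' := blockCoeff a.2) (fun c => ?_) b.2).2 (ofB_holds hb)
  exact (bc_coe (CG a.1) a.2 (c : CG a.1)).symm

theorem mem_stab_upIn {a : BrauerPairIdx G} {b : BrauerPairIdx (CG a.1)} [Fintype (CG a.1)]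
    {y : CG a.1} (hy : y ∈ stab b) : (y : G) ∈ stab (upIn a b) := by
  obtain ⟨hyN, hyf⟩ := mem_stab.1 hy
  refine mem_stab.2 ⟨?_, funext fun g => ?_⟩
  · have h1 : (b.1.map (CG a.1).subtype).map (MulAut.conj (y : G)).toMonoidHom =
        b.1.map (CG a.1).subtype := by
      conv_rhs => rw [← map_conj_eq_of_normalizer hyN]
      rw [Subgroup.map_map, Subgroup.map_map]
      rfl
    have h2 : (upIn a b).1.map (MulAut.conj (y : G)).toMonoidHom = (upIn a b).1 := by
      show (_ ⊔ _ : Subgroup G).map _ = _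
      rw [Subgroup.map_sup, h1, map_conj_eq_of_normalizer (cg_le_normalizer a.1 y.2)]
      rfl
    refine Subgroup.mem_normalizer_iff.2 fun v => ?_
    conv_rhs => rw [← h2]
    exact conj_mem_map_conj.symm
  · by_cases hg : g ∈ CG a.1
    · show be (upIn a b) (((y⁻¹ * ⟨g, hg⟩ * y : CG a.1) : G)) = be (upIn a b) g
      rw [be_upIn, show be (upIn a b) g = be b ⟨g, hg⟩ from be_upIn a b ⟨g, hg⟩]
      exact congrFun hyf ⟨g, hg⟩
    · show be (upIn a b) ((y : G)⁻¹ * g * y) = be (upIn a b) g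
      have h0 : ∀ h : G, h ∉ CG a.1 → be (upIn a b) h = 0 := fun h hh =>
        bc_supp _ _ _ fun h' => hh (Subgroup.centralizer_le (t := ((upIn a b).1 : Set G))
          (SetLike.coe_subset_coe.2 (le_sup_right : a.1 ≤ (upIn a b).1)) h')
      rw [h0 g hg, h0]
      exact fun h => hg (by simpa [mul_assoc] using mul_mem (mul_mem y.2 h) (inv_mem y.2))

/-- Every pair of a nilpotent block carries a nilpotent block. -/
theorem nilpotent_pair [Fact p.Prime] (hM : IsPModular p M) (hnil : IsNilpotentBlock p M B)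
    {a : BrauerPairIdx G} (ha : OfB p M B a) : IsNilpotentBlock p M a.2 := by
  letI : Fintype (CG a.1) := Fintype.ofFinite _
  refine (nil_iff hM).2 ⟨ha.1.2, fun b hb y hy hyp => ?_⟩
  have h1 := ((nil_iff hM).1 hnil).2 (upIn a b)
    ((ofB_step hM (step_upIn hM ha.1 hb)).2 ha) (y : G) (mem_stab_upIn hy)
    (by rwa [Subgroup.orderOf_coe])
  exact (mem_cg_map b.1 y).2 h1

theorem fullyCentralized_of_inner {F : FusionSystem P}
    (hin : Fus.IsInner F) {Q : Subgroup G} (hQ : Q ≤ P) : F.IsFullyCentralized Q := by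
  refine ⟨hQ, fun R hR => ?_⟩
  obtain ⟨f, hf, rfl⟩ := Fus.isConj_iff.1 hR
  obtain ⟨s, hs, hse⟩ := hin Q f hf
  rw [Fus.fimg_congr hse, Fus.fimg_conj_eq_map]
  refine le_of_eq ?_
  rw [← card_map_conj s (FusionSystem.centralizerIn P Q)]
  refine congrArg (fun K : Subgroup G => Nat.card K) ?_
  ext v
  show v ∈ P ⊓ CG (Q.map (MulAut.conj s).toMonoidHom) ↔
    v ∈ (P ⊓ CG Q).map (MulAut.conj s).toMonoidHom
  rw [mem_map_conj, Subgroup.mem_inf, Subgroup.mem_inf, cg_map_conj s Q (s⁻¹ * v * s),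
    show s * (s⁻¹ * v * s) * s⁻¹ = v by group]
  refine and_congr_left fun _ => ⟨fun hv => mul_mem (mul_mem (inv_mem hs) hv) hs, fun hv => ?_⟩
  rw [show v = s * (s⁻¹ * v * s) * s⁻¹ by group]
  exact mul_mem (mul_mem hs hv) (inv_mem hs)

/-- In a nilpotent block the centralizer in `P` is a defect group of every smaller pair. -/
theorem defect_pair_of_nilpotent [Fact p.Prime] (hM : IsPModular p M)
    (hnil : IsNilpotentBlock p M B) (hx : IsMx p M B (⟨P, e⟩ : BrauerPairIdx G))
    {a : BrauerPairIdx G} (ha : LE p M a (⟨P, e⟩ : BrauerPairIdx G)) :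
    IsDefectGroup p M a.2 ((P ⊓ CG a.1).subgroupOf (CG a.1)) := by
  obtain ⟨F, hF, -⟩ := exists_saturated hM hx
  exact (fullyCentralized_iff hM hF ha).1
    (fullyCentralized_of_inner (inner_of_nilpotent hM hnil hF) (le_subgroup ha))

end Cfsg.Agent.Char.BP
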