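import Cfsg.Agent.Lib.Char.SectionNonvanish
import Cfsg.Agent.Lib.Char.PairNilpotentLocal

/-!
Blocks with abelian defect group: the inertial quotient, and induction inside the centralizer of
a subgroup of the defect group.
-/

namespace Cfsg.Agent.Char.BP

open Cfsg.Agent.Block

set_option linter.unusedSectionVars false
set_option linter.style.haveILetI false

universe u

variable {G : Type u} [Group G] [Fintype G] {p : ℕ} {M : Ideal AlgInt}
variable {B : Set (IrrCharacter G)} {P : Subgroup G} {e : Set (IrrCharacter (CG P))}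

theorem le_cg_of_comm (hab : ∀ x ∈ P, ∀ y ∈ P, x * y = y * x) {Q : Subgroup G} (hQ : Q ≤ P) :
    P ≤ CG Q :=
  fun u hu => Subgroup.mem_centralizer_iff.2 fun v hv => hab v (hQ hv) u hu

/-- The data of the local statements: a block of the centralizer of an abelian defect group which
induces the block is a maximal pair. -/
theorem isMx_of_induced [Fact p.Prime] (hM : IsPModular p M) (hD : IsDefectGroup p M B P)
    (hab : ∀ x ∈ P, ∀ y ∈ P, x * y = y * x) (hc : IsInducedBlock M (CG P) e B) :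
    IsMx p M B (⟨P, e⟩ : BrauerPairIdx G) :=
  max_of_defect hM (Spec.ofB_of_induced hM (a := ⟨P, e⟩) (IsDefectGroup.isPGroup hD)
    (le_cg_of_comm hab le_rfl) hc) hD

/-- A `p`-element of the inertial group centralizes an abelian defect group. -/
theorem pElement_stab_mem [Fact p.Prime] (hM : IsPModular p M)
    (hx : IsMx p M B (⟨P, e⟩ : BrauerPairIdx G)) (hab : ∀ x ∈ P, ∀ y ∈ P, x * y = y * x)
    {u : G} (hu : u ∈ stab (⟨P, e⟩ : BrauerPairIdx G)) (hup : ∃ i, orderOf u = p ^ i) :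
    u ∈ CG P := by
  obtain ⟨θ, -, -, -, hst⟩ := (maximal_pair_iff hM P e hx.1.1).1 ⟨B, hx⟩
  obtain ⟨hN, hS⟩ := (mem_stab_iff hM (a := (⟨P, e⟩ : BrauerPairIdx G)) hx.1.1.2).1 hu
  exact (sup_le (le_cg_of_comm hab le_rfl) le_rfl) (hst u hN hS hup)

/-- The inertial quotient of an abelian defect group has order prime to `p`. -/
theorem not_dvd_relIndex [Fact p.Prime] (hM : IsPModular p M)
    (hx : IsMx p M B (⟨P, e⟩ : BrauerPairIdx G)) (hab : ∀ x ∈ P, ∀ y ∈ P, x * y = y * x) :
    ¬ p ∣ (CG P).relIndex (stab (⟨P, e⟩ : BrauerPairIdx G)) := by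
  set T := stab (⟨P, e⟩ : BrauerPairIdx G) with hT
  haveI : ((CG P).subgroupOf T).Normal :=
    (Subgroup.normal_subgroupOf_iff_le_normalizer (cg_le_stab (⟨P, e⟩ : BrauerPairIdx G))).2
      ((stab_le_normalizer _).trans fun u hu => mem_normalizer_cg hu)
  intro hdvd
  rw [Subgroup.relIndex, Subgroup.index_eq_card] at hdvd
  obtain ⟨q, hq⟩ := exists_prime_orderOf_dvd_card' (G := T ⧸ (CG P).subgroupOf T) p hdvd
  obtain ⟨g, rfl⟩ := QuotientGroup.mk'_surjective ((CG P).subgroupOf T) q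
  obtain ⟨u, v, huv, -, hu, hv, -, -⟩ := exists_pPart_zpowers (p := p) g
  have hu' : QuotientGroup.mk' ((CG P).subgroupOf T) u = 1 := by
    rw [QuotientGroup.mk'_apply, QuotientGroup.eq_one_iff, Subgroup.mem_subgroupOf]
    obtain ⟨i, hi⟩ := hu
    exact pElement_stab_mem hM hx hab u.2 ⟨i, by rw [Subgroup.orderOf_coe, hi]⟩
  rw [← huv, map_mul, hu', one_mul] at hq
  exact hv (hq ▸ orderOf_map_dvd _ v)

/-- Induction inside an overgroup is induction in that overgroup. -/
theorem inducedCentralChar_down {H : Subgroup G} (hPH : P ≤ H) (hC : CG P ≤ H)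
    (η : IrrCharacter (CG (P.subgroupOf H))) (h : H) :
    inducedCentralChar (CG (P.subgroupOf H)) (η : CG (P.subgroupOf H) → ℂ) h =
      inducedCentralCharIn H (CG P) (irrPull (cgSub hPH hC).symm η : CG P → ℂ) (h : G) := by
  refine finsum_mem_eq_of_bijOn (cgSub hPH hC) ⟨?_, (cgSub hPH hC).injective.injOn, ?_⟩ ?_
  · intro k hk
    obtain ⟨c, hc⟩ := isConj_iff.1 (IsConj.symm hk)
    exact ⟨c, congrArg Subtype.val hc⟩
  · intro k hk
    obtain ⟨x, hx⟩ := hk
    refine ⟨(cgSub hPH hC).symm k, ?_, MulEquiv.apply_symm_apply _ _⟩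
    exact IsConj.symm (isConj_iff.2 ⟨x, Subtype.ext hx⟩)
  · intro k _
    rw [irrPull_apply, irrPull_apply, MulEquiv.symm_apply_apply, map_one]

/-- The block induced inside an overgroup, as an induced block of that group. -/
theorem induced_down (hM : IsPModular p M) {H : Subgroup G} (hPH : P ≤ H) (hC : CG P ≤ H)
    {f : Set (IrrCharacter H)} (hf : IsInducedBlockIn M H (CG P) e f) :
    IsInducedBlock M (CG (P.subgroupOf H)) (idxDown hPH hC e).2 f := by
  refine ⟨isPBlock_pullB hM _ hf.1, hf.2.1, fun η hη χ hχ h => ?_⟩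
  rw [inducedCentralChar_down hPH hC η h]
  exact hf.2.2 _ hη χ hχ h

theorem induced_up (hM : IsPModular p M) {H : Subgroup G} (hPH : P ≤ H) (hC : CG P ≤ H)
    (he : IsPBlock M e) {f : Set (IrrCharacter H)}
    (hf : IsInducedBlock M (CG (P.subgroupOf H)) (idxDown hPH hC e).2 f) :
    IsInducedBlockIn M H (CG P) e f := by
  refine ⟨he, hf.2.1, fun ξ hξ χ hχ h => ?_⟩
  have hη : irrPull (cgSub hPH hC) ξ ∈ (idxDown hPH hC e).2 := by
    show irrPull (cgSub hPH hC).symm (irrPull (cgSub hPH hC) ξ) ∈ e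
    rwa [irrPull_self_symm]
  have h1 := hf.2.2 _ hη χ hχ h
  rwa [inducedCentralChar_down hPH hC, irrPull_self_symm] at h1

theorem exists_inducedIn (hM : IsPModular p M) {H : Subgroup G} (hP : IsPGroup p P) (hPH : P ≤ H)
    (hC : CG P ≤ H) (hPP : P ≤ CG P) (he : IsPBlock M e) :
    ∃ f : Set (IrrCharacter H), IsInducedBlockIn M H (CG P) e f := by
  classical
  letI := Fintype.ofFinite H
  obtain ⟨f, hf⟩ := inducedBlockDefined_brauer hM (P := P.subgroupOf H)
    (H := CG (P.subgroupOf H)) hP.comap_subtype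
    (fun u hu => (mem_cg_subgroupOf hPH u).2 (hPP (Subgroup.mem_subgroupOf.1 hu))) le_rfl
    (cg_le_normalizer _) (isPBlock_pullB hM (cgSub hPH hC).symm he)
  exact ⟨f, induced_up hM hPH hC he hf⟩

/-- Induction inside the centralizer of `Q` gives the pair below the maximal one. -/
theorem step_of_inducedIn (hM : IsPModular p M) (hP : IsPGroup p P)
    (hab : ∀ x ∈ P, ∀ y ∈ P, x * y = y * x) {a : BrauerPairIdx G} (hQ : a.1 ≤ P)
    (hf : IsInducedBlockIn M (CG a.1) (CG P) e a.2) :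
    Step p M a (⟨P, e⟩ : BrauerPairIdx G) := by
  classical
  letI := Fintype.ofFinite (CG a.1)
  have hPH := le_cg_of_comm hab hQ
  have hC : CG P ≤ CG a.1 := Subgroup.centralizer_le hQ
  have hd := induced_down hM hPH hC hf
  have h1 : OfB p M a.2 (idxDown hPH hC e) := by
    refine Spec.ofB_of_induced hM hP.comap_subtype (fun u hu => ?_) hd
    exact (mem_cg_subgroupOf hPH u).2
      (le_cg_of_comm hab le_rfl (Subgroup.mem_subgroupOf.1 hu))
  refine (step_iff hM).2 ⟨⟨hP.to_le hQ, hf.2.1⟩, ⟨hP, hf.1⟩, hQ,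
    hPH.trans (cg_le_normalizer a.1), (be_inv_cg a).mono hPH, ?_⟩
  refine (holds_idxDown hPH hC e _).1 ?_
  rw [show res (CG a.1) (be a) = blockCoeff a.2 from bc_res (CG a.1) a.2]
  exact ofB_holds h1

/-- With abelian defect group every pair below the maximal one has the defect group as defect
group. -/
theorem isMx_down [Fact p.Prime] (hM : IsPModular p M)
    (hx : IsMx p M B (⟨P, e⟩ : BrauerPairIdx G)) (hab : ∀ x ∈ P, ∀ y ∈ P, x * y = y * x)
    {a : BrauerPairIdx G} [Fintype (CG a.1)] (h : Step p M a (⟨P, e⟩ : BrauerPairIdx G))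
    (hPH : P ≤ CG a.1) (hC : CG P ≤ CG a.1) :
    IsDefectGroup p M a.2 (P.subgroupOf (CG a.1)) ∧ IsMx p M a.2 (idxDown hPH hC e) := by
  classical
  have hle : LE p M a (⟨P, e⟩ : BrauerPairIdx G) := Relation.ReflTransGen.single h
  have ha := h.1
  have hinf : P ⊓ CG a.1 = P := inf_eq_left.2 hPH
  have hofb : OfB p M a.2 (idxDown hPH hC e) := by
    refine ofB_of_holds ha.2 (isPr_idxDown hM hPH hC h.2.1.1 h.2.1.2) ?_
    rw [← bc_res (CG a.1) a.2]
    exact (holds_idxDown hPH hC e _).2 ((step_iff hM).1 h).2.2.2.2.2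
  have hD : IsDefectGroup p M a.2 (P.subgroupOf (CG a.1)) := by
    obtain ⟨g, hg, hD⟩ := exists_conj_fully hM hx hle
    rw [← hinf]
    refine isDefect_inf_of_card hM hx.1.1 hle ?_
    rw [← blockDefect_cjI g a, ← card_of_isDefect_inf hM (isPr_cjI hM g ha) hD]
    rw [show (⟨P, e⟩ : BrauerPairIdx G).1 ⊓ CG a.1 = P from hinf]
    exact Subgroup.card_le_of_le inf_le_left
  exact ⟨hD, max_of_defect hM hofb hD⟩

/-- The local block is nilpotent exactly when the inertial group meets the centralizer of `Q`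
in the centralizer of the defect group. -/
theorem nilpotent_local_iff [Fact p.Prime] (hM : IsPModular p M)
    (hx : IsMx p M B (⟨P, e⟩ : BrauerPairIdx G)) (hab : ∀ x ∈ P, ∀ y ∈ P, x * y = y * x)
    {a : BrauerPairIdx G} (h : Step p M a (⟨P, e⟩ : BrauerPairIdx G)) :
    IsNilpotentBlock p M a.2 ↔ stab (⟨P, e⟩ : BrauerPairIdx G) ⊓ CG a.1 ≤ CG P := by
  classical
  letI := Fintype.ofFinite (CG a.1)
  have hPH : P ≤ CG a.1 := le_cg_of_comm hab (h.2.2.1)
  have hC : CG P ≤ CG a.1 := Subgroup.centralizer_le h.2.2.1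
  rw [nilpotent_iff_inertial hM (P := P.subgroupOf (CG a.1)) (isMx_down hM hx hab h hPH hC).2
    (fun u hu v hv => Subtype.ext (hab _ (Subgroup.mem_subgroupOf.1 hu) _
      (Subgroup.mem_subgroupOf.1 hv)))]
  have key : ∀ y : CG a.1, y ∈ stab (idxDown hPH hC e) ↔
      (y : G) ∈ stab (⟨P, e⟩ : BrauerPairIdx G) := by
    intro y
    rw [mem_stab, mem_stab]
    refine and_congr (mem_normalizer_subgroupOf hPH) ?_
    rw [be_idxDown hPH hC e]
    constructor
    · intro hy
      funext g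
      by_cases hg : g ∈ CG a.1
      · exact congrFun hy ⟨g, hg⟩
      · have h0 : ∀ k : G, k ∉ CG a.1 → be (⟨P, e⟩ : BrauerPairIdx G) k = 0 := fun k hk =>
          bc_supp _ _ _ fun h' => hk (hC h')
        show be (⟨P, e⟩ : BrauerPairIdx G) ((y : G)⁻¹ * g * y) = _
        rw [h0 g hg, h0]
        exact fun h' => hg (by simpa [mul_assoc] using mul_mem (mul_mem y.2 h') (inv_mem y.2))
    · intro hy
      funext g
      exact congrFun hy (g : G)
  constructor
  · rintro hle g ⟨hg, hgQ⟩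
    exact (mem_cg_subgroupOf hPH ⟨g, hgQ⟩).1 (hle ((key ⟨g, hgQ⟩).2 hg))
  · intro hle y hy
    exact (mem_cg_subgroupOf hPH y).2 (hle ⟨(key y).1 hy, y.2⟩)

/-- Free action of the inertial quotient is nilpotence of all local blocks. -/
theorem free_iff_nilpotent [Fact p.Prime] (hM : IsPModular p M)
    (hx : IsMx p M B (⟨P, e⟩ : BrauerPairIdx G)) (hab : ∀ x ∈ P, ∀ y ∈ P, x * y = y * x) :
    (∀ g ∈ stab (⟨P, e⟩ : BrauerPairIdx G), ∀ x ∈ P, x ≠ 1 → g * x * g⁻¹ = x → g ∈ CG P) ↔
      ∀ Q : Subgroup G, Q ≤ P → Q ≠ ⊥ → ∀ f : Set (IrrCharacter (CG Q)),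
        IsInducedBlockIn M (CG Q) (CG P) e f → IsNilpotentBlock p M f := by
  have hPp : IsPGroup p P := hx.1.1.1
  constructor
  · intro hfree Q hQ hQ1 f hf
    have hst := step_of_inducedIn hM hPp hab (a := ⟨Q, f⟩) hQ hf
    refine (nilpotent_local_iff hM hx hab hst).2 ?_
    rintro g ⟨hg, hgQ⟩
    obtain ⟨x, hx1⟩ := Subgroup.ne_bot_iff_exists_ne_one.1 hQ1
    exact hfree g hg x (hQ x.2) (fun h => hx1 (Subtype.ext h))
      (by rw [← Subgroup.mem_centralizer_iff.1 hgQ x x.2, mul_inv_cancel_right])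
  · intro hnil g hg x hxP hx1 hgx
    set Q := Subgroup.zpowers x with hQdef
    have hQ : Q ≤ P := Subgroup.zpowers_le.2 hxP
    obtain ⟨f, hf⟩ := exists_inducedIn hM hPp (le_cg_of_comm hab hQ)
      (Subgroup.centralizer_le hQ) (le_cg_of_comm hab le_rfl) hx.1.1.2
    have h1 := (nilpotent_local_iff hM hx hab
      (step_of_inducedIn hM hPp hab (a := ⟨Q, f⟩) hQ hf)).1
        (hnil Q hQ (fun h => hx1 (by
          have : x ∈ Q := Subgroup.mem_zpowers x
          rwa [h, Subgroup.mem_bot] at this)) f hf)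
    refine h1 ⟨hg, Subgroup.mem_centralizer_iff.2 fun v hv => ?_⟩
    obtain ⟨n, rfl⟩ := Subgroup.mem_zpowers_iff.1 hv
    have hc : Commute g x := mul_inv_eq_iff_eq_mul.1 hgx
    exact (hc.zpow_right n).eq.symm

end Cfsg.Agent.Char.BP
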