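import Cfsg.Agent.Lib.Char.SectionRank
import Cfsg.Agent.Lib.Char.PairInertial

/-!
Counting the sections of a block with abelian defect group whose inertial group is transitive on the
non-trivial elements of the defect group.
-/

namespace Cfsg.Agent.Char.Spec

open scoped ComplexConjugate
open Cfsg.Agent.Block Cfsg.Agent.Char.BP

set_option linter.unusedSectionVars false
set_option linter.style.haveILetI false

universe u

variable {G : Type u} [Group G] [Fintype G] {p : ℕ} {M : Ideal AlgInt}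
variable {B : Set (IrrCharacter G)} {P : Subgroup G} {e : Set (IrrCharacter (CG P))}

theorem cjI_of_mem_cg {a : BrauerPairIdx G} {y : G} (hy : y ∈ CG a.1) : cjI y a = a :=
  cjI_eq_of_stab (cg_le_stab a hy)

/-- The pair of a block at the trivial subgroup. -/
theorem eq_bot_pair [Fact p.Prime] (hM : IsPModular p M)
    (hx : IsMx p M B (⟨P, e⟩ : BrauerPairIdx G)) {a : BrauerPairIdx G} (ha1 : a.1 = ⊥)
    (haB : OfB p M B a) : LE p M a (⟨P, e⟩ : BrauerPairIdx G) := by
  obtain ⟨y, hay, hy⟩ := exists_max_above hM haB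
  obtain ⟨g, hg⟩ := max_conj hM hy hx
  rw [hg]
  have h := le_cjI hM g hay
  rwa [cjI_of_mem_cg (a := a) (y := g)] at h
  rw [ha1]
  exact Subgroup.mem_centralizer_iff.2 fun v hv => by
    rw [SetLike.mem_coe, Subgroup.mem_bot] at hv
    simp [hv]

/-- At the trivial subgroup the rank is the rank of the block. -/
theorem rank_bot_pair [Fact p.Prime] (hM : IsPModular p M)
    (hx : IsMx p M B (⟨P, e⟩ : BrauerPairIdx G)) (hB : IsPBlock M B) {a : BrauerPairIdx G}
    (ha1 : a.1 = Subgroup.zpowers (1 : G)) (haB : OfB p M B a) :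
    blockRank p a.2 = blockRank p B := by
  classical
  have hbot : Subgroup.zpowers (1 : G) = ⊥ := Subgroup.zpowers_one_eq_bot
  obtain ⟨Q, b⟩ := a
  obtain rfl : Q = Subgroup.zpowers (1 : G) := ha1
  have hx1 : ∃ k, orderOf (1 : G) = p ^ k := ⟨0, by simp⟩
  have key : ∀ χ ∈ B, secT p (χ : G → ℂ) (χ : G → ℂ)
      (⟨Subgroup.zpowers (1 : G), b⟩ : BrauerPairIdx G) 1 =
        regSum p (χ : G → ℂ) (χ : G → ℂ) := by
    intro χ hχ
    have hval : ∀ v ∈ regs p (Subgroup.zpowers (1 : G)),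
        sct (χ : G → ℂ) (⟨Subgroup.zpowers (1 : G), b⟩ : BrauerPairIdx G) 1 v = (χ : G → ℂ) v := by
      intro v hv
      have h1 := value_eq_sum_blks hM (Subgroup.zpowers (1 : G)) (χ : G → ℂ) 1 v
      rw [one_mul] at h1
      rw [h1, Finset.sum_eq_single b]
      · intro b' hb' hne
        have hpr : IsPr p M (⟨Subgroup.zpowers (1 : G), b'⟩ : BrauerPairIdx G) :=
          ⟨isPGroup_zpowers hx1, mem_blks.1 hb'⟩
        refine sct_eq_zero (a := (⟨Subgroup.zpowers (1 : G), b'⟩ : BrauerPairIdx G)) (x := 1) (v := v)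
          hM hχ hB hpr hx1 rfl (fun hB' => hne ?_) (mem_regs.1 hv).1 (mem_regs.1 hv).2
        have h2 := le_unique hM (eq_bot_pair hM hx hbot hB') (eq_bot_pair hM hx hbot haB) rfl
        exact eq_of_heq (Sigma.mk.inj_iff.1 h2).2
      · exact fun h => absurd (mem_blks.2 haB.1.2) h
    rw [secT, regSum_eq_sum]
    refine Finset.sum_congr ?_ fun v hv => ?_
    · ext v
      rw [mem_regs, Finset.mem_filter]
      refine ⟨fun h => ⟨Finset.mem_univ v, h.2⟩, fun h => ⟨?_, h.2⟩⟩
      exact Subgroup.mem_centralizer_iff.2 fun w hw => by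
        have hw' : w ∈ Subgroup.zpowers (1 : G) := hw
        rw [hbot, Subgroup.mem_bot] at hw'
        simp [hw']
    · rw [hval v (by rw [mem_regs]; exact ⟨Subgroup.mem_centralizer_iff.2 fun w hw => by
        rw [SetLike.mem_coe, hbot, Subgroup.mem_bot] at hw
        simp [hw], (Finset.mem_filter.1 hv).2⟩)]
  have h := sum_sct_sq hM hx1 rfl haB
  rw [Finset.sum_congr rfl fun χ hχ => key χ (Finset.mem_filter.1 hχ).2, sum_regSum_self hM hB] at h
  have hcg : Nat.card (CG (Subgroup.zpowers (1 : G))) = Nat.card G := by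
    have : CG (Subgroup.zpowers (1 : G)) = ⊤ := eq_top_iff.2 fun v _ =>
      Subgroup.mem_centralizer_iff.2 fun w hw => by
        rw [SetLike.mem_coe, hbot, Subgroup.mem_bot] at hw
        simp [hw]
    rw [this, Subgroup.card_top]
  rw [hcg] at h
  exact_mod_cast (mul_left_cancel₀ (Nat.cast_ne_zero.2 (Nat.card_pos (α := G)).ne') h).symm

/-- With a free inertial group which is transitive on the non-trivial elements of an abelian defect
group, there is one non-trivial section and it has rank one. -/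
theorem card_le_of_transitive [Fact p.Prime] (hM : IsPModular p M) (hB : IsPBlock M B)
    (hx : IsMx p M B (⟨P, e⟩ : BrauerPairIdx G)) (hab : ∀ v ∈ P, ∀ w ∈ P, v * w = w * v)
    (hfree : ∀ g ∈ stab (⟨P, e⟩ : BrauerPairIdx G), ∀ v ∈ P, v ≠ 1 → g * v * g⁻¹ = v → g ∈ CG P)
    (htrans : ∀ v ∈ P, v ≠ 1 → ∀ w ∈ P, w ≠ 1 →
      ∃ g ∈ stab (⟨P, e⟩ : BrauerPairIdx G), g * v * g⁻¹ = w) :
    Nat.card B ≤ blockRank p B + 1 := by
  classical
  set x : BrauerPairIdx G := ⟨P, e⟩ with hxdef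
  have hxp : IsPr p M x := hx.1.1
  set S := Finset.univ.filter (fun g : G => ∃ k : ℕ, orderOf g = p ^ k)
  let rep : G → G := fun g => (ConjClasses.mk g).out
  have hrep : ∀ g, IsConj g (rep g) := fun g =>
    ConjClasses.mk_eq_mk_iff_isConj.1 (Quotient.out_eq (ConjClasses.mk g)).symm
  have hpow : ∀ {g g' : G}, IsConj g g' → orderOf g = orderOf g' := fun {g g'} h => by
    obtain ⟨t, rfl⟩ := isConj_iff.1 h
    exact (MulEquiv.orderOf_eq (MulAut.conj t) g).symm
  have hrepC : ∀ {g g' : G}, IsConj g g' → rep g = rep g' := fun h => by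
    simp only [rep, ConjClasses.mk_eq_mk_iff_isConj.2 h]
  set X := S.image rep with hX
  have hXp : ∀ v ∈ X, ∃ k : ℕ, orderOf v = p ^ k := by
    intro v hv
    obtain ⟨g, hg, rfl⟩ := Finset.mem_image.1 hv
    rw [← hpow (hrep g)]
    exact (Finset.mem_filter.1 hg).2
  have hXrep : ∀ g : G, (∃ k : ℕ, orderOf g = p ^ k) → ∃! v, v ∈ X ∧ IsConj g v := by
    intro g hg
    refine ⟨rep g, ⟨Finset.mem_image.2 ⟨g, Finset.mem_filter.2 ⟨Finset.mem_univ g, hg⟩, rfl⟩,
      hrep g⟩, ?_⟩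
    rintro v ⟨hv, hgv⟩
    obtain ⟨g', -, rfl⟩ := Finset.mem_image.1 hv
    exact ((hrepC (hgv.trans (hrep g').symm))).symm
  have hrone : rep 1 = 1 := by
    have := hrep 1
    exact (isConj_one_right.1 this).symm ▸ rfl
  have h1X : (1 : G) ∈ X := Finset.mem_image.2
    ⟨1, Finset.mem_filter.2 ⟨Finset.mem_univ 1, 0, by simp⟩, hrone⟩
  rw [card_eq_sum_ranks hM hB X hXp hXrep,
    Finset.sum_congr rfl fun v hv => sum_rank_pairsAt hM hB (hXp v hv) (cg_zpowers v).symm,
    ← Finset.add_sum_erase X _ h1X]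
  -- every pair of the block at an element
  have key : ∀ v, ∀ a ∈ pairsAt p M B v, ∃ g : G, g * v * g⁻¹ ∈ P ∧ LE p M (cjI g a) x := by
    intro v a ha
    obtain ⟨ha1, haB⟩ := mem_pairsAt.1 ha
    obtain ⟨y, hay, hy⟩ := exists_max_above hM haB
    obtain ⟨g, hg⟩ := max_conj hM hy hx
    refine ⟨g, ?_, hg ▸ le_cjI hM g hay⟩
    have hle := le_subgroup (le_cjI hM g hay)
    rw [← hg] at hle
    refine hle ?_
    show g * v * g⁻¹ ∈ a.1.map (MulAut.conj g).toMonoidHom
    rw [ha1]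
    exact ⟨v, Subgroup.mem_zpowers v, rfl⟩
  refine Nat.add_le_add ?_ ?_
  · refine (Finset.sum_le_card_nsmul _ _ (blockRank p B) fun a ha => le_of_eq ?_).trans ?_
    · obtain ⟨ha1, haB⟩ := mem_pairsAt.1 ha
      exact rank_bot_pair hM hx hB ha1 haB
    · refine le_of_le_of_eq (Nat.mul_le_mul_right _ ?_) (one_mul _)
      rw [Finset.card_le_one]
      intro a ha a' ha'
      obtain ⟨ha1, haB⟩ := mem_pairsAt.1 ha
      obtain ⟨ha1', haB'⟩ := mem_pairsAt.1 ha'
      have hb : Subgroup.zpowers (1 : G) = ⊥ := Subgroup.zpowers_one_eq_bot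
      exact le_unique hM (eq_bot_pair hM hx (ha1.trans hb) haB) (eq_bot_pair hM hx (ha1'.trans hb) haB')
        (ha1.trans ha1'.symm)
  -- the non-trivial elements
  have hu : ∀ v ∈ X.erase 1, (pairsAt p M B v).Nonempty → ∀ w ∈ X.erase 1,
      (pairsAt p M B w).Nonempty → v = w := by
    rintro v hv ⟨a, ha⟩ w hw ⟨a', ha'⟩
    obtain ⟨g, hg, -⟩ := key v a ha
    obtain ⟨g', hg', -⟩ := key w a' ha'
    obtain ⟨hv1, hvX⟩ := Finset.mem_erase.1 hv
    obtain ⟨hw1, hwX⟩ := Finset.mem_erase.1 hw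
    obtain ⟨s, -, hs⟩ := htrans _ hg (by simpa using hv1) _ hg' (by simpa using hw1)
    have hc : IsConj v w := ((isConj_iff.2 ⟨g, rfl⟩).trans (isConj_iff.2 ⟨s, hs⟩)).trans
      (isConj_iff.2 ⟨g', rfl⟩).symm
    exact (hXrep v (hXp v hvX)).unique ⟨hvX, IsConj.refl v⟩ ⟨hwX, hc⟩
  have hone : ∀ v ∈ X.erase 1, ∀ a ∈ pairsAt p M B v,
      blockRank p a.2 = 1 ∧ ∀ a' ∈ pairsAt p M B v, a' = a := by
    intro v hv a ha
    obtain ⟨hv1, hvX⟩ := Finset.mem_erase.1 hv
    obtain ⟨g, hg, hga⟩ := key v a ha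
    obtain ⟨ha1, haB⟩ := mem_pairsAt.1 ha
    refine ⟨?_, fun a' ha' => ?_⟩
    · set y := cjI g⁻¹ x with hy
      have hym : IsMx p M B y := isMx_cjI hM hx g⁻¹
      have hay : LE p M a y := by
        have h := le_cjI hM g⁻¹ hga
        rwa [cjI_inv_cancel] at h
      have haby : ∀ v ∈ y.1, ∀ w ∈ y.1, v * w = w * v := by
        rintro _ ⟨v, hv', rfl⟩ _ ⟨w, hw', rfl⟩
        rw [← map_mul, ← map_mul, hab v hv' w hw']
      have hleP := le_subgroup hay
      obtain ⟨r, hr, hst, hry⟩ := step_below hM hym.1.1 hay hleP le_rfl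
        ((le_cg_of_comm haby hleP).trans (cg_le_normalizer a.1))
      obtain rfl : r = y := eq_of_le_of_subgroup hM hry hr.ge
      refine (rank_of_nilpotent hM ((nilpotent_local_iff hM (e := (cjI g⁻¹ x).2) hym haby hst).2 ?_)).1
      rintro t ⟨ht, htc⟩
      have hmem : g * t * g⁻¹ ∈ stab x := by
        refine mem_stab_of_cjI ?_ ?_
        · refine Subgroup.mem_normalizer_iff.2 fun w => ?_
          have hn := Subgroup.mem_normalizer_iff.1 (stab_le_normalizer _ ht) (g⁻¹ * w * g)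
          have e1 : ∀ z, z ∈ (cjI g⁻¹ x).1 ↔ g * z * g⁻¹ ∈ P := fun z => by
            show z ∈ P.map (MulAut.conj g⁻¹).toMonoidHom ↔ _
            rw [mem_map_conj, inv_inv]
          rw [e1, e1] at hn
          simpa [mul_assoc] using hn
        · rw [← cjI_cjI, ← cjI_cjI, cjI_eq_of_stab ht, cjI_cancel_inv]
      have hfix : (g * t * g⁻¹) * (g * v * g⁻¹) * (g * t * g⁻¹)⁻¹ = g * v * g⁻¹ := by
        have := Subgroup.mem_centralizer_iff.1 htc v (by rw [ha1]; exact Subgroup.mem_zpowers v)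
        calc _ = g * (t * v * t⁻¹) * g⁻¹ := by group
          _ = _ := by rw [← this]; group
      have hC := hfree _ hmem _ hg (by simpa using hv1) hfix
      refine Subgroup.mem_centralizer_iff.2 fun w hw => ?_
      obtain ⟨w', hw', rfl⟩ := hw
      have h := Subgroup.mem_centralizer_iff.1 hC w' hw'
      simp only [MulEquiv.coe_toMonoidHom, MulAut.conj_apply, inv_inv]
      calc g⁻¹ * w' * g * t = g⁻¹ * (w' * (g * t * g⁻¹)) * g := by group
        _ = g⁻¹ * ((g * t * g⁻¹) * w') * g := by rw [h]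
        _ = _ := by group
    · obtain ⟨g', hg', hga'⟩ := key v a' ha'
      obtain ⟨ha1', -⟩ := mem_pairsAt.1 ha'
      obtain ⟨s, hs, hsv⟩ := htrans _ hg (by simpa using hv1) _ hg' (by simpa using hv1)
      have hle : LE p M (cjI (s * g) a) x := by
        have h := le_cjI hM s hga
        rwa [cjI_eq_of_stab hs, cjI_cjI] at h
      have h1 : (cjI (s * g) a).1 = (cjI g' a').1 := by
        show a.1.map _ = a'.1.map _
        rw [ha1, ha1', MonoidHom.map_zpowers, MonoidHom.map_zpowers]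
        show Subgroup.zpowers (s * g * v * (s * g)⁻¹) = Subgroup.zpowers (g' * v * g'⁻¹)
        rw [← hsv]
        congr 1
        group
      have h2 := le_unique hM hle hga' h1
      have h3 : a' = cjI (g'⁻¹ * (s * g)) a := by rw [← cjI_cjI, h2, cjI_inv_cancel]
      rw [h3, cjI_of_mem_cg]
      rw [ha1, cg_zpowers, Subgroup.mem_centralizer_singleton_iff]
      calc g'⁻¹ * (s * g) * v = g'⁻¹ * (s * (g * v * g⁻¹) * s⁻¹) * (s * g) := by group
        _ = g'⁻¹ * (g' * v * g'⁻¹) * (s * g) := by rw [hsv]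
        _ = v * (g'⁻¹ * (s * g)) := by group
  rcases (X.erase 1).filter (fun v => (pairsAt p M B v).Nonempty) |>.eq_empty_or_nonempty with h | ⟨v, hv⟩
  · rw [Finset.sum_eq_zero]
    · exact Nat.zero_le _
    intro v hv
    rw [Finset.not_nonempty_iff_eq_empty.1 (Finset.filter_eq_empty_iff.1 h hv), Finset.sum_empty]
  obtain ⟨hv, a, ha⟩ := Finset.mem_filter.1 hv
  rw [Finset.sum_eq_single_of_mem v hv fun w hw hne => ?_]
  · obtain ⟨h1, h2⟩ := hone v hv a ha
    rw [show pairsAt p M B v = {a} from Finset.eq_singleton_iff_unique_mem.2 ⟨ha, h2⟩,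
      Finset.sum_singleton, h1]
  · refine Finset.sum_eq_zero fun a' ha' => ?_
    exact absurd (hu w hw ⟨a', ha'⟩ v hv ⟨a, ha⟩) hne

end Cfsg.Agent.Char.Spec
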