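import Cfsg.Agent.Lib.Char.StarCount
import Cfsg.Agent.Lib.Char.SectionOrbit
import Cfsg.Agent.Lib.Char.PairSaturated

/-!
The pairs below a maximal pair with abelian defect group: their ranks, how they look inside a
centralizer, and the control of fusion by the inertial group.
-/

namespace Cfsg.Agent.Char.Wat

open Cfsg.Agent.Block Cfsg.Agent.Char.BP Cfsg.Agent.Char.Spec

set_option linter.unusedSectionVars false
set_option linter.style.haveILetI false

universe u

variable {G : Type u} [Group G] [Fintype G] {p : ℕ} [Fact p.Prime] {M : Ideal AlgInt}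
variable {B : Set (IrrCharacter G)} {x : BrauerPairIdx G}

theorem blockRank_pullB {H K : Type u} [Group H] [Finite H] [Group K] [Finite K] (e : H ≃* K)
    (f : Set (IrrCharacter H)) : blockRank p (pullB e f) = blockRank p f := by
  classical
  let L : (K → ℂ) ≃ₗ[ℂ] (H → ℂ) := LinearEquiv.funCongrLeft ℂ ℂ e.toEquiv
  have hL : ∀ ξ : IrrCharacter K, L (pRegularPart p (ξ : K → ℂ)) =
      pRegularPart p ((irrPull e ξ : IrrCharacter H) : H → ℂ) := fun ξ => by
    funext h
    show pRegularPart p (ξ : K → ℂ) (e h) = _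
    by_cases hh : p ∣ orderOf h <;> simp [pRegularPart, IsPRegular, irrPull_apply, hh]
  have himg : L '' ((fun χ : IrrCharacter K => pRegularPart p (χ : K → ℂ)) '' pullB e f) =
      (fun χ : IrrCharacter H => pRegularPart p (χ : H → ℂ)) '' f := by
    ext F
    constructor
    · rintro ⟨_, ⟨ξ, hξ, rfl⟩, rfl⟩
      exact ⟨irrPull e ξ, hξ, (hL ξ).symm⟩
    · rintro ⟨η, hη, rfl⟩
      refine ⟨_, ⟨irrPull e.symm η, ?_, rfl⟩, ?_⟩
      · show irrPull e (irrPull e.symm η) ∈ f
        rwa [irrPull_symm_self]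
      · rw [hL, irrPull_symm_self]
  unfold blockRank
  rw [← himg, ← LinearEquiv.coe_coe, Submodule.span_image]
  exact (L.submoduleMap _).finrank_eq

/-- With abelian defect group a pair below the maximal one is one step below. -/
theorem step_of_le (hM : IsPModular p M) (hxp : IsPr p M x)
    (hab : ∀ v ∈ x.1, ∀ w ∈ x.1, v * w = w * v) {a : BrauerPairIdx G} (h : LE p M a x) :
    Step p M a x := by
  obtain ⟨r, hr, hst, hrx⟩ := step_below hM hxp h (le_subgroup h) le_rfl
    ((le_cg_of_comm hab (le_subgroup h)).trans (cg_le_normalizer a.1))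
  obtain rfl : r = x := eq_of_le_of_subgroup hM hrx hr.ge
  exact hst

/-- A pair with the same centralizer. -/
theorem exists_same_cg {Q : Subgroup G} (f : Set (IrrCharacter (CG Q))) (hf : IsPBlock M f)
    {R : Subgroup G} (h : CG Q = CG R) :
    ∃ f' : Set (IrrCharacter (CG R)), IsPBlock M f' ∧ bc (CG R) f' = bc (CG Q) f ∧
      blockRank p f' = blockRank p f := by
  revert f
  rw [h]
  exact fun f hf => ⟨f, hf, rfl, rfl⟩

/-- Pairs below the maximal one with the same centralizer have the same rank. -/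
theorem rank_same_cg (hM : IsPModular p M) (hxp : IsPr p M x)
    (hab : ∀ v ∈ x.1, ∀ w ∈ x.1, v * w = w * v) {a b : BrauerPairIdx G} (ha : LE p M a x)
    (hb : LE p M b x) (h : CG a.1 = CG b.1) : blockRank p a.2 = blockRank p b.2 := by
  obtain ⟨h1, h2, h3, -, h5, h6⟩ := (step_iff hM).1 (step_of_le hM hxp hab ha)
  obtain ⟨f, hf, hbe, hr⟩ := exists_same_cg (p := p) a.2 h1.2 h
  have hst : Step p M (⟨b.1, f⟩ : BrauerPairIdx G) x := by
    refine (step_iff hM).2 ⟨⟨(le_isPr hb hxp).1, hf⟩, h2, le_subgroup (a := b) (b := x) hb,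
      (le_cg_of_comm hab (le_subgroup hb)).trans (cg_le_normalizer b.1), ?_, ?_⟩
    · show Inv x.1 (bc (CG b.1) f)
      rw [hbe]; exact h5
    · show Holds M x (bc (CG b.1) f)
      rw [hbe]; exact h6
  have he : (⟨b.1, f⟩ : BrauerPairIdx G) = b :=
    le_unique hM (Relation.ReflTransGen.single hst) hb rfl
  rw [← hr]
  exact (congrArg (fun c : BrauerPairIdx G => blockRank p c.2) he)

/-- The pair below `x` at `Q`. -/
noncomputable def bl (p : ℕ) (M : Ideal AlgInt) (x : BrauerPairIdx G) (Q : Subgroup G) :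
    BrauerPairIdx G := by
  classical
  exact if h : ∃ a : BrauerPairIdx G, a.1 = Q ∧ LE p M a x then h.choose else x

theorem bl_spec (hM : IsPModular p M) (hxp : IsPr p M x) {Q : Subgroup G} (hQ : Q ≤ x.1) :
    (bl p M x Q).1 = Q ∧ LE p M (bl p M x Q) x := by
  classical
  have h : ∃ a : BrauerPairIdx G, a.1 = Q ∧ LE p M a x := exists_le hM hxp hQ
  rw [bl, dif_pos h]
  exact h.choose_spec

theorem bl_eq (hM : IsPModular p M) (hxp : IsPr p M x) {a : BrauerPairIdx G} (h : LE p M a x) :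
    bl p M x a.1 = a :=
  le_unique hM (bl_spec hM hxp (le_subgroup h)).2 h (bl_spec hM hxp (le_subgroup h)).1

/-- The rank at `Q`. -/
noncomputable def rk (p : ℕ) (M : Ideal AlgInt) (x : BrauerPairIdx G) (Q : Subgroup G) : ℕ :=
  blockRank p (bl p M x Q).2

theorem rk_congr (hM : IsPModular p M) (hxp : IsPr p M x)
    (hab : ∀ v ∈ x.1, ∀ w ∈ x.1, v * w = w * v) {Q R : Subgroup G} (hQ : Q ≤ x.1) (hR : R ≤ x.1)
    (h : CG Q = CG R) : rk p M x Q = rk p M x R := by
  obtain ⟨e1, l1⟩ := bl_spec (p := p) hM hxp hQ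
  obtain ⟨e2, l2⟩ := bl_spec (p := p) hM hxp hR
  exact rank_same_cg hM hxp hab l1 l2 (by rw [e1, e2, h])

theorem rk_bot (hM : IsPModular p M) (hB : IsPBlock M B) (hx : IsMx p M B x) :
    rk p M x ⊥ = blockRank p B := by
  obtain ⟨e, l⟩ := bl_spec hM hx.1.1 (bot_le : (⊥ : Subgroup G) ≤ x.1)
  exact rank_bot_pair hM (P := x.1) (e := x.2) hx hB (e.trans Subgroup.zpowers_one_eq_bot.symm)
    ((ofB_le hM l).1 hx.1)

/-- The inertial group inside the centralizer of a pair below the maximal one. -/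
theorem mem_stab_dn {C : Subgroup G} [Fintype C] (hPH : x.1 ≤ C) (hC : CG x.1 ≤ C) (y : C) :
    y ∈ stab (dn C x hPH hC) ↔ (y : G) ∈ stab x := by
  classical
  rw [mem_stab, mem_stab]
  refine and_congr (mem_normalizer_subgroupOf hPH) ?_
  rw [be_dn x hPH hC]
  constructor
  · intro hy
    funext g
    by_cases hg : g ∈ C
    · exact congrFun hy ⟨g, hg⟩
    · have h0 : ∀ k : G, k ∉ C → be x k = 0 := fun k hk => bc_supp _ _ _ fun h' => hk (hC h')
      show be x ((y : G)⁻¹ * g * y) = _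
      rw [h0 g hg, h0]
      exact fun h' => hg (by simpa [mul_assoc] using mul_mem (mul_mem y.2 h') (inv_mem y.2))
  · intro hy
    funext g
    exact congrFun hy (g : G)

theorem comm_dn {C : Subgroup G} (hab : ∀ v ∈ x.1, ∀ w ∈ x.1, v * w = w * v) (hPH : x.1 ≤ C)
    (hC : CG x.1 ≤ C) :
    ∀ v ∈ (dn C x hPH hC).1, ∀ w ∈ (dn C x hPH hC).1, v * w = w * v := fun v hv w hw =>
  Subtype.ext (hab _ (Subgroup.mem_subgroupOf.1 hv) _ (Subgroup.mem_subgroupOf.1 hw))

theorem cg_subgroupOf_le (hab : ∀ v ∈ x.1, ∀ w ∈ x.1, v * w = w * v) {Q : Subgroup G}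
    (hQ : Q ≤ x.1) : x.1 ≤ CG Q ∧ CG x.1 ≤ CG Q :=
  ⟨le_cg_of_comm hab hQ, Subgroup.centralizer_le hQ⟩

/-- A pair below, read as the maximal pair of its block. -/
theorem isMx_dn (hM : IsPModular p M) (hx : IsMx p M B x)
    (hab : ∀ v ∈ x.1, ∀ w ∈ x.1, v * w = w * v) {a : BrauerPairIdx G} (ha : LE p M a x)
    [Fintype (CG a.1)] (h1 : x.1 ≤ CG a.1) (h2 : CG x.1 ≤ CG a.1) :
    IsMx p M a.2 (dn (CG a.1) x h1 h2) :=
  (isMx_down hM (P := x.1) (e := x.2) hx hab (step_of_le hM hx.1.1 hab ha) h1 h2).2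

/-- The ranks inside the centralizer of `Q`. -/
theorem rk_dn (hM : IsPModular p M) (hxp : IsPr p M x)
    (hab : ∀ v ∈ x.1, ∀ w ∈ x.1, v * w = w * v) {Q : Subgroup G} [Fintype (CG Q)] (hQ : Q ≤ x.1)
    (h1 : x.1 ≤ CG Q) (h2 : CG x.1 ≤ CG Q) {S : Subgroup G} (hS : S ≤ x.1) :
    rk p M (dn (CG Q) x h1 h2) (S.subgroupOf (CG Q)) = rk p M x (Q ⊔ S) := by
  classical
  set R := Q ⊔ S with hR
  have hRx : R ≤ x.1 := sup_le hQ hS
  have hRC : R ≤ CG Q := hRx.trans h1
  have hCR : CG R ≤ CG Q := Subgroup.centralizer_le (show (Q : Set G) ⊆ R from SetLike.coe_subset_coe.2 le_sup_left)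
  obtain ⟨e, l⟩ := bl_spec (p := p) hM hxp hRx
  have hCb : CG (bl p M x R).1 ≤ CG Q := by rw [e]; exact hCR
  have l' := le_dn hM l hCb h1
  have hxp' : IsPr p M (dn (CG Q) x h1 h2) := isPr_dn hM hxp h1 h2
  have hab' := comm_dn hab h1 h2
  have hS' : S.subgroupOf (CG Q) ≤ (dn (CG Q) x h1 h2).1 := fun v hv =>
    Subgroup.mem_subgroupOf.2 (hS (Subgroup.mem_subgroupOf.1 hv))
  obtain ⟨eS, lS⟩ := bl_spec (p := p) hM hxp' hS'
  refine (rank_same_cg hM hxp' hab' lS l' ?_).trans ?_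
  · rw [eS, dn_fst, e]
    ext c
    rw [mem_cg_subgroupOf (hS.trans h1), mem_cg_subgroupOf hRC]
    refine ⟨fun hc => ?_, fun hc => Subgroup.centralizer_le (show (S : Set G) ⊆ R from SetLike.coe_subset_coe.2 le_sup_right) hc⟩
    have : R ≤ CG (Subgroup.zpowers (c : G)) := sup_le
      (fun v hv => Subgroup.mem_centralizer_iff.2 fun w hw => by
        obtain ⟨k, rfl⟩ := Subgroup.mem_zpowers_iff.1 hw
        exact ((show Commute (c : G) v from
          (Subgroup.mem_centralizer_iff.1 c.2 v hv).symm).zpow_left k).eq)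
      (fun v hv => Subgroup.mem_centralizer_iff.2 fun w hw => by
        obtain ⟨k, rfl⟩ := Subgroup.mem_zpowers_iff.1 hw
        exact ((show Commute (c : G) v from
          (Subgroup.mem_centralizer_iff.1 hc v hv).symm).zpow_left k).eq)
    exact Subgroup.mem_centralizer_iff.2 fun v hv =>
      (Subgroup.mem_centralizer_iff.1 (this hv) c (Subgroup.mem_zpowers _)).symm
  · show blockRank p (pullB _ (bl p M x R).2) = _
    exact blockRank_pullB _ _

/-- The inertial group controls the fusion of the pairs below the maximal one. -/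
theorem control (hM : IsPModular p M) (hx : IsMx p M B x)
    (hab : ∀ v ∈ x.1, ∀ w ∈ x.1, v * w = w * v) {a : BrauerPairIdx G} {g : G}
    (ha : LE p M a x) (hg : LE p M (cjI g a) x) :
    ∃ t ∈ stab x, ∃ z ∈ CG a.1, g = t * z := by
  classical
  letI := Fintype.ofFinite (CG a.1)
  set y := cjI g⁻¹ x with hy
  have hym : IsMx p M B y := isMx_cjI hM hx g⁻¹
  have hay : LE p M a y := by
    have h := le_cjI hM g⁻¹ hg
    rwa [cjI_inv_cancel] at h
  have haby : ∀ v ∈ y.1, ∀ w ∈ y.1, v * w = w * v := by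
    rintro _ ⟨v, hv, rfl⟩ _ ⟨w, hw, rfl⟩
    rw [← map_mul, ← map_mul, hab v hv w hw]
  have hx1 := cg_subgroupOf_le hab (le_subgroup ha)
  have hy1 := cg_subgroupOf_le haby (le_subgroup hay)
  have m1 := isMx_dn hM hx hab ha hx1.1 hx1.2
  have m2 := isMx_dn hM hym haby hay hy1.1 hy1.2
  obtain ⟨c, hc⟩ := max_conj hM m1 m2
  have e : y = cjI (c : G) x := dn_conj_eq hM hx1.1 hx1.2 hy1.1 hy1.2 hc
  have e2 : cjI (g * c) x = x := by
    rw [← cjI_cjI, ← e, hy, cjI_cancel_inv]
  refine ⟨g * c, mem_stab_of_cjI ?_ e2, (c : G)⁻¹, inv_mem c.2, (mul_inv_cancel_right g _).symm⟩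
  have e3 : x.1.map (MulAut.conj (g * c)).toMonoidHom = x.1 := congrArg Sigma.fst e2
  refine Subgroup.mem_normalizer_iff.2 fun w => ?_
  conv_rhs => rw [← e3, mem_map_conj]
  simp [mul_assoc]

end Cfsg.Agent.Char.Wat
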