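import Cfsg.Agent.Lib.Char.CycGreenCorner
import Cfsg.Agent.Lib.Char.CycGreenExtend
import Cfsg.Agent.Lib.Char.CycGreenSeparate
import Cfsg.Agent.Lib.Char.WatanabePairs
import Cfsg.Agent.Lib.Char.PairDefect
import Cfsg.Agent.Lib.Char.NilpotentMain

/-!
A block with cyclic defect group has at least as many irreducible Brauer characters as its inertial
index: each simple module of the inertial group of the subgroup of order `p` over the local block
has a map which is not a trace into a simple module of the block, and different local modules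
reach different simple modules.
-/

namespace Cfsg.Agent.Char.CycGreen

open Cfsg Cfsg.Agent.Block Cfsg.Agent.Char.BP Cfsg.Agent.Char.CycMod Cfsg.Agent.Char.Res
  Cfsg.Agent.Char.Spec

set_option linter.unusedSectionVars false
set_option linter.style.haveILetI false
set_option maxHeartbeats 1600000

universe u

variable {G : Type u} [Group G] [Fintype G] {p : ℕ} [hp : Fact p.Prime] {M : Ideal AlgInt}

theorem conjAlg_redA (hM : IsPModular p M) {C N : Subgroup G} [Fintype C]
    (hN : ∀ g ∈ N, ∀ c ∈ C, g * c * g⁻¹ ∈ C) (g : N) (F : C → ℂ) :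
    letI := resInst hM
    ∀ F' : C → ℂ, (∀ c d : C, (d : G) = (g : G) * c * (g : G)⁻¹ → F' d = F c) →
      conjAlg (ResField hM) hN g (redA hM (algOf (MonoidHom.id C) F)) =
        redA hM (algOf (MonoidHom.id C) F') := by
  classical
  letI := resInst hM
  intro F' hF'
  have hexp : ∀ w : C → ℂ, redA hM (algOf (MonoidHom.id C) w) =
      ∑ c : C, MonoidAlgebra.single c (red hM (w c)) := fun w => by
    show ∑ c : C, MonoidAlgebra.single c (red hM ((algOf (MonoidHom.id C) w).coeff c)) = _
    simp only [algOf_coeff_id]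
  rw [hexp, hexp, map_sum]
  refine Fintype.sum_equiv
    { toFun := fun c : C => ⟨(g : G) * c * (g : G)⁻¹, hN g g.2 c c.2⟩
      invFun := fun c : C => ⟨(g : G)⁻¹ * c * (g : G), by
        simpa using hN (g : G)⁻¹ (N.inv_mem g.2) c c.2⟩
      left_inv := fun c => Subtype.ext (by simp [mul_assoc])
      right_inv := fun c => Subtype.ext (by simp [mul_assoc]) } _ _ fun c => ?_
  rw [conjAlg_single]
  exact congrArg _ (congrArg (red hM) (hF' c _ rfl).symm)

/-- A trace composed with an intertwining map is a trace. -/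
theorem IsTr.post {k : Type*} [Field k] {S S' W : Type*} [AddCommGroup S] [Module k S]
    [AddCommGroup S'] [Module k S'] [AddCommGroup W] [Module k W] {σ : G →* Module.End k S}
    {σ' : G →* Module.End k S'} {T : Subgroup G} [Fintype T] {τ : T →* Module.End k W}
    {f : W →ₗ[k] S} (h : IsTr σ τ f) {g : S →ₗ[k] S'} (hg : Intw σ σ' g) :
    IsTr σ' τ (g ∘ₗ f) := by
  obtain ⟨a, rfl⟩ := h
  refine ⟨g ∘ₗ a, LinearMap.ext fun v => ?_⟩
  simp only [tr_apply, LinearMap.comp_apply, map_sum, MonoidHom.coe_comp, Function.comp_apply]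
  exact Finset.sum_congr rfl fun t _ => (hg _ _).symm

open scoped Classical in
/-- A block with cyclic defect group has at least as many irreducible Brauer characters as its
inertial index. -/
theorem relIndex_le_blockRank_cyclic (hM : IsPModular p M) {B : Set (IrrCharacter G)}
    (hB : IsPBlock M B) {x : BrauerPairIdx G} (hx : IsMx p M B x) (hcyc : IsCyclic x.1)
    (hP1 : x.1 ≠ ⊥) : (CG x.1).relIndex (stab x) ≤ blockRank p B := by
  classical
  obtain ⟨P, eP⟩ := x
  simp only at hcyc hP1 ⊢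
  letI := resInst hM
  haveI : CharP (ResField hM) p := resField_charP hM
  haveI := resField_isAlgClosed hM
  have hab := comm_of_cyclic hcyc
  haveI : Nontrivial P := (Subgroup.nontrivial_iff_ne_bot P).2 hP1
  have hPp : IsPGroup p P := hx.1.1.1
  obtain ⟨n, hn, hcardP⟩ := hPp.nontrivial_iff_card.1 ‹_›
  obtain ⟨z, hz⟩ := exists_prime_orderOf_dvd_card' (G := P) p (hcardP ▸ dvd_pow_self p hn.ne')
  obtain ⟨hZ, hle⟩ := Wat.bl_spec hM hx.1.1 (Subgroup.zpowers_le.2 z.2 : Subgroup.zpowers (z : G) ≤ P)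
  set a := Wat.bl p M (⟨P, eP⟩ : BrauerPairIdx G) (Subgroup.zpowers (z : G)) with ha
  have hcard : Nat.card a.1 = p := by
    rw [hZ, Nat.card_zpowers, Subgroup.orderOf_coe, hz]
  haveI : Fact (Nat.card a.1).Prime := ⟨hcard.symm ▸ hp.out⟩
  have haP : a.1 ≤ P := le_subgroup (b := (⟨P, eP⟩ : BrauerPairIdx G)) hle
  have hQ1 : a.1 ≠ ⊥ := fun h => hp.out.ne_one (by rw [← hcard, h, Subgroup.card_bot])
  obtain ⟨-, hidx, hnil⟩ :=
    cyclic_local hM hx hcyc (Wat.step_of_le hM hx.1.1 hab hle) hQ1
  have haB : OfB p M B a := (ofB_le hM hle).1 hx.1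
  have hapr : IsPr p M a := le_isPr hle hx.1.1
  set T := stab a with hT
  set N := Subgroup.normalizer (a.1 : Set G) with hN
  set C := CG a.1 with hC
  have hCT : C ≤ T := cg_le_stab a
  have hTN : T ≤ N := stab_le_normalizer a
  have hPC : P ≤ C := le_cg_of_comm hab haP
  have hPT : P ≤ T := hPC.trans hCT
  have hPN : P ≤ N := hPT.trans hTN
  have hnorm : ∀ g ∈ N, ∀ c ∈ C, g * c * g⁻¹ ∈ C := fun g hg c hc =>
    centralizer_conj_mem hg hc
  have huniq : ∀ W : Subgroup G, W ≤ P → Nat.card W = p → W = a.1 := fun W hW hWc =>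
    eq_of_le_cyclic_of_card_eq hcyc hW haP (hWc.trans hcard.symm)
  rw [← hidx]
  -- the quotient
  haveI : (C.subgroupOf T).Normal := ⟨fun c hc t => hnorm _ (hTN t.2) _ hc⟩
  obtain ⟨hcycT, hdvd⟩ := cyclic_quotient (IsPGroup.of_card (n := 1) (by rw [hcard, pow_one]) :
      IsPGroup p a.1) hQ1 (isCyclic_of_prime_card (α := a.1) rfl) (T := T) hTN
    (fun g _ y hy hy1 hfix => by
      refine Subgroup.mem_centralizer_iff.2 fun v hv => ?_
      have hz : (⟨v, hv⟩ : a.1) ∈ Subgroup.zpowers (⟨y, hy⟩ : a.1) := by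
        rw [zpowers_eq_top_of_prime_card (G := a.1) rfl fun h => hy1 (congrArg Subtype.val h)]
        exact Subgroup.mem_top _
      obtain ⟨j, hj⟩ := Subgroup.mem_zpowers_iff.1 hz
      rw [← show y ^ j = v from congrArg Subtype.val hj]
      exact ((show Commute g y from mul_inv_eq_iff_eq_mul.1 hfix).zpow_right j).eq.symm)
  set e := C.relIndex T with he
  have he0 : ((e : ℕ) : ResField hM) ≠ 0 := by
    rw [Ne, CharP.cast_eq_zero_iff (ResField hM) p]
    intro h
    have h1 := Nat.le_of_dvd (by have := hp.out.two_le; omega) (h.trans hdvd)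
    have := hp.out.two_le
    omega
  -- the local block
  letI : Fintype C := Fintype.ofFinite C
  letI : Fintype T := Fintype.ofFinite T
  have hl : blockRank p a.2 = 1 := (rank_of_nilpotent hM hnil).1
  obtain ⟨g₀, hg₀, hdef⟩ := exists_conj_fully hM hx hle
  have hga : cjI g₀ a = a := by
    refine le_unique hM hg₀ hle (huniq _ (le_subgroup (b := (⟨P, eP⟩ : BrauerPairIdx G)) hg₀) ?_)
    exact (card_map_conj g₀ a.1).trans hcard
  rw [hga] at hdef
  rw [show P ⊓ CG a.1 = P from inf_eq_left.2 hPC] at hdef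
  set DC := P.subgroupOf (CG a.1) with hDC
  have hDCcyc : IsCyclic DC := by
    haveI := hcyc
    exact isCyclic_of_surjective (Subgroup.subgroupOfEquivOfLe hPC).symm.toMonoidHom
      (Subgroup.subgroupOfEquivOfLe hPC).symm.surjective
  obtain ⟨H, hHe⟩ := exists_uniData hM hapr.2 hdef hDCcyc hl
  obtain ⟨nV, ρ, hρ, hρB⟩ := exists_simple hM hapr.2
  have hcoe : ∀ (c : C), blockCoeff a.2 c = be a (c : G) := fun c => (bc_coe _ _ c).symm
  -- stability
  have hstab : ∀ t ∈ T, ∃ f : (Fin nV → ResField hM) →ₗ[ResField hM] (Fin nV → ResField hM),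
      f ≠ 0 ∧ ∀ (c d : C), (d : G) = t * c * t⁻¹ → ∀ v, f (ρ c v) = ρ d (f v) := by
    intro t ht
    let κ : C ≃* C :=
      { toFun := fun c => ⟨t * c * t⁻¹, hnorm t (hTN ht) c c.2⟩
        invFun := fun c => ⟨t⁻¹ * c * t, by
          simpa using hnorm t⁻¹ (N.inv_mem (hTN ht)) c c.2⟩
        left_inv := fun c => Subtype.ext (by simp [mul_assoc])
        right_inv := fun c => Subtype.ext (by simp [mul_assoc])
        map_mul' := fun a b => Subtype.ext (by simp [mul_assoc]) }
    have hirr' : Irr (ρ.comp κ.toMonoidHom) := by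
      refine ⟨hρ.1, fun X hX => hρ.2 X fun d y hy => ?_⟩
      have h := hX (κ.symm d) y hy
      simpa using h
    have hB' : ∀ v, CycMod.act (ρ.comp κ.toMonoidHom)
        (fun c => red hM (blockCoeff a.2 c)) v = v := by
      intro v
      refine Eq.trans ?_ (hρB v)
      rw [act_apply, act_apply]
      refine Fintype.sum_equiv κ.toEquiv _ _ fun c => ?_
      have hb : blockCoeff a.2 (κ c) = blockCoeff a.2 c := by
        rw [hcoe, hcoe]
        show be a (t * c * t⁻¹) = _
        conv_rhs => rw [← (mem_stab.1 (T.inv_mem ht)).2]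
        simp [cfun]
      show _ = red hM (blockCoeff a.2 (κ c)) • ρ (κ c) v
      rw [hb]
      rfl
    obtain ⟨f, hf0, hf⟩ := exists_map_of_rank_one hM hapr.2 hl ρ (ρ.comp κ.toMonoidHom) hρ hirr'
      hρB hB'
    refine ⟨f, hf0, fun c d hd v => ?_⟩
    rw [show d = κ c from Subtype.ext hd]
    exact hf c v
  obtain ⟨τ, hτC, hτhom⟩ := exists_extensions hCT (fun t ht => hnorm t (hTN ht)) hcycT he0 ρ hρ hstab
  have hres : ∀ j, (τ j).comp (Subgroup.inclusion hCT) = ρ := fun j =>
    MonoidHom.ext fun c => hτC j _ c rfl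
  have heV : ∀ j v, MonoidAlgebra.lift (ResField hM) _ C ((τ j).comp (Subgroup.inclusion hCT))
      H.e v = v := fun j v => by
    rw [hres, lift_eq_act, hHe]
    refine Eq.trans ?_ (hρB v)
    congr 2
    funext c
    rw [redA_coeff, Res.bz, algOf_coeff_id]
  haveI : Nontrivial (Fin nV → ResField hM) := hρ.1
  -- the subgroup of order `p` acts trivially
  have hZ1 : ∀ j (t : T), (t : G) ∈ a.1 → τ j t = 1 := by
    intro j t ht
    have htC : (t : G) ∈ C := hPC (haP ht)
    rw [hτC j t ⟨t, htC⟩ rfl]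
    obtain ⟨c, hc⟩ := schur ρ hρ (f := ρ ⟨t, htC⟩) (fun d v => by
      rw [← Module.End.mul_apply, ← map_mul, ← Module.End.mul_apply, ← map_mul]
      congr 2
      exact Subtype.ext (Subgroup.mem_centralizer_iff.1 d.2 (t : G) ht))
    have hpow : (t : G) ^ p = 1 := by
      have h : ((⟨t, ht⟩ : a.1)) ^ Nat.card a.1 = 1 := pow_card_eq_one'
      rw [hcard] at h
      simpa using congrArg Subtype.val h
    obtain ⟨v, hv⟩ := exists_ne (0 : Fin nV → ResField hM)
    have hcp : ∀ m : ℕ, (ρ ⟨t, htC⟩ ^ m) v = c ^ m • v := by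
      intro m
      induction m with
      | zero => simp
      | succ m ih => rw [pow_succ', Module.End.mul_apply, ih, map_smul, hc, smul_smul, pow_succ]
    have h1 := hcp p
    rw [← map_pow, show (⟨t, htC⟩ : C) ^ p = 1 from Subtype.ext hpow, map_one,
      Module.End.one_apply] at h1
    have h2 : c ^ p = 1 := smul_left_injective (ResField hM) hv (by
      show c ^ p • v = (1 : ResField hM) • v
      rw [one_smul, ← h1])
    have h3 : (c - 1) ^ p = 0 := by rw [sub_pow_char, h2, one_pow, sub_self]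
    refine LinearMap.ext fun w => ?_
    rw [hc, sub_eq_zero.1 (pow_eq_zero_iff hp.out.ne_zero |>.1 h3), one_smul]
    rfl
  -- the block of the group acts as one
  have hE : ∀ j v, CycMod.act (τ j) (fun t : T =>
      if (t : G) ∈ Subgroup.centralizer (a.1 : Set G) then red hM (blockCoeff B t) else 0) v = v := by
    intro j v
    refine Eq.trans ?_ (act_eq_one_of_omega hM hapr.2 (f := fun c : C => blockCoeff B (c : G))
      (fun c d => blockCoeff_classFun B (c : G) (d : G)) (fun c => blockCoeff_ring hM hB _)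
      (fun χ hχ => by
        have hω := haB.2.2 χ hχ
        rw [brauerOmega, finsum_eq_sum_of_fintype, ← Finset.sum_div] at hω
        exact hω) ρ hρ hρB v)
    rw [act_apply, act_apply, ← Finset.sum_subset (Finset.subset_univ
      (Finset.univ.filter (fun t : T => (t : G) ∈ C))) (fun t _ ht => by
        rw [if_neg (by simpa [hC] using ht), zero_smul])]
    rw [Finset.sum_subtype (p := fun t : T => (t : G) ∈ C) _ (fun t => by simp)]
    refine Fintype.sum_equiv (Subgroup.subgroupOfEquivOfLe hCT).toEquiv _ _ fun t => ?_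
    rw [if_pos (show ((t : T) : G) ∈ Subgroup.centralizer (a.1 : Set G) from t.2),
      hτC j t.1 (Subgroup.subgroupOfEquivOfLe hCT t) rfl]
    rfl
  set E : G → ResField hM := fun g => red hM (blockCoeff B g) with hEdef
  have hEcl : ∀ g t : G, E (t * g * t⁻¹) = E g := fun g t => by
    simp only [hEdef, blockCoeff_classFun B g t]
  have hEE : ∀ g, ∑ h, E h * E (h⁻¹ * g) = E g := fun g => by
    simp only [hEdef]
    rw [← red_sum_mul hM _ _ _ (fun h => blockCoeff_ring hM hB h)
      (fun h => blockCoeff_ring hM hB _)]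
    exact congrArg (red hM) (congrFun (convFun_blockCoeff B) g)
  -- the maps
  have hex : ∀ j : Fin e, ∃ (S : Type u) (_ : AddCommGroup S) (_ : Module (ResField hM) S)
      (_ : FiniteDimensional (ResField hM) S) (σ : G →* Module.End (ResField hM) S)
      (φ : (Fin nV → ResField hM) →ₗ[ResField hM] S), Irr σ ∧ (∀ y, CycMod.act σ E y = y) ∧
        LIntw σ (τ j) φ ∧ ¬ IsTr σ (τ j) φ := fun j =>
    exists_simple_map_local hcard hEcl hEE (fun g hg => hPT (haP hg)) hTN (τ j) (hZ1 j) (hE j)
  choose S i1 i2 i3 σ φ hirr hσE hφ hφtr using hex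
  haveI : ∀ j, FiniteDimensional (ResField hM) (S j) := i3
  -- the traces
  haveI : Fintype (G ⧸ P) := Fintype.ofFinite _
  obtain ⟨aG, haG, hsumG⟩ := exists_preTrace_block hM hB (defect_of_max hM hx)
  haveI : Fintype (C ⧸ DC) := Fintype.ofFinite _
  obtain ⟨aC, haC, hsumC⟩ := exists_preTrace_block hM hapr.2 hdef
  have hfree : ∀ g : G, g ∉ N → ∀ d ∈ P, g⁻¹ * d * g ∈ P → d = 1 := by
    intro g hg d hd hgd
    by_contra hd1
    apply hg
    -- a power of `d` generates the subgroup of order `p`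
    obtain ⟨m, hm⟩ := IsPGroup.iff_orderOf.1 hPp ⟨d, hd⟩
    rw [Subgroup.orderOf_mk] at hm
    have hm0 : m ≠ 0 := fun h => hd1 (orderOf_eq_one_iff.1 (by rw [hm, h, pow_zero]))
    set w := d ^ p ^ (m - 1) with hw
    have hwo : orderOf w = p := by
      rw [hw, orderOf_pow' _ (pow_ne_zero _ hp.out.ne_zero), hm,
        Nat.gcd_eq_right (pow_dvd_pow p (Nat.sub_le m 1)),
        Nat.pow_div (Nat.sub_le m 1) hp.out.pos, show m - (m - 1) = 1 by omega, pow_one]
    have h1 : Subgroup.zpowers w = a.1 :=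
      huniq _ (Subgroup.zpowers_le.2 (P.pow_mem hd _)) (by rw [Nat.card_zpowers, hwo])
    have h2 : Subgroup.zpowers (g⁻¹ * w * g) = a.1 := by
      refine huniq _ (Subgroup.zpowers_le.2 ?_) ?_
      · have h := conj_pow (i := p ^ (m - 1)) (a := g⁻¹) (b := d)
        rw [inv_inv] at h
        rw [hw, ← h]
        exact P.pow_mem hgd _
      · rw [Nat.card_zpowers]
        have h := MulEquiv.orderOf_eq (MulAut.conj g⁻¹) w
        rw [MulAut.conj_apply, inv_inv, hwo] at h
        exact h
    have h3 : a.1.map (MulAut.conj g⁻¹).toMonoidHom = a.1 := by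
      conv_lhs => rw [← h1]
      rw [MonoidHom.map_zpowers]
      simpa [MulAut.conj_apply] using h2
    rw [hN, ← inv_inv g]
    refine Subgroup.inv_mem _ (Subgroup.mem_normalizer_iff.2 fun v => ?_)
    conv_rhs => rw [← h3]
    exact conj_mem_map_conj.symm
  -- the average on the local modules
  haveI : Fintype (T ⧸ C.subgroupOf T) := Fintype.ofFinite _
  haveI : Fintype (T ⧸ P.subgroupOf T) := Fintype.ofFinite _
  let θ : Module.End (ResField hM) (Fin nV → ResField hM) :=
    ((e : ℕ) : ResField hM)⁻¹ • MonoidAlgebra.lift (ResField hM) _ C ρ aC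
  have hθP : ∀ j, ∀ d : T, (d : G) ∈ P → ∀ v, θ (τ j d v) = τ j d (θ v) := by
    intro j d hd v
    have h := congrArg (MonoidAlgebra.lift (ResField hM) (Module.End _ (Fin nV → ResField hM)) C ρ)
      (haC ⟨d, hPC hd⟩ (show (d : G) ∈ P from hd)).eq
    rw [map_mul, map_mul, MonoidAlgebra.lift_single, one_smul] at h
    rw [hτC j d ⟨d, hPC hd⟩ rfl]
    simp only [θ, LinearMap.smul_apply, map_smul]
    exact congrArg (_ • ·) (LinearMap.congr_fun h.symm v)
  have hθsum : ∀ j v, ∑ s : T ⧸ P.subgroupOf T, τ j s.out (θ (τ j s.out⁻¹ v)) = v := by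
    intro j v
    have hC1 : ∀ w, ∑ b : C ⧸ DC, ρ b.out (θ (ρ b.out⁻¹ w)) =
        ((e : ℕ) : ResField hM)⁻¹ • w := fun w => by
      have h := LinearMap.congr_fun (congrArg
        (MonoidAlgebra.lift (ResField hM) (Module.End _ (Fin nV → ResField hM)) C ρ) hsumC) w
      simp only [map_sum, map_mul, MonoidAlgebra.lift_single, one_smul, LinearMap.sum_apply,
        Module.End.mul_apply] at h
      simp only [θ, LinearMap.smul_apply, map_smul, ← Finset.smul_sum]
      congr 1
      refine h.trans ?_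
      rw [lift_eq_act]
      refine Eq.trans ?_ (hρB w)
      congr 2
      funext c
      rw [redA_coeff, Res.bz, algOf_coeff_id]
    let F : T → (Fin nV → ResField hM) := fun t => τ j t (θ (τ j t⁻¹ v))
    have hF : ∀ (t d : T), (d : G) ∈ P → F (t * d) = F t := fun t d hd => by
      simp only [F, mul_inv_rev, map_mul, Module.End.mul_apply]
      rw [hθP j d⁻¹ (P.inv_mem hd), ← Module.End.mul_apply (τ j d), ← map_mul, mul_inv_cancel,
        map_one, Module.End.one_apply]
    let Γ : (T ⧸ C.subgroupOf T) × (C ⧸ DC) → T ⧸ P.subgroupOf T := fun ab =>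
      QuotientGroup.mk (ab.1.out * Subgroup.inclusion hCT ab.2.out)
    have hΓ : Function.Bijective Γ := by
      constructor
      · rintro ⟨s, b⟩ ⟨s', b'⟩ h
        have h1 : ((s.out * Subgroup.inclusion hCT b.out)⁻¹ *
            (s'.out * Subgroup.inclusion hCT b'.out) : T) ∈ P.subgroupOf T := QuotientGroup.eq.1 h
        rw [Subgroup.mem_subgroupOf] at h1
        simp only [Subgroup.coe_mul, Subgroup.coe_inv, Subgroup.coe_inclusion] at h1
        have hs : s = s' := by
          rw [← QuotientGroup.out_eq' s, ← QuotientGroup.out_eq' s', QuotientGroup.eq,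
            Subgroup.mem_subgroupOf]
          have h2 := C.mul_mem (C.mul_mem b.out.2 (hPC h1)) (C.inv_mem b'.out.2)
          simpa [mul_assoc] using h2
        subst hs
        refine Prod.ext rfl ?_
        rw [← QuotientGroup.out_eq' b, ← QuotientGroup.out_eq' b', QuotientGroup.eq]
        show ((b.out⁻¹ * b'.out : C) : G) ∈ P
        simpa [mul_assoc] using h1
      · intro s
        let q : T ⧸ C.subgroupOf T := QuotientGroup.mk s.out
        have hc : ((q.out⁻¹ * s.out : T) : G) ∈ C :=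
          Subgroup.mem_subgroupOf.1 (QuotientGroup.eq.1 (QuotientGroup.out_eq' q))
        refine ⟨⟨q, QuotientGroup.mk ⟨_, hc⟩⟩, ?_⟩
        show (QuotientGroup.mk (q.out * Subgroup.inclusion hCT
          (QuotientGroup.mk ⟨_, hc⟩ : C ⧸ DC).out) : T ⧸ P.subgroupOf T) = s
        obtain ⟨d, hd⟩ := QuotientGroup.mk_out_eq_mul DC (⟨_, hc⟩ : C)
        rw [hd]
        conv_rhs => rw [← QuotientGroup.out_eq' s]
        rw [QuotientGroup.eq, Subgroup.mem_subgroupOf]
        have hd' : (((d : C) : G)) ∈ P := d.2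
        simpa [mul_assoc] using P.inv_mem hd'
    show ∑ s : T ⧸ P.subgroupOf T, F s.out = v
    rw [← Fintype.sum_bijective Γ hΓ (fun ab => F (ab.1.out * Subgroup.inclusion hCT ab.2.out))
      (fun s => F s.out) (fun ab => by
        obtain ⟨d, hd⟩ := QuotientGroup.mk_out_eq_mul (P.subgroupOf T)
          (ab.1.out * Subgroup.inclusion hCT ab.2.out)
        show F _ = F (Quotient.out (QuotientGroup.mk _ : T ⧸ P.subgroupOf T))
        rw [hd, hF _ _ d.2]), Fintype.sum_prod_type]
    have hin : ∀ s : T ⧸ C.subgroupOf T, ∑ b : C ⧸ DC, F (s.out * Subgroup.inclusion hCT b.out) =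
        ((e : ℕ) : ResField hM)⁻¹ • v := fun s => by
      simp only [F, mul_inv_rev, map_mul, Module.End.mul_apply]
      rw [← map_sum]
      have h := hC1 (τ j s.out⁻¹ v)
      simp only [← hτC j (Subgroup.inclusion hCT _) _ rfl, ← map_inv] at h ⊢
      rw [h, map_smul, ← Module.End.mul_apply, ← map_mul, mul_inv_cancel, map_one,
        Module.End.one_apply]
    rw [Finset.sum_congr rfl fun s _ => hin s, Finset.sum_const, Finset.card_univ,
      ← Nat.card_eq_fintype_card, ← Subgroup.index_eq_card, ← Nat.cast_smul_eq_nsmul (ResField hM),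
      smul_smul]
    show (((e : ℕ) : ResField hM) * ((e : ℕ) : ResField hM)⁻¹) • v = v
    rw [mul_inv_cancel₀ he0, one_smul]
  -- conjugates of the local idempotent
  have hTe : ∀ g : N, (g : G) ∈ T → conjAlg (ResField hM) hnorm g H.e = H.e := by
    intro g hg
    rw [hHe, Res.bz]
    refine conjAlg_redA hM hnorm g _ _ fun c d hd => ?_
    rw [hcoe, hcoe]
    conv_lhs => rw [← (mem_stab.1 hg).2]
    simp [cfun, hd, mul_assoc]
  have horth : ∀ g : N, (g : G) ∉ T → H.e * conjAlg (ResField hM) hnorm g H.e = 0 := by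
    intro g hg
    have hpr' := isPr_cjI hM (g : G) hapr
    have hbe := be_cjI (g : G) a
    have h1 : (cjI (g : G) a).1 = a.1 := map_conj_eq_of_normalizer g.2
    have hne : cjI (g : G) a ≠ a := fun h => hg (mem_stab_of_cjI g.2 h)
    revert hpr' hbe h1 hne
    generalize cjI (g : G) a = a'
    obtain ⟨Q, f'⟩ := a'
    intro hpr' hbe h1 hne
    simp only at h1
    subst h1
    have hne' : a.2 ≠ f' := fun h => hne (by rw [← h])
    rw [hHe, Res.bz, conjAlg_redA hM hnorm g _ (blockCoeff f') fun c d hd => ?_,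
      ← redA_mul hM (AlgRing.algOf hM _ (fun c => blockCoeff_ring hM hapr.2 c))
        (AlgRing.algOf hM _ (fun c => blockCoeff_ring hM hpr'.2 c)),
      ← algOf_convFun, blockCoeff_mul_ne hM hapr.2 hpr'.2 hne']
    · ext c
      simp [redA_coeff, algOf_coeff_id, red_zero hM]
    · rw [show blockCoeff f' d = be (⟨a.1, f'⟩ : BrauerPairIdx G) (d : G) from (bc_coe _ _ d).symm,
        hbe, hcoe]
      simp [cfun, hd, mul_assoc]
  -- the count
  rw [← Fintype.card_fin e]
  refine le_blockRank hM hB (S := S) ⟨i2, i3, σ, hirr, fun i j hij f hf => ?_, hσE⟩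
  rcases zero_or_bijective (σ i) (σ j) (hirr i) (hirr j) hf with h | h
  · exact h
  exfalso
  let f' := LinearEquiv.ofBijective f h
  have hf' : Intw (σ j) (σ i) f'.symm.toLinearMap := fun g y => h.1 (by
    show f (f'.symm (σ j g y)) = f (σ i g (f'.symm y))
    have hs : ∀ y, f (f'.symm y) = y := fun y => f'.apply_symm_apply y
    rw [hf, hs, hs])
  have hφ1 : LIntw (σ j) (τ i) (f ∘ₗ φ i) := fun t v => by
    show f (φ i (τ i t v)) = σ j t (f (φ i v))
    rw [hφ i, hf]
  have hφ1tr : ¬ IsTr (σ j) (τ i) (f ∘ₗ φ i) := fun htr => hφtr i (by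
    have := htr.post hf'
    rwa [← LinearMap.comp_assoc, show f'.symm.toLinearMap ∘ₗ f = LinearMap.id from
      LinearMap.ext fun y => f'.symm_apply_apply y, LinearMap.id_comp] at this)
  have hirrV : ∀ m, Irr ((τ m).comp (Subgroup.inclusion hCT)) := fun m => by rw [hres]; exact hρ
  obtain ⟨π, hπN, hπ⟩ := exists_sep_maps (σ j) hCT hTN hnorm he0 H hTe horth (τ i) (τ j)
    (hirrV i) (hirrV j) (heV i) (heV j) (hτhom i j hij) (hτhom j i (Ne.symm hij)) hφ1 (hφ j)
    (fun h0 => hφ1tr (h0 ▸ IsTr.zero (σ j) (τ i))) (fun h0 => hφtr j (h0 ▸ IsTr.zero (σ j) (τ j)))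
  -- the scalar
  let e₀ : Module.End (ResField hM) (S j) := MonoidAlgebra.lift (ResField hM) _ G (σ j) aG
  have he₀ : ∀ d ∈ P, ∀ y, e₀ (σ j d y) = σ j d (e₀ y) := fun d hd y => by
    have h := congrArg (MonoidAlgebra.lift (ResField hM) (Module.End _ (S j)) G (σ j)) (haG d hd).eq
    rw [map_mul, map_mul, MonoidAlgebra.lift_single, one_smul] at h
    exact LinearMap.congr_fun h.symm y
  have hsum : ∀ y, ∑ t : G ⧸ P, cj (σ j) t.out e₀ y = y := fun y => by
    have h := LinearMap.congr_fun (congrArg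
      (MonoidAlgebra.lift (ResField hM) (Module.End _ (S j)) G (σ j)) hsumG) y
    simp only [map_sum, map_mul, MonoidAlgebra.lift_single, one_smul, LinearMap.sum_apply,
      Module.End.mul_apply] at h
    simp only [cj_apply]
    rw [h, lift_eq_act]
    refine Eq.trans ?_ (hσE j y)
    congr 2
    funext g
    rw [redA_coeff, Res.bz, algOf_coeff_id]
  have key : ∀ m (c : ResField hM) (ψ : (Fin nV → ResField hM) →ₗ[ResField hM] S j),
      IsTr (σ j) (τ m) (c • ψ) → ¬ IsTr (σ j) (τ m) ψ → c = 0 := by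
    intro m c ψ h hn
    by_contra hc
    have := h.smul (σ j) (τ m) c⁻¹
    rw [smul_smul, inv_mul_cancel₀ hc, one_smul] at this
    exact hn this
  -- the two scalars agree
  have hint : Intw (σ j) (σ j) (∑ t : G ⧸ P, cj (σ j) t.out (π * e₀)) := by
    have hπe : ∀ d ∈ P, ∀ y, (π * e₀) (σ j d y) = σ j d ((π * e₀) y) := fun d hd y => by
      rw [Module.End.mul_apply, he₀ d hd, hπN d (hPN hd)]; rfl
    intro g y
    rw [LinearMap.sum_apply, LinearMap.sum_apply, map_sum]
    refine Fintype.sum_equiv (MulAction.toPerm g⁻¹) _ _ fun t => ?_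
    rw [MulAction.toPerm_apply, cj_smul_coset (σ j) hπe, cj_apply (σ j) g⁻¹, inv_inv, rep_apply_inv]
  obtain ⟨c, hc⟩ := schur (σ j) (hirr j) hint
  have hsc : ∀ m, ∀ ψ : (Fin nV → ResField hM) →ₗ[ResField hM] S j, LIntw (σ j) (τ m) ψ →
      IsTr (σ j) (τ m) (π ∘ₗ ψ - c • ψ) := fun m ψ hψ =>
    isTr_sub_scalar (σ j) (τ m) hPT hPN hTN hfree he₀ hsum (hθP m) (hθsum m) hπN hc hψ
  have h1 := hsc i _ hφ1
  have h2 := hsc j _ (hφ j)
  rcases hπ with ⟨hp1, hp2⟩ | ⟨hp2, hp1⟩
  · rw [hp1] at h1
    rw [hp2, zero_sub, ← neg_smul] at h2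
    have hc0 := key j _ _ h2 (hφtr j)
    rw [neg_eq_zero] at hc0
    rw [hc0, zero_smul, sub_zero] at h1
    exact hφ1tr h1
  · rw [hp1, zero_sub, ← neg_smul] at h1
    rw [hp2] at h2
    have hc0 := key i _ _ h1 hφ1tr
    rw [neg_eq_zero] at hc0
    rw [hc0, zero_smul, sub_zero] at h2
    exact hφtr j h2

end Cfsg.Agent.Char.CycGreen
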