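import Cfsg.Agent.Lib.Char.ModularRank
import Cfsg.Agent.Lib.Char.Schur
import Cfsg.Agent.Lib.Char.Quotient
import Cfsg.Agent.Lib.Char.RegularIntegral

/-!
A block of a group with a Sylow subgroup `P` of order `p` has at least as many irreducible Brauer
characters as the normalizer of `P` has characters trivial on `P` over it.
-/

open scoped ComplexConjugate

namespace Cfsg.Agent.Char.CycMod

open Cfsg Cfsg.Agent.Block Cfsg.Agent.Char.Res

set_option linter.unusedSectionVars false
set_option linter.style.haveILetI false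
set_option maxHeartbeats 1600000

universe u

variable {G : Type u} [Group G] [Fintype G] {p : ℕ} [hp : Fact p.Prime] {M : Ideal AlgInt}

/-- The idempotent coefficient of a single character. -/
noncomputable def idemCoeff {Q : Type u} [Group Q] (χ : IrrCharacter Q) (q : Q) : ℂ :=
  (Nat.card Q : ℂ)⁻¹ * ((χ : Q → ℂ) 1 * conj ((χ : Q → ℂ) q))

theorem idemCoeff_eq {Q : Type u} [Group Q] (χ : IrrCharacter Q) (q : Q) :
    idemCoeff χ q = blockCoeff {χ} q := by
  rw [idemCoeff, blockCoeff, finsum_mem_singleton]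

theorem idemCoeff_ring (hM : IsPModular p M) {Q : Type u} [Group Q] [Finite Q]
    (hQ : ¬ p ∣ Nat.card Q) (χ : IrrCharacter Q) (q : Q) : MemLocalRing M (idemCoeff χ q) := by
  cases nonempty_fintype Q
  refine ring_mul hM (ring_inv_natCast hM hQ) (ring_mul hM (irr_ring hM χ 1) ?_)
  rw [← irr_apply_inv]
  exact irr_ring hM χ _

theorem idemCoeff_one (hM : IsPModular p M) {Q : Type u} [Group Q] [Finite Q]
    (hQ : ¬ p ∣ Nat.card Q) (χ : IrrCharacter Q) : red hM (idemCoeff χ 1) ≠ 0 := by
  cases nonempty_fintype Q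
  obtain ⟨d, hd, hd1⟩ := IsIrr.one_eq_pos χ.2
  have hpd : ¬ p ∣ d := by
    intro h
    have h1 := degree_factorization_le χ p
    rw [show charDegree (χ : Q → ℂ) = d by simp [charDegree, hd1],
      Nat.factorization_eq_zero_of_not_dvd hQ] at h1
    have := (hp.out.dvd_iff_one_le_factorization hd.ne').1 h
    omega
  rw [Ne, red_eq_zero hM (idemCoeff_ring hM hQ χ 1), idemCoeff, hd1, map_natCast]
  have hQ0 : (Nat.card Q : ℂ) ≠ 0 := Nat.cast_ne_zero.2 Nat.card_pos.ne'
  refine ideal_notMem_mul hM (ring_inv_natCast hM hQ) (ring_mul hM (ring_natCast hM d)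
    (ring_natCast hM d)) (fun h => ?_) (ideal_notMem_mul hM (ring_natCast hM d) (ring_natCast hM d)
    (fun h => hpd ((ideal_natCast_iff hM d).1 h)) fun h => hpd ((ideal_natCast_iff hM d).1 h))
  have := ideal_mul_left hM (ring_natCast hM (Nat.card Q)) h
  rw [mul_inv_cancel₀ hQ0] at this
  exact ideal_one hM this

theorem idemCoeff_conv {Q : Type u} [Group Q] [Fintype Q] (χ η : IrrCharacter Q) (g : Q) :
    ∑ h, idemCoeff χ h * idemCoeff η (h⁻¹ * g) =
      open Classical in if χ = η then idemCoeff χ g else 0 := by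
  classical
  have h1 := sum_blockCoeff_mul_irr {χ} η g⁻¹
  simp only [← idemCoeff_eq, Set.mem_singleton_iff, eq_comm (a := η)] at h1
  calc ∑ h, idemCoeff χ h * idemCoeff η (h⁻¹ * g)
      = (Nat.card Q : ℂ)⁻¹ * (η : Q → ℂ) 1 * ∑ h, idemCoeff χ h * (η : Q → ℂ) (g⁻¹ * h) := by
        rw [Finset.mul_sum]
        refine Finset.sum_congr rfl fun h _ => ?_
        simp only [idemCoeff]
        rw [← irr_apply_inv η, mul_inv_rev, inv_inv]
        ring
    _ = (Nat.card Q : ℂ)⁻¹ * (η : Q → ℂ) 1 * ∑ h, idemCoeff χ h * (η : Q → ℂ) (h * g⁻¹) := by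
        congr 1
        refine Finset.sum_congr rfl fun h _ => ?_
        rw [← irr_classFun η (g⁻¹ * h) g]
        group
    _ = _ := by
        rw [h1]
        split
        · next h => subst h; rw [idemCoeff, ← irr_apply_inv]; ring
        · rw [mul_zero]

theorem le_blockRank_of_normalizer (hM : IsPModular p M) {P : Subgroup G} (hPp : Nat.card P = p)
    (hsyl : ¬ p ∣ P.index) {N : Subgroup G} [Fintype N]
    (hN : N = Subgroup.normalizer (P : Set G))
    {B : Set (IrrCharacter G)} (hB : IsPBlock M B) (Ψ : Finset (IrrCharacter N))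
    (hker : ∀ ψ ∈ Ψ, ∀ n : N, (n : G) ∈ P → (ψ : N → ℂ) n = (ψ : N → ℂ) 1)
    (hω : ∀ ψ ∈ Ψ, MemLocalIdeal M (∑ n : N, (open Classical in
      if (n : G) ∈ Subgroup.centralizer (P : Set G) then blockCoeff B n else 0) *
        (ψ : N → ℂ) n / (ψ : N → ℂ) 1 - 1)) :
    Ψ.card ≤ blockRank p B := by
  classical
  letI := resInst hM
  haveI : CharP (ResField hM) p := resField_charP hM
  haveI : IsAlgClosed (ResField hM) := resField_isAlgClosed hM
  have hPN : P ≤ N := hN ▸ Subgroup.le_normalizer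
  set K := P.subgroupOf N with hK
  haveI : K.Normal := Subgroup.normal_subgroupOf_of_le_normalizer hN.le
  haveI : Fintype (N ⧸ K) := Fintype.ofFinite _
  have hQ : ¬ p ∣ Nat.card (N ⧸ K) := by
    rw [← Subgroup.index_eq_card]
    exact fun h => hsyl (h.trans (Subgroup.relIndex_dvd_index_of_le hPN))
  have hfac : ∀ ψ : {ψ // ψ ∈ Ψ}, ∃ χ : IrrCharacter (N ⧸ K),
      ∀ n : N, (χ : N ⧸ K → ℂ) (QuotientGroup.mk n) = (ψ.1 : N → ℂ) n := by
    intro ψ
    obtain ⟨χ, hχ, hχψ⟩ := IsIrr.exists_factor_quotient ψ.1.2 K fun n hn => hker ψ.1 ψ.2 n hn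
    exact ⟨⟨χ, hχ⟩, hχψ⟩
  choose χ hχ using hfac
  have hχinj : Function.Injective χ := fun a b h => Subtype.ext (Subtype.ext (funext fun n => by
    rw [← hχ a n, ← hχ b n, h]))
  let ζ : {ψ // ψ ∈ Ψ} → (N ⧸ K) → ResField hM := fun ψ q => red hM (idemCoeff (χ ψ) q)
  have hcr : ∀ ψ q, MemLocalRing M (idemCoeff (χ ψ) q) := fun ψ q => idemCoeff_ring hM hQ _ q
  have hζconv : ∀ ψ φ q, ∑ h, ζ ψ h * ζ φ (h⁻¹ * q) = if ψ = φ then ζ ψ q else 0 := by
    intro ψ φ q
    simp only [ζ]
    rw [← red_sum_mul hM _ _ _ (hcr ψ) (fun h => hcr φ _), idemCoeff_conv]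
    by_cases h : ψ = φ
    · simp [h]
    · rw [if_neg h, if_neg (fun e => h (hχinj e)), red_zero]
  -- the regular representation of the quotient
  let L : (N ⧸ K) →* Module.End (ResField hM) ((N ⧸ K) → ResField hM) :=
    { toFun := fun q => LinearMap.funLeft _ _ (fun x => q⁻¹ * x)
      map_one' := LinearMap.ext fun f => funext fun x => by simp [LinearMap.funLeft_apply]
      map_mul' := fun a b => LinearMap.ext fun f => funext fun x => by
        simp [LinearMap.funLeft_apply, mul_assoc] }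
  have hLact : ∀ (a : (N ⧸ K) → ResField hM) f x,
      act L a f x = ∑ h, a h * f (h⁻¹ * x) := fun a f x => by
    simp [act_apply, L, LinearMap.funLeft_apply]
  have hLconv : ∀ ψ φ f, act L (ζ ψ) (act L (ζ φ) f) = if ψ = φ then act L (ζ ψ) f else 0 := by
    intro ψ φ f
    funext x
    rw [hLact]
    calc ∑ h, ζ ψ h * act L (ζ φ) f (h⁻¹ * x)
        = ∑ h, ∑ y, ζ ψ h * ζ φ (h⁻¹ * y) * f (y⁻¹ * x) := by
          refine Finset.sum_congr rfl fun h _ => ?_
          rw [hLact, Finset.mul_sum]
          refine Fintype.sum_equiv (Equiv.mulLeft h) _ _ fun y => ?_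
          simp [mul_assoc]
      _ = (if ψ = φ then act L (ζ ψ) f else 0) x := by
          rw [Finset.sum_comm]
          simp only [← Finset.sum_mul, hζconv]
          by_cases h : ψ = φ
          · simp [h, hLact]
          · simp [h]
  -- the block acts as the identity
  set E : G → ResField hM := fun g => red hM (blockCoeff B g) with hE
  let Ec : N → ℂ := fun n =>
    if (n : G) ∈ Subgroup.centralizer (P : Set G) then blockCoeff B n else 0
  have hEcr : ∀ n, MemLocalRing M (Ec n) := fun n => by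
    simp only [Ec]; split
    · exact blockCoeff_ring hM hB _
    · exact ring_zero hM
  have hEccl : IsClassFunction N Ec := by
    intro n t
    have h1 : ((t * n * t⁻¹ : N) : G) ∈ Subgroup.centralizer (P : Set G) ↔
        (n : G) ∈ Subgroup.centralizer (P : Set G) :=
      ⟨fun h => by
        have := centralizer_conj_mem (n := ((t : G))⁻¹) (by
          rw [← hN]; exact N.inv_mem t.2) h
        simpa [mul_assoc] using this,
       fun h => centralizer_conj_mem (by rw [← hN]; exact t.2) h⟩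
    simp only [Ec]
    rw [show blockCoeff B ((t * n * t⁻¹ : N) : G) = blockCoeff B n from
      blockCoeff_classFun B (n : G) (t : G)]
    simp only [h1]
  have hEid : ∀ ψ y, ∑ n : N, red hM (Ec n) * ζ ψ ((QuotientGroup.mk n : N ⧸ K)⁻¹ * y) = ζ ψ y := by
    intro ψ y
    obtain ⟨z, rfl⟩ := QuotientGroup.mk_surjective y
    simp only [ζ, ← QuotientGroup.mk_inv, ← QuotientGroup.mk_mul]
    rw [← red_sum_mul hM _ _ _ hEcr (fun n => hcr ψ _)]
    have hr : MemLocalRing M (∑ n : N, Ec n * (ψ.1 : N → ℂ) n / (ψ.1 : N → ℂ) 1) := by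
      have := ring_add hM (ring_of_ideal (hω ψ.1 ψ.2)) (ring_one hM)
      simpa [Ec] using this
    have key : ∑ n : N, Ec n * idemCoeff (χ ψ) (QuotientGroup.mk (n⁻¹ * z)) =
        (∑ n : N, Ec n * (ψ.1 : N → ℂ) n / (ψ.1 : N → ℂ) 1) *
          idemCoeff (χ ψ) (QuotientGroup.mk z) := by
      have h2 := sum_classFun_mul_apply ψ.1.2 hEccl z⁻¹
      rw [← Finset.sum_div]
      simp only [idemCoeff, ← irr_apply_inv, ← QuotientGroup.mk_inv, mul_inv_rev, inv_inv, hχ]
      calc ∑ n : N, Ec n * ((Nat.card (N ⧸ K) : ℂ)⁻¹ *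
            ((χ ψ : N ⧸ K → ℂ) 1 * (ψ.1 : N → ℂ) (z⁻¹ * n)))
          = (Nat.card (N ⧸ K) : ℂ)⁻¹ * (χ ψ : N ⧸ K → ℂ) 1 *
              ∑ n : N, Ec n * (ψ.1 : N → ℂ) (n * z⁻¹) := by
            rw [Finset.mul_sum]
            refine Finset.sum_congr rfl fun n _ => ?_
            rw [← irr_classFun ψ.1 (z⁻¹ * n) z]
            group
        _ = _ := by rw [h2]; ring
    rw [key, red_mul hM hr (hcr ψ _),
      (red_eq_red hM hr (ring_one hM)).2 (hω ψ.1 ψ.2), red_one, one_mul]
  -- existence
  have hex : ∀ ψ : {ψ // ψ ∈ Ψ}, ∃ (S : Type u) (_ : AddCommGroup S) (_ : Module (ResField hM) S)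
      (_ : FiniteDimensional (ResField hM) S) (σ : G →* Module.End (ResField hM) S) (x : S),
      Irr σ ∧ (∀ z, act σ E z = z) ∧ x ∈ fixP P σ ∧ x ∉ LinearMap.range (nu P σ) ∧
        ∀ φ : {ψ // ψ ∈ Ψ}, ∑ t : N ⧸ K, ζ φ t • σ ((t.out : N) : G) x =
          if φ = ψ then x else 0 := by
    intro ψ
    let W := LinearMap.range (act L (ζ ψ))
    have hLcomm : ∀ (q : N ⧸ K) f, act L (ζ ψ) (L q f) = L q (act L (ζ ψ) f) := fun q f =>
      act_classFun L (fun g t => by
        simp only [ζ, idemCoeff, irr_classFun (χ ψ) g t]) q f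
    let τ : N →* Module.End (ResField hM) W :=
      { toFun := fun n => (L (QuotientGroup.mk n)).restrict (fun f hf => by
          obtain ⟨g, rfl⟩ := hf
          exact ⟨L (QuotientGroup.mk n) g, hLcomm _ _⟩)
        map_one' := LinearMap.ext fun f => Subtype.ext (by
          show L (QuotientGroup.mk 1) (f : _ → _) = _
          rw [QuotientGroup.mk_one, map_one]; rfl)
        map_mul' := fun a b => LinearMap.ext fun f => Subtype.ext (by
          show L (QuotientGroup.mk (a * b)) (f : _ → _) =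
            L (QuotientGroup.mk a) (L (QuotientGroup.mk b) f)
          rw [QuotientGroup.mk_mul, map_mul]; rfl) }
    have hτ : ∀ n (w : W), ((τ n w : W) : (N ⧸ K) → ResField hM) = L (QuotientGroup.mk n) w :=
      fun n w => rfl
    haveI : Nontrivial W := by
      refine ⟨⟨⟨_, LinearMap.mem_range_self _ (Pi.single 1 1)⟩, 0, fun h => ?_⟩⟩
      have h1 := congrFun (congrArg Subtype.val h) 1
      change act L (ζ ψ) (Pi.single 1 1) 1 = 0 at h1
      rw [hLact, Finset.sum_eq_single 1 (fun q _ hq => by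
        rw [Pi.single_eq_of_ne (by simpa using hq), mul_zero])
        (fun hh => absurd (Finset.mem_univ _) hh)] at h1
      simp only [mul_one, inv_one, Pi.single_eq_same] at h1
      exact idemCoeff_one hM hQ _ h1
    have hτP : ∀ n : N, (n : G) ∈ P → τ n = 1 := fun n hn => LinearMap.ext fun w => Subtype.ext (by
      rw [hτ, (QuotientGroup.eq_one_iff n).2 (show n ∈ K from hn), map_one]; rfl)
    have hτE : ∀ v, act τ (fun n : N =>
        if (n : G) ∈ Subgroup.centralizer (P : Set G) then E n else 0) v = v := by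
      rintro ⟨_, f, rfl⟩
      refine Subtype.ext (funext fun x => ?_)
      rw [act_apply]
      simp only [AddSubmonoidClass.coe_finset_sum, Finset.sum_apply, Submodule.coe_smul,
        Pi.smul_apply, smul_eq_mul, hτ]
      show ∑ n : N, _ * act L (ζ ψ) f ((QuotientGroup.mk n : N ⧸ K)⁻¹ * x) = act L (ζ ψ) f x
      calc ∑ n : N, (if (n : G) ∈ Subgroup.centralizer (P : Set G) then E n else 0) *
            act L (ζ ψ) f ((QuotientGroup.mk n : N ⧸ K)⁻¹ * x)
          = ∑ n : N, ∑ y, red hM (Ec n) * ζ ψ ((QuotientGroup.mk n : N ⧸ K)⁻¹ * y) *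
              f (y⁻¹ * x) := by
            refine Finset.sum_congr rfl fun n _ => ?_
            rw [hLact, Finset.mul_sum]
            refine Fintype.sum_equiv (Equiv.mulLeft (QuotientGroup.mk n : N ⧸ K)) _ _ fun y => ?_
            have hEn : (if (n : G) ∈ Subgroup.centralizer (P : Set G) then E n else 0) =
                red hM (Ec n) := by
              simp only [E, Ec]; split
              · rfl
              · exact (red_zero hM).symm
            simp [hEn, mul_assoc]
        _ = _ := by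
            rw [Finset.sum_comm, hLact]
            simp only [← Finset.sum_mul, hEid]
    obtain ⟨S, i1, i2, i3, σ, φ, hirr, hσE, hφN, hφP, v, hv⟩ :=
      exists_simple_socle hPp hsyl (E := E)
        (fun g t => by simp only [E, blockCoeff_classFun B g t])
        (fun g => by
          simp only [E]
          rw [← red_sum_mul hM _ _ _ (fun h => blockCoeff_ring hM hB h)
            (fun h => blockCoeff_ring hM hB _)]
          exact congrArg (red hM) (congrFun (convFun_blockCoeff B) g))
        hN τ hτP hτE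
    refine ⟨S, i1, i2, i3, σ, φ v, hirr, hσE, hφP v, hv, fun χ' => ?_⟩
    calc ∑ t : N ⧸ K, ζ χ' t • σ ((t.out : N) : G) (φ v)
        = φ (∑ t : N ⧸ K, ζ χ' t • τ t.out v) := by
          rw [map_sum]
          exact Finset.sum_congr rfl fun t _ => by rw [map_smul, hφN]
      _ = _ := by
          have h1 : ((∑ t : N ⧸ K, ζ χ' t • τ t.out v : W) : (N ⧸ K) → ResField hM) =
              act L (ζ χ') v := by
            rw [act_apply]
            simp only [AddSubmonoidClass.coe_finset_sum, Submodule.coe_smul, hτ,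
              QuotientGroup.out_eq']
          obtain ⟨f, hf⟩ := v.2
          by_cases h : χ' = ψ
          · rw [if_pos h]
            congr 1
            refine Subtype.ext ?_
            rw [h1, h, ← hf, hLconv, if_pos rfl]
          · rw [if_neg h, ← map_zero φ]
            congr 1
            refine Subtype.ext ?_
            rw [h1, ← hf, hLconv, if_neg h]
            rfl
  choose S i1 i2 i3 σ x hirr hσE hxP hxn hx using hex
  have hcard : Ψ.card = Fintype.card {ψ // ψ ∈ Ψ} := (Fintype.card_coe Ψ).symm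
  let e := Fintype.equivFin {ψ // ψ ∈ Ψ}
  rw [hcard, show Fintype.card {ψ // ψ ∈ Ψ} =
    Fintype.card (Fin (Fintype.card {ψ // ψ ∈ Ψ})) from (Fintype.card_fin _).symm]
  refine le_blockRank hM hB (S := fun i => S (e.symm i))
    ⟨fun i => i2 _, fun i => i3 _, fun i => σ (e.symm i), fun i => hirr _, fun i j hij f hf => ?_,
      fun i z => hσE _ z⟩
  rcases zero_or_bijective _ _ (hirr _) (hirr _) hf with h | h
  · exact h
  exfalso
  set ψi := e.symm i
  set ψj := e.symm j
  have hne : ψi ≠ ψj := fun h' => hij (e.symm.injective h')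
  let Z : S ψj →ₗ[ResField hM] S ψj := ∑ t : N ⧸ K, ζ ψj t • σ ψj ((t.out : N) : G)
  have hZapp : ∀ z, Z z = ∑ t : N ⧸ K, ζ ψj t • σ ψj ((t.out : N) : G) z := fun z => by simp [Z]
  have hnmem : ∀ n : N, (n : G) ∈ Subgroup.normalizer (P : Set G) := fun n => hN ▸ n.2
  refine hxn ψi ?_
  have hmem : f (x ψi) ∈ LinearMap.range (nu P (σ ψj)) := by
    refine constant_on_socle (σ ψj) hPp hsyl (hirr _) Z (fun n hn z hz => ?_) (fun d => ?_)
      (hxP ψj) (fun u hu => ?_) (hxn ψj) ?_ ?_
    · rw [hZapp, hZapp, map_sum]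
      let n' : N := ⟨n, hN.symm ▸ hn⟩
      refine Fintype.sum_equiv (MulAut.conj (QuotientGroup.mk n' : N ⧸ K)⁻¹).toEquiv _ _ fun t => ?_
      rw [map_smul]
      have hζc : ζ ψj ((MulAut.conj (QuotientGroup.mk n' : N ⧸ K)⁻¹) t) = ζ ψj t := by
        simp only [ζ, idemCoeff, MulAut.conj_apply, inv_inv]
        have := irr_classFun (χ ψj) t (QuotientGroup.mk n' : N ⧸ K)⁻¹
        rw [inv_inv] at this
        rw [this]
      show _ = ζ ψj ((MulAut.conj (QuotientGroup.mk n' : N ⧸ K)⁻¹) t) • σ ψj n _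
      rw [hζc]
      congr 1
      set t' := (MulAut.conj (QuotientGroup.mk n' : N ⧸ K)⁻¹) t with ht'
      obtain ⟨u, hu, hu'⟩ : ∃ u : N, (u : G) ∈ P ∧ t.out * n' = n' * t'.out * u := by
        refine ⟨(n' * t'.out)⁻¹ * (t.out * n'), ?_, by group⟩
        show (n' * t'.out)⁻¹ * (t.out * n') ∈ K
        rw [← QuotientGroup.eq, QuotientGroup.mk_mul, QuotientGroup.mk_mul,
          QuotientGroup.out_eq', QuotientGroup.out_eq', ht', MulAut.conj_apply, inv_inv]
        group
      rw [← Module.End.mul_apply, ← Module.End.mul_apply, ← map_mul, ← map_mul,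
        show ((t.out : N) : G) * n = ((n' : G) * (t'.out : N)) * u from congrArg Subtype.val hu',
        map_mul, Module.End.mul_apply, hz _ hu]
      rfl
    · refine ⟨∑ t : N ⧸ K, ζ ψj t • σ ψj ((t.out : N) : G) d, ?_⟩
      rw [hZapp, map_sum]
      exact Finset.sum_congr rfl fun t _ => by rw [map_smul, nu_normalizer _ (hnmem _)]
    · rw [← hf, hxP ψi u hu]
    · rw [hZapp, hx, if_pos rfl]
    · rw [hZapp]
      have h1 : ∀ t : N ⧸ K, ζ ψj t • σ ψj ((t.out : N) : G) (f (x ψi)) =
          f (ζ ψj t • σ ψi ((t.out : N) : G) (x ψi)) := fun t => by rw [map_smul, hf]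
      rw [Finset.sum_congr rfl fun t _ => h1 t, ← map_sum, hx, if_neg (Ne.symm hne), map_zero]
  obtain ⟨d, hd⟩ := hmem
  obtain ⟨d', rfl⟩ := h.2 d
  refine ⟨d', h.1 ?_⟩
  rw [← hd, nu_apply, nu_apply, map_sum]
  exact Finset.sum_congr rfl fun u _ => hf _ _

end Cfsg.Agent.Char.CycMod
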