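import Mathlib.Algebra.BigOperators.Ring.Finset
import Mathlib.Algebra.BigOperators.Group.Finset.Piecewise
import Mathlib.Data.Fintype.BigOperators
import Mathlib.Algebra.Order.BigOperators.Group.Finset
import Mathlib.Tactic.Linarith
import Mathlib.Tactic.Ring

/-!
Integral matrices with few rows whose columns have the Gram matrix `1 + e`: all but `e` rows are
signed unit rows with one sign, the remaining rows are constant `± 1`.
-/

namespace Cfsg.Agent.Char.DefectOne

variable {ι Q : Type*} [Fintype Q] [DecidableEq Q]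

/-- The conclusion: the unit rows `y q` and the constant rows. -/
def GoodRows (A : Finset ι) (a : ι → Q → ℤ) (e : ℕ) : Prop :=
  ∃ (X : Finset ι) (y : Q → ι) (c : ι → ℤ) (ε : ℤ), Function.Injective y ∧ (∀ q, y q ∈ A) ∧
    (∀ χ, χ ∈ X ↔ χ ∈ A ∧ ∀ q, y q ≠ χ) ∧ X.card = e ∧ (ε = 1 ∨ ε = -1) ∧
    (∀ χ ∈ X, (c χ = 1 ∨ c χ = -1) ∧ ∀ q, a χ q = c χ) ∧
    ∀ q q', a (y q) q' = if q' = q then ε else 0

variable {A : Finset ι} {a : ι → Q → ℤ} {e : ℕ}

theorem sq_one_le {z : ℤ} (h : z ≠ 0) : 1 ≤ z * z := by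
  have := mul_self_pos.2 h
  omega

/-- The rows known up to a function vanishing on the unit rows. -/
theorem finish (hg : ∀ q, ∑ χ ∈ A, a χ q * a χ q = 1 + e) (hnz : ∀ χ ∈ A, ∃ q, a χ q ≠ 0)
    (hcard : e + Fintype.card Q ≤ A.card) [Nonempty Q] {y : Q → ι} (hy : Function.Injective y)
    (hyA : ∀ q, y q ∈ A) {c : ι → ℤ} (hc : ∀ q, c (y q) = 0) {ε : ℤ} (hε : ε = 1 ∨ ε = -1)
    (ha : ∀ χ ∈ A, ∀ q, (∀ q', y q' = χ → q' ≠ q) → a χ q = c χ)
    (hay : ∀ q, a (y q) q = ε) : GoodRows A a e := by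
  classical
  obtain ⟨q₀⟩ := ‹Nonempty Q›
  set S := Finset.univ.image y
  have hSA : S ⊆ A := fun x hx => by
    obtain ⟨q, -, rfl⟩ := Finset.mem_image.1 hx
    exact hyA q
  have hScard : S.card = Fintype.card Q := Finset.card_image_of_injective _ hy
  have hne : ∀ {q q'}, q' ≠ q → a (y q) q' = 0 := fun {q q'} h => by
    rw [ha _ (hyA q) q' fun q'' h'' => by rw [hy h'']; exact h.symm, hc]
  have hX : ∀ χ ∈ A \ S, ∀ q, a χ q = c χ := fun χ hχ q => by
    obtain ⟨h1, h2⟩ := Finset.mem_sdiff.1 hχ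
    exact ha χ h1 q fun q' h => absurd (Finset.mem_image.2 ⟨q', Finset.mem_univ _, h⟩) h2
  have hc0 : ∀ χ ∈ A \ S, c χ ≠ 0 := fun χ hχ h => by
    obtain ⟨q, hq⟩ := hnz χ (Finset.mem_sdiff.1 hχ).1
    exact hq (by rw [hX χ hχ q, h])
  have hS1 : ∑ χ ∈ S, a χ q₀ * a χ q₀ = 1 := by
    rw [Finset.sum_image fun x _ x' _ h => hy h, Finset.sum_eq_single q₀]
    · rcases hε with h | h <;> rw [hay, h] <;> norm_num
    · exact fun q _ hq => by rw [hne (Ne.symm hq), mul_zero]
    · exact fun h => absurd (Finset.mem_univ _) h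
  have hsum : ∑ χ ∈ A \ S, c χ * c χ = e := by
    have h := hg q₀
    rw [← Finset.sum_sdiff hSA, hS1, Finset.sum_congr rfl fun χ hχ => by rw [hX χ hχ q₀]] at h
    linarith
  have hle : ∀ χ ∈ A \ S, (1 : ℤ) ≤ c χ * c χ := fun χ hχ => sq_one_le (hc0 χ hχ)
  have hcardX : (A \ S).card = A.card - Fintype.card Q := by
    rw [Finset.card_sdiff_of_subset hSA, hScard]
  have h1 := Finset.sum_le_sum hle
  rw [hsum, Finset.sum_const, nsmul_one] at h1
  have hXe : (A \ S).card = e := by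
    have : (A \ S).card ≤ e := by exact_mod_cast h1
    omega
  refine ⟨A \ S, y, c, ε, hy, hyA, fun χ => by simp [S], hXe, hε, fun χ hχ => ⟨?_, hX χ hχ⟩,
    fun q q' => ?_⟩
  · have h2 : ∀ χ ∈ A \ S, (1 : ℤ) = c χ * c χ := (Finset.sum_eq_sum_iff_of_le hle).1 (by
      rw [hsum, Finset.sum_const, nsmul_one, hXe])
    exact Int.eq_one_or_neg_one_of_mul_eq_one (h2 χ hχ).symm
  · split_ifs with h
    · rw [h, hay]
    · exact hne h

/-- The rows known up to one exceptional column. -/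
theorem of_shift (hg : ∀ q, ∑ χ ∈ A, a χ q * a χ q = 1 + e) (hnz : ∀ χ ∈ A, ∃ q, a χ q ≠ 0)
    (hcard : e + Fintype.card Q ≤ A.card) (ht : 2 ≤ Fintype.card Q) {y : Q → ι}
    (hy : Function.Injective y) (hyA : ∀ q, y q ∈ A) {c : ι → ℤ} {δ : ℤ} (hδ : δ = 1 ∨ δ = -1)
    (ha : ∀ χ ∈ A, ∀ q, (∀ q', y q' = χ → q' ≠ q) → a χ q = c χ)
    (hay : ∀ q, a (y q) q = c (y q) + δ) : GoodRows A a e := by
  classical
  haveI : Nonempty Q := Fintype.card_pos_iff.1 (by omega)
  obtain ⟨q₀⟩ := ‹Nonempty Q›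
  have hcol : ∀ q, ∑ χ ∈ A, c χ * c χ + 2 * δ * c (y q) = e := by
    intro q
    have h := hg q
    rw [← Finset.add_sum_erase _ _ (hyA q), hay,
      Finset.sum_congr rfl (g := fun χ => c χ * c χ) fun χ hχ => by
        rw [ha χ (Finset.mem_of_mem_erase hχ) q fun q' h h' =>
          (Finset.ne_of_mem_erase hχ) (by rw [← h, h'])]] at h
    rw [← Finset.add_sum_erase _ _ (hyA q)]
    rcases hδ with hd | hd <;> subst hd <;> linarith
  set d := c (y q₀)
  have hd : ∀ q, c (y q) = d := by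
    intro q
    have h1 := hcol q
    have h2 := hcol q₀
    rcases hδ with hd | hd <;> subst hd <;> linarith
  by_cases hd0 : d = 0
  · exact finish hg hnz hcard hy hyA (fun q => (hd q).trans hd0) hδ ha
      fun q => by rw [hay, hd, hd0, zero_add]
  -- the only other possibility
  set S := Finset.univ.image y
  have hSA : S ⊆ A := fun x hx => by
    obtain ⟨q, -, rfl⟩ := Finset.mem_image.1 hx
    exact hyA q
  have hScard : S.card = Fintype.card Q := Finset.card_image_of_injective _ hy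
  have hle : ∀ χ ∈ A \ S, (1 : ℤ) ≤ c χ * c χ := fun χ hχ => by
    obtain ⟨h1, h2⟩ := Finset.mem_sdiff.1 hχ
    refine sq_one_le fun h => ?_
    obtain ⟨q, hq⟩ := hnz χ h1
    exact hq (by rw [ha χ h1 q fun q' h' => absurd (Finset.mem_image.2
      ⟨q', Finset.mem_univ _, h'⟩) h2, h])
  have hsum : ∑ χ ∈ A \ S, c χ * c χ = e - 2 * δ * d - (Fintype.card Q : ℤ) * (d * d) := by
    have h := hcol q₀
    rw [← Finset.sum_sdiff hSA, Finset.sum_image fun x _ x' _ h => hy h,
      Finset.sum_congr rfl (s₁ := Finset.univ) fun q _ => by rw [hd q], Finset.sum_const,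
      Finset.card_univ, nsmul_eq_mul] at h
    linarith
  have h1 := Finset.sum_le_sum hle
  rw [hsum, Finset.sum_const, nsmul_one, Finset.card_sdiff_of_subset hSA, hScard,
    Nat.cast_sub (hScard ▸ Finset.card_le_card hSA)] at h1
  have hcardZ : (e : ℤ) + Fintype.card Q ≤ A.card := by exact_mod_cast hcard
  have htZ : (2 : ℤ) ≤ Fintype.card Q := by exact_mod_cast ht
  have hdd := sq_one_le hd0
  have hkey : (Fintype.card Q : ℤ) * (d * d) ≤ -(2 * δ * d) := by linarith
  have hdδ : d = -δ ∧ Fintype.card Q = 2 := by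
    have h2 : 2 * (d * d) ≤ -(2 * δ * d) := le_trans (mul_le_mul_of_nonneg_right htZ (by linarith)) hkey
    have hdd' : d * d ≤ -(δ * d) := by linarith
    have hd' : d = -δ := by
      rcases hδ with h | h <;> subst h <;> rcases lt_or_gt_of_ne hd0 with h' | h' <;> nlinarith
    refine ⟨hd', ?_⟩
    rw [hd'] at hkey
    have : (Fintype.card Q : ℤ) ≤ 2 := by rcases hδ with h | h <;> subst h <;> linarith
    omega
  obtain ⟨hdeq, ht2⟩ := hdδ
  have hex : ∀ q : Q, ∃! q', q' ≠ q := fun q => by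
    have h : (Finset.univ.erase q).card = 1 := by
      rw [Finset.card_erase_of_mem (Finset.mem_univ _), Finset.card_univ, ht2]
    obtain ⟨r, hr⟩ := Finset.card_eq_one.1 h
    refine ⟨r, fun h' => ?_, fun r' hr' => ?_⟩
    · have := hr ▸ Finset.mem_singleton_self r
      simp [h'] at this
    · exact Finset.mem_singleton.1 (hr ▸ Finset.mem_erase.2 ⟨hr', Finset.mem_univ _⟩)
  choose σ hσ hσu using hex
  have hσσ : ∀ q, σ (σ q) = q := fun q => ((hσu (σ q)) q (hσ q).symm).symm
  refine finish hg hnz hcard (y := fun q => y (σ q)) (c := fun χ => if χ ∈ S then 0 else c χ)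
    (ε := -δ) (hy.comp (Function.Involutive.injective hσσ)) (fun q => hyA _)
    (fun q => if_pos (Finset.mem_image.2 ⟨_, Finset.mem_univ _, rfl⟩))
    (hδ.symm.imp (fun h => by rw [h]; rfl) (fun h => by rw [h])) (fun χ hχ q h => ?_) fun q => ?_
  · show a χ q = if χ ∈ S then 0 else c χ
    split_ifs with hS
    · obtain ⟨r, -, rfl⟩ := Finset.mem_image.1 hS
      have hr : r = q := by
        by_contra hrq
        exact h (σ r) (by simp [hσσ]) (by rw [hσu q r hrq, hσσ])
      rw [hr, hay, hd, hdeq, neg_add_cancel]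
    · exact ha χ hχ q fun q' h' => absurd (Finset.mem_image.2 ⟨q', Finset.mem_univ _, h'⟩) hS
  · show a (y (σ q)) q = -δ
    rw [ha _ (hyA _) q fun q' h' => by rw [hy h']; exact hσ q, hd, hdeq]

/-- The rows. -/
theorem goodRows (deg : ι → ℤ) (hdeg : ∀ χ ∈ A, 0 < deg χ) [Nonempty Q]
    (hg : ∀ q q', ∑ χ ∈ A, a χ q * a χ q' = (if q = q' then 1 else 0) + (e : ℤ))
    (horth : ∀ q, ∑ χ ∈ A, deg χ * a χ q = 0) (hnz : ∀ χ ∈ A, ∃ q, a χ q ≠ 0)
    (hcard : e + Fintype.card Q ≤ A.card) : GoodRows A a e := by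
  classical
  obtain ⟨q₀⟩ := ‹Nonempty Q›
  have hg1 : ∀ q, ∑ χ ∈ A, a χ q * a χ q = 1 + e := fun q => by rw [hg, if_pos rfl]
  by_cases ht1 : Fintype.card Q = 1
  · haveI : Subsingleton Q := (Fintype.card_le_one_iff_subsingleton.1 ht1.le)
    have hne : ∀ χ ∈ A, a χ q₀ ≠ 0 := fun χ hχ => by
      obtain ⟨q, hq⟩ := hnz χ hχ
      rwa [Subsingleton.elim q₀ q]
    have hle : ∀ χ ∈ A, (1 : ℤ) ≤ a χ q₀ * a χ q₀ := fun χ hχ => sq_one_le (hne χ hχ)
    have h1 := Finset.sum_le_sum hle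
    rw [hg1, Finset.sum_const, nsmul_one] at h1
    have hA : A.card = 1 + e := by
      have : A.card ≤ 1 + e := by exact_mod_cast h1
      omega
    have h2 : ∀ χ ∈ A, (1 : ℤ) = a χ q₀ * a χ q₀ := (Finset.sum_eq_sum_iff_of_le hle).1 (by
      rw [hg1, Finset.sum_const, nsmul_one, hA]; push_cast; rfl)
    obtain ⟨z, hz⟩ := Finset.card_pos.1 (by omega : 0 < A.card)
    refine finish hg1 hnz hcard (y := fun _ : Q => z) (fun _ _ _ => Subsingleton.elim _ _)
      (fun _ => hz) (c := fun χ => if χ = z then 0 else a χ q₀) (fun _ => if_pos rfl)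
      (Int.eq_one_or_neg_one_of_mul_eq_one (h2 z hz).symm) (fun χ hχ q h => ?_)
      fun q => by rw [Subsingleton.elim q q₀]
    show a χ q = if χ = z then 0 else a χ q₀
    rw [if_neg fun h' => h q h'.symm rfl, Subsingleton.elim q q₀]
  have ht : 2 ≤ Fintype.card Q := by
    have := Fintype.card_pos (α := Q)
    omega
  -- the differences
  have hdiff : ∀ q, q ≠ q₀ → ∃ x ∈ A, ∃ z ∈ A, x ≠ z ∧
      ∀ χ ∈ A, a χ q₀ - a χ q = (if χ = x then 1 else 0) - (if χ = z then 1 else 0) := by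
    intro q hq
    set v : ι → ℤ := fun χ => a χ q₀ - a χ q
    have hv2 : ∑ χ ∈ A, v χ * v χ = 2 := by
      have e1 : ∀ χ, v χ * v χ = a χ q₀ * a χ q₀ - 2 * (a χ q₀ * a χ q) + a χ q * a χ q :=
        fun χ => by simp only [v]; ring
      rw [Finset.sum_congr rfl fun χ _ => e1 χ, Finset.sum_add_distrib, Finset.sum_sub_distrib,
        ← Finset.mul_sum, hg, hg, hg, if_pos rfl, if_pos rfl, if_neg (Ne.symm hq)]
      ring
    have hv0 : ∑ χ ∈ A, deg χ * v χ = 0 := by
      simp only [v, mul_sub, Finset.sum_sub_distrib, horth, sub_self]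
    set S := A.filter fun χ => v χ ≠ 0
    have hle : ∀ χ ∈ S, (1 : ℤ) ≤ v χ * v χ := fun χ hχ => sq_one_le (Finset.mem_filter.1 hχ).2
    have hS2 : ∑ χ ∈ S, v χ * v χ = 2 := by
      rw [← hv2]
      exact Finset.sum_subset (Finset.filter_subset _ _) fun χ hχ hn => by
        rw [show v χ = 0 by simpa [S, hχ] using hn, mul_zero]
    have hS0 : ∑ χ ∈ S, deg χ * v χ = 0 := by
      rw [← hv0]
      exact Finset.sum_subset (Finset.filter_subset _ _) fun χ hχ hn => by
        rw [show v χ = 0 by simpa [S, hχ] using hn, mul_zero]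
    have h1 := Finset.sum_le_sum hle
    rw [hS2, Finset.sum_const, nsmul_one] at h1
    have hSle : S.card ≤ 2 := by exact_mod_cast h1
    have hsupp : ∀ χ ∈ A, χ ∉ S → v χ = 0 := fun χ hχ hn => by simpa [S, hχ] using hn
    rcases Nat.lt_or_ge S.card 2 with hlt | hge
    · exfalso
      rcases Nat.lt_or_ge S.card 1 with h | h
      · rw [Finset.card_eq_zero.1 (by omega : S.card = 0)] at hS2
        simp at hS2
      · obtain ⟨x, hx⟩ := Finset.card_eq_one.1 (by omega : S.card = 1)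
        rw [hx, Finset.sum_singleton] at hS0
        have hxS : x ∈ S := hx ▸ Finset.mem_singleton_self x
        exact mul_ne_zero (hdeg x (Finset.mem_filter.1 hxS).1).ne' (Finset.mem_filter.1 hxS).2 hS0
    obtain ⟨x, z, hxz, hx⟩ := Finset.card_eq_two.1 (by omega : S.card = 2)
    have hxS : x ∈ S := hx ▸ Finset.mem_insert_self x _
    have hzS : z ∈ S := hx ▸ Finset.mem_insert_of_mem (Finset.mem_singleton_self z)
    have h2 : ∀ χ ∈ S, (1 : ℤ) = v χ * v χ := (Finset.sum_eq_sum_iff_of_le hle).1 (by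
      rw [hS2, Finset.sum_const, nsmul_one, hx, Finset.card_pair hxz]; rfl)
    rw [hx, Finset.sum_pair hxz] at hS0
    have hdx := hdeg x (Finset.mem_filter.1 hxS).1
    have hdz := hdeg z (Finset.mem_filter.1 hzS).1
    have key : ∀ u w : ι, u ≠ w → u ∈ A → w ∈ A → (S = {u, w}) → v u = 1 → v w = -1 →
        ∃ x ∈ A, ∃ z ∈ A, x ≠ z ∧
          ∀ χ ∈ A, a χ q₀ - a χ q = (if χ = x then 1 else 0) - (if χ = z then 1 else 0) := by
      intro u w huw hu hw hS hvu hvw
      refine ⟨u, hu, w, hw, huw, fun χ hχ => ?_⟩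
      show v χ = _
      by_cases h : χ = u
      · subst h; rw [if_pos rfl, if_neg huw, sub_zero, hvu]
      by_cases h' : χ = w
      · subst h'; rw [if_neg h, if_pos rfl, zero_sub, hvw]
      · rw [if_neg h, if_neg h', sub_zero, hsupp χ hχ (by simp [hS, h, h'])]
    rcases Int.eq_one_or_neg_one_of_mul_eq_one (h2 x hxS).symm with hvx | hvx <;>
      rcases Int.eq_one_or_neg_one_of_mul_eq_one (h2 z hzS).symm with hvz | hvz
    · rw [hvx, hvz] at hS0; linarith
    · exact key x z hxz (Finset.mem_filter.1 hxS).1 (Finset.mem_filter.1 hzS).1 hx hvx hvz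
    · exact key z x hxz.symm (Finset.mem_filter.1 hzS).1 (Finset.mem_filter.1 hxS).1
        (by rw [hx, Finset.pair_comm]) hvz hvx
    · rw [hvx, hvz] at hS0; linarith
  haveI : Nonempty ι := ⟨(Finset.card_pos.1 (by omega : 0 < A.card)).choose⟩
  choose! x hxA z hzA hxz hv using hdiff
  have hinner : ∀ q q', q ≠ q₀ → q' ≠ q₀ → q ≠ q' →
      (if x q = x q' then (1 : ℤ) else 0) - (if x q = z q' then 1 else 0) -
        (if z q = x q' then 1 else 0) + (if z q = z q' then 1 else 0) = 1 := by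
    intro q q' hq hq' hne
    have h : ∑ χ ∈ A, (a χ q₀ - a χ q) * (a χ q₀ - a χ q') = 1 := by
      have e1 : ∀ χ, (a χ q₀ - a χ q) * (a χ q₀ - a χ q') =
          a χ q₀ * a χ q₀ - a χ q₀ * a χ q' - a χ q * a χ q₀ + a χ q * a χ q' := fun χ => by ring
      rw [Finset.sum_congr rfl fun χ _ => e1 χ, Finset.sum_add_distrib, Finset.sum_sub_distrib,
        Finset.sum_sub_distrib, hg, hg, hg, hg, if_pos rfl, if_neg (Ne.symm hq'), if_neg hq,
        if_neg hne]
      ring
    refine Eq.trans ?_ h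
    rw [Finset.sum_congr rfl fun χ hχ => by rw [hv q hq χ hχ, hv q' hq' χ hχ]]
    simp only [sub_mul, ite_mul, one_mul, zero_mul, Finset.sum_sub_distrib, Finset.sum_ite_eq',
      if_pos (hxA q hq), if_pos (hzA q hq)]
    ring
  have hor : ∀ q q', q ≠ q₀ → q' ≠ q₀ → q ≠ q' →
      (x q = x q' ∧ z q ≠ z q') ∨ (z q = z q' ∧ x q ≠ x q') := by
    intro q q' hq hq' hne
    have h := hinner q q' hq hq' hne
    by_cases h1 : x q = x q'
    · refine Or.inl ⟨h1, fun h2 => ?_⟩
      rw [if_pos h1, if_pos h2, if_neg fun h3 => hxz q hq (h3.trans h2.symm),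
        if_neg fun h3 => hxz q hq (h1.trans h3.symm)] at h
      norm_num at h
    · refine Or.inr ⟨?_, h1⟩
      by_contra h2
      rw [if_neg h1, if_neg h2] at h
      split_ifs at h <;> norm_num at h
  obtain ⟨q₁, hq₁⟩ := Fintype.exists_ne_of_one_lt_card (by omega) q₀
  have hstar : (∀ q, q ≠ q₀ → x q = x q₁) ∨ ∀ q, q ≠ q₀ → z q = z q₁ := by
    by_contra hcon
    push Not at hcon
    obtain ⟨⟨q, hq, hx'⟩, ⟨q', hq', hz'⟩⟩ := hcon
    have hqne : q ≠ q₁ := fun h => hx' (by rw [h])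
    have hq'ne : q' ≠ q₁ := fun h => hz' (by rw [h])
    have hzq : z q = z q₁ := ((hor q q₁ hq hq₁ hqne).resolve_left fun h => hx' h.1).1
    have hxq' : x q' = x q₁ := ((hor q' q₁ hq' hq₁ hq'ne).resolve_right fun h => hz' h.1).1
    have hqq' : q ≠ q' := fun h => hx' (h ▸ hxq')
    rcases hor q q' hq hq' hqq' with h | h
    · exact hx' (h.1.trans hxq')
    · exact hz' (h.1.symm.trans hzq)
  -- the unit rows
  have hmain : ∀ (u : ι) (w : Q → ι) (σ : ℤ), (σ = 1 ∨ σ = -1) → u ∈ A → (∀ q, q ≠ q₀ → w q ∈ A) →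
      (∀ q, q ≠ q₀ → w q ≠ u) → (∀ q q', q ≠ q₀ → q' ≠ q₀ → w q = w q' → q = q') →
      (∀ q, q ≠ q₀ → ∀ χ ∈ A, a χ q₀ - a χ q =
        σ * ((if χ = u then 1 else 0) - (if χ = w q then 1 else 0))) → GoodRows A a e := by
    intro u w σ hσ hu hw hwu hwinj hσv
    let y : Q → ι := fun q => if q = q₀ then u else w q
    have hy : Function.Injective y := by
      intro q q' h
      simp only [y] at h
      split_ifs at h with h1 h2 h2
      · rw [h1, h2]
      · exact absurd h.symm (hwu q' h2)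
      · exact absurd h (hwu q h1)
      · exact hwinj q q' h1 h2 h
    refine of_shift hg1 hnz hcard ht hy (fun q => ?_) hσ
      (c := fun χ => a χ q₀ - if χ = u then σ else 0) (fun χ hχ q h => ?_) fun q => ?_
    · by_cases hq : q = q₀
      · simpa [y, hq] using hu
      · simpa [y, hq] using hw q hq
    · show a χ q = a χ q₀ - if χ = u then σ else 0
      by_cases hq : q = q₀
      · subst hq
        rw [if_neg fun h' => h q (by simp [y, h']) rfl, sub_zero]
      · have h1 := hσv q hq χ hχ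
        rw [if_neg (fun h' => h q (by simp [y, hq, h']) rfl : χ ≠ w q), sub_zero, mul_ite, mul_one,
          mul_zero] at h1
        linarith
    · show a (y q) q = a (y q) q₀ - (if y q = u then σ else 0) + σ
      by_cases hq : q = q₀
      · simp [y, hq]
      · have h1 := hσv q hq (w q) (hw q hq)
        rw [if_neg (hwu q hq), if_pos rfl] at h1
        simp only [y, if_neg hq, if_neg (hwu q hq)]
        linarith
  rcases hstar with hs | hs
  · refine hmain (x q₁) z 1 (Or.inl rfl) (hxA q₁ hq₁) hzA (fun q hq => hs q hq ▸ (hxz q hq).symm)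
      (fun q q' hq hq' h => by_contra fun hne => ?_) fun q hq χ hχ => by
        rw [hv q hq χ hχ, hs q hq, one_mul]
    rcases hor q q' hq hq' hne with h' | h'
    · exact h'.2 h
    · exact h'.2 ((hs q hq).trans (hs q' hq').symm)
  · refine hmain (z q₁) x (-1) (Or.inr rfl) (hzA q₁ hq₁) hxA (fun q hq => hs q hq ▸ hxz q hq)
      (fun q q' hq hq' h => by_contra fun hne => ?_) fun q hq χ hχ => by
        rw [hv q hq χ hχ, hs q hq]; ring
    rcases hor q q' hq hq' hne with h' | h'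
    · exact h'.2 ((hs q hq).trans (hs q' hq').symm)
    · exact h'.2 h

end Cfsg.Agent.Char.DefectOne
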