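import Cfsg.Agent.Lib.Char.PairInertial

/-!
Blocks with cyclic defect group: the inertial quotient is cyclic of order dividing `p - 1` and
acts freely.
-/

namespace Cfsg.Agent.Char.BP

open Cfsg.Agent.Block

set_option linter.unusedSectionVars false
set_option linter.style.haveILetI false

universe u

variable {G : Type u} [Group G] [Fintype G] {p : ℕ} {M : Ideal AlgInt}
variable {B : Set (IrrCharacter G)} {P : Subgroup G} {e : Set (IrrCharacter (CG P))}

/-- A subgroup of a cyclic group is determined by its order. -/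
theorem eq_of_le_cyclic_of_card_eq {P W Z : Subgroup G} (hcyc : IsCyclic P) (hW : W ≤ P)
    (hZ : Z ≤ P) (h : Nat.card W = Nat.card Z) : W = Z := by
  classical
  haveI := hcyc
  letI : Fintype P := Fintype.ofFinite P
  set n := Nat.card Z with hn
  set S : Finset P := Finset.univ.filter fun a => a ^ n = 1
  have hS : S.card ≤ n := IsCyclic.card_pow_eq_one_le Nat.card_pos
  have hmk : ∀ V : Subgroup G, V ≤ P → Nat.card V = n →
      (Finset.univ.filter fun a : P => (a : G) ∈ V) = S := by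
    intro V hV hVc
    refine Finset.eq_of_subset_of_card_le ?_ ?_
    · intro a ha
      simp only [Finset.mem_filter, Finset.mem_univ, true_and, S] at ha ⊢
      have h : (⟨(a : G), ha⟩ : V) ^ n = 1 := hVc ▸ pow_card_eq_one'
      exact Subtype.ext (by simpa using congrArg Subtype.val h)
    · have e : (Finset.univ.filter fun a : P => (a : G) ∈ V).card = n := by
        rw [← Fintype.card_subtype, ← Nat.card_eq_fintype_card, ← hVc]
        exact Nat.card_congr ⟨fun a => ⟨a.1.1, a.2⟩, fun v => ⟨⟨v.1, hV v.2⟩, v.2⟩,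
          fun a => rfl, fun v => rfl⟩
      rw [e]
      exact hS
  have h' := (hmk W hW h).trans (hmk Z hZ rfl).symm
  ext a
  constructor <;> intro ha
  · simpa using (Finset.ext_iff.mp h' ⟨a, hW ha⟩).mp (by simpa using ha)
  · simpa using (Finset.ext_iff.mp h' ⟨a, hZ ha⟩).mpr (by simpa using ha)

/-- An element whose action on a cyclic `p`-group fixes a nontrivial element has a `p`-power
centralizing the group. -/
theorem pow_centralizes_of_fix [Fact p.Prime] (hP : IsPGroup p P) (hcyc : IsCyclic P) {g : G}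
    (hg : g ∈ Subgroup.normalizer (P : Set G)) {x : G} (hxP : x ∈ P) (hx1 : x ≠ 1)
    (hgx : g * x * g⁻¹ = x) : ∃ m : ℕ, g ^ p ^ m ∈ CG P := by
  obtain ⟨⟨u, huP⟩, hu⟩ := hcyc.exists_generator
  obtain ⟨m, hm⟩ := hP ⟨u, huP⟩
  have hm' : u ^ p ^ m = 1 := congrArg Subtype.val hm
  obtain ⟨j, hj⟩ := Subgroup.mem_zpowers_iff.1 (hu ⟨x, hxP⟩)
  obtain ⟨k, hk⟩ := Subgroup.mem_zpowers_iff.1
    (hu ⟨g * u * g⁻¹, (Subgroup.mem_normalizer_iff.1 hg u).1 huP⟩)
  have hj' : u ^ j = x := congrArg Subtype.val hj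
  have hk' : u ^ k = g * u * g⁻¹ := congrArg Subtype.val hk
  have hkx : x ^ k = x := by
    rw [← hj', ← zpow_mul, mul_comm, zpow_mul, hk', conj_zpow, hj', hgx]
  have hdvd : (p : ℤ) ∣ k - 1 := by
    obtain ⟨i, hi⟩ := Fact.out (p := p.Prime) |> fun hp => (Nat.dvd_prime_pow hp).1
      (orderOf_dvd_of_pow_eq_one (show x ^ p ^ m = 1 by
        rw [← hj', ← zpow_natCast, ← zpow_mul, mul_comm, zpow_mul, zpow_natCast, hm', one_zpow]))
    have h1 : (orderOf x : ℤ) ∣ k - 1 := by
      rw [orderOf_dvd_iff_zpow_eq_one, zpow_sub, zpow_one, hkx, mul_inv_cancel]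
    rw [hi.2] at h1
    refine dvd_trans ?_ h1
    rcases Nat.eq_zero_or_pos i with h0 | h0
    · exact absurd (orderOf_eq_one_iff.1 (by rw [hi.2, h0, pow_zero])) hx1
    · exact_mod_cast dvd_pow_self p h0.ne'
  have hpow : ∀ n : ℕ, g ^ n * u * (g ^ n)⁻¹ = u ^ (k ^ n) := by
    intro n
    induction n with
    | zero => simp
    | succ n ih =>
      rw [pow_succ' g, show g * g ^ n * u * (g * g ^ n)⁻¹ = g * (g ^ n * u * (g ^ n)⁻¹) * g⁻¹ by
        group, ih, ← conj_zpow, ← hk', ← zpow_mul, ← pow_succ']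
  have hk1 : (p : ℤ) ^ m ∣ k ^ p ^ m - 1 := by
    have h2 := dvd_sub_pow_of_dvd_sub (R := ℤ) hdvd m
    rw [one_pow] at h2
    exact (pow_dvd_pow _ (Nat.le_succ m)).trans h2
  refine ⟨m, Subgroup.mem_centralizer_iff.2 fun v hv => ?_⟩
  obtain ⟨n, hn⟩ := Subgroup.mem_zpowers_iff.1 (hu ⟨v, hv⟩)
  have hn' : u ^ n = v := congrArg Subtype.val hn
  have hfix : g ^ p ^ m * u * (g ^ p ^ m)⁻¹ = u := by
    obtain ⟨c, hc⟩ := hk1
    rw [hpow, show k ^ p ^ m = 1 + ((p ^ m : ℕ) : ℤ) * c by push_cast; linarith, zpow_add,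
      zpow_one, zpow_mul, zpow_natCast, hm', one_zpow, mul_one]
  have hc2 : Commute (g ^ p ^ m) u := mul_inv_eq_iff_eq_mul.1 hfix
  rw [← hn']
  exact (hc2.zpow_right n).eq.symm

/-- The inertial quotient of a cyclic defect group acts freely. -/
theorem free_of_cyclic [Fact p.Prime] (hM : IsPModular p M)
    (hx : IsMx p M B (⟨P, e⟩ : BrauerPairIdx G)) (hcyc : IsCyclic P) :
    ∀ g ∈ stab (⟨P, e⟩ : BrauerPairIdx G), ∀ x ∈ P, x ≠ 1 → g * x * g⁻¹ = x → g ∈ CG P := by
  haveI := hcyc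
  have hab : ∀ x ∈ P, ∀ y ∈ P, x * y = y * x := fun x hx y hy =>
    congrArg Subtype.val ((IsCyclic.commutative (α := P)).is_comm.comm ⟨x, hx⟩ ⟨y, hy⟩)
  intro g hg x hxP hx1 hgx
  obtain ⟨u, v, huv, -, ⟨i, hi⟩, hv, hu', hv'⟩ := exists_pPart_zpowers (p := p) g
  have huT := (Subgroup.zpowers_le.2 hg) hu'
  have hvT := (Subgroup.zpowers_le.2 hg) hv'
  have huC := pElement_stab_mem hM hx hab huT ⟨i, hi⟩
  have hvx : v * x * v⁻¹ = x := by
    obtain ⟨n, rfl⟩ := Subgroup.mem_zpowers_iff.1 hv'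
    have hc : Commute g x := mul_inv_eq_iff_eq_mul.1 hgx
    rw [(hc.zpow_left n).eq, mul_inv_cancel_right]
  obtain ⟨m, hm⟩ := pow_centralizes_of_fix hx.1.1.1 hcyc
    (stab_le_normalizer _ hvT) hxP hx1 hvx
  have hvC : v ∈ CG P := by
    obtain ⟨r, hr⟩ := exists_pow_eq_self_of_coprime (x := v) (n := p ^ m)
      (Nat.Coprime.pow_left m ((Fact.out : p.Prime).coprime_iff_not_dvd.2 hv))
    rw [← hr]
    exact pow_mem hm r
  rw [← huv]
  exact mul_mem huC hvC

/-- The inertial quotient of a nontrivial cyclic defect group is cyclic of order dividing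
`p - 1`. -/
theorem cyclic_quotient [Fact p.Prime] (hP : IsPGroup p P) (hP1 : P ≠ ⊥) (hcyc : IsCyclic P)
    {T : Subgroup G} (hTN : T ≤ Subgroup.normalizer (P : Set G))
    (hfree : ∀ g ∈ T, ∀ x ∈ P, x ≠ 1 → g * x * g⁻¹ = x → g ∈ CG P)
    [((CG P).subgroupOf T).Normal] :
    IsCyclic (T ⧸ (CG P).subgroupOf T) ∧ (CG P).relIndex T ∣ p - 1 := by
  haveI := hcyc
  have hp : p.Prime := Fact.out
  haveI : Nontrivial P := P.nontrivial_iff_ne_bot.2 hP1
  obtain ⟨n, hn, hcard⟩ := hP.nontrivial_iff_card.1 ‹_›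
  obtain ⟨z, hz⟩ := exists_prime_orderOf_dvd_card' (G := P) p (hcard ▸ dvd_pow_self p hn.ne')
  set Z := Subgroup.zpowers (z : G) with hZdef
  have hZP : Z ≤ P := Subgroup.zpowers_le.2 z.2
  have hZc : Nat.card Z = p := by rw [Nat.card_zpowers, Subgroup.orderOf_coe, hz]
  have huniq : ∀ W : Subgroup G, W ≤ P → Nat.card W = p → W = Z := fun W hW hWc =>
    eq_of_le_cyclic_of_card_eq hcyc hW hZP (hWc.trans hZc.symm)
  have hTZ : T ≤ Subgroup.normalizer (Z : Set G) := by
    intro g hg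
    have h1 : Z.map (MulAut.conj g).toMonoidHom = Z := huniq _
      (by
        rintro _ ⟨v, hv, rfl⟩
        exact (Subgroup.mem_normalizer_iff.1 (hTN hg) v).1 (hZP hv))
      ((card_map_conj g Z).trans hZc)
    refine Subgroup.mem_normalizer_iff.2 fun v => ?_
    conv_rhs => rw [← h1]
    exact conj_mem_map_conj.symm
  set φ : T →* MulAut Z := Z.normalizerMonoidHom.comp (Subgroup.inclusion hTZ) with hφ
  have hker : φ.ker = (CG P).subgroupOf T := by
    ext g
    rw [MonoidHom.mem_ker, Subgroup.mem_subgroupOf]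
    constructor
    · intro h
      refine hfree g g.2 z z.2 (fun h1 => ?_) ?_
      · rw [← Subgroup.orderOf_coe, h1, orderOf_one] at hz
        exact hp.one_lt.ne hz
      · have h2 := congrArg (fun α : MulAut Z => ((α ⟨(z : G), Subgroup.mem_zpowers _⟩ : Z) : G)) h
        simp only [hφ, MonoidHom.comp_apply, MulAut.one_apply] at h2
        rw [Fus.normalizerMonoidHom_apply] at h2
        exact h2
    · intro h
      refine MulEquiv.ext fun w => Subtype.ext ?_
      rw [hφ, MonoidHom.comp_apply, Fus.normalizerMonoidHom_apply, MulAut.one_apply]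
      show (g : G) * w * (g : G)⁻¹ = w
      rw [← Subgroup.mem_centralizer_iff.1 h w (hZP w.2), mul_inv_cancel_right]
  have hinj : Function.Injective (QuotientGroup.lift ((CG P).subgroupOf T) φ hker.ge) :=
    (MonoidHom.ker_eq_bot_iff _).1 (by rw [QuotientGroup.ker_lift, hker, QuotientGroup.map_mk'_self])
  haveI : IsCyclic Z := isCyclic_of_prime_card hZc
  haveI : Fact (Nat.card Z).Prime := ⟨hZc ▸ hp⟩
  set ψ := ((IsCyclic.mulAutMulEquiv Z).toMonoidHom).comp
    (QuotientGroup.lift ((CG P).subgroupOf T) φ hker.ge) with hψ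
  have hψi : Function.Injective ψ := (IsCyclic.mulAutMulEquiv Z).injective.comp hinj
  refine ⟨isCyclic_of_injective ψ hψi, ?_⟩
  have h := Subgroup.card_dvd_of_injective ψ hψi
  rw [← Subgroup.index_eq_card, Nat.card_units, Nat.card_zmod, hZc] at h
  exact h

end Cfsg.Agent.Char.BP
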