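import Cfsg.Agent.Lib.Char.DefectOneStruct
import Cfsg.Agent.Lib.Char.DefectOneComb
import Cfsg.Agent.Lib.Char.OverCyclic
import Cfsg.Agent.Lib.Char.CyclicSimples
import Cfsg.Agent.Lib.Char.PairCyclic
import Mathlib.LinearAlgebra.FiniteDimensional.Lemmas

/-!
Blocks with a Sylow subgroup of order `p`: the number of characters and the rows of the sections.
-/

open scoped ComplexConjugate

namespace Cfsg.Agent.Char.DefectOne

open Cfsg Cfsg.Agent.Block Cfsg.Agent.Char.BP Cfsg.Agent.Char.Spec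

set_option linter.unusedSectionVars false
set_option linter.style.haveILetI false
set_option maxHeartbeats 1600000

universe u

variable {G : Type u} [Group G] [Fintype G] {p : ℕ} [hp : Fact p.Prime] {M : Ideal AlgInt}
variable {P : Subgroup G}

/-- Columns with Gram matrix `1 + e` orthogonal to the regular columns lower the rank. -/
theorem rank_add_le {Q : Type*} [Fintype Q] [DecidableEq Q] (B : Set (IrrCharacter G))
    [DecidablePred (· ∈ B)] (a : IrrCharacter G → Q → ℤ) (e : ℕ)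
    (hg : ∀ q q', ∑ χ ∈ Finset.univ.filter (· ∈ B), a χ q * a χ q' =
      (if q = q' then 1 else 0) + (e : ℤ))
    (horth : ∀ q, ∀ h : G, ¬ p ∣ orderOf h →
      ∑ χ ∈ Finset.univ.filter (· ∈ B), (a χ q : ℂ) * (χ : G → ℂ) h = 0) :
    blockRank p B + Fintype.card Q ≤ (Finset.univ.filter (· ∈ B)).card := by
  classical
  set A := Finset.univ.filter (· ∈ B)
  let v : A → (G → ℂ) := fun χ => pRegularPart p ((χ : IrrCharacter G) : G → ℂ)
  let Φ := Fintype.linearCombination ℂ v
  have hrange : blockRank p B = Module.finrank ℂ (LinearMap.range Φ) := by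
    rw [blockRank, Fintype.range_linearCombination]
    have himg : (fun χ : IrrCharacter G => pRegularPart p (χ : G → ℂ)) '' B = Set.range v := by
      ext f
      simp only [v, A, Set.mem_image, Set.mem_range, Subtype.exists, Finset.mem_filter,
        Finset.mem_univ, true_and, exists_prop]
    rw [himg]
  let w : Q → A → ℂ := fun q χ => (a χ q : ℂ)
  have hsum : ∀ f : IrrCharacter G → ℂ, ∑ χ : A, f χ = ∑ χ ∈ A, f χ := fun f =>
    Finset.sum_coe_sort A f
  have hwker : ∀ q, w q ∈ LinearMap.ker Φ := by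
    intro q
    rw [LinearMap.mem_ker, Fintype.linearCombination_apply]
    funext g
    rw [Finset.sum_apply, Pi.zero_apply]
    simp only [Pi.smul_apply, smul_eq_mul, v, w]
    rw [hsum fun χ => (a χ q : ℂ) * pRegularPart p (χ : G → ℂ) g]
    by_cases hg' : p ∣ orderOf g
    · refine Finset.sum_eq_zero fun χ _ => ?_
      rw [pRegularPart_apply, if_neg fun h : IsPRegular p g => h hg', mul_zero]
    · rw [← horth q g hg']
      refine Finset.sum_congr rfl fun χ _ => ?_
      rw [pRegularPart_apply, if_pos (show IsPRegular p g from hg')]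
  have hli : LinearIndependent ℂ fun q => (⟨w q, hwker q⟩ : LinearMap.ker Φ) := by
    refine LinearIndependent.of_comp (LinearMap.ker Φ).subtype
      (Fintype.linearIndependent_iff.2 fun z hz => ?_)
    have h1 : ∀ q' : Q, z q' + (e : ℂ) * ∑ q, z q = 0 := by
      intro q'
      have h2 : ∑ χ ∈ A, (∑ q, z q * (a χ q : ℂ)) * (a χ q' : ℂ) = 0 := by
        rw [← hsum]
        refine Finset.sum_eq_zero fun χ _ => ?_
        have := congrFun hz χ
        simp only [Finset.sum_apply, Pi.smul_apply, smul_eq_mul, Function.comp_apply,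
          Submodule.subtype_apply, Pi.zero_apply] at this
        rw [this, zero_mul]
      rw [← h2]
      simp only [Finset.sum_mul, mul_assoc]
      rw [Finset.sum_comm]
      simp only [← Finset.mul_sum]
      have hgC : ∀ q, ∑ χ ∈ A, (a χ q : ℂ) * (a χ q' : ℂ) = (if q = q' then 1 else 0) + (e : ℂ) :=
        fun q => by
          have := congrArg (fun x : ℤ => (x : ℂ)) (hg q q')
          push_cast at this
          exact this
      simp only [hgC, mul_add, mul_ite, mul_one, mul_zero, Finset.sum_add_distrib,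
        Finset.sum_ite_eq', Finset.mem_univ, if_true]
      rw [Finset.mul_sum]
      exact congrArg _ (Finset.sum_congr rfl fun q _ => mul_comm _ _)
    have hS : ∑ q, z q = 0 := by
      have h3 : ∑ q' : Q, (z q' + (e : ℂ) * ∑ q, z q) = 0 := Finset.sum_eq_zero fun q _ => h1 q
      rw [Finset.sum_add_distrib, Finset.sum_const, Finset.card_univ, nsmul_eq_mul, ← mul_assoc,
        ← one_add_mul] at h3
      refine (mul_eq_zero.1 h3).resolve_left ?_
      have : ((1 + Fintype.card Q * e : ℕ) : ℂ) ≠ 0 := Nat.cast_ne_zero.2 (by omega)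
      push_cast at this
      exact this
    intro q'
    have := h1 q'
    rwa [hS, mul_zero, add_zero] at this
  have hker := hli.fintype_card_le_finrank
  have hrn := LinearMap.finrank_range_add_finrank_ker Φ
  rw [Module.finrank_pi, Fintype.card_coe] at hrn
  omega

variable (hM : IsPModular p M) (hPp : Nat.card P = p) (hsyl : ¬ p ∣ P.index)
  {b : Set (IrrCharacter (CG P))} {θ : IrrCharacter (CG P)} (hθ : θ ∈ b)
  (hθP : ∀ x : CG P, (x : G) ∈ P → (θ : CG P → ℂ) x = (θ : CG P → ℂ) 1)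

include hM hPp hsyl hθ hθP in
/-- The rank is at least the inertial index. -/
theorem relIndex_le_blockRank {B : Set (IrrCharacter G)}
    (haB : OfB p M B (⟨P, b⟩ : BrauerPairIdx G)) {T : Subgroup G}
    (hT : ∀ g : G, g ∈ T ↔ (g ∈ Subgroup.normalizer (P : Set G) ∧ ∀ c c' : CG P,
      (c' : G) = g * c * g⁻¹ → (θ : CG P → ℂ) c' = (θ : CG P → ℂ) c)) :
    (CG P).relIndex T ≤ blockRank p B := by
  classical
  letI := Fintype.ofFinite (CG P)
  set N := Subgroup.normalizer (P : Set G) with hN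
  have hCN : CG P ≤ N := Subgroup.centralizer_le_normalizer _
  have hPC : P ≤ CG P := le_cg hPp
  have hTN : T ≤ N := fun g hg => ((hT g).1 hg).1
  have hCnorm : ∀ g ∈ N, ∀ c ∈ CG P, g * c * g⁻¹ ∈ CG P := fun g hg c hc => by
    have h := (centEquiv hg ⟨c, hc⟩).2
    rwa [centEquiv_val] at h
  set K := (CG P).subgroupOf N with hK
  haveI : K.Normal := ⟨fun c hc g => hCnorm g g.2 c hc⟩
  letI : Fintype N := Fintype.ofFinite _
  letI : Fintype K := Fintype.ofFinite _
  have hP1 : P ≠ ⊥ := fun h => hp.out.ne_one (by rw [← hPp, h, Subgroup.card_bot])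
  haveI : Fact (Nat.card P).Prime := ⟨hPp.symm ▸ hp.out⟩
  obtain ⟨hcyc, -⟩ := cyclic_quotient (IsPGroup.of_card (n := 1) (by rw [hPp, pow_one]))
    hP1 (isCyclic_of_prime_card (α := P) rfl) (T := N) le_rfl (fun g _ x hx hx1 hfix => by
      refine Subgroup.mem_centralizer_iff.2 fun v hv => ?_
      rw [← mem_zpowers_of_prime hPp hx hx1] at hv
      obtain ⟨n, rfl⟩ := Subgroup.mem_zpowers_iff.1 hv
      exact ((show Commute g x from mul_inv_eq_iff_eq_mul.1 hfix).zpow_right n).eq.symm)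
  let e₁ := Subgroup.subgroupOfEquivOfLe hCN
  set θ' : K → ℂ := fun x => (θ : CG P → ℂ) (e₁ x) with hθ'
  have hθ'i : IsIrrCharacter K θ' := IsIrr.comp_mulEquiv e₁ θ.2
  have hiner : inertia K θ' = T.subgroupOf N := by
    ext g
    rw [mem_inertia, Subgroup.mem_subgroupOf, hT]
    constructor
    · intro h
      refine ⟨g.2, fun c c' hc => ?_⟩
      have h1 := congrFun h ⟨⟨c, hCN c.2⟩, c.2⟩
      simp only [θ', conjN_apply] at h1
      convert h1 using 2
      all_goals first | exact Subtype.ext hc | rfl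
    · rintro ⟨-, h⟩
      funext x
      simp only [θ', conjN_apply]
      exact h _ _ (by simp [e₁, Subgroup.subgroupOfEquivOfLe])
  have hcard := OverCyclic.card_over hcyc hθ'i
  set Ψ := Finset.univ.filter fun ψ : IrrCharacter N =>
    classInner (fun n : K => (ψ : N → ℂ) n) θ' ≠ 0
  have hΨ : Ψ.card = (CG P).relIndex T := by
    refine mul_left_cancel₀ (Nat.card_pos (α := K)).ne' ?_
    rw [hcard, hiner, Nat.card_congr (Subgroup.subgroupOfEquivOfLe hTN).toEquiv,
      Nat.card_congr e₁.toEquiv, ← ((CG P).subgroupOf T).card_mul_index]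
    have hCT : CG P ≤ T := fun c hc => (hT c).2
      ⟨hCN hc, fun d d' h => by
        have h' : d' = (⟨c, hc⟩ : CG P) * d * (⟨c, hc⟩ : CG P)⁻¹ := Subtype.ext h
        rw [h', irr_classFun θ d]⟩
    rw [Nat.card_congr (Subgroup.subgroupOfEquivOfLe hCT).toEquiv]
    rfl
  rw [← hΨ]
  refine CycMod.le_blockRank_of_normalizer hM hPp hsyl hN haB.2.1 Ψ (fun ψ hψ n hn => ?_)
    fun ψ hψ => ?_
  · refine OverCyclic.apply_eq_one hθ'i ψ.2 (Finset.mem_filter.1 hψ).2
      (x := ⟨n, hPC hn⟩) fun g => ?_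
    simp only [θ']
    rw [map_one]
    exact hθP _ ((Subgroup.mem_normalizer_iff.1 g.2 (n : G)).1 hn)
  · have hω := haB.2.2 θ hθ
    rw [brauerOmega, finsum_eq_sum_of_fintype] at hω
    refine (congrArg (fun z => MemLocalIdeal M (z - 1)) ?_).mpr hω
    rw [← Finset.sum_subset (Finset.subset_univ (Finset.univ.filter (· ∈ K))) fun n _ hn => by
      rw [if_neg (show (n : G) ∉ CG P by simpa [K, Subgroup.mem_subgroupOf] using hn), zero_mul,
        zero_div],
      Finset.sum_subtype (p := fun n => n ∈ K) _ (fun n => by simp)]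
    rw [Finset.sum_congr rfl (g := fun n : K => blockCoeff B ((n : N) : G) * (ψ : N → ℂ) n /
      (ψ : N → ℂ) 1) fun n _ => by rw [if_pos (show ((n : N) : G) ∈ CG P from n.2)],
      OverCyclic.sum_mul_div hθ'i ψ.2 (Finset.mem_filter.1 hψ).2
        (β := fun n : K => blockCoeff B ((n : N) : G)) fun g n => blockCoeff_classFun B _ _]
    refine Fintype.sum_equiv e₁.toEquiv _ _ fun n => ?_
    simp [θ', e₁, Subgroup.subgroupOfEquivOfLe]
    rfl

/-- What is known of the block. -/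
structure Data (M : Ideal AlgInt) (P : Subgroup G) (B : Set (IrrCharacter G))
    (b : Set (IrrCharacter (CG P))) (θ : IrrCharacter (CG P)) (T : Subgroup G) (u₀ : G)
    (R : Subgroup (ZMod p)ˣ) (X : Finset (IrrCharacter G))
    (y : (ZMod p)ˣ ⧸ R → IrrCharacter G) (c : IrrCharacter G → ℤ) (ε : ℤ) : Prop where
  card_R : Nat.card R = (CG P).relIndex T
  mem_R : ∀ r : (ZMod p)ˣ, r ∈ R ↔ ∃ x ∈ T, x * u₀ * x⁻¹ = pw u₀ (r : ZMod p)
  y_inj : Function.Injective y
  mem_iff : ∀ χ, χ ∈ B ↔ χ ∈ X ∨ ∃ q, y q = χ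
  disj : ∀ q, y q ∉ X
  card_X : X.card = (CG P).relIndex T
  ε_sign : ε = 1 ∨ ε = -1
  c_sign : ∀ χ ∈ X, c χ = 1 ∨ c χ = -1
  sct_X : ∀ χ ∈ X, ∀ i : ZMod p, i ≠ 0 → ∀ v : CG P, ¬ p ∣ orderOf v →
    sct (χ : G → ℂ) (⟨P, b⟩ : BrauerPairIdx G) (pw u₀ i) v = -(c χ : ℂ) * (θ : CG P → ℂ) v
  sct_Y : ∀ q : (ZMod p)ˣ ⧸ R, ∀ i : ZMod p, i ≠ 0 → ∀ v : CG P, ¬ p ∣ orderOf v →
    sct (y q : G → ℂ) (⟨P, b⟩ : BrauerPairIdx G) (pw u₀ i) v =
      (ε : ℂ) * (open Classical in
        ∑ j : (ZMod p)ˣ, if (j : (ZMod p)ˣ ⧸ R) = q then ψc (i * (j : ZMod p)) else 0) *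
        (θ : CG P → ℂ) v
  regular : ∀ q : (ZMod p)ˣ ⧸ R, ∀ h : G, ¬ p ∣ orderOf h →
    ∑ χ ∈ X, (c χ : ℂ) * (χ : G → ℂ) h + (ε : ℂ) * (y q : G → ℂ) h = 0

include hM hPp hsyl hθ hθP in
theorem exists_data {B : Set (IrrCharacter G)} (hB : IsPBlock M B)
    (haB : OfB p M B (⟨P, b⟩ : BrauerPairIdx G)) (hd : blockDefect p B ≠ 0) {T : Subgroup G}
    (hT : ∀ g : G, g ∈ T ↔ (g ∈ Subgroup.normalizer (P : Set G) ∧ ∀ c c' : CG P,
      (c' : G) = g * c * g⁻¹ → (θ : CG P → ℂ) c' = (θ : CG P → ℂ) c))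
    {u₀ : G} (hu₀ : u₀ ∈ P) (hu₁ : u₀ ≠ 1) :
    ∃ (R : Subgroup (ZMod p)ˣ) (X : Finset (IrrCharacter G))
      (y : (ZMod p)ˣ ⧸ R → IrrCharacter G) (c : IrrCharacter G → ℤ) (ε : ℤ),
      Data M P B b θ T u₀ R X y c ε := by
  classical
  obtain ⟨R, a, hR, hRmem, ha0, hsct, hgram, horth, hnz⟩ :=
    exists_gram hM hPp hsyl haB.1.2 hθ hθP hB haB hd hT hu₀ hu₁
  letI : Fintype ((ZMod p)ˣ ⧸ R) := Fintype.ofFinite _
  set A := Finset.univ.filter (· ∈ B) with hA
  set e := Nat.card R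
  have hconst : ∀ j l : (ZMod p)ˣ, j * l⁻¹ ∈ R → ∀ χ ∈ A, a χ j = a χ l := by
    intro j l hjl χ hχ
    have hlj : l * j⁻¹ ∈ R := by simpa using inv_mem hjl
    have h : ∑ χ ∈ A, (a χ j - a χ l) * (a χ j - a χ l) = 0 := by
      have e1 : ∀ χ, (a χ j - a χ l) * (a χ j - a χ l) =
          a χ j * a χ j - a χ j * a χ l - a χ l * a χ j + a χ l * a χ l := fun χ => by ring
      rw [Finset.sum_congr rfl fun χ _ => e1 χ, Finset.sum_add_distrib, Finset.sum_sub_distrib,
        Finset.sum_sub_distrib, hgram, hgram, hgram, hgram, if_pos hjl, if_pos hlj]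
      simp [one_mem]
    have := (Finset.sum_eq_zero_iff_of_nonneg fun χ _ => mul_self_nonneg _).1 h χ hχ
    exact sub_eq_zero.1 (mul_self_eq_zero.1 this)
  let a' : IrrCharacter G → (ZMod p)ˣ ⧸ R → ℤ := fun χ q => a χ ((Quotient.out q : (ZMod p)ˣ) : ZMod p)
  have ha' : ∀ χ ∈ A, ∀ j : (ZMod p)ˣ, a χ j = a' χ j := fun χ hχ j => by
    refine hconst _ _ ?_ χ hχ
    rw [mul_comm, ← QuotientGroup.eq]
    exact QuotientGroup.out_eq' _
  have hg : ∀ q q', ∑ χ ∈ A, a' χ q * a' χ q' = (if q = q' then 1 else 0) + (e : ℤ) := by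
    intro q q'
    rw [hgram]
    congr 1
    refine if_congr ?_ rfl rfl
    rw [mul_comm, ← QuotientGroup.eq, QuotientGroup.out_eq', QuotientGroup.out_eq', eq_comm]
  have horth' : ∀ q, ∀ h : G, ¬ p ∣ orderOf h →
      ∑ χ ∈ A, (a' χ q : ℂ) * (χ : G → ℂ) h = 0 := fun q h hh => horth _ h hh
  have hle : e + Fintype.card ((ZMod p)ˣ ⧸ R) ≤ A.card := by
    have h1 := relIndex_le_blockRank hM hPp hsyl hθ hθP haB hT
    have h2 := rank_add_le B a' e hg horth'
    rw [← hR] at h1
    exact le_trans (Nat.add_le_add_right h1 _) h2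
  obtain ⟨X, y, c, ε, hy, hyA, hXmem, hXcard, hε, hc, hY⟩ :=
    goodRows (A := A) (a := a') (e := e) (fun χ => (charDegree (χ : G → ℂ) : ℤ))
      (fun χ _ => by
        obtain ⟨d, hd, hd1⟩ := IsIrr.one_eq_pos χ.2
        simp [charDegree, hd1, hd])
      hg (fun q => by
        have h := horth' q 1 (by rw [orderOf_one]; exact hp.out.not_dvd_one)
        apply Int.cast_injective (α := ℂ)
        push_cast
        rw [← h]
        exact Finset.sum_congr rfl fun χ _ => by rw [charDeg_spec', mul_comm])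
      (fun χ hχ => by
        obtain ⟨j, hj⟩ := hnz χ (Finset.mem_filter.1 hχ).2
        exact ⟨j, by rwa [← ha' χ hχ j]⟩)
      hle
  have hXA : ∀ χ ∈ X, χ ∈ A := fun χ hχ => ((hXmem χ).1 hχ).1
  refine ⟨R, X, y, c, ε, ⟨hR, hRmem, hy, fun χ => ⟨fun h => ?_, ?_⟩,
    fun q h => ((hXmem _).1 h).2 q rfl, hXcard.trans hR, hε, fun χ hχ => (hc χ hχ).1,
    fun χ hχ i hi v hv => ?_, fun q i hi v hv => ?_, fun q h hh => ?_⟩⟩
  · by_cases hex : ∃ q, y q = χ
    · exact Or.inr hex
    · exact Or.inl ((hXmem χ).2 ⟨by simp [A, h], fun q hq => hex ⟨q, hq⟩⟩)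
  · rintro (h | ⟨q, rfl⟩)
    · simpa [A] using hXA χ h
    · simpa [A] using hyA q
  · rw [hsct χ i hi v hv]
    congr 1
    have hz : ∑ j : ZMod p, ψc (i * j) = 0 := by
      rw [Finset.sum_congr rfl (g := fun j => ψc (j * i)) (fun j _ => by rw [mul_comm i j]),
        ψc_sum, if_neg hi]
    rw [← Finset.add_sum_erase _ _ (Finset.mem_univ (0 : ZMod p)), mul_zero,
      AddChar.map_zero_eq_one] at hz
    rw [← Finset.add_sum_erase _ _ (Finset.mem_univ (0 : ZMod p)), ha0, Int.cast_zero, zero_mul,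
      zero_add, Finset.sum_congr rfl (g := fun j => (c χ : ℂ) * ψc (i * j)) fun j hj => by
        rw [show a χ j = c χ from (ha' χ (hXA χ hχ) (Units.mk0 j (Finset.ne_of_mem_erase hj))).trans
          ((hc χ hχ).2 _)],
      ← Finset.mul_sum, eq_neg_of_add_eq_zero_right hz, mul_neg, mul_one]
  · rw [hsct (y q) i hi v hv]
    congr 1
    rw [Finset.mul_sum, ← Finset.sum_subset (Finset.subset_univ (Finset.univ.erase (0 : ZMod p)))
      fun j _ hj => by rw [show j = 0 by simpa using hj, ha0, Int.cast_zero, zero_mul]]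
    symm
    refine Finset.sum_bij (fun (j : (ZMod p)ˣ) _ => (j : ZMod p)) (fun j _ => by simp)
      (fun j _ j' _ h => Units.ext h) (fun j hj => ⟨Units.mk0 j (Finset.ne_of_mem_erase hj),
        Finset.mem_univ _, rfl⟩) fun j _ => ?_
    rw [ha' (y q) (hyA q) j, hY]
    split <;> simp
  · have h' := horth' q h hh
    rw [← Finset.sum_subset (s₁ := X ∪ Finset.univ.image y) (s₂ := A) ?_ ?_,
      Finset.sum_union ?_, Finset.sum_image fun q _ q' _ h => hy h,
      Finset.sum_congr rfl fun χ hχ => by rw [(hc χ hχ).2 q],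
      Finset.sum_eq_single q (fun q' _ hq' => by rw [hY, if_neg (Ne.symm hq'), Int.cast_zero, zero_mul])
        (fun h => absurd (Finset.mem_univ _) h), hY, if_pos rfl] at h'
    · exact h'
    · rw [Finset.disjoint_left]
      intro χ hχ hχ'
      obtain ⟨q', -, rfl⟩ := Finset.mem_image.1 hχ'
      exact ((hXmem _).1 hχ).2 q' rfl
    · intro χ hχ
      rcases Finset.mem_union.1 hχ with h | h
      · exact hXA χ h
      · obtain ⟨q', -, rfl⟩ := Finset.mem_image.1 h
        exact hyA q'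
    · intro χ hχ hn
      exfalso
      refine hn (Finset.mem_union_left _ ((hXmem χ).2 ⟨hχ, fun q' hq' => hn ?_⟩))
      exact Finset.mem_union_right _ (Finset.mem_image.2 ⟨q', Finset.mem_univ _, hq'⟩)

end Cfsg.Agent.Char.DefectOne
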