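import Cfsg.Agent.Lib.Char.CycDefCoords
import Cfsg.Agent.Lib.Char.CycGreenRank
import Cfsg.Agent.Lib.Char.DefectOneCount

/-!
Blocks with cyclic defect group: the rows of the coordinates of the sections.
-/

open scoped ComplexConjugate

namespace Cfsg.Agent.Char.CycDef

open Cfsg Cfsg.Agent.Block Cfsg.Agent.Char.BP Cfsg.Agent.Char.Spec Cfsg.Agent.Char.Star

set_option linter.unusedSectionVars false
set_option linter.style.haveILetI false
set_option maxHeartbeats 1600000

universe u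

variable {G : Type u} [Group G] [Fintype G] {p : ℕ} [hp : Fact p.Prime] {M : Ideal AlgInt}
variable {B : Set (IrrCharacter G)} {x : BrauerPairIdx G} {N : ℕ} [NeZero N]

/-- What is known of a block with cyclic defect group: the exceptional rows `y`, one for each orbit
of the inertial group on the nonzero residues, and the others, `X`. -/
structure CData (p : ℕ) [Fact p.Prime] (M : Ideal AlgInt) (B : Set (IrrCharacter G))
    (x : BrauerPairIdx G) (u₀ : G) (R : Subgroup (ZMod N)ˣ) (β : ZMod N → G → ℂ)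
    (X : Finset (IrrCharacter G)) (y : ZMod N → IrrCharacter G) (c : IrrCharacter G → ℤ)
    (ε : ℤ) : Prop where
  card_R : Nat.card R = (CG x.1).relIndex (stab x)
  mem_R : ∀ r : (ZMod N)ˣ, r ∈ R ↔ ∃ t ∈ stab x, t * u₀ * t⁻¹ = pw u₀ (r : ZMod N)
  free : ∀ r ∈ R, ∀ i : ZMod N, i ≠ 0 → (r : ZMod N) * i = i → r = 1
  β_norm : ∀ i : ZMod N, i ≠ 0 → (N : ℂ) * (β i 1 * conj (β i 1)) = wgt (av p M x (pw u₀ i))
  β_inv : ∀ r ∈ R, ∀ i : ZMod N, i ≠ 0 → β ((r : ZMod N) * i) 1 = β i 1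
  mem_iff : ∀ χ, χ ∈ B ↔ χ ∈ X ∨ ∃ j : ZMod N, j ≠ 0 ∧ y j = χ
  disj : ∀ j : ZMod N, j ≠ 0 → y j ∉ X
  y_eq : ∀ j j' : ZMod N, j ≠ 0 → j' ≠ 0 →
    (y j = y j' ↔ ∃ r ∈ R, j' = (r : ZMod N) * j)
  card_X : X.card = (CG x.1).relIndex (stab x)
  rank : blockRank p B = (CG x.1).relIndex (stab x)
  ε_sign : ε = 1 ∨ ε = -1
  c_sign : ∀ χ ∈ X, c χ = 1 ∨ c χ = -1
  sct_X : ∀ χ ∈ X, ∀ i : ZMod N, i ≠ 0 → ∀ w ∈ CG (Subgroup.zpowers (pw u₀ i)),
    ¬ p ∣ orderOf w → sct (χ : G → ℂ) (av p M x (pw u₀ i)) (pw u₀ i) w = -(c χ : ℂ) * β i w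
  sct_Y : ∀ j : ZMod N, j ≠ 0 → ∀ i : ZMod N, i ≠ 0 → ∀ w ∈ CG (Subgroup.zpowers (pw u₀ i)),
    ¬ p ∣ orderOf w → sct (y j : G → ℂ) (av p M x (pw u₀ i)) (pw u₀ i) w =
      (ε : ℂ) * (open Classical in
        ∑ l : ZMod N, if (∃ r ∈ R, l = (r : ZMod N) * j) then ψN (i * l) else 0) * β i w
  regular : ∀ j : ZMod N, j ≠ 0 → ∀ h : G, ¬ p ∣ orderOf h →
    ∑ χ ∈ X, (c χ : ℂ) * (χ : G → ℂ) h + (ε : ℂ) * (y j : G → ℂ) h = 0

open scoped Classical in
theorem exists_data (hM : IsPModular p M) (hB : IsPBlock M B) (hx : IsMx p M B x)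
    (hcyc : IsCyclic x.1) (hP1 : x.1 ≠ ⊥) {u₀ : G} (hgen : Subgroup.zpowers u₀ = x.1)
    (hN : orderOf u₀ = N) :
    ∃ (R : Subgroup (ZMod N)ˣ) (β : ZMod N → G → ℂ) (X : Finset (IrrCharacter G))
      (y : ZMod N → IrrCharacter G) (c : IrrCharacter G → ℤ) (ε : ℤ),
      CData p M B x u₀ R β X y c ε := by
  obtain ⟨R, β, m, hRc, hR, hβn, hβi, hm⟩ := exists_coords hM hB hx hcyc hP1 hgen hN
  have hab := comm_of_cyclic hcyc
  have hpw : ∀ i : ZMod N, pw u₀ i ∈ x.1 := fun i =>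
    pow_mem (hgen ▸ Subgroup.mem_zpowers u₀) _
  have hfree : ∀ r ∈ R, ∀ i : ZMod N, i ≠ 0 → (r : ZMod N) * i = i → r = 1 :=
    fun r hr i hi h => free_pw hM hx hcyc hgen hN (fun r h => (hR r).1 h) hr hi h
  have hreg1 : ¬ p ∣ orderOf (1 : G) := by rw [orderOf_one]; exact hp.out.not_dvd_one
  have hN1 : (1 : ZMod N) ≠ 0 := by
    intro h
    refine hP1 ?_
    rw [← hgen, Subgroup.zpowers_eq_bot, ← pw_one hN, h, pw_zero]
  let a : IrrCharacter G → ZMod N → ℤ := fun χ j => (m χ j : ℤ) - m χ 0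
  have hsct : ∀ (χ : IrrCharacter G) (i : ZMod N), i ≠ 0 → ∀ w ∈ CG (Subgroup.zpowers (pw u₀ i)), ¬ p ∣ orderOf w →
      sct (χ : G → ℂ) (av p M x (pw u₀ i)) (pw u₀ i) w =
        (∑ j, (a χ j : ℂ) * ψN (i * j)) * β i w := by
    intro χ i hi w hw hwr
    rw [hm χ i hi w hw hwr]
    simp only [a, Int.cast_sub, Int.cast_natCast, sub_mul, Finset.sum_sub_distrib, ← Finset.mul_sum]
    have hz : ∑ j : ZMod N, ψN (i * j) = 0 := by
      rw [Finset.sum_congr rfl (g := fun j => ψN (j * i)) (fun j _ => by rw [mul_comm i j]),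
        ψN_sum, if_neg hi]
    rw [hz, mul_zero, zero_mul, sub_zero]
  let D : IrrCharacter G → ZMod N → ℂ := fun χ i => ∑ j, (a χ j : ℂ) * ψN (i * j)
  set A := Finset.univ.filter (· ∈ B) with hA
  have hinv : ∀ χ (j : ZMod N), (N : ℂ) * (a χ j : ℂ) =
      ∑ i, D χ i * (ψN (-(i * j)) - 1) := by
    intro χ j
    have h1 : ∀ i : ZMod N, D χ i * (ψN (-(i * j)) - 1) =
        ∑ l, (a χ l : ℂ) * (ψN (i * (l - j)) - ψN (i * l)) := by
      intro i
      simp only [D, Finset.sum_mul]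
      refine Finset.sum_congr rfl fun l _ => ?_
      rw [show i * (l - j) = i * l + -(i * j) by ring, AddChar.map_add_eq_mul]
      ring
    rw [Finset.sum_congr rfl fun i _ => h1 i, Finset.sum_comm]
    have h2 : ∀ l : ZMod N, ∑ i, (a χ l : ℂ) * (ψN (i * (l - j)) - ψN (i * l)) =
        (if l = j then (N : ℂ) * (a χ l : ℂ) else 0) -
          if l = 0 then (N : ℂ) * (a χ l : ℂ) else 0 := by
      intro l
      rw [← Finset.mul_sum, Finset.sum_sub_distrib, ψN_sum, ψN_sum]
      simp only [sub_eq_zero]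
      split_ifs <;> ring
    rw [Finset.sum_congr rfl fun l _ => h2 l, Finset.sum_sub_distrib]
    simp [a]
  have hβ0 : ∀ i : ZMod N, i ≠ 0 → β i 1 ≠ 0 := fun i hi h => by
    have hh := hβn i hi
    rw [h, zero_mul, mul_zero] at hh
    exact wgt_ne_zero hM (av_spec hM hx (hpw i)).2.2.1.2 hh.symm
  set q : ℕ := Nat.card R with hq
  letI : Fintype R := Fintype.ofFinite _
  have hG : ∀ i i' : ZMod N, i ≠ 0 → i' ≠ 0 →
      ∑ χ ∈ A, D χ i * conj (D χ i') =
        (N : ℂ) * ∑ r : R, (if i' = ((r : (ZMod N)ˣ) : ZMod N) * i then (1 : ℂ) else 0) := by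
    intro i i' hi hi'
    have h := sum_sct_mul (B := B) hM hx hab (hpw i) (hpw i')
    have h1 : ∑ χ ∈ A, sct (χ : G → ℂ) (av p M x (pw u₀ i)) (pw u₀ i) 1 *
        conj (sct (χ : G → ℂ) (av p M x (pw u₀ i')) (pw u₀ i') 1) =
        (∑ χ ∈ A, D χ i * conj (D χ i')) * (β i 1 * conj (β i' 1)) := by
      rw [Finset.sum_mul]
      refine Finset.sum_congr rfl fun χ _ => ?_
      rw [hsct χ i hi 1 (one_mem _) hreg1, hsct χ i' hi' 1 (one_mem _) hreg1,
        map_mul (starRingEnd ℂ)]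
      ring
    have hne : β i 1 * conj (β i' 1) ≠ 0 :=
      mul_ne_zero (hβ0 i hi) fun h' => hβ0 i' hi' (by simpa using h')
    refine mul_right_cancel₀ hne (h1.symm.trans (h.trans ?_))
    by_cases hex : ∃ r ∈ R, i' = (r : ZMod N) * i
    · obtain ⟨r, hr, rfl⟩ := hex
      obtain ⟨t, ht, htu⟩ := (hR r).1 hr
      rw [if_pos ⟨t, ht, conj_pw hN htu i⟩, hβi r hr i hi, Finset.sum_eq_single (⟨r, hr⟩ : R),
        if_pos rfl, mul_one, hβn i hi]
      · intro s _ hs
        refine if_neg fun he => hs ?_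
        have h' := hfree ((s : (ZMod N)ˣ)⁻¹ * r) (mul_mem (inv_mem s.2) hr) i hi (by
          rw [Units.val_mul, mul_assoc, he, Units.inv_mul_cancel_left])
        exact Subtype.ext (inv_mul_eq_one.1 h')
      · exact fun h' => absurd (Finset.mem_univ _) h'
    · rw [if_neg, Finset.sum_eq_zero fun (r : R) _ => if_neg fun h' => hex ⟨r, r.2, h'⟩, mul_zero, zero_mul]
      rintro ⟨t, ht, hti⟩
      obtain ⟨l, hl⟩ := exists_pw hN (v := t * u₀ * t⁻¹) (by
        rw [hgen]
        exact (Subgroup.mem_normalizer_iff.1 (stab_le_normalizer x ht) u₀).1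
          (hgen ▸ Subgroup.mem_zpowers u₀))
      obtain ⟨l', hl'⟩ := exists_pw hN (v := t⁻¹ * u₀ * t⁻¹⁻¹) (by
        rw [hgen]
        exact (Subgroup.mem_normalizer_iff.1 (stab_le_normalizer x (inv_mem ht)) u₀).1
          (hgen ▸ Subgroup.mem_zpowers u₀))
      have hll : l * l' = 1 := pw_inj hN (by
        rw [← conj_pw hN hl.symm l', hl', pw_one hN]; group)
      let r : (ZMod N)ˣ := ⟨l, l', hll, by rw [mul_comm, hll]⟩
      refine hex ⟨r, (hR r).2 ⟨t, ht, hl.symm⟩, pw_inj hN ?_⟩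
      show pw u₀ i' = pw u₀ (l * i)
      rw [← conj_pw hN hl.symm i, hti]
  have hgram : ∀ j l : ZMod N, j ≠ 0 → l ≠ 0 → ∑ χ ∈ A, a χ j * a χ l =
      (if ∃ r ∈ R, j = (r : ZMod N) * l then 1 else 0) + (q : ℤ) := by
    intro j l hj hl
    have hN0 : (N : ℂ) ≠ 0 := Nat.cast_ne_zero.2 (NeZero.ne N)
    let w : ZMod N → ZMod N → ℂ := fun j i => ψN (-(i * j)) - 1
    have hw0 : ∀ j, w j 0 = 0 := fun j => by simp [w]
    have key : (N : ℂ) * N * ∑ χ ∈ A, ((a χ j : ℂ) * (a χ l : ℂ)) =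
        (N : ℂ) * N * ((if ∃ r ∈ R, j = (r : ZMod N) * l then 1 else 0) + (q : ℂ)) := by
      have h1 : ∀ χ, (N : ℂ) * N * ((a χ j : ℂ) * (a χ l : ℂ)) = ∑ i, ∑ i',
          D χ i * conj (D χ i') * (w j i * conj (w l i')) := by
        intro χ
        calc (N : ℂ) * N * ((a χ j : ℂ) * (a χ l : ℂ)) =
            ((N : ℂ) * (a χ j : ℂ)) * conj ((N : ℂ) * (a χ l : ℂ)) := by
              rw [map_mul, Complex.conj_natCast, map_intCast]; ring
          _ = _ := by
              rw [hinv χ j, hinv χ l, map_sum, Finset.sum_mul]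
              refine Finset.sum_congr rfl fun i _ => ?_
              rw [Finset.mul_sum]
              exact Finset.sum_congr rfl fun i' _ => by rw [map_mul]; ring
      rw [Finset.mul_sum, Finset.sum_congr rfl fun χ _ => h1 χ, Finset.sum_comm]
      have h2 : ∀ i, ∑ χ ∈ A, ∑ i',
          D χ i * conj (D χ i') * (w j i * conj (w l i')) =
          (N : ℂ) * ∑ r : R, w j i * conj (w l (((r : (ZMod N)ˣ) : ZMod N) * i)) := by
        intro i
        by_cases hi : i = 0
        · subst hi; simp [hw0]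
        rw [Finset.sum_comm, Finset.sum_congr rfl (g := fun i' => (N : ℂ) *
          ∑ r : R, (if i' = ((r : (ZMod N)ˣ) : ZMod N) * i then w j i * conj (w l i') else 0))
          fun i' _ => ?_]
        · rw [← Finset.mul_sum, Finset.sum_comm]
          simp
        · by_cases hi' : i' = 0
          · subst hi'
            simp [hw0]
          · rw [← Finset.sum_mul, hG i i' hi hi', mul_assoc, Finset.sum_mul]
            exact congrArg _ (Finset.sum_congr rfl fun r _ => by rw [ite_mul, one_mul, zero_mul])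
      rw [Finset.sum_congr rfl fun i _ => h2 i, ← Finset.mul_sum, Finset.sum_comm]
      have h3 : ∀ r : R, ∑ i, w j i * conj (w l (((r : (ZMod N)ˣ) : ZMod N) * i)) =
          (N : ℂ) * ((if j = ((r : (ZMod N)ˣ) : ZMod N) * l then 1 else 0) + 1) := by
        intro r
        set c : ZMod N := ((r : (ZMod N)ˣ) : ZMod N) * l
        have hc : c ≠ 0 := fun h => hl (by simpa [c] using h)
        have e : ∀ i : ZMod N, w j i * conj (w l (((r : (ZMod N)ˣ) : ZMod N) * i)) =
            ψN (i * (c - j)) - ψN (i * c) - ψN (i * (-j)) + 1 := by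
          intro i
          simp only [w, map_sub, map_one, ψN_conj, neg_neg]
          rw [show ((r : (ZMod N)ˣ) : ZMod N) * i * l = i * c by simp [c]; ring,
            show i * (c - j) = -(i * j) + i * c by ring, AddChar.map_add_eq_mul,
            show i * (-j) = -(i * j) by ring]
          ring
        rw [Finset.sum_congr rfl fun i _ => e i, Finset.sum_add_distrib, Finset.sum_sub_distrib,
          Finset.sum_sub_distrib, ψN_sum, ψN_sum, ψN_sum, if_neg hc,
          if_neg (neg_ne_zero.2 hj), Finset.sum_const, Finset.card_univ, ZMod.card]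
        simp only [sub_eq_zero, eq_comm (a := c)]
        split <;> simp <;> ring
      rw [Finset.sum_congr rfl fun r _ => h3 r, ← Finset.mul_sum, Finset.sum_add_distrib,
        Finset.sum_const, Finset.card_univ, ← Nat.card_eq_fintype_card, nsmul_one, mul_assoc]
      congr 3
      by_cases hjl : ∃ r ∈ R, j = (r : ZMod N) * l
      · obtain ⟨r, hr, hjr⟩ := hjl
        rw [if_pos ⟨r, hr, hjr⟩, Finset.sum_eq_single (⟨r, hr⟩ : R), if_pos hjr]
        · intro s _ hs
          refine if_neg fun he => hs ?_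
          have h' := hfree ((s : (ZMod N)ˣ)⁻¹ * r) (mul_mem (inv_mem s.2) hr) l hl (by
            rw [Units.val_mul, mul_assoc, ← hjr, he, Units.inv_mul_cancel_left])
          exact Subtype.ext (inv_mul_eq_one.1 h')
        · exact fun h' => absurd (Finset.mem_univ _) h'
      · rw [if_neg hjl, Finset.sum_eq_zero fun (r : R) _ => if_neg fun h => hjl ⟨r, r.2, h⟩]
    have h4 := mul_left_cancel₀ (mul_ne_zero hN0 hN0) key
    apply Int.cast_injective (α := ℂ)
    push_cast
    simpa [q] using h4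
  have hconst : ∀ r ∈ R, ∀ j : ZMod N, j ≠ 0 → ∀ χ ∈ A, a χ ((r : ZMod N) * j) = a χ j := by
    intro r hr j hj χ hχ
    have hrj : (r : ZMod N) * j ≠ 0 := fun h => hj (by simpa using h)
    have h : ∑ χ ∈ A, (a χ ((r : ZMod N) * j) - a χ j) * (a χ ((r : ZMod N) * j) - a χ j) = 0 := by
      have e1 : ∀ χ, (a χ ((r : ZMod N) * j) - a χ j) * (a χ ((r : ZMod N) * j) - a χ j) =
          a χ ((r : ZMod N) * j) * a χ ((r : ZMod N) * j) - a χ ((r : ZMod N) * j) * a χ j -
            a χ j * a χ ((r : ZMod N) * j) + a χ j * a χ j := fun χ => by ring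
      rw [Finset.sum_congr rfl fun χ _ => e1 χ, Finset.sum_add_distrib, Finset.sum_sub_distrib,
        Finset.sum_sub_distrib, hgram _ _ hrj hrj, hgram _ _ hrj hj, hgram _ _ hj hrj,
        hgram _ _ hj hj, if_pos ⟨1, one_mem _, by simp⟩, if_pos ⟨r, hr, rfl⟩,
        if_pos ⟨r⁻¹, inv_mem hr, (Units.inv_mul_cancel_left r j).symm⟩,
        if_pos ⟨1, one_mem _, by simp⟩]
      ring
    have := (Finset.sum_eq_zero_iff_of_nonneg fun χ _ => mul_self_nonneg _).1 h χ hχ
    exact sub_eq_zero.1 (mul_self_eq_zero.1 this)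
  -- the orbits
  let rel : Setoid {j : ZMod N // j ≠ 0} :=
    { r := fun j j' => ∃ r ∈ R, (j' : ZMod N) = (r : ZMod N) * (j : ZMod N)
      iseqv :=
        { refl := fun j => ⟨1, one_mem _, by simp⟩
          symm := fun {j j'} ⟨r, hr, h⟩ =>
            ⟨r⁻¹, inv_mem hr, by rw [h, Units.inv_mul_cancel_left]⟩
          trans := fun {j j' j''} ⟨r, hr, h⟩ ⟨s, hs, h'⟩ =>
            ⟨s * r, mul_mem hs hr, by rw [h', h, Units.val_mul, mul_assoc]⟩ } }
  letI : Fintype (Quotient rel) := Fintype.ofFinite _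
  haveI : Nonempty (Quotient rel) := ⟨Quotient.mk rel ⟨1, hN1⟩⟩
  let a' : IrrCharacter G → Quotient rel → ℤ := fun χ o => a χ (o.out : ZMod N)
  have ha' : ∀ χ ∈ A, ∀ (j : ZMod N) (hj : j ≠ 0), a χ j = a' χ (Quotient.mk rel ⟨j, hj⟩) := by
    intro χ hχ j hj
    obtain ⟨r, hr, h⟩ := Quotient.exact (Quotient.out_eq (Quotient.mk rel ⟨j, hj⟩))
    exact (congrArg (a χ) h).trans (hconst r hr _ (Quotient.mk rel ⟨j, hj⟩).out.2 χ hχ)
  have hg : ∀ o o', ∑ χ ∈ A, a' χ o * a' χ o' = (if o = o' then 1 else 0) + (q : ℤ) := by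
    intro o o'
    rw [hgram _ _ o.out.2 o'.out.2]
    congr 1
    refine if_congr ⟨fun ⟨r, hr, h⟩ => ?_, fun h => h ▸ ⟨1, one_mem _, by simp⟩⟩ rfl rfl
    rw [← Quotient.out_eq o, ← Quotient.out_eq o']
    exact (Quotient.sound (show rel.r o'.out o.out from ⟨r, hr, h⟩)).symm
  have horth : ∀ o, ∀ h : G, ¬ p ∣ orderOf h →
      ∑ χ ∈ A, (a' χ o : ℂ) * (χ : G → ℂ) h = 0 := by
    intro o h hh
    refine (mul_eq_zero.1 (?_ : (N : ℂ) * _ = 0)).resolve_left (Nat.cast_ne_zero.2 (NeZero.ne N))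
    rw [Finset.mul_sum]
    simp only [a', ← mul_assoc, hinv, Finset.sum_mul]
    rw [Finset.sum_comm]
    refine Finset.sum_eq_zero fun i _ => ?_
    by_cases hi : i = 0
    · subst hi; simp
    have h0 := sum_sct_regular (B := B) hM (av_spec hM hx (hpw i)).1
      (order_pow hx.1.1.1 ⟨_, hpw i⟩) (pw_ne_one hN hi) (av_spec hM hx (hpw i)).2.2 hh
    refine (mul_eq_zero.1 (?_ : β i 1 * _ = 0)).resolve_left (hβ0 i hi)
    rw [Finset.mul_sum]
    calc ∑ χ ∈ A, β i 1 * (D χ i * (ψN (-(i * (o.out : ZMod N))) - 1) * (χ : G → ℂ) h)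
        = (ψN (-(i * (o.out : ZMod N))) - 1) *
          ∑ χ ∈ A, sct (χ : G → ℂ) (av p M x (pw u₀ i)) (pw u₀ i) 1 * (χ : G → ℂ) h := by
          rw [Finset.mul_sum]
          refine Finset.sum_congr rfl fun χ _ => ?_
          rw [hsct χ i hi 1 (one_mem _) hreg1]
          ring
      _ = 0 := by rw [h0, mul_zero]
  have hnz : ∀ χ ∈ A, ∃ o, a' χ o ≠ 0 := by
    intro χ hχ
    have hχB : χ ∈ B := (Finset.mem_filter.1 hχ).2
    by_contra hall
    push Not at hall
    have hz : ∀ v ∈ x.1, v ≠ 1 → ∀ w ∈ CG (Subgroup.zpowers v), ¬ p ∣ orderOf w →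
        sct (χ : G → ℂ) (av p M x v) v w = 0 := by
      intro v hv hv1 w hw hwr
      obtain ⟨i, rfl⟩ := exists_pw hN (v := v) (hgen ▸ hv)
      have hi : i ≠ 0 := fun h => hv1 (by rw [h, pw_zero])
      rw [hsct χ i hi w hw hwr, Finset.sum_eq_zero fun j _ => ?_, zero_mul]
      by_cases hj : j = 0
      · subst hj; simp [a]
      · rw [ha' χ hχ j hj, hall, Int.cast_zero, zero_mul]
    have hvan : ∀ g : G, p ∣ orderOf g → (χ : G → ℂ) g = 0 := fun g hg => by
      simpa using vanish_of_sections hM hB hx {χ} (fun _ => 1) (by simpa using hχB)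
        (fun v hv hv1 w hw hwr => by simp [hz v hv hv1 w hw hwr]) hg
    obtain ⟨η, hη, hη0⟩ := exists_height_zero hM hB
    by_cases hne : η = χ
    · subst hne
      obtain ⟨e1, -, e3⟩ := av_spec hM hx (hpw (1 : ZMod N))
      obtain ⟨w, hw, hwr, hne⟩ := exists_sct_ne_zero (x := pw u₀ (1 : ZMod N)) hM hχB hη0 e1 e3
      exact hne (hz _ (hpw _) (pw_ne_one hN hN1) w (e1 ▸ hw) hwr)
    · obtain ⟨z, hz0, hzeq⟩ := Contrib.exists_int_regSum hM hB hη hχB hη0
      have h0 : regSum p (χ : G → ℂ) (η : G → ℂ) = 0 := by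
        rw [regSum_eq_sum, Finset.sum_subset (Finset.filter_subset _ _) fun g _ hg => by
          rw [hvan g (by simpa using hg), zero_mul]]
        have h1 := Cfsg.Agent.Char.classInner_irr_ne χ.2 η.2 (fun e => hne (Subtype.ext e).symm)
        rw [classInner, mul_eq_zero] at h1
        exact h1.resolve_left (inv_ne_zero (Nat.cast_ne_zero.2 Nat.card_pos.ne'))
      rw [h0, zero_mul, eq_comm, mul_eq_zero, mul_eq_zero] at hzeq
      rcases hzeq with (h | h) | h
      · exact Nat.card_pos.ne' (Nat.cast_eq_zero.1 h)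
      · exact pow_ne_zero _ (Nat.cast_ne_zero.2 hp.out.ne_zero) h
      · exact hz0 (Int.cast_eq_zero.1 h)
  have hge := CycGreen.relIndex_le_blockRank_cyclic hM hB hx hcyc hP1
  have hle : blockRank p B + Fintype.card (Quotient rel) ≤ A.card :=
    DefectOne.rank_add_le B a' q hg horth
  rw [← hRc] at hge
  have hcard : q + Fintype.card (Quotient rel) ≤ A.card :=
    le_trans (Nat.add_le_add_right hge _) hle
  obtain ⟨X, yq, c, ε, hy, hyA, hXmem, hXcard, hε, hc, hY⟩ :=
    DefectOne.goodRows (A := A) (a := a') (e := q) (fun χ => (charDegree (χ : G → ℂ) : ℤ))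
      (fun χ _ => by exact_mod_cast charDeg_pos χ)
      hg (fun o => by
        have h := horth o 1 hreg1
        apply Int.cast_injective (α := ℂ)
        push_cast
        rw [← h]
        exact Finset.sum_congr rfl fun χ _ => by rw [charDeg_spec', mul_comm])
      hnz hcard
  have hXA : ∀ χ ∈ X, χ ∈ A := fun χ hχ => ((hXmem χ).1 hχ).1
  have hAeq : A = X ∪ Finset.univ.image yq := by
    ext χ
    rw [Finset.mem_union, hXmem, Finset.mem_image]
    constructor
    · intro h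
      by_cases hex : ∃ o, yq o = χ
      · obtain ⟨o, ho⟩ := hex
        exact Or.inr ⟨o, Finset.mem_univ _, ho⟩
      · exact Or.inl ⟨h, fun o ho => hex ⟨o, ho⟩⟩
    · rintro (h | ⟨o, -, rfl⟩)
      · exact h.1
      · exact hyA o
  have hdisj : Disjoint X (Finset.univ.image yq) := by
    rw [Finset.disjoint_left]
    intro χ hχ hχ'
    obtain ⟨o, -, rfl⟩ := Finset.mem_image.1 hχ'
    exact ((hXmem _).1 hχ).2 o rfl
  have hrank : blockRank p B = q := by
    refine le_antisymm ?_ hge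
    have h1 : A.card = q + Fintype.card (Quotient rel) := by
      rw [hAeq, Finset.card_union_of_disjoint hdisj, hXcard, Finset.card_image_of_injective _ hy,
        Finset.card_univ]
    omega
  let y : ZMod N → IrrCharacter G := fun j =>
    if h : j = 0 then trivialIrr G else yq (Quotient.mk rel ⟨j, h⟩)
  have hy' : ∀ (j : ZMod N) (hj : j ≠ 0), y j = yq (Quotient.mk rel ⟨j, hj⟩) := fun j hj => dif_neg hj
  refine ⟨R, β, X, y, c, ε, ⟨hRc, hR, hfree, hβn, hβi, fun χ => ?_, fun j hj h => ?_,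
    fun j j' hj hj' => ?_, hXcard.trans hRc, hrank.trans hRc, hε, fun χ hχ => (hc χ hχ).1,
    fun χ hχ i hi w hw hwr => ?_, fun j hj i hi w hw hwr => ?_, fun j hj h hh => ?_⟩⟩
  · constructor
    · intro h
      have h' : χ ∈ X ∪ Finset.univ.image yq := hAeq ▸ Finset.mem_filter.2 ⟨Finset.mem_univ _, h⟩
      rcases Finset.mem_union.1 h' with h1 | h1
      · exact Or.inl h1
      · obtain ⟨o, -, rfl⟩ := Finset.mem_image.1 h1
        induction o using Quotient.inductionOn with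
        | h j => exact Or.inr ⟨j, j.2, hy' j j.2⟩
    · rintro (h | ⟨j, hj, rfl⟩)
      · exact (Finset.mem_filter.1 (hXA χ h)).2
      · rw [hy' j hj]
        exact (Finset.mem_filter.1 (hyA _)).2
  · rw [hy' j hj] at h
    exact ((hXmem _).1 h).2 _ rfl
  · rw [hy' j hj, hy' j' hj', hy.eq_iff]
    exact ⟨fun h => Quotient.exact h, fun h => Quotient.sound h⟩
  · rw [hsct χ i hi w hw hwr]
    congr 1
    have hz : ∑ j : ZMod N, ψN (i * j) = 0 := by
      rw [Finset.sum_congr rfl (g := fun j => ψN (j * i)) (fun j _ => by rw [mul_comm i j]),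
        ψN_sum, if_neg hi]
    rw [← Finset.add_sum_erase _ _ (Finset.mem_univ (0 : ZMod N)), mul_zero,
      AddChar.map_zero_eq_one] at hz
    rw [← Finset.add_sum_erase _ _ (Finset.mem_univ (0 : ZMod N)),
      show a χ 0 = 0 from sub_self _, Int.cast_zero, zero_mul, zero_add,
      Finset.sum_congr rfl (g := fun j => (c χ : ℂ) * ψN (i * j)) fun j hj => by
        rw [ha' χ (hXA χ hχ) j (Finset.ne_of_mem_erase hj), (hc χ hχ).2],
      ← Finset.mul_sum, eq_neg_of_add_eq_zero_right hz, mul_neg, mul_one]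
  · rw [hy' j hj, hsct _ i hi w hw hwr]
    congr 1
    rw [Finset.mul_sum]
    refine Finset.sum_congr rfl fun l _ => ?_
    by_cases hl : l = 0
    · subst hl
      rw [show a (yq _) 0 = 0 from sub_self _, Int.cast_zero, zero_mul, if_neg, mul_zero]
      rintro ⟨r, -, h⟩
      exact hj (by simpa using h.symm)
    · rw [ha' _ (hyA _) l hl, hY]
      have hiff : (Quotient.mk rel ⟨l, hl⟩ = Quotient.mk rel ⟨j, hj⟩) ↔
          ∃ r ∈ R, l = (r : ZMod N) * j :=
        ⟨fun h => Quotient.exact h.symm, fun h => (Quotient.sound h).symm⟩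
      by_cases hex : ∃ r ∈ R, l = (r : ZMod N) * j
      · rw [if_pos hex, if_pos (hiff.2 hex)]
      · rw [if_neg hex, if_neg fun h => hex (hiff.1 h), Int.cast_zero, zero_mul, mul_zero]
  · have h' := horth (Quotient.mk rel ⟨j, hj⟩) h hh
    rw [hAeq, Finset.sum_union hdisj, Finset.sum_image fun o _ o' _ h => hy h,
      Finset.sum_congr rfl fun χ hχ => by rw [(hc χ hχ).2 _],
      Finset.sum_eq_single (Quotient.mk rel ⟨j, hj⟩)
        (fun o _ ho => by rw [hY, if_neg (Ne.symm ho), Int.cast_zero, zero_mul])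
        (fun h => absurd (Finset.mem_univ _) h), hY, if_pos rfl] at h'
    rw [hy' j hj]
    exact h'

end Cfsg.Agent.Char.CycDef
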