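import Cfsg.Agent.Lib.Char.CycDefRows

/-!
Blocks with cyclic defect group: the number of modular characters, the heights, the sign relation and
the congruences of the degrees.
-/

open scoped ComplexConjugate

namespace Cfsg.Agent.Char.CycDef

open Cfsg Cfsg.Agent.Block Cfsg.Agent.Char.BP Cfsg.Agent.Char.Spec Cfsg.Agent.Char.Star

set_option linter.unusedSectionVars false
set_option linter.style.haveILetI false
set_option maxHeartbeats 1600000

universe u

variable {G : Type u} [Group G] [Fintype G] {p : ℕ} [hp : Fact p.Prime] {M : Ideal AlgInt}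
variable {B : Set (IrrCharacter G)} {x : BrauerPairIdx G} {N : ℕ} [NeZero N]
variable {u₀ : G} {R : Subgroup (ZMod N)ˣ} {β : ZMod N → G → ℂ} {X : Finset (IrrCharacter G)}
  {y : ZMod N → IrrCharacter G} {c : IrrCharacter G → ℤ} {ε : ℤ}

/-- A generator and the order of a cyclic defect group. -/
theorem exists_gen (hcyc : IsCyclic x.1) : ∃ u₀ : G, Subgroup.zpowers u₀ = x.1 := by
  obtain ⟨⟨u, hu⟩, hgen⟩ := hcyc.exists_generator
  refine ⟨u, le_antisymm (Subgroup.zpowers_le.2 hu) fun v hv => ?_⟩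
  obtain ⟨k, hk⟩ := Subgroup.mem_zpowers_iff.1 (hgen ⟨v, hv⟩)
  exact Subgroup.mem_zpowers_iff.2 ⟨k, congrArg Subtype.val hk⟩

/-- The inertial group, described by all the conjugates of the members of the block. -/
theorem stab_eq_of_forall (hM : IsPModular p M) {D : Subgroup G} {b : Set (IrrCharacter (CG D))}
    (hb : IsPBlock M b) {T : Subgroup G}
    (hT : ∀ g : G, g ∈ T ↔ (g ∈ Subgroup.normalizer (D : Set G) ∧ ∀ θ ∈ b,
      ∀ θ' : IrrCharacter (CG D), (∀ h h' : CG D, (h' : G) = g * h * g⁻¹ →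
        (θ' : CG D → ℂ) h' = (θ : CG D → ℂ) h) → θ' ∈ b)) :
    stab (⟨D, b⟩ : BrauerPairIdx G) = T := by
  ext g
  rw [mem_stab_iff hM (a := (⟨D, b⟩ : BrauerPairIdx G)) hb, hT]
  refine and_congr_right fun hg => ⟨fun h θ hθ θ' hθ' => ?_, fun h => ?_⟩
  · obtain ⟨χ', hχ', hconj⟩ := h.2 θ hθ
    refine (show θ' = χ' from Subtype.ext (funext fun k' => ?_)) ▸ hχ'
    obtain ⟨k, rfl⟩ := (centEquiv hg).surjective k'
    rw [hθ' k _ (centEquiv_val hg k), hconj k _ (centEquiv_val hg k)]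
  · refine ⟨mem_normalizer_cg hg, fun θ hθ => ⟨irrPull (centEquiv hg).symm θ,
      h θ hθ _ fun k k' hk => ?_, fun k k' hk => ?_⟩⟩ <;>
    · obtain rfl : centEquiv hg k = k' := Subtype.ext ((centEquiv_val hg k).trans hk.symm)
      rw [irrPull_apply, MulEquiv.symm_apply_apply]

open scoped Classical in
/-- The exceptional members. -/
noncomputable def ys (y : ZMod N → IrrCharacter G) : Finset (IrrCharacter G) :=
  (Finset.univ.erase (0 : ZMod N)).image y

theorem mem_ys {χ : IrrCharacter G} : χ ∈ ys y ↔ ∃ j : ZMod N, j ≠ 0 ∧ y j = χ := by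
  simp [ys]

theorem fiber_card (hD : CData p M B x u₀ R β X y c ε) {ψ : IrrCharacter G} (hψ : ψ ∈ ys y)
    [DecidableEq (IrrCharacter G)] :
    ((Finset.univ.erase (0 : ZMod N)).filter fun j => y j = ψ).card =
      (CG x.1).relIndex (stab x) := by
  classical
  letI := Fintype.ofFinite R
  obtain ⟨j, hj, rfl⟩ := mem_ys.1 hψ
  rw [← hD.card_R, Nat.card_eq_fintype_card, ← Finset.card_univ]
  symm
  refine Finset.card_bij (fun (r : R) _ => ((r : (ZMod N)ˣ) : ZMod N) * j) (fun r _ => ?_)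
    (fun r _ s _ h => ?_) fun l hl => ?_
  · have hrj : ((r : (ZMod N)ˣ) : ZMod N) * j ≠ 0 := fun h => hj (by simpa using h)
    exact Finset.mem_filter.2 ⟨Finset.mem_erase.2 ⟨hrj, Finset.mem_univ _⟩,
      ((hD.y_eq j _ hj hrj).2 ⟨r, r.2, rfl⟩).symm⟩
  · have h' := hD.free ((s : (ZMod N)ˣ)⁻¹ * r) (mul_mem (inv_mem s.2) r.2) j hj (by
      rw [Units.val_mul, mul_assoc, h, Units.inv_mul_cancel_left])
    exact (Subtype.ext (inv_mul_eq_one.1 h')).symm
  · obtain ⟨h1, h2⟩ := Finset.mem_filter.1 hl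
    obtain ⟨r, hr, hl'⟩ := (hD.y_eq j l hj (Finset.ne_of_mem_erase h1)).1 h2.symm
    exact ⟨⟨r, hr⟩, Finset.mem_univ _, hl'.symm⟩

theorem card_ys (hD : CData p M B x u₀ R β X y c ε) :
    (ys y).card * (CG x.1).relIndex (stab x) = N - 1 := by
  classical
  have h := Finset.card_eq_sum_card_fiberwise (f := y) (s := Finset.univ.erase (0 : ZMod N))
    (t := ys y) fun j hj => mem_ys.2 ⟨j, Finset.ne_of_mem_erase hj, rfl⟩
  rw [Finset.sum_congr rfl fun ψ hψ => fiber_card hD hψ, Finset.sum_const, smul_eq_mul,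
    Finset.card_erase_of_mem (Finset.mem_univ _), Finset.card_univ, ZMod.card] at h
  exact h.symm

theorem agree (hD : CData p M B x u₀ R β X y c ε) {ψ ψ' : IrrCharacter G} (hψ : ψ ∈ ys y)
    (hψ' : ψ' ∈ ys y) {g : G} (hg : ¬ p ∣ orderOf g) : (ψ : G → ℂ) g = (ψ' : G → ℂ) g := by
  obtain ⟨j, hj, rfl⟩ := mem_ys.1 hψ
  obtain ⟨j', hj', rfl⟩ := mem_ys.1 hψ'
  have h1 := hD.regular j hj g hg
  have h2 := hD.regular j' hj' g hg
  rcases hD.ε_sign with h | h <;> rw [h] at h1 h2 <;> push_cast at h1 h2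
  · linear_combination h1 - h2
  · linear_combination h2 - h1

/-- The sum of the sections of the exceptional members. -/
theorem sum_sct_ys (hD : CData p M B x u₀ R β X y c ε) {i : ZMod N} (hi : i ≠ 0) {w : G}
    (hw : w ∈ CG (Subgroup.zpowers (pw u₀ i))) (hwr : ¬ p ∣ orderOf w) :
    ∑ ψ ∈ ys y, sct (ψ : G → ℂ) (av p M x (pw u₀ i)) (pw u₀ i) w = -(ε : ℂ) * β i w := by
  classical
  letI := Fintype.ofFinite R
  have he : ((CG x.1).relIndex (stab x) : ℂ) ≠ 0 := Nat.cast_ne_zero.2 (by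
    rw [← hD.card_R]; exact Nat.card_pos.ne')
  refine mul_left_cancel₀ he ?_
  have h := Finset.sum_fiberwise_of_maps_to (s := Finset.univ.erase (0 : ZMod N)) (t := ys y)
    (g := y) (fun j hj => mem_ys.2 ⟨j, Finset.ne_of_mem_erase hj, rfl⟩)
    (fun j => sct (y j : G → ℂ) (av p M x (pw u₀ i)) (pw u₀ i) w)
  rw [Finset.sum_congr rfl (g := fun ψ : IrrCharacter G => ((CG x.1).relIndex (stab x) : ℂ) *
    sct (ψ : G → ℂ) (av p M x (pw u₀ i)) (pw u₀ i) w) fun ψ hψ => by
      rw [Finset.sum_congr rfl fun j hj => by rw [(Finset.mem_filter.1 hj).2], Finset.sum_const,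
        fiber_card hD hψ, nsmul_eq_mul]] at h
  rw [Finset.mul_sum, h,
    Finset.sum_congr rfl fun j hj => hD.sct_Y j (Finset.ne_of_mem_erase hj) i hi w hw hwr,
    ← Finset.sum_mul, ← Finset.mul_sum]
  have hinner : ∀ j : ZMod N, j ≠ 0 →
      (∑ l : ZMod N, if (∃ r ∈ R, l = (r : ZMod N) * j) then ψN (i * l) else 0) =
      ∑ r : R, ψN (i * (((r : (ZMod N)ˣ) : ZMod N) * j)) := by
    intro j hj
    rw [← Finset.sum_filter]
    symm
    refine Finset.sum_bij (fun (r : R) _ => ((r : (ZMod N)ˣ) : ZMod N) * j)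
      (fun r _ => Finset.mem_filter.2 ⟨Finset.mem_univ _, r, r.2, rfl⟩) (fun r _ s _ h => ?_)
      (fun l hl => ?_) fun r _ => rfl
    · have h' := hD.free ((s : (ZMod N)ˣ)⁻¹ * r) (mul_mem (inv_mem s.2) r.2) j hj (by
        rw [Units.val_mul, mul_assoc, h, Units.inv_mul_cancel_left])
      exact (Subtype.ext (inv_mul_eq_one.1 h')).symm
    · obtain ⟨r, hr, hl'⟩ := (Finset.mem_filter.1 hl).2
      exact ⟨⟨r, hr⟩, Finset.mem_univ _, hl'.symm⟩
  rw [Finset.sum_congr rfl fun j hj => hinner j (Finset.ne_of_mem_erase hj), Finset.sum_comm,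
    Finset.sum_congr rfl (g := fun _ : R => (-1 : ℂ)) fun r _ => ?_, Finset.sum_const,
    Finset.card_univ, ← Nat.card_eq_fintype_card, hD.card_R, nsmul_eq_mul]
  · ring
  · have hri : i * ((r : (ZMod N)ˣ) : ZMod N) ≠ 0 := fun h' => hi (by simpa using h')
    have h0 := ψN_sum (i * ((r : (ZMod N)ˣ) : ZMod N))
    rw [if_neg hri, ← Finset.add_sum_erase _ _ (Finset.mem_univ (0 : ZMod N)), zero_mul,
      AddChar.map_zero_eq_one] at h0
    rw [Finset.sum_congr rfl (g := fun j => ψN (j * (i * ((r : (ZMod N)ˣ) : ZMod N))))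
      fun j _ => by congr 1; ring]
    exact eq_neg_of_add_eq_zero_right h0

variable (hM : IsPModular p M) (hB : IsPBlock M B) (hx : IsMx p M B x)
  (hgen : Subgroup.zpowers u₀ = x.1) (hN : orderOf u₀ = N)

include hM hB hx hgen hN

/-- The congruences of the degrees, modulo the `p`-part of the order of the group. -/
theorem congr_X (hD : CData p M B x u₀ R β X y c ε) {χ χ' : IrrCharacter G} (hχ : χ ∈ X)
    (hχ' : χ' ∈ X) : (p : ℤ) ^ (Nat.card G).factorization p ∣
      c χ * (charDegree (χ : G → ℂ) : ℤ) - c χ' * (charDegree (χ' : G → ℂ) : ℤ) := by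
  classical
  by_cases hne : χ = χ'
  · subst hne; simp
  have h := dvd_degree_of_vanish (p := p) {χ, χ'}
    (fun ξ => if ξ = χ then c χ else -c χ') fun g hg => ?_
  · rw [Finset.sum_pair hne, if_pos rfl, if_neg (Ne.symm hne), neg_mul] at h
    simpa [sub_eq_add_neg] using h
  · refine vanish_of_sections hM hB hx _
      (fun ξ => (((if ξ = χ then c χ else -c χ' : ℤ)) : ℂ)) (fun ξ hξ => ?_)
      (fun v hv hv1 w hw hwr => ?_) hg
    · rcases Finset.mem_insert.1 hξ with h | h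
      · exact h ▸ (hD.mem_iff χ).2 (Or.inl hχ)
      · exact Finset.mem_singleton.1 h ▸ (hD.mem_iff χ').2 (Or.inl hχ')
    · obtain ⟨i, rfl⟩ := exists_pw hN (v := v) (hgen ▸ hv)
      have hi : i ≠ 0 := fun h => hv1 (by rw [h, pw_zero])
      rw [Finset.sum_pair hne, if_pos rfl, if_neg (Ne.symm hne), hD.sct_X χ hχ i hi w hw hwr,
        hD.sct_X χ' hχ' i hi w hw hwr]
      rcases hD.c_sign χ hχ with h | h <;> rcases hD.c_sign χ' hχ' with h' | h' <;>
        rw [h, h'] <;> push_cast <;> ring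

theorem congr_Y (hD : CData p M B x u₀ R β X y c ε) {χ ψ : IrrCharacter G} (hχ : χ ∈ X)
    (hψ : ψ ∈ ys y) : (p : ℤ) ^ (Nat.card G).factorization p ∣
      c χ * (charDegree (χ : G → ℂ) : ℤ) -
        ε * ((ys y).card : ℤ) * (charDegree (ψ : G → ℂ) : ℤ) := by
  classical
  have hnot : ∀ ξ ∈ ys y, ξ ≠ χ := fun ξ hξ h => by
    obtain ⟨j, hj, rfl⟩ := mem_ys.1 hξ
    exact hD.disj j hj (h ▸ hχ)
  have hsplit : ∀ (f : IrrCharacter G → ℂ), ∑ ξ ∈ insert χ (ys y),
      (((if ξ = χ then c χ else -ε : ℤ)) : ℂ) * f ξ =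
      (c χ : ℂ) * f χ + -(ε : ℂ) * ∑ ξ ∈ ys y, f ξ := by
    intro f
    rw [Finset.sum_insert fun h => hnot χ h rfl, if_pos rfl, Finset.mul_sum]
    exact congrArg _ (Finset.sum_congr rfl fun ξ hξ => by rw [if_neg (hnot ξ hξ), Int.cast_neg])
  have h := dvd_degree_of_vanish (p := p) (insert χ (ys y))
    (fun ξ => if ξ = χ then c χ else -ε) fun g hg => ?_
  · rw [Finset.sum_insert fun h => hnot χ h rfl, if_pos rfl,
      Finset.sum_congr rfl (g := fun _ => -ε * (charDegree (ψ : G → ℂ) : ℤ)) fun ξ hξ => ?_,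
      Finset.sum_const, nsmul_eq_mul] at h
    · convert h using 1
      ring
    · rw [if_neg (hnot ξ hξ)]
      have h1 := agree hD hξ hψ (g := 1) (by rw [orderOf_one]; exact hp.out.not_dvd_one)
      rw [charDeg_spec', charDeg_spec', Nat.cast_inj] at h1
      rw [h1]
  · refine vanish_of_sections hM hB hx _ (fun ξ => (((if ξ = χ then c χ else -ε : ℤ)) : ℂ))
      (fun ξ hξ => ?_) (fun v hv hv1 w hw hwr => ?_) hg
    · rcases Finset.mem_insert.1 hξ with h | h
      · exact h ▸ (hD.mem_iff χ).2 (Or.inl hχ)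
      · exact (hD.mem_iff ξ).2 (Or.inr (mem_ys.1 h))
    · obtain ⟨i, rfl⟩ := exists_pw hN (v := v) (hgen ▸ hv)
      have hi : i ≠ 0 := fun h => hv1 (by rw [h, pw_zero])
      rw [hsplit fun ξ => sct (ξ : G → ℂ) (av p M x (pw u₀ i)) (pw u₀ i) w,
        hD.sct_X χ hχ i hi w hw hwr, sum_sct_ys hD hi hw hwr]
      rcases hD.c_sign χ hχ with h | h <;> rcases hD.ε_sign with h' | h' <;>
        rw [h, h'] <;> push_cast <;> ring

/-- Every member has height zero. -/
theorem height_zero (hP1 : x.1 ≠ ⊥) (hD : CData p M B x u₀ R β X y c ε) {χ : IrrCharacter G}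
    (hχ : χ ∈ B) : blockHeight p B (χ : G → ℂ) = 0 := by
  classical
  set n := (Nat.card G).factorization p with hn
  have hX : X.Nonempty := Finset.card_pos.1 (by
    rw [hD.card_X, ← hD.card_R]; exact Nat.card_pos)
  obtain ⟨χ₀, hχ₀⟩ := hX
  haveI : Nontrivial x.1 := x.1.nontrivial_iff_ne_bot.2 hP1
  obtain ⟨a, ha, hcard⟩ := (hx.1.1.1).nontrivial_iff_card.1 ‹_›
  have hN' : N = p ^ a := by rw [← hcard, ← hgen, Nat.card_zpowers, hN]
  have hny : ¬ p ∣ (ys y).card := fun h => by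
    have h1 : p ∣ N - 1 := card_ys hD ▸ dvd_mul_of_dvd_left h _
    have h2 : p ∣ N := hN' ▸ dvd_pow_self p ha.ne'
    have h3 : p ∣ 1 := by
      have := Nat.dvd_sub h2 h1
      rwa [Nat.sub_sub_self (Nat.one_le_iff_ne_zero.2 (NeZero.ne N))] at this
    exact hp.out.not_dvd_one h3
  have hiff : ∀ k ≤ n, ∀ ξ ∈ B,
      (p ^ k ∣ charDegree (ξ : G → ℂ) ↔ p ^ k ∣ charDegree (χ₀ : G → ℂ)) := by
    intro k hk ξ hξ
    have hpk : (p : ℤ) ^ k ∣ (p : ℤ) ^ n := pow_dvd_pow _ hk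
    rw [← Int.natCast_dvd_natCast, ← Int.natCast_dvd_natCast (n := charDegree (χ₀ : G → ℂ)),
      Nat.cast_pow]
    rcases (hD.mem_iff ξ).1 hξ with h | h
    · have hd := hpk.trans (congr_X hM hB hx hgen hN hD h hχ₀)
      have hc : ∀ (z : IrrCharacter G), z ∈ X → ∀ d : ℤ,
          ((p : ℤ) ^ k ∣ c z * d ↔ (p : ℤ) ^ k ∣ d) := fun z hz d => by
        rcases hD.c_sign z hz with e | e <;> simp [e]
      exact ((hc ξ h _).symm.trans (dvd_iff_dvd_of_dvd_sub hd)).trans (hc χ₀ hχ₀ _)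
    · have hξy : ξ ∈ ys y := mem_ys.2 h
      have hd := hpk.trans (congr_Y hM hB hx hgen hN hD hχ₀ hξy)
      have hd' := dvd_iff_dvd_of_dvd_sub hd
      have hc : (p : ℤ) ^ k ∣ c χ₀ * (charDegree (χ₀ : G → ℂ) : ℤ) ↔
          (p : ℤ) ^ k ∣ (charDegree (χ₀ : G → ℂ) : ℤ) := by
        rcases hD.c_sign χ₀ hχ₀ with e | e <;> simp [e]
      rw [← hc, hd']
      constructor
      · exact fun h1 => dvd_mul_of_dvd_right h1 _
      · intro h1
        have h2 : (p : ℤ) ^ k ∣ ((ys y).card : ℤ) * (charDegree (ξ : G → ℂ) : ℤ) := by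
          rcases hD.ε_sign with e | e <;> simpa [e, mul_assoc] using h1
        refine IsCoprime.dvd_of_dvd_mul_left ?_ h2
        refine IsCoprime.pow_left ?_
        exact Int.isCoprime_iff_gcd_eq_one.2 (by
          rw [Int.gcd_natCast_natCast]; exact (hp.out.coprime_iff_not_dvd.2 hny))
  obtain ⟨η, hη, hη0⟩ := exists_height_zero hM hB
  have hval : ∀ ξ ∈ B, (charDegree (ξ : G → ℂ)).factorization p =
      (charDegree (η : G → ℂ)).factorization p := by
    intro ξ hξ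
    have hle : ∀ z : IrrCharacter G, (charDegree (z : G → ℂ)).factorization p ≤ n :=
      fun z => degree_factorization_le z p
    have key : ∀ ξ' ∈ B, ∀ η' ∈ B, (charDegree (η' : G → ℂ)).factorization p ≤
        (charDegree (ξ' : G → ℂ)).factorization p := fun ξ' hξ' η' hη' => by
      rw [← hp.out.pow_dvd_iff_le_factorization (charDeg_pos _).ne', hiff _ (hle η') ξ' hξ',
        ← hiff _ (hle η') η' hη', hp.out.pow_dvd_iff_le_factorization (charDeg_pos _).ne']
    exact le_antisymm (key η hη ξ hξ) (key ξ hξ η hη)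
  rw [blockHeight] at hη0 ⊢
  rw [hval χ hχ]
  exact hη0

end Cfsg.Agent.Char.CycDef
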