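import Cfsg.Agent.Lib.Char.CyclicRep
import Cfsg.Agent.Lib.Char.RankOneBasic
import Cfsg.Agent.Lib.Char.SectionOrbit
import Cfsg.Agent.Lib.Char.PairCyclicLocal

/-!
Blocks with cyclic defect group and regular rank one are nilpotent: the basic algebra is then
commutative, so there are as many characters as elements of the defect group, and this leaves no
room for a non-trivial inertial quotient.
-/

namespace Cfsg.Agent.Char.Res

open Cfsg.Agent.Block Cfsg.Agent.Char.Spec Cfsg.Agent.Char.BP Cfsg.Agent.Char.Corner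

set_option linter.unusedSectionVars false
set_option linter.style.haveILetI false

universe u

variable {G : Type u} [Group G] [Fintype G] [DecidableEq G] {p : ℕ} {M : Ideal AlgInt}
variable {B : Set (IrrCharacter G)}

/-- The block idempotent modulo `p` is a relative trace from a defect group. -/
theorem exists_preTrace_block [Fact p.Prime] (hM : IsPModular p M) (hB : IsPBlock M B)
    {D : Subgroup G} (hD : IsDefectGroup p M B D) [Fintype (G ⧸ D)] :
    letI := resInst hM
    ∃ a : MonoidAlgebra (ResField hM) G,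
      (∀ d ∈ D, Commute (MonoidAlgebra.single d (1 : ResField hM)) a) ∧
      ∑ t : G ⧸ D, MonoidAlgebra.single t.out (1 : ResField hM) * a *
        MonoidAlgebra.single (t.out)⁻¹ 1 = redA hM (bz B) := by
  classical
  letI := resInst hM
  haveI : CharP (ResField hM) p := resField_charP hM
  have hco : ∀ h, (redA hM (bz B)).coeff h = red hM (blockCoeff B h) := fun h => by
    rw [redA_coeff, bz, algOf_coeff_id]
  refine CycRep.exists_preTrace D _ (fun g h => ?_) (fun h hh => ?_)
  · rw [hco, hco, blockCoeff_classFun B h g]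
  rw [hco] at hh
  have hu : ¬ MemLocalIdeal M (blockCoeff B h) := fun hi =>
    hh ((red_eq_zero hM ((blockCoeff_idem hM hB).1 h)).2 hi)
  obtain ⟨Q⟩ : Nonempty (Sylow p (Subgroup.centralizer ({h} : Set G))) := inferInstance
  obtain ⟨x, hx⟩ := exists_conj_le_of_unit hM hB hD hu Q
  refine ⟨x * h * x⁻¹, isConj_iff.2 ⟨x, rfl⟩, ?_⟩
  rw [Ne, CharP.cast_eq_zero_iff (ResField hM) p]
  set C := Subgroup.centralizer ({x * h * x⁻¹} : Set G)
  have hQC : (csyl Q).map (MulAut.conj x).toMonoidHom ≤ C := by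
    rintro _ ⟨w, hw, rfl⟩
    have h1 := Subgroup.mem_centralizer_singleton_iff.1 (csyl_le Q hw)
    rw [Subgroup.mem_centralizer_singleton_iff]
    show x * w * x⁻¹ * (x * h * x⁻¹) = x * h * x⁻¹ * (x * w * x⁻¹)
    calc _ = x * (w * h) * x⁻¹ := by group
      _ = x * (h * w) * x⁻¹ := by rw [h1]
      _ = _ := by group
  have h2 : Nat.card (csyl Q) ∣ Nat.card (D.subgroupOf C) := by
    rw [← card_map_conj x (csyl Q),
      ← Nat.card_congr (Subgroup.subgroupOfEquivOfLe hQC).toEquiv]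
    exact Subgroup.card_dvd_of_le fun w hw => hx hw
  have h3 : Nat.card C = Nat.card (Subgroup.centralizer ({h} : Set G)) :=
    card_centralizer_conj x h
  obtain ⟨j, hj⟩ := h2
  intro hdvd
  refine Q.not_dvd_index (dvd_trans hdvd ⟨j, ?_⟩)
  have h4 := (D.subgroupOf C).card_mul_index
  rw [h3, ← Subgroup.card_mul_index (Q : Subgroup (Subgroup.centralizer ({h} : Set G))), hj] at h4
  have h5 : Nat.card (Q : Subgroup (Subgroup.centralizer ({h} : Set G))) = Nat.card (csyl Q) :=
    (Nat.card_congr (Subgroup.equivMapOfInjective (Q : Subgroup _)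
      (Subgroup.centralizer ({h} : Set G)).subtype Subtype.val_injective).toEquiv)
  rw [h5] at h4
  refine (Nat.eq_of_mul_eq_mul_left Nat.card_pos (h4.symm.trans ?_))
  rw [Subgroup.relIndex]
  ring

/-- With regular rank one and cyclic defect group there are at least as many characters as elements
of the defect group. -/
theorem card_le_of_cyclic [Fact p.Prime] (hM : IsPModular p M) (hB : IsPBlock M B)
    {D : Subgroup G} (hD : IsDefectGroup p M B D) (hcyc : IsCyclic D) (hl : blockRank p B = 1) :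
    Nat.card D ≤ Nat.card B := by
  classical
  letI := resInst hM
  haveI := resField_isAlgClosed hM
  haveI : CharP (ResField hM) p := resField_charP hM
  haveI : Fintype (G ⧸ D) := Fintype.ofFinite _
  obtain ⟨I⟩ := exists_idemData hM hB hD hl
  obtain ⟨hnt, hloc⟩ := corner_local hM I
  have he := redA_idem hM I.prim.1.1 I.prim.2.1
  haveI : Nontrivial he.Corner := hnt
  obtain ⟨a, ha, hsum⟩ := exists_preTrace_block hM hB hD
  have hcen : ∀ y, redA hM (bz B) * y = y * redA hM (bz B) := by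
    intro y
    obtain ⟨z, hz, rfl⟩ := redA_surjective hM y
    rw [← redA_mul hM (bz_ring hM hB) hz, ← redA_mul hM hz (bz_ring hM hB), (bz_comm B z).eq]
  have hei : redA hM (bz B) * redA hM I.i = redA hM I.i := by
    rw [← redA_mul hM (bz_ring hM hB) I.prim.1.1, I.inBlock]
  obtain ⟨w, hw⟩ := hcyc.exists_generator
  have hDz : D = Subgroup.zpowers (w : G) := by
    refine le_antisymm (fun d hd => ?_) (Subgroup.zpowers_le.2 w.2)
    obtain ⟨k, hk⟩ := Subgroup.mem_zpowers_iff.1 (hw ⟨d, hd⟩)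
    exact Subgroup.mem_zpowers_iff.2 ⟨k, congrArg Subtype.val hk⟩
  obtain ⟨m, hm⟩ := (IsDefectGroup.isPGroup hD) w
  have hcomm := CycRep.comm_of_relProj (he := he) (p := p) hloc hcen hei hDz
    (m := m) (congrArg Subtype.val hm) ha hsum
  have hq := finrank_quot_le hM hB I
  rw [LocAlg.finrank_eq_of_comm hcomm] at hq
  refine le_trans ?_ hq
  set A := Finset.univ.filter (· ∈ B) with hA
  have hsum' : ∑ χ ∈ A, I.d χ ^ 2 = p ^ blockDefect p B := by
    rw [← I.sum_sq, finsum_mem_eq_sum_of_inter_support_eq _ (t := A) (by ext; simp [hA])]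
  have hdim : (Module.finrank (ResField hM) he.Corner : ℤ) =
      ((∑ χ ∈ A, I.d χ ^ 2 : ℕ) : ℤ) * I.n ^ 2 := by
    have := finrank_corner hM I
    exact_mod_cast this
  have hn1 : 1 ≤ I.n ^ 2 := by
    have hn0 : I.n ≠ 0 := fun h => I.unit (h ▸ dvd_zero _)
    have : 0 < I.n ^ 2 := by positivity
    omega
  have h1 : ((Nat.card D : ℕ) : ℤ) ≤ Module.finrank (ResField hM) he.Corner := by
    rw [hdim, hsum', card_defectGroup hM hB hD]
    exact le_mul_of_one_le_right (Int.natCast_nonneg _) hn1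
  exact_mod_cast h1

end Cfsg.Agent.Char.Res

namespace Cfsg.Agent.Char.Spec

open scoped ComplexConjugate
open Cfsg.Agent.Block Cfsg.Agent.Char.BP

set_option linter.unusedSectionVars false
set_option linter.style.haveILetI false

universe u

variable {G : Type u} [Group G] [Fintype G] {p : ℕ} {M : Ideal AlgInt}
variable {B : Set (IrrCharacter G)} {P : Subgroup G} {e : Set (IrrCharacter (CG P))}

/-- A free non-trivial inertial action leaves at most half as many sections as non-trivial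
elements. -/
theorem two_mul_card_le_of_free [Fact p.Prime] (hM : IsPModular p M) (hB : IsPBlock M B)
    (hx : IsMx p M B (⟨P, e⟩ : BrauerPairIdx G)) (hab : ∀ v ∈ P, ∀ w ∈ P, v * w = w * v)
    (hfree : ∀ g ∈ stab (⟨P, e⟩ : BrauerPairIdx G), ∀ v ∈ P, v ≠ 1 → g * v * g⁻¹ = v → g ∈ CG P)
    {t : G} (ht : t ∈ stab (⟨P, e⟩ : BrauerPairIdx G)) (htC : t ∉ CG P) :
    2 * Nat.card B + 1 ≤ 2 * blockRank p B + Nat.card P := by
  classical
  set x : BrauerPairIdx G := ⟨P, e⟩ with hxdef
  have hxp : IsPr p M x := hx.1.1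
  set S := Finset.univ.filter (fun g : G => ∃ k : ℕ, orderOf g = p ^ k)
  let rep : G → G := fun g => (ConjClasses.mk g).out
  have hrep : ∀ g, IsConj g (rep g) := fun g =>
    ConjClasses.mk_eq_mk_iff_isConj.1 (Quotient.out_eq (ConjClasses.mk g)).symm
  have hpow : ∀ {g g' : G}, IsConj g g' → orderOf g = orderOf g' := fun {g g'} h => by
    obtain ⟨t, rfl⟩ := isConj_iff.1 h
    exact (MulEquiv.orderOf_eq (MulAut.conj t) g).symm
  have hrepC : ∀ {g g' : G}, IsConj g g' → rep g = rep g' := fun h => by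
    simp only [rep, ConjClasses.mk_eq_mk_iff_isConj.2 h]
  set X := S.image rep with hX
  have hXp : ∀ v ∈ X, ∃ k : ℕ, orderOf v = p ^ k := by
    intro v hv
    obtain ⟨g, hg, rfl⟩ := Finset.mem_image.1 hv
    rw [← hpow (hrep g)]
    exact (Finset.mem_filter.1 hg).2
  have hXrep : ∀ g : G, (∃ k : ℕ, orderOf g = p ^ k) → ∃! v, v ∈ X ∧ IsConj g v := by
    intro g hg
    refine ⟨rep g, ⟨Finset.mem_image.2 ⟨g, Finset.mem_filter.2 ⟨Finset.mem_univ g, hg⟩, rfl⟩,
      hrep g⟩, ?_⟩
    rintro v ⟨hv, hgv⟩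
    obtain ⟨g', -, rfl⟩ := Finset.mem_image.1 hv
    exact ((hrepC (hgv.trans (hrep g').symm))).symm
  have hrone : rep 1 = 1 := by
    have := hrep 1
    exact (isConj_one_right.1 this).symm ▸ rfl
  have h1X : (1 : G) ∈ X := Finset.mem_image.2
    ⟨1, Finset.mem_filter.2 ⟨Finset.mem_univ 1, 0, by simp⟩, hrone⟩
  rw [card_eq_sum_ranks hM hB X hXp hXrep,
    Finset.sum_congr rfl fun v hv => sum_rank_pairsAt hM hB (hXp v hv) (cg_zpowers v).symm,
    ← Finset.add_sum_erase X _ h1X]
  -- every pair of the block at an element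
  have key : ∀ v, ∀ a ∈ pairsAt p M B v, ∃ g : G, g * v * g⁻¹ ∈ P ∧ LE p M (cjI g a) x := by
    intro v a ha
    obtain ⟨ha1, haB⟩ := mem_pairsAt.1 ha
    obtain ⟨y, hay, hy⟩ := exists_max_above hM haB
    obtain ⟨g, hg⟩ := max_conj hM hy hx
    refine ⟨g, ?_, hg ▸ le_cjI hM g hay⟩
    have hle := le_subgroup (le_cjI hM g hay)
    rw [← hg] at hle
    refine hle ?_
    show g * v * g⁻¹ ∈ a.1.map (MulAut.conj g).toMonoidHom
    rw [ha1]
    exact ⟨v, Subgroup.mem_zpowers v, rfl⟩
  have hbot : ∀ a ∈ pairsAt p M B 1, ∀ a' ∈ pairsAt p M B 1, a = a' := by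
    intro a ha a' ha'
    obtain ⟨ha1, haB⟩ := mem_pairsAt.1 ha
    obtain ⟨ha1', haB'⟩ := mem_pairsAt.1 ha'
    have hb : Subgroup.zpowers (1 : G) = ⊥ := Subgroup.zpowers_one_eq_bot
    exact le_unique hM (eq_bot_pair hM hx (ha1.trans hb) haB) (eq_bot_pair hM hx (ha1'.trans hb) haB')
      (ha1.trans ha1'.symm)
  have hone : ∀ v ∈ X.erase 1, ∀ a ∈ pairsAt p M B v, blockRank p a.2 = 1 := by
    intro v hv a ha
    obtain ⟨hv1, hvX⟩ := Finset.mem_erase.1 hv
    obtain ⟨g, hg, hga⟩ := key v a ha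
    obtain ⟨ha1, haB⟩ := mem_pairsAt.1 ha
    set y := cjI g⁻¹ x with hy
    have hym : IsMx p M B y := isMx_cjI hM hx g⁻¹
    have hay : LE p M a y := by
      have h := le_cjI hM g⁻¹ hga
      rwa [cjI_inv_cancel] at h
    have haby : ∀ v ∈ y.1, ∀ w ∈ y.1, v * w = w * v := by
      rintro _ ⟨v, hv', rfl⟩ _ ⟨w, hw', rfl⟩
      rw [← map_mul, ← map_mul, hab v hv' w hw']
    have hleP := le_subgroup hay
    obtain ⟨r, hr, hst, hry⟩ := step_below hM hym.1.1 hay hleP le_rfl
      ((le_cg_of_comm haby hleP).trans (cg_le_normalizer a.1))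
    obtain rfl : r = y := eq_of_le_of_subgroup hM hry hr.ge
    refine (rank_of_nilpotent hM ((nilpotent_local_iff hM (e := (cjI g⁻¹ x).2) hym haby hst).2 ?_)).1
    rintro t ⟨ht, htc⟩
    have hmem : g * t * g⁻¹ ∈ stab x := by
      refine mem_stab_of_cjI ?_ ?_
      · refine Subgroup.mem_normalizer_iff.2 fun w => ?_
        have hn := Subgroup.mem_normalizer_iff.1 (stab_le_normalizer _ ht) (g⁻¹ * w * g)
        have e1 : ∀ z, z ∈ (cjI g⁻¹ x).1 ↔ g * z * g⁻¹ ∈ P := fun z => by
          show z ∈ P.map (MulAut.conj g⁻¹).toMonoidHom ↔ _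
          rw [mem_map_conj, inv_inv]
        rw [e1, e1] at hn
        simpa [mul_assoc] using hn
      · rw [← cjI_cjI, ← cjI_cjI, cjI_eq_of_stab ht, cjI_cancel_inv]
    have hfix : (g * t * g⁻¹) * (g * v * g⁻¹) * (g * t * g⁻¹)⁻¹ = g * v * g⁻¹ := by
      have := Subgroup.mem_centralizer_iff.1 htc v (by rw [ha1]; exact Subgroup.mem_zpowers v)
      calc _ = g * (t * v * t⁻¹) * g⁻¹ := by group
        _ = _ := by rw [← this]; group
    have hC := hfree _ hmem _ hg (by simpa using hv1) hfix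
    refine Subgroup.mem_centralizer_iff.2 fun w hw => ?_
    obtain ⟨w', hw', rfl⟩ := hw
    have h := Subgroup.mem_centralizer_iff.1 hC w' hw'
    simp only [MulEquiv.coe_toMonoidHom, MulAut.conj_apply, inv_inv]
    calc g⁻¹ * w' * g * t = g⁻¹ * (w' * (g * t * g⁻¹)) * g := by group
      _ = g⁻¹ * ((g * t * g⁻¹) * w') * g := by rw [h]
      _ = _ := by group
  set S' := (X.erase 1).sigma fun v => pairsAt p M B v
  have h1le : ∑ a ∈ pairsAt p M B 1, blockRank p a.2 ≤ blockRank p B := by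
    refine (Finset.sum_le_card_nsmul _ _ (blockRank p B) fun a ha => le_of_eq ?_).trans ?_
    · obtain ⟨ha1, haB⟩ := mem_pairsAt.1 ha
      exact rank_bot_pair hM hx hB ha1 haB
    · exact le_of_le_of_eq (Nat.mul_le_mul_right _ (Finset.card_le_one.2 hbot)) (one_mul _)
  have hS : ∑ v ∈ X.erase 1, ∑ a ∈ pairsAt p M B v, blockRank p a.2 = S'.card := by
    rw [Finset.card_sigma]
    refine Finset.sum_congr rfl fun v hv => ?_
    rw [Finset.sum_congr rfl (hone v hv), Finset.card_eq_sum_ones]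
  suffices h2 : 2 * S'.card + 1 ≤ Nat.card P by
    rw [hS]
    omega
  choose! γ hγP hγle using key
  set Pf := (Finset.univ.filter (· ∈ P)).erase (1 : G) with hPf
  have hPc : Pf.card + 1 = Nat.card P := by
    rw [hPf, Finset.card_erase_add_one (by simp), Nat.card_eq_fintype_card, Fintype.card_subtype]
  let q : (Σ _ : G, BrauerPairIdx G) → G := fun z => γ z.1 z.2 * z.1 * (γ z.1 z.2)⁻¹
  let f : (Σ _ : G, BrauerPairIdx G) × Bool → G := fun z =>
    if z.2 then t * q z.1 * t⁻¹ else q z.1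
  have hle := Finset.card_le_card_of_injOn (s := S' ×ˢ (Finset.univ : Finset Bool)) (t := Pf) f
    ?_ ?_
  · rw [Finset.card_product, Finset.card_univ, Fintype.card_bool] at hle
    omega
  · rintro ⟨⟨v, a⟩, b⟩ hz
    obtain ⟨hv, ha⟩ := Finset.mem_sigma.1 (Finset.mem_product.1 hz).1
    obtain ⟨hv1, -⟩ := Finset.mem_erase.1 hv
    have hq : q ⟨v, a⟩ ∈ P := hγP v a ha
    refine Finset.mem_erase.2 ⟨?_, Finset.mem_filter.2 ⟨Finset.mem_univ _, ?_⟩⟩
    · cases b <;> simp [f, q, hv1]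
    · cases b
      · simpa [f] using hq
      · simpa [f] using (Subgroup.mem_normalizer_iff.1 (stab_le_normalizer _ ht) _).1 hq
  rintro ⟨⟨v, a⟩, b⟩ hz ⟨⟨v', a'⟩, b'⟩ hz' he
  obtain ⟨hv, ha⟩ := Finset.mem_sigma.1 (Finset.mem_product.1 hz).1
  obtain ⟨hv', ha'⟩ := Finset.mem_sigma.1 (Finset.mem_product.1 hz').1
  obtain ⟨hv1, hvX⟩ := Finset.mem_erase.1 hv
  obtain ⟨-, hvX'⟩ := Finset.mem_erase.1 hv'
  let c : Bool → G := fun b => if b then t else 1
  have hcs : ∀ b, c b ∈ stab x := fun b => by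
    cases b
    · exact one_mem _
    · exact ht
  have hfc : ∀ z b, f (z, b) = c b * q z * (c b)⁻¹ := fun z b => by cases b <;> simp [f, c]
  rw [hfc, hfc] at he
  set s := (c b')⁻¹ * c b with hs'
  have hs : s ∈ stab x := mul_mem (inv_mem (hcs b')) (hcs b)
  have hsv : s * q ⟨v, a⟩ * s⁻¹ = q ⟨v', a'⟩ := by
    calc _ = (c b')⁻¹ * (c b * q ⟨v, a⟩ * (c b)⁻¹) * c b' := by rw [hs']; group
      _ = _ := by rw [he]; group
  obtain rfl : v = v' := by
    have hc : IsConj v v' := ((isConj_iff.2 ⟨_, rfl⟩).trans (isConj_iff.2 ⟨s, hsv⟩)).trans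
      (isConj_iff.2 ⟨_, rfl⟩).symm
    exact (hXrep v (hXp v hvX)).unique ⟨hvX, IsConj.refl v⟩ ⟨hvX', hc⟩
  set g := γ v a with hg'
  set g' := γ v a'
  obtain ⟨ha1, -⟩ := mem_pairsAt.1 ha
  obtain ⟨ha1', -⟩ := mem_pairsAt.1 ha'
  have hle' : LE p M (cjI (s * g) a) x := by
    have h := le_cjI hM s (hγle v a ha)
    rwa [cjI_eq_of_stab hs, cjI_cjI] at h
  have h1 : (cjI (s * g) a).1 = (cjI g' a').1 := by
    show a.1.map _ = a'.1.map _
    rw [ha1, ha1', MonoidHom.map_zpowers, MonoidHom.map_zpowers]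
    show Subgroup.zpowers (s * g * v * (s * g)⁻¹) = Subgroup.zpowers (g' * v * g'⁻¹)
    rw [show g' * v * g'⁻¹ = s * (g * v * g⁻¹) * s⁻¹ from hsv.symm]
    congr 1
    group
  have h2 := le_unique hM hle' (hγle v a' ha') h1
  have h3 : a' = cjI (g'⁻¹ * (s * g)) a := by rw [← cjI_cjI, h2, cjI_inv_cancel]
  obtain rfl : a' = a := by
    rw [h3, cjI_of_mem_cg]
    rw [ha1, cg_zpowers, Subgroup.mem_centralizer_singleton_iff]
    calc g'⁻¹ * (s * g) * v = g'⁻¹ * (s * (g * v * g⁻¹) * s⁻¹) * (s * g) := by group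
      _ = g'⁻¹ * (g' * v * g'⁻¹) * (s * g) := by rw [show _ = _ from hsv]
      _ = v * (g'⁻¹ * (s * g)) := by group
  have hbb : b = b' := by
    by_contra hne
    refine htC (hfree t ht _ (hγP v a' ha) (by simpa using hv1) ?_)
    cases b <;> cases b' <;> simp [c] at he hne ⊢
    · exact he.symm
    · exact he
  rw [hbb]

/-- A block with cyclic defect group and regular rank one is nilpotent. -/
theorem nilpotent_of_cyclic_rank_one [DecidableEq G] [Fact p.Prime] (hM : IsPModular p M)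
    (hB : IsPBlock M B) {D : Subgroup G} (hD : IsDefectGroup p M B D) (hcyc : IsCyclic D)
    (hl : blockRank p B = 1) : IsNilpotentBlock p M B := by
  have hab := comm_of_cyclic hcyc
  obtain ⟨χ, hχ, h0⟩ := exists_height_zero hM hB
  obtain ⟨i, e, -, hmx, -, -⟩ := exists_source hM hB hχ h0 hD
  refine (nilpotent_iff_inertial hM hmx hab).2 ?_
  by_contra hn
  obtain ⟨t, ht, htC⟩ := SetLike.not_le_iff_exists.1 hn
  have h1 := two_mul_card_le_of_free hM hB hmx hab (free_of_cyclic hM hmx hcyc) ht htC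
  have h2 := Res.card_le_of_cyclic hM hB hD hcyc hl
  have h3 : 1 < Nat.card D := by
    by_contra h
    have hD1 : D = ⊥ := Subgroup.card_eq_one.1 (le_antisymm (not_lt.1 h) Nat.card_pos)
    refine htC (Subgroup.mem_centralizer_iff.2 fun v hv => ?_)
    rw [SetLike.mem_coe, hD1, Subgroup.mem_bot] at hv
    simp [hv]
  omega

end Cfsg.Agent.Char.Spec
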