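import Cfsg.Agent.Lib.Char.CycGreenLift
import Cfsg.Agent.Lib.Char.CyclicRank

/-!
A block of regular rank one with cyclic defect group has a full idempotent whose corner is
generated by one nilpotent element.
-/

namespace Cfsg.Agent.Char.LocAlg

set_option linter.unusedSectionVars false

variable {K : Type*} [Field K] {A : Type*} [Ring A] [Algebra K A] [FiniteDimensional K A]

/-- A generator of the radical modulo its square generates the algebra. -/
theorem mem_adjoin_of_le_span (hA : IsScalarLocal K A) {x : A} (hx : x ∈ rad hA)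
    (h : rad hA ≤ Submodule.span K {x} ⊔ rad hA ^ 2) (y : A) :
    y ∈ Algebra.adjoin K {x} := by
  have hpw : ∀ j : ℕ, Submodule.span K {x ^ j} ≤ rad hA ^ j := fun j =>
    (Submodule.span_singleton_le_iff_mem _ _).2 (Submodule.pow_mem_pow _ hx j)
  have hstep : ∀ j : ℕ, rad hA ^ (j + 1) ≤
      Submodule.span K {x ^ (j + 1)} ⊔ rad hA ^ (j + 2) := by
    intro j
    induction j with
    | zero => simpa using h
    | succ j ih =>
      rw [pow_succ (rad hA) (j + 1)]
      refine (mul_le_mul' ih h).trans ?_
      rw [Submodule.sup_mul]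
      refine sup_le ?_ ?_
      · rw [Submodule.mul_sup]
        refine sup_le ?_ ?_
        · rw [Submodule.span_mul_span, Set.singleton_mul_singleton, ← pow_succ]
          exact le_sup_left
        · refine le_trans ?_ le_sup_right
          calc Submodule.span K {x ^ (j + 1)} * rad hA ^ 2 ≤ rad hA ^ (j + 1) * rad hA ^ 2 :=
                mul_le_mul' (hpw _) le_rfl
            _ = rad hA ^ (j + 1 + 2) := (pow_add _ _ _).symm
      · refine le_trans ?_ le_sup_right
        rw [show j + 1 + 2 = j + 2 + 1 from rfl, pow_succ (rad hA) (j + 2)]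
        exact mul_le_mul' le_rfl (sup_le ((Submodule.span_singleton_le_iff_mem _ _).2 hx)
          ((rad_pow_anti one_pos one_le_two).trans (pow_one _).le))
  obtain ⟨n, hn, hn0⟩ := exists_rad_pow_eq_bot hA
  have hsub : ∀ i j : ℕ, n ≤ i + j + 1 → rad hA ^ (j + 1) ≤ (Algebra.adjoin K {x}).toSubmodule := by
    intro i
    induction i with
    | zero =>
      intro j hj
      exact (rad_pow_anti hn (by omega)).trans (hn0.le.trans bot_le)
    | succ i ih =>
      intro j hj
      refine (hstep j).trans (sup_le ((Submodule.span_singleton_le_iff_mem _ _).2 ?_)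
        (ih (j + 1) (by omega)))
      exact pow_mem (Algebra.subset_adjoin (R := K) (Set.mem_singleton x)) _
  have hall : ∀ y : A, y ∈ Algebra.adjoin K {x} := fun y => by
    obtain ⟨c, hc⟩ := hA y
    rw [← sub_add_cancel y (algebraMap K A c)]
    exact add_mem (hsub n 0 (by omega) (by rw [zero_add, pow_one]; exact hc)) (Subalgebra.algebraMap_mem _ c)
  exact hall y

theorem exists_generator [Nontrivial A] (hA : IsScalarLocal K A)
    (h : Module.finrank K (rad hA) ≤ Module.finrank K (rad hA ^ 2 : Submodule K A) + 1) :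
    ∃ x : A, IsNilpotent x ∧ ∀ y : A, y ∈ Submodule.span K (Set.range fun n : ℕ => x ^ n) := by
  classical
  have hgen : ∀ {x : A}, x ∈ rad hA → rad hA ≤ Submodule.span K {x} ⊔ rad hA ^ 2 →
      ∀ y : A, y ∈ Submodule.span K (Set.range fun n : ℕ => x ^ n) := by
    intro x hx hle y
    have h1 := mem_adjoin_of_le_span hA hx hle y
    rw [← Subalgebra.mem_toSubmodule, Algebra.adjoin_eq_span] at h1
    refine Submodule.span_mono ?_ h1
    intro z hz
    obtain ⟨n, hn⟩ := Submonoid.mem_closure_singleton.1 hz
    exact ⟨n, hn⟩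
  by_cases h' : rad hA ≤ rad hA ^ 2
  · exact ⟨0, IsNilpotent.zero, hgen (rad hA).zero_mem (h'.trans le_sup_right)⟩
  obtain ⟨x, hx, hxn⟩ := SetLike.not_le_iff_exists.1 h'
  refine ⟨x, hx, hgen hx (le_of_eq (Submodule.eq_of_le_of_finrank_le ?_ ?_).symm)⟩
  · exact sup_le ((Submodule.span_singleton_le_iff_mem _ _).2 hx)
      ((rad_pow_anti one_pos one_le_two).trans (pow_one _).le)
  · have h3 : rad hA ^ 2 < Submodule.span K {x} ⊔ rad hA ^ 2 :=
      right_lt_sup.2 fun hle => hxn (hle (Submodule.mem_span_singleton_self x))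
    have h4 := Submodule.finrank_lt_finrank_of_lt h3
    omega

end Cfsg.Agent.Char.LocAlg

namespace Cfsg.Agent.Char.CycGreen

open Cfsg Cfsg.Agent.Block Cfsg.Agent.Char.Res Cfsg.Agent.Char.Spec Cfsg.Agent.Char.Corner

set_option linter.unusedSectionVars false
set_option linter.style.haveILetI false

universe u

variable {G : Type u} [Group G] [Fintype G] [DecidableEq G] {p : ℕ} [Fact p.Prime]
  {M : Ideal AlgInt} {B : Set (IrrCharacter G)}

theorem redA_bz_comm (hM : IsPModular p M) (hB : IsPBlock M B) :
    letI := resInst hM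
    ∀ y : MonoidAlgebra (ResField hM) G, redA hM (bz B) * y = y * redA hM (bz B) := by
  letI := resInst hM
  intro y
  obtain ⟨z, hz, rfl⟩ := redA_surjective hM y
  rw [← redA_mul hM (bz_ring hM hB) hz, ← redA_mul hM hz (bz_ring hM hB), (bz_comm B z).eq]

theorem redA_bz_idem (hM : IsPModular p M) (hB : IsPBlock M B) :
    letI := resInst hM
    redA hM (bz B) * redA hM (bz B) = redA hM (bz B) := by
  rw [← redA_mul hM (bz_ring hM hB) (bz_ring hM hB), bz_idem hM hB]

/-- The data of the corner. -/
theorem exists_uniData (hM : IsPModular p M) (hB : IsPBlock M B) {D : Subgroup G}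
    (hD : IsDefectGroup p M B D) (hcyc : IsCyclic D) (hl : blockRank p B = 1) :
    letI := resInst hM
    ∃ H : UniData (ResField hM) (MonoidAlgebra (ResField hM) G), H.e = redA hM (bz B) := by
  classical
  letI := resInst hM
  haveI := resField_isAlgClosed hM
  haveI : CharP (ResField hM) p := resField_charP hM
  haveI : Fintype (G ⧸ D) := Fintype.ofFinite _
  haveI : Module.Finite (ResField hM) (MonoidAlgebra (ResField hM) G) :=
    Module.Finite.equiv (MonoidAlgebra.coeffLinearEquiv (ResField hM)).symm
  obtain ⟨I⟩ := exists_idemData hM hB hD hl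
  obtain ⟨hnt, hloc⟩ := corner_local hM I
  have he := redA_idem hM I.prim.1.1 I.prim.2.1
  haveI : Nontrivial he.Corner := hnt
  obtain ⟨a, ha, hsum⟩ := exists_preTrace_block hM hB hD
  have hcen := redA_bz_comm hM hB
  have hei : redA hM (bz B) * redA hM I.i = redA hM I.i := by
    rw [← redA_mul hM (bz_ring hM hB) I.prim.1.1, I.inBlock]
  obtain ⟨w, hw⟩ := hcyc.exists_generator
  have hDz : D = Subgroup.zpowers (w : G) := by
    refine le_antisymm (fun d hd => ?_) (Subgroup.zpowers_le.2 w.2)
    obtain ⟨k, hk⟩ := Subgroup.mem_zpowers_iff.1 (hw ⟨d, hd⟩)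
    exact Subgroup.mem_zpowers_iff.2 ⟨k, congrArg Subtype.val hk⟩
  obtain ⟨m, hm⟩ := (IsDefectGroup.isPGroup hD) w
  obtain ⟨x, ⟨N, hN⟩, hx⟩ := LocAlg.exists_generator hloc (CycRep.finrank_rad_le_of_relProj
    (he := he) (p := p) hloc hcen hei hDz (m := m) (congrArg Subtype.val hm) ha hsum)
  obtain ⟨m', l, r, hfull⟩ := exists_full hM hB I
  have hpow : ∀ n : ℕ, (x ^ n).1 = x.1 ^ n * redA hM I.i := by
    intro n
    induction n with
    | zero => rw [pow_zero, pow_zero, one_mul]; rfl
    | succ n ih =>
      rw [pow_succ]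
      show (x ^ n).1 * x.1 = _
      rw [ih, mul_assoc, (val_mem he x).1, pow_succ, mul_assoc, (val_mem he x).2]
  refine ⟨{
    e := redA hM (bz B), i := redA hM I.i, x := x.1, N := N, cen := hcen, idem := he.eq,
    ne := fun h => ?_, ei := hei, ix := (val_mem he x).1, xi := (val_mem he x).2,
    nil := by rw [← hpow, hN]; rfl, loc := fun b => ?_, m := m', l := l, r := r,
    full := hfull }, rfl⟩
  · exact zero_ne_one (α := he.Corner) (Subtype.ext h.symm)
  · have h2 := Submodule.apply_mem_span_image_of_mem_span (incl (K := ResField hM) he)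
      (hx (proj (K := ResField hM) he b))
    rw [incl_apply, proj_val] at h2
    refine Submodule.span_mono ?_ h2
    rintro _ ⟨_, ⟨n, rfl⟩, rfl⟩
    exact ⟨n, (hpow n).symm⟩

end Cfsg.Agent.Char.CycGreen
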