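import Mathlib.Algebra.Algebra.Equiv
import Mathlib.Algebra.BigOperators.Ring.Finset
import Mathlib.LinearAlgebra.Eigenspace.Triangularizable
import Mathlib.LinearAlgebra.Basis.VectorSpace
import Mathlib.RingTheory.Nilpotent.Basic
import Mathlib.Tactic.NoncommRing

/-!
An algebra whose corner at a full idempotent is generated by one nilpotent element: endomorphisms of
modules with prescribed effect on two semisimple submodules, and the invariance of the socle layers
under automorphisms.
-/

namespace Cfsg.Agent.Char.CycGreen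

variable {k : Type*} [Field k] {A : Type*} [Ring A] [Algebra k A]

/-- A full idempotent `i` of the summand cut out by `e`, with corner generated by the nilpotent
element `x`. -/
structure UniData (k : Type*) [Field k] (A : Type*) [Ring A] [Algebra k A] where
  e : A
  i : A
  x : A
  N : ℕ
  cen : ∀ a, e * a = a * e
  idem : i * i = i
  ne : i ≠ 0
  ei : e * i = i
  ix : i * x = x
  xi : x * i = x
  nil : x ^ N * i = 0
  loc : ∀ a, i * a * i ∈ Submodule.span k (Set.range fun n : ℕ => x ^ n * i)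
  m : ℕ
  l : Fin m → A
  r : Fin m → A
  full : ∑ j, l j * i * r j = e

namespace UniData

variable (H : UniData k A)

theorem x_comm (a : A) : H.x * (H.i * a * H.i) = H.i * a * H.i * H.x := by
  have hi : ∀ n : ℕ, H.x * (H.x ^ n * H.i) = H.x ^ n * H.i * H.x := fun n => by
    rw [mul_assoc, H.ix, ← mul_assoc, (Commute.self_pow H.x n).eq, mul_assoc, H.xi]
  have key : ∀ w ∈ Submodule.span k (Set.range fun n : ℕ => H.x ^ n * H.i),
      H.x * w = w * H.x := by
    intro w hw
    induction hw using Submodule.span_induction with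
    | mem z hz => obtain ⟨n, rfl⟩ := hz; exact hi n
    | zero => simp
    | add y z _ _ hy hz => rw [mul_add, add_mul, hy, hz]
    | smul c z _ hz => rw [mul_smul_comm, smul_mul_assoc, hz]
  exact key _ (H.loc a)

theorem xpow_comm (n : ℕ) (a : A) :
    H.x ^ n * (H.i * a * H.i) = H.i * a * H.i * H.x ^ n :=
  (Commute.pow_left (H.x_comm a) n).eq

theorem i_xpow (n : ℕ) : H.i * (H.x ^ n * H.i) = H.x ^ n * H.i := by
  have h := H.xpow_comm n 1
  rw [mul_one, H.idem] at h
  rw [← mul_assoc, ← h, mul_assoc, H.idem]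

/-- The span of the products through the power `n` of the generator. -/
def two (n : ℕ) : Submodule k A :=
  Submodule.span k {z | ∃ a b : A, z = a * (H.x ^ n * H.i) * b}

theorem mem_two (n : ℕ) (a b : A) : a * (H.x ^ n * H.i) * b ∈ H.two n :=
  Submodule.subset_span ⟨a, b, rfl⟩

theorem two_N {z : A} (hz : z ∈ H.two H.N) : z = 0 := by
  induction hz using Submodule.span_induction with
  | mem z hz => obtain ⟨a, b, rfl⟩ := hz; rw [H.nil, mul_zero, zero_mul]
  | zero => rfl
  | add y z _ _ hy hz => rw [hy, hz, add_zero]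
  | smul c z _ hz => rw [hz, smul_zero]

theorem two_mul {n n' : ℕ} {y z : A} (hy : y ∈ H.two n) (hz : z ∈ H.two n') :
    y * z ∈ H.two (n + n') := by
  induction hy using Submodule.span_induction with
  | zero => rw [zero_mul]; exact zero_mem _
  | add y y' _ _ h h' => rw [add_mul]; exact add_mem h h'
  | smul c y _ h => rw [smul_mul_assoc]; exact Submodule.smul_mem _ c h
  | mem y hy =>
    obtain ⟨a, b, rfl⟩ := hy
    induction hz using Submodule.span_induction with
    | zero => rw [mul_zero]; exact zero_mem _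
    | add z z' _ _ h h' => rw [mul_add]; exact add_mem h h'
    | smul c z _ h => rw [mul_smul_comm]; exact Submodule.smul_mem _ c h
    | mem z hz =>
      obtain ⟨a', b', rfl⟩ := hz
      have h1 : a * (H.x ^ n * H.i) * b * (a' * (H.x ^ n' * H.i) * b') =
          a * (H.x ^ n * (H.i * (b * a') * H.i) * (H.x ^ n' * H.i)) * b' := by
        conv_lhs => rw [← H.i_xpow n']
        noncomm_ring
      rw [h1]
      have h2 : H.x ^ n * (H.i * (b * a') * H.i) * (H.x ^ n' * H.i) =
          H.x ^ (n + n') * H.i * (b * a' * H.i) := by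
        rw [mul_assoc (H.x ^ n), ← mul_assoc (H.i * (b * a') * H.i) (H.x ^ n') H.i, ← H.xpow_comm,
          mul_assoc (H.x ^ n') _ H.i, mul_assoc (H.i * (b * a')) H.i H.i, H.idem, ← mul_assoc,
          ← pow_add]
        noncomm_ring
      rw [h2, ← mul_assoc, mul_assoc _ (b * a' * H.i) b']
      exact H.mem_two _ _ _

theorem two_sandwich {n : ℕ} {z : A} (hz : z ∈ H.two n) (a b : A) : a * z * b ∈ H.two n := by
  induction hz using Submodule.span_induction with
  | mem z hz =>
    obtain ⟨a', b', rfl⟩ := hz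
    rw [show a * (a' * (H.x ^ n * H.i) * b') * b = a * a' * (H.x ^ n * H.i) * (b' * b) by
      noncomm_ring]
    exact H.mem_two _ _ _
  | zero => simp
  | add y z _ _ hy hz => rw [mul_add, add_mul]; exact add_mem hy hz
  | smul c z _ hz => rw [mul_smul_comm, smul_mul_assoc]; exact Submodule.smul_mem _ c hz

theorem x_mem_two : H.x ∈ H.two 1 := by
  have := H.mem_two 1 1 1
  rwa [pow_one, one_mul, mul_one, H.xi] at this

theorem two_succ_le (n : ℕ) : H.two (n + 1) ≤ H.two n := by
  refine Submodule.span_le.2 ?_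
  rintro _ ⟨a, b, rfl⟩
  have h : a * (H.x ^ (n + 1) * H.i) * b = a * (H.x ^ n * H.i) * (H.x * b) := by
    have e : H.x ^ (n + 1) * H.i = H.x ^ n * H.i * H.x := by
      rw [pow_succ, mul_assoc, H.xi, mul_assoc, H.ix]
    rw [e]; noncomm_ring
  rw [h]
  exact H.mem_two _ _ _

theorem e_two {n : ℕ} {z : A} (hz : z ∈ H.two n) : H.e * z * H.e = z := by
  induction hz using Submodule.span_induction with
  | mem z hz =>
    obtain ⟨a, b, rfl⟩ := hz
    have h1 : H.e * (a * (H.x ^ n * H.i) * b) = a * (H.x ^ n * H.i) * b := by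
      conv_lhs => rw [← H.i_xpow n]
      conv_rhs => rw [← H.i_xpow n]
      rw [← mul_assoc, ← mul_assoc, H.cen a, mul_assoc a H.e, ← mul_assoc H.e, H.ei]
    rw [h1, ← H.cen, h1]
  | zero => simp
  | add y z _ _ hy hz => rw [mul_add, add_mul, hy, hz]
  | smul c z _ hz => rw [mul_smul_comm, smul_mul_assoc, hz]

/-- An automorphism fixing `e` preserves each of the layers. -/
theorem map_two (c : A ≃ₐ[k] A) (hc : c H.e = H.e) {n : ℕ} {z : A} (hz : z ∈ H.two n) :
    c z ∈ H.two n := by
  have hexp : ∀ w, H.e * w * H.e = w →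
      w = ∑ j, ∑ q, H.l j * (H.i * (H.r j * w * H.l q) * H.i) * H.r q := by
    intro w hw
    conv_lhs => rw [← hw, ← H.full]
    rw [Finset.sum_mul, Finset.sum_mul]
    refine Finset.sum_congr rfl fun j _ => ?_
    rw [Finset.mul_sum]
    exact Finset.sum_congr rfl fun q _ => by noncomm_ring
  have h0 : ∀ w, H.e * w * H.e = w → w ∈ H.two 0 := fun w hw => by
    rw [hexp w hw]
    refine Submodule.sum_mem _ fun j _ => Submodule.sum_mem _ fun q _ => ?_
    have := H.mem_two 0 (H.l j * (H.i * (H.r j * w * H.l q))) (H.r q)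
    simpa [mul_assoc] using this
  have hfix : ∀ {m : ℕ} {w : A}, w ∈ H.two m → H.e * c w * H.e = c w := fun hw => by
    conv_rhs => rw [← H.e_two hw, map_mul, map_mul, hc]
  have h1 : c H.x ∈ H.two 1 := by
    rw [hexp _ (hfix H.x_mem_two)]
    refine Submodule.sum_mem _ fun j _ => Submodule.sum_mem _ fun q _ => ?_
    set z := H.i * (H.r j * c H.x * H.l q) * H.i with hz'
    -- the element is nilpotent
    have hy : c.symm z ∈ H.two 1 := by
      have h := H.two_sandwich H.x_mem_two (c.symm (H.i * H.r j)) (c.symm (H.l q * H.i))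
      have e : c.symm z = c.symm (H.i * H.r j) * H.x * c.symm (H.l q * H.i) := by
        rw [hz']
        simp only [map_mul, AlgEquiv.symm_apply_apply, mul_assoc]
      rwa [e]
    have hpow : ∀ r : ℕ, c.symm z ^ (r + 1) ∈ H.two (r + 1) := by
      intro r
      induction r with
      | zero => simpa using hy
      | succ r ih => rw [pow_succ]; exact H.two_mul ih hy
    have hnil : z ^ (H.N + 1) = 0 := by
      have h3 := congrArg c (H.two_N (H.two_succ_le H.N (hpow H.N)))
      rwa [map_pow, AlgEquiv.apply_symm_apply, map_zero] at h3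
    -- so it lies in the ideal of the generator
    have hsplit : ∀ w ∈ Submodule.span k (Set.range fun n : ℕ => H.x ^ n * H.i), ∃ (a₀ : k) (q : A),
        w = a₀ • H.i + H.x * q ∧ H.x * q = q * H.x ∧ H.i * q = q ∧ q * H.i = q := by
      intro w hw
      induction hw using Submodule.span_induction with
      | mem w hw =>
        obtain ⟨r, rfl⟩ := hw
        cases r with
        | zero => exact ⟨1, 0, by simp, by simp, by simp, by simp⟩
        | succ r =>
          refine ⟨0, H.x ^ r * H.i, by simp [pow_succ', mul_assoc], ?_, H.i_xpow r, ?_⟩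
          · rw [mul_assoc, H.ix, ← mul_assoc, (Commute.self_pow H.x r).eq, mul_assoc, H.xi]
          · rw [mul_assoc, H.idem]
      | zero => exact ⟨0, 0, by simp, by simp, by simp, by simp⟩
      | add y y' _ _ hy hy' =>
        obtain ⟨a₀, q, rfl, e1, e2, e3⟩ := hy
        obtain ⟨a₁, q', rfl, f1, f2, f3⟩ := hy'
        refine ⟨a₀ + a₁, q + q', ?_, ?_, ?_, ?_⟩
        · rw [add_smul, mul_add]; abel
        · rw [mul_add, add_mul, e1, f1]
        · rw [mul_add, e2, f2]
        · rw [add_mul, e3, f3]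
      | smul t y _ hy =>
        obtain ⟨a₀, q, rfl, e1, e2, e3⟩ := hy
        refine ⟨t * a₀, t • q, by rw [smul_add, smul_smul, mul_smul_comm], ?_, ?_, ?_⟩
        · rw [mul_smul_comm, smul_mul_assoc, e1]
        · rw [mul_smul_comm, e2]
        · rw [smul_mul_assoc, e3]
    obtain ⟨a₀, q', he', hq1, hq2, hq3⟩ := hsplit z (H.loc _)
    have ha₀ : a₀ = 0 := by
      by_contra hne
      have hcomm : Commute (a₀ • H.i) (H.x * q') := by
        refine Commute.smul_left ?_ a₀
        show H.i * (H.x * q') = H.x * q' * H.i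
        rw [← mul_assoc, H.ix, mul_assoc, hq3]
      have hnq : IsNilpotent (H.x * q') := by
        refine ⟨H.N + 1, ?_⟩
        have h0 : H.x ^ (H.N + 1) * H.i = 0 := by rw [pow_succ', mul_assoc, H.nil, mul_zero]
        rw [Commute.mul_pow (show Commute H.x q' from hq1), pow_succ' q']
        conv_lhs => rw [← hq2]
        rw [← mul_assoc (H.x ^ (H.N + 1)), ← mul_assoc (H.x ^ (H.N + 1)) H.i, h0, zero_mul,
          zero_mul]
      have h2 : IsNilpotent (a₀ • H.i) := by
        have h3 : a₀ • H.i = z - H.x * q' := by rw [he', add_sub_cancel_right]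
        rw [h3]
        refine Commute.isNilpotent_sub ?_ ⟨H.N + 1, hnil⟩ hnq
        rw [he']
        exact hcomm.add_left (Commute.refl _)
      obtain ⟨r, hr⟩ := h2
      have h4 : ∀ r : ℕ, (a₀ • H.i) ^ (r + 1) = a₀ ^ (r + 1) • H.i := fun r => by
        induction r with
        | zero => simp
        | succ r ih => rw [pow_succ, ih, smul_mul_smul_comm, H.idem, ← pow_succ]
      have h5 : a₀ ^ (r + 1) • H.i = 0 := by rw [← h4, pow_succ, hr, zero_mul]
      rcases smul_eq_zero.1 h5 with h | h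
      · exact pow_ne_zero _ hne h
      · exact H.ne h
    have := H.mem_two 1 (H.l j) (q' * H.r q)
    rw [show H.l j * z * H.r q = H.l j * (H.x ^ 1 * H.i) * (q' * H.r q) by
      rw [he', ha₀, zero_smul, zero_add, pow_one, H.xi]; noncomm_ring]
    exact this
  have hpow : ∀ r : ℕ, c (H.x ^ r * H.i) ∈ H.two r := by
    intro r
    induction r with
    | zero =>
      refine h0 _ (hfix (m := 0) ?_)
      simpa using H.mem_two 0 1 1
    | succ r ih =>
      have e : H.x ^ (r + 1) * H.i = H.x ^ r * H.i * H.x := by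
        rw [pow_succ, mul_assoc, H.xi, mul_assoc, H.ix]
      rw [e, map_mul]
      exact H.two_mul ih h1
  induction hz using Submodule.span_induction with
  | mem z hz =>
    obtain ⟨a, b, rfl⟩ := hz
    rw [map_mul, map_mul]
    exact H.two_sandwich (hpow n) _ _
  | zero => simp
  | add y z _ _ hy hz => rw [map_add]; exact add_mem hy hz
  | smul t z _ hz => rw [map_smul]; exact Submodule.smul_mem _ t hz

variable {S : Type*} [AddCommGroup S] [Module k S] (Φ : A →ₐ[k] Module.End k S)

/-- The socle of the component cut out by `e`. -/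
def soc : Submodule k S where
  carrier := {v | Φ H.e v = v ∧ ∀ a ∈ H.two 1, Φ a v = 0}
  zero_mem' := ⟨map_zero _, fun a _ => map_zero _⟩
  add_mem' {v w} hv hw := ⟨by rw [map_add, hv.1, hw.1],
    fun a ha => by rw [map_add, hv.2 a ha, hw.2 a ha, add_zero]⟩
  smul_mem' c v hv := ⟨by rw [map_smul, hv.1], fun a ha => by rw [map_smul, hv.2 a ha, smul_zero]⟩

/-- The socle layers. -/
def lay (n : ℕ) : Submodule k S :=
  H.soc Φ ⊓ ⨆ a : H.two n, LinearMap.range (Φ (a : A))

theorem mem_soc {v : S} : v ∈ H.soc Φ ↔ Φ H.e v = v ∧ ∀ a ∈ H.two 1, Φ a v = 0 := Iff.rfl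

theorem soc_le_lay_zero : H.soc Φ ≤ H.lay Φ 0 := by
  refine le_inf le_rfl fun v hv => ?_
  rw [← ((H.mem_soc Φ).1 hv).1, ← H.full, map_sum, LinearMap.sum_apply]
  refine Submodule.sum_mem _ fun j _ => Submodule.mem_iSup_of_mem ⟨H.l j * H.i * H.r j, ?_⟩
    (LinearMap.mem_range_self _ v)
  simpa [mul_assoc] using H.mem_two 0 (H.l j) (H.r j)

theorem lay_N : H.lay Φ H.N = ⊥ := by
  refine (Submodule.eq_bot_iff _).2 fun v hv => ?_
  have h := (Submodule.mem_inf.1 hv).2
  have : (⨆ a : H.two H.N, LinearMap.range (Φ (a : A))) = ⊥ := by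
    simp only [iSup_eq_bot]
    intro a
    rw [H.two_N a.2, map_zero, LinearMap.range_zero]
  rwa [this, Submodule.mem_bot] at h

theorem lay_le_soc (n : ℕ) : H.lay Φ n ≤ H.soc Φ := inf_le_left

/-- The layers are invariant under maps semilinear for an automorphism fixing `e`. -/
theorem lay_invariant (c : A ≃ₐ[k] A) (hc : c H.e = H.e) (u : Module.End k S)
    (hu : ∀ a v, u (Φ a v) = Φ (c a) (u v)) (n : ℕ) {v : S} (hv : v ∈ H.lay Φ n) :
    u v ∈ H.lay Φ n := by
  obtain ⟨h1, h2⟩ := Submodule.mem_inf.1 hv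
  refine Submodule.mem_inf.2 ⟨⟨?_, fun a ha => ?_⟩, ?_⟩
  · rw [← hc, ← hu, ((H.mem_soc Φ).1 h1).1]
  · have hs : c.symm H.e = H.e := by rw [AlgEquiv.symm_apply_eq, hc]
    rw [← c.apply_symm_apply a, ← hu, ((H.mem_soc Φ).1 h1).2 _ (H.map_two c.symm hs ha), map_zero]
  · refine Submodule.iSup_induction _ (motive := fun w => u w ∈ _) h2 ?_ ?_ ?_
    · rintro a _ ⟨w, rfl⟩
      rw [hu]
      exact Submodule.mem_iSup_of_mem ⟨c a, H.map_two c hc a.2⟩ (LinearMap.mem_range_self _ _)
    · rw [map_zero]; exact zero_mem _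
    · intro a b ha hb; rw [map_add]; exact add_mem ha hb

theorem corner_mem_range {n : ℕ} {v : S} (hv : v ∈ ⨆ a : H.two n, LinearMap.range (Φ (a : A))) :
    Φ H.i v ∈ LinearMap.range (Φ (H.x ^ n * H.i)) := by
  refine Submodule.iSup_induction _ (motive := fun w => Φ H.i w ∈ _) hv ?_ ?_ ?_
  · rintro ⟨a, ha⟩ _ ⟨w, rfl⟩
    show Φ H.i (Φ a w) ∈ _
    induction ha using Submodule.span_induction with
    | mem z hz =>
      obtain ⟨a', b', rfl⟩ := hz
      refine ⟨Φ (a' * H.i * b') w, ?_⟩
      rw [← Module.End.mul_apply, ← map_mul, ← Module.End.mul_apply, ← map_mul]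
      congr 2
      conv_rhs => rw [← H.i_xpow n]
      calc H.x ^ n * H.i * (a' * H.i * b') = H.x ^ n * (H.i * a' * H.i) * b' := by noncomm_ring
        _ = H.i * a' * H.i * H.x ^ n * H.i * b' := by
          rw [H.xpow_comm]
          have : H.i * a' * H.i * H.x ^ n * H.i = H.i * a' * H.i * H.x ^ n := by
            rw [← H.xpow_comm, mul_assoc (H.x ^ n), mul_assoc (H.i * a'), H.idem]
          rw [this]
        _ = H.i * (a' * (H.i * (H.x ^ n * H.i)) * b') := by noncomm_ring
    | zero => simp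
    | add y z _ _ hy hz => rw [map_add, LinearMap.add_apply, map_add]; exact add_mem hy hz
    | smul t z _ hz => rw [map_smul, LinearMap.smul_apply, map_smul]; exact Submodule.smul_mem _ t hz
  · rw [map_zero]; exact zero_mem _
  · intro a b ha hb; rw [map_add]; exact add_mem ha hb

/-- An endomorphism of the module which is the identity on one semisimple submodule and zero on
another one. -/
theorem exists_endo (n : ℕ) {X Y : Submodule k S} (hXA : ∀ a, ∀ v ∈ X, Φ a v ∈ X)
    (hYA : ∀ a, ∀ v ∈ Y, Φ a v ∈ Y) (hX : X ≤ H.lay Φ n) (hY : Y ≤ H.soc Φ)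
    (hd : Disjoint X (Y ⊔ H.lay Φ (n + 1))) :
    ∃ Θ : Module.End k S, (∀ a v, Θ (Φ a v) = Φ a (Θ v)) ∧ (∀ v, Φ H.e (Θ v) = Θ v) ∧
      (∀ v ∈ X, Θ v = v) ∧ ∀ v ∈ Y, Θ v = 0 := by
  classical
  set D : Module.End k S := Φ H.x with hD
  set I : Module.End k S := Φ H.i with hI
  have hII : ∀ v, I (I v) = I v := fun v => by
    rw [hI, ← Module.End.mul_apply, ← map_mul, H.idem]
  have hDI : ∀ v, D (I v) = D v := fun v => by
    rw [hD, hI, ← Module.End.mul_apply, ← map_mul, H.xi]
  have hID : ∀ v, I (D v) = D v := fun v => by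
    rw [hD, hI, ← Module.End.mul_apply, ← map_mul, H.ix]
  set X₀ := X.map I
  have hX₀ : X₀ ≤ X := by rintro _ ⟨v, hv, rfl⟩; exact hXA _ v hv
  have hX₀D : ∀ v ∈ X₀, D v = 0 := fun v hv =>
    ((H.mem_soc Φ).1 (H.lay_le_soc Φ n (hX (hX₀ hv)))).2 _ H.x_mem_two
  have hX₀I : ∀ v ∈ X₀, I v = v := by rintro _ ⟨v, -, rfl⟩; exact hII v
  set Z₀ := Y.map I ⊔ LinearMap.range (Φ (H.x ^ (n + 1) * H.i)) with hZ₀
  have hdisj : Disjoint X₀ Z₀ := by
    rw [Submodule.disjoint_def]
    intro v hvX hvZ
    obtain ⟨_, ⟨y, hy, rfl⟩, w, hw, hvw⟩ := Submodule.mem_sup.1 hvZ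
    refine (Submodule.disjoint_def.1 hd) v (hX₀ hvX) ?_
    rw [← hvw]
    refine Submodule.mem_sup.2 ⟨I y, hYA _ y hy, w, ?_, rfl⟩
    refine Submodule.mem_inf.2 ⟨?_, ?_⟩
    · rw [show w = v - I y by rw [← hvw]; abel]
      exact sub_mem (H.lay_le_soc Φ n (hX (hX₀ hvX))) (hY (hYA _ y hy))
    · refine Submodule.mem_iSup_of_mem ⟨H.x ^ (n + 1) * H.i, ?_⟩ hw
      simpa using H.mem_two (n + 1) 1 1
  -- the projection to `X₀`
  obtain ⟨g, hg⟩ := (Z₀.mkQ ∘ₗ X₀.subtype).exists_leftInverse_of_injective (by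
    rw [LinearMap.ker_eq_bot']
    intro v hv
    rw [LinearMap.comp_apply, Submodule.mkQ_apply, Submodule.Quotient.mk_eq_zero] at hv
    exact Subtype.ext ((Submodule.disjoint_def.1 hdisj) v v.2 hv))
  let π : Module.End k S := X₀.subtype ∘ₗ g ∘ₗ Z₀.mkQ
  have hπX : ∀ v ∈ X₀, π v = v := fun v hv => by
    show (g (Z₀.mkQ v) : S) = v
    rw [show g (Z₀.mkQ v) = (⟨v, hv⟩ : X₀) from LinearMap.congr_fun hg ⟨v, hv⟩]
  have hπZ : ∀ v ∈ Z₀, π v = 0 := fun v hv => by
    show (g (Z₀.mkQ v) : S) = 0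
    rw [Submodule.mkQ_apply, (Submodule.Quotient.mk_eq_zero _).2 hv, map_zero]
    rfl
  have hπr : ∀ v, π v ∈ LinearMap.range (Φ (H.x ^ n * H.i)) := fun v => by
    have h := H.corner_mem_range Φ (Submodule.mem_inf.1 (hX (hX₀ (g (Z₀.mkQ v)).2))).2
    have e : I (π v) = π v := hX₀I _ (g (Z₀.mkQ v)).2
    rw [← e]
    exact h
  obtain ⟨lift, hlift⟩ := (Φ (H.x ^ n * H.i)).rangeRestrict.exists_rightInverse_of_surjective
    (LinearMap.range_rangeRestrict _)
  let S₀ : Module.End k S := I ∘ₗ lift ∘ₗ LinearMap.codRestrict _ π hπr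
  have hS₀ : ∀ v, (D ^ n) (S₀ v) = π v := fun v => by
    have h := congrArg Subtype.val
      (LinearMap.congr_fun hlift (LinearMap.codRestrict _ π hπr v))
    rw [hD, ← map_pow]
    show Φ (H.x ^ n) (Φ H.i _) = _
    rw [← Module.End.mul_apply, ← map_mul]
    exact h
  have hS₁ : D ^ (n + 1) * S₀ = 0 := LinearMap.ext fun v => by
    rw [pow_succ', mul_assoc, Module.End.mul_apply, Module.End.mul_apply, hS₀]
    exact hX₀D _ (g (Z₀.mkQ v)).2
  have hS₂ : S₀ * D ^ (n + 1) = 0 := LinearMap.ext fun v => by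
    have h : π ((D ^ (n + 1)) v) = 0 := hπZ _ (Submodule.mem_sup_right ⟨v, by
      rw [hD, pow_succ, pow_succ, mul_assoc, H.xi, map_mul, map_pow]⟩)
    show I (lift (LinearMap.codRestrict _ π hπr ((D ^ (n + 1)) v))) = 0
    rw [show LinearMap.codRestrict _ π hπr ((D ^ (n + 1)) v) = 0 from Subtype.ext h, map_zero,
      map_zero]
  let θ₀ : Module.End k S := ∑ q ∈ Finset.range (n + 1), D ^ q * S₀ * D ^ (n - q)
  have hθD : D * θ₀ = θ₀ * D := by
    simp only [θ₀, Finset.mul_sum, Finset.sum_mul]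
    rw [Finset.sum_range_succ, Finset.sum_range_succ' (fun q => D ^ q * S₀ * D ^ (n - q) * D)]
    have h1 : D * (D ^ n * S₀ * D ^ (n - n)) = 0 := by
      rw [← mul_assoc, ← mul_assoc, ← pow_succ', hS₁, zero_mul]
    have h2 : D ^ 0 * S₀ * D ^ (n - 0) * D = 0 := by
      rw [pow_zero, one_mul, Nat.sub_zero, mul_assoc, ← pow_succ, hS₂]
    rw [h1, h2, add_zero, add_zero]
    refine Finset.sum_congr rfl fun q hq => ?_
    have hq' := Finset.mem_range.1 hq
    rw [show D * (D ^ q * S₀ * D ^ (n - q)) = D ^ (q + 1) * S₀ * D ^ (n - q) by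
      rw [pow_succ']; noncomm_ring,
      show n - q = n - (q + 1) + 1 by omega, pow_succ]
    noncomm_ring
  obtain ⟨θ, hθdef⟩ : ∃ θ : Module.End k S, θ = I * θ₀ * I := ⟨_, rfl⟩
  have happ : ∀ a b v, Φ a (Φ b v) = Φ (a * b) v := fun a b v => by
    rw [map_mul, Module.End.mul_apply]
  have hθD' : D * θ = θ * D := by
    have h1 : D * I = D := LinearMap.ext hDI
    have h2 : I * D = D := LinearMap.ext hID
    calc D * θ = D * I * θ₀ * I := by simp only [hθdef, mul_assoc]
      _ = θ₀ * (D * I) := by rw [h1, hθD, mul_assoc, h1]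
      _ = θ₀ * (I * D) := by rw [h1, h2]
      _ = θ * D := by
        have h3 : I * (θ₀ * D) = θ₀ * D := by rw [← hθD, ← mul_assoc, h2]
        simp only [hθdef, mul_assoc]
        rw [h2, h3]
  have hθspan : ∀ w ∈ Submodule.span k (Set.range fun r : ℕ => H.x ^ r * H.i),
      ∀ v, θ (Φ w v) = Φ w (θ v) := by
    intro w hw
    induction hw using Submodule.span_induction with
    | mem z hz =>
      obtain ⟨r, rfl⟩ := hz
      intro v
      have hc : Commute θ (Φ (H.x ^ r * H.i)) := by
        rw [map_mul, map_pow]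
        refine Commute.mul_right ((show Commute θ D from hθD'.symm).pow_right r) ?_
        show θ * I = I * θ
        have hI2 : I * I = I := LinearMap.ext hII
        simp only [hθdef, mul_assoc, hI2]
        rw [← mul_assoc I I, hI2]
      exact LinearMap.congr_fun hc.eq v
    | zero => intro v; simp
    | add y z _ _ hy hz => intro v; simp only [map_add, LinearMap.add_apply, hy, hz]
    | smul t z _ hz => intro v; simp only [map_smul, LinearMap.smul_apply, hz]
  have hθloc : ∀ a v, θ (Φ (H.i * a * H.i) v) = Φ (H.i * a * H.i) (θ v) := fun a =>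
    hθspan _ (H.loc a)
  have hIθ : ∀ v, I (θ v) = θ v := fun v => by
    rw [hθdef]; exact hII _
  have hθX : ∀ v ∈ X₀, θ v = v := by
    intro v hv
    rw [hθdef]
    show I (θ₀ (I v)) = v
    rw [hX₀I v hv]
    simp only [θ₀, LinearMap.sum_apply, Module.End.mul_apply]
    rw [Finset.sum_range_succ, Finset.sum_eq_zero fun q hq => ?_, zero_add, Nat.sub_self, pow_zero,
      Module.End.one_apply, hS₀, hπX v hv, hX₀I v hv]
    obtain ⟨r, hr⟩ : ∃ r, n - q = r + 1 :=
      ⟨n - q - 1, by have := Finset.mem_range.1 hq; omega⟩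
    rw [hr, pow_succ, Module.End.mul_apply, hX₀D v hv, map_zero, map_zero, map_zero]
  have hθY : ∀ v ∈ Y, θ (I v) = 0 := by
    intro v hv
    have hy : I v ∈ Y := hYA _ v hv
    rw [hθdef]
    show I (θ₀ (I (I v))) = 0
    rw [hII]
    simp only [θ₀, LinearMap.sum_apply, Module.End.mul_apply]
    rw [Finset.sum_eq_zero fun q hq => ?_, map_zero]
    rcases Nat.eq_zero_or_pos (n - q) with h0 | h0
    · have hS : S₀ (I v) = 0 := by
        show I (lift (LinearMap.codRestrict _ π hπr (I v))) = 0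
        rw [show LinearMap.codRestrict _ π hπr (I v) = 0 from
          Subtype.ext (hπZ _ (Submodule.mem_sup_left ⟨v, hv, rfl⟩)), map_zero, map_zero]
      rw [h0, pow_zero, Module.End.one_apply, hS, map_zero]
    · obtain ⟨r, hr⟩ : ∃ r, n - q = r + 1 := ⟨n - q - 1, by omega⟩
      rw [hr, pow_succ, Module.End.mul_apply,
        show D (I v) = 0 from ((H.mem_soc Φ).1 (hY hy)).2 _ H.x_mem_two, map_zero, map_zero,
        map_zero]
  -- the endomorphism
  let Θ : Module.End k S := ∑ j, Φ (H.l j) * θ * Φ (H.i * H.r j)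
  have hΘ : ∀ v, Θ v = ∑ j, Φ (H.l j) (θ (Φ (H.i * H.r j) v)) := fun v => by
    simp [Θ, Module.End.mul_apply]
  have hlI : ∀ (a : A) v, Φ a (θ v) = Φ (a * H.i) (θ v) := fun a v => by
    rw [map_mul, Module.End.mul_apply, ← hI, hIθ]
  have hie : H.i * H.e = H.i := by rw [← H.cen, H.ei]
  refine ⟨Θ, fun a v => ?_, fun v => ?_, fun v hv => ?_, fun v hv => ?_⟩
  · symm
    rw [hΘ, map_sum]
    have h1 : ∀ j, Φ a (Φ (H.l j) (θ (Φ (H.i * H.r j) v))) =
        ∑ q, Φ (H.l q) (θ (Φ (H.i * H.r q * a * H.l j * H.i * H.r j) v)) := by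
      intro j
      have e1 : a * H.l j * H.i = ∑ q, H.l q * (H.i * (H.r q * a * H.l j) * H.i) := by
        rw [← show H.e * (a * H.l j * H.i) = a * H.l j * H.i by
          rw [← mul_assoc, ← mul_assoc, H.cen, mul_assoc a, H.cen, mul_assoc a, mul_assoc (H.l j),
            H.ei, mul_assoc a], ← H.full, Finset.sum_mul]
        exact Finset.sum_congr rfl fun q _ => by noncomm_ring
      rw [happ, hlI, e1, map_sum, LinearMap.sum_apply]
      refine Finset.sum_congr rfl fun q _ => ?_
      rw [map_mul, Module.End.mul_apply, ← hθloc, happ]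
      congr 4
      calc H.i * (H.r q * a * H.l j) * H.i * (H.i * H.r j)
          = H.i * (H.r q * a * H.l j) * (H.i * H.i) * H.r j := by noncomm_ring
        _ = H.i * H.r q * a * H.l j * H.i * H.r j := by rw [H.idem]; noncomm_ring
    rw [Finset.sum_congr rfl fun j _ => h1 j, Finset.sum_comm, hΘ]
    refine Finset.sum_congr rfl fun q _ => ?_
    rw [← map_sum, ← map_sum, ← LinearMap.sum_apply, ← map_sum, happ]
    congr 4
    calc ∑ j, H.i * H.r q * a * H.l j * H.i * H.r j = H.i * H.r q * a * H.e := by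
          rw [← H.full, Finset.mul_sum]
          exact Finset.sum_congr rfl fun j _ => by noncomm_ring
      _ = H.i * H.r q * a := by
          rw [mul_assoc _ a, ← H.cen, ← mul_assoc, mul_assoc H.i, ← H.cen, ← mul_assoc, hie]
  · rw [hΘ, map_sum]
    refine Finset.sum_congr rfl fun j _ => ?_
    rw [hlI, happ, ← mul_assoc, H.cen, mul_assoc (H.l j), H.ei]
  · rw [hΘ]
    have hvX : ∀ j, Φ (H.i * H.r j) v ∈ X₀ := fun j =>
      ⟨Φ (H.r j) v, hXA _ v hv, by rw [hI, happ]⟩
    rw [Finset.sum_congr rfl fun j _ => by rw [hθX _ (hvX j)]]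
    conv_rhs => rw [← ((H.mem_soc Φ).1 (H.lay_le_soc Φ n (hX hv))).1, ← H.full, map_sum,
      LinearMap.sum_apply]
    exact Finset.sum_congr rfl fun j _ => by
      rw [happ, ← mul_assoc]
  · rw [hΘ]
    refine Finset.sum_eq_zero fun j _ => ?_
    rw [map_mul, Module.End.mul_apply, hθY _ (hYA _ v hv), map_zero]

/-- The generator acts as zero on an irreducible module. -/
theorem two_one_eq_zero {W : Type*} [AddCommGroup W] [Module k W] (Ψ : A →ₐ[k] Module.End k W)
    (hirr : ∀ X : Submodule k W, (∀ a, ∀ v ∈ X, Ψ a v ∈ X) → X = ⊥ ∨ X = ⊤) {a : A}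
    (ha : a ∈ H.two 1) : Ψ a = 0 := by
  let X : ℕ → Submodule k W := fun n => ⨆ z : H.two n, LinearMap.range (Ψ (z : A))
  have hX : ∀ n b, ∀ v ∈ X n, Ψ b v ∈ X n := by
    intro n b v hv
    refine Submodule.iSup_induction _ (motive := fun w => Ψ b w ∈ X n) hv ?_ ?_ ?_
    · rintro z _ ⟨w, rfl⟩
      rw [← Module.End.mul_apply, ← map_mul]
      have h := H.two_sandwich z.2 b 1
      rw [mul_one] at h
      exact Submodule.mem_iSup_of_mem ⟨b * z, h⟩ (LinearMap.mem_range_self _ w)
    · rw [map_zero]; exact zero_mem _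
    · intro x y hx hy; rw [map_add]; exact add_mem hx hy
  rcases hirr (X 1) (hX 1) with h1 | h1
  · refine LinearMap.ext fun w => ?_
    have h : Ψ a w ∈ X 1 := Submodule.mem_iSup_of_mem ⟨a, ha⟩ (LinearMap.mem_range_self _ w)
    rw [h1, Submodule.mem_bot] at h
    exact h
  -- otherwise all layers are everything, the last one is zero
  have hall : ∀ n, X (n + 1) = ⊤ := by
    intro n
    induction n with
    | zero => exact h1
    | succ n ih =>
      refine top_le_iff.1 fun w _ => ?_
      have hw : w ∈ X 1 := h1 ▸ Submodule.mem_top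
      refine Submodule.iSup_induction _ (motive := fun w => w ∈ X (n + 1 + 1)) hw ?_ (zero_mem _)
        fun x y hx hy => add_mem hx hy
      rintro z _ ⟨v, rfl⟩
      have hv : v ∈ X (n + 1) := ih ▸ Submodule.mem_top
      refine Submodule.iSup_induction _ (motive := fun v => Ψ (z : A) v ∈ X (n + 1 + 1)) hv ?_ ?_ ?_
      · rintro z' _ ⟨u, rfl⟩
        rw [← Module.End.mul_apply, ← map_mul]
        refine Submodule.mem_iSup_of_mem ⟨(z : A) * z', ?_⟩ (LinearMap.mem_range_self _ u)
        rw [add_comm (n + 1) 1]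
        exact H.two_mul z.2 z'.2
      · rw [map_zero]; exact zero_mem _
      · intro x y hx hy; rw [map_add]; exact add_mem hx hy
  refine LinearMap.ext fun w => ?_
  have hw : w ∈ X (H.N + 1) := hall H.N ▸ Submodule.mem_top
  have hbot : X (H.N + 1) = ⊥ := by
    simp only [X, iSup_eq_bot]
    intro z
    have : (z : A) = 0 := H.two_N (H.two_succ_le H.N z.2)
    rw [this, map_zero, LinearMap.range_zero]
  rw [hbot, Submodule.mem_bot] at hw
  rw [hw, map_zero]
  rfl

end UniData

end Cfsg.Agent.Char.CycGreen
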