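import Cfsg.Agent.Lib.Block.Residue
import Mathlib.LinearAlgebra.Eigenspace.Triangularizable
import Mathlib.FieldTheory.IsAlgClosed.Basic

/-!
Representations in characteristic `p` of a group with a Sylow subgroup `P` of order `p`: traces of
maps, simple quotients detected by maps which are not traces, and the fact that on the stable socle
`fix P / norm P` of a simple module every endomorphism commuting with `N(P)` is a scalar, so that a
central element of the normalizer algebra is constant there.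
-/

namespace Cfsg.Agent.Char.CycMod

open Cfsg.Agent.Block

set_option linter.unusedSectionVars false
set_option linter.style.haveILetI false

universe u v w

section general

variable {G : Type u} [Group G] [Fintype G] {k : Type v} [Field k]
variable {V W : Type*} [AddCommGroup V] [Module k V] [AddCommGroup W] [Module k W]
variable (ρ : G →* Module.End k V) (σ : G →* Module.End k W)

/-- Action of a function on the group. -/
noncomputable def act (a : G → k) : Module.End k V := ∑ g, a g • ρ g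

/-- The trace of a linear map to an intertwining map. -/
noncomputable def tr (φ : V →ₗ[k] W) : V →ₗ[k] W := ∑ g, (σ g) ∘ₗ φ ∘ₗ (ρ g⁻¹)

/-- An intertwining map. -/
def Intw (f : V →ₗ[k] W) : Prop := ∀ (g : G) (v : V), f (ρ g v) = σ g (f v)

/-- An irreducible representation. -/
def Irr : Prop :=
  Nontrivial V ∧ ∀ X : Submodule k V, (∀ g, ∀ x ∈ X, ρ g x ∈ X) → X = ⊥ ∨ X = ⊤

theorem act_apply (a : G → k) (v : V) : act ρ a v = ∑ g, a g • ρ g v := by simp [act]

theorem tr_apply (φ : V →ₗ[k] W) (v : V) : tr ρ σ φ v = ∑ g, σ g (φ (ρ g⁻¹ v)) := by simp [tr]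

theorem act_mem (a : G → k) {X : Submodule k V} (hX : ∀ g, ∀ x ∈ X, ρ g x ∈ X) {x : V}
    (hx : x ∈ X) : act ρ a x ∈ X := by
  rw [act_apply]
  exact X.sum_mem fun g _ => X.smul_mem _ (hX g x hx)

theorem Intw.act {f : V →ₗ[k] W} (hf : Intw ρ σ f) (a : G → k) (v : V) :
    f (CycMod.act ρ a v) = CycMod.act σ a (f v) := by
  rw [act_apply, act_apply, map_sum]
  exact Finset.sum_congr rfl fun g _ => by rw [map_smul, hf]

theorem act_classFun {a : G → k} (ha : ∀ g t : G, a (t * g * t⁻¹) = a g) : Intw ρ ρ (act ρ a) := by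
  intro t v
  rw [act_apply, act_apply, map_sum]
  refine Fintype.sum_equiv (MulAut.conj t⁻¹).toEquiv _ _ fun g => ?_
  show _ = ρ t (a (MulAut.conj t⁻¹ g) • ρ (MulAut.conj t⁻¹ g) v)
  rw [map_smul, MulAut.conj_apply, ha, inv_inv, ← Module.End.mul_apply, ← Module.End.mul_apply,
    ← map_mul, ← map_mul]
  congr 2
  group

theorem act_idem {a : G → k} (ha : ∀ g, ∑ h, a h * a (h⁻¹ * g) = a g) (v : V) :
    act ρ a (act ρ a v) = act ρ a v := by
  rw [act_apply, act_apply ρ a v]
  calc ∑ g, a g • ρ g (∑ h, a h • ρ h v) = ∑ g, ∑ h, (a g * a h) • ρ (g * h) v := by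
        refine Finset.sum_congr rfl fun g _ => ?_
        rw [map_sum, Finset.smul_sum]
        exact Finset.sum_congr rfl fun h _ => by
          rw [map_smul, smul_smul, map_mul, Module.End.mul_apply]
    _ = ∑ g, ∑ x, (a g * a (g⁻¹ * x)) • ρ x v :=
        Finset.sum_congr rfl fun g _ => Fintype.sum_equiv (Equiv.mulLeft g) _ _ fun h => by simp
    _ = _ := by
        rw [Finset.sum_comm]
        exact Finset.sum_congr rfl fun x _ => by rw [← Finset.sum_smul, ha]

theorem intw_tr (φ : V →ₗ[k] W) : Intw ρ σ (tr ρ σ φ) := by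
  intro t v
  rw [tr_apply, tr_apply, map_sum]
  refine Fintype.sum_equiv (Equiv.mulLeft t⁻¹) _ _ fun g => ?_
  simp only [Equiv.coe_mulLeft]
  rw [← Module.End.mul_apply, ← map_mul, ← Module.End.mul_apply (σ t), ← map_mul]
  simp

/-- Schur's lemma. -/
theorem schur [IsAlgClosed k] [FiniteDimensional k V] (hirr : Irr ρ) {f : V →ₗ[k] V}
    (hf : Intw ρ ρ f) : ∃ c : k, ∀ v, f v = c • v := by
  haveI := hirr.1
  obtain ⟨c, hc⟩ := Module.End.exists_eigenvalue f
  refine ⟨c, fun v => ?_⟩
  rcases hirr.2 (Module.End.eigenspace f c) (fun g x hx => by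
    rw [Module.End.mem_eigenspace_iff] at hx ⊢
    rw [hf, hx, map_smul]) with h | h
  · exact absurd h hc
  · exact Module.End.mem_eigenspace_iff.1 (h ▸ Submodule.mem_top)

/-- An intertwining map between irreducible representations is zero or bijective. -/
theorem zero_or_bijective (hρ : Irr ρ) (hσ : Irr σ) {f : V →ₗ[k] W} (hf : Intw ρ σ f) :
    f = 0 ∨ Function.Bijective f := by
  rcases hρ.2 (LinearMap.ker f) (fun g x hx => by
    rw [LinearMap.mem_ker] at hx ⊢
    rw [hf, hx, map_zero]) with h | h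
  · rcases hσ.2 (LinearMap.range f) (fun g x ⟨y, hy⟩ => ⟨ρ g y, by rw [hf, hy]⟩) with h' | h'
    · exact Or.inl (LinearMap.range_eq_bot.1 h')
    · exact Or.inr ⟨LinearMap.ker_eq_bot.1 h, LinearMap.range_eq_top.1 h'⟩
  · exact Or.inl (LinearMap.ker_eq_top.1 h)

end general

section detect

variable {G : Type u} [Group G] [Fintype G] {k : Type v} [Field k]

/-- An idempotent intertwining map which is not a trace is detected by a simple quotient. -/
theorem exists_simple_map {V : Type w} [AddCommGroup V] [Module k V] [FiniteDimensional k V]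
    (ρ : G →* Module.End k V) {e : V →ₗ[k] V} (he : Intw ρ ρ e) (hee : ∀ v, e (e v) = e v)
    (hnt : ¬ ∃ ψ : V →ₗ[k] V, tr ρ ρ ψ = e) :
    ∃ (S : Type w) (_ : AddCommGroup S) (_ : Module k S) (_ : FiniteDimensional k S)
      (σ : G →* Module.End k S) (f : V →ₗ[k] S), Intw ρ σ f ∧ Irr σ ∧ Function.Surjective f ∧
        (∀ v, f (e v) = f v) ∧ ¬ ∃ ψ : V →ₗ[k] S, tr ρ σ ψ = f := by
  classical
  by_contra hno
  have key : ∀ (n : ℕ) (X : Submodule k V), Module.finrank k X ≤ n →
      (∀ g, ∀ x ∈ X, ρ g x ∈ X) → ∀ f : V →ₗ[k] V, Intw ρ ρ f → (∀ v, f (e v) = f v) →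
      (∀ v, f v ∈ X) → ∃ ψ : V →ₗ[k] V, tr ρ ρ ψ = f := by
    intro n
    induction n with
    | zero =>
      intro X hX _ f _ _ hfX
      refine ⟨0, LinearMap.ext fun v => ?_⟩
      have h0 : X = ⊥ := Submodule.finrank_eq_zero.1 (Nat.le_zero.1 hX)
      have h1 := hfX v
      rw [h0, Submodule.mem_bot] at h1
      simp [tr_apply, h1]
    | succ n ih =>
      intro X hX hXinv f hf hfe hfX
      by_cases hX0 : X = ⊥
      · exact ih X (by rw [hX0, finrank_bot]; exact Nat.zero_le _) hXinv f hf hfe hfX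
      -- a largest proper invariant subspace of `X`
      let P : ℕ → Prop := fun m => ∃ Y : Submodule k V, Y < X ∧ (∀ g, ∀ x ∈ Y, ρ g x ∈ Y) ∧
        Module.finrank k Y = m
      have hP0 : P 0 := ⟨⊥, bot_lt_iff_ne_bot.2 hX0, fun g x hx => by
        rw [Submodule.mem_bot] at hx ⊢; rw [hx, map_zero], finrank_bot k V⟩
      obtain ⟨Y, hYX, hYinv, hYm⟩ : P (Nat.findGreatest P (n + 1)) :=
        Nat.findGreatest_spec (Nat.zero_le _) hP0
      have hmax : ∀ Y' : Submodule k V, Y' < X → (∀ g, ∀ x ∈ Y', ρ g x ∈ Y') →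
          Module.finrank k Y' ≤ Module.finrank k Y := fun Y' h1 h2 =>
        hYm ▸ Nat.le_findGreatest ((Submodule.finrank_mono h1.le).trans hX) ⟨Y', h1, h2, rfl⟩
      let ρX : G →* Module.End k X :=
        { toFun := fun g => (ρ g).restrict (hXinv g)
          map_one' := LinearMap.ext fun x => Subtype.ext (by
            show ρ 1 (x : V) = (x : V)
            rw [map_one]; rfl)
          map_mul' := fun g h => LinearMap.ext fun x => Subtype.ext (by
            show ρ (g * h) (x : V) = ρ g (ρ h (x : V))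
            rw [map_mul]; rfl) }
      let Z : Submodule k X := Y.comap X.subtype
      have hZ : ∀ g, Z ≤ Z.comap (ρX g) := fun g x hx => hYinv g x hx
      let σ : G →* Module.End k (X ⧸ Z) :=
        { toFun := fun g => Z.mapQ Z (ρX g) (hZ g)
          map_one' := Submodule.linearMap_qext _ (LinearMap.ext fun x => by
            show Submodule.Quotient.mk (ρX 1 x) = Submodule.Quotient.mk x
            rw [map_one]; rfl)
          map_mul' := fun g h => Submodule.linearMap_qext _ (LinearMap.ext fun x => by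
            show Submodule.Quotient.mk (ρX (g * h) x) = Submodule.Quotient.mk (ρX g (ρX h x))
            rw [map_mul]; rfl) }
      have hirr : Irr σ := by
        refine ⟨Submodule.Quotient.nontrivial_iff.2 fun h => hYX.not_ge fun x hx => ?_, fun T hT => ?_⟩
        · exact (h ▸ Submodule.mem_top : (⟨x, hx⟩ : X) ∈ Z)
        let Y' : Submodule k V := (T.comap Z.mkQ).map X.subtype
        have hY'X : Y' ≤ X := Submodule.map_subtype_le _ _
        have hYY' : Y ≤ Y' := fun y hy => ⟨⟨y, hYX.le hy⟩, by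
          show Z.mkQ ⟨y, hYX.le hy⟩ ∈ T
          rw [Submodule.mkQ_apply, (Submodule.Quotient.mk_eq_zero Z).2 hy]
          exact T.zero_mem, rfl⟩
        rcases eq_or_lt_of_le hY'X with h | h
        · right
          refine Submodule.eq_top_iff'.2 fun q => ?_
          obtain ⟨x, rfl⟩ := Submodule.Quotient.mk_surjective Z q
          obtain ⟨y, hy, hyx⟩ := (h.symm ▸ x.2 : (x : V) ∈ Y')
          rwa [← show y = x from Subtype.ext hyx]
        · left
          have h2 : Y = Y' := by
            refine Submodule.eq_of_le_of_finrank_le hYY' (hmax Y' h ?_)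
            rintro g _ ⟨x, hx, rfl⟩
            exact ⟨ρX g x, hT g _ hx, rfl⟩
          refine (Submodule.eq_bot_iff T).2 fun q hq => ?_
          obtain ⟨x, rfl⟩ := Submodule.Quotient.mk_surjective Z q
          exact (Submodule.Quotient.mk_eq_zero Z).2 (h2.symm ▸ ⟨x, hq, rfl⟩ : (x : V) ∈ Y)
      let fX : V →ₗ[k] X := f.codRestrict X hfX
      let q : V →ₗ[k] X ⧸ Z := Z.mkQ ∘ₗ fX
      have hq : Intw ρ σ q := fun g v => by
        show Submodule.Quotient.mk (fX (ρ g v)) = Submodule.Quotient.mk (ρX g (fX v))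
        exact congrArg _ (Subtype.ext (hf g v))
      have hqe : ∀ v, q (e v) = q v := fun v => congrArg Z.mkQ (Subtype.ext (hfe v))
      obtain ⟨ψ, hψ⟩ : ∃ ψ : V →ₗ[k] X ⧸ Z, tr ρ σ ψ = q := by
        rcases hirr.2 (LinearMap.range q) (fun g x ⟨y, hy⟩ => ⟨ρ g y, by rw [hq, hy]⟩) with h | h
        · refine ⟨0, ?_⟩
          rw [LinearMap.range_eq_bot.1 h]
          exact LinearMap.ext fun v => by simp [tr_apply]
        · by_contra hc
          exact hno ⟨X ⧸ Z, inferInstance, inferInstance, inferInstance, σ, q, hq, hirr,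
            LinearMap.range_eq_top.1 h, hqe, hc⟩
      obtain ⟨s, hs⟩ := Z.mkQ.exists_rightInverse_of_surjective
        (LinearMap.range_eq_top.2 Z.mkQ_surjective)
      let ψ' : V →ₗ[k] V := X.subtype ∘ₗ s ∘ₗ ψ
      let f' : V →ₗ[k] V := f - tr ρ ρ (ψ' ∘ₗ e)
      have hf' : Intw ρ ρ f' := fun g v => by
        simp only [f', LinearMap.sub_apply, map_sub, hf g v, intw_tr ρ ρ _ g v]
      have htr : ∀ v, tr ρ ρ (ψ' ∘ₗ e) v = tr ρ ρ ψ' (e v) := fun v => by
        simp only [tr_apply, LinearMap.comp_apply]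
        exact Finset.sum_congr rfl fun g _ => by rw [he g⁻¹ v]
      have hf'e : ∀ v, f' (e v) = f' v := fun v => by
        simp only [f', LinearMap.sub_apply, htr, hfe, hee]
      have hf'Y : ∀ v, f' v ∈ Y := by
        intro v
        have h1 : (∑ g : G, ρX g (s (ψ (ρ g⁻¹ (e v)))) : X) =
            (⟨tr ρ ρ ψ' (e v), by
              rw [tr_apply]
              exact X.sum_mem fun g _ => hXinv g _ (s (ψ (ρ g⁻¹ (e v)))).2⟩ : X) :=
          Subtype.ext (by simp [tr_apply, ψ', ρX, LinearMap.restrict_apply])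
        have h2 : Z.mkQ (fX (e v) - ∑ g : G, ρX g (s (ψ (ρ g⁻¹ (e v))))) = 0 := by
          rw [map_sub, map_sum, sub_eq_zero]
          refine (LinearMap.congr_fun hψ.symm (e v)).trans ?_
          rw [tr_apply]
          refine Finset.sum_congr rfl fun g _ => ?_
          show σ g _ = Submodule.Quotient.mk (ρX g (s _))
          conv_lhs => rw [← show Z.mkQ (s (ψ (ρ g⁻¹ (e v)))) = ψ (ρ g⁻¹ (e v)) from
            LinearMap.congr_fun hs _]
          rfl
        rw [Submodule.mkQ_apply, Submodule.Quotient.mk_eq_zero, h1] at h2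
        simp only [f', LinearMap.sub_apply, htr]
        rw [← hfe v]
        exact h2
      have hY : Module.finrank k Y ≤ n :=
        Nat.lt_succ_iff.1 ((Submodule.finrank_lt_finrank_of_lt hYX).trans_le hX)
      obtain ⟨ψ'', hψ''⟩ := ih Y hY hYinv f' hf' hf'e hf'Y
      refine ⟨ψ'' + ψ' ∘ₗ e, LinearMap.ext fun v => ?_⟩
      have := LinearMap.congr_fun hψ'' v
      simp only [f', LinearMap.sub_apply] at this
      rw [eq_sub_iff_add_eq] at this
      rw [← this, tr_apply, tr_apply, tr_apply, ← Finset.sum_add_distrib]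
      exact Finset.sum_congr rfl fun g _ => by simp
  exact hnt (key _ ⊤ le_rfl (fun _ _ _ => Submodule.mem_top) e he hee fun _ => Submodule.mem_top)

end detect

section normalizer

open scoped Classical

variable {G : Type u} [Group G] [Fintype G] {k : Type v} [Field k]
variable {p : ℕ} [hp : Fact p.Prime] [CharP k p] {P : Subgroup G}
variable {S : Type*} [AddCommGroup S] [Module k S] (σ : G →* Module.End k S)

/-- Conjugation of an endomorphism. -/
noncomputable def cj (g : G) (φ : S →ₗ[k] S) : S →ₗ[k] S := (σ g) ∘ₗ φ ∘ₗ (σ g⁻¹)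

theorem cj_apply (g : G) (φ : S →ₗ[k] S) (x : S) : cj σ g φ x = σ g (φ (σ g⁻¹ x)) := rfl

theorem rep_inv_apply (g : G) (x : S) : σ g⁻¹ (σ g x) = x := by
  rw [← Module.End.mul_apply, ← map_mul, inv_mul_cancel, map_one, Module.End.one_apply]

theorem rep_apply_inv (g : G) (x : S) : σ g (σ g⁻¹ x) = x := by
  simpa using rep_inv_apply σ g⁻¹ x

theorem cj_mul (a b : G) (φ : S →ₗ[k] S) : cj σ (a * b) φ = cj σ a (cj σ b φ) := by
  ext x
  simp [cj_apply, map_mul, mul_inv_rev, Module.End.mul_apply]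

theorem cj_of_comm {g : G} {φ : S →ₗ[k] S} (h : ∀ x, φ (σ g x) = σ g (φ x)) : cj σ g φ = φ := by
  ext x
  rw [cj_apply, ← h, rep_apply_inv]

variable (P)

/-- The vectors fixed by `P`. -/
def fixP : Submodule k S where
  carrier := {x | ∀ u ∈ P, σ u x = x}
  add_mem' := fun ha hb u hu => by rw [map_add, ha u hu, hb u hu]
  zero_mem' := fun u _ => map_zero _
  smul_mem' := fun c x hx u hu => by rw [map_smul, hx u hu]

/-- The sum of the elements of `P`. -/
noncomputable def nu : Module.End k S := ∑ u : P, σ (u : G)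

variable {P}

theorem mem_fixP {x : S} : x ∈ fixP P σ ↔ ∀ u ∈ P, σ u x = x := Iff.rfl

theorem nu_apply (x : S) : nu P σ x = ∑ u : P, σ (u : G) x := by simp [nu]

theorem nu_normalizer {n : G} (hn : n ∈ Subgroup.normalizer (P : Set G)) (x : S) :
    σ n (nu P σ x) = nu P σ (σ n x) := by
  rw [nu_apply, nu_apply, map_sum]
  refine Fintype.sum_equiv
    { toFun := fun u : P => (⟨n * u * n⁻¹, (Subgroup.mem_normalizer_iff.1 hn u).1 u.2⟩ : P)
      invFun := fun u : P => ⟨n⁻¹ * u * n, (Subgroup.mem_normalizer_iff.1 hn _).2 (by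
        rw [show n * (n⁻¹ * (u : G) * n) * n⁻¹ = u by group]; exact u.2)⟩
      left_inv := fun u => Subtype.ext (show n⁻¹ * (n * (u : G) * n⁻¹) * n = u by group)
      right_inv := fun u => Subtype.ext (show n * (n⁻¹ * (u : G) * n) * n⁻¹ = u by group) }
    _ _ fun u => ?_
  show σ n (σ (u : G) x) = σ (n * u * n⁻¹) (σ n x)
  rw [← Module.End.mul_apply, ← Module.End.mul_apply, ← map_mul, ← map_mul]
  congr 2
  group

theorem fixP_normalizer {n : G} (hn : n ∈ Subgroup.normalizer (P : Set G)) {x : S}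
    (hx : x ∈ fixP P σ) : σ n x ∈ fixP P σ := fun u hu => by
  rw [← Module.End.mul_apply, ← map_mul,
    show u * n = n * (n⁻¹ * u * n) by group, map_mul, Module.End.mul_apply,
    hx _ ((Subgroup.mem_normalizer_iff.1 hn _).2 (by
      rw [show n * (n⁻¹ * u * n) * n⁻¹ = u by group]; exact hu))]

theorem mem_of_fixed_coset (hPp : Nat.card P = p) (hsyl : ¬ p ∣ P.index) {g : G}
    (h : ∀ u ∈ P, g⁻¹ * u * g ∈ Subgroup.normalizer (P : Set G)) :
    g ∈ Subgroup.normalizer (P : Set G) := by
  classical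
  set N := Subgroup.normalizer (P : Set G) with hN
  haveI : (P.subgroupOf N).Normal := Subgroup.normal_subgroupOf_of_le_normalizer le_rfl
  have hP : ∀ u ∈ P, g⁻¹ * u * g ∈ P := by
    intro u hu
    let y : N := ⟨g⁻¹ * u * g, h u hu⟩
    have hup : u ^ p = 1 := by
      have h1 : (⟨u, hu⟩ : P) ^ Nat.card P = 1 := pow_card_eq_one'
      rw [hPp] at h1
      simpa using congrArg Subtype.val h1
    have hyp : y ^ p = 1 := Subtype.ext (by
      have hc := (map_pow (MulAut.conj g⁻¹) u p).symm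
      simp only [hup, map_one, MulAut.conj_apply, inv_inv] at hc
      simpa [y] using hc)
    have hidx : ¬ p ∣ (P.subgroupOf N).index := fun hd =>
      hsyl (hd.trans (Subgroup.relIndex_dvd_index_of_le Subgroup.le_normalizer))
    have h1 : QuotientGroup.mk' (P.subgroupOf N) y = 1 := by
      rw [← orderOf_eq_one_iff, ← Nat.dvd_one]
      refine Nat.Coprime.dvd_of_dvd_mul_right ((?_ : Nat.Coprime _ p)) ?_
      · exact ((hp.out.coprime_iff_not_dvd.2 hidx).symm).coprime_dvd_left
          (by rw [Subgroup.index_eq_card]; exact orderOf_dvd_natCard _)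
      · rw [one_mul]
        exact orderOf_dvd_of_pow_eq_one (by rw [← map_pow, hyp, map_one])
    exact (QuotientGroup.eq_one_iff y).1 h1
  have heq : P.map (MulAut.conj g⁻¹).toMonoidHom = P :=
    Subgroup.eq_of_le_of_card_ge (by rintro _ ⟨u, hu, rfl⟩; simpa using hP u hu)
      (le_of_eq (Nat.card_congr (P.equivMapOfInjective _ (MulAut.conj g⁻¹).injective).toEquiv))
  rw [hN, Subgroup.mem_normalizer_iff]
  intro u
  constructor
  · intro hu
    obtain ⟨v, hv, hvu⟩ := (heq.symm ▸ hu : u ∈ P.map (MulAut.conj g⁻¹).toMonoidHom)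
    rw [← hvu]
    simpa [mul_assoc] using hv
  · intro hu
    simpa [mul_assoc] using hP _ hu

/-- An endomorphism commuting with `N(P)` of a simple module is a scalar modulo the image of the
norm on the vectors fixed by `P`. -/
theorem scalar_mod_nu [IsAlgClosed k] [FiniteDimensional k S] (hPp : Nat.card P = p)
    (hsyl : ¬ p ∣ P.index) (hirr : Irr σ) {φ : S →ₗ[k] S}
    (hφ : ∀ n ∈ Subgroup.normalizer (P : Set G), ∀ x, φ (σ n x) = σ n (φ x)) :
    ∃ c : k, ∀ y ∈ fixP P σ, φ y - c • y ∈ LinearMap.range (nu P σ) := by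
  classical
  set N := Subgroup.normalizer (P : Set G) with hN
  haveI : Fintype (G ⧸ N) := Fintype.ofFinite _
  let F : G ⧸ N → (S →ₗ[k] S) := fun t => cj σ t.out φ
  have hF : ∀ (a : G) (t : G ⧸ N), F (a • t) = cj σ a (F t) := by
    intro a t
    have h1 : (QuotientGroup.mk (a • t).out : G ⧸ N) = QuotientGroup.mk (a * t.out) := by
      rw [QuotientGroup.out_eq']
      conv_lhs => rw [← QuotientGroup.out_eq' t]
      rfl
    obtain ⟨n, hn, hn'⟩ : ∃ n ∈ N, (a • t).out = a * t.out * n :=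
      ⟨(a * t.out)⁻¹ * (a • t).out, QuotientGroup.eq.1 h1.symm, by group⟩
    show cj σ (a • t).out φ = _
    rw [hn', cj_mul, cj_of_comm σ (hφ n hn), cj_mul]
  have hint : Intw σ σ (∑ t, F t) := by
    intro g x
    rw [LinearMap.sum_apply, LinearMap.sum_apply, map_sum]
    refine Fintype.sum_equiv (MulAction.toPerm g⁻¹) _ _ fun t => ?_
    rw [MulAction.toPerm_apply, hF, cj_apply σ g⁻¹, inv_inv, rep_apply_inv]
  obtain ⟨c, hc⟩ := schur σ hirr hint
  refine ⟨c, fun y hy => ?_⟩
  set t₀ : G ⧸ N := QuotientGroup.mk 1 with ht₀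
  have h0 : F t₀ = φ := by
    have h1 : t₀.out ∈ N := by
      have := QuotientGroup.eq.1 (QuotientGroup.out_eq' t₀)
      simpa using this
    exact cj_of_comm σ (hφ _ h1)
  have hfix : ∀ t : G ⧸ N, (∀ u ∈ P, u • t = t) → t = t₀ := by
    intro t ht
    have h1 : t.out ∈ N := by
      refine mem_of_fixed_coset hPp hsyl fun u hu => ?_
      have h2 := ht u hu
      rw [← QuotientGroup.out_eq' t, MulAction.Quotient.smul_mk, QuotientGroup.eq] at h2
      have h3 := N.inv_mem h2
      simpa [mul_assoc, mul_inv_rev] using h3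
    rw [← QuotientGroup.out_eq' t, ht₀, QuotientGroup.eq]
    simpa using N.inv_mem h1
  have hfree : ∀ t : G ⧸ N, t ≠ t₀ → ∀ u : P, u • t = t → u = 1 := by
    intro t ht u hu
    by_contra hu1
    refine ht (hfix t fun v hv => ?_)
    have hmem : (⟨v, hv⟩ : P) ∈ MulAction.stabilizer P t := by
      haveI : Fact (Nat.card P).Prime := ⟨hPp.symm ▸ hp.out⟩
      rcases Subgroup.eq_bot_or_eq_top_of_prime_card (MulAction.stabilizer P t) with h | h
      · exact absurd ((Subgroup.eq_bot_iff_forall _).1 h u hu) hu1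
      · rw [h]; exact Subgroup.mem_top _
    exact hmem
  let w : G ⧸ N → k := fun t =>
    if (Quotient.mk'' t : MulAction.orbitRel.Quotient P (G ⧸ N)).out = t then 1 else 0
  have hw : ∀ t, t ≠ t₀ → ∑ u : P, w (u • t) = 1 := by
    intro t ht
    set q : MulAction.orbitRel.Quotient P (G ⧸ N) := Quotient.mk'' t
    obtain ⟨u₁, hu₁⟩ : q.out ∈ MulAction.orbit P t :=
      MulAction.orbitRel_apply.1 (Quotient.exact' (Quotient.out_eq' q))
    have hq : ∀ u : P, (Quotient.mk'' (u • t) : MulAction.orbitRel.Quotient P (G ⧸ N)) = q :=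
      fun u => Quotient.sound' ⟨u, rfl⟩
    simp only [w, hq]
    rw [Finset.sum_eq_single u₁ (fun u _ hu => if_neg fun h => hu ?_)
      (fun h => absurd (Finset.mem_univ _) h), if_pos hu₁.symm]
    have h2 : (u₁⁻¹ * u) • t = t := by
      rw [mul_smul, ← h, ← hu₁]
      exact inv_smul_smul u₁ t
    exact (inv_mul_eq_one.1 (hfree t ht _ h2)).symm
  set Ω := (Finset.univ : Finset (G ⧸ N)).erase t₀ with hΩ
  have hΩu : ∀ (u : P) (t : G ⧸ N), t ∈ Ω → u • t ∈ Ω := by
    intro u t ht
    rw [hΩ, Finset.mem_erase] at ht ⊢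
    refine ⟨fun h => ht.1 ?_, Finset.mem_univ _⟩
    have h3 : u⁻¹ • t₀ = t₀ := by
      show ((u⁻¹ : P) : G) • (QuotientGroup.mk 1 : G ⧸ N) = _
      rw [MulAction.Quotient.smul_mk, ht₀, QuotientGroup.eq]
      simpa using Subgroup.le_normalizer u.2
    rw [← inv_smul_smul u t, h, h3]
  have hrest : ∑ t ∈ Ω, F t y = nu P σ (∑ t ∈ Ω, w t • F t y) := by
    calc ∑ t ∈ Ω, F t y = ∑ t ∈ Ω, ∑ u : P, w (u • t) • F t y :=
          Finset.sum_congr rfl fun t ht => by
            rw [← Finset.sum_smul, hw t (Finset.ne_of_mem_erase ht), one_smul]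
      _ = ∑ u : P, ∑ t ∈ Ω, w t • F (u⁻¹ • t) y := by
          rw [Finset.sum_comm]
          refine Finset.sum_congr rfl fun u _ => ?_
          refine Finset.sum_bij' (fun t _ => u • t) (fun t _ => u⁻¹ • t) (fun t ht => hΩu u t ht)
            (fun t ht => hΩu u⁻¹ t ht) (fun t _ => inv_smul_smul u t)
            (fun t _ => smul_inv_smul u t) fun t _ => by rw [inv_smul_smul]
      _ = ∑ u : P, ∑ t ∈ Ω, w t • σ ((u⁻¹ : P) : G) (F t y) :=
          Finset.sum_congr rfl fun u _ => Finset.sum_congr rfl fun t _ => by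
            rw [show u⁻¹ • t = ((u⁻¹ : P) : G) • t from rfl, hF, cj_apply, hy _ (P.inv_mem (u⁻¹).2)]
      _ = _ := by
          rw [map_sum, Finset.sum_comm]
          refine Finset.sum_congr rfl fun t _ => ?_
          rw [map_smul, nu_apply, Finset.smul_sum]
          exact Fintype.sum_equiv (Equiv.inv P) _ _ fun u => rfl
  have hsum := hc y
  rw [LinearMap.sum_apply, ← Finset.add_sum_erase _ _ (Finset.mem_univ t₀), h0, hrest] at hsum
  refine ⟨-(∑ t ∈ Ω, w t • F t y), ?_⟩
  rw [map_neg, ← hsum]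
  abel

variable (P) in
/-- The average over `N(P)/P` of an endomorphism commuting with `P`. -/
noncomputable def avg (φ : S →ₗ[k] S) : S →ₗ[k] S :=
  ((P.relIndex (Subgroup.normalizer (P : Set G)) : ℕ) : k)⁻¹ •
    ∑ t : Subgroup.normalizer (P : Set G) ⧸ P.subgroupOf (Subgroup.normalizer (P : Set G)),
      cj σ (t.out : G) φ

theorem relIndex_cast_ne_zero (hsyl : ¬ p ∣ P.index) :
    ((P.relIndex (Subgroup.normalizer (P : Set G)) : ℕ) : k) ≠ 0 := by
  rw [Ne, CharP.cast_eq_zero_iff k p]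
  exact fun hd => hsyl (hd.trans (Subgroup.relIndex_dvd_index_of_le Subgroup.le_normalizer))

theorem avg_comm {φ : S →ₗ[k] S} (hφ : ∀ u ∈ P, ∀ x, φ (σ u x) = σ u (φ x)) :
    ∀ n ∈ Subgroup.normalizer (P : Set G), ∀ x, avg P σ φ (σ n x) = σ n (avg P σ φ x) := by
  classical
  intro n hn x
  set N := Subgroup.normalizer (P : Set G) with hN
  simp only [avg, LinearMap.smul_apply, LinearMap.sum_apply, map_smul, map_sum]
  congr 1
  refine Fintype.sum_equiv (MulAction.toPerm (⟨n, hn⟩ : N)⁻¹) _ _ fun t => ?_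
  rw [MulAction.toPerm_apply]
  obtain ⟨u, hu, hu'⟩ : ∃ u ∈ P, (((⟨n, hn⟩ : N)⁻¹ • t).out : G) = n⁻¹ * t.out * u := by
    have h1 : (QuotientGroup.mk ((⟨n, hn⟩ : N)⁻¹ • t).out : N ⧸ P.subgroupOf N) =
        QuotientGroup.mk ((⟨n, hn⟩ : N)⁻¹ * t.out) := by
      rw [QuotientGroup.out_eq']
      conv_lhs => rw [← QuotientGroup.out_eq' t]
      rfl
    have h2 : ((⟨n, hn⟩ : N)⁻¹ * t.out)⁻¹ * ((⟨n, hn⟩ : N)⁻¹ • t).out ∈ P.subgroupOf N :=
      QuotientGroup.eq.1 h1.symm
    refine ⟨_, h2, ?_⟩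
    simp [mul_assoc]
  rw [hu', cj_mul, cj_of_comm σ (hφ u hu), cj_mul, cj_apply σ n⁻¹, inv_inv, rep_apply_inv]

theorem avg_mem (hsyl : ¬ p ∣ P.index) {φ : S →ₗ[k] S} {U Y : Submodule k S}
    (hU : ∀ n ∈ Subgroup.normalizer (P : Set G), ∀ x ∈ U, σ n x ∈ U)
    (hY : ∀ n ∈ Subgroup.normalizer (P : Set G), ∀ x ∈ Y, σ n x ∈ Y)
    (hφ : ∀ x ∈ U, φ x - x ∈ Y) : ∀ x ∈ U, avg P σ φ x - x ∈ Y := by
  classical
  intro x hx
  have hm := relIndex_cast_ne_zero (k := k) (p := p) hsyl
  have hx' : x = ((P.relIndex (Subgroup.normalizer (P : Set G)) : ℕ) : k)⁻¹ •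
      ∑ _t : Subgroup.normalizer (P : Set G) ⧸ P.subgroupOf (Subgroup.normalizer (P : Set G)),
        x := by
    rw [Finset.sum_const, Finset.card_univ, ← Nat.cast_smul_eq_nsmul k, smul_smul,
      ← Nat.card_eq_fintype_card, ← Subgroup.index_eq_card]
    exact (by rw [Subgroup.relIndex] at hm ⊢; rw [inv_mul_cancel₀ hm, one_smul])
  simp only [avg, LinearMap.smul_apply, LinearMap.sum_apply]
  nth_rewrite 2 [hx']
  rw [← smul_sub, ← Finset.sum_sub_distrib]
  refine Y.smul_mem _ (Y.sum_mem fun t _ => ?_)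
  have h1 : σ ((t.out : G)⁻¹) x ∈ U := hU _ (inv_mem t.out.2) x hx
  have h2 := hY _ t.out.2 _ (hφ _ h1)
  rwa [map_sub, rep_apply_inv] at h2

theorem avg_range {φ : S →ₗ[k] S} {A U : Submodule k S}
    (hA : ∀ n ∈ Subgroup.normalizer (P : Set G), ∀ x ∈ A, σ n x ∈ A)
    (hU : ∀ n ∈ Subgroup.normalizer (P : Set G), ∀ x ∈ U, σ n x ∈ U)
    (hφ : ∀ x ∈ A, φ x ∈ U) : ∀ x ∈ A, avg P σ φ x ∈ U := by
  classical
  intro x hx
  simp only [avg, LinearMap.smul_apply, LinearMap.sum_apply]
  exact U.smul_mem _ (U.sum_mem fun t _ =>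
    hU _ t.out.2 _ (hφ _ (hA _ (inv_mem t.out.2) x hx)))

end normalizer

section layers

open scoped Classical
open Polynomial

variable {G : Type u} [Group G] [Fintype G] {k : Type v} [Field k]
variable {p : ℕ} [hp : Fact p.Prime] [CharP k p] {P : Subgroup G}
variable {S : Type*} [AddCommGroup S] [Module k S] (σ : G →* Module.End k S)

theorem exists_pow_generator (hPp : Nat.card P = p) {u : G} (hu : u ∈ P) (hu1 : u ≠ 1) {v : G}
    (hv : v ∈ P) : ∃ i, i < p ∧ u ^ i = v := by
  haveI : Fact (Nat.card P).Prime := ⟨hPp.symm ▸ hp.out⟩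
  have h : orderOf u = p := by
    rw [← Subgroup.orderOf_mk u hu]
    exact ((Nat.dvd_prime hp.out).1 (hPp ▸ orderOf_dvd_natCard _)).resolve_left
      (fun h => hu1 (congrArg Subtype.val (orderOf_eq_one_iff.1 h)))
  have hz : (⟨v, hv⟩ : P) ∈ Submonoid.powers (⟨u, hu⟩ : P) := by
    rw [mem_powers_iff_mem_zpowers]
    rw [zpowers_eq_top_of_prime_card (G := P) rfl (fun h => hu1 (congrArg Subtype.val h))]
    exact Subgroup.mem_top _
  obtain ⟨j, hj⟩ := hz
  refine ⟨j % p, Nat.mod_lt _ hp.out.pos, ?_⟩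
  rw [← h, pow_mod_orderOf]
  simpa using congrArg Subtype.val hj

theorem nu_eq_pow (hPp : Nat.card P = p) {u : G} (hu : u ∈ P) (hu1 : u ≠ 1) :
    nu P σ = (σ u - 1) ^ (p - 1) := by
  have hpoly : (X - 1 : k[X]) ^ (p - 1) = ∑ i ∈ Finset.range p, X ^ i := by
    refine mul_right_cancel₀ (b := (X - 1 : k[X])) (by simpa using X_sub_C_ne_zero (1 : k)) ?_
    rw [← pow_succ, Nat.sub_add_cancel hp.out.pos, geom_sum_mul, sub_pow_char, one_pow]
  have h1 := congrArg (aeval (σ u)) hpoly
  simp only [map_pow, map_sub, aeval_X, map_one, map_sum] at h1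
  rw [h1, nu]
  refine (Finset.sum_bij (fun (i : ℕ) _ => (⟨u ^ i, pow_mem hu i⟩ : P))
    (fun i _ => Finset.mem_univ _) (fun i hi j hj h => ?_) (fun v _ => ?_)
    fun i _ => (map_pow σ u i).symm).symm
  · have ho : orderOf u = p := by
      rw [← Subgroup.orderOf_mk u hu]
      exact ((Nat.dvd_prime hp.out).1 (hPp ▸ orderOf_dvd_natCard _)).resolve_left
        (fun h => hu1 (congrArg Subtype.val (orderOf_eq_one_iff.1 h)))
    have := congrArg Subtype.val h
    exact pow_injOn_Iio_orderOf (by simpa [ho] using hi) (by simpa [ho] using hj) this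
  · obtain ⟨i, hi, hiv⟩ := exists_pow_generator hPp hu hu1 v.2
    exact ⟨i, Finset.mem_range.2 hi, Subtype.ext hiv⟩

theorem range_pow_normalizer (hPp : Nat.card P = p) {u : G} (hu : u ∈ P) (hu1 : u ≠ 1) (r : ℕ)
    {n : G} (hn : n ∈ Subgroup.normalizer (P : Set G)) :
    ∀ x ∈ LinearMap.range ((σ u - 1) ^ r), σ n x ∈ LinearMap.range ((σ u - 1) ^ r) := by
  obtain ⟨a, -, ha⟩ := exists_pow_generator hPp hu hu1
    ((Subgroup.mem_normalizer_iff.1 hn u).1 hu)
  set Q : Module.End k S := ∑ i ∈ Finset.range a, (σ u) ^ i with hQ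
  have hkey : ∀ z, σ n ((σ u - 1) z) = (σ u - 1) (Q (σ n z)) := by
    intro z
    rw [← Module.End.mul_apply (σ u - 1) Q, hQ, mul_geom_sum, ← map_pow, ha]
    simp only [LinearMap.sub_apply, Module.End.one_apply, map_sub]
    rw [map_mul, map_mul, Module.End.mul_apply, Module.End.mul_apply, rep_inv_apply]
  have hcomm : ∀ (r : ℕ) (z : S), Q (((σ u - 1) ^ r) z) = ((σ u - 1) ^ r) (Q z) := fun r z => by
    rw [← Module.End.mul_apply, ← Module.End.mul_apply]
    refine congrArg (fun f : Module.End k S => f z) ?_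
    exact ((Commute.sum_left _ _ _ fun i _ => (((Commute.refl (σ u)).sub_right
      (Commute.one_right _)).pow_left i)).pow_right r).eq
  induction r with
  | zero => intro x _; exact ⟨σ n x, by simp⟩
  | succ r ih =>
    rintro x ⟨z, rfl⟩
    obtain ⟨z', hz'⟩ := ih _ (LinearMap.mem_range_self _ z)
    refine ⟨Q z', ?_⟩
    rw [pow_succ', Module.End.mul_apply, Module.End.mul_apply, hkey, ← hz', hcomm]

/-- A map commuting with `N(P)` is constant on the stable socle of a simple module. -/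
theorem constant_on_socle [IsAlgClosed k] [FiniteDimensional k S] (hPp : Nat.card P = p)
    (hsyl : ¬ p ∣ P.index) (hirr : Irr σ) (Z : S →ₗ[k] S)
    (hZ : ∀ n ∈ Subgroup.normalizer (P : Set G), ∀ x ∈ fixP P σ, Z (σ n x) = σ n (Z x))
    (hZnu : ∀ d, Z (nu P σ d) ∈ LinearMap.range (nu P σ)) {x y : S}
    (hx : x ∈ fixP P σ) (hy : y ∈ fixP P σ) (hxn : x ∉ LinearMap.range (nu P σ)) (hZx : Z x = x)
    (hZy : Z y = 0) : y ∈ LinearMap.range (nu P σ) := by
  obtain ⟨u, hu, hu1⟩ : ∃ u ∈ P, u ≠ 1 := by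
    refine P.bot_or_exists_ne_one.resolve_left fun h => ?_
    have := hPp
    rw [h, Subgroup.card_bot] at this
    exact hp.out.ne_one this.symm
  set D : Module.End k S := σ u - 1 with hD
  have hnu : nu P σ = D ^ (p - 1) := nu_eq_pow σ hPp hu hu1
  have hDfix : ∀ w, w ∈ fixP P σ ↔ D w = 0 := by
    intro w
    constructor
    · intro hw
      simp [D, hw u hu]
    · intro hw v hv
      obtain ⟨i, -, rfl⟩ := exists_pow_generator hPp hu hu1 hv
      have hw' : σ u w = w := by simpa [D, sub_eq_zero] using hw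
      induction i with
      | zero => simp
      | succ i ih => rw [pow_succ, map_mul, Module.End.mul_apply, hw', ih (pow_mem hu i)]
  set Y := LinearMap.range (nu P σ) with hY
  let fx : Submodule k S := LinearMap.ker (Z - LinearMap.id)
  have hfx : ∀ w, w ∈ fx ↔ Z w = w := fun w => by simp [fx, sub_eq_zero]
  let Good : ℕ → Prop := fun r =>
    ∃ x' ∈ fixP P σ, x' ∈ LinearMap.range (D ^ r) ∧ Z x' = x' ∧ x' ∉ Y
  have hp2 : p - 2 + 1 = p - 1 := by have := hp.out.two_le; omega
  obtain ⟨r, hr, ⟨x', hx'A, hx'r, hx'Z, hx'Y⟩, hmax⟩ : ∃ r, r ≤ p - 2 ∧ Good r ∧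
      ¬ Good (r + 1) := by
    have h0 : Good 0 := ⟨x, hx, ⟨x, by simp⟩, hZx, hxn⟩
    refine ⟨Nat.findGreatest Good (p - 2), Nat.findGreatest_le _,
      Nat.findGreatest_spec (Nat.zero_le _) h0, fun h => ?_⟩
    rcases Nat.lt_or_ge (Nat.findGreatest Good (p - 2)) (p - 2) with h1 | h1
    · have := Nat.le_findGreatest (Nat.succ_le_of_lt h1) h
      omega
    · have h2 : Nat.findGreatest Good (p - 2) + 1 = p - 1 := by
        have := Nat.findGreatest_le (P := Good) (p - 2)
        omega
      obtain ⟨z, -, hzr, -, hzY⟩ := h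
      rw [h2, ← hnu] at hzr
      exact hzY hzr
  set U := fixP P σ ⊓ LinearMap.range (D ^ r) ⊓ fx with hU
  have hUinv : ∀ n ∈ Subgroup.normalizer (P : Set G), ∀ w ∈ U, σ n w ∈ U := by
    intro n hn w hw
    simp only [U, Submodule.mem_inf, hfx] at hw ⊢
    exact ⟨⟨fixP_normalizer σ hn hw.1.1, range_pow_normalizer σ hPp hu hu1 r hn _ hw.1.2⟩,
      by rw [hZ n hn w hw.1.1, hw.2]⟩
  have hYinv : ∀ n ∈ Subgroup.normalizer (P : Set G), ∀ w ∈ Y, σ n w ∈ Y := by
    rintro n hn w ⟨z, rfl⟩
    exact ⟨σ n z, (nu_normalizer σ hn z).symm⟩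
  set R := LinearMap.range (D ^ (r + 1)) with hR
  have hUR : U ⊓ R ≤ Y := fun w hw => by
    by_contra hwY
    simp only [U, Submodule.mem_inf, hfx] at hw
    exact hmax ⟨w, hw.1.1.1, hw.2, hw.1.2, hwY⟩
  -- a map killing `R`, with values in `U`, the identity on `U` modulo `Y`
  obtain ⟨W, hW⟩ := (Submodule.comap U.subtype R).exists_isCompl
  let W' := W.map U.subtype
  have hdisj : Disjoint W' R := by
    rw [Submodule.disjoint_def]
    rintro _ ⟨a, ha, rfl⟩ haR
    have h0 : a ∈ (Submodule.comap U.subtype R) ⊓ W := ⟨haR, ha⟩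
    rw [hW.disjoint.eq_bot, Submodule.mem_bot] at h0
    simp [h0]
  obtain ⟨R', hR'⟩ := (W' ⊔ R).exists_isCompl
  have hc : IsCompl W' (R ⊔ R') := by
    refine ⟨Submodule.disjoint_def.2 fun w hw hw' => ?_, ?_⟩
    · obtain ⟨a, ha, b, hb, hab⟩ := Submodule.mem_sup.1 hw'
      have hb0 : b = 0 := Submodule.disjoint_def.1 hR'.disjoint b (by
        rw [show b = w - a by rw [← hab]; abel]
        exact Submodule.sub_mem _ (Submodule.mem_sup_left hw) (Submodule.mem_sup_right ha)) hb
      rw [hb0, add_zero] at hab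
      exact Submodule.disjoint_def.1 hdisj w hw (hab ▸ ha)
    · rw [codisjoint_iff, ← sup_assoc]
      exact hR'.codisjoint.eq_top
  let π : S →ₗ[k] S := W'.subtype ∘ₗ W'.projectionOnto (R ⊔ R') hc
  have hπR : ∀ w ∈ R, π w = 0 := fun w hw => by
    exact congrArg Subtype.val
      (Submodule.projectionOnto_apply_right hc ⟨w, Submodule.mem_sup_left hw⟩)
  have hπW : ∀ w ∈ W', π w = w := fun w hw => by
    exact congrArg Subtype.val (Submodule.projectionOnto_apply_left hc ⟨w, hw⟩)
  have hπU : ∀ w, π w ∈ U := fun w => by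
    obtain ⟨a, -, ha⟩ := (W'.projectionOnto (R ⊔ R') hc w).2
    show ((W'.projectionOnto (R ⊔ R') hc w : W') : S) ∈ U
    rw [← ha]
    exact a.2
  have hπid : ∀ w ∈ U, π w - w ∈ Y := by
    intro w hw
    have : (⟨w, hw⟩ : U) ∈ Submodule.comap U.subtype R ⊔ W := by
      rw [hW.codisjoint.eq_top]; exact Submodule.mem_top
    obtain ⟨a, ha, b, hb, hab⟩ := Submodule.mem_sup.1 this
    have hab' : w = (a : S) + (b : S) := (congrArg Subtype.val hab).symm
    rw [hab', map_add, hπR (a : S) ha, zero_add, hπW (b : S) ⟨b, hb, rfl⟩]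
    rw [show (b : S) - ((a : S) + b) = -(a : S) by abel]
    exact Y.neg_mem (hUR ⟨a.2, ha⟩)
  -- lift through `D ^ r`
  obtain ⟨lift, hlift⟩ := (D ^ r).rangeRestrict.exists_rightInverse_of_surjective
    (LinearMap.range_rangeRestrict _)
  let T : S →ₗ[k] S := lift ∘ₗ LinearMap.codRestrict (LinearMap.range (D ^ r)) π
    (fun w => (Submodule.mem_inf.1 (Submodule.mem_inf.1 (hπU w)).1).2)
  have hT : ∀ w, (D ^ r) (T w) = π w := fun w =>
    congrArg Subtype.val (LinearMap.congr_fun hlift _)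
  have hTR : ∀ w ∈ R, T w = 0 := fun w hw => by
    show lift ⟨π w, _⟩ = 0
    rw [show (⟨π w, _⟩ : LinearMap.range (D ^ r)) = 0 from Subtype.ext (hπR w hw), map_zero]
  have hTD : ∀ w, (D ^ (r + 1)) (T w) = 0 := fun w => by
    rw [pow_succ', Module.End.mul_apply, hT]
    exact (hDfix _).1 (Submodule.mem_inf.1 (Submodule.mem_inf.1 (hπU w)).1).1
  let φ₀ : S →ₗ[k] S := ∑ i ∈ Finset.range (r + 1), (D ^ i) ∘ₗ T ∘ₗ (D ^ (r - i))
  have hφD : ∀ w, φ₀ (D w) = D (φ₀ w) := by
    intro w
    simp only [φ₀, LinearMap.sum_apply, LinearMap.comp_apply, map_sum]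
    rw [Finset.sum_range_succ' _ r, Finset.sum_range_succ _ r,
      show (D ^ (r - 0)) (D w) = (D ^ (r + 1)) w by rw [Nat.sub_zero, pow_succ, Module.End.mul_apply],
      hTR _ (LinearMap.mem_range_self _ w), map_zero, add_zero,
      show D ((D ^ r) (T ((D ^ (r - r)) w))) = 0 by
        rw [Nat.sub_self, pow_zero, Module.End.one_apply, ← Module.End.mul_apply, ← pow_succ', hTD],
      add_zero]
    refine Finset.sum_congr rfl fun i hi => ?_
    rw [← Module.End.mul_apply D, ← pow_succ',
      ← Module.End.mul_apply (D ^ (r - (i + 1))) D, ← pow_succ,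
      show r - (i + 1) + 1 = r - i by have := Finset.mem_range.1 hi; omega]
  have hφP : ∀ v ∈ P, ∀ w, φ₀ (σ v w) = σ v (φ₀ w) := by
    intro v hv
    obtain ⟨i, -, rfl⟩ := exists_pow_generator hPp hu hu1 hv
    induction i with
    | zero => simp
    | succ i ih =>
      intro w
      have h1 : ∀ z, σ u z = D z + z := fun z => by simp [D]
      rw [pow_succ, map_mul, Module.End.mul_apply, Module.End.mul_apply, ih (pow_mem hu i), h1,
        map_add, hφD, ← h1]
  have hφA : ∀ w ∈ fixP P σ, φ₀ w = π w := by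
    intro w hw
    simp only [φ₀, LinearMap.sum_apply, LinearMap.comp_apply]
    rw [Finset.sum_range_succ, Nat.sub_self, pow_zero, Module.End.one_apply, hT,
      Finset.sum_eq_zero fun i hi => ?_, zero_add]
    obtain ⟨j, hj⟩ : ∃ j, r - i = j + 1 :=
      ⟨r - i - 1, by have := Finset.mem_range.1 hi; omega⟩
    rw [hj, pow_succ, Module.End.mul_apply, (hDfix w).1 hw, map_zero, map_zero, map_zero]
  obtain ⟨c, hc'⟩ := scalar_mod_nu σ hPp hsyl hirr (avg_comm σ hφP)
  have havgU : ∀ w ∈ fixP P σ, avg P σ φ₀ w ∈ U :=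
    avg_range σ (fun n hn w hw => fixP_normalizer σ hn hw) hUinv fun w hw => hφA w hw ▸ hπU w
  have havg1 : ∀ w ∈ U, avg P σ φ₀ w - w ∈ Y :=
    avg_mem σ hsyl hUinv hYinv fun w hw =>
      hφA w (Submodule.mem_inf.1 (Submodule.mem_inf.1 hw).1).1 ▸ hπid w hw
  have hx'U : x' ∈ U := by
    simp only [U, Submodule.mem_inf, hfx]
    exact ⟨⟨hx'A, hx'r⟩, hx'Z⟩
  have hc1 : c = 1 := by
    by_contra hc1
    refine hx'Y ?_
    have h := Y.smul_mem (1 - c)⁻¹ (Y.sub_mem (hc' x' hx'A) (havg1 x' hx'U))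
    rwa [show avg P σ φ₀ x' - c • x' - (avg P σ φ₀ x' - x') = (1 - c) • x' by
      rw [sub_smul, one_smul]; abel, smul_smul, inv_mul_cancel₀ (sub_ne_zero.2 (Ne.symm hc1)),
      one_smul] at h
  obtain ⟨d, hd⟩ := hc' y hy
  rw [hc1, one_smul] at hd
  have hv : Z (avg P σ φ₀ y) = avg P σ φ₀ y :=
    (hfx _).1 (Submodule.mem_inf.1 (havgU y hy)).2
  have hy' : y = avg P σ φ₀ y - nu P σ d := by rw [hd]; abel
  have h2 : avg P σ φ₀ y = Z (nu P σ d) := by
    conv_lhs => rw [← hv]
    rw [show avg P σ φ₀ y = y + nu P σ d by rw [hd]; abel, map_add, hZy, zero_add]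
  rw [hy', h2]
  exact Y.sub_mem (hZnu d) (LinearMap.mem_range_self _ d)

end layers

section existence

open scoped Classical

variable {G : Type u} [Group G] [Fintype G] {k : Type v} [Field k]
variable {p : ℕ} [hp : Fact p.Prime] [CharP k p] {P : Subgroup G}

/-- A module of the normalizer with trivial `P`, on which the truncation of a central idempotent
function is the identity, maps into the stable socle of a simple module fixed by the idempotent. -/
theorem exists_simple_socle (hPp : Nat.card P = p) (hsyl : ¬ p ∣ P.index) {E : G → k}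
    (hE : ∀ g t : G, E (t * g * t⁻¹) = E g) (hEE : ∀ g, ∑ h, E h * E (h⁻¹ * g) = E g)
    {W : Type w} [AddCommGroup W] [Module k W] [FiniteDimensional k W] [Nontrivial W]
    {N : Subgroup G} [Fintype N] (hN : N = Subgroup.normalizer (P : Set G))
    (τ : N →* Module.End k W)
    (hτP : ∀ n : N, (n : G) ∈ P → τ n = 1)
    (hτE : ∀ v, act τ (fun n : N =>
      if (n : G) ∈ Subgroup.centralizer (P : Set G) then E n else 0) v = v) :
    ∃ (S : Type (max u w)) (_ : AddCommGroup S) (_ : Module k S) (_ : FiniteDimensional k S)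
      (σ : G →* Module.End k S) (φ : W →ₗ[k] S), Irr σ ∧ (∀ x, act σ E x = x) ∧
        (∀ (n : N) (v : W), φ (τ n v) = σ (n : G) (φ v)) ∧
        (∀ v, φ v ∈ fixP P σ) ∧ ∃ v, φ v ∉ LinearMap.range (nu P σ) := by
  have hPN : P ≤ N := hN ▸ Subgroup.le_normalizer
  haveI : Fact (Nat.card P).Prime := ⟨hPp.symm ▸ hp.out⟩
  let V : Submodule k (G → W) :=
    { carrier := {f | ∀ (n : N) (g : G), f ((n : G) * g) = τ n (f g)}
      add_mem' := fun ha hb n g => by simp [ha n g, hb n g]
      zero_mem' := fun n g => by simp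
      smul_mem' := fun c x hx n g => by simp [hx n g] }
  haveI : FiniteDimensional k V := inferInstance
  let ρ : G →* Module.End k V :=
    { toFun := fun g =>
        { toFun := fun f => ⟨fun x => (f : G → W) (x * g), fun n x => by
            show (f : G → W) ((n : G) * x * g) = _
            rw [mul_assoc]
            exact f.2 n (x * g)⟩
          map_add' := fun a b => rfl
          map_smul' := fun c a => rfl }
      map_one' := LinearMap.ext fun f => Subtype.ext (funext fun x => congrArg _ (mul_one x))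
      map_mul' := fun a b => LinearMap.ext fun f => Subtype.ext (funext fun x =>
        congrArg (f : G → W) (mul_assoc x a b).symm) }
  have hρ : ∀ (g : G) (f : V) (x : G), (ρ g f : G → W) x = (f : G → W) (x * g) := fun _ _ _ => rfl
  let ι : W →ₗ[k] V :=
    { toFun := fun v => ⟨fun g => if h : g ∈ N then τ ⟨g, h⟩ v else 0, fun n g => by
        simp only []
        by_cases hg : g ∈ N
        · rw [dif_pos hg, dif_pos (N.mul_mem n.2 hg), ← Module.End.mul_apply, ← map_mul]
          rfl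
        · rw [dif_neg hg, dif_neg (fun h => hg ((N.mul_mem_cancel_left n.2).1 h)), map_zero]⟩
      map_add' := fun a b => Subtype.ext (funext fun g => by by_cases hg : g ∈ N <;> simp [hg])
      map_smul' := fun c a => Subtype.ext (funext fun g => by by_cases hg : g ∈ N <;> simp [hg]) }
  have hιN : ∀ (v : W) (n : N), (ι v : G → W) n = τ n v := fun v n => dif_pos n.2
  have hι0 : ∀ (v : W) (g : G), g ∉ N → (ι v : G → W) g = 0 := fun v g hg => dif_neg hg
  let π : V →ₗ[k] W := (LinearMap.proj (R := k) (φ := fun _ : G => W) 1) ∘ₗ V.subtype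
  have hρι : ∀ (n : N) (v : W), ρ (n : G) (ι v) = ι (τ n v) := by
    intro n v
    refine Subtype.ext (funext fun x => ?_)
    rw [hρ]
    by_cases hx : x ∈ N
    · have := hιN v ((⟨x, hx⟩ : N) * n)
      rw [map_mul, Module.End.mul_apply] at this
      exact this.trans (hιN (τ n v) ⟨x, hx⟩).symm
    · rw [hι0 _ _ (fun h => hx ((N.mul_mem_cancel_right n.2).1 h)), hι0 _ _ hx]
  set e : V →ₗ[k] V := act ρ E with he
  have hee : ∀ x, e (e x) = e x := act_idem ρ hEE
  have hπeι : ∀ v, π (e (ι v)) = v := by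
    intro v
    refine Eq.trans ?_ (hτE v)
    rw [he, act_apply, map_sum, act_apply]
    simp only [map_smul, π, LinearMap.comp_apply, Submodule.subtype_apply, LinearMap.proj_apply,
      hρ, one_mul]
    rw [← Finset.sum_subset (Finset.subset_univ (Finset.univ.filter (· ∈ N)))
      (fun g _ hg => by rw [hι0 _ _ (by simpa using hg), smul_zero]),
      Finset.sum_subtype (p := fun g => g ∈ N) (Finset.univ.filter (· ∈ N)) (fun g => by simp)]
    letI : MulAction P N :=
      { smul := fun u n => ⟨(u : G) * n * (u : G)⁻¹, N.mul_mem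
          (N.mul_mem (hPN u.2) n.2) (N.inv_mem (hPN u.2))⟩
        one_smul := fun n => Subtype.ext (show (1 : G) * n * 1⁻¹ = n by group)
        mul_smul := fun a b n => Subtype.ext (show (a : G) * b * n * ((a : G) * b)⁻¹ =
          (a : G) * ((b : G) * n * (b : G)⁻¹) * (a : G)⁻¹ by group) }
    have hfix : ∀ n : N, n ∈ MulAction.fixedPoints P N ↔
        (n : G) ∈ Subgroup.centralizer (P : Set G) := by
      intro n
      rw [MulAction.mem_fixedPoints, Subgroup.mem_centralizer_iff]
      exact ⟨fun h u hu => mul_inv_eq_iff_eq_mul.1 (congrArg Subtype.val (h ⟨u, hu⟩)),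
        fun h u => Subtype.ext (mul_inv_eq_iff_eq_mul.2 (h u u.2))⟩
    rw [sum_eq_sum_fixed (p := p) (fun z : W => by rw [← Nat.cast_smul_eq_nsmul k,
      CharP.cast_eq_zero, zero_smul]) (IsPGroup.of_card (by rw [hPp, pow_one]))
      (fun n : N => E n • (ι v : G → W) n) (fun u n => ?_), finsum_mem_eq_toFinset_sum,
      Finset.sum_congr rfl fun n _ => by rw [hιN]]
    · rw [← Finset.sum_filter_add_sum_filter_not Finset.univ
        (fun n : N => (n : G) ∈ Subgroup.centralizer (P : Set G))]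
      rw [Finset.sum_eq_zero (s := Finset.univ.filter fun n : N =>
        ¬ (n : G) ∈ Subgroup.centralizer (P : Set G)) fun n hn => by
          rw [if_neg (Finset.mem_filter.1 hn).2, zero_smul], add_zero]
      refine Finset.sum_congr ?_ fun n hn => by rw [if_pos (Finset.mem_filter.1 hn).2]
      ext n
      simp [hfix]
    · have h1 : ((u • n : N)) = (⟨(u : G), hPN u.2⟩ : N) * n *
          (⟨(u : G), hPN u.2⟩ : N)⁻¹ := rfl
      rw [hιN, hιN, h1]
      congr 1
      · exact hE n u
      · rw [map_mul, map_mul, hτP (⟨(u : G), hPN u.2⟩ : N) u.2,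
          hτP ((⟨(u : G), hPN u.2⟩ : N)⁻¹) (P.inv_mem u.2)]
        simp
  have hnt : ¬ ∃ ψ : V →ₗ[k] V, tr ρ ρ ψ = e := by
    rintro ⟨ψ, hψ⟩
    obtain ⟨v, hv⟩ := exists_ne (0 : W)
    refine hv ?_
    rw [← hπeι v, ← hψ, tr_apply, map_sum]
    rw [sum_eq_sum_fixed (p := p) (P := P) (fun z : W => by rw [← Nat.cast_smul_eq_nsmul k,
      CharP.cast_eq_zero, zero_smul]) (IsPGroup.of_card (by rw [hPp, pow_one])) _ (fun u g => ?_)]
    · rw [finsum_mem_congr (Set.eq_empty_of_forall_notMem fun g hg => ?_) (fun _ _ => rfl),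
        finsum_mem_empty]
      obtain ⟨u, hu1⟩ : ∃ u : P, u ≠ 1 := by
        haveI : Nontrivial P := Finite.one_lt_card_iff_nontrivial.1 (hPp.symm ▸ hp.out.one_lt)
        exact exists_ne _
      exact hu1 (Subtype.ext (mul_eq_right.1 (hg u)))
    · show π (ρ ((u : G) * g) (ψ (ρ ((u : G) * g)⁻¹ (ι v)))) = π (ρ g (ψ (ρ g⁻¹ (ι v))))
      have hu : (u : G) ∈ N := hPN u.2
      have h1 : ρ ((u : G) * g)⁻¹ (ι v) = ρ g⁻¹ (ι v) := by
        rw [mul_inv_rev, map_mul, Module.End.mul_apply]
        refine congrArg _ ?_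
        have := hρι (⟨(u : G), hu⟩⁻¹ : N) v
        rw [hτP _ (P.inv_mem u.2), Module.End.one_apply] at this
        exact this
      rw [h1]
      simp only [π, LinearMap.comp_apply, Submodule.subtype_apply, LinearMap.proj_apply, hρ,
        one_mul]
      rw [(ψ _).2 ⟨(u : G), hu⟩ g, hτP _ u.2, Module.End.one_apply]
  obtain ⟨S, i1, i2, i3, σ, f, hf, hirr, hsurj, hfe, hft⟩ :=
    exists_simple_map ρ (act_classFun ρ hE) hee hnt
  refine ⟨S, i1, i2, i3, σ, f ∘ₗ ι, hirr, fun x => ?_, fun n v => ?_, fun v u hu => ?_, ?_⟩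
  · obtain ⟨z, rfl⟩ := hsurj x
    rw [← hf.act ρ σ E z, hfe]
  · simp only [LinearMap.comp_apply]
    rw [← hρι, hf]
  · simp only [LinearMap.comp_apply]
    rw [← hf, hρι ⟨u, hPN hu⟩, hτP _ hu, Module.End.one_apply]
  · by_contra hall
    push Not at hall
    refine hft ?_
    obtain ⟨lift, hlift⟩ := (nu P σ).rangeRestrict.exists_rightInverse_of_surjective
      (LinearMap.range_rangeRestrict _)
    let ψ₀ : W →ₗ[k] S := lift ∘ₗ LinearMap.codRestrict _ (f ∘ₗ ι) hall
    have hψ₀ : ∀ v, nu P σ (ψ₀ v) = f (ι v) := fun v =>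
      congrArg Subtype.val (LinearMap.congr_fun hlift _)
    set m : k := ((P.relIndex N : ℕ) : k) with hm
    have hm0 : m ≠ 0 := by rw [hm, hN]; exact relIndex_cast_ne_zero (p := p) hsyl
    let ψ : W →ₗ[k] S := m⁻¹ • ψ₀
    have hkey : ∀ v, f (ι v) = ∑ n : N, σ (n : G) (ψ (τ n⁻¹ v)) := by
      intro v
      rw [← sum_coset_mul (P.subgroupOf N)]
      have h1 : ∀ t : N ⧸ P.subgroupOf N, ∑ u : P.subgroupOf N,
          σ ((t.out * (u : N) : N) : G) (ψ (τ (t.out * (u : N))⁻¹ v)) = m⁻¹ • f (ι v) := by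
        intro t
        calc ∑ u : P.subgroupOf N, σ ((t.out * (u : N) : N) : G) (ψ (τ (t.out * (u : N))⁻¹ v))
            = σ (t.out : G) (∑ u : P, σ (u : G) (ψ (τ t.out⁻¹ v))) := by
              rw [map_sum]
              refine Fintype.sum_equiv (Subgroup.subgroupOfEquivOfLe hPN).toEquiv
                _ _ fun u => ?_
              rw [mul_inv_rev, map_mul τ, hτP (u : N)⁻¹ (P.inv_mem u.2), Subgroup.coe_mul,
                map_mul]
              simp
          _ = m⁻¹ • f (ι v) := by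
              rw [← nu_apply]
              simp only [ψ, LinearMap.smul_apply, map_smul]
              rw [hψ₀, ← hf, hρι, ← Module.End.mul_apply, ← map_mul, mul_inv_cancel, map_one,
                Module.End.one_apply]
      rw [Finset.sum_congr rfl fun t _ => h1 t, Finset.sum_const, Finset.card_univ,
        ← Nat.cast_smul_eq_nsmul k, smul_smul, ← Nat.card_eq_fintype_card,
        ← Subgroup.index_eq_card]
      show _ = (m * m⁻¹) • _
      rw [mul_inv_cancel₀ hm0, one_smul]
    refine ⟨ψ ∘ₗ π, LinearMap.ext fun x => ?_⟩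
    -- coset representatives
    let rp : G → Prop := fun g =>
      (Quotient.mk'' g : Quotient (QuotientGroup.rightRel N)).out = g
    let h : G → W := fun g => if rp g then (x : G → W) g else 0
    have hx : x = ∑ a, ρ a⁻¹ (ι (h a)) := by
      refine Subtype.ext (funext fun y => ?_)
      simp only [AddSubmonoidClass.coe_finset_sum, Finset.sum_apply, hρ]
      set q : Quotient (QuotientGroup.rightRel N) := Quotient.mk'' y with hq
      have hyq : y * q.out⁻¹ ∈ N :=
        QuotientGroup.rightRel_apply.1 (Quotient.exact' (Quotient.out_eq' q))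
      rw [Finset.sum_eq_single q.out (fun a _ ha => ?_) (fun h => absurd (Finset.mem_univ _) h)]
      · have hr : rp q.out := by
          show (Quotient.mk'' q.out : Quotient (QuotientGroup.rightRel N)).out = q.out
          rw [Quotient.out_eq']
        simp only [h, if_pos hr]
        have := hιN ((x : G → W) q.out) ⟨y * q.out⁻¹, hyq⟩
        rw [this, ← x.2 ⟨y * q.out⁻¹, hyq⟩ q.out]
        simp
      · by_cases hr : rp a
        · refine hι0 _ _ fun hn => ha ?_
          rw [hq, ← hr]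
          exact congrArg Quotient.out (Quotient.sound' (QuotientGroup.rightRel_apply.2 hn))
        · simp [h, if_neg hr]
    rw [hx, map_sum, map_sum]
    refine Finset.sum_congr rfl fun a _ => ?_
    rw [hf, hkey, map_sum, tr_apply]
    rw [← Finset.sum_subset (Finset.subset_univ (Finset.univ.filter (fun g => a * g ∈ N)))
      (fun g _ hg => by
        simp only [π, LinearMap.comp_apply, Submodule.subtype_apply, LinearMap.proj_apply, hρ,
          one_mul]
        rw [hι0 _ _ (fun h => (by simpa using hg : ¬ a * g ∈ N) ((N.inv_mem_iff).1 (by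
          simpa [mul_inv_rev] using h))), map_zero, map_zero])]
    refine Finset.sum_bij' (fun g hg => (⟨a * g, (Finset.mem_filter.1 hg).2⟩ : N))
      (fun n _ => a⁻¹ * (n : G)) (fun _ _ => Finset.mem_univ _)
      (fun n _ => by simp) (fun g _ => by simp) (fun n _ => Subtype.ext (by simp)) fun g hg => ?_
    have hgN : a * g ∈ N := (Finset.mem_filter.1 hg).2
    simp only [π, LinearMap.comp_apply, Submodule.subtype_apply, LinearMap.proj_apply, hρ,
      one_mul]
    rw [← Module.End.mul_apply, ← map_mul]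
    congr 2
    · simp
    · have := hιN (h a) (⟨a * g, hgN⟩⁻¹ : N)
      simpa [mul_inv_rev] using this

end existence

end Cfsg.Agent.Char.CycMod
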