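import Cfsg.Agent.Lib.Char.CycQuotForm
import Cfsg.Agent.Lib.Char.BrauerFeitBound
import Mathlib.GroupTheory.Rank

/-!
The number of characters of a block with abelian defect group on at most three generators.
-/

open scoped ComplexConjugate

namespace Cfsg.Agent.Char.RankBound

open Cfsg Cfsg.Agent.Block Cfsg.Agent.Char Cfsg.Agent.Char.BP Cfsg.Agent.Char.Spec
open Cfsg.Agent.Char.QuotDefect

set_option linter.unusedSectionVars false
set_option linter.style.haveILetI false
set_option maxHeartbeats 1600000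

universe u

theorem blockRank_le_card {G : Type u} [Group G] [Finite G] (p : ℕ) (B : Set (IrrCharacter G)) :
    blockRank p B ≤ Nat.card B := by
  classical
  letI := Fintype.ofFinite B
  rw [blockRank, Set.image_eq_range, Nat.card_eq_fintype_card]
  exact finrank_range_le_card _

theorem two_pairs_le {ι : Type*} [Fintype ι] (f : ι → ι → ℝ) (hf : ∀ i j, 0 ≤ f i j)
    (hsymm : ∀ i j, f i j = f j i) (S : ℝ) {i₀ j₀ : ι} (hne : i₀ ≠ j₀)
    (h : ∀ k, S ≤ f i₀ k + f j₀ k) :
    (2 * (Fintype.card ι : ℝ) - 2) * S ≤ ∑ i, ∑ j, f i j := by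
  classical
  rw [← Finset.sum_add_sum_compl ({i₀, j₀} : Finset ι), Finset.sum_pair hne, ← Finset.sum_add_distrib]
  have h1 : (Fintype.card ι : ℝ) * S ≤ ∑ k, (f i₀ k + f j₀ k) := by
    refine le_trans (le_of_eq ?_) (Finset.sum_le_sum (f := fun _ => S) fun k _ => h k)
    simp
  have hcard : 2 ≤ Fintype.card ι := by
    rw [← Finset.card_univ, ← Finset.card_pair hne]
    exact Finset.card_le_card (Finset.subset_univ _)
  have h2 : ((Fintype.card ι : ℝ) - 2) * S ≤ ∑ i ∈ ({i₀, j₀} : Finset ι)ᶜ, ∑ j, f i j := by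
    refine le_trans (le_of_eq ?_) (Finset.sum_le_sum (f := fun _ => S) fun k _ => (h k).trans ?_)
    · rw [Finset.sum_const, nsmul_eq_mul, Finset.card_compl, Finset.card_pair hne,
        Nat.cast_sub hcard]
      norm_num
    · rw [hsymm i₀ k, hsymm j₀ k, ← Finset.sum_pair hne (f := fun j => f k j)]
      exact Finset.sum_le_sum_of_subset_of_nonneg (Finset.subset_univ _) fun j _ _ => hf k j
  linarith

theorem pair_sum_eq {ι : Type*} [Fintype ι] (P : ι → ℂ) :
    ∑ i, ∑ j, (P i - P j) * conj (P i - P j) = 2 * ((Fintype.card ι : ℂ) * ∑ i, P i * conj (P i) -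
      (∑ i, P i) * conj (∑ i, P i)) := by
  have h1 : ∀ i j, (P i - P j) * conj (P i - P j) =
      P i * conj (P i) + P j * conj (P j) - (P i * conj (P j) + P j * conj (P i)) := fun i j => by
    rw [map_sub]; ring
  simp only [h1, Finset.sum_sub_distrib, Finset.sum_add_distrib, Finset.sum_const,
    Finset.card_univ, nsmul_eq_mul, ← Finset.mul_sum, ← Finset.sum_mul, ← map_sum]
  ring

variable {G : Type u} [Group G] [Fintype G] {p : ℕ} {M : Ideal AlgInt}
variable {B : Set (IrrCharacter G)}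

/-- The diagonal contributions at a generator sum to the rank times the order of a defect group. -/
theorem sum_contrib [Fact p.Prime] (hM : IsPModular p M) {a : BrauerPairIdx G} {u : G}
    (hu : ∃ k, orderOf u = p ^ k) (hau : a.1 = Subgroup.zpowers u) (haB : OfB p M B a) (d : ℕ)
    [DecidablePred (· ∈ B)] :
    ∑ χ ∈ Finset.univ.filter (· ∈ B), (contrib p d a u χ χ).re =
      (p : ℝ) ^ d * (blockRank p a.2 : ℝ) := by
  rw [← Complex.re_sum]
  have h : ∑ χ ∈ Finset.univ.filter (· ∈ B), contrib p d a u χ χ =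
      (((p : ℝ) ^ d * (blockRank p a.2 : ℝ) : ℝ) : ℂ) := by
    simp only [contrib, ← Finset.mul_sum, ← Finset.sum_div]
    rw [sum_sct_sq hM hu hau haB]
    push_cast
    field_simp [Nat.cast_ne_zero.2 (Nat.card_pos (α := CG a.1)).ne']
  rw [h, Complex.ofReal_re]

theorem gens [Fact p.Prime] {a : BrauerPairIdx G} {y : G} (hy : ∃ k, orderOf y = p ^ k)
    (hay : a.1 = Subgroup.zpowers y) (u : a.1) (hu : orderOf u = Nat.card a.1) :
    (∃ k, orderOf (u : G) = p ^ k) ∧ a.1 = Subgroup.zpowers (u : G) := by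
  have hu' : orderOf (u : G) = Nat.card a.1 := by
    rw [Subgroup.orderOf_coe]; exact hu
  obtain ⟨k, hk⟩ := hy
  refine ⟨⟨k, by rw [hu', hay, Nat.card_zpowers, hk]⟩, ?_⟩
  exact (Subgroup.eq_of_le_of_card_ge (Subgroup.zpowers_le.2 u.2)
    (by rw [Nat.card_zpowers, hu'])).symm

/-- A major subsection bounds the number of characters by the defect and its rank. -/
theorem card_le_mul_rank [Fact p.Prime] (hM : IsPModular p M) {a : BrauerPairIdx G} {y : G}
    (hy : ∃ k, orderOf y = p ^ k) (hay : a.1 = Subgroup.zpowers y) (haB : OfB p M B a)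
    (hd : blockDefect p a.2 = blockDefect p B) :
    Nat.card B ≤ p ^ blockDefect p B * blockRank p a.2 := by
  classical
  set d := blockDefect p B with hddef
  set s := Finset.univ.filter (fun u : a.1 => orderOf u = Nat.card a.1) with hs
  set A := Finset.univ.filter (· ∈ B) with hA
  have hs0 : 0 < s.card := by
    refine Finset.card_pos.2 ⟨⟨y, (SetLike.ext_iff.1 hay y).2 (Subgroup.mem_zpowers y)⟩, ?_⟩
    simp only [s, Finset.mem_filter, Finset.mem_univ, true_and, Subgroup.orderOf_mk]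
    rw [hay, Nat.card_zpowers]
  have h : (s.card : ℝ) * (A.card : ℝ) ≤ (s.card : ℝ) * ((p : ℝ) ^ d * (blockRank p a.2 : ℝ)) := by
    calc (s.card : ℝ) * (A.card : ℝ) = ∑ _χ ∈ A, (s.card : ℝ) := by
          rw [Finset.sum_const, nsmul_eq_mul]; ring
      _ ≤ ∑ χ ∈ A, ∑ u ∈ s, (contrib p d a (u : G) χ χ).re := by
          refine Finset.sum_le_sum fun χ hχ => le_trans ?_
            (diag_lower hM hy hay haB hd (Finset.mem_filter.1 hχ).2)
          have h1 : (1 : ℝ) ≤ (p : ℝ) ^ blockHeight p B (χ : G → ℂ) :=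
            one_le_pow₀ (by exact_mod_cast (Fact.out : p.Prime).one_lt.le)
          nlinarith [(Nat.cast_nonneg s.card : (0 : ℝ) ≤ s.card)]
      _ = _ := by
          rw [Finset.sum_comm, Finset.sum_congr rfl fun u hu => sum_contrib hM
            (gens hy hay u (Finset.mem_filter.1 hu).2).1 (gens hy hay u (Finset.mem_filter.1 hu).2).2
            haB d, Finset.sum_const, nsmul_eq_mul]
  have hk : Nat.card B = A.card := by
    rw [Nat.card_eq_fintype_card]
    exact Fintype.card_of_subtype A fun χ => by simp [hA]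
  rw [hk]
  exact_mod_cast le_of_mul_le_mul_left h (Nat.cast_pos.2 hs0)

/-- A major subsection with cyclic quotient bounds the number of characters by the defect. -/
theorem card_le_of_cyclic_quot [Fact p.Prime] (hM : IsPModular p M) {a : BrauerPairIdx G} {y : G}
    (hy : ∃ k, orderOf y = p ^ k) (hay : a.1 = Subgroup.zpowers y) (haB : OfB p M B a)
    (hd : blockDefect p a.2 = blockDefect p B) (Z : Subgroup (CG a.1)) [Z.Normal]
    (hZc : Z ≤ Subgroup.center (CG a.1)) (hZ : IsPGroup p Z) {D : Subgroup (CG a.1)}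
    (hD : IsDefectGroup p M a.2 D) (hcyc : IsCyclic (D.map (QuotientGroup.mk' Z)))
    (hne : D.map (QuotientGroup.mk' Z) ≠ ⊥) : Nat.card B ≤ p ^ blockDefect p B := by
  classical
  letI := Fintype.ofFinite (CG a.1)
  obtain ⟨ι, _, N, t, X, ht, hN, hrk, he, hform⟩ :=
    exists_form Z hM hZc hZ haB.1.2 hD hcyc hne
  set e := Fintype.card ι with hedef
  set d := blockDefect p B with hddef
  rw [hd] at hform
  have hcomm : a.1 ≤ CG a.1 := by
    rw [hay]; exact Subgroup.zpowers_le.2 (hay ▸ self_mem_cg hay)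
  set A := Finset.univ.filter (· ∈ B) with hA
  set Aξ := Finset.univ.filter (· ∈ a.2) with hAξ
  set C := (Nat.card (CG a.1) : ℂ) with hC
  have hC0 : C ≠ 0 := Nat.cast_ne_zero.2 Nat.card_pos.ne'
  set s := Finset.univ.filter (fun u : a.1 => orderOf u = Nat.card a.1) with hs
  have hs0 : 0 < s.card := by
    refine Finset.card_pos.2 ⟨⟨y, (SetLike.ext_iff.1 hay y).2 (Subgroup.mem_zpowers y)⟩, ?_⟩
    simp only [s, Finset.mem_filter, Finset.mem_univ, true_and, Subgroup.orderOf_mk]
    rw [hay, Nat.card_zpowers]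
  have hord : ∀ u ∈ s, orderOf u = Nat.card a.1 := fun u hu => (Finset.mem_filter.1 hu).2
  have hpow : ∀ u : a.1, ∀ k : ℕ, (Nat.card a.1).Coprime k → (u ^ k ∈ s ↔ u ∈ s) := by
    intro u k hk
    simp only [s, Finset.mem_filter, Finset.mem_univ, true_and]
    rw [((hk.coprime_dvd_left (orderOf_dvd_natCard u))).orderOf_pow]
  choose m hm using fun χ : IrrCharacter G => exists_sct_mult (irr_isChar χ) a
  let P : IrrCharacter G → ι → a.1 → ℂ := fun χ i u => ∑ ξ ∈ Aξ,
    ((((m χ ξ : ℤ) * X ξ i : ℤ)) : ℂ) *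
      centralChar (ξ : CG a.1 → ℂ) (Subgroup.inclusion hcomm u)
  have hPgen : ∀ χ i, IsGeneralizedCharacter a.1 (P χ i) := fun χ i =>
    isGenChar_lin hcomm (fun ξ => (m χ ξ : ℤ) * X ξ i)
  have hdiff : ∀ χ i j, IsGeneralizedCharacter a.1 (fun u => P χ i u - P χ j u) := fun χ i j => by
    have h := isGenChar_lin hcomm (fun ξ => (m χ ξ : ℤ) * (X ξ i - X ξ j))
    convert h using 1
    funext u
    simp only [P, ← Finset.sum_sub_distrib, ← hAξ]
    exact Finset.sum_congr rfl fun ξ _ => by push_cast; ring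
  have hlow : ∀ (θ : a.1 → ℂ), IsGeneralizedCharacter a.1 θ → (∃ u ∈ s, θ u ≠ 0) →
      (s.card : ℝ) ≤ ∑ u ∈ s, Complex.normSq (θ u) := fun θ hθ ⟨u, hu, hne'⟩ =>
    genChar_sumSq hθ s hord hpow fun v hv h0 =>
      hne' (genChar_zero_gen hθ (hord v hv) (hord u hu) h0)
  -- the contribution as a form
  have hval : ∀ χ (u : a.1), contrib p d a (u : G) χ χ =
      (N : ℂ) * (∑ i, P χ i u * conj (P χ i u)) -
        (t : ℂ) * ((∑ i, P χ i u) * conj (∑ i, P χ i u)) := by
    intro χ u
    set c : IrrCharacter (CG a.1) → ℂ := fun ξ =>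
      (m χ ξ : ℂ) * centralChar (ξ : CG a.1 → ℂ) (Subgroup.inclusion hcomm u) with hc
    have hcv : ∀ v : CG a.1, sct (χ : G → ℂ) a (u : G) (v : G) =
        ∑ ξ ∈ Aξ, c ξ * (ξ : CG a.1 → ℂ) v := fun v =>
      hm χ (Subgroup.inclusion hcomm u) u.2 v
    have h1 : contrib p d a (u : G) χ χ = ∑ ξ ∈ Aξ, ∑ ξ' ∈ Aξ, c ξ * conj (c ξ') *
        (regSum p (ξ : CG a.1 → ℂ) (ξ' : CG a.1 → ℂ) * (p : ℂ) ^ d / C) := by
      rw [contrib, secT, sum_regs_eq_regSum a.1 _ _ _ _ (fun v _ => hcv v) (fun v _ => hcv v),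
        regSum_eq_sum, ← hC]
      simp only [regSum_eq_sum, Finset.sum_mul, map_sum, map_mul, Finset.mul_sum, Finset.sum_div]
      rw [Finset.sum_comm]
      conv_lhs => enter [2, ξ]; rw [Finset.sum_comm]
      rw [Finset.sum_comm]
      exact Finset.sum_congr rfl fun ξ _ => Finset.sum_congr rfl fun ξ' _ =>
        Finset.sum_congr rfl fun v _ => by ring
    have hP : ∀ i, P χ i u = ∑ ξ ∈ Aξ, c ξ * (X ξ i : ℂ) := fun i =>
      Finset.sum_congr rfl fun ξ _ => by simp only [hc]; push_cast; ring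
    rw [h1, Finset.sum_congr rfl fun ξ hξ => Finset.sum_congr rfl fun ξ' hξ' => by
      rw [hform ξ (Finset.mem_filter.1 hξ).2 ξ' (Finset.mem_filter.1 hξ').2,
        mul_div_cancel_left₀ _ hC0]]
    simp only [hP, map_sum, map_mul, map_intCast, mul_sub, Finset.sum_sub_distrib, Finset.mul_sum,
      Finset.sum_mul]
    congr 1
    · rw [Finset.sum_congr rfl fun ξ _ => Finset.sum_comm, Finset.sum_comm]
      refine Finset.sum_congr rfl fun i _ => ?_
      rw [Finset.sum_comm]
      exact Finset.sum_congr rfl fun ξ' _ => Finset.sum_congr rfl fun ξ _ => by ring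
    · rw [Finset.sum_congr rfl fun ξ _ => Finset.sum_congr rfl fun ξ' _ => Finset.sum_comm,
        Finset.sum_congr rfl fun ξ _ => Finset.sum_comm, Finset.sum_comm]
      conv_rhs => enter [2, i]; rw [Finset.sum_comm]
      conv_rhs => rw [Finset.sum_comm]
      refine Finset.sum_congr rfl fun i _ => ?_
      rw [Finset.sum_congr rfl fun ξ _ => Finset.sum_comm, Finset.sum_comm]
      refine Finset.sum_congr rfl fun j _ => ?_
      rw [Finset.sum_comm]
      exact Finset.sum_congr rfl fun ξ' _ => Finset.sum_congr rfl fun ξ _ => by ring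
  have hre : ∀ χ (u : a.1), (contrib p d a (u : G) χ χ).re =
      (∑ i, Complex.normSq (P χ i u)) +
        (t : ℝ) / 2 * ∑ i, ∑ j, Complex.normSq (P χ i u - P χ j u) := by
    intro χ u
    rw [hval]
    have h := pair_sum_eq (fun i => P χ i u)
    simp only [Complex.mul_conj] at h
    have h' : ((∑ i, ∑ j, Complex.normSq (P χ i u - P χ j u) : ℝ) : ℂ) =
        2 * ((e : ℂ) * ∑ i, (Complex.normSq (P χ i u) : ℂ) -
          (Complex.normSq (∑ i, P χ i u) : ℂ)) := by
      push_cast; rw [hedef]; exact h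
    simp only [Complex.mul_conj]
    rw [show (N : ℂ) = (e : ℂ) * (t : ℂ) + 1 by rw [hN]; push_cast; ring]
    rw [show ((e : ℂ) * (t : ℂ) + 1) * ∑ i, (Complex.normSq (P χ i u) : ℂ) -
        (t : ℂ) * (Complex.normSq (∑ i, P χ i u) : ℂ) =
        (((∑ i, Complex.normSq (P χ i u)) +
          (t : ℝ) / 2 * ∑ i, ∑ j, Complex.normSq (P χ i u - P χ j u) : ℝ) : ℂ) by
      push_cast at h' ⊢
      rw [h']; ring, Complex.ofReal_re]
  have hlower : ∀ χ ∈ A, (e : ℝ) * s.card ≤ ∑ u ∈ s, (contrib p d a (u : G) χ χ).re := by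
    intro χ hχ
    rw [Finset.sum_congr rfl fun u _ => hre χ u, Finset.sum_add_distrib, Finset.sum_comm,
      ← Finset.mul_sum]
    set Q : ι → ι → ℝ := fun i j => ∑ u ∈ s, Complex.normSq (P χ i u - P χ j u) with hQ
    have hQ0 : ∀ i j, 0 ≤ Q i j := fun i j => Finset.sum_nonneg fun u _ => Complex.normSq_nonneg _
    have hQsum : ∑ u ∈ s, ∑ i, ∑ j, Complex.normSq (P χ i u - P χ j u) = ∑ i, ∑ j, Q i j := by
      rw [Finset.sum_comm]
      exact Finset.sum_congr rfl fun i _ => Finset.sum_comm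
    rw [hQsum]
    -- some coordinate does not vanish
    obtain ⟨i₁, hi₁⟩ : ∃ i, ∃ u ∈ s, P χ i u ≠ 0 := by
      by_contra hall
      push Not at hall
      have hz : ∑ u ∈ s, (contrib p d a (u : G) χ χ).re = 0 := by
        refine Finset.sum_eq_zero fun u hu => ?_
        rw [hval]
        simp [hall _ u hu]
      have h := diag_lower hM hy hay haB hd (Finset.mem_filter.1 hχ).2
      rw [hz] at h
      have h1 : (0 : ℝ) < (s.card : ℝ) * (p : ℝ) ^ blockHeight p B (χ : G → ℂ) :=
        mul_pos (Nat.cast_pos.2 hs0) (pow_pos (Nat.cast_pos.2 (Fact.out : p.Prime).pos) _)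
      linarith
    by_cases hex : ∃ i j, ∃ u ∈ s, P χ i u - P χ j u ≠ 0
    · obtain ⟨i₀, j₀, hu₀⟩ := hex
      have hne' : i₀ ≠ j₀ := by
        rintro rfl; obtain ⟨u, -, h⟩ := hu₀; exact h (sub_self _)
      have hk : ∀ k, (s.card : ℝ) ≤ Q i₀ k + Q j₀ k := by
        intro k
        by_cases h1 : ∃ u ∈ s, P χ i₀ u - P χ k u ≠ 0
        · linarith [hlow _ (hdiff χ i₀ k) h1, hQ0 j₀ k]
        · by_cases h2 : ∃ u ∈ s, P χ j₀ u - P χ k u ≠ 0
          · linarith [hlow _ (hdiff χ j₀ k) h2, hQ0 i₀ k]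
          · obtain ⟨u, hu, h⟩ := hu₀
            push Not at h1 h2
            exact absurd (by linear_combination h1 u hu - h2 u hu) h
      have hP2 := two_pairs_le Q hQ0 (fun i j => Finset.sum_congr rfl fun u _ => by
        rw [← Complex.normSq_neg, neg_sub]) _ hne' hk
      have hfirst : (s.card : ℝ) ≤ ∑ i, ∑ u ∈ s, Complex.normSq (P χ i u) :=
        (hlow _ (hPgen χ i₁) hi₁).trans (Finset.single_le_sum
          (f := fun i => ∑ u ∈ s, Complex.normSq (P χ i u))
          (fun i _ => Finset.sum_nonneg fun u _ => Complex.normSq_nonneg _) (Finset.mem_univ i₁))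
      have he1 : (1 : ℝ) ≤ e := by exact_mod_cast he
      have ht1 : (1 : ℝ) ≤ t := by exact_mod_cast ht
      have hmid : (t : ℝ) / 2 * ((2 * (e : ℝ) - 2) * s.card) ≤ (t : ℝ) / 2 * ∑ i, ∑ j, Q i j :=
        mul_le_mul_of_nonneg_left hP2 (by positivity)
      nlinarith [mul_nonneg (mul_nonneg (sub_nonneg.2 ht1) (sub_nonneg.2 he1))
        (Nat.cast_nonneg s.card : (0 : ℝ) ≤ s.card)]
    · push Not at hex
      have hall : ∀ i, (s.card : ℝ) ≤ ∑ u ∈ s, Complex.normSq (P χ i u) := fun i => by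
        refine hlow _ (hPgen χ i) ?_
        obtain ⟨u, hu, h⟩ := hi₁
        exact ⟨u, hu, fun h0 => h (by linear_combination hex i₁ i u hu + h0)⟩
      have h := Finset.sum_le_sum (s := Finset.univ) fun i (_ : i ∈ Finset.univ) => hall i
      rw [Finset.sum_const, Finset.card_univ, nsmul_eq_mul] at h
      have : 0 ≤ (t : ℝ) / 2 * ∑ i, ∑ j, Q i j :=
        mul_nonneg (by positivity) (Finset.sum_nonneg fun i _ => Finset.sum_nonneg fun j _ => hQ0 i j)
      linarith
  have h : (e : ℝ) * s.card * (A.card : ℝ) ≤ (e : ℝ) * s.card * (p : ℝ) ^ d := by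
    calc (e : ℝ) * s.card * (A.card : ℝ) = ∑ _χ ∈ A, (e : ℝ) * s.card := by
          rw [Finset.sum_const, nsmul_eq_mul]; ring
      _ ≤ ∑ χ ∈ A, ∑ u ∈ s, (contrib p d a (u : G) χ χ).re := Finset.sum_le_sum hlower
      _ = (s.card : ℝ) * ((p : ℝ) ^ d * (blockRank p a.2 : ℝ)) := by
          rw [Finset.sum_comm, Finset.sum_congr rfl fun u hu => sum_contrib hM
            (gens hy hay u (hord u hu)).1 (gens hy hay u (hord u hu)).2
            haB d, Finset.sum_const, nsmul_eq_mul]
      _ ≤ (s.card : ℝ) * ((p : ℝ) ^ d * (e : ℝ)) := by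
          refine mul_le_mul_of_nonneg_left (mul_le_mul_of_nonneg_left ?_ (by positivity))
            (Nat.cast_nonneg _)
          exact_mod_cast hrk
      _ = _ := by ring
  have hk : Nat.card B = A.card := by
    rw [Nat.card_eq_fintype_card]
    exact Fintype.card_of_subtype A fun χ => by simp [hA]
  rw [hk]
  exact_mod_cast le_of_mul_le_mul_left h (mul_pos (Nat.cast_pos.2 he) (Nat.cast_pos.2 hs0))

/-- The subsection at an element of an abelian defect group. -/
theorem exists_major [Fact p.Prime] (hM : IsPModular p M) (hB : IsPBlock M B) {D : Subgroup G}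
    (hD : IsDefectGroup p M B D) (hab : ∀ v ∈ D, ∀ w ∈ D, v * w = w * v) {u : G} (hu : u ∈ D) :
    ∃ a : BrauerPairIdx G, a.1 = Subgroup.zpowers u ∧ OfB p M B a ∧
      blockDefect p a.2 = blockDefect p B ∧ D ≤ CG a.1 ∧
      IsDefectGroup p M a.2 (D.subgroupOf (CG a.1)) := by
  obtain ⟨f, hx⟩ := exists_max_at_defect hM hB hD
  set x : BrauerPairIdx G := ⟨D, f⟩ with hxdef
  obtain ⟨ha, hle⟩ := Wat.bl_spec hM hx.1.1 (x := x) (Q := Subgroup.zpowers u)
    (Subgroup.zpowers_le.2 hu)
  obtain ⟨h1, h2⟩ := Wat.cg_subgroupOf_le (x := x) hab (Q := (Wat.bl p M x (Subgroup.zpowers u)).1)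
    (le_subgroup hle)
  letI := Fintype.ofFinite (CG (Wat.bl p M x (Subgroup.zpowers u)).1)
  exact ⟨_, ha, (ofB_le hM hle).1 hx.1, blockDefect_of_le_major hM hx hle h1, h1,
    (isMx_down hM (P := D) (e := f) hx hab (Wat.step_of_le hM hx.1.1 hab hle) h1 h2).1⟩

/-- The data at an element of an abelian defect group. -/
theorem exists_step [Fact p.Prime] (hM : IsPModular p M) (hB : IsPBlock M B) {D : Subgroup G}
    (hD : IsDefectGroup p M B D) (hab : ∀ v ∈ D, ∀ w ∈ D, v * w = w * v) {u : G} (hu : u ∈ D) :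
    ∃ (H : Type u) (_ : Group H) (_ : Fintype H) (Bb : Set (IrrCharacter H)) (Db : Subgroup H)
      (φ : D →* H),
      IsPBlock M Bb ∧ IsDefectGroup p M Bb Db ∧ Db = φ.range ∧ φ ⟨u, hu⟩ = 1 ∧
      Nat.card Db * orderOf u = Nat.card D ∧
      Nat.card B ≤ p ^ blockDefect p B * Nat.card Bb ∧
      (IsCyclic Db → Db ≠ ⊥ → Nat.card B ≤ p ^ blockDefect p B) := by
  classical
  obtain ⟨a, hay, haB, hd, hDC, hDH⟩ := exists_major hM hB hD hab hu
  have hy : ∃ k, orderOf u = p ^ k := pPow_of_mem (IsDefectGroup.isPGroup hD) hu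
  letI := Fintype.ofFinite (CG a.1)
  set z : CG a.1 := ⟨u, hDC hu⟩ with hz
  set Z := Subgroup.zpowers z with hZdef
  have hzc : z ∈ Subgroup.center (CG a.1) := Subgroup.mem_center_iff.2 fun t =>
    Subtype.ext (Subgroup.mem_centralizer_iff.1 t.2 u
      ((SetLike.ext_iff.1 hay u).2 (Subgroup.mem_zpowers u))).symm
  have hZc : Z ≤ Subgroup.center (CG a.1) := Subgroup.zpowers_le.2 hzc
  haveI : Z.Normal := ⟨fun n hn g => by
    rw [Subgroup.mem_center_iff.1 (hZc hn) g, mul_inv_cancel_right]; exact hn⟩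
  obtain ⟨k, hk⟩ := hy
  have hzo : orderOf z = p ^ k := by rw [hz, Subgroup.orderOf_mk, hk]
  have hZ : IsPGroup p Z := IsPGroup.of_card (n := k) (by rw [hZdef, Nat.card_zpowers, hzo])
  letI := Fintype.ofFinite (CG a.1 ⧸ Z)
  obtain ⟨hbb, hdef⟩ := liftSet_block Z hM hZc hZ haB.1.2
  set φ : D →* CG a.1 ⧸ Z := (QuotientGroup.mk' Z).comp (Subgroup.inclusion hDC) with hφ
  have hrange : (D.subgroupOf (CG a.1)).map (QuotientGroup.mk' Z) = φ.range := by
    rw [hφ, MonoidHom.range_comp, Subgroup.inclusion_range]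
  refine ⟨CG a.1 ⧸ Z, inferInstance, inferInstance, liftSet Z a.2, _, φ, hbb, hdef _ hDH, hrange,
    (QuotientGroup.eq_one_iff _).2 (Subgroup.mem_zpowers z), ?_, ?_, fun hcyc hne => ?_⟩
  · have hZD : Z ≤ D.subgroupOf (CG a.1) :=
      Subgroup.zpowers_le.2 (Subgroup.mem_subgroupOf.2 hu)
    rw [← Subgroup.relIndex_ker, QuotientGroup.ker_mk',
      show orderOf u = Nat.card (Z.subgroupOf (D.subgroupOf (CG a.1))) by
        rw [Nat.card_congr (Subgroup.subgroupOfEquivOfLe hZD).toEquiv, hZdef, Nat.card_zpowers, hzo, hk],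
      mul_comm, Subgroup.relIndex, Subgroup.card_mul_index]
    exact Nat.card_congr (Subgroup.subgroupOfEquivOfLe hDC).toEquiv
  · refine (card_le_mul_rank hM ⟨k, hk⟩ hay haB hd).trans (Nat.mul_le_mul_left _ ?_)
    exact (RegQuot.blockRank_le Z hM hZc hZ haB.1.2).trans (blockRank_le_card p _)
  · exact card_le_of_cyclic_quot hM ⟨k, hk⟩ hay haB hd Z hZc hZ hDH hcyc hne

omit [Fintype G] in
/-- The range of a hom on a subgroup with given generators. -/
theorem range_le_closure {H : Type u} [Group H] {D : Subgroup G} (φ : D →* H) (s : Set D)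
    (hs : Subgroup.closure s = ⊤) : φ.range = Subgroup.closure (φ '' s) := by
  rw [← MonoidHom.map_closure, hs, ← MonoidHom.range_eq_map]

/-- Defect group on two generators. -/
theorem two_gen [Fact p.Prime] {G : Type u} [Group G] [Fintype G] (hM : IsPModular p M)
    {B : Set (IrrCharacter G)} (hB : IsPBlock M B) {D : Subgroup G} (hD : IsDefectGroup p M B D)
    (hab : ∀ v ∈ D, ∀ w ∈ D, v * w = w * v) (u v : D)
    (hgen : Subgroup.closure ({u, v} : Set D) = ⊤) : Nat.card B ≤ p ^ blockDefect p B := by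
  classical
  obtain ⟨H, _, _, Bb, Db, φ, hbb, hdb, hDb, hφu, hcard, hle, hcyc⟩ :=
    exists_step hM hB hD hab u.2
  have hrange : Db = Subgroup.zpowers (φ v) := by
    rw [hDb, range_le_closure φ _ hgen, Set.image_pair, hφu, Subgroup.closure_insert_one,
      Subgroup.zpowers_eq_closure]
  by_cases hbot : Db = ⊥
  · refine hle.trans (le_of_le_of_eq (Nat.mul_le_mul_left _ ?_) (mul_one _))
    have hd0 : blockDefect p Bb = 0 := by
      have h := card_defectGroup hM hbb hdb
      rw [hbot, Subgroup.card_bot] at h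
      exact (Nat.pow_eq_one.1 h.symm).resolve_left (Fact.out : p.Prime).ne_one
    simpa using (BFBound.bound hM 0 Bb hbb hd0).1 (by omega)
  · refine hcyc ?_ hbot
    rw [hrange]
    infer_instance

/-- An abelian group on three generators. -/
theorem card_le_three {K : Type u} [CommGroup K] [Finite K] (a b c : K)
    (hgen : Subgroup.closure ({a, b, c} : Set K) = ⊤) :
    Nat.card K ≤ orderOf a * (orderOf b * orderOf c) := by
  set f := ((Subgroup.zpowers a).subtype.coprod
    ((Subgroup.zpowers b).subtype.coprod (Subgroup.zpowers c).subtype)) with hf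
  have hsurj : Function.Surjective f := by
    rw [← MonoidHom.range_eq_top, eq_top_iff, ← hgen, Subgroup.closure_le]
    rintro z (rfl | rfl | rfl)
    · exact ⟨(⟨z, Subgroup.mem_zpowers z⟩, 1, 1), by simp [hf]⟩
    · exact ⟨(1, ⟨z, Subgroup.mem_zpowers z⟩, 1), by simp [hf]⟩
    · exact ⟨(1, 1, ⟨z, Subgroup.mem_zpowers z⟩), by simp [hf]⟩
  have h := Nat.card_le_card_of_surjective f hsurj
  rwa [Nat.card_prod, Nat.card_prod, Nat.card_zpowers, Nat.card_zpowers, Nat.card_zpowers] at h

/-- Defect group on three generators. -/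
theorem three_gen [Fact p.Prime] {G : Type u} [Group G] [Fintype G] (hM : IsPModular p M)
    {B : Set (IrrCharacter G)} (hB : IsPBlock M B) {D : Subgroup G} (hD : IsDefectGroup p M B D)
    (hab : ∀ v ∈ D, ∀ w ∈ D, v * w = w * v) (u v w : D)
    (hgen : Subgroup.closure ({u, v, w} : Set D) = ⊤) (hv : orderOf v ≤ orderOf u)
    (hw : orderOf w ≤ orderOf u) : Nat.card B ^ 3 ≤ p ^ (5 * blockDefect p B) := by
  classical
  obtain ⟨H, _, _, Bb, Db, φ, hbb, hdb, hDb, hφu, hcard, hle, -⟩ := exists_step hM hB hD hab u.2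
  have habb : ∀ a ∈ Db, ∀ b ∈ Db, a * b = b * a := by
    rw [hDb]
    rintro _ ⟨a, rfl⟩ _ ⟨b, rfl⟩
    rw [← map_mul, ← map_mul]
    exact congrArg φ (Subtype.ext (hab _ a.2 _ b.2))
  let ψ : D →* Db := φ.codRestrict Db fun a => hDb ▸ ⟨a, rfl⟩
  have hψ : Function.Surjective ψ := by
    rintro ⟨b, hb⟩
    obtain ⟨a, rfl⟩ : b ∈ φ.range := hDb ▸ hb
    exact ⟨a, rfl⟩
  have hgen2 : Subgroup.closure ({ψ v, ψ w} : Set Db) = ⊤ := by
    have h := congrArg (Subgroup.map ψ) hgen
    rw [MonoidHom.map_closure, Subgroup.map_top_of_surjective ψ hψ, Set.image_insert_eq,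
      Set.image_pair, show ψ u = 1 from Subtype.ext hφu, Subgroup.closure_insert_one] at h
    exact h
  have hsub := two_gen hM hbb hdb habb (ψ v) (ψ w) hgen2
  set d := blockDefect p B with hd
  set d' := blockDefect p Bb with hd'
  letI : CommGroup D := { (inferInstance : Group D) with
    mul_comm := fun a b => Subtype.ext (hab _ a.2 _ b.2) }
  have h3 : Nat.card D ≤ orderOf u ^ 3 := by
    refine (card_le_three u v w hgen).trans ?_
    rw [pow_succ, pow_two, mul_assoc]
    exact Nat.mul_le_mul_left _ (Nat.mul_le_mul hv hw)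
  obtain ⟨m, hm⟩ := pPow_of_mem (IsDefectGroup.isPGroup hD) u.2
  have hp : p.Prime := Fact.out
  have hDd : Nat.card D = p ^ d := card_defectGroup hM hB hD
  rw [Subgroup.orderOf_coe] at hm
  rw [hm, hDd, ← pow_mul] at h3
  have h3' : d ≤ m * 3 := (Nat.pow_le_pow_iff_right hp.one_lt).1 h3
  rw [card_defectGroup hM hbb hdb, Subgroup.orderOf_coe, hm, hDd, ← pow_add] at hcard
  have hdm : d' + m = d := Nat.pow_right_injective hp.two_le hcard
  calc Nat.card B ^ 3 ≤ (p ^ d * p ^ d') ^ 3 :=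
        Nat.pow_le_pow_left (hle.trans (Nat.mul_le_mul_left _ hsub)) 3
    _ ≤ p ^ (5 * d) := by
        rw [← pow_add, ← pow_mul]
        exact Nat.pow_le_pow_right hp.pos (by omega)

/-- The bounds by the rank. -/
theorem rank_bounds [Fact p.Prime] {G : Type u} [Group G] [Fintype G] (hM : IsPModular p M)
    {B : Set (IrrCharacter G)} (hB : IsPBlock M B) {D : Subgroup G} (hD : IsDefectGroup p M B D)
    (hab : ∀ v ∈ D, ∀ w ∈ D, v * w = w * v) :
    (Group.rank D = 2 → Nat.card B ≤ p ^ blockDefect p B) ∧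
      (Group.rank D = 3 → Nat.card B ^ 3 ≤ p ^ (5 * blockDefect p B)) := by
  classical
  obtain ⟨S, hS, hgen⟩ := Group.rank_spec D
  constructor
  · intro hr
    rw [hr, Finset.card_eq_two] at hS
    obtain ⟨u, v, -, rfl⟩ := hS
    refine two_gen hM hB hD hab u v ?_
    simpa using hgen
  · intro hr
    rw [hr, Finset.card_eq_three] at hS
    obtain ⟨u, v, w, -, -, -, rfl⟩ := hS
    have hgen' : Subgroup.closure ({u, v, w} : Set D) = ⊤ := by simpa using hgen
    rcases le_total (orderOf v) (orderOf u) with h1 | h1 <;>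
      rcases le_total (orderOf w) (orderOf u) with h2 | h2
    · exact three_gen hM hB hD hab u v w hgen' h1 h2
    · exact three_gen hM hB hD hab w u v (by
        rw [Set.insert_comm w u, Set.pair_comm w v]; exact hgen') h2 (h1.trans h2)
    · exact three_gen hM hB hD hab v u w (by rwa [Set.insert_comm]) h1 (h2.trans h1)
    · rcases le_total (orderOf v) (orderOf w) with h3 | h3
      · exact three_gen hM hB hD hab w u v (by
          rw [Set.insert_comm, Set.pair_comm]; exact hgen') h2 h3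
      · exact three_gen hM hB hD hab v u w (by rwa [Set.insert_comm]) h1 h3

end Cfsg.Agent.Char.RankBound
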