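import Mathlib

/-!
# Faithful irreducible modules in characteristic `p` for groups with a cyclic TI Sylow subgroup

Elementary trace argument: an element of the group algebra of `P` centralised by `N(P)` differs
from a `G`-endomorphism by a relative trace from `1` to `P`.
-/

open scoped BigOperators
open Finset

namespace Cfsg.Agent.Char.CycTI

section Ring

variable {E : Type*} [Ring E] {p : ℕ}

theorem choose_pred_eq (hp : p.Prime) (hpE : (p : E) = 0) (n : ℕ) :
    ∀ i, i < p ^ n → ((p ^ n - 1).choose i : E) = (-1) ^ i := by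
  intro i
  induction i with
  | zero => simp
  | succ i ih =>
    intro hi
    have h0 : ((p ^ n).choose (i + 1) : E) = 0 := by
      obtain ⟨k, hk⟩ := hp.dvd_choose_pow (n := n) (k := i + 1) (by omega) (by omega)
      rw [hk, Nat.cast_mul, hpE, zero_mul]
    have hN : p ^ n = (p ^ n - 1) + 1 := by omega
    rw [hN, Nat.choose_succ_succ', Nat.cast_add, ih (by omega)] at h0
    rw [pow_succ, mul_neg_one]
    exact eq_neg_of_add_eq_zero_right h0

theorem neg_one_pow_pred (hp : p.Prime) (hpE : (p : E) = 0) (n : ℕ) :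
    (-1 : E) ^ (p ^ n - 1) = 1 := by
  rcases hp.eq_two_or_odd' with h | h
  · subst h
    have h2 : (1 : E) + 1 = 0 := by
      simpa [one_add_one_eq_two] using hpE
    have : (-1 : E) = 1 := (eq_neg_of_add_eq_zero_left h2).symm
    rw [this, one_pow]
  · exact (Nat.Odd.sub_odd (h.pow) odd_one).neg_one_pow

/-- `(X - Y)^(p^n-1) = ∑ X^i Y^(p^n-1-i)` for commuting elements in characteristic `p`. -/
theorem sub_pow_pred (hp : p.Prime) (hpE : (p : E) = 0) (n : ℕ) {X Y : E} (h : Commute X Y) :
    (X - Y) ^ (p ^ n - 1) = ∑ i ∈ range (p ^ n), X ^ i * Y ^ (p ^ n - 1 - i) := by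
  have hN : 0 < p ^ n := pow_pos hp.pos n
  rw [sub_eq_add_neg, h.neg_right.add_pow, show p ^ n - 1 + 1 = p ^ n by omega]
  refine Finset.sum_congr rfl fun i hi => ?_
  rw [mem_range] at hi
  rw [choose_pred_eq hp hpE n i hi, neg_pow, mul_assoc, mul_assoc]
  congr 1
  have hc : Commute (Y ^ (p ^ n - 1 - i)) ((-1 : E) ^ i) := (Commute.neg_one_right _).pow_right _
  rw [hc.eq, ← mul_assoc, ← pow_add, show p ^ n - 1 - i + i = p ^ n - 1 by omega,
    neg_one_pow_pred hp hpE n, one_mul]

/-- The trace over a cyclic group of order `p^n` of any `ψ` is divisible on the left by a high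
power of `A`. -/
theorem trace_range (hp : p.Prime) (hpE : (p : E) = 0) (n : ℕ) (A ψ : E) (d : ℕ)
    (hA : A ^ d = 0) :
    ∃ ω, ∑ i ∈ range (p ^ n), (1 + A) ^ i * ψ * (1 + A) ^ (p ^ n - 1 - i)
      = A ^ (p ^ n - d) * ω := by
  set L := fun a : E => LinearMap.mulLeft ℤ a with hL
  set R := fun a : E => LinearMap.mulRight ℤ a with hR
  have hpM : (p : Module.End ℤ E) = 0 := by
    ext v
    simp [Module.End.natCast_apply, nsmul_eq_mul, hpE]
  have hgeom : ∀ a : E, ∑ i ∈ range (p ^ n), a ^ i * ψ * a ^ (p ^ n - 1 - i)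
      = (((L a : Module.End ℤ E) - R a) ^ (p ^ n - 1)) ψ := by
    intro a
    rw [sub_pow_pred hp hpM n (LinearMap.commute_mulLeft_right (R := ℤ) a a), LinearMap.sum_apply]
    refine Finset.sum_congr rfl fun i _ => ?_
    simp [hL, hR, Module.End.mul_apply, LinearMap.pow_mulLeft, LinearMap.pow_mulRight, mul_assoc]
  have hshift : (L (1 + A) : Module.End ℤ E) - R (1 + A) = L A - R A := by
    ext v
    simp [hL, hR, add_mul, mul_add]
  rw [hgeom (1 + A), hshift, ← hgeom A]
  refine ⟨∑ i ∈ range (p ^ n), A ^ (i - (p ^ n - d)) * ψ * A ^ (p ^ n - 1 - i), ?_⟩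
  rw [Finset.mul_sum]
  refine Finset.sum_congr rfl fun i hi => ?_
  rw [mem_range] at hi
  rcases lt_or_ge i (p ^ n - d) with h | h
  · have h0 : A ^ (p ^ n - 1 - i) = 0 := pow_eq_zero_of_le (by omega) hA
    simp [h0]
  · rw [← mul_assoc, ← mul_assoc, ← pow_add, show p ^ n - d + (i - (p ^ n - d)) = i by omega]

theorem pow_eq_zero_of_eq_mul {A B : E} {e d : ℕ} (hA : A ^ d = 0) (h : A ^ e = A ^ (e + 1) * B) :
    A ^ e = 0 := by
  have key : ∀ i, A ^ e = A ^ (e + i) * B ^ i := by
    intro i
    induction i with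
    | zero => simp
    | succ i ih =>
      calc A ^ e = A ^ (e + i) * B ^ i := ih
        _ = A ^ i * (A ^ e) * B ^ i := by rw [← pow_add, add_comm e i]
        _ = A ^ i * (A ^ (e + 1) * B) * B ^ i := by rw [← h]
        _ = A ^ (e + (i + 1)) * B ^ (i + 1) := by
          rw [← mul_assoc, mul_assoc _ B, ← pow_succ', ← pow_add, show i + (e + 1) = e + (i + 1) by omega]
  rw [key d, pow_eq_zero_of_le (by omega) hA, zero_mul]

theorem nilpotent_of_left_factor {A ω j : E} (hj : j = A * ω) (hcomm : Commute A j) {d : ℕ}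
    (hA : A ^ d = 0) : IsNilpotent j := by
  have key : ∀ i, j ^ i = A ^ i * ω ^ i := by
    intro i
    induction i with
    | zero => simp
    | succ i ih =>
      calc j ^ (i + 1) = j * (A ^ i * ω ^ i) := by rw [pow_succ', ih]
        _ = A ^ i * j * ω ^ i := by rw [← mul_assoc, ((hcomm.pow_left i).symm).eq]
        _ = A ^ (i + 1) * ω ^ (i + 1) := by
          rw [hj, pow_succ, pow_succ' ω]
          simp only [mul_assoc]
  exact ⟨d, by rw [key, hA, zero_mul]⟩

end Ring

section Algebra

variable {F : Type*} [Field F] {p : ℕ} [Fact p.Prime] [CharP F p]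

/-- In the group algebra of a cyclic `p`-group, `y - 1` is `x - 1` times a unit, for generators
`x`, `y`. -/
theorem single_sub_one {C : Type*} [CommGroup C] {n : ℕ} (x : C) (hx : orderOf x = p ^ n)
    (a : ℕ) (ha : ¬ p ∣ a) :
    ∃ u : (MonoidAlgebra F C)ˣ,
      MonoidAlgebra.of F C (x ^ a) - 1 = (MonoidAlgebra.of F C x - 1) * (u : MonoidAlgebra F C) := by
  haveI : CharP (MonoidAlgebra F C) p :=
    charP_of_injective_algebraMap (algebraMap F (MonoidAlgebra F C)).injective p
  set X := MonoidAlgebra.of F C x with hX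
  have hnil : IsNilpotent (X - 1) := by
    refine ⟨p ^ n, ?_⟩
    rw [sub_pow_char_pow, one_pow, hX, ← map_pow, ← hx, pow_orderOf_eq_one, map_one, sub_self]
  have hgeom : IsUnit (∑ i ∈ Finset.range a, X ^ i) := by
    have hsplit : (∑ i ∈ Finset.range a, X ^ i)
        = (∑ i ∈ Finset.range a, (X ^ i - 1)) + (a : MonoidAlgebra F C) := by
      rw [Finset.sum_sub_distrib, Finset.sum_const, Finset.card_range, nsmul_one, sub_add_cancel]
    have hn : IsNilpotent (∑ i ∈ Finset.range a, (X ^ i - 1)) := by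
      refine isNilpotent_sum fun i _ => ?_
      rw [← geom_sum_mul]
      exact (Commute.all _ _).isNilpotent_mul_left hnil
    have hu : IsUnit (a : MonoidAlgebra F C) := by
      have : IsUnit (a : F) := by
        rw [isUnit_iff_ne_zero, Ne, CharP.cast_eq_zero_iff F p]
        exact ha
      simpa using this.map (algebraMap F (MonoidAlgebra F C))
    rw [hsplit]
    exact IsNilpotent.isUnit_add_right_of_commute hn hu (Commute.all _ _)
  refine ⟨hgeom.unit, ?_⟩
  rw [IsUnit.unit_spec, map_pow, mul_geom_sum]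

end Algebra

section Orbit

variable {G : Type*} [Group G] [Finite G] {p : ℕ} [Fact p.Prime]

/-- The set of `N(P)`-conjugates of a generator of a cyclic Sylow subgroup. -/
theorem orbit_finset (P : Sylow p G) [IsCyclic P] {n : ℕ} (hn : n ≠ 0)
    (hPn : Nat.card P = p ^ n) (x : ↥(P : Subgroup G))
    (hx : ∀ y : ↥(P : Subgroup G), y ∈ Subgroup.zpowers x) :
    ∃ S : Finset ↥(P : Subgroup G), S.Nonempty ∧ S.card ≤ p - 1 ∧ (∀ y ∈ S, orderOf y = p ^ n) ∧
      (∀ g ∈ Subgroup.normalizer ((P : Subgroup G) : Set G), ∀ y ∈ S,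
        ∃ z ∈ S, (z : G) = g * (y : G) * g⁻¹) := by
  classical
  have hp : p.Prime := Fact.out
  set φ := (P : Subgroup G).normalizerMonoidHom with hφ
  haveI : Fintype φ.range := Fintype.ofFinite _
  refine ⟨(Finset.univ : Finset φ.range).image (fun f : φ.range => f.1 x),
    Finset.univ_nonempty.image _, ?_, ?_, ?_⟩
  · refine le_trans Finset.card_image_le ?_
    rw [Finset.card_univ, ← Nat.card_eq_fintype_card]
    have h1 : Nat.card φ.range ∣ p ^ (n - 1) * (p - 1) := by
      rw [← Nat.totient_prime_pow hp (Nat.pos_of_ne_zero hn), ← hPn, ← IsCyclic.card_mulAut]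
      exact Subgroup.card_subgroup_dvd_card _
    have h2 : ¬ p ∣ Nat.card φ.range := by
      rw [← Subgroup.index_ker, hφ, Subgroup.normalizerMonoidHom_ker]
      intro hdvd
      apply P.not_dvd_index
      have hle : (P : Subgroup G) ≤ Subgroup.centralizer ((P : Subgroup G) : Set G) := by
        intro a ha
        rw [Subgroup.mem_centralizer_iff]
        intro b hb
        letI := IsCyclic.commGroup (α := ↥(P : Subgroup G))
        exact congrArg Subtype.val (mul_comm (⟨b, hb⟩ : ↥(P : Subgroup G)) ⟨a, ha⟩)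
      refine hdvd.trans ?_
      refine dvd_trans ?_ (Subgroup.relIndex_dvd_index_of_le (H := (P : Subgroup G))
        (K := Subgroup.normalizer ((P : Subgroup G) : Set G)) Subgroup.le_normalizer)
      exact Subgroup.relIndex_dvd_of_le_left _ hle
    have h3 : Nat.card φ.range ∣ p - 1 :=
      (Nat.Coprime.pow_right _ ((hp.coprime_iff_not_dvd.2 h2).symm)).dvd_of_dvd_mul_left h1
    exact Nat.le_of_dvd (by have := hp.two_le; omega) h3
  · intro y hy
    obtain ⟨f, -, rfl⟩ := Finset.mem_image.1 hy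
    rw [MulEquiv.orderOf_eq, orderOf_eq_card_of_forall_mem_zpowers hx, hPn]
  · intro g hg y hy
    obtain ⟨f, -, rfl⟩ := Finset.mem_image.1 hy
    refine ⟨φ ⟨g, hg⟩ (f.1 x), Finset.mem_image.2
      ⟨⟨φ ⟨g, hg⟩, MonoidHom.mem_range.2 ⟨_, rfl⟩⟩ * f, Finset.mem_univ _, rfl⟩, rfl⟩

end Orbit

section Main

variable {G : Type*} [Group G] [Finite G] {p : ℕ} [Fact p.Prime]

omit [Finite G] in
/-- `p`-elements of the normalizer of a Sylow subgroup lie in it. -/
theorem mem_of_mem_normalizer (P : Sylow p G) {h : G}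
    (hh : h ∈ Subgroup.normalizer ((P : Subgroup G) : Set G))
    (hpow : ∃ k, h ^ p ^ k = 1) : h ∈ (P : Subgroup G) := by
  have hZ : IsPGroup p (Subgroup.zpowers h) := by
    obtain ⟨k, hk⟩ := hpow
    intro z
    obtain ⟨i, hi⟩ := Subgroup.mem_zpowers_iff.1 z.2
    refine ⟨k, ?_⟩
    apply Subtype.ext
    rw [Subgroup.coe_pow, Subgroup.coe_one, ← hi, ← zpow_natCast, ← zpow_mul, mul_comm, zpow_mul,
      zpow_natCast, hk, one_zpow]
  have := P.3 (hZ.to_sup_of_normal_right' P.2 (Subgroup.zpowers_le.2 hh)) le_sup_right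
  exact this ▸ Subgroup.mem_sup_left (Subgroup.mem_zpowers h)

variable {F : Type*} [Field F] [CharP F p] {V : Type*} [AddCommGroup V] [Module F V]

omit [Fact p.Prime] [CharP F p] [Finite G] in
/-- Schur: a nilpotent endomorphism commuting with an irreducible representation is zero. -/
theorem eq_zero_of_commute (ρ : Representation F G V) (hirr : ρ.IsIrreducible)
    (δ : Module.End F V) (hδ : IsNilpotent δ) (hcomm : ∀ g, Commute (ρ g) δ) : δ = 0 := by
  haveI : IsSimpleOrder (Subrepresentation ρ) := hirr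
  let K : Subrepresentation ρ :=
    ⟨LinearMap.ker δ, fun g v hv => by
      rw [LinearMap.mem_ker] at hv ⊢
      rw [← Module.End.mul_apply, ← (hcomm g).eq, Module.End.mul_apply, hv, map_zero]⟩
  rcases IsSimpleOrder.eq_bot_or_eq_top K with h | h
  · have hk : LinearMap.ker δ = ⊥ := congrArg Subrepresentation.toSubmodule h
    obtain ⟨k, hk'⟩ := hδ
    have hinj : Function.Injective δ := LinearMap.ker_eq_bot.1 hk
    ext v
    have h0 : (δ ^ k) v = 0 := by rw [hk']; rfl
    rw [Module.End.pow_apply] at h0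
    have hv : v = 0 := hinj.iterate k (by rw [h0, Function.iterate_fixed (map_zero δ)])
    rw [hv, map_zero, LinearMap.zero_apply]
  · have hk : LinearMap.ker δ = ⊤ := congrArg Subrepresentation.toSubmodule h
    exact LinearMap.ker_eq_top.1 hk

theorem finrank_lower_bound (P : Sylow p G) (hcyc : IsCyclic P) (n : ℕ) (hn : 2 ≤ n)
    (hPn : Nat.card P = p ^ n)
    (hTI : ∀ Q : Sylow p G, Q ≠ P → (P : Subgroup G) ⊓ (Q : Subgroup G) = ⊥)
    [FiniteDimensional F V] (ρ : Representation F G V) (hfaith : Function.Injective ρ)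
    (hirr : ρ.IsIrreducible) : p ^ n - (p - 1) ≤ Module.finrank F V := by
  classical
  by_contra hlt
  rw [not_le] at hlt
  set d := Module.finrank F V with hd
  have hp : p.Prime := Fact.out
  letI : CommGroup ↥(P : Subgroup G) := IsCyclic.commGroup
  obtain ⟨x, hx⟩ := IsCyclic.exists_generator (α := ↥(P : Subgroup G))
  have hox : orderOf x = p ^ n := by rw [orderOf_eq_card_of_forall_mem_zpowers hx, hPn]
  set N := Subgroup.normalizer ((P : Subgroup G) : Set G) with hNdef
  have hpE : (p : Module.End F V) = 0 := by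
    rw [← map_natCast (algebraMap F (Module.End F V)), CharP.cast_eq_zero, map_zero]
  set Λ : MonoidAlgebra F ↥(P : Subgroup G) →ₐ[F] Module.End F V :=
    MonoidAlgebra.lift F (Module.End F V) ↥(P : Subgroup G) (ρ.comp (P : Subgroup G).subtype)
    with hΛ
  have hΛof : ∀ y : ↥(P : Subgroup G), Λ (MonoidAlgebra.of F _ y) = ρ (y : G) := fun y => by
    rw [hΛ, MonoidAlgebra.lift_of]
    rfl
  set A : Module.End F V := Λ (MonoidAlgebra.of F _ x - 1) with hA
  have hA1 : ρ (x : G) = 1 + A := by rw [hA, map_sub, hΛof, map_one, add_sub_cancel]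
  haveI : CharP (MonoidAlgebra F ↥(P : Subgroup G)) p :=
    charP_of_injective_algebraMap (algebraMap F (MonoidAlgebra F ↥(P : Subgroup G))).injective p
  have hAd : A ^ d = 0 := by
    have hnil : IsNilpotent A := by
      refine ⟨p ^ n, ?_⟩
      rw [hA, ← map_pow, sub_pow_char_pow, one_pow, ← map_pow, ← hox, pow_orderOf_eq_one, map_one,
        sub_self, map_zero]
    have h := LinearMap.aeval_self_charpoly A
    rwa [hnil.charpoly_eq_X_pow_finrank, map_pow, Polynomial.aeval_X] at h
  -- the invariant element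
  obtain ⟨S, hSne, hScard, hSord, hSconj⟩ := orbit_finset P (by omega) hPn x hx
  set Φ : Module.End F V := Λ (∏ y ∈ S, (MonoidAlgebra.of F _ y - 1)) with hΦ
  have hstep : ∀ y ∈ S, ∃ u : (MonoidAlgebra F ↥(P : Subgroup G))ˣ,
      MonoidAlgebra.of F _ y - 1 = (MonoidAlgebra.of F _ x - 1) * (u : MonoidAlgebra F _) := by
    intro y hy
    obtain ⟨a, ha⟩ := (mem_powers_iff_mem_zpowers.2 (hx y))
    have hna : ¬ p ∣ a := by
      rintro ⟨b, rfl⟩
      have h1 : y ^ p ^ (n - 1) = 1 := by
        rw [← ha]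
        simp only [← pow_mul]
        rw [show p * b * p ^ (n - 1) = p ^ n * b by
          rw [mul_comm p b, mul_assoc, ← pow_succ', show n - 1 + 1 = n by omega, mul_comm],
          pow_mul, ← hox, pow_orderOf_eq_one, one_pow]
      have h2 := orderOf_dvd_of_pow_eq_one h1
      rw [hSord y hy, Nat.pow_dvd_pow_iff_le_right hp.one_lt] at h2
      omega
    rw [← ha]
    exact single_sub_one x hox a hna
  choose! u hu using hstep
  have hΦA : ∃ U : (Module.End F V)ˣ, Φ = A ^ S.card * (U : Module.End F V) := by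
    refine ⟨Units.map (Λ : MonoidAlgebra F ↥(P : Subgroup G) →* Module.End F V) (∏ y ∈ S, u y), ?_⟩
    rw [hΦ, Finset.prod_congr rfl hu, Finset.prod_mul_distrib, Finset.prod_const, map_mul, map_pow,
      ← hA]
    simp [Units.coe_prod]
  obtain ⟨U, hU⟩ := hΦA
  -- conjugation
  have hconjΦ : ∀ g ∈ N, ρ g * Φ * ρ g⁻¹ = Φ := by
    intro g hg
    set σ : ↥(P : Subgroup G) ≃* ↥(P : Subgroup G) :=
      (P : Subgroup G).normalizerMonoidHom ⟨g, hg⟩ with hσ
    have hginv : ρ g⁻¹ * ρ g = 1 := by rw [← map_mul, inv_mul_cancel, map_one]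
    have hg' : ρ g * ρ g⁻¹ = 1 := by rw [← map_mul, mul_inv_cancel, map_one]
    have hmap : ∀ r, ρ g * Λ r * ρ g⁻¹ =
        Λ (MonoidAlgebra.mapDomainRingHom F σ.toMonoidHom r) := by
      intro r
      induction r using MonoidAlgebra.induction_on with
      | of y =>
        rw [hΛof, ← map_mul, ← map_mul]
        rw [show MonoidAlgebra.mapDomainRingHom F σ.toMonoidHom (MonoidAlgebra.of F _ y)
          = MonoidAlgebra.of F _ (σ y) by simp [MonoidAlgebra.of_apply], hΛof]
        rfl
      | add a b ha hb => simp only [map_add, mul_add, add_mul, ha, hb]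
      | smul c a ha =>
        rw [map_smul, mul_smul_comm, smul_mul_assoc, ha, ← map_smul]
        congr 1
        simp [MonoidAlgebra.mapDomain_smul]
    rw [hΦ, hmap, map_prod]
    congr 1
    refine Finset.prod_nbij σ (fun y hy => ?_) σ.injective.injOn ?_ (fun y _ => ?_)
    · obtain ⟨z, hz, hzval⟩ := hSconj g hg y hy
      exact (show σ y = z from Subtype.ext hzval.symm) ▸ hz
    · refine Finset.surjOn_of_injOn_of_card_le _ ?_ σ.injective.injOn le_rfl
      intro y hy
      obtain ⟨z, hz, hzval⟩ := hSconj g hg y hy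
      exact (show σ y = z from Subtype.ext hzval.symm) ▸ hz
    · rw [map_sub, map_one]
      simp [MonoidAlgebra.of_apply]
  have hxN : (x : G) ∈ N := Subgroup.le_normalizer x.2
  -- transfer
  letI : Fintype (G ⧸ N) := Fintype.ofFinite _
  let T : G ⧸ N → Module.End F V := fun q => Quotient.liftOn' q (fun g => ρ g * Φ * ρ g⁻¹) (by
    intro a b hab
    rw [QuotientGroup.leftRel_apply] at hab
    have h := hconjΦ _ hab
    calc ρ a * Φ * ρ a⁻¹ = ρ a * (ρ (a⁻¹ * b) * Φ * ρ (a⁻¹ * b)⁻¹) * ρ a⁻¹ := by rw [h]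
      _ = ρ (a * (a⁻¹ * b)) * Φ * ρ ((a⁻¹ * b)⁻¹ * a⁻¹) := by simp only [map_mul, mul_assoc]
      _ = ρ b * Φ * ρ b⁻¹ := by congr <;> group)
  have hTmk : ∀ g : G, T g = ρ g * Φ * ρ g⁻¹ := fun g => rfl
  have hTsmul : ∀ (h : G) q, T (h • q) = ρ h * T q * ρ h⁻¹ := by
    intro h q
    induction q using QuotientGroup.induction_on with
    | _ g =>
      rw [MulAction.Quotient.smul_coe, smul_eq_mul, hTmk, hTmk, mul_inv_rev, map_mul, map_mul]
      simp only [mul_assoc]
  set δ := ∑ q, T q with hδdef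
  have hδ : ∀ g, Commute (ρ g) δ := by
    intro g
    have h1 : ρ g * δ * ρ g⁻¹ = δ := by
      rw [hδdef, Finset.mul_sum, Finset.sum_mul]
      simp only [← hTsmul]
      exact Equiv.sum_comp (MulAction.toPerm g) T
    calc ρ g * δ = ρ g * δ * (ρ g⁻¹ * ρ g) := by rw [← map_mul, inv_mul_cancel, map_one, mul_one]
      _ = δ * ρ g := by rw [← mul_assoc, h1]
  let X := {q : G ⧸ N // q ≠ ((1 : G) : G ⧸ N)}
  have hfix : ∀ y : ↥(P : Subgroup G), (y : G) • ((1 : G) : G ⧸ N) = ((1 : G) : G ⧸ N) := by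
    intro y
    rw [MulAction.Quotient.smul_coe, smul_eq_mul, mul_one, QuotientGroup.eq, mul_one]
    exact N.inv_mem (Subgroup.le_normalizer y.2)
  letI : MulAction ↥(P : Subgroup G) X :=
    { smul := fun y q => ⟨(y : G) • q.1, fun h => q.2 (MulAction.injective (y : G) (h.trans (hfix y).symm))⟩
      one_smul := fun q => Subtype.ext (one_smul G q.1)
      mul_smul := fun a b q => Subtype.ext (mul_smul (a : G) (b : G) q.1) }
  have hfree : ∀ q : X, MulAction.stabilizer ↥(P : Subgroup G) q = ⊥ := by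
    rintro ⟨q, hq⟩
    induction q using QuotientGroup.induction_on with
    | _ g =>
      rw [eq_bot_iff]
      intro y hy
      rw [MulAction.mem_stabilizer_iff] at hy
      have hy' : (((y : G) * g : G) : G ⧸ N) = g := congrArg Subtype.val hy
      rw [QuotientGroup.eq] at hy'
      have hy2 : g⁻¹ * (y : G) * g ∈ N := by
        have := N.inv_mem hy'
        simpa [mul_assoc] using this
      have hgN : g ∉ N := fun hgN => hq (by rw [QuotientGroup.eq, mul_one]; exact N.inv_mem hgN)
      have hyP : g⁻¹ * (y : G) * g ∈ (P : Subgroup G) := by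
        refine mem_of_mem_normalizer P hy2 ⟨n, ?_⟩
        have h1 : y ^ p ^ n = 1 := by rw [← hPn]; exact pow_card_eq_one'
        have h2 := congrArg Subtype.val h1
        simp only [Subgroup.coe_pow, Subgroup.coe_one] at h2
        have h3 : (MulAut.conj g⁻¹ (y : G)) ^ p ^ n = 1 := by rw [← map_pow, h2, map_one]
        simpa [MulAut.conj_apply] using h3
      have hne : g • P ≠ P := fun h => hgN (Sylow.smul_eq_iff_mem_normalizer.1 h)
      have hmem : (y : G) ∈ ((g • P : Sylow p G) : Subgroup G) := by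
        rw [Sylow.coe_subgroup_smul, Subgroup.mem_pointwise_smul_iff_inv_smul_mem]
        simpa [MulAut.smul_def, MulAut.conj_apply] using hyP
      have : (y : G) ∈ (P : Subgroup G) ⊓ ((g • P : Sylow p G) : Subgroup G) := ⟨y.2, hmem⟩
      rw [hTI _ hne, Subgroup.mem_bot] at this
      exact Subgroup.mem_bot.2 (Subtype.ext this)
  letI : Fintype ↥(P : Subgroup G) := Fintype.ofFinite _
  letI : Fintype X := Fintype.ofFinite _
  letI : Fintype (Quotient (MulAction.orbitRel ↥(P : Subgroup G) X)) := Fintype.ofFinite _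
  let e := MulAction.selfEquivOrbitsQuotientProd hfree
  set ψ := ∑ o : Quotient (MulAction.orbitRel ↥(P : Subgroup G) X), T (o.out).1 with hψ
  set j := δ - Φ with hjdef
  have hj : j = ∑ y : ↥(P : Subgroup G), ρ (y : G) * ψ * ρ (y : G)⁻¹ := by
    have h1 : δ = T ((1 : G) : G ⧸ N) + ∑ q : X, T q.1 := by
      rw [hδdef, ← Finset.add_sum_erase _ _ (Finset.mem_univ ((1 : G) : G ⧸ N))]
      congr 1
      exact Finset.sum_subtype _ (fun q => by simp) T
    rw [hjdef, h1, hTmk, map_one, inv_one, map_one, one_mul, mul_one, add_sub_cancel_left,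
      ← e.symm.sum_comp, Fintype.sum_prod_type_right]
    refine Finset.sum_congr rfl fun y _ => ?_
    rw [hψ, Finset.mul_sum, Finset.sum_mul]
    refine Finset.sum_congr rfl fun o _ => ?_
    rw [← hTsmul]
    rfl
  have hjrange : ∑ y : ↥(P : Subgroup G), ρ (y : G) * ψ * ρ (y : G)⁻¹ =
      (∑ i ∈ range (p ^ n), (1 + A) ^ i * ψ * (1 + A) ^ (p ^ n - 1 - i)) * (1 + A) := by
    rw [Finset.sum_mul]
    refine (Finset.sum_bij (fun i _ => x ^ i) (fun i _ => Finset.mem_univ _) ?_ ?_ ?_).symm
    · intro i hi k hk h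
      rw [pow_inj_mod, hox, Nat.mod_eq_of_lt (mem_range.1 hi), Nat.mod_eq_of_lt (mem_range.1 hk)] at h
      exact h
    · intro y _
      obtain ⟨a, ha⟩ := (mem_powers_iff_mem_zpowers.2 (hx y))
      refine ⟨a % p ^ n, mem_range.2 (Nat.mod_lt _ (pow_pos hp.pos n)), ?_⟩
      rw [← hox, pow_mod_orderOf]; exact ha
    · intro i hi
      rw [mem_range] at hi
      have hinv : ((x ^ i : ↥(P : Subgroup G)) : G)⁻¹ = (x : G) ^ (p ^ n - 1 - i + 1) := by
        rw [Subgroup.coe_pow]
        apply inv_eq_of_mul_eq_one_right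
        rw [← pow_add, show i + (p ^ n - 1 - i + 1) = p ^ n by omega, ← hox]
        rw [← Subgroup.coe_pow, pow_orderOf_eq_one, Subgroup.coe_one]
      rw [hinv, Subgroup.coe_pow, map_pow, map_pow, hA1, pow_succ]
      simp only [mul_assoc]
  obtain ⟨ω, hω⟩ := trace_range hp hpE n A ψ d hAd
  have hjω : j = A ^ (p ^ n - d) * (ω * (1 + A)) := by rw [hj, hjrange, hω, mul_assoc]
  have hk : S.card < p ^ n - d := by omega
  have hAΦ : Commute A Φ := by
    rw [hA, hΦ]
    exact (Commute.all _ _).map Λ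
  have hAδ : Commute A δ := by
    have := hδ (x : G)
    rw [hA1] at this
    simpa using this.sub_left (Commute.one_left δ)
  have hjnil : IsNilpotent j := by
    refine nilpotent_of_left_factor (A := A) (ω := A ^ (p ^ n - d - 1) * (ω * (1 + A))) ?_
      (hAδ.sub_right hAΦ) hAd
    conv_lhs => rw [hjω, show p ^ n - d = p ^ n - d - 1 + 1 by omega, pow_succ', mul_assoc]
    done
  have hS0 : S.card ≠ 0 := by
    intro h
    rw [Finset.card_eq_zero] at h
    exact hSne.ne_empty h
  have hΦnil : IsNilpotent Φ := by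
    refine nilpotent_of_left_factor (A := A) (ω := A ^ (S.card - 1) * (U : Module.End F V)) ?_ hAΦ
      hAd
    rw [hU, ← mul_assoc, ← pow_succ', show S.card - 1 + 1 = S.card by omega]
  have hΦδ : Commute Φ δ := by
    have hcl : ∀ r, Commute (Λ r) δ := by
      intro r
      induction r using MonoidAlgebra.induction_on with
      | of y => rw [hΛof]; exact hδ _
      | add a b ha hb => rw [map_add]; exact ha.add_left hb
      | smul c a ha => rw [map_smul]; exact ha.smul_left c
    exact hcl _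
  have hδnil : IsNilpotent δ := by
    have : δ = Φ + j := by rw [hjdef]; abel
    rw [this]
    exact (hΦδ.sub_right (Commute.refl Φ)).isNilpotent_add hΦnil hjnil
  have hδ0 : δ = 0 := eq_zero_of_commute ρ hirr δ hδnil hδ
  -- `A ^ e` is a left multiple of a higher power
  have hA0 : A ^ S.card = 0 := by
    refine pow_eq_zero_of_eq_mul (B := -(A ^ (p ^ n - d - (S.card + 1)) * (ω * (1 + A))) *
      (↑U⁻¹ : Module.End F V)) hAd ?_
    have h1 : Φ = -j := by rw [hjdef, hδ0, zero_sub, neg_neg]
    calc A ^ S.card = Φ * (↑U⁻¹ : Module.End F V) := by rw [hU, mul_assoc, U.mul_inv, mul_one]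
      _ = _ := by
        rw [h1, hjω]
        conv_lhs => rw [show p ^ n - d = S.card + 1 + (p ^ n - d - (S.card + 1)) by omega, pow_add]
        simp only [mul_assoc, neg_mul, mul_neg]
  -- faithful
  have hxp : (x : G) ^ p ≠ 1 := by
    intro h
    have h' : x ^ p = 1 := Subtype.ext (by simpa using h)
    have := orderOf_dvd_of_pow_eq_one h'
    rw [hox, show p = p ^ 1 from (pow_one p).symm, ← pow_mul, one_mul,
      Nat.pow_dvd_pow_iff_le_right hp.one_lt] at this
    omega
  apply hxp
  apply hfaith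
  have hAp : A ^ p = 0 := pow_eq_zero_of_le (by omega) hA0
  have hpow : (MonoidAlgebra.of F ↥(P : Subgroup G) x - 1) ^ p
      = MonoidAlgebra.of F _ (x ^ p) - 1 := by rw [sub_pow_char, one_pow, map_pow]
  have h := congrArg Λ hpow
  rw [map_pow, ← hA, hAp, map_sub, hΛof, map_one] at h
  rw [map_one, ← Subgroup.coe_pow]
  exact (sub_eq_zero.1 h.symm)

end Main

end Cfsg.Agent.Char.CycTI
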