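import Cfsg.Agent.Lib.Char.ExtendMain
import Cfsg.Agent.Lib.Char.Galois
import Cfsg.Agent.Lib.Char.Integral
import Cfsg.Agent.Lib.Char.SourceIdem
import Cfsg.Agent.Lib.Char.CoprimeDegree
import Cfsg.Agent.Lib.Grp.SchurZassenhaus
import Cfsg.Agent.S0867

/-!
The Glauberman correspondence for a coprime cyclic operator group: the values of a canonical
extension on the coset of a generator are, up to a sign, those of an irreducible character of the
fixed points.
-/

namespace Cfsg.Agent.Char.CycGlaub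

open scoped ComplexConjugate Pointwise
open Cfsg Cfsg.Agent.Block Cfsg.Agent.Char.Spec

set_option linter.unusedSectionVars false

universe u

variable {Γ : Type u} [Group Γ] {G C : Subgroup Γ} {s : Γ}

/-- A normal subgroup with a coprime cyclic complement and its fixed points. -/
structure Setup (G : Subgroup Γ) (s : Γ) (C : Subgroup Γ) : Prop where
  cop : (Nat.card G).Coprime (orderOf s)
  idx : G.index = orderOf s
  dec : ∀ x : Γ, ∃ i : ℕ, x * (s ^ i)⁻¹ ∈ G
  memC : ∀ x : Γ, x ∈ C ↔ x ∈ G ∧ x * s = s * x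

variable [Fintype Γ] [G.Normal] [Fintype G] [Fintype C]

theorem Setup.pos (_h : Setup G s C) : 0 < orderOf s := orderOf_pos s

theorem Setup.eq_one_of_mem (h : Setup G s C) {i : ℕ} (hi : s ^ i ∈ G) : s ^ i = 1 := by
  refine orderOf_eq_one_iff.mp (Nat.eq_one_of_dvd_coprimes h.cop ?_ (orderOf_pow_dvd i))
  rw [← Subgroup.orderOf_mk (s ^ i) hi]
  exact orderOf_dvd_natCard _

theorem Setup.exists_exp (h : Setup G s C) :
    ∃ k : ℕ, Nat.card G ∣ k ∧ k ≡ 1 [MOD orderOf s] := by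
  obtain ⟨k, h0, h1⟩ := Nat.chineseRemainder h.cop 0 1
  exact ⟨k, Nat.modEq_zero_iff_dvd.mp h0, h1⟩

theorem Setup.mul_pow_exp (h : Setup G s C) {k : ℕ} (hk0 : Nat.card G ∣ k)
    (hk1 : k ≡ 1 [MOD orderOf s]) (c : C) : ((c : Γ) * s) ^ k = s := by
  obtain ⟨hcG, hcs⟩ := (h.memC c).1 c.2
  rw [(show Commute (c : Γ) s from hcs).mul_pow]
  have h1 : (c : Γ) ^ k = 1 := orderOf_dvd_iff_pow_eq_one.1
    (dvd_trans (by rw [← Subgroup.orderOf_mk (c : Γ) hcG]; exact orderOf_dvd_natCard _) hk0)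
  rw [h1, one_mul]
  conv_rhs => rw [← pow_one s]
  exact pow_eq_pow_iff_modEq.2 hk1

theorem Setup.conj_unique (h : Setup G s C) {g : Γ} (hg : g ∈ G) {c c' : C}
    (he : g * ((c : Γ) * s) * g⁻¹ = c' * s) : g ∈ C ∧ g * c * g⁻¹ = c' := by
  obtain ⟨k, hk0, hk1⟩ := h.exists_exp
  have h1 := congrArg (fun y => y ^ k) he
  simp only [conj_pow, h.mul_pow_exp hk0 hk1] at h1
  refine ⟨(h.memC g).2 ⟨hg, mul_inv_eq_iff_eq_mul.1 h1⟩, mul_right_cancel (b := s) ?_⟩
  rw [← he]
  conv_lhs => rw [← h1]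
  group

theorem Setup.conj_unique' (h : Setup G s C) {g : Γ} {c c' : C}
    (he : g * ((c : Γ) * s) * g⁻¹ = c' * s) : IsConj c c' := by
  obtain ⟨i, hi⟩ := h.dec g
  have hcs := ((h.memC c).1 c.2).2
  have hc : Commute (s ^ i) ((c : Γ) * s) :=
    (((show Commute (c : Γ) s from hcs).symm).mul_right (Commute.refl s)).pow_left i
  have he' : g * (s ^ i)⁻¹ * ((c : Γ) * s) * (g * (s ^ i)⁻¹)⁻¹ = c' * s := by
    rw [← he, mul_inv_rev, inv_inv]
    calc g * (s ^ i)⁻¹ * ((c : Γ) * s) * (s ^ i * g⁻¹)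
        = g * ((s ^ i)⁻¹ * (((c : Γ) * s) * s ^ i)) * g⁻¹ := by group
      _ = _ := by rw [← hc.eq, inv_mul_cancel_left]
  obtain ⟨hm, hcc⟩ := h.conj_unique hi he'
  exact isConj_iff.2 ⟨⟨_, hm⟩, Subtype.ext hcc⟩

theorem Setup.exists_conj (h : Setup G s C) {x : Γ} (hx : x * s⁻¹ ∈ G) :
    ∃ g ∈ G, ∃ c : C, g * x * g⁻¹ = c * s := by
  classical
  have hm := h.pos
  obtain ⟨k, hk0, hk1⟩ := h.exists_exp
  have hxs : (x : Γ ⧸ G) = s := by
    rw [QuotientGroup.eq_iff_div_mem, div_eq_mul_inv]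
    exact hx
  have hvs : x ^ k * s⁻¹ ∈ G := by
    rw [← div_eq_mul_inv, ← QuotientGroup.eq_iff_div_mem, QuotientGroup.mk_pow, hxs,
      ← QuotientGroup.mk_pow]
    congr 1
    conv_rhs => rw [← pow_one s]
    exact pow_eq_pow_iff_modEq.2 hk1
  set v := x ^ k with hv
  have hvm : v ^ orderOf s = 1 := by
    rw [hv, ← pow_mul, mul_comm, pow_mul]
    have hmem : x ^ orderOf s ∈ G := h.idx ▸ G.pow_index_mem x
    obtain ⟨j, hj⟩ := hk0
    have : (⟨_, hmem⟩ : G) ^ k = 1 := by rw [hj, pow_mul, pow_card_eq_one', one_pow]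
    exact congrArg Subtype.val this
  have hord : orderOf v = orderOf s := by
    refine Nat.dvd_antisymm (orderOf_dvd_of_pow_eq_one hvm) (orderOf_dvd_of_pow_eq_one ?_)
    refine h.eq_one_of_mem ?_
    have hvs' : (v : Γ ⧸ G) = s := by
      rw [QuotientGroup.eq_iff_div_mem, div_eq_mul_inv]
      exact hvs
    rw [← QuotientGroup.eq_one_iff, QuotientGroup.mk_pow, ← hvs', ← QuotientGroup.mk_pow,
      pow_orderOf_eq_one, QuotientGroup.mk_one]
  have hle : Subgroup.zpowers v ≤ G ⊔ Subgroup.zpowers s := Subgroup.zpowers_le.2 (by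
    rw [show v = v * s⁻¹ * s by group]
    exact mul_mem (Subgroup.mem_sup_left hvs) (Subgroup.mem_sup_right (Subgroup.mem_zpowers s)))
  have hcomm : ∀ a b : Subgroup.zpowers s, a * b = b * a := fun a b =>
    (IsCyclic.commutative (α := Subgroup.zpowers s)).is_comm.comm a b
  obtain ⟨n, hn, hns⟩ := Cfsg.Agent.Grp.exists_conj_of_le_sup (N := G) (H := Subgroup.zpowers s)
    (fun y _ => by rw [Subgroup.normalizer_eq_top]; trivial) hle
    (by rw [Nat.card_zpowers, Nat.card_zpowers, hord]) (by rw [Nat.card_zpowers]; exact h.cop)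
    (Or.inr (Group.isSolvable_of_comm hcomm))
  have hvmem : v ∈ MulAut.conj n • Subgroup.zpowers s := hns ▸ Subgroup.mem_zpowers v
  obtain ⟨w, hw, hwv⟩ := (Subgroup.mem_smul_pointwise_iff_exists _ _ _).1 hvmem
  have hwv' : n * w * n⁻¹ = v := hwv
  have hw' : w = s := by
    obtain ⟨i, rfl⟩ := Subgroup.mem_zpowers_iff.1 hw
    obtain ⟨j, hj⟩ := mem_powers_iff_mem_zpowers.2 (Subgroup.zpow_mem_zpowers s i)
    simp only at hj
    have h2 : (QuotientGroup.mk (s ^ i) : Γ ⧸ G) = s := by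
      have hn1 : (n : Γ ⧸ G) = 1 := (QuotientGroup.eq_one_iff _).2 hn
      have hvs' : (v : Γ ⧸ G) = s := by
        rw [QuotientGroup.eq_iff_div_mem, div_eq_mul_inv]
        exact hvs
      rw [← hvs', ← hwv']
      simp [hn1]
    rw [← hj] at h2 ⊢
    rw [QuotientGroup.eq] at h2
    -- `(s ^ j)⁻¹ * s` is a power of `s` in `G`
    obtain ⟨l, hl⟩ := mem_powers_iff_mem_zpowers.2
      (mul_mem (inv_mem (Subgroup.npow_mem_zpowers s j)) (Subgroup.mem_zpowers s) :
        (s ^ j)⁻¹ * s ∈ Subgroup.zpowers s)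
    simp only at hl
    rw [← hl] at h2
    exact (inv_mul_eq_one.1 (hl ▸ h.eq_one_of_mem h2))
  subst hw'
  set y := n⁻¹ * x * n with hy
  have hys : y ^ k = w := by
    have := conj_pow (a := n⁻¹) (b := x) (i := k)
    rw [inv_inv] at this
    rw [hy, this, ← hv, ← hwv']
    group
  have hcom : Commute y w := hys ▸ (Commute.pow_self y k).symm
  have hyG : y * w⁻¹ ∈ G := by
    rw [← QuotientGroup.eq_one_iff, QuotientGroup.mk_mul, QuotientGroup.mk_inv, hy,
      QuotientGroup.mk_mul, QuotientGroup.mk_mul, QuotientGroup.mk_inv,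
      (QuotientGroup.eq_one_iff n).2 hn, hxs]
    simp
  refine ⟨n⁻¹, inv_mem hn, ⟨y * w⁻¹, (h.memC _).2 ⟨hyG, ?_⟩⟩, ?_⟩
  · show y * w⁻¹ * w = w * (y * w⁻¹)
    rw [inv_mul_cancel_right, ← mul_assoc, ← hcom.eq, mul_inv_cancel_right]
  · show n⁻¹ * x * n⁻¹⁻¹ = y * w⁻¹ * w
    rw [inv_inv, inv_mul_cancel_right]

theorem Setup.le (h : Setup G s C) : C ≤ G := fun x hx => ((h.memC x).1 hx).1

/-- Sums of class functions over the coset of the generator reduce to the fixed points. -/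
theorem Setup.sum_coset (h : Setup G s C) {F : Γ → ℂ} (hF : IsClassFunction Γ F) :
    (Nat.card C : ℂ) * ∑ g : G, F (g * s) = (Nat.card G : ℂ) * ∑ c : C, F (c * s) := by
  classical
  let Φ : G × C → G := fun z => ⟨(z.1 : Γ) * ((z.2 : Γ) * s) * (z.1 : Γ)⁻¹ * s⁻¹, by
    rw [show (z.1 : Γ) * ((z.2 : Γ) * s) * (z.1 : Γ)⁻¹ * s⁻¹ =
      z.1 * z.2 * (s * (z.1 : Γ)⁻¹ * s⁻¹) by group]
    exact mul_mem (mul_mem z.1.2 (h.le z.2.2))
      ((inferInstance : G.Normal).conj_mem _ (inv_mem z.1.2) s)⟩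
  have hΦ : ∀ z, (Φ z : Γ) * s = (z.1 : Γ) * ((z.2 : Γ) * s) * (z.1 : Γ)⁻¹ := fun z => by
    simp [Φ]
  have hfib : ∀ y : G, (Finset.univ.filter (fun z => Φ z = y)).card = Nat.card C := by
    intro y
    obtain ⟨g, hg, c, hc⟩ := h.exists_conj (x := (y : Γ) * s) (by simp)
    have hc' : (y : Γ) * s = g⁻¹ * ((c : Γ) * s) * g := by rw [← hc]; group
    rw [Nat.card_eq_fintype_card, ← Finset.card_univ]
    refine (Finset.card_bij
      (fun (d : C) _ => ((⟨g⁻¹ * d, mul_mem (inv_mem hg) (h.le d.2)⟩ : G), d⁻¹ * c * d)) ?_ ?_ ?_).symm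
    · intro d _
      refine Finset.mem_filter.2 ⟨Finset.mem_univ _, Subtype.ext (mul_right_cancel (b := s) ?_)⟩
      rw [hΦ, hc']
      have hd := ((h.memC d).1 d.2).2
      show g⁻¹ * d * (((d⁻¹ * c * d : C) : Γ) * s) * (g⁻¹ * d)⁻¹ = _
      simp only [Subgroup.coe_mul, Subgroup.coe_inv]
      calc g⁻¹ * d * ((d : Γ)⁻¹ * c * d * s) * (g⁻¹ * d)⁻¹
          = g⁻¹ * (c * (d * s) * (d : Γ)⁻¹) * g := by group
        _ = _ := by rw [hd]; group
    · intro d _ d' _ he
      exact Subtype.ext (mul_left_cancel (congrArg Subtype.val (congrArg Prod.fst he)))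
    · rintro ⟨a, b⟩ hab
      have hab' := congrArg (fun w : G => (w : Γ) * s) (Finset.mem_filter.1 hab).2
      rw [hΦ, hc'] at hab'
      have he : g * a * ((b : Γ) * s) * (g * a)⁻¹ = c * s := by
        calc _ = g * ((a : Γ) * ((b : Γ) * s) * (a : Γ)⁻¹) * g⁻¹ := by group
          _ = _ := by rw [hab']; group
      obtain ⟨hm, hcc⟩ := h.conj_unique (mul_mem hg a.2) he
      refine ⟨⟨g * a, hm⟩, Finset.mem_univ _, Prod.ext (Subtype.ext ?_) (Subtype.ext ?_)⟩
      · show g⁻¹ * (g * (a : Γ)) = a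
        group
      · show ((⟨g * a, hm⟩ : C)⁻¹ * c * ⟨g * a, hm⟩ : C).1 = (b : Γ)
        simp only [Subgroup.coe_mul, Subgroup.coe_inv]
        rw [← hcc]
        group
  have h2 : ∀ z : G × C, F ((z.2 : Γ) * s) = F ((Φ z : Γ) * s) := fun z => by
    rw [hΦ]
    exact (hF _ _).symm
  have h1 : ∑ z : G × C, F ((z.2 : Γ) * s) = ∑ y : G, (Nat.card C : ℂ) * F (y * s) := by
    rw [← Finset.sum_fiberwise Finset.univ Φ]
    refine Finset.sum_congr rfl fun y _ => ?_
    rw [Finset.sum_congr rfl (g := fun _ => F ((y : Γ) * s)) fun z hz => by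
        rw [h2, (Finset.mem_filter.1 hz).2], Finset.sum_const, hfib, nsmul_eq_mul]
  simp only [Fintype.sum_prod_type, Finset.sum_const, Finset.card_univ, ← Nat.card_eq_fintype_card,
    nsmul_eq_mul] at h1
  rw [Finset.mul_sum]
  exact h1.symm

theorem Setup.exists_twist (h : Setup G s C) : ∃ (ω : ℂ) (l : Γ →* ℂˣ),
    IsPrimitiveRoot ω (orderOf s) ∧ (l s : ℂ) = ω ∧ (∀ g ∈ G, l g = 1) ∧
      ∀ x : Γ, (l x : ℂ) = ω → x * s⁻¹ ∈ G := by
  have hm := h.pos
  obtain ⟨ω, hω⟩ : ∃ ω : ℂ, IsPrimitiveRoot ω (orderOf s) :=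
    ⟨_, Complex.isPrimitiveRoot_exp _ hm.ne'⟩
  let u : ℂˣ := (hω.isUnit hm.ne').unit
  have hgen : ∀ q : Γ ⧸ G, q ∈ Subgroup.zpowers (s : Γ ⧸ G) := by
    intro q
    obtain ⟨x, rfl⟩ := QuotientGroup.mk_surjective q
    obtain ⟨i, hi⟩ := h.dec x
    refine Subgroup.mem_zpowers_iff.2 ⟨(i : ℤ), ?_⟩
    rw [zpow_natCast, ← QuotientGroup.mk_pow, eq_comm, QuotientGroup.eq_iff_div_mem, div_eq_mul_inv]
    exact hi
  have hu : orderOf u = orderOf s := by
    rw [← orderOf_units]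
    exact hω.eq_orderOf.symm
  have hq : orderOf u ∣ orderOf (s : Γ ⧸ G) := by
    rw [hu]
    refine orderOf_dvd_of_pow_eq_one (h.eq_one_of_mem ?_)
    rw [← QuotientGroup.eq_one_iff, QuotientGroup.mk_pow, pow_orderOf_eq_one]
  set φ := monoidHomOfForallMemZpowers hgen hq
  have hφs : φ (s : Γ ⧸ G) = u := monoidHomOfForallMemZpowers_apply_gen hgen hq
  refine ⟨ω, φ.comp (QuotientGroup.mk' G), hω, ?_, fun g hg => ?_, fun x hx => ?_⟩
  · show ((φ (s : Γ ⧸ G) : ℂˣ) : ℂ) = ω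
    rw [hφs]
    rfl
  · show φ (g : Γ ⧸ G) = 1
    rw [(QuotientGroup.eq_one_iff g).2 hg, map_one]
  · obtain ⟨i, hi⟩ := h.dec x
    have hxi : (x : Γ ⧸ G) = (s ^ i : Γ) := by
      rw [QuotientGroup.eq_iff_div_mem, div_eq_mul_inv]
      exact hi
    have h1 : ω ^ i = ω ^ 1 := by
      rw [pow_one]
      conv_rhs => rw [← hx]
      show ω ^ i = ((φ (x : Γ ⧸ G) : ℂˣ) : ℂ)
      rw [hxi, QuotientGroup.mk_pow, map_pow, hφs, Units.val_pow_eq_pow_val]
      rfl
    rw [(hω.isOfFinOrder hm.ne').pow_eq_pow_iff_modEq, ← hω.eq_orderOf] at h1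
    have h3 : s ^ i = s := by
      conv_rhs => rw [← pow_one s]
      exact pow_eq_pow_iff_modEq.2 h1
    rwa [h3] at hi

theorem root_sum {m : ℕ} {z : ℂ} (hz : z ^ m = 1) :
    ∑ j ∈ Finset.range m, z ^ j = if z = 1 then (m : ℂ) else 0 := by
  split_ifs with h1
  · simp [h1]
  · exact (mul_eq_zero.1 (by rw [geom_sum_mul, hz, sub_self] :
      (∑ j ∈ Finset.range m, z ^ j) * (z - 1) = 0)).resolve_right (sub_ne_zero.2 h1)

/-- The sums over a coset are combinations of inner products with twists. -/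
theorem Setup.coset_inner (h : Setup G s C) {ω : ℂ} {l : Γ →* ℂˣ}
    (hω : IsPrimitiveRoot ω (orderOf s)) (hl : ∀ g ∈ G, l g = 1) (hls : (l s : ℂ) = ω)
    (hlx : ∀ x : Γ, (l x : ℂ) = ω → x * s⁻¹ ∈ G) (f : Γ → ℂ) :
    (∑ g : G, f (g * s)) * (orderOf s : ℂ) =
      ∑ j ∈ Finset.range (orderOf s), ω ^ ((orderOf s - 1) * j) * ∑ x : Γ, (l x : ℂ) ^ j * f x := by
  classical
  have hm := h.pos
  set m := orderOf s with hmdef
  have hlm : ∀ x : Γ, (l x : ℂ) ^ m = 1 := by
    intro x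
    rw [← Units.val_pow_eq_pow_val, ← map_pow, hl _ (show x ^ orderOf s ∈ G from h.idx ▸ G.pow_index_mem x), Units.val_one]
  have hinv : ω ^ (m - 1) * ω = 1 := by
    rw [← pow_succ, show m - 1 + 1 = m by omega, hω.pow_eq_one]
  simp only [Finset.mul_sum]
  rw [Finset.sum_comm]
  have key : ∀ x : Γ, ∑ j ∈ Finset.range m, ω ^ ((m - 1) * j) * ((l x : ℂ) ^ j * f x) =
      if x * s⁻¹ ∈ G then (m : ℂ) * f x else 0 := by
    intro x
    rw [Finset.sum_congr rfl (g := fun j => (ω ^ (m - 1) * (l x : ℂ)) ^ j * f x) fun j _ => by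
      rw [mul_pow, pow_mul, mul_assoc], ← Finset.sum_mul, root_sum (by
        rw [mul_pow, hlm, mul_one, ← pow_mul, mul_comm, pow_mul, hω.pow_eq_one, one_pow])]
    by_cases hx : x * s⁻¹ ∈ G
    · rw [if_pos hx, if_pos]
      have e : (l x : ℂ) = ω := by
        have h1 := hl _ hx
        rw [map_mul, map_inv, mul_inv_eq_one] at h1
        rw [h1, hls]
      rw [e, hinv]
    · rw [if_neg hx, if_neg, zero_mul]
      intro h1
      refine hx (hlx x ?_)
      calc (l x : ℂ) = ω * (ω ^ (m - 1) * (l x : ℂ)) := by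
            rw [← mul_assoc, mul_comm ω, hinv, one_mul]
        _ = ω := by rw [h1, mul_one]
  simp only [key]
  rw [← Finset.sum_filter, Finset.sum_mul]
  refine Finset.sum_bij (fun (g : G) _ => (g : Γ) * s) (fun g _ => by simp)
    (fun a _ b _ he => Subtype.ext (mul_right_cancel he))
    (fun x hx => ⟨⟨x * s⁻¹, (Finset.mem_filter.1 hx).2⟩, Finset.mem_univ _, by simp⟩)
    (fun g _ => mul_comm _ _)

/-- Products of values on the coset, through the fixed points. -/
theorem Setup.inner_eq (h : Setup G s C) {ω : ℂ} {l : Γ →* ℂˣ}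
    (hω : IsPrimitiveRoot ω (orderOf s)) (hl : ∀ g ∈ G, l g = 1) (hls : (l s : ℂ) = ω)
    (hlx : ∀ x : Γ, (l x : ℂ) = ω → x * s⁻¹ ∈ G) (ψ ψ' : IrrCharacter Γ) :
    classInner (fun c : C => (ψ : Γ → ℂ) (c * s)) (fun c : C => (ψ' : Γ → ℂ) (c * s)) =
      ∑ j ∈ Finset.range (orderOf s), ω ^ ((orderOf s - 1) * j) *
        classInner (fun x => (((l ^ j) x : ℂˣ) : ℂ) * (ψ : Γ → ℂ) x) (ψ' : Γ → ℂ) := by
  have hcardΓ : (Nat.card Γ : ℂ) = Nat.card G * orderOf s := by
    rw [← Subgroup.card_mul_index G, h.idx, Nat.cast_mul]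
  have hG0 : (Nat.card G : ℂ) ≠ 0 := Nat.cast_ne_zero.2 Nat.card_pos.ne'
  have hC0 : (Nat.card C : ℂ) ≠ 0 := Nat.cast_ne_zero.2 Nat.card_pos.ne'
  have hm0 : (orderOf s : ℂ) ≠ 0 := Nat.cast_ne_zero.2 h.pos.ne'
  set F : Γ → ℂ := fun x => (ψ : Γ → ℂ) x * conj ((ψ' : Γ → ℂ) x)
  have hF : IsClassFunction Γ F := fun a b => by
    simp only [F, IsIrr.classFun ψ.2 a b, IsIrr.classFun ψ'.2 a b]
  have h1 := h.sum_coset hF
  have h2 := h.coset_inner hω hl hls hlx F
  have h3 : ∀ j, ∑ x : Γ, (l x : ℂ) ^ j * F x = (Nat.card Γ : ℂ) *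
      classInner (fun x => (((l ^ j) x : ℂˣ) : ℂ) * (ψ : Γ → ℂ) x) (ψ' : Γ → ℂ) := by
    intro j
    rw [classInner, mul_inv_cancel_left₀ (Nat.cast_ne_zero.2 Nat.card_pos.ne')]
    refine Finset.sum_congr rfl fun x _ => ?_
    simp [F, mul_assoc]
  simp only [h3] at h2
  rw [classInner]
  apply mul_left_cancel₀ (mul_ne_zero (mul_ne_zero hG0 hC0) hm0)
  calc _ = (orderOf s : ℂ) * ((Nat.card G : ℂ) * ∑ c : C, F (c * s)) := by
        simp only [F]
        field_simp
    _ = (Nat.card C : ℂ) * ((∑ g : G, F (g * s)) * (orderOf s : ℂ)) := by rw [← h1]; ring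
    _ = _ := by
        rw [h2, Finset.mul_sum, Finset.mul_sum]
        refine Finset.sum_congr rfl fun j _ => ?_
        rw [hcardΓ]
        ring

/-- The inner product of restrictions counts equal twists. -/
theorem Setup.res_inner_eq (h : Setup G s C) {ω : ℂ} {l : Γ →* ℂˣ}
    (hω : IsPrimitiveRoot ω (orderOf s)) (hl : ∀ g ∈ G, l g = 1) (hls : (l s : ℂ) = ω)
    (hlx : ∀ x : Γ, (l x : ℂ) = ω → x * s⁻¹ ∈ G) (ψ ψ' : IrrCharacter Γ) :
    classInner (fun g : G => (ψ : Γ → ℂ) g) (fun g : G => (ψ' : Γ → ℂ) g) =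
      ∑ j ∈ Finset.range (orderOf s),
        classInner (fun x => (((l ^ j) x : ℂˣ) : ℂ) * (ψ : Γ → ℂ) x) (ψ' : Γ → ℂ) := by
  classical
  set m := orderOf s
  have hlm : ∀ x : Γ, (l x : ℂ) ^ m = 1 := by
    intro x
    rw [← Units.val_pow_eq_pow_val, ← map_pow, hl _ (show x ^ orderOf s ∈ G from h.idx ▸ G.pow_index_mem x), Units.val_one]
  have hG : ∀ x : Γ, (l x : ℂ) = 1 → x ∈ G := by
    intro x hx
    have h1 := hlx (x * s) (by rw [map_mul, Units.val_mul, hx, one_mul, hls])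
    rwa [mul_inv_cancel_right] at h1
  have hcardΓ : (Nat.card Γ : ℂ) = Nat.card G * m := by
    rw [← Subgroup.card_mul_index G, h.idx, Nat.cast_mul]
  simp only [classInner, ← Finset.mul_sum]
  rw [Finset.sum_comm, Finset.sum_congr rfl
    (g := fun x => if x ∈ G then (m : ℂ) * ((ψ : Γ → ℂ) x * conj ((ψ' : Γ → ℂ) x)) else 0)
    fun x _ => by
      simp only [MonoidHom.pow_apply, Units.val_pow_eq_pow_val, mul_assoc]
      rw [← Finset.sum_mul, root_sum (hlm x)]
      by_cases hx : x ∈ G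
      · rw [if_pos (by rw [hl x hx, Units.val_one]), if_pos hx]
      · rw [if_neg (fun h => hx (hG x h)), if_neg hx, zero_mul],
    ← Finset.sum_filter, ← Finset.mul_sum,
    ← Finset.sum_subtype (Finset.univ.filter (· ∈ G)) (fun x => by simp)
      (fun x => (ψ : Γ → ℂ) x * conj ((ψ' : Γ → ℂ) x)), hcardΓ, mul_inv, mul_assoc,
    inv_mul_cancel_left₀ (Nat.cast_ne_zero.2 h.pos.ne')]

theorem classInner_irr_zero_or_one {K : Type u} [Group K] [Fintype K] {φ ψ : K → ℂ}
    (hφ : IsIrrCharacter K φ) (hψ : IsIrrCharacter K ψ) :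
    (φ = ψ ∧ classInner φ ψ = 1) ∨ (φ ≠ ψ ∧ classInner φ ψ = 0) := by
  by_cases he : φ = ψ
  · subst he; exact Or.inl ⟨rfl, classInner_self_irr hφ⟩
  · exact Or.inr ⟨he, classInner_irr_ne hφ hψ he⟩

/-- Different restrictions give orthogonal functions on the fixed points. -/
theorem Setup.inner_ne (h : Setup G s C) (ψ ψ' : IrrCharacter Γ)
    (hψ : IsIrrCharacter G (fun g : G => (ψ : Γ → ℂ) g))
    (hψ' : IsIrrCharacter G (fun g : G => (ψ' : Γ → ℂ) g))
    (hne : (fun g : G => (ψ : Γ → ℂ) g) ≠ (fun g : G => (ψ' : Γ → ℂ) g)) :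
    classInner (fun c : C => (ψ : Γ → ℂ) (c * s)) (fun c : C => (ψ' : Γ → ℂ) (c * s)) = 0 := by
  obtain ⟨ω, l, hω, hls, hl, hlx⟩ := h.exists_twist
  rw [h.inner_eq hω hl hls hlx]
  refine Finset.sum_eq_zero fun j _ => ?_
  rcases classInner_irr_zero_or_one (IsIrr.mul_linear ψ.2 (l ^ j)) ψ'.2 with ⟨he, -⟩ | ⟨-, h0⟩
  · refine absurd (funext fun g : G => ?_) hne
    rw [← he]
    simp [hl _ g.2]
  · rw [h0, mul_zero]

/-- With irreducible restriction, the function on the fixed points has norm one. -/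
theorem Setup.inner_self (h : Setup G s C) (ψ : IrrCharacter Γ)
    (hψ : IsIrrCharacter G (fun g : G => (ψ : Γ → ℂ) g)) :
    classInner (fun c : C => (ψ : Γ → ℂ) (c * s)) (fun c : C => (ψ : Γ → ℂ) (c * s)) = 1 := by
  obtain ⟨ω, l, hω, hls, hl, hlx⟩ := h.exists_twist
  rw [h.inner_eq hω hl hls hlx]
  have h1 := h.res_inner_eq hω hl hls hlx ψ ψ
  rw [classInner_self_irr hψ] at h1
  have hm0 : 0 ∈ Finset.range (orderOf s) := Finset.mem_range.2 h.pos
  have hz : classInner (fun x => (((l ^ 0) x : ℂˣ) : ℂ) * (ψ : Γ → ℂ) x) (ψ : Γ → ℂ) = 1 := by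
    simp [classInner_self_irr ψ.2]
  rw [← Finset.add_sum_erase _ _ hm0, hz] at h1
  have hc : ∀ j, ∃ n : ℕ, classInner (fun x => (((l ^ j) x : ℂˣ) : ℂ) * (ψ : Γ → ℂ) x)
      (ψ : Γ → ℂ) = n := fun j => IsChar.classInner_nat (IsIrr.isCharacter
      (IsIrr.mul_linear ψ.2 (l ^ j))) (irr_isChar ψ)
  choose n hn using hc
  have h2 : ∀ j ∈ (Finset.range (orderOf s)).erase 0, n j = 0 := by
    have h3 : ((∑ j ∈ (Finset.range (orderOf s)).erase 0, n j : ℕ) : ℂ) = ((0 : ℕ) : ℂ) := by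
      push_cast
      rw [← Finset.sum_congr rfl fun j _ => hn j]
      linear_combination -h1
    exact Finset.sum_eq_zero_iff.1 (Nat.cast_injective h3)
  rw [← Finset.add_sum_erase _ _ hm0, hz, Finset.sum_eq_zero fun j hj => by
    rw [hn, h2 j hj, Nat.cast_zero, mul_zero]]
  simp

/-- A character whose restriction is reducible vanishes on the coset of the generator. -/
theorem Setup.eq_zero_of_red (h : Setup G s C) (ψ : IrrCharacter Γ)
    (hψ : ¬ IsIrrCharacter G (fun g : G => (ψ : Γ → ℂ) g)) (c : C) :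
    (ψ : Γ → ℂ) (c * s) = 0 := by
  obtain ⟨ω, l, hω, hls, hl, hlx⟩ := h.exists_twist
  by_contra hne
  refine hψ (IsChar.irr_of_norm_one (IsChar.res (irr_isChar ψ) G) ?_)
  rw [h.res_inner_eq hω hl hls hlx, Finset.sum_eq_single_of_mem 0 (Finset.mem_range.2 h.pos) ?_]
  · simp [classInner_self_irr ψ.2]
  intro j hj hj0
  rcases classInner_irr_zero_or_one (IsIrr.mul_linear ψ.2 (l ^ j)) ψ.2 with ⟨he, -⟩ | ⟨-, h0⟩
  · exfalso
    have h1 := congrFun he ((c : Γ) * s)
    simp only [MonoidHom.pow_apply, map_mul, hl _ (h.le c.2), one_mul, Units.val_pow_eq_pow_val,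
      hls, mul_eq_right₀ hne] at h1
    refine hω.pow_ne_one_of_pos_of_lt hj0 (Finset.mem_range.1 hj) ?_
    simpa [Units.val_pow_eq_pow_val, hls] using h1
  · exact h0

/-- The canonical extension takes the same values at the cosets of all generators. -/
theorem Setup.pow_gen (h : Setup G s C) (χh : IrrCharacter Γ)
    (hres : IsIrrCharacter G (fun g : G => (χh : Γ → ℂ) g))
    (hdet : (detOrder (χh : Γ → ℂ)).Coprime (orderOf s)) {k : ℕ} (hk : k.Coprime (orderOf s))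
    (c : C) : (χh : Γ → ℂ) (c * s ^ k) = (χh : Γ → ℂ) (c * s) := by
  classical
  obtain ⟨e, he1, he2⟩ := Nat.chineseRemainder h.cop 1 k
  have heG : e.Coprime (Nat.card G) := by
    unfold Nat.Coprime
    rw [he1.gcd_eq]
    exact Nat.gcd_one_left _
  have hem : e.Coprime (orderOf s) := by
    unfold Nat.Coprime
    rw [he2.gcd_eq]
    exact hk
  have heΓ : e.Coprime (Nat.card Γ) := by
    rw [← Subgroup.card_mul_index G, h.idx]
    exact Nat.Coprime.mul_right heG hem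
  have hpow : ∀ g : G, (g : Γ) ^ e = g := fun g => by
    conv_rhs => rw [← pow_one (g : Γ)]
    exact pow_eq_pow_iff_modEq.2 (he1.of_dvd (by
      rw [Subgroup.orderOf_coe]
      exact orderOf_dvd_natCard g))
  set χe : Γ → ℂ := fun y => (χh : Γ → ℂ) (y ^ e) with hχe
  have hirr : IsIrrCharacter Γ χe := IsIrr.pow_map χh.2 heΓ
  obtain ⟨δ, hδ⟩ := isCharacter_detChar χh.2
  have hdete : detChar χe = fun y => (δ (y ^ e) : ℂ) := by
    obtain ⟨σ, hσ⟩ := exists_galois (G := Γ) e heΓ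
    obtain ⟨n, ρ, hρ, hρc, -, hρd⟩ := IsIrr.exists_rep χh.2
    haveI := hρ
    have hc : (galoisTwist σ ρ).character = χe := funext fun y => by
      rw [galoisTwist_character, hρc, hχe, hσ _ (irr_isChar χh)]
    haveI : (galoisTwist σ ρ).IsIrreducible := irreducible_of_character _ (hc ▸ hirr)
    funext y
    rw [← hc, detChar_eq]
    have hd : LinearMap.det (galoisTwist σ ρ y) = σ (LinearMap.det (ρ y)) := by
      rw [← LinearMap.det_toMatrix', ← LinearMap.det_toMatrix' (ρ y)]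
      have : LinearMap.toMatrix' (galoisTwist σ ρ y) = (LinearMap.toMatrix' (ρ y)).map σ :=
        LinearMap.toMatrix'_toLin' _
      rw [this]
      exact (RingHom.map_det σ.toRingHom _).symm
    rw [hd, ← detUnits_apply, ← hρd, hδ]
    exact hσ _ (IsIrr.isCharacter (isIrr_linear δ)) y
  have hϑ : ∀ g : G, χe g = (χh : Γ → ℂ) g := fun g => by rw [hχe]; simp only [hpow]
  have hcopδ : (detOrder χe).Coprime (orderOf s) := by
    refine Nat.Coprime.coprime_dvd_left (orderOf_dvd_of_pow_eq_one (funext fun y => ?_)) hdet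
    rw [hdete, detOrder, hδ]
    show ((δ (y ^ e) : ℂˣ) : ℂ) ^ orderOf (fun g => (δ g : ℂ)) = 1
    exact congrFun (pow_orderOf_eq_one (fun g => (δ g : ℂ))) (y ^ e)
  set ϑ : G → ℂ := fun g => (χh : Γ → ℂ) g
  obtain ⟨d, hd⟩ := IsChar.one_eq_nat (IsIrr.isCharacter hres)
  have hdG : d ∣ Nat.card G := IsIrr.degree_dvd_card hres hd
  have hoG : detOrder ϑ ∣ Nat.card G := by
    obtain ⟨μ, hμ⟩ := isCharacter_detChar hres
    rw [detOrder, hμ, orderOf_unitsFun]
    exact orderOf_dvd_of_pow_eq_one (MonoidHom.ext fun g => by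
      rw [MonoidHom.pow_apply, ← map_pow, pow_card_eq_one', map_one, MonoidHom.one_apply])
  have hcopI : Nat.Coprime G.index (detOrder ϑ * d) := by
    rw [h.idx]
    exact Nat.Coprime.mul_right (h.cop.symm.coprime_dvd_right hoG)
      (h.cop.symm.coprime_dvd_right hdG)
  obtain ⟨χ₀, -, huniq⟩ := Cfsg.Agent.S0867.result G ϑ hres (fun g n => by
    show (χh : Γ → ℂ) (g * n * g⁻¹) = (χh : Γ → ℂ) n
    exact IsIrr.classFun χh.2 _ _) d hd hcopI
  have h1 := huniq _ χh.2 (fun _ => rfl) (by rw [h.idx]; exact hdet.symm)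
  have h2 := huniq _ hirr hϑ (by rw [h.idx]; exact hcopδ.symm)
  have h3 := congrFun (h2.trans h1.symm) ((c : Γ) * s)
  rw [← h3, hχe]
  show _ = (χh : Γ → ℂ) (((c : Γ) * s) ^ e)
  congr 1
  rw [(show Commute (c : Γ) s from ((h.memC c).1 c.2).2).mul_pow, hpow ⟨c, h.le c.2⟩]
  rw [pow_eq_pow_iff_modEq.2 he2]

/-- The correspondent and its sign. -/
theorem Setup.exists_sign (h : Setup G s C) (χh : IrrCharacter Γ)
    (hres : IsIrrCharacter G (fun g : G => (χh : Γ → ℂ) g))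
    (hdet : (detOrder (χh : Γ → ℂ)).Coprime (orderOf s)) :
    ∃ (β : IrrCharacter C) (ε : ℤ), (ε = 1 ∨ ε = -1) ∧
      (∀ k : ℕ, k.Coprime (orderOf s) → ∀ c : C, (χh : Γ → ℂ) (c * s ^ k) =
        (ε : ℂ) * (β : C → ℂ) c) ∧
      classInner (fun c : C => (χh : Γ → ℂ) c) (β : C → ℂ) ≠ 0 := by
  classical
  have hm := h.pos
  set m := orderOf s with hmdef
  obtain ⟨ω, hω⟩ : ∃ ω : ℂ, IsPrimitiveRoot ω m := ⟨_, Complex.isPrimitiveRoot_exp _ hm.ne'⟩
  let z : ℕ → MonoidAlgebra ℂ Γ := fun j => MonoidAlgebra.single s (ω ^ j)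
  let e : ℕ → MonoidAlgebra ℂ Γ := fun j => (m : ℂ)⁻¹ • ∑ i ∈ Finset.range m, z j ^ i
  have hzm : ∀ j, z j ^ m = 1 := fun j => by
    simp only [z, MonoidAlgebra.single_pow, hmdef, pow_orderOf_eq_one]
    rw [← hmdef, ← pow_mul, mul_comm, pow_mul, hω.pow_eq_one, one_pow, MonoidAlgebra.one_def]
  have hze : ∀ j, z j * e j = e j := fun j => by
    simp only [e, mul_smul_comm, Finset.mul_sum, ← pow_succ']
    congr 1
    have h1 := Finset.sum_range_succ' (fun i => z j ^ i) m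
    rw [Finset.sum_range_succ (fun i => z j ^ i) m, hzm, pow_zero] at h1
    exact (add_right_cancel h1).symm
  have hzi : ∀ j i, z j ^ i * e j = e j := fun j i => by
    induction i with
    | zero => rw [pow_zero, one_mul]
    | succ i ih => rw [pow_succ, mul_assoc, hze, ih]
  have hee : ∀ j, e j * e j = e j := fun j => by
    conv_lhs => lhs; simp only [e]
    rw [smul_mul_assoc, Finset.sum_mul, Finset.sum_congr rfl fun i _ => hzi j i, Finset.sum_const,
      Finset.card_range, ← Nat.cast_smul_eq_nsmul ℂ, smul_smul,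
      inv_mul_cancel₀ (Nat.cast_ne_zero.2 hm.ne'), one_smul]
  have hpsi : ∀ j, IsCharacter C (fun c : C => ev (χh : Γ → ℂ)
      (MonoidAlgebra.single (c : Γ) (1 : ℂ) * e j)) := fun j => by
    refine isCharacter_cut (irr_isChar χh) (hee j) fun u hu => ?_
    refine Commute.smul_right (Commute.sum_right _ _ _ fun i _ => Commute.pow_right ?_ _) _
    show _ * _ = _ * _
    simp only [z, MonoidAlgebra.single_mul_single, one_mul, mul_one, ((h.memC u).1 hu).2]
  have hval : ∀ (j : ℕ) (c : C), ev (χh : Γ → ℂ) (MonoidAlgebra.single (c : Γ) (1 : ℂ) * e j) =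
      (m : ℂ)⁻¹ * ∑ i ∈ Finset.range m, (ω ^ j) ^ i * (χh : Γ → ℂ) (c * s ^ i) := fun j c => by
    simp only [e, z, mul_smul_comm, ev_smul, Finset.mul_sum, MonoidAlgebra.single_pow,
      MonoidAlgebra.single_mul_single, one_mul, ev_sum, ev_single]
  have hrec : ∀ (k : ℕ) (c : C), ∑ j ∈ Finset.range m, ω ^ ((m - 1) * k * j) *
      ev (χh : Γ → ℂ) (MonoidAlgebra.single (c : Γ) (1 : ℂ) * e j) =
        (χh : Γ → ℂ) (c * s ^ k) := by
    intro k c
    simp only [hval, Finset.mul_sum]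
    rw [Finset.sum_comm]
    have hkey : ∀ i, ∑ j ∈ Finset.range m, ω ^ ((m - 1) * k * j) * ((m : ℂ)⁻¹ *
        ((ω ^ j) ^ i * (χh : Γ → ℂ) (c * s ^ i))) =
        if i % m = k % m then (χh : Γ → ℂ) (c * s ^ i) else 0 := by
      intro i
      rw [Finset.sum_congr rfl (g := fun j => (ω ^ ((m - 1) * k + i)) ^ j *
        ((m : ℂ)⁻¹ * (χh : Γ → ℂ) (c * s ^ i))) fun j _ => by ring, ← Finset.sum_mul,
        root_sum (by rw [← pow_mul, mul_comm, pow_mul, hω.pow_eq_one, one_pow])]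
      have hiff : ω ^ ((m - 1) * k + i) = 1 ↔ i % m = k % m := by
        have e1 : ω ^ ((m - 1) * k) * ω ^ k = 1 := by
          rw [← pow_add, show (m - 1) * k + k = m * k by
            obtain ⟨m', hm'⟩ : ∃ m', m = m' + 1 := ⟨m - 1, by omega⟩
            rw [hm', Nat.add_sub_cancel]
            ring, pow_mul, hω.pow_eq_one, one_pow]
        have e2 : ω ^ ((m - 1) * k + i) = 1 ↔ ω ^ i = ω ^ k := by
          rw [pow_add]
          constructor
          · intro h1
            calc ω ^ i = ω ^ ((m - 1) * k) * ω ^ k * ω ^ i := by rw [e1, one_mul]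
              _ = ω ^ k * (ω ^ ((m - 1) * k) * ω ^ i) := by ring
              _ = ω ^ k := by rw [h1, mul_one]
          · intro h1
            rw [h1, e1]
        rw [e2, (hω.isOfFinOrder hm.ne').pow_eq_pow_iff_modEq, ← hω.eq_orderOf]
        rfl
      by_cases h1 : i % m = k % m
      · rw [if_pos h1, if_pos (hiff.2 h1), ← mul_assoc,
          mul_inv_cancel₀ (Nat.cast_ne_zero.2 hm.ne'), one_mul]
      · rw [if_neg h1, if_neg (fun h => h1 (hiff.1 h)), zero_mul]
    rw [Finset.sum_congr rfl fun i _ => hkey i, Finset.sum_eq_single (k % m)]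
    · rw [Nat.mod_mod, if_pos rfl, hmdef, pow_mod_orderOf]
    · intro i hi hne
      rw [if_neg fun h1 => hne (by rwa [Nat.mod_eq_of_lt (Finset.mem_range.1 hi)] at h1)]
    · exact fun h1 => absurd (Finset.mem_range.2 (Nat.mod_lt _ hm)) h1
  choose n hn using fun (β : IrrCharacter C) (j : ℕ) => IsChar.classInner_nat (hpsi j) (irr_isChar β)
  set f : C → ℂ := fun c => (χh : Γ → ℂ) (c * s)
  have hcomb : ∀ (β : IrrCharacter C) (k : ℕ),
      classInner (fun c : C => (χh : Γ → ℂ) (c * s ^ k)) (β : C → ℂ) =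
        ∑ j ∈ Finset.range m, (n β j : ℂ) * ω ^ ((m - 1) * k * j) := by
    intro β k
    have e1 : (fun c : C => (χh : Γ → ℂ) (c * s ^ k)) = ∑ j ∈ Finset.range m,
        (ω ^ ((m - 1) * k * j)) • (fun c : C => ev (χh : Γ → ℂ)
          (MonoidAlgebra.single (c : Γ) (1 : ℂ) * e j)) := funext fun c => by
      rw [Finset.sum_apply, ← hrec]
      rfl
    rw [e1, classInner_sum_left]
    refine Finset.sum_congr rfl fun j _ => ?_
    rw [classInner_smul_left, hn, mul_comm]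
  have hint : ∀ β : IrrCharacter C, ∃ a : ℤ, classInner f (β : C → ℂ) = a := by
    intro β
    have hf1 : classInner f (β : C → ℂ) = ∑ j ∈ Finset.range m, (n β j : ℂ) * ω ^ ((m - 1) * j) := by
      have := hcomb β 1
      simpa [pow_one, f] using this
    let ι := (Finset.range m).sigma fun j => Finset.range (n β j)
    let w : (Σ _ : ℕ, ℕ) → ℂ := fun z => ω ^ ((m - 1) * z.1)
    have hsum : ∀ k : ℕ, ∑ z ∈ ι, w z ^ k =
        ∑ j ∈ Finset.range m, (n β j : ℂ) * ω ^ ((m - 1) * k * j) := fun k => by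
      rw [Finset.sum_sigma]
      refine Finset.sum_congr rfl fun j _ => ?_
      simp only [w, Finset.sum_const, Finset.card_range, nsmul_eq_mul]
      rw [← pow_mul]
      congr 2
      ring
    obtain ⟨q, hq⟩ := exists_rat_of_fixed hm ι w (fun z _ => by
      rw [← pow_mul, mul_comm, pow_mul, hω.pow_eq_one, one_pow]) fun k hk => by
      have h0 := hsum 1
      simp only [pow_one] at h0
      rw [hsum k, h0, ← hcomb β k, ← hcomb β 1]
      refine congrArg (fun u => classInner u (β : C → ℂ)) (funext fun c => ?_)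
      rw [h.pow_gen χh hres hdet hk, pow_one]
    have h1 : classInner f (β : C → ℂ) = (q : ℂ) := by
      rw [← hq, hf1]
      have h0 := hsum 1
      simp only [pow_one, mul_one] at h0
      exact h0.symm
    have hint' : IsIntegral ℤ ((q : ℚ) : ℂ) := by
      rw [← h1, hf1]
      exact IsIntegral.sum _ fun j _ =>
        (map_natCast (algebraMap ℤ ℂ) (n β j) ▸ isIntegral_algebraMap).mul
          ((hω.isIntegral hm).pow _)
    obtain ⟨a, ha⟩ := int_of_isIntegral_rat hint'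
    exact ⟨a, h1.trans ha⟩
  choose a ha using hint
  have hfc : IsClassFunction C f := by
    intro x t
    show (χh : Γ → ℂ) (((t * x * t⁻¹ : C) : Γ) * s) = (χh : Γ → ℂ) ((x : Γ) * s)
    have ht := ((h.memC t).1 t.2).2
    rw [show ((t * x * t⁻¹ : C) : Γ) * s = (t : Γ) * ((x : Γ) * s) * (t : Γ)⁻¹ by
      simp only [Subgroup.coe_mul, Subgroup.coe_inv]
      have : (t : Γ)⁻¹ * s = s * (t : Γ)⁻¹ := (show Commute (t : Γ) s from ht).inv_left.eq
      rw [mul_assoc ((t : Γ) * x), this]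
      group]
    exact IsIrr.classFun χh.2 _ _
  have hexp : f = ∑ β : IrrCharacter C, (a β : ℂ) • (β : C → ℂ) := by
    rw [classFunction_expansion hfc]
    exact Finset.sum_congr rfl fun β _ => by rw [ha]
  have hsq : ∑ β : IrrCharacter C, a β * a β = 1 := by
    have h1 : classInner f f = ∑ β : IrrCharacter C, (a β : ℂ) * (a β : ℂ) := by
      conv_lhs => arg 1; rw [hexp]
      rw [classInner_sum_left]
      refine Finset.sum_congr rfl fun β _ => ?_
      rw [classInner_smul_left, ← classInner_conj_symm f (β : C → ℂ), ha, map_intCast]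
    rw [h.inner_self χh hres] at h1
    exact_mod_cast h1.symm
  obtain ⟨β, hβ⟩ : ∃ β, a β ≠ 0 := by
    by_contra hn0
    push Not at hn0
    simp [hn0] at hsq
  rw [← Finset.add_sum_erase _ _ (Finset.mem_univ β)] at hsq
  have hnn : ∀ γ ∈ Finset.univ.erase β, 0 ≤ a γ * a γ := fun γ _ => mul_self_nonneg _
  have h1le : 1 ≤ a β * a β := by
    have := mul_self_pos.2 hβ
    omega
  have hrest : ∑ γ ∈ Finset.univ.erase β, a γ * a γ = 0 := by
    have := Finset.sum_nonneg hnn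
    omega
  have hzero : ∀ γ, γ ≠ β → a γ = 0 := fun γ hγ => mul_self_eq_zero.1
    ((Finset.sum_eq_zero_iff_of_nonneg hnn).1 hrest γ
      (Finset.mem_erase.2 ⟨hγ, Finset.mem_univ γ⟩))
  have hunit : a β = 1 ∨ a β = -1 := by
    rw [hrest, add_zero] at hsq
    exact Int.eq_one_or_neg_one_of_mul_eq_one hsq
  refine ⟨β, a β, hunit, fun k hk c => ?_, ?_⟩
  · rw [h.pow_gen χh hres hdet hk]
    show f c = _
    rw [hexp, Finset.sum_apply, Finset.sum_eq_single β (fun γ _ hγ => by simp [hzero γ hγ])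
      (by simp)]
    rfl
  · intro h0
    have h1 := hcomb β 0
    simp only [pow_zero, mul_one, mul_zero, zero_mul, h0] at h1
    have h2 : ∀ j ∈ Finset.range m, n β j = 0 := Finset.sum_eq_zero_iff.1
      (Nat.cast_injective (R := ℂ) (by push_cast; exact h1.symm))
    have h3 := hcomb β 1
    rw [Finset.sum_eq_zero fun j hj => by rw [h2 j hj, Nat.cast_zero, zero_mul]] at h3
    simp only [pow_one] at h3
    exact hβ (Int.cast_eq_zero.1 ((ha β).symm.trans h3))

/-- Every character of the fixed points arises. -/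
theorem Setup.exists_preimage (h : Setup G s C) (β : IrrCharacter C) :
    ∃ (χh : IrrCharacter Γ) (ε : ℤ), IsIrrCharacter G (fun g : G => (χh : Γ → ℂ) g) ∧
      (detOrder (χh : Γ → ℂ)).Coprime (orderOf s) ∧ (ε = 1 ∨ ε = -1) ∧
      ∀ k : ℕ, k.Coprime (orderOf s) → ∀ c : C,
        (χh : Γ → ℂ) (c * s ^ k) = (ε : ℂ) * (β : C → ℂ) c := by
  classical
  obtain ⟨ω, l, hω, hls, hl, hlx⟩ := h.exists_twist
  let F : Γ → ℂ := fun x => if hx : ∃ c : C, IsConj x (c * s) then (β : C → ℂ) hx.choose else 0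
  have hFc : IsClassFunction Γ F := by
    intro x t
    have hcj : IsConj x (t * x * t⁻¹) := isConj_iff.2 ⟨t, rfl⟩
    simp only [F]
    by_cases hx : ∃ c : C, IsConj x (c * s)
    · have hx' : ∃ c : C, IsConj (t * x * t⁻¹) (c * s) :=
        ⟨hx.choose, hcj.symm.trans hx.choose_spec⟩
      rw [dif_pos hx, dif_pos hx']
      obtain ⟨g, hg⟩ := isConj_iff.1 ((hx'.choose_spec.symm.trans hcj.symm).trans hx.choose_spec)
      exact IsClass.eq_of_isConj (IsIrr.classFun β.2) (h.conj_unique' hg)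
    · rw [dif_neg hx, dif_neg fun ⟨c, hc⟩ => hx ⟨c, hcj.trans hc⟩]
  have hFv : ∀ c : C, F (c * s) = (β : C → ℂ) c := fun c => by
    have hx : ∃ c' : C, IsConj ((c : Γ) * s) (c' * s) := ⟨c, IsConj.refl _⟩
    simp only [F, dif_pos hx]
    obtain ⟨g, hg⟩ := isConj_iff.1 hx.choose_spec.symm
    exact IsClass.eq_of_isConj (IsIrr.classFun β.2) (h.conj_unique' hg)
  obtain ⟨ψ, hψ⟩ : ∃ ψ : IrrCharacter Γ,
      classInner (fun c : C => (ψ : Γ → ℂ) (c * s)) (β : C → ℂ) ≠ 0 := by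
    by_contra hn
    push Not at hn
    have h1 : classInner (fun c : C => F (c * s)) (β : C → ℂ) = 0 := by
      have e : (fun c : C => F (c * s)) = ∑ ψ : IrrCharacter Γ, classInner F (ψ : Γ → ℂ) •
          (fun c : C => (ψ : Γ → ℂ) (c * s)) := funext fun c => by
        conv_lhs => rw [classFunction_expansion hFc]
        simp [Finset.sum_apply]
      rw [e, classInner_sum_left]
      exact Finset.sum_eq_zero fun ψ _ => by rw [classInner_smul_left, hn ψ, mul_zero]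
    simp only [hFv] at h1
    exact one_ne_zero ((classInner_self_irr β.2).symm.trans h1)
  have hirr : IsIrrCharacter G (fun g : G => (ψ : Γ → ℂ) g) := by
    by_contra hred
    refine hψ ?_
    simp [h.eq_zero_of_red ψ hred, classInner]
  set ϑ : G → ℂ := fun g => (ψ : Γ → ℂ) g
  obtain ⟨d, hd⟩ := IsChar.one_eq_nat (IsIrr.isCharacter hirr)
  have hoG : detOrder ϑ ∣ Nat.card G := by
    obtain ⟨μ, hμ⟩ := isCharacter_detChar hirr
    rw [detOrder, hμ, orderOf_unitsFun]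
    exact orderOf_dvd_of_pow_eq_one (MonoidHom.ext fun g => by
      rw [MonoidHom.pow_apply, ← map_pow, pow_card_eq_one', map_one, MonoidHom.one_apply])
  have hcopI : Nat.Coprime G.index (detOrder ϑ * d) := by
    rw [h.idx]
    exact Nat.Coprime.mul_right (h.cop.symm.coprime_dvd_right hoG)
      (h.cop.symm.coprime_dvd_right (IsIrr.degree_dvd_card hirr hd))
  obtain ⟨χ₀, ⟨hχ₀, hχ₀res, hχ₀ord⟩, -⟩ := Cfsg.Agent.S0867.result G ϑ hirr (fun g n =>
    IsIrr.classFun ψ.2 _ _) d hd hcopI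
  let χh : IrrCharacter Γ := ⟨χ₀, hχ₀⟩
  have hres : (fun g : G => (χh : Γ → ℂ) g) = ϑ := funext hχ₀res
  have hdet : (detOrder (χh : Γ → ℂ)).Coprime (orderOf s) := by
    show (detOrder χ₀).Coprime _
    rw [hχ₀ord]
    exact Nat.Coprime.coprime_dvd_left hoG h.cop
  obtain ⟨β', ε, hε, hv, -⟩ := h.exists_sign χh (hres ▸ hirr) hdet
  refine ⟨χh, ε, hres ▸ hirr, hdet, hε, ?_⟩
  suffices hββ : β = β' by subst hββ; exact hv
  obtain ⟨j, hj⟩ : ∃ j : ℕ, (fun x => (((l ^ j) x : ℂˣ) : ℂ) * (χh : Γ → ℂ) x) = (ψ : Γ → ℂ) := by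
    by_contra hn
    push Not at hn
    have h1 := h.res_inner_eq hω hl hls hlx χh ψ
    rw [hres, classInner_self_irr hirr, Finset.sum_eq_zero fun j _ =>
      classInner_irr_ne (IsIrr.mul_linear χh.2 (l ^ j)) ψ.2 (hn j)] at h1
    exact one_ne_zero h1
  by_contra hne
  refine hψ ?_
  have e : (fun c : C => (ψ : Γ → ℂ) (c * s)) = (ω ^ j * (ε : ℂ)) • (β' : C → ℂ) := funext fun c => by
    have h1 := hv 1 (Nat.coprime_one_left _) c
    rw [pow_one] at h1
    rw [← hj]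
    show (((l ^ j) ((c : Γ) * s) : ℂˣ) : ℂ) * (χh : Γ → ℂ) ((c : Γ) * s) = _
    rw [MonoidHom.pow_apply, map_mul, hl _ (h.le c.2), one_mul, Units.val_pow_eq_pow_val,
      hls, h1, Pi.smul_apply, smul_eq_mul, mul_assoc]
  rw [e, classInner_smul_left, classInner_irr_ne β'.2 β.2 (fun he => hne (Subtype.ext he).symm),
    mul_zero]

/-- Generators of the cyclic group are the coprime powers. -/
theorem exists_pow_of_gen {t : Γ} (ht : Subgroup.zpowers t = Subgroup.zpowers s) :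
    ∃ k : ℕ, k.Coprime (orderOf s) ∧ t = s ^ k := by
  obtain ⟨k, hk⟩ := mem_powers_iff_mem_zpowers.2 (ht ▸ Subgroup.mem_zpowers t :
    t ∈ Subgroup.zpowers s)
  simp only at hk
  refine ⟨k, ?_, hk.symm⟩
  have h1 : orderOf t = orderOf s := by
    rw [← Nat.card_zpowers, ← Nat.card_zpowers, ht]
  rw [← hk, orderOf_pow] at h1
  have h2 := Nat.gcd_dvd_left (orderOf s) k
  rw [Nat.div_eq_self] at h1
  rcases h1 with h1 | h1
  · exact absurd h1 (orderOf_pos s).ne'
  · exact Nat.Coprime.symm h1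

end Cfsg.Agent.Char.CycGlaub
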