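import Cfsg.Agent.Lib.Char.CornerAlgebra
import Cfsg.Agent.Lib.Char.LocalAlgebra
import Mathlib.Algebra.Module.PID
import Mathlib.RingTheory.AdjoinRoot
import Mathlib.Algebra.Polynomial.Module.AEval
import Mathlib.Algebra.MonoidAlgebra.Basic
import Mathlib.Algebra.CharP.Algebra
import Mathlib.Algebra.CharP.Lemmas
import Mathlib.GroupTheory.Coset.Basic
import Mathlib.LinearAlgebra.Dimension.Constructions

/-!
A corner of a group algebra over an infinite field which is relatively projective with respect to a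
cyclic `p`-subgroup and is local has its radical generated by one element: otherwise it would have
infinitely many two dimensional modules, all retracts of one finite dimensional module.
-/

namespace Cfsg.Agent.Char.CycRep

open Cfsg.Agent.Char.Corner Polynomial

set_option linter.unusedSectionVars false
set_option linter.style.haveILetI false

variable {K : Type*} [Field K]

/-- The component of the universal module. -/
abbrev Comp (K : Type*) [Field K] (n q : ℕ) (idx : Fin n × Fin (q + 1)) : Type _ :=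
  K[X] ⧸ (Submodule.span K[X] {(X : K[X]) ^ (idx.2 : ℕ)})

instance compFinite (n q : ℕ) (idx : Fin n × Fin (q + 1)) : Module.Finite K (Comp K n q idx) :=
  (monic_X_pow (R := K) (idx.2 : ℕ)).finite_quotient

/-- A finite module with a nilpotent endomorphism is a retract of the universal one. -/
theorem exists_retract {V : Type*} [AddCommGroup V] [Module K V] [FiniteDimensional K V]
    (N : Module.End K V) {n q : ℕ} (hN : N ^ q = 0) (hn : Module.finrank K V ≤ n) :
    ∃ (i : V →ₗ[K] ((idx : Fin n × Fin (q + 1)) → Comp K n q idx))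
      (π : ((idx : Fin n × Fin (q + 1)) → Comp K n q idx) →ₗ[K] V),
      (∀ v, π (i v) = v) ∧ (∀ v, i (N v) = (X : K[X]) • i v) ∧
        ∀ w, π ((X : K[X]) • w) = N (π w) := by
  classical
  set T := Module.AEval' N
  set o : V ≃ₗ[K] T := Module.AEval'.of N
  have hXq : ∀ x : T, (X : K[X]) ^ q • x = 0 := fun x => by
    obtain ⟨v, rfl⟩ := o.surjective x
    rw [Module.AEval'.X_pow_smul_of, hN]
    simp
  obtain ⟨d, k, ⟨f⟩⟩ := Module.torsion_by_prime_power_decomposition (R := K[X]) (M := T)
    (p := (X : K[X])) Polynomial.irreducible_X (fun x => ⟨⟨X ^ q, q, rfl⟩, hXq x⟩)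
  set Q : Fin d → Type _ := fun i => K[X] ⧸ (Submodule.span K[X] {(X : K[X]) ^ (k i : ℕ)})
  have hk : ∀ i, k i ≤ q := by
    intro i
    have h : (X : K[X]) ^ q • DirectSum.lof K[X] (Fin d) Q i (Submodule.Quotient.mk 1) = 0 := by
      rw [← f.apply_symm_apply (DirectSum.lof K[X] (Fin d) Q i (Submodule.Quotient.mk 1)),
        ← map_smul, hXq, map_zero]
    have h2 := congrArg (DirectSum.component K[X] (Fin d) Q i) h
    rw [map_smul, DirectSum.component.lof_self, map_zero, ← Submodule.Quotient.mk_smul,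
      Submodule.Quotient.mk_eq_zero, smul_eq_mul, mul_one, Submodule.mem_span_singleton] at h2
    obtain ⟨c, hc⟩ := h2
    exact (pow_dvd_pow_iff (X_ne_zero (R := K)) not_isUnit_X).1 ⟨c, by rw [← hc, smul_eq_mul,
      mul_comm]⟩
  have hcard : Fintype.card {i : Fin d // 0 < k i} ≤ n := by
    refine le_trans (LinearIndependent.fintype_card_le_finrank (R := K)
      (b := fun i : {i : Fin d // 0 < k i} => o.symm (f.symm
        (DirectSum.lof K[X] (Fin d) Q i.1 (Submodule.Quotient.mk (X ^ (k i.1 - 1)))))) ?_) hn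
    rw [Fintype.linearIndependent_iff]
    intro g hg j
    have h0 : (∑ i : {i : Fin d // 0 < k i}, (C (g i) : K[X]) •
        DirectSum.lof K[X] (Fin d) Q i.1 (Submodule.Quotient.mk (X ^ (k i.1 - 1)))) = 0 := by
      apply f.symm.injective
      apply o.symm.injective
      simp only [map_sum, map_zero, C_eq_algebraMap, algebraMap_smul]
      refine Eq.trans (Finset.sum_congr rfl fun b _ => ?_) hg
      exact (map_smul (o.symm.toLinearMap.comp (f.symm.toLinearMap.restrictScalars K)) (g b) _)
    have h1 := congrArg (DirectSum.component K[X] (Fin d) Q j.1) h0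
    rw [map_sum, map_zero, Finset.sum_eq_single j ?_ (by simp), map_smul,
      DirectSum.component.lof_self, ← Submodule.Quotient.mk_smul, Submodule.Quotient.mk_eq_zero,
      Submodule.mem_span_singleton] at h1
    · obtain ⟨c, hc⟩ := h1
      have h2 := congrArg (fun r : K[X] => r.coeff (k j.1 - 1)) hc
      simp only [smul_eq_mul, coeff_C_mul, coeff_X_pow, if_true, mul_one, coeff_mul_X_pow'] at h2
      rw [if_neg (by have := j.2; omega)] at h2
      simpa using h2.symm
    · intro b _ hb
      rw [map_smul, DirectSum.component.of, dif_neg (fun h => hb (Subtype.ext h)), smul_zero]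
  obtain ⟨emb⟩ := Function.Embedding.nonempty_of_card_le
    (α := {i : Fin d // 0 < k i}) (β := Fin n) (by simpa using hcard)
  let ix : {i : Fin d // 0 < k i} → Fin n × Fin (q + 1) := fun i =>
    (emb i, ⟨k i.1, Nat.lt_succ_of_le (hk i.1)⟩)
  have hix : Function.Injective ix := fun a b h => emb.injective (congrArg Prod.fst h)
  let I₀ : DirectSum (Fin d) Q →ₗ[K[X]] ((idx : Fin n × Fin (q + 1)) → Comp K n q idx) :=
    DirectSum.toModule K[X] (Fin d) _ fun i =>
      if h : 0 < k i then LinearMap.single K[X] (Comp K n q) (ix ⟨i, h⟩) else 0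
  let P₀ : ((idx : Fin n × Fin (q + 1)) → Comp K n q idx) →ₗ[K[X]] DirectSum (Fin d) Q :=
    ∑ i : {i : Fin d // 0 < k i}, (DirectSum.lof K[X] (Fin d) Q i.1).comp
      (LinearMap.proj (ix i) : _ →ₗ[K[X]] Comp K n q (ix i))
  have hPI : P₀.comp I₀ = LinearMap.id := by
    refine DirectSum.linearMap_ext K[X] fun i => LinearMap.ext fun y => ?_
    simp only [LinearMap.comp_apply, I₀, DirectSum.toModule_lof, LinearMap.id_apply]
    by_cases h : 0 < k i
    · rw [dif_pos h]
      simp only [P₀, LinearMap.sum_apply, LinearMap.comp_apply, LinearMap.proj_apply,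
        LinearMap.coe_single]
      rw [Finset.sum_eq_single ⟨i, h⟩ ?_ (by simp)]
      · exact congrArg _ (Pi.single_eq_same _ _)
      · intro b _ hb
        rw [Pi.single_eq_of_ne (fun e => hb (hix e)), map_zero]
    · rw [dif_neg h, LinearMap.zero_apply, map_zero]
      haveI : Subsingleton (Q i) := by
        refine Submodule.Quotient.subsingleton_iff.2 ?_
        rw [show k i = 0 by omega, pow_zero]
        exact Ideal.span_singleton_one
      rw [Subsingleton.elim y 0, map_zero]
  refine ⟨((I₀.comp f.toLinearMap).restrictScalars K).comp o.toLinearMap,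
    o.symm.toLinearMap.comp ((f.symm.toLinearMap.comp P₀).restrictScalars K), fun v => ?_,
    fun v => ?_, fun w => ?_⟩
  · show o.symm (f.symm (P₀ (I₀ (f (o v))))) = v
    rw [show P₀ (I₀ (f (o v))) = f (o v) from LinearMap.congr_fun hPI _, f.symm_apply_apply,
      o.symm_apply_apply]
  · show I₀ (f (o (N v))) = (X : K[X]) • I₀ (f (o v))
    rw [← Module.AEval'.X_smul_of N v, map_smul, map_smul]
  · show o.symm (f.symm (P₀ ((X : K[X]) • w))) = N (o.symm (f.symm (P₀ w)))
    rw [map_smul, map_smul]
    exact Module.AEval'.of_symm_X_smul _ _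

/-- The nilpotent operator on the plane. -/
def N₀ (K : Type*) [Field K] : Module.End K (K × K) :=
  LinearMap.prod (LinearMap.snd K K K) 0

theorem N₀_apply (v : K × K) : N₀ K v = (v.2, 0) := rfl

theorem N₀_sq : N₀ K * N₀ K = 0 := LinearMap.ext fun v => rfl

variable {A : Type*} [Ring A] [Algebra K A]

/-- The two dimensional representation attached to a scalar part and a derivation at it. -/
noncomputable def planeRep (c f : A →ₗ[K] K) (hc1 : c 1 = 1) (hf1 : f 1 = 0)
    (hc : ∀ x y, c (x * y) = c x * c y) (hf : ∀ x y, f (x * y) = c x * f y + f x * c y) :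
    A →ₐ[K] Module.End K (K × K) :=
  AlgHom.ofLinearMap (c.smulRight (1 : Module.End K (K × K)) + f.smulRight (N₀ K))
    (by simp [hc1, hf1])
    (fun x y => by
      simp only [LinearMap.add_apply, LinearMap.smulRight_apply, hc, hf, mul_add, add_mul,
        smul_mul_smul_comm, one_mul, mul_one, N₀_sq, smul_zero, add_zero]
      rw [add_smul, add_assoc, add_comm ((c x * f y) • N₀ K)])

theorem planeRep_apply (c f : A →ₗ[K] K) {hc1 hf1 hc hf} (x : A) :
    planeRep c f hc1 hf1 hc hf x = c x • 1 + f x • N₀ K := rfl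

/-- Two derivations at the scalar part which are independent on the radical. -/
theorem exists_functionals [FiniteDimensional K A] [Nontrivial A]
    (hA : LocAlg.IsScalarLocal K A)
    (h : Module.finrank K (LocAlg.rad hA ^ 2 : Submodule K A) + 1 <
      Module.finrank K (LocAlg.rad hA)) :
    ∃ (c f g : A →ₗ[K] K), c 1 = 1 ∧ f 1 = 0 ∧ g 1 = 0 ∧
      (∀ x y, c (x * y) = c x * c y) ∧ (∀ x y, f (x * y) = c x * f y + f x * c y) ∧
      (∀ x y, g (x * y) = c x * g y + g x * c y) ∧
      (∃ x, c x = 0 ∧ f x = 1 ∧ g x = 0) ∧ ∃ y, c y = 0 ∧ f y = 0 ∧ g y = 1 := by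
  classical
  set r := LocAlg.rad hA
  set r2 := r ^ 2
  have h1n : (1 : A) ∉ r := fun h1 => IsNilpotent.not_isUnit (LocAlg.mem_rad.1 h1) isUnit_one
  have h21 : r2 ≤ r := (LocAlg.rad_pow_anti one_pos one_le_two).trans (pow_one _).le
  obtain ⟨c₀, hc₀, hc₀r⟩ := Submodule.exists_dual_map_eq_bot_of_notMem h1n inferInstance
  have hkill : ∀ {W : Submodule K A} {φ : A →ₗ[K] K}, W.map φ = ⊥ → ∀ w ∈ W, φ w = 0 :=
    fun {W φ} hW w hw => by simpa [hW] using Submodule.mem_map_of_mem (f := φ) hw
  set c := (c₀ 1)⁻¹ • c₀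
  have hc1 : c 1 = 1 := by simp [c, hc₀]
  have hcr : ∀ x ∈ r, c x = 0 := fun x hx => by simp [c, hkill hc₀r x hx]
  have hdec : ∀ x : A, x - algebraMap K A (c x) ∈ r := by
    intro x
    obtain ⟨t, ht⟩ := hA x
    have h0 : c x = t := by
      have := hcr _ ht
      rw [map_sub, Algebra.algebraMap_eq_smul_one, map_smul, hc1, smul_eq_mul, mul_one,
        sub_eq_zero] at this
      exact this
    rwa [h0]
  obtain ⟨x, hx, hx2⟩ := SetLike.not_le_iff_exists.1
    (fun hle : r ≤ r2 => by have := Submodule.finrank_mono hle; omega)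
  obtain ⟨y, hy, hyX⟩ := SetLike.not_le_iff_exists.1
    (fun hle : r ≤ Submodule.span K {x} ⊔ r2 => by
      have h1 := (Submodule.finrank_mono hle).trans
        (Submodule.finrank_add_le_finrank_add_finrank _ _)
      have : Module.finrank K (Submodule.span K {x}) ≤ 1 := by
        simpa using finrank_span_le_card (R := K) ({x} : Set A)
      omega)
  have hsplit : ∀ {u v : A}, u ∈ r → v ∈ r → u ∉ Submodule.span K {v} ⊔ r2 →
      u ∉ Submodule.span K {1} ⊔ (Submodule.span K {v} ⊔ r2) := by
    intro u v hu hv hnot hmem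
    obtain ⟨_, h1, w, hw, he⟩ := Submodule.mem_sup.1 hmem
    obtain ⟨t, rfl⟩ := Submodule.mem_span_singleton.1 h1
    have hwr : w ∈ r := sup_le ((Submodule.span_singleton_le_iff_mem _ _).2 hv) h21 hw
    have := congrArg c he
    rw [map_add, map_smul, hc1, hcr w hwr, hcr u hu, add_zero, smul_eq_mul, mul_one] at this
    rw [this, zero_smul, zero_add] at he
    exact hnot (he ▸ hw)
  have hxY : x ∉ Submodule.span K {y} ⊔ r2 := by
    intro hmem
    obtain ⟨_, h1, w, hw, he⟩ := Submodule.mem_sup.1 hmem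
    obtain ⟨t, rfl⟩ := Submodule.mem_span_singleton.1 h1
    by_cases ht : t = 0
    · rw [ht, zero_smul, zero_add] at he
      exact hx2 (he ▸ hw)
    · refine hyX (Submodule.mem_sup.2 ⟨t⁻¹ • x, Submodule.smul_mem _ _
        (Submodule.mem_span_singleton_self x), -(t⁻¹ • w),
        neg_mem (Submodule.smul_mem _ _ hw), ?_⟩)
      rw [← he, smul_add, inv_smul_smul₀ ht]
      abel
  have hfun : ∀ {u v : A}, u ∈ r → v ∈ r → u ∉ Submodule.span K {v} ⊔ r2 →
      ∃ f : A →ₗ[K] K, f 1 = 0 ∧ f u = 1 ∧ f v = 0 ∧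
        ∀ a b, f (a * b) = c a * f b + f a * c b := by
    intro u v hu hv hnot
    obtain ⟨φ, hφu, hφ⟩ :=
      Submodule.exists_dual_map_eq_bot_of_notMem (hsplit hu hv hnot) inferInstance
    have hf1 : φ 1 = 0 := hkill hφ 1 (Submodule.mem_sup_left (Submodule.mem_span_singleton_self _))
    have hf2 : ∀ w ∈ r2, φ w = 0 := fun w hw =>
      hkill hφ w (Submodule.mem_sup_right (Submodule.mem_sup_right hw))
    refine ⟨(φ u)⁻¹ • φ, by simp [hf1], by simp [hφu], ?_, fun a b => ?_⟩
    · simp [hkill hφ v (Submodule.mem_sup_right (Submodule.mem_sup_left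
        (Submodule.mem_span_singleton_self _)))]
    · have h3 := hf2 _ (show (a - algebraMap K A (c a)) * (b - algebraMap K A (c b)) ∈ r2 by
        show _ ∈ r ^ 2
        rw [pow_two]
        exact Submodule.mul_mem_mul (hdec a) (hdec b))
      simp only [Algebra.algebraMap_eq_smul_one, sub_mul, mul_sub, smul_mul_assoc, mul_smul_comm,
        one_mul, mul_one, map_sub, map_smul, hf1, smul_eq_mul, mul_zero, sub_zero] at h3
      simp only [LinearMap.smul_apply, smul_eq_mul]
      linear_combination (φ u)⁻¹ * h3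
  obtain ⟨f, hf1, hfx, hfy, hf⟩ := hfun hx hy hxY
  obtain ⟨g, hg1, hgy, hgx, hg⟩ := hfun hy hx hyX
  refine ⟨c, f, g, hc1, hf1, hg1, fun a b => ?_, hf, hg, ⟨x, hcr x hx, hfx, hgx⟩,
    y, hcr y hy, hfy, hgy⟩
  have h4 := hcr _ (LocAlg.rad_mul_mem hA (hdec a) (b - algebraMap K A (c b))).1
  simp only [Algebra.algebraMap_eq_smul_one, sub_mul, mul_sub, smul_mul_assoc, mul_smul_comm,
    one_mul, mul_one, map_sub, map_smul, hc1, smul_eq_mul, mul_one] at h4
  linear_combination h4

universe u

variable {G : Type u} [Group G] [Finite G] {i : MonoidAlgebra K G}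

/-- The module of a block algebra attached to a module of its corner. -/
def indMod (he : IsIdempotentElem i) (ψ : he.Corner →ₐ[K] Module.End K (K × K)) :
    Submodule K (MonoidAlgebra K G →ₗ[K] K × K) where
  carrier := {F | ∀ (a : he.Corner) (x : MonoidAlgebra K G), F (a.1 * x) = ψ a (F x)}
  zero_mem' := fun a x => by simp
  add_mem' := fun {F F'} hF hF' a x => by simp [hF a x, hF' a x]
  smul_mem' := fun t F hF a x => by simp [hF a x]

variable {he : IsIdempotentElem i} {ψ : he.Corner →ₐ[K] Module.End K (K × K)}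

theorem mem_indMod (F : indMod he ψ) (a : he.Corner) (x : MonoidAlgebra K G) :
    F.1 (a.1 * x) = ψ a (F.1 x) := F.2 a x

/-- The action of the group algebra. -/
noncomputable def act (he : IsIdempotentElem i) (ψ : he.Corner →ₐ[K] Module.End K (K × K)) :
    MonoidAlgebra K G →ₐ[K] Module.End K (indMod he ψ) :=
  AlgHom.ofLinearMap
    (LinearMap.mk₂ K (fun x F => (⟨F.1.comp (LinearMap.mulRight K x), fun a y => by
        simp [mul_assoc, mem_indMod F a]⟩ : indMod he ψ))
      (fun x y F => Subtype.ext (LinearMap.ext fun z => by simp [mul_add]))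
      (fun t x F => Subtype.ext (LinearMap.ext fun z => by simp))
      (fun x F F' => Subtype.ext (LinearMap.ext fun z => by simp))
      (fun t x F => Subtype.ext (LinearMap.ext fun z => by simp)))
    (LinearMap.ext fun F => Subtype.ext (LinearMap.ext fun z => by simp))
    (fun x y => LinearMap.ext fun F => Subtype.ext (LinearMap.ext fun z => by simp [mul_assoc]))

theorem act_apply (x : MonoidAlgebra K G) (F : indMod he ψ) (z : MonoidAlgebra K G) :
    (act he ψ x F).1 z = F.1 (z * x) := rfl

/-- Evaluation at the idempotent. -/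
noncomputable def evI (he : IsIdempotentElem i) (ψ : he.Corner →ₐ[K] Module.End K (K × K)) :
    indMod he ψ →ₗ[K] K × K where
  toFun F := F.1 i
  map_add' _ _ := rfl
  map_smul' _ _ := rfl

/-- The module of the corner inside the induced module. -/
noncomputable def embI (he : IsIdempotentElem i) (ψ : he.Corner →ₐ[K] Module.End K (K × K)) :
    K × K →ₗ[K] indMod he ψ where
  toFun v := ⟨{ toFun := fun x => ψ (proj (K := K) he x) v
                map_add' := fun x y => by simp
                map_smul' := fun t x => by simp }, fun a x => by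
    show ψ (proj (K := K) he (a.1 * x)) v = ψ a (ψ (proj (K := K) he x) v)
    rw [← Module.End.mul_apply, ← map_mul]
    congr 2
    refine Subtype.ext ?_
    show i * (a.1 * x) * i = a.1 * (i * x * i)
    rw [← mul_assoc i a.1, (val_mem he a).1]
    conv_lhs => rw [← (val_mem he a).2]
    simp only [mul_assoc]⟩
  map_add' v w := Subtype.ext (LinearMap.ext fun x => by simp)
  map_smul' t v := Subtype.ext (LinearMap.ext fun x => by simp)

theorem evI_embI (v : K × K) : evI he ψ (embI he ψ v) = v := by
  show ψ (proj (K := K) he i) v = v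
  rw [show proj (K := K) he i = 1 from Subtype.ext (by rw [proj_val, he.eq, he.eq]; rfl), map_one]
  rfl

theorem act_embI (a : he.Corner) (v : K × K) :
    act he ψ a.1 (embI he ψ v) = embI he ψ (ψ a v) := by
  refine Subtype.ext (LinearMap.ext fun x => ?_)
  show ψ (proj (K := K) he (x * a.1)) v = ψ (proj (K := K) he x) (ψ a v)
  rw [← Module.End.mul_apply, ← map_mul]
  congr 2
  refine Subtype.ext ?_
  show i * (x * a.1) * i = i * x * i * a.1
  rw [mul_assoc i (x * a.1), mul_assoc x, (val_mem he a).2, mul_assoc (i * x), (val_mem he a).1,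
    mul_assoc]

theorem evI_act (a : he.Corner) (F : indMod he ψ) :
    evI he ψ (act he ψ a.1 F) = ψ a (evI he ψ F) := by
  show F.1 (i * a.1) = ψ a (F.1 i)
  rw [(val_mem he a).1, ← mem_indMod F a i, (val_mem he a).2]

theorem act_eq_one {e : MonoidAlgebra K G} (hcen : ∀ x, e * x = x * e) (hei : e * i = i) :
    act he ψ e = 1 := by
  refine LinearMap.ext fun F => Subtype.ext (LinearMap.ext fun x => ?_)
  show F.1 (x * e) = F.1 x
  have h : ∀ z, F.1 (i * z) = F.1 z := fun z => by
    have h1 := mem_indMod F 1 z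
    rw [map_one] at h1
    exact h1
  rw [← h (x * e), ← hcen x, ← mul_assoc, ← hcen i, hei, h]

variable {D : Subgroup G} {p : ℕ} [Fact p.Prime] [CharP K p] [Infinite K]

/-- The radical of the corner is generated by one element. -/
theorem finrank_rad_le_of_relProj (hA : LocAlg.IsScalarLocal K he.Corner) [Nontrivial he.Corner]
    {e : MonoidAlgebra K G} (hcen : ∀ x, e * x = x * e) (hei : e * i = i) {u : G}
    (hu : D = Subgroup.zpowers u) {m : ℕ} (hum : u ^ p ^ m = 1) [Fintype (G ⧸ D)]
    {a : MonoidAlgebra K G} (ha : ∀ d ∈ D, Commute (MonoidAlgebra.single d (1 : K)) a)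
    (hsum : ∑ t : G ⧸ D, MonoidAlgebra.single t.out (1 : K) * a *
      MonoidAlgebra.single (t.out)⁻¹ 1 = e) :
    Module.finrank K (LocAlg.rad hA) ≤
      Module.finrank K (LocAlg.rad hA ^ 2 : Submodule K he.Corner) + 1 := by
  classical
  haveI : Module.Finite K (MonoidAlgebra K G) :=
    Module.Finite.equiv (MonoidAlgebra.coeffLinearEquiv K).symm
  by_contra hlt
  obtain ⟨c, f, g, hc1, hf1, hg1, hc, hf, hg, ⟨xa, hxc, hxf, hxg⟩, ya, hyc, hyf, hyg⟩ :=
    exists_functionals hA (by omega)
  let ψ : K → (he.Corner →ₐ[K] Module.End K (K × K)) := fun l =>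
    planeRep c (f + l • g) hc1 (by simp [hf1, hg1]) hc (fun a b => by
      simp only [LinearMap.add_apply, LinearMap.smul_apply, smul_eq_mul, hf, hg]
      ring)
  set n := Module.finrank K (MonoidAlgebra K G →ₗ[K] K × K)
  set q := p ^ m
  haveI : ∀ idx, Module.Finite K (Comp K n q idx) := compFinite n q
  set B := Module.finrank K ((G ⧸ D) → (idx : Fin n × Fin (q + 1)) → Comp K n q idx)
  haveI : CharP (MonoidAlgebra K G) p :=
    charP_of_injective_algebraMap (algebraMap K (MonoidAlgebra K G)).injective p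
  let sU : MonoidAlgebra K G := MonoidAlgebra.single u 1
  have hUq : (sU - 1) ^ q = 0 := by
    rw [sub_pow_char_pow_of_commute (p := p) _ (Commute.one_right _), one_pow, MonoidAlgebra.single_pow,
      one_pow, hum, ← MonoidAlgebra.one_def, sub_self]
  have hret : ∀ l, ∃ (j : indMod he (ψ l) →ₗ[K] ((idx : Fin n × Fin (q + 1)) → Comp K n q idx))
      (π : ((idx : Fin n × Fin (q + 1)) → Comp K n q idx) →ₗ[K] indMod he (ψ l)),
      (∀ v, π (j v) = v) ∧ (∀ v, j (act he (ψ l) (sU - 1) v) = (X : K[X]) • j v) ∧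
        ∀ w, π ((X : K[X]) • w) = act he (ψ l) (sU - 1) (π w) :=
    fun l => by
      have h : act he (ψ l) (sU - 1) ^ q = 0 := by rw [← map_pow, hUq, map_zero]
      exact exists_retract (V := indMod he (ψ l)) (n := n) (q := q) _ h (Submodule.finrank_le _)
  choose jj pp hpj hjN hpN using hret
  let lam : Fin (B + 1) → K := fun k => Infinite.natEmbedding K k
  have hlam : Function.Injective lam := fun a b h =>
    Fin.ext ((Infinite.natEmbedding K).injective h)
  -- the commutation with the subgroup
  have hθ : ∀ l l', ∀ d ∈ D, ∀ v, pp l (jj l' (act he (ψ l') (MonoidAlgebra.single d 1) v)) =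
      act he (ψ l) (MonoidAlgebra.single d 1) (pp l (jj l' v)) := by
    intro l l'
    have h1 : ∀ v, pp l (jj l' (act he (ψ l') sU v)) = act he (ψ l) sU (pp l (jj l' v)) := fun v => by
      have h2 := congrArg (pp l) (hjN l' v)
      rw [hpN] at h2
      have e : sU = (sU - 1) + 1 := (sub_add_cancel _ _).symm
      conv_lhs => rw [e]
      conv_rhs => rw [e]
      simp only [map_add, map_one, LinearMap.add_apply, Module.End.one_apply, h2]
    intro d hd
    rw [hu] at hd
    obtain ⟨k, rfl⟩ := Submonoid.mem_powers_iff _ _ |>.1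
      (mem_powers_iff_mem_zpowers.2 hd : d ∈ Submonoid.powers u)
    induction k with
    | zero => simp [← MonoidAlgebra.one_def]
    | succ k ih =>
      intro v
      have hpow : (MonoidAlgebra.single (u ^ (k + 1)) (1 : K)) =
          MonoidAlgebra.single (u ^ k) 1 * sU := by
        simp [sU, pow_succ]
      rw [hpow, map_mul, map_mul, Module.End.mul_apply, Module.End.mul_apply,
        ih (by rw [hu] at *; exact Subgroup.npow_mem_zpowers u k), h1]
  let φ : Fin (B + 1) → Fin (B + 1) → Module.End K (K × K) := fun j k =>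
    (evI he (ψ (lam j))).comp ((∑ t : G ⧸ D, (act he (ψ (lam j)) (MonoidAlgebra.single t.out 1)).comp
      (((pp (lam j)).comp (jj (lam k))).comp
        (act he (ψ (lam k)) (a * MonoidAlgebra.single (t.out)⁻¹ 1)))).comp (embI he (ψ (lam k))))
  have hequi : ∀ j k, ∀ z w, (∑ t : G ⧸ D, act he (ψ (lam j)) (MonoidAlgebra.single t.out 1)
      (pp (lam j) (jj (lam k) (act he (ψ (lam k)) (a * MonoidAlgebra.single (t.out)⁻¹ 1)
        (act he (ψ (lam k)) z w))))) =
      act he (ψ (lam j)) z (∑ t : G ⧸ D, act he (ψ (lam j)) (MonoidAlgebra.single t.out 1)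
        (pp (lam j) (jj (lam k) (act he (ψ (lam k)) (a * MonoidAlgebra.single (t.out)⁻¹ 1) w)))) := by
    intro j k z
    induction z using MonoidAlgebra.induction_on with
    | of h =>
      intro w
      rw [MonoidAlgebra.of_apply, map_sum]
      symm
      refine Fintype.sum_equiv (MulAction.toPerm h) _ _ fun t => ?_
      rw [MulAction.toPerm_apply]
      set t' := h • t
      have hd : t'.out⁻¹ * (h * t.out) ∈ D := by
        rw [← QuotientGroup.eq, QuotientGroup.out_eq']
        conv_lhs => rw [show t' = h • (QuotientGroup.mk t.out : G ⧸ D) by rw [QuotientGroup.out_eq']]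
        rfl
      set d := t'.out⁻¹ * (h * t.out) with hddef
      have e1 : (MonoidAlgebra.single h (1 : K)) * MonoidAlgebra.single t.out 1 =
          MonoidAlgebra.single t'.out 1 * MonoidAlgebra.single d 1 := by
        simp [hddef]
      have e2 : MonoidAlgebra.single d (1 : K) * (a * MonoidAlgebra.single (t.out)⁻¹ 1) =
          a * MonoidAlgebra.single (t'.out)⁻¹ 1 * MonoidAlgebra.single h 1 := by
        rw [← mul_assoc, (ha d hd).eq, mul_assoc, mul_assoc]
        congr 1
        simp [hddef, mul_assoc]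
      rw [← Module.End.mul_apply (act he (ψ (lam j)) _), ← map_mul, e1, map_mul,
        Module.End.mul_apply, ← hθ _ _ d hd, ← Module.End.mul_apply, ← map_mul, e2, map_mul,
        Module.End.mul_apply]
    | add z z' hz hz' => intro w; simp only [map_add, LinearMap.add_apply, Finset.sum_add_distrib, hz, hz']
    | smul r z hz => intro w; simp only [map_smul, LinearMap.smul_apply, ← Finset.smul_sum, hz]
  have hφ : ∀ j k (b : he.Corner) v, φ j k (ψ (lam k) b v) = ψ (lam j) b (φ j k v) := by
    intro j k b v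
    simp only [φ, LinearMap.comp_apply, LinearMap.sum_apply]
    rw [← act_embI b v, hequi, evI_act]
  have hdiag : ∀ j v, φ j j v = v := by
    intro j v
    simp only [φ, LinearMap.comp_apply, LinearMap.sum_apply, hpj]
    rw [Finset.sum_congr rfl fun t _ => by
      rw [← Module.End.mul_apply, ← map_mul, ← mul_assoc], ← LinearMap.sum_apply, ← map_sum, hsum,
      act_eq_one hcen hei, Module.End.one_apply, evI_embI]
  have hoff : ∀ j k, j ≠ k → ∀ v, φ j k (N₀ K v) = 0 ∧ N₀ K (φ j k v) = 0 := by
    intro j k hjk v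
    have h1 := hφ j k xa v
    have h2 := hφ j k ya v
    simp only [ψ, planeRep_apply, LinearMap.add_apply, LinearMap.smul_apply, hxc, hxf, hxg, hyc,
      hyf, hyg, zero_smul, zero_add, smul_eq_mul, mul_zero, mul_one, add_zero, one_smul,
      map_smul] at h1 h2
    rw [h1] at h2
    have h3 : (lam k - lam j) • N₀ K (φ j k v) = 0 := by rw [sub_smul, h2, sub_self]
    have h4 := (smul_eq_zero.1 h3).resolve_left (sub_ne_zero.2 fun h => hjk (hlam h).symm)
    exact ⟨h1.trans h4, h4⟩
  let E : (Fin (B + 1) → K × K) →ₗ[K] ((G ⧸ D) → (idx : Fin n × Fin (q + 1)) → Comp K n q idx) :=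
    ∑ k, (LinearMap.pi fun t : G ⧸ D => (jj (lam k)).comp
      ((act he (ψ (lam k)) (a * MonoidAlgebra.single (t.out)⁻¹ 1)).comp (embI he (ψ (lam k))))).comp
      (LinearMap.proj k)
  have hinj : Function.Injective E := by
    rw [← LinearMap.ker_eq_bot, LinearMap.ker_eq_bot']
    intro v hv
    have hsum' : ∀ j, ∑ k, φ j k (v k) = 0 := by
      intro j
      have h1 := congrArg (fun w => evI he (ψ (lam j)) (∑ t : G ⧸ D,
        act he (ψ (lam j)) (MonoidAlgebra.single t.out 1) (pp (lam j) (w t)))) hv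
      simp only [E, LinearMap.sum_apply, Finset.sum_apply, LinearMap.comp_apply, LinearMap.pi_apply,
        LinearMap.proj_apply, map_sum, Pi.zero_apply, map_zero, Finset.sum_const_zero] at h1
      rw [Finset.sum_comm] at h1
      simpa [φ] using h1
    have hN : ∀ j, N₀ K (v j) = 0 := by
      intro j
      have h1 := congrArg (N₀ K) (hsum' j)
      rw [map_sum, map_zero, Finset.sum_eq_single j (fun k _ hk => (hoff j k (Ne.symm hk) _).2)
        (by simp), hdiag] at h1
      exact h1
    funext j
    have h1 := hsum' j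
    rw [Finset.sum_eq_single j ?_ (by simp), hdiag] at h1
    · exact h1
    · intro k _ hk
      have h2 : v k = N₀ K (0, (v k).1) := by
        have := congrArg Prod.fst (hN k)
        rw [N₀_apply] at this ⊢
        exact Prod.ext rfl this
      rw [h2]
      exact (hoff j k (Ne.symm hk) _).1
  have h5 := LinearMap.finrank_le_finrank_of_injective hinj
  rw [Module.finrank_pi_fintype] at h5
  simp [Module.finrank_prod] at h5
  omega

/-- The corner is commutative. -/
theorem comm_of_relProj (hA : LocAlg.IsScalarLocal K he.Corner) [Nontrivial he.Corner]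
    {e : MonoidAlgebra K G} (hcen : ∀ x, e * x = x * e) (hei : e * i = i) {u : G}
    (hu : D = Subgroup.zpowers u) {m : ℕ} (hum : u ^ p ^ m = 1) [Fintype (G ⧸ D)]
    {a : MonoidAlgebra K G} (ha : ∀ d ∈ D, Commute (MonoidAlgebra.single d (1 : K)) a)
    (hsum : ∑ t : G ⧸ D, MonoidAlgebra.single t.out (1 : K) * a *
      MonoidAlgebra.single (t.out)⁻¹ 1 = e) (x y : he.Corner) : x * y = y * x := by
  haveI : Module.Finite K (MonoidAlgebra K G) :=
    Module.Finite.equiv (MonoidAlgebra.coeffLinearEquiv K).symm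
  exact LocAlg.comm_of_finrank hA (finrank_rad_le_of_relProj hA hcen hei hu hum ha hsum) x y

omit [Infinite K] in
/-- A function invariant under a subgroup with prescribed relative trace. -/
theorem exists_preTrace (D : Subgroup G) [Fintype (G ⧸ D)] (c : MonoidAlgebra K G)
    (hc : ∀ g h : G, c.coeff (g * h * g⁻¹) = c.coeff h)
    (hD : ∀ h : G, c.coeff h ≠ 0 → ∃ g : G, IsConj h g ∧
      ((D.relIndex (Subgroup.centralizer ({g} : Set G)) : ℕ) : K) ≠ 0) :
    ∃ a : MonoidAlgebra K G, (∀ d ∈ D, Commute (MonoidAlgebra.single d (1 : K)) a) ∧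
      ∑ t : G ⧸ D, MonoidAlgebra.single t.out (1 : K) * a *
        MonoidAlgebra.single (t.out)⁻¹ 1 = c := by
  classical
  haveI := Fintype.ofFinite G
  have hrep : ∀ C : ConjClasses G, ∃ g : G, ConjClasses.mk g = C ∧ (c.coeff g ≠ 0 →
      ((D.relIndex (Subgroup.centralizer ({g} : Set G)) : ℕ) : K) ≠ 0) := by
    intro C
    by_cases h : c.coeff C.out = 0
    · exact ⟨C.out, Quotient.out_eq C, fun h' => absurd h h'⟩
    · obtain ⟨g, hg, hn⟩ := hD _ h
      exact ⟨g, (ConjClasses.mk_eq_mk_iff_isConj.2 hg).symm.trans (Quotient.out_eq C), fun _ => hn⟩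
  choose r hr hrn using hrep
  have hcls : ∀ g s : G, ConjClasses.mk (s * g * s⁻¹) = ConjClasses.mk g := fun g s =>
    (ConjClasses.mk_eq_mk_iff_isConj.2 (isConj_iff.2 ⟨s, rfl⟩)).symm
  let val : ConjClasses G → K := fun C =>
    c.coeff (r C) / ((D.relIndex (Subgroup.centralizer ({r C} : Set G)) : ℕ) : K)
  let af : G → K := fun y =>
    if ∃ d ∈ D, d * r (ConjClasses.mk y) * d⁻¹ = y then val (ConjClasses.mk y) else 0
  have haf : ∀ d ∈ D, ∀ y, af (d * y * d⁻¹) = af y := by
    intro d hd y
    simp only [af, hcls]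
    refine if_congr ⟨?_, ?_⟩ rfl rfl
    · rintro ⟨d', hd', he'⟩
      exact ⟨d⁻¹ * d', mul_mem (inv_mem hd) hd', by
        calc _ = d⁻¹ * (d' * r (ConjClasses.mk y) * d'⁻¹) * d := by group
          _ = d⁻¹ * (d * y * d⁻¹) * d := by rw [he']
          _ = y := by group⟩
    · rintro ⟨d', hd', he'⟩
      exact ⟨d * d', mul_mem hd hd', by
        conv_rhs => rw [← he']
        group⟩
  refine ⟨MonoidAlgebra.ofCoeff (Finsupp.equivFunOnFinite.symm af), fun d hd => ?_, ?_⟩
  · show _ * _ = _ * _
    refine MonoidAlgebra.ext (Finsupp.ext fun y => ?_)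
    rw [MonoidAlgebra.coeff_single_mul_apply, MonoidAlgebra.coeff_mul_single_apply, one_mul,
      mul_one]
    simp only [MonoidAlgebra.coeff_ofCoeff, Finsupp.equivFunOnFinite_symm_apply_apply]
    rw [← haf d hd (d⁻¹ * y)]
    congr 1
    group
  refine MonoidAlgebra.ext (Finsupp.ext fun y => ?_)
  simp only [MonoidAlgebra.coeff_sum, Finsupp.coe_finsetSum, Finset.sum_apply,
    MonoidAlgebra.coeff_mul_single_apply, MonoidAlgebra.coeff_single_mul_apply, one_mul, mul_one,
    MonoidAlgebra.coeff_ofCoeff, Finsupp.equivFunOnFinite_symm_apply_apply, inv_inv]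
  set C := ConjClasses.mk y
  obtain ⟨s, hs⟩ := isConj_iff.1 (ConjClasses.mk_eq_mk_iff_isConj.1 (hr C))
  have hcls' : ∀ t : G, ConjClasses.mk (t⁻¹ * (y * t)) = C := fun t => by
    rw [show t⁻¹ * (y * t) = t⁻¹ * y * t⁻¹⁻¹ by group, hcls]
  set Z := Subgroup.centralizer ({r C} : Set G)
  have horb : Finset.univ.filter (fun t : G ⧸ D => ∃ d ∈ D, d * r C * d⁻¹ = t.out⁻¹ * (y * t.out)) =
      ((MulAction.orbit Z (QuotientGroup.mk 1 : G ⧸ D)).toFinset).image (s • ·) := by
    ext t
    simp only [Finset.mem_filter, Finset.mem_univ, true_and, Finset.mem_image, Set.mem_toFinset]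
    constructor
    · rintro ⟨d, hd, he⟩
      refine ⟨s⁻¹ • t, ⟨⟨s⁻¹ * (t.out * d), ?_⟩, ?_⟩, smul_inv_smul s t⟩
      · rw [Subgroup.mem_centralizer_singleton_iff]
        have : t.out * d * r C = y * (t.out * d) := by
          calc t.out * d * r C = t.out * (d * r C * d⁻¹) * d := by group
            _ = _ := by rw [he]; group
        calc s⁻¹ * (t.out * d) * r C = s⁻¹ * (t.out * d * r C) := by group
          _ = s⁻¹ * (y * (t.out * d)) := by rw [this]
          _ = r C * (s⁻¹ * (t.out * d)) := by rw [← hs]; group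
      · show (QuotientGroup.mk (s⁻¹ * (t.out * d) * 1) : G ⧸ D) = s⁻¹ • t
        conv_rhs => rw [← QuotientGroup.out_eq' t]
        show _ = (QuotientGroup.mk (s⁻¹ * t.out) : G ⧸ D)
        rw [QuotientGroup.eq]
        simpa [mul_assoc] using inv_mem hd
    · rintro ⟨_, ⟨⟨z, hz⟩, rfl⟩, rfl⟩
      set t : G ⧸ D := QuotientGroup.mk (s * (z * 1))
      show ∃ d ∈ D, d * r C * d⁻¹ = t.out⁻¹ * (y * t.out)
      obtain ⟨d, hd⟩ := QuotientGroup.mk_out_eq_mul D (s * (z * 1))
      refine ⟨(d : G)⁻¹, inv_mem d.2, ?_⟩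
      rw [hd, ← hs]
      have hz' := Subgroup.mem_centralizer_singleton_iff.1 hz
      calc (d : G)⁻¹ * r C * (d : G)⁻¹⁻¹ = (d : G)⁻¹ * (z⁻¹ * (z * r C)) * d := by group
        _ = (d : G)⁻¹ * (z⁻¹ * (r C * z)) * d := by rw [hz']
        _ = _ := by group
  have hsum : ∀ t : G ⧸ D, af (t.out⁻¹ * (y * t.out)) =
      if ∃ d ∈ D, d * r C * d⁻¹ = t.out⁻¹ * (y * t.out) then val C else 0 := fun t => by
    simp only [af, hcls']
  simp only [hsum]
  rw [← Finset.sum_filter,
    Finset.sum_const, horb, Finset.card_image_of_injective _ (MulAction.injective s),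
    Set.toFinset_card, ← Nat.card_eq_fintype_card, nsmul_eq_mul]
  have hidx : Nat.card (MulAction.orbit Z (QuotientGroup.mk 1 : G ⧸ D)) = D.relIndex Z := by
    rw [Nat.card_coe_set_eq, ← MulAction.index_stabilizer]
    show _ = (D.subgroupOf Z).index
    congr 1
    ext z
    rw [MulAction.mem_stabilizer_iff, Subgroup.mem_subgroupOf]
    show (QuotientGroup.mk ((z : G) * 1) : G ⧸ D) = QuotientGroup.mk 1 ↔ _
    rw [QuotientGroup.eq]
    simp
  have hcy : c.coeff y = c.coeff (r C) := by rw [← hs, hc]
  rw [hidx, hcy]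
  by_cases h0 : c.coeff (r C) = 0
  · simp [val, h0]
  · exact mul_div_cancel₀ _ (hrn C h0)

end Cfsg.Agent.Char.CycRep
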