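import Cfsg.Prelude.Def_OddOrderLocal
import Cfsg.Prelude.Def_OddOrderChar
import Cfsg.Agent.Lib.Char.Induce
import Cfsg.Agent.Lib.Char.Constituent
import Mathlib.GroupTheory.SpecificGroups.Cyclic
import Mathlib.GroupTheory.QuotientGroup.Basic

/-!
Linear characters of a product of two commuting subgroups meeting trivially, and induction from a
self-normalising cyclic subgroup.
-/

namespace Cfsg.Agent.Char.CyclicW

open Cfsg Cfsg.Agent.Char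
open scoped ComplexConjugate

set_option linter.unusedSectionVars false
set_option linter.style.haveILetI false

universe u

variable {G : Type u} [Group G] (W₁ W₂ : Subgroup G)

theorem exists_mul_eq (hcomm : ∀ a ∈ W₁, ∀ b ∈ W₂, a * b = b * a) {w : G} (hw : w ∈ W₁ ⊔ W₂) :
    ∃ a ∈ W₁, ∃ b ∈ W₂, a * b = w := by
  let S : Subgroup G :=
    { carrier := {w | ∃ a ∈ W₁, ∃ b ∈ W₂, a * b = w}
      one_mem' := ⟨1, one_mem _, 1, one_mem _, one_mul _⟩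
      mul_mem' := by
        rintro _ _ ⟨a, ha, b, hb, rfl⟩ ⟨c, hc, d, hd, rfl⟩
        refine ⟨a * c, mul_mem ha hc, b * d, mul_mem hb hd, ?_⟩
        rw [mul_assoc, ← mul_assoc c b d, hcomm c hc b hb]
        simp [mul_assoc]
      inv_mem' := by
        rintro _ ⟨a, ha, b, hb, rfl⟩
        refine ⟨a⁻¹, inv_mem ha, b⁻¹, inv_mem hb, ?_⟩
        rw [mul_inv_rev, hcomm a⁻¹ (inv_mem ha) b⁻¹ (inv_mem hb)] }
  exact (sup_le (fun a ha => (⟨a, ha, 1, one_mem _, mul_one a⟩ : a ∈ S))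
    (fun b hb => (⟨1, one_mem _, b, hb, one_mul b⟩ : b ∈ S)) : W₁ ⊔ W₂ ≤ S) hw

theorem sup_comm' (hcomm : ∀ a ∈ W₁, ∀ b ∈ W₂, a * b = b * a) (v w : ↥(W₁ ⊔ W₂))
    (h₁ : IsMulCommutative W₁) (h₂ : IsMulCommutative W₂) : v * w = w * v := by
  obtain ⟨a, ha, b, hb, hv⟩ := exists_mul_eq W₁ W₂ hcomm v.2
  obtain ⟨c, hc, d, hd, hw⟩ := exists_mul_eq W₁ W₂ hcomm w.2
  refine Subtype.ext ?_
  have hac : Commute a c := congrArg Subtype.val (h₁.is_comm.comm ⟨a, ha⟩ ⟨c, hc⟩)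
  have hbd : Commute b d := congrArg Subtype.val (h₂.is_comm.comm ⟨b, hb⟩ ⟨d, hd⟩)
  have had : Commute a d := hcomm a ha d hd
  have hbc : Commute b c := (hcomm c hc b hb).symm
  show (v : G) * w = w * v
  rw [← hv, ← hw]
  exact (((hac.mul_right had)).mul_left (hbc.mul_right hbd)).eq

/-- A pair of characters, trivial on the second and the first factor, is determined by the
product. -/
theorem pair_inj (hcomm : ∀ a ∈ W₁, ∀ b ∈ W₂, a * b = b * a)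
    {φ φ' ψ ψ' : ↥(W₁ ⊔ W₂) →* ℂˣ} (hφ : ∀ w : ↥(W₁ ⊔ W₂), (w : G) ∈ W₂ → φ w = 1)
    (hφ' : ∀ w : ↥(W₁ ⊔ W₂), (w : G) ∈ W₂ → φ' w = 1)
    (hψ : ∀ w : ↥(W₁ ⊔ W₂), (w : G) ∈ W₁ → ψ w = 1)
    (hψ' : ∀ w : ↥(W₁ ⊔ W₂), (w : G) ∈ W₁ → ψ' w = 1) (h : φ * ψ = φ' * ψ') :
    φ = φ' ∧ ψ = ψ' := by
  have e : φ = φ' := by
    refine MonoidHom.ext fun w => ?_
    obtain ⟨a, ha, b, hb, hab⟩ := exists_mul_eq W₁ W₂ hcomm w.2
    have hw : w = ⟨a, Subgroup.mem_sup_left ha⟩ * ⟨b, Subgroup.mem_sup_right hb⟩ :=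
      Subtype.ext hab.symm
    have h1 := DFunLike.congr_fun h ⟨a, Subgroup.mem_sup_left ha⟩
    rw [MonoidHom.mul_apply, MonoidHom.mul_apply, hψ _ ha, hψ' _ ha, mul_one, mul_one] at h1
    rw [hw, map_mul, map_mul, h1, hφ ⟨b, Subgroup.mem_sup_right hb⟩ hb,
      hφ' ⟨b, Subgroup.mem_sup_right hb⟩ hb]
  subst e
  exact ⟨rfl, mul_left_cancel h⟩

theorem kill_left {φ : ↥(W₁ ⊔ W₂) →* ℂˣ} (hcomm : ∀ a ∈ W₁, ∀ b ∈ W₂, a * b = b * a)
    (h₂ : ∀ w : ↥(W₁ ⊔ W₂), (w : G) ∈ W₂ → φ w = 1)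
    (h₁ : ∀ w : ↥(W₁ ⊔ W₂), (w : G) ∈ W₁ → φ w = 1) : φ = 1 :=
  (pair_inj W₁ W₂ hcomm (φ := φ) (φ' := 1) (ψ := 1) (ψ' := φ) h₂ (fun _ _ => rfl) (fun _ _ => rfl)
    h₁ ((mul_one φ).trans (one_mul φ).symm)).1

/-- The basic function attached to a pair of characters vanishes on both factors. -/
theorem basic_vanish {φ ψ : ↥(W₁ ⊔ W₂) →* ℂˣ}
    (hφ : ∀ w : ↥(W₁ ⊔ W₂), (w : G) ∈ W₂ → φ w = 1)
    (hψ : ∀ w : ↥(W₁ ⊔ W₂), (w : G) ∈ W₁ → ψ w = 1) {w : ↥(W₁ ⊔ W₂)}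
    (hw : (w : G) ∈ W₁ ∨ (w : G) ∈ W₂) :
    (1 - (φ w : ℂ) - (ψ w : ℂ) + (φ w : ℂ) * (ψ w : ℂ)) = 0 := by
  rcases hw with h | h
  · simp [hψ w h]
  · simp [hφ w h]

/-- The inner products of the basic functions. -/
theorem classInner_basic [Fintype ↥(W₁ ⊔ W₂)] (hcomm : ∀ a ∈ W₁, ∀ b ∈ W₂, a * b = b * a)
    {φ φ' ψ ψ' : ↥(W₁ ⊔ W₂) →* ℂˣ} [Decidable (φ = φ')] [Decidable (ψ = ψ')]
    (hφn : φ ≠ 1) (hφn' : φ' ≠ 1) (hψn : ψ ≠ 1) (hψn' : ψ' ≠ 1)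
    (hφ : ∀ w : ↥(W₁ ⊔ W₂), (w : G) ∈ W₂ → φ w = 1)
    (hφ' : ∀ w : ↥(W₁ ⊔ W₂), (w : G) ∈ W₂ → φ' w = 1)
    (hψ : ∀ w : ↥(W₁ ⊔ W₂), (w : G) ∈ W₁ → ψ w = 1)
    (hψ' : ∀ w : ↥(W₁ ⊔ W₂), (w : G) ∈ W₁ → ψ' w = 1) :
    classInner (fun w => 1 - (φ w : ℂ) - (ψ w : ℂ) + (φ w : ℂ) * (ψ w : ℂ))
      (fun w => 1 - (φ' w : ℂ) - (ψ' w : ℂ) + (φ' w : ℂ) * (ψ' w : ℂ)) =
      1 + (if φ = φ' then 1 else 0) + (if ψ = ψ' then 1 else 0) +
        (if φ = φ' then 1 else 0) * (if ψ = ψ' then 1 else 0) := by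
  classical
  let f : (↥(W₁ ⊔ W₂) →* ℂˣ) → ↥(W₁ ⊔ W₂) → ℂ := fun l w => (l w : ℂ)
  have hf : Function.Injective f := fun a b h =>
    MonoidHom.ext fun w => Units.ext (congrFun h w)
  have hin : ∀ a b : ↥(W₁ ⊔ W₂) →* ℂˣ, classInner (f a) (f b) = if a = b then 1 else 0 := by
    intro a b
    rw [classInner_irr_eq_ite (isIrr_linear a) (isIrr_linear b)]
    exact if_congr hf.eq_iff rfl rfl
  have e : ∀ a b : ↥(W₁ ⊔ W₂) →* ℂˣ,
      (fun w => 1 - (a w : ℂ) - (b w : ℂ) + (a w : ℂ) * (b w : ℂ)) = f 1 - f a - f b + f (a * b) := by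
    intro a b
    funext w
    simp [f]
  have hne : ∀ {a b : ↥(W₁ ⊔ W₂) →* ℂˣ}, (∀ w : ↥(W₁ ⊔ W₂), (w : G) ∈ W₂ → a w = 1) →
      (∀ w : ↥(W₁ ⊔ W₂), (w : G) ∈ W₁ → b w = 1) → a ≠ 1 → b ≠ 1 →
      a ≠ b ∧ a * b ≠ 1 ∧ (∀ a' : ↥(W₁ ⊔ W₂) →* ℂˣ,
        (∀ w : ↥(W₁ ⊔ W₂), (w : G) ∈ W₂ → a' w = 1) → a * b ≠ a') ∧
      (∀ b' : ↥(W₁ ⊔ W₂) →* ℂˣ,
        (∀ w : ↥(W₁ ⊔ W₂), (w : G) ∈ W₁ → b' w = 1) → a * b ≠ b') := by
    intro a b ha hb han hbn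
    refine ⟨fun h => han (kill_left W₁ W₂ hcomm ha (h ▸ hb)), fun h => ?_, fun a' ha' h => ?_,
      fun b' hb' h => ?_⟩
    · exact han (pair_inj W₁ W₂ hcomm ha (fun _ _ => rfl) hb (fun _ _ => rfl)
        (h.trans (one_mul (1 : ↥(W₁ ⊔ W₂) →* ℂˣ)).symm)).1
    · exact hbn (pair_inj W₁ W₂ hcomm ha ha' hb (fun _ _ => rfl) (h.trans (mul_one a').symm)).2
    · exact han (pair_inj W₁ W₂ hcomm ha (fun _ _ => rfl) hb hb' (h.trans (one_mul b').symm)).1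
  obtain ⟨n1, n2, n3, n4⟩ := hne hφ hψ hφn hψn
  obtain ⟨m1, m2, m3, m4⟩ := hne hφ' hψ' hφn' hψn'
  obtain ⟨k1, -, -, -⟩ := hne hφ hψ' hφn hψn'
  obtain ⟨l1, -, -, -⟩ := hne hφ' hψ hφn' hψn
  rw [e, e]
  simp only [classInner_add_left, classInner_sub_left, classInner_add_right, classInner_sub_right,
    hin]
  have hpair : (φ * ψ = φ' * ψ') ↔ (φ = φ' ∧ ψ = ψ') :=
    ⟨pair_inj W₁ W₂ hcomm hφ hφ' hψ hψ', fun h => by rw [h.1, h.2]⟩
  simp only [hφn, hψn, hφn'.symm, hψn'.symm, n2, m2.symm, n3 φ' hφ', n4 ψ' hψ', (m3 φ hφ).symm,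
    (m4 ψ hψ).symm, k1, l1.symm, if_false, if_true, hpair]
  split_ifs <;> simp_all

/-- The characters trivial on the second factor separate. -/
theorem exists_left (hcomm : ∀ a ∈ W₁, ∀ b ∈ W₂, a * b = b * a) [Finite G]
    (hab : ∀ v w : ↥(W₁ ⊔ W₂), v * w = w * v) {w : ↥(W₁ ⊔ W₂)} (hw : (w : G) ∉ W₂) :
    ∃ φ : ↥(W₁ ⊔ W₂) →* ℂˣ, (∀ v : ↥(W₁ ⊔ W₂), (v : G) ∈ W₂ → φ v = 1) ∧ φ w ≠ 1 := by
  set N := W₂.subgroupOf (W₁ ⊔ W₂)
  haveI : N.Normal := ⟨fun n hn g => by rwa [hab g n, mul_inv_cancel_right]⟩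
  by_contra hno
  push Not at hno
  refine hw (Subgroup.mem_subgroupOf.1 ((QuotientGroup.eq_one_iff (N := N) w).1 ?_))
  refine eq_one_of_forall_linear (fun a b => ?_) fun l => hno (l.comp (QuotientGroup.mk' N))
    fun v hv => ?_
  · induction a using QuotientGroup.induction_on with | H a => ?_
    induction b using QuotientGroup.induction_on with | H b => ?_
    rw [← QuotientGroup.mk_mul, hab, QuotientGroup.mk_mul]
  · show l ((v : ↥(W₁ ⊔ W₂)) : ↥(W₁ ⊔ W₂) ⧸ N) = 1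
    rw [(QuotientGroup.eq_one_iff v).2 (Subgroup.mem_subgroupOf.2 hv), map_one]

theorem exists_right (hcomm : ∀ a ∈ W₁, ∀ b ∈ W₂, a * b = b * a) [Finite G]
    (hab : ∀ v w : ↥(W₁ ⊔ W₂), v * w = w * v) {w : ↥(W₁ ⊔ W₂)} (hw : (w : G) ∉ W₁) :
    ∃ φ : ↥(W₁ ⊔ W₂) →* ℂˣ, (∀ v : ↥(W₁ ⊔ W₂), (v : G) ∈ W₁ → φ v = 1) ∧ φ w ≠ 1 := by
  set N := W₁.subgroupOf (W₁ ⊔ W₂)
  haveI : N.Normal := ⟨fun n hn g => by rwa [hab g n, mul_inv_cancel_right]⟩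
  by_contra hno
  push Not at hno
  refine hw (Subgroup.mem_subgroupOf.1 ((QuotientGroup.eq_one_iff (N := N) w).1 ?_))
  refine eq_one_of_forall_linear (fun a b => ?_) fun l => hno (l.comp (QuotientGroup.mk' N))
    fun v hv => ?_
  · induction a using QuotientGroup.induction_on with | H a => ?_
    induction b using QuotientGroup.induction_on with | H b => ?_
    rw [← QuotientGroup.mk_mul, hab, QuotientGroup.mk_mul]
  · show l ((v : ↥(W₁ ⊔ W₂)) : ↥(W₁ ⊔ W₂) ⧸ N) = 1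
    rw [(QuotientGroup.eq_one_iff v).2 (Subgroup.mem_subgroupOf.2 hv), map_one]

section ti

variable [Fintype G] {W₁ W₂}

theorem conj_mem_sup (hW : IsSelfNormalizingCyclic W₁ W₂) {v x : G} (hv : v ∈ W₁ ⊔ W₂)
    (hv₁ : v ∉ W₁) (hv₂ : v ∉ W₂) (hu : x⁻¹ * v * x ∈ W₁ ⊔ W₂) (hu₁ : x⁻¹ * v * x ∉ W₁)
    (hu₂ : x⁻¹ * v * x ∉ W₂) : x ∈ W₁ ⊔ W₂ := by
  classical
  obtain ⟨-, -, -, -, hcyc, hnorm⟩ := hW
  set W := W₁ ⊔ W₂ with hWdef
  have hC : ∀ z : G, z ∈ W → z ∉ W₁ → z ∉ W₂ → Subgroup.centralizer ({z} : Set G) = W := by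
    intro z hz h1 h2
    rw [← hnorm {z} (Set.singleton_subset_iff.2 ⟨hz, by simp [h1, h2]⟩) (Set.singleton_nonempty z)]
    ext y
    rw [Subgroup.mem_centralizer_singleton_iff, Subgroup.mem_set_normalizer_iff]
    constructor
    · intro h a
      simp only [Set.mem_singleton_iff]
      constructor
      · rintro rfl; rw [h, mul_inv_cancel_right]
      · intro e
        rw [mul_inv_eq_iff_eq_mul, ← h] at e
        exact mul_left_cancel e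
    · intro h
      have e := (h z).1 rfl
      rw [Set.mem_singleton_iff, mul_inv_eq_iff_eq_mul] at e
      exact e
  have hCv := hC v hv hv₁ hv₂
  have hCu := hC _ hu hu₁ hu₂
  have hconj : ∀ y : G, y ∈ W ↔ x * y * x⁻¹ ∈ W := fun y => by
    conv_lhs => rw [← hCu]
    conv_rhs => rw [← hCv]
    simp only [Subgroup.mem_centralizer_singleton_iff]
    constructor
    · intro h
      calc x * y * x⁻¹ * v = x * (y * (x⁻¹ * v * x)) * x⁻¹ := by group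
        _ = x * (x⁻¹ * v * x * y) * x⁻¹ := by rw [h]
        _ = v * (x * y * x⁻¹) := by group
    · intro h
      calc y * (x⁻¹ * v * x) = x⁻¹ * (x * y * x⁻¹ * v) * x := by group
        _ = x⁻¹ * (v * (x * y * x⁻¹)) * x := by rw [h]
        _ = x⁻¹ * v * x * y := by group
  -- subgroups of a cyclic group are determined by their order
  haveI : IsCyclic W := hcyc
  have hchar : ∀ U : Subgroup G, U ≤ W → ∀ y : G, y ∈ W → y ^ Nat.card U = 1 → y ∈ U := by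
    intro U hU y hy hpow
    have hle : (Finset.univ.filter fun a : W => a ^ Nat.card U = 1).card ≤ Nat.card U :=
      IsCyclic.card_pow_eq_one_le Nat.card_pos
    have hsub : (Finset.univ.filter fun a : W => (a : G) ∈ U) ⊆
        Finset.univ.filter fun a : W => a ^ Nat.card U = 1 := by
      intro a ha
      rw [Finset.mem_filter] at ha ⊢
      refine ⟨ha.1, Subtype.ext ?_⟩
      have h1 := pow_card_eq_one' (G := U) (x := ⟨(a : G), ha.2⟩)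
      exact (SubmonoidClass.coe_pow a _).trans (congrArg Subtype.val h1)
    have hcard : (Finset.univ.filter fun a : W => (a : G) ∈ U).card = Nat.card U := by
      rw [← Fintype.card_subtype, ← Nat.card_eq_fintype_card]
      exact Nat.card_congr ((Subgroup.subgroupOfEquivOfLe hU).toEquiv)
    have heq := Finset.eq_of_subset_of_card_le hsub (by rw [hcard]; exact hle)
    have : (⟨y, hy⟩ : W) ∈ Finset.univ.filter fun a : W => a ^ Nat.card U = 1 :=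
      Finset.mem_filter.2 ⟨Finset.mem_univ _, Subtype.ext (by simpa using hpow)⟩
    rw [← heq] at this
    exact (Finset.mem_filter.1 this).2
  have hU : ∀ U : Subgroup G, U ≤ W → ∀ y : G, y ∈ W → (y ∈ U ↔ x * y * x⁻¹ ∈ U) := by
    intro U hle y hy
    have key : ∀ z : G, z ∈ U → z ^ Nat.card U = 1 := fun z hz =>
      congrArg Subtype.val (pow_card_eq_one' (G := U) (x := ⟨z, hz⟩))
    constructor
    · intro h
      refine hchar U hle _ ((hconj y).1 hy) ?_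
      rw [conj_pow, key y h, mul_one, mul_inv_cancel]
    · intro h
      refine hchar U hle y hy ?_
      have := key _ h
      rwa [conj_pow, mul_inv_eq_one, mul_eq_left] at this
  set V : Set G := (↑W : Set G) \ (↑W₁ ∪ ↑W₂) with hV
  have hx : x ∈ Subgroup.normalizer V := by
    rw [Subgroup.mem_set_normalizer_iff]
    intro y
    simp only [hV, Set.mem_sdiff, SetLike.mem_coe, Set.mem_union, not_or]
    constructor
    · rintro ⟨h, h1, h2⟩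
      exact ⟨(hconj y).1 h, fun e => h1 ((hU W₁ le_sup_left y h).2 e),
        fun e => h2 ((hU W₂ le_sup_right y h).2 e)⟩
    · rintro ⟨h, h1, h2⟩
      have h' := (hconj y).2 h
      exact ⟨h', fun e => h1 ((hU W₁ le_sup_left y h').1 e),
        fun e => h2 ((hU W₂ le_sup_right y h').1 e)⟩
  rwa [hnorm V le_rfl ⟨v, by simp [hV, hv, hv₁, hv₂]⟩] at hx

/-- Induction does not change a function on the exterior part. -/
theorem indFun_apply_ext (hW : IsSelfNormalizingCyclic W₁ W₂) (a : ↥(W₁ ⊔ W₂) → ℂ)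
    (ha : ∀ w : ↥(W₁ ⊔ W₂), ((w : G) ∈ W₁ ∨ (w : G) ∈ W₂) → a w = 0) (w : ↥(W₁ ⊔ W₂))
    (hw₁ : (w : G) ∉ W₁) (hw₂ : (w : G) ∉ W₂) : indFun (W₁ ⊔ W₂) a w = a w := by
  classical
  haveI : Fintype ↥(W₁ ⊔ W₂) := Fintype.ofFinite _
  have hcyc := hW.2.2.2.2.1
  have hab : ∀ v : ↥(W₁ ⊔ W₂), v * w = w * v := fun v => by
    obtain ⟨g, hg⟩ := hcyc.exists_generator
    obtain ⟨i, rfl⟩ := Subgroup.mem_zpowers_iff.1 (hg v)
    obtain ⟨j, rfl⟩ := Subgroup.mem_zpowers_iff.1 (hg w)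
    rw [← zpow_add, ← zpow_add, add_comm]
  have hterm : ∀ x : G, extendByZero (W₁ ⊔ W₂) a (x⁻¹ * w * x) =
      if x ∈ W₁ ⊔ W₂ then a w else 0 := by
    intro x
    split_ifs with hx
    · have h := congrArg Subtype.val (hab ⟨x, hx⟩)
      simp only [Subgroup.coe_mul] at h
      rw [show x⁻¹ * (w : G) * x = w by rw [mul_assoc, ← h, inv_mul_cancel_left]]
      exact extendByZero_apply a w
    · by_cases hu : x⁻¹ * (w : G) * x ∈ W₁ ⊔ W₂
      · rw [extendByZero_of_mem a hu]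
        refine ha _ ?_
        by_contra hc
        push Not at hc
        exact hx (conj_mem_sup hW w.2 hw₁ hw₂ hu hc.1 hc.2)
      · exact extendByZero_not_mem a hu
  rw [indFun, Finset.sum_congr rfl fun x _ => hterm x, ← Finset.sum_filter, Finset.sum_const,
    nsmul_eq_mul, ← Fintype.card_subtype, ← Nat.card_eq_fintype_card, ← mul_assoc]
  rw [inv_mul_cancel₀ (Nat.cast_ne_zero.2 Nat.card_pos.ne'), one_mul]

end ti

end Cfsg.Agent.Char.CyclicW
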