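import Cfsg.Agent.Lib.Char.SubsectionBound

/-!
Integral combinations of roots of unity of 2-power order modulo a prime above 2: divisibility by a
power of two is read on the coefficients, and averages inherit it.
-/

open scoped ComplexConjugate

namespace Cfsg.Agent.Char.CycloTwo

open Polynomial Cfsg.Agent.Block

set_option linter.unusedSectionVars false
set_option linter.style.haveILetI false

universe u

variable {M : Ideal AlgInt} {ζ : ℂ} {j : ℕ}

theorem root_one (hζ : ζ ^ 2 ^ j = -1) : ζ ^ (2 * 2 ^ j) = 1 := by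
  rw [mul_comm, pow_mul, hζ]; norm_num

theorem zeta_integral (hζ : ζ ^ 2 ^ j = -1) : IsIntegral ℤ ζ :=
  isIntegral_of_pow_eq_one (N := 2 * 2 ^ j) (by positivity) (root_one hζ)

theorem exists_pi_pow (hζ : ζ ^ 2 ^ j = -1) :
    ∃ w : ℂ, IsIntegral ℤ w ∧ (2 : ℂ) = (1 - ζ) ^ 2 ^ j * w := by
  have hint : ∀ n : ℕ, IsIntegral ℤ (ζ ^ n) := fun n => (zeta_integral hζ).pow n
  have h2 : ∀ t ≤ j, ∃ v : ℂ, IsIntegral ℤ v ∧ (2 : ℂ) = (1 - ζ ^ 2 ^ t) * v := by
    intro t ht
    refine ⟨∑ i ∈ Finset.range (2 ^ (j - t)), (ζ ^ 2 ^ t) ^ i,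
      IsIntegral.sum _ fun i _ => (hint _).pow i, ?_⟩
    rw [mul_neg_geom_sum, ← pow_mul, ← pow_add, Nat.add_sub_cancel' ht, hζ]
    norm_num
  have h1 : ∀ t ≤ j, ∃ w : ℂ, IsIntegral ℤ w ∧ 1 - ζ ^ 2 ^ t = (1 - ζ) ^ 2 ^ t * w := by
    intro t
    induction t with
    | zero => exact fun _ => ⟨1, isIntegral_one, by simp⟩
    | succ t ih =>
      intro ht
      obtain ⟨w, hw, he⟩ := ih (Nat.le_of_succ_le ht)
      obtain ⟨v, hv, he2⟩ := h2 t (Nat.le_of_succ_le ht)
      set z := ζ ^ 2 ^ t with hz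
      refine ⟨w * w * (1 + z * v),
        (hw.mul hw).mul (isIntegral_one.add ((hint _).mul hv)), ?_⟩
      have e1 : 1 + z = (1 - z) * (1 + z * v) := by linear_combination z * he2
      rw [pow_succ 2 t, pow_mul, pow_mul (1 - ζ), ← hz]
      calc 1 - z ^ 2 = (1 - z) * (1 + z) := by ring
        _ = (1 - z) * ((1 - z) * (1 + z * v)) := by rw [← e1]
        _ = _ := by rw [he]; ring
  obtain ⟨w, hw, he⟩ := h1 j le_rfl
  exact ⟨w, hw, by rw [← he, hζ]; norm_num⟩

theorem pi_ideal (hM : IsPModular 2 M) (hζ : ζ ^ 2 ^ j = -1) : MemLocalIdeal M (1 - ζ) := by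
  have h := ideal_neg (ideal_root_sub_one hM (z := ζ) (k := j + 1)
    (by rw [pow_succ']; exact root_one hζ))
  simpa using h

theorem pi_ne_zero (hζ : ζ ^ 2 ^ j = -1) : (1 - ζ) ≠ 0 := fun h => by
  rw [← sub_eq_zero.1 h, one_pow] at hζ
  norm_num at hζ

/-- The coefficients of a combination divisible by two are even. -/
theorem coeff_even (hM : IsPModular 2 M) (hζ : ζ ^ 2 ^ j = -1) {P : ℤ[X]}
    (hP : P.natDegree < 2 ^ j) (h : MemLocalRing M (aeval ζ P / 2)) (i : ℕ) : (2 : ℤ) ∣ P.coeff i := by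
  classical
  set R := P.comp (1 - X) with hR
  have hPR : P = R.comp (1 - X) := by
    rw [hR, comp_assoc]
    simp
  suffices hall : ∀ k, (2 : ℤ) ∣ R.coeff k by
    obtain ⟨R', hR'⟩ := (C_dvd_iff_dvd_coeff 2 R).2 hall
    have : (C (2 : ℤ)) ∣ P := ⟨R'.comp (1 - X), by rw [hPR, hR']; simp⟩
    exact (C_dvd_iff_dvd_coeff 2 P).1 this i
  have hRdeg : R.natDegree < 2 ^ j := by
    refine lt_of_le_of_lt natDegree_comp_le ?_
    refine lt_of_le_of_lt (Nat.mul_le_mul_left _ (?_ : (1 - X : ℤ[X]).natDegree ≤ 1)) (by simpa using hP)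
    exact (natDegree_sub_le _ _).trans (by simp)
  by_contra hex
  push Not at hex
  set k₀ := Nat.find hex with hk
  have hodd : ¬ (2 : ℤ) ∣ R.coeff k₀ := Nat.find_spec hex
  have hk0 : k₀ < 2 ^ j := by
    by_contra hge
    exact hodd (by rw [coeff_eq_zero_of_natDegree_lt (by omega)]; exact dvd_zero _)
  obtain ⟨w, hw, h2⟩ := exists_pi_pow hζ
  set π := 1 - ζ with hπ
  have hπ0 : π ≠ 0 := pi_ne_zero hζ
  have hπi : IsIntegral ℤ π := isIntegral_one.sub (zeta_integral hζ)
  set v := π ^ (2 ^ j - k₀) * w with hv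
  have hvI : MemLocalIdeal M v := by
    refine ideal_mul_right hM ?_ (ring_of_integral hM hw)
    rw [show 2 ^ j - k₀ = (2 ^ j - k₀ - 1) + 1 by omega, pow_succ]
    exact ideal_mul_left hM (ring_of_integral hM (hπi.pow _)) (pi_ideal hM hζ)
  have h2v : (2 : ℂ) = π ^ k₀ * v := by
    rw [hv, ← mul_assoc, ← pow_add, Nat.add_sub_cancel' hk0.le, ← h2]
  have hval : aeval ζ P = ∑ k ∈ Finset.range (2 ^ j), (R.coeff k : ℂ) * π ^ k := by
    conv_lhs => rw [hPR, aeval_comp]
    rw [show aeval ζ (1 - X : ℤ[X]) = π by simp [hπ], aeval_eq_sum_range' hRdeg]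
    exact Finset.sum_congr rfl fun k _ => by simp [zsmul_eq_mul]
  set T : ℕ → ℂ := fun k => if k < k₀ then ((R.coeff k / 2 : ℤ) : ℂ) * π ^ k * v
    else (R.coeff k : ℂ) * π ^ (k - k₀) with hT
  have hsum : aeval ζ P / 2 * v = ∑ k ∈ Finset.range (2 ^ j), T k := by
    refine mul_left_cancel₀ (pow_ne_zero k₀ hπ0) ?_
    rw [← mul_assoc, mul_comm (π ^ k₀) (aeval ζ P / 2), mul_assoc, ← h2v,
      div_mul_cancel₀ _ two_ne_zero, hval, Finset.mul_sum]
    refine Finset.sum_congr rfl fun k _ => ?_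
    simp only [hT]
    split_ifs with hlt
    · have he : (2 : ℤ) ∣ R.coeff k := not_not.1 (Nat.find_min hex hlt)
      rw [show (R.coeff k : ℂ) = 2 * ((R.coeff k / 2 : ℤ) : ℂ) by
        exact_mod_cast (Int.mul_ediv_cancel' he).symm, h2v]
      ring
    · rw [mul_left_comm, ← pow_add, Nat.add_sub_cancel' (by omega : k₀ ≤ k)]
  have hrest : MemLocalIdeal M (∑ k ∈ (Finset.range (2 ^ j)).erase k₀, T k) := by
    refine ideal_sum hM fun k hk' => ?_
    obtain ⟨hne, -⟩ := Finset.mem_erase.1 hk'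
    simp only [hT]
    split_ifs with hlt
    · exact ideal_mul_left hM
        (ring_of_integral hM ((isIntegral_intCast _).mul (hπi.pow _))) hvI
    · rw [show k - k₀ = (k - k₀ - 1) + 1 by omega, pow_succ, ← mul_assoc]
      exact ideal_mul_left hM (ring_of_integral hM ((isIntegral_intCast _).mul (hπi.pow _)))
        (pi_ideal hM hζ)
  have htot : MemLocalIdeal M (∑ k ∈ Finset.range (2 ^ j), T k) :=
    hsum ▸ ideal_mul_left hM h hvI
  rw [← Finset.sum_erase_add _ _ (Finset.mem_range.2 hk0)] at htot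
  have hT0 : MemLocalIdeal M ((R.coeff k₀ : ℤ) : ℂ) := by
    have h3 := ideal_sub hM htot hrest
    simpa [hT] using h3
  exact hodd (by exact_mod_cast (ideal_intCast_iff hM _).1 hT0)

theorem exists_div (hM : IsPModular 2 M) (hζ : ζ ^ 2 ^ j = -1) {P : ℤ[X]}
    (hP : P.natDegree < 2 ^ j) :
    ∀ h : ℕ, MemLocalRing M (aeval ζ P / 2 ^ h) → ∃ P' : ℤ[X], P = C (2 ^ h) * P' ∧
      P'.natDegree < 2 ^ j := by
  intro h
  induction h with
  | zero => exact fun _ => ⟨P, by simp, hP⟩
  | succ h ih =>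
    intro hr
    obtain ⟨P', hP', hdeg⟩ := ih (by
      have := ring_mul hM hr (ring_natCast hM 2)
      rw [pow_succ, ← div_div, Nat.cast_ofNat, div_mul_cancel₀ _ (two_ne_zero (α := ℂ))] at this
      exact this)
    have hr' : MemLocalRing M (aeval ζ P' / 2) := by
      convert hr using 1
      rw [hP', map_mul, aeval_C, pow_succ]
      simp only [algebraMap_int_eq, eq_intCast, Int.cast_pow, Int.cast_ofNat]
      field_simp
    obtain ⟨P'', hP''⟩ := (C_dvd_iff_dvd_coeff 2 P').2 (coeff_even hM hζ hdeg hr')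
    refine ⟨P'', by rw [hP', hP'', pow_succ, C_mul]; ring, ?_⟩
    rwa [hP'', natDegree_C_mul (by norm_num)] at hdeg

theorem eq_zero (hM : IsPModular 2 M) (hζ : ζ ^ 2 ^ j = -1) {P : ℤ[X]}
    (hP : P.natDegree < 2 ^ j) (h0 : aeval ζ P = 0) : P = 0 := by
  ext i
  rw [coeff_zero]
  obtain ⟨P', hP', -⟩ := exists_div hM hζ hP ((P.coeff i).natAbs + 1)
    (by rw [h0, zero_div]; exact ring_zero hM)
  have hd : ((2 : ℤ) ^ ((P.coeff i).natAbs + 1)) ∣ P.coeff i := by
    conv_rhs => rw [hP', coeff_C_mul]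
    exact dvd_mul_right _ _
  by_contra hne
  have := Int.natAbs_dvd_natAbs.2 hd
  rw [Int.natAbs_pow] at this
  have h1 := Nat.le_of_dvd (Int.natAbs_pos.2 hne) this
  have h2 := Nat.lt_two_pow_self (n := (P.coeff i).natAbs + 1)
  simp only [show (2 : ℤ).natAbs = 2 from rfl] at h1
  omega

/-- A real combination has the parity of its constant coefficient. -/
theorem parity_of_real (hM : IsPModular 2 M) (hζ : ζ ^ 2 ^ j = -1) {P : ℤ[X]}
    (hP : P.natDegree < 2 ^ j) (hreal : conj (aeval ζ P) = aeval ζ P) :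
    (2 : ℤ) ∣ (∑ i ∈ Finset.range (2 ^ j), P.coeff i) - P.coeff 0 := by
  classical
  set N := 2 ^ j with hN
  have hN1 : 1 ≤ N := Nat.two_pow_pos j
  set P₂ : ℤ[X] := C (P.coeff 0) - ∑ i ∈ Finset.Ico 1 N, C (P.coeff i) * X ^ (N - i) with hP2
  have hdeg2 : P₂.natDegree < N := by
    refine lt_of_le_of_lt (?_ : P₂.natDegree ≤ N - 1) (by omega)
    refine (natDegree_sub_le _ _).trans (max_le (by simp) ?_)
    refine natDegree_sum_le_of_forall_le _ _ fun i hi => ?_
    exact (natDegree_C_mul_X_pow_le _ _).trans (by rw [Finset.mem_Ico] at hi; omega)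
  have hnorm : ζ * conj ζ = 1 := by
    have h1 : ‖ζ‖ = 1 := Complex.norm_eq_one_of_pow_eq_one (root_one hζ) (by positivity)
    rw [Complex.mul_conj, Complex.normSq_eq_norm_sq, h1]
    norm_num
  have hconj : ∀ i, i ≤ N → conj ζ ^ i = -(ζ ^ (N - i)) := by
    intro i hi
    calc conj ζ ^ i = conj ζ ^ i * (-(ζ ^ N)) := by rw [hζ, neg_neg, mul_one]
      _ = -((ζ * conj ζ) ^ i * ζ ^ (N - i)) := by
          rw [← Nat.add_sub_cancel' hi, pow_add, Nat.add_sub_cancel_left, mul_pow]; ring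
      _ = _ := by rw [hnorm, one_pow, one_mul]
  have heval : aeval ζ P₂ = aeval ζ P := by
    rw [← hreal, hP2, map_sub, map_sum, aeval_eq_sum_range' (hP : P.natDegree < N),
      Finset.range_eq_Ico, Finset.sum_eq_sum_Ico_succ_bot hN1, map_add, map_sum, sub_eq_add_neg,
      ← Finset.sum_neg_distrib]
    congr 1
    · simp
    · refine Finset.sum_congr rfl fun i hi => ?_
      rw [Finset.mem_Ico] at hi
      simp [zsmul_eq_mul, hconj i (by omega)]
  have hz : P₂ - P = 0 := eq_zero hM hζ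
    (lt_of_le_of_lt (natDegree_sub_le _ _) (max_lt hdeg2 hP)) (by rw [map_sub, heval, sub_self])
  have hanti : ∀ i ∈ Finset.Ico 1 N, P.coeff i + P.coeff (N - i) = 0 := by
    intro i hi
    have h1 := congrArg (fun f : ℤ[X] => f.coeff i) (sub_eq_zero.1 hz)
    simp only [hP2, coeff_sub, finsetSum_coeff, coeff_C_mul, coeff_X_pow] at h1
    rw [Finset.mem_Ico] at hi
    rw [coeff_C, if_neg (by omega : i ≠ 0), Finset.sum_eq_single (N - i)] at h1
    · rw [if_pos (by omega)] at h1
      linarith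
    · intro b hb hne
      rw [Finset.mem_Ico] at hb
      rw [if_neg (by omega), mul_zero]
    · intro hn
      exact absurd (Finset.mem_Ico.2 ⟨by omega, by omega⟩) hn
  rw [Finset.range_eq_Ico, Finset.sum_eq_sum_Ico_succ_bot hN1, add_sub_cancel_left,
    ← Nat.cast_ofNat (n := 2), ← ZMod.intCast_zmod_eq_zero_iff_dvd, Int.cast_sum]
  refine Finset.sum_involution (fun i _ => N - i) (fun i hi => ?_) (fun i hi h e => h ?_)
    (fun i hi => ?_) (fun i hi => ?_)
  · rw [← Int.cast_add, hanti i hi, Int.cast_zero]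
  · have h1 := hanti i hi
    rw [e] at h1
    rw [show P.coeff i = 0 by omega, Int.cast_zero]
  · rw [Finset.mem_Ico] at hi ⊢; omega
  · rw [Finset.mem_Ico] at hi; omega

/-- The average over the generators of a real generalized character divisible by a power of two. -/
theorem exists_average {Q : Type u} [Group Q] [Fintype Q] [DecidableEq Q] (hM : IsPModular 2 M)
    {y : Q} (hy : Subgroup.zpowers y = ⊤) {k : ℕ} (hk : orderOf y = 2 ^ k) {θ : Q → ℂ}
    (hθ : IsGeneralizedCharacter Q θ) (hreal : conj (θ y) = θ y) {h : ℕ}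
    (hdiv : MemLocalIdeal M (θ y / 2 ^ h)) :
    ∃ c : ℤ, (2 : ℤ) ^ (h + 1) ∣ c ∧
      ∑ u ∈ Finset.univ.filter (fun u : Q => orderOf u = Nat.card Q), θ u =
        ((Finset.univ.filter (fun u : Q => orderOf u = Nat.card Q)).card : ℂ) * c := by
  classical
  have hcard : Nat.card Q = 2 ^ k := by
    rw [← hk, ← Nat.card_zpowers, hy, Subgroup.card_top]
  rcases k with _ | j
  · have hy1 : y = 1 := orderOf_eq_one_iff.1 (by simpa using hk)
    have hone : ∀ u : Q, u = 1 := fun u => by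
      obtain ⟨m, rfl⟩ := Subgroup.mem_zpowers_iff.1 (hy ▸ Subgroup.mem_top u : u ∈ Subgroup.zpowers y)
      simp [hy1]
    obtain ⟨α, β, hα, hβ, hαβ⟩ := hθ
    obtain ⟨m₁, hm₁⟩ := IsChar.one_eq_nat hα
    obtain ⟨m₂, hm₂⟩ := IsChar.one_eq_nat hβ
    set n : ℤ := (m₁ : ℤ) - m₂ with hn
    have h1 : θ 1 = n := by rw [hαβ, Pi.sub_apply, hm₁, hm₂, hn]; push_cast; ring
    rw [hy1, h1] at hdiv
    refine ⟨n, ?_, ?_⟩
    · obtain ⟨c, hc⟩ : (2 : ℤ) ^ h ∣ n := by
        by_contra hnd
        have hr : MemLocalRing M ((n : ℂ) / 2 ^ h) := ring_of_ideal hdiv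
        obtain ⟨P', hP', -⟩ := exists_div (ζ := (-1 : ℂ)) (j := 0) hM (by norm_num)
          (P := C n) (by simp) h (by simpa using hr)
        exact hnd ⟨P'.coeff 0, by
          have := congrArg (fun f : ℤ[X] => f.coeff 0) hP'
          rw [coeff_C_mul, coeff_C_zero] at this
          exact this⟩
      have hc' : MemLocalIdeal M ((c : ℤ) : ℂ) := by
        convert hdiv using 1
        rw [hc]
        push_cast
        field_simp
      obtain ⟨c', hc2⟩ := (ideal_intCast_iff hM c).1 hc'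
      exact ⟨c', by rw [hc, hc2]; push_cast; ring⟩
    · have hs : Finset.univ.filter (fun u : Q => orderOf u = Nat.card Q) = {1} := by
        ext u
        simp only [Finset.mem_filter, Finset.mem_univ, true_and, Finset.mem_singleton, hone u,
          orderOf_one, hcard, pow_zero]
      rw [hs]
      simp [h1]
  set N := 2 ^ j with hN
  have hN0 : 0 < N := Nat.two_pow_pos j
  have h2N : Nat.card Q = 2 * N := by rw [hcard, hN, pow_succ']
  haveI : NeZero (2 * N) := ⟨by omega⟩
  set ζ := Complex.exp (2 * Real.pi * Complex.I / ((2 * N : ℕ) : ℂ)) with hζdef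
  have hprim : IsPrimitiveRoot ζ (2 * N) := Complex.isPrimitiveRoot_exp _ (NeZero.ne _)
  have hζN : ζ ^ N = -1 := (hprim.pow (by omega) (mul_comm 2 N)).eq_neg_one_of_two_right
  obtain ⟨a, -, hexp⟩ := IsGenChar.exists_decomp hθ
  letI : CommGroup Q :=
    { (inferInstance : Group Q) with
      mul_comm := fun u v => by
        obtain ⟨m, rfl⟩ := Subgroup.mem_zpowers_iff.1 (hy ▸ Subgroup.mem_top u : u ∈ Subgroup.zpowers y)
        obtain ⟨n, rfl⟩ := Subgroup.mem_zpowers_iff.1 (hy ▸ Subgroup.mem_top v : v ∈ Subgroup.zpowers y)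
        rw [← zpow_add, ← zpow_add, add_comm] }
  have hlin : ∀ φ : IrrCharacter Q, (φ : Q → ℂ) 1 = 1 := fun φ => by
    rw [charDeg_spec', (comm_iff_linear Q).1 mul_comm φ, Nat.cast_one]
  have hpowφ : ∀ (φ : IrrCharacter Q) (n : ℕ), (φ : Q → ℂ) (y ^ n) = (φ : Q → ℂ) y ^ n := by
    intro φ n
    induction n with
    | zero => simp [hlin]
    | succ n ih =>
      have hg : y ∈ Subgroup.center Q := Subgroup.mem_center_iff.2 fun t => mul_comm t y
      have h2 := Spec.centralChar_of_center (η := φ) hg 1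
      rw [mul_one, hlin, mul_one] at h2
      rw [pow_succ', Spec.centralChar_of_center hg, ← h2, ih, pow_succ']
  have hroot : ∀ φ : IrrCharacter Q, ∃ i < 2 * N, ζ ^ i = (φ : Q → ℂ) y := fun φ =>
    hprim.eq_pow_of_pow_eq_one (by
      rw [← hpowφ, ← h2N, hcard, ← hk, pow_orderOf_eq_one, hlin])
  choose e he heq using hroot
  let sg : IrrCharacter Q → ℤ := fun φ => if e φ < N then 1 else -1
  let P : ℤ[X] := ∑ φ : IrrCharacter Q, C (a φ * sg φ) * X ^ (e φ % N)
  have hPdeg : P.natDegree < N := by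
    refine lt_of_le_of_lt (natDegree_sum_le_of_forall_le _ _ (n := N - 1) fun φ _ => ?_) (by omega)
    exact (natDegree_C_mul_X_pow_le _ _).trans (by have := Nat.mod_lt (e φ) hN0; omega)
  have hval : ∀ m : ℕ, Odd m → θ (y ^ m) = aeval (ζ ^ m) P := by
    intro m hm
    rw [hexp]
    simp only [Finset.sum_apply, Pi.smul_apply, smul_eq_mul, P, map_sum, map_mul, map_pow, aeval_X,
      aeval_C]
    simp only [algebraMap_int_eq, eq_intCast]
    refine Finset.sum_congr rfl fun φ _ => ?_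
    rw [hpowφ, ← heq φ]
    simp only [sg]
    split_ifs with hlt
    · rw [Nat.mod_eq_of_lt hlt, Int.cast_one, mul_one, ← pow_mul, ← pow_mul, mul_comm (e φ) m]
    · have hmod : e φ = N + e φ % N := by
        have h1 := Nat.mod_add_div (e φ) N
        have h2 : e φ / N = 1 := Nat.div_eq_of_lt_le (by omega) (by have := he φ; omega)
        rw [h2, mul_one] at h1
        omega
      conv_lhs => rw [hmod, pow_add, hζN, mul_pow, hm.neg_one_pow]
      push_cast
      rw [← pow_mul, ← pow_mul, mul_comm (e φ % N) m]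
      ring
  have hy' : θ y = aeval ζ P := by simpa using hval 1 odd_one
  have hr : MemLocalRing M (aeval ζ P / 2 ^ h) := hy' ▸ ring_of_ideal hdiv
  obtain ⟨P', hP', hdeg'⟩ := exists_div hM hζN hPdeg h hr
  have heval' : aeval ζ P' = θ y / 2 ^ h := by
    rw [hy', hP', map_mul, aeval_C]
    simp
  have hreal' : conj (aeval ζ P') = aeval ζ P' := by
    rw [heval', map_div₀, hreal, map_pow, map_ofNat]
  have hpar := parity_of_real hM hζN hdeg' hreal'
  have heven : (2 : ℤ) ∣ ∑ i ∈ Finset.range N, P'.coeff i := by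
    have hI : MemLocalIdeal M (((∑ i ∈ Finset.range N, P'.coeff i : ℤ)) : ℂ) := by
      have h1 : MemLocalIdeal M (aeval ζ P' - ((∑ i ∈ Finset.range N, P'.coeff i : ℤ) : ℂ)) := by
        rw [aeval_eq_sum_range' (show P'.natDegree < N from hdeg'), Int.cast_sum,
          ← Finset.sum_sub_distrib]
        refine ideal_sum hM fun i _ => ?_
        rw [zsmul_eq_mul, show (P'.coeff i : ℂ) * ζ ^ i - (P'.coeff i : ℂ) =
          (P'.coeff i : ℂ) * ((∑ m ∈ Finset.range i, ζ ^ m) * (-1) * (1 - ζ)) by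
            have := geom_sum_mul ζ i
            linear_combination -(P'.coeff i : ℂ) * this]
        exact ideal_mul_left hM (ring_of_integral hM (isIntegral_intCast _))
          (ideal_mul_left hM (ring_of_integral hM ((IsIntegral.sum _
            fun m _ => (zeta_integral hζN).pow m).mul isIntegral_one.neg)) (pi_ideal hM hζN))
      rw [heval'] at h1
      simpa using ideal_sub hM hdiv h1
    exact_mod_cast (ideal_intCast_iff hM _).1 hI
  have hc0 : (2 : ℤ) ∣ P'.coeff 0 := by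
    rw [← hN] at hpar
    omega
  refine ⟨P.coeff 0, ?_, ?_⟩
  · rw [hP', coeff_C_mul, pow_succ]
    exact mul_dvd_mul_left _ hc0
  set s := Finset.univ.filter (fun u : Q => orderOf u = Nat.card Q) with hs
  have hinj : ∀ m₁ < N, ∀ m₂ < N, y ^ (2 * m₁ + 1) = y ^ (2 * m₂ + 1) → m₁ = m₂ := by
    intro m₁ h₁ m₂ h₂ hEq
    have := pow_injOn_Iio_orderOf (x := y) (Set.mem_Iio.2 (by rw [hk, pow_succ']; omega))
      (Set.mem_Iio.2 (by rw [hk, pow_succ']; omega)) hEq
    omega
  have hsimg : s = (Finset.range N).image (fun m => y ^ (2 * m + 1)) := by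
    ext u
    simp only [hs, Finset.mem_filter, Finset.mem_univ, true_and, Finset.mem_image, Finset.mem_range]
    constructor
    · intro hu
      obtain ⟨m, rfl⟩ := (isOfFinOrder_of_finite y).mem_powers_iff_mem_zpowers.2
        (hy ▸ Subgroup.mem_top u : u ∈ Subgroup.zpowers y)
      have hpm : y ^ m = y ^ (m % (2 * N)) := by
        rw [← h2N, hcard, ← hk, pow_mod_orderOf]
      rw [orderOf_pow, hk, hcard] at hu
      have hmo : Odd m := by
        rw [← Nat.not_even_iff_odd]
        rintro ⟨t, rfl⟩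
        have h2 : 2 ∣ Nat.gcd (2 ^ (j + 1)) (t + t) :=
          Nat.dvd_gcd (dvd_pow_self 2 j.succ_ne_zero) ⟨t, by ring⟩
        rw [Nat.div_eq_self] at hu
        rcases hu with hu | hu
        · exact absurd hu (Nat.two_pow_pos _).ne'
        · rw [hu] at h2; exact absurd h2 (by norm_num)
      refine ⟨m % (2 * N) / 2, by have := Nat.mod_lt m (show 2 * N > 0 by omega); omega, ?_⟩
      show y ^ _ = y ^ m
      rw [hpm]
      congr 1
      obtain ⟨t, rfl⟩ := hmo
      have h3 := Nat.mod_add_div (2 * t + 1) (2 * N)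
      have : (2 * t + 1) % (2 * N) % 2 = 1 := by
        rw [Nat.mod_mul_right_mod]; omega
      omega
    · rintro ⟨m, -, rfl⟩
      rw [orderOf_pow, hk, hcard, Nat.Coprime.gcd_eq_one, Nat.div_one]
      exact Nat.Coprime.pow_left _ (Nat.coprime_two_left.2 ⟨m, rfl⟩)
  have hscard : s.card = N := by
    rw [hsimg, Finset.card_image_of_injOn fun m₁ h₁ m₂ h₂ => hinj m₁ (Finset.mem_range.1 h₁) m₂
      (Finset.mem_range.1 h₂), Finset.card_range]
  rw [hscard, hsimg, Finset.sum_image fun m₁ h₁ m₂ h₂ => hinj m₁ (Finset.mem_range.1 h₁) m₂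
      (Finset.mem_range.1 h₂)]
  calc ∑ m ∈ Finset.range N, θ (y ^ (2 * m + 1))
      = ∑ i ∈ Finset.range N, (P.coeff i : ℂ) *
          ∑ m ∈ Finset.range N, (ζ ^ i) ^ (2 * m + 1) := by
        rw [Finset.sum_congr rfl fun m _ => hval (2 * m + 1) ⟨m, rfl⟩]
        simp only [aeval_eq_sum_range' hPdeg, zsmul_eq_mul, Finset.mul_sum, ← pow_mul]
        rw [Finset.sum_comm]
        exact Finset.sum_congr rfl fun i _ => Finset.sum_congr rfl fun m _ => by rw [mul_comm i]
    _ = _ := by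
        rw [Finset.sum_eq_single 0]
        · simp; ring
        · intro i hi hne
          rw [Finset.mem_range] at hi
          have h1 : ζ ^ (2 * i) ≠ 1 := hprim.pow_ne_one_of_pos_of_lt (by omega) (by omega)
          have h2 : ∑ m ∈ Finset.range N, (ζ ^ (2 * i)) ^ m = 0 := by
            rw [geom_sum_eq h1, ← pow_mul, show 2 * i * N = (2 * N) * i by ring, pow_mul,
              hprim.pow_eq_one, one_pow, sub_self, zero_div]
          have h3 : ∑ m ∈ Finset.range N, (ζ ^ i) ^ (2 * m + 1) =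
              ζ ^ i * ∑ m ∈ Finset.range N, (ζ ^ (2 * i)) ^ m := by
            rw [Finset.mul_sum]
            exact Finset.sum_congr rfl fun m _ => by ring
          rw [h3, h2, mul_zero, mul_zero]
        · exact fun hn => absurd (Finset.mem_range.2 hN0) hn

end Cfsg.Agent.Char.CycloTwo
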