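import Cfsg.Agent.Lib.Char.Induce
import Cfsg.Prelude.Def_OddOrderChar

/-!
The Dade map: well-definedness, the averaging formula, adjointness.
-/

namespace Cfsg.Agent.Char.Dade

open scoped ComplexConjugate
open Cfsg

universe u

variable {G : Type u} [Group G] {A : Set G} {L : Subgroup G} {H : G → Subgroup G}

theorem orderOf_conj (y u : G) : orderOf (y * u * y⁻¹) = orderOf u := by
  simpa using orderOf_injective (MulAut.conj y).toMonoidHom (MulEquiv.injective _) u

theorem orderOf_dvd_card {K : Subgroup G} {u : G} (hu : u ∈ K) : orderOf u ∣ Nat.card K := by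
  rw [← Subgroup.orderOf_mk u hu]
  exact orderOf_dvd_natCard _

theorem exists_decomp (hD : DadeHypothesis A L H) {a c : G} (ha : a ∈ A)
    (hc : c ∈ Subgroup.centralizer ({a} : Set G)) :
    ∃ l ∈ L ⊓ Subgroup.centralizer ({a} : Set G), ∃ u ∈ H a, c = l * u := by
  set C := L ⊓ Subgroup.centralizer ({a} : Set G) with hCdef
  have hnorm : C ≤ Subgroup.normalizer (H a : Set G) := by
    intro x hx
    rw [Subgroup.mem_normalizer_iff]
    intro u
    refine ⟨hD.conj_mem_H a ha x hx.2 u, fun hu => ?_⟩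
    have := hD.conj_mem_H a ha x⁻¹ (Subgroup.inv_mem _ hx.2) _ hu
    simpa [mul_assoc] using this
  have hc' : c ∈ C ⊔ H a := by
    rw [sup_comm]; exact (hD.sup_eq a ha).symm ▸ hc
  rw [← SetLike.mem_coe, Subgroup.coe_mul_of_left_le_normalizer_right C (H a) hnorm] at hc'
  obtain ⟨l, hl, u, hu, rfl⟩ := hc'
  exact ⟨l, hl, u, hu, rfl⟩

theorem mem_H_of_coprime [Finite G] (hD : DadeHypothesis A L H) {a k : G} (ha : a ∈ A)
    (hk : k ∈ Subgroup.centralizer ({a} : Set G))
    (hcop : Nat.Coprime (orderOf k) (Nat.card ↥(L ⊓ Subgroup.centralizer ({a} : Set G)))) :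
    k ∈ H a := by
  obtain ⟨c, hc, u, hu, rfl⟩ := exists_decomp hD ha hk
  have hpow : ∀ n : ℕ, (c ^ n)⁻¹ * (c * u) ^ n ∈ H a := by
    intro n
    induction n with
    | zero => simp
    | succ n ih =>
      have := (H a).mul_mem (hD.conj_mem_H a ha c⁻¹ (Subgroup.inv_mem _ hc.2) _ ih) hu
      convert this using 1
      rw [pow_succ, pow_succ]
      group
  have h1 := hpow (orderOf (c * u))
  rw [pow_orderOf_eq_one, mul_one] at h1
  have h2 : c ^ orderOf (c * u) = 1 := by
    have h3 : c ^ orderOf (c * u) ∈ H a ⊓ (L ⊓ Subgroup.centralizer ({a} : Set G)) :=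
      ⟨by simpa using (H a).inv_mem h1, Subgroup.pow_mem _ hc _⟩
    rwa [hD.inf_eq_bot a ha, Subgroup.mem_bot] at h3
  have h5 : orderOf c ∣ 1 :=
    hcop.gcd_eq_one ▸ Nat.dvd_gcd (orderOf_dvd_of_pow_eq_one h2) (orderOf_dvd_card hc)
  have : c = 1 := orderOf_eq_one_iff.mp (Nat.dvd_one.mp h5)
  simpa [this] using hu

theorem conj_mem_H [Finite G] (hD : DadeHypothesis A L H) {a x u : G} (ha : a ∈ A) (hx : x ∈ L)
    (hu : u ∈ H a) : x * u * x⁻¹ ∈ H (x * a * x⁻¹) := by
  refine mem_H_of_coprime hD (hD.conj_mem x hx a ha) ?_ ?_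
  · rw [Subgroup.mem_centralizer_singleton_iff]
    have h := Subgroup.mem_centralizer_singleton_iff.mp (hD.le_centralizer a ha hu)
    calc x * u * x⁻¹ * (x * a * x⁻¹) = x * (u * a) * x⁻¹ := by group
      _ = x * (a * u) * x⁻¹ := by rw [h]
      _ = _ := by group
  · rw [orderOf_conj]
    exact (hD.coprime a ha _ (hD.conj_mem x hx a ha)).coprime_dvd_left (orderOf_dvd_card hu)

theorem card_H_conj [Finite G] (hD : DadeHypothesis A L H) {a x : G} (ha : a ∈ A) (hx : x ∈ L) :
    Nat.card (H (x * a * x⁻¹)) = Nat.card (H a) :=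
  Nat.card_congr
    { toFun := fun v => ⟨x⁻¹ * v * x, by
        have := conj_mem_H hD (hD.conj_mem x hx a ha) (L.inv_mem hx) v.2
        simpa [mul_assoc] using this⟩
      invFun := fun u => ⟨x * u * x⁻¹, conj_mem_H hD ha hx u.2⟩
      left_inv := fun v => Subtype.ext (by simp [mul_assoc])
      right_inv := fun u => Subtype.ext (by simp [mul_assoc]) }

theorem conj_eq_of_coset [Finite G] (hD : DadeHypothesis A L H) {a b u v g : G} (ha : a ∈ A)
    (hb : b ∈ A) (hu : u ∈ H a) (hv : v ∈ H b) (e : g * (a * u) * g⁻¹ = b * v) :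
    g * a * g⁻¹ = b := by
  have haL : a ∈ L ⊓ Subgroup.centralizer ({a} : Set G) :=
    ⟨hD.subset ha, Subgroup.mem_centralizer_singleton_iff.mpr rfl⟩
  have hbL : b ∈ L ⊓ Subgroup.centralizer ({b} : Set G) :=
    ⟨hD.subset hb, Subgroup.mem_centralizer_singleton_iff.mpr rfl⟩
  have hcop : Nat.Coprime (Nat.card (H a) * Nat.card (H b))
      (Nat.card ↥(L ⊓ Subgroup.centralizer ({a} : Set G)) *
        Nat.card ↥(L ⊓ Subgroup.centralizer ({b} : Set G))) :=
    Nat.Coprime.mul_left (Nat.Coprime.mul_right (hD.coprime a ha a ha) (hD.coprime a ha b hb))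
      (Nat.Coprime.mul_right (hD.coprime b hb a ha) (hD.coprime b hb b hb))
  obtain ⟨n, hn0, hn1⟩ := Nat.chineseRemainder hcop 0 1
  have key : ∀ c w : G, c ∈ A → w ∈ H c → orderOf w ∣ Nat.card (H a) * Nat.card (H b) →
      orderOf c ∣ Nat.card ↥(L ⊓ Subgroup.centralizer ({a} : Set G)) *
        Nat.card ↥(L ⊓ Subgroup.centralizer ({b} : Set G)) → (c * w) ^ n = c := by
    intro c w hc hw h1 h2
    have hcomm : Commute c w :=
      (Subgroup.mem_centralizer_singleton_iff.mp (hD.le_centralizer c hc hw)).symm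
    rw [hcomm.mul_pow, orderOf_dvd_iff_pow_eq_one.mp (h1.trans (Nat.modEq_zero_iff_dvd.mp hn0)),
      mul_one]
    conv_rhs => rw [← pow_one c]
    exact pow_eq_pow_iff_modEq.mpr (hn1.of_dvd h2)
  have h := congrArg (· ^ n) e
  simp only [conj_pow] at h
  rw [key a u ha hu ((orderOf_dvd_card hu).mul_right _) ((orderOf_dvd_card haL).mul_right _),
    key b v hb hv ((orderOf_dvd_card hv).mul_left _) ((orderOf_dvd_card hbL).mul_left _)] at h
  exact h

theorem fusion_coset [Finite G] (hD : DadeHypothesis A L H) {a b u v g : G} (ha : a ∈ A)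
    (hb : b ∈ A) (hu : u ∈ H a) (hv : v ∈ H b) (e : g * (a * u) * g⁻¹ = b * v) :
    ∃ x ∈ L, x * a * x⁻¹ = b := by
  have h := conj_eq_of_coset hD ha hb hu hv e
  rw [← h]
  exact hD.fusion a ha g (h ▸ hb)

theorem eq_of_coset [Finite G] (hD : DadeHypothesis A L H) {a b u v : G} (ha : a ∈ A)
    (hb : b ∈ A) (hu : u ∈ H a) (hv : v ∈ H b) (e : a * u = b * v) : a = b := by
  simpa using conj_eq_of_coset hD (g := 1) ha hb hu hv (by simpa using e)

/-- The support of the Dade map. -/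
def supp (A : Set G) (H : G → Subgroup G) : Set G :=
  {g | ∃ a ∈ A, ∃ u ∈ H a, ∃ x : G, x * g * x⁻¹ = a * u}

theorem mem_supp_conj {g : G} (hg : g ∈ supp A H) (y : G) : y * g * y⁻¹ ∈ supp A H := by
  obtain ⟨a, ha, u, hu, x, hx⟩ := hg
  exact ⟨a, ha, u, hu, x * y⁻¹, by rw [← hx]; group⟩

theorem mem_supp_coset {a u : G} (ha : a ∈ A) (hu : u ∈ H a) : a * u ∈ supp A H :=
  ⟨a, ha, u, hu, 1, by simp⟩

theorem dade_apply_of [Finite G] (hD : DadeHypothesis A L H) {α : L → ℂ}
    (hα : IsClassFunction L α) {g x u : G} {a : L} (ha : (a : G) ∈ A) (hu : u ∈ H (a : G))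
    (e : x * g * x⁻¹ = (a : G) * u) : dadeIsometry A L H α g = α a := by
  have hex : ∃ a : L, (a : G) ∈ A ∧ ∃ x : G, ∃ u ∈ H (a : G), x * g * x⁻¹ = (a : G) * u :=
    ⟨a, ha, x, u, hu, e⟩
  simp only [dadeIsometry, dif_pos hex]
  obtain ⟨hb, y, v, hv, ey⟩ := Classical.choose_spec hex
  obtain ⟨l, hl, hlab⟩ := fusion_coset hD ha hb hu hv (g := y * x⁻¹)
    (by rw [← e, ← ey]; group)
  have h := hα a ⟨l, hl⟩
  rw [show (⟨l, hl⟩ : L) * a * (⟨l, hl⟩ : L)⁻¹ = Classical.choose hex from Subtype.ext hlab] at h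
  exact h

theorem dade_apply_coset [Finite G] (hD : DadeHypothesis A L H) {α : L → ℂ}
    (hα : IsClassFunction L α) {a u : G} (ha : a ∈ A) (hu : u ∈ H a) :
    dadeIsometry A L H α (a * u) = extendByZero L α a := by
  rw [extendByZero_of_mem _ (hD.subset ha)]
  exact dade_apply_of hD hα (a := ⟨a, hD.subset ha⟩) ha hu (x := 1) (by simp)

theorem dade_eq_zero {α : L → ℂ} {g : G} (hg : g ∉ supp A H) : dadeIsometry A L H α g = 0 := by
  rw [dadeIsometry, dif_neg]
  rintro ⟨a, ha, x, u, hu, e⟩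
  exact hg ⟨a, ha, u, hu, x, e⟩

theorem dade_classFun [Finite G] (hD : DadeHypothesis A L H) {α : L → ℂ}
    (hα : IsClassFunction L α) : IsClassFunction G (dadeIsometry A L H α) := by
  intro g y
  by_cases hg : g ∈ supp A H
  · obtain ⟨a, ha, u, hu, x, hx⟩ := hg
    rw [dade_apply_of hD hα (a := ⟨a, hD.subset ha⟩) ha hu hx,
      dade_apply_of hD hα (a := ⟨a, hD.subset ha⟩) ha hu (x := x * y⁻¹)
        (by rw [← hx]; group)]
  · rw [dade_eq_zero hg, dade_eq_zero fun h => hg ?_]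
    simpa [mul_assoc] using mem_supp_conj h y⁻¹

theorem card_transporter [Finite G] (hD : DadeHypothesis A L H) {a : G} (ha : a ∈ A) :
    Nat.card {y : G // y * a * y⁻¹ ∈ A} = Nat.card L * Nat.card (H a) := by
  rw [← Nat.card_prod]
  refine (Nat.card_congr (Equiv.ofBijective
    (fun p : L × H a => (⟨(p.1 : G) * p.2, ?_⟩ : {y : G // y * a * y⁻¹ ∈ A})) ⟨?_, ?_⟩)).symm
  · have h := Subgroup.mem_centralizer_singleton_iff.mp (hD.le_centralizer a ha p.2.2)
    convert hD.conj_mem p.1 p.1.2 a ha using 1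
    calc (p.1 : G) * p.2 * a * ((p.1 : G) * p.2)⁻¹
        = (p.1 : G) * ((p.2 : G) * a) * (p.2 : G)⁻¹ * (p.1 : G)⁻¹ := by group
      _ = _ := by rw [h]; group
  · rintro ⟨l, u⟩ ⟨l', u'⟩ e
    have e' : (l : G) * u = (l' : G) * u' := congrArg Subtype.val e
    have e2 : (u' : G) * (u : G)⁻¹ = (l' : G)⁻¹ * (l : G) := by
      calc (u' : G) * (u : G)⁻¹ = (l' : G)⁻¹ * ((l' : G) * u') * (u : G)⁻¹ := by group
        _ = _ := by rw [← e']; group
    have hmem : (u' : G) * (u : G)⁻¹ ∈ H a ⊓ (L ⊓ Subgroup.centralizer ({a} : Set G)) :=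
      ⟨(H a).mul_mem u'.2 ((H a).inv_mem u.2),
        e2 ▸ L.mul_mem (L.inv_mem l'.2) l.2,
        Subgroup.mul_mem _ (hD.le_centralizer a ha u'.2)
          (Subgroup.inv_mem _ (hD.le_centralizer a ha u.2))⟩
    rw [hD.inf_eq_bot a ha, Subgroup.mem_bot, mul_inv_eq_one] at hmem
    rw [hmem] at e'
    exact Prod.ext (Subtype.ext (mul_right_cancel e')) (Subtype.ext hmem.symm)
  · rintro ⟨y, hy⟩
    obtain ⟨l, hl, hla⟩ := hD.fusion a ha y hy
    have hc : l⁻¹ * y ∈ Subgroup.centralizer ({a} : Set G) := by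
      rw [Subgroup.mem_centralizer_singleton_iff]
      calc l⁻¹ * y * a = l⁻¹ * (y * a * y⁻¹) * y := by group
        _ = _ := by rw [← hla]; group
    obtain ⟨c, hc', u, hu, e⟩ := exists_decomp hD ha hc
    refine ⟨(⟨l * c, L.mul_mem hl hc'.1⟩, ⟨u, hu⟩), Subtype.ext ?_⟩
    show l * c * u = y
    rw [mul_assoc, ← e, mul_inv_cancel_left]

open Classical in
/-- Averaging of a class function supported on the Dade support. -/
theorem average [Fintype G] (hD : DadeHypothesis A L H) {K : Type*} [Field K] [CharZero K]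
    (Φ : G → K) (hΦ : ∀ g y : G, Φ (y * g * y⁻¹) = Φ g) (h0 : ∀ g, g ∉ supp A H → Φ g = 0) :
    (Nat.card G : K)⁻¹ * ∑ g : G, Φ g =
      (Nat.card L : K)⁻¹ * ∑ a ∈ Finset.univ.filter (fun a : G => a ∈ A),
        (Nat.card (H a) : K)⁻¹ * ∑ u ∈ Finset.univ.filter (fun u : G => u ∈ H a), Φ (a * u) := by
  let As : Finset G := Finset.univ.filter fun a => a ∈ A
  let E : G → K := fun z => ∑ a ∈ As, if a⁻¹ * z ∈ H a then (Nat.card (H a) : K)⁻¹ else 0
  have hR : (∑ a ∈ As, (Nat.card (H a) : K)⁻¹ *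
      ∑ u ∈ Finset.univ.filter (fun u : G => u ∈ H a), Φ (a * u)) = ∑ z : G, E z * Φ z := by
    simp only [E, Finset.sum_mul, ite_mul, zero_mul]
    rw [Finset.sum_comm]
    refine Finset.sum_congr rfl fun a _ => ?_
    rw [Finset.mul_sum, Finset.sum_filter]
    exact Fintype.sum_equiv (Equiv.mulLeft a) _ _ fun u => by simp
  have hE : ∀ b v, b ∈ A → v ∈ H b → E (b * v) = (Nat.card (H b) : K)⁻¹ := by
    intro b v hb hv
    simp only [E]
    rw [Finset.sum_eq_single b]
    · rw [if_pos (by simpa using hv)]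
    · intro c hc hcb
      rw [if_neg fun h => hcb ?_]
      exact eq_of_coset hD (by simpa [As] using hc) hb h hv (by group)
    · intro h; exact absurd (by simpa [As] using hb) h
  have hcount : ∀ z ∈ supp A H, ∑ y : G, E (y * z * y⁻¹) = (Nat.card L : K) := by
    rintro z ⟨a, ha, u, hu, x, hx⟩
    have : ∑ y : G, E (y * z * y⁻¹) = ∑ y : G, E (y * (a * u) * y⁻¹) :=
      Fintype.sum_equiv (Equiv.mulRight x⁻¹) _ _ fun y => by
        simp only [Equiv.coe_mulRight, ← hx]; group
    rw [this]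
    have hval : ∀ y : G, E (y * (a * u) * y⁻¹) =
        if y * a * y⁻¹ ∈ A then (Nat.card (H a) : K)⁻¹ else 0 := by
      intro y
      split_ifs with hy
      · obtain ⟨l, hl, hla⟩ := hD.fusion a ha y hy
        have hc : l⁻¹ * y ∈ Subgroup.centralizer ({a} : Set G) := by
          rw [Subgroup.mem_centralizer_singleton_iff]
          calc l⁻¹ * y * a = l⁻¹ * (y * a * y⁻¹) * y := by group
            _ = _ := by rw [← hla]; group
        have hyu : y * u * y⁻¹ ∈ H (y * a * y⁻¹) := by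
          have h := conj_mem_H hD ha hl (hD.conj_mem_H a ha _ hc u hu)
          rw [hla] at h
          convert h using 1
          group
        rw [show y * (a * u) * y⁻¹ = y * a * y⁻¹ * (y * u * y⁻¹) by group, hE _ _ hy hyu,
          ← hla, card_H_conj hD ha hl]
      · refine Finset.sum_eq_zero fun b hb => ?_
        rw [if_neg fun h => hy ?_]
        have hb' : b ∈ A := by simpa [As] using hb
        rw [conj_eq_of_coset hD ha hb' hu h (g := y) (by group)]
        exact hb'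
    simp only [hval]
    rw [← Finset.sum_filter, Finset.sum_const, nsmul_eq_mul, ← Fintype.card_subtype,
      ← Nat.card_eq_fintype_card, card_transporter hD ha, Nat.cast_mul, mul_assoc,
      mul_inv_cancel₀ (Nat.cast_ne_zero.mpr Nat.card_pos.ne'), mul_one]
  have hmain : (Nat.card G : K) * ∑ z : G, E z * Φ z = (Nat.card L : K) * ∑ z : G, Φ z := by
    calc (Nat.card G : K) * ∑ z : G, E z * Φ z = ∑ _y : G, ∑ z : G, E z * Φ z := by
          rw [Finset.sum_const, Finset.card_univ, nsmul_eq_mul, Nat.card_eq_fintype_card]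
      _ = ∑ y : G, ∑ z : G, E (y * z * y⁻¹) * Φ z := Finset.sum_congr rfl fun y _ =>
          (Fintype.sum_equiv (MulAut.conj y).toEquiv _ _ fun z => by
            simp [MulAut.conj_apply, hΦ]).symm
      _ = ∑ z : G, (∑ y : G, E (y * z * y⁻¹)) * Φ z := by
          rw [Finset.sum_comm]; simp only [Finset.sum_mul]
      _ = (Nat.card L : K) * ∑ z : G, Φ z := by
          rw [Finset.mul_sum]
          refine Finset.sum_congr rfl fun z _ => ?_
          by_cases hz : z ∈ supp A H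
          · rw [hcount z hz]
          · rw [h0 z hz, mul_zero, mul_zero]
  rw [hR]
  have hG : (Nat.card G : K) ≠ 0 := Nat.cast_ne_zero.mpr Nat.card_pos.ne'
  have hL : (Nat.card L : K) ≠ 0 := Nat.cast_ne_zero.mpr Nat.card_pos.ne'
  field_simp
  linear_combination -hmain

open Classical in
theorem sum_subgroup_extend [Fintype G] [Fintype L] (hD : DadeHypothesis A L H) {K : Type*}
    [AddCommMonoid K] (f : G → K) :
    ∑ a ∈ Finset.univ.filter (fun a : G => a ∈ A), f a =
      ∑ a : L, if (a : G) ∈ A then f a else 0 := by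
  rw [← Finset.sum_filter]
  exact Finset.sum_bij (fun a ha => (⟨a, hD.subset (by simpa using ha)⟩ : L))
    (fun a ha => by simpa using ha) (fun a _ b _ h => congrArg Subtype.val h)
    (fun b hb => ⟨b, by simpa using hb, rfl⟩) (fun a _ => rfl)

open Classical in
theorem finsum_subgroup [Fintype G] (K : Subgroup G) {M : Type*} [AddCommMonoid M] (f : G → M) :
    ∑ᶠ u ∈ (K : Set G), f u = ∑ u ∈ Finset.univ.filter (fun u : G => u ∈ K), f u := by
  rw [finsum_mem_eq_sum_of_inter_support_eq]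
  simp

end Cfsg.Agent.Char.Dade
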