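import Cfsg.Agent.Lib.Char.QuasiPrimitive

/-!
Berger's theorem: reduction to a central core and the induction.
-/

open scoped ComplexConjugate

namespace Cfsg.Agent.Char.QPrim

open Cfsg Cfsg.Agent.Char

set_option linter.unusedSectionVars false
set_option linter.style.haveILetI false
set_option maxHeartbeats 1600000

universe u

variable {G : Type u} [Group G] [Fintype G]

/-- A character with irreducible induced character is irreducible. -/
theorem irr_of_ind {H : Subgroup G} [Fintype H] {ψ : H → ℂ} (hψ : IsCharacter H ψ)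
    (h : IsIrrCharacter G (indFun H ψ)) : IsIrrCharacter H ψ := by
  classical
  set χ := indFun H ψ with hχ
  obtain ⟨a, -, hdec⟩ := IsChar.exists_decomp_inner hψ
  choose b hb using fun φ : IrrCharacter H =>
    IsChar.classInner_nat (isCharacter_indFun H (IsIrr.isCharacter φ.2)) (IsIrr.isCharacter h)
  have hsum : ∑ φ : IrrCharacter H, a φ * b φ = 1 := by
    have h1 := classInner_self_irr h
    conv_lhs at h1 => arg 1; rw [hχ, hdec, indFun_sum]
    rw [classInner_sum_left] at h1
    simp only [indFun_smul, classInner_smul_left, hb] at h1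
    exact_mod_cast h1
  have hb1 : ∀ φ : IrrCharacter H, a φ ≠ 0 → b φ ≠ 0 := by
    intro φ hφ hb0
    have hind1 : indFun H (φ : H → ℂ) 1 ≠ 0 := by
      rw [indFun_one_eq]
      exact mul_ne_zero (Nat.cast_ne_zero.2 Subgroup.index_ne_zero_of_finite) (IsIrr.one_ne_zero φ.2)
    obtain ⟨ξ, hξ⟩ := IsChar.exists_constituent'
      (isCharacter_indFun H (IsIrr.isCharacter φ.2)) hind1
    choose c hc using fun η : IrrCharacter H =>
      IsChar.classInner_nat (isCharacter_indFun H (IsIrr.isCharacter η.2)) (IsIrr.isCharacter ξ.2)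
    have hne : classInner χ (ξ : G → ℂ) ≠ 0 := by
      rw [hχ, hdec, indFun_sum, classInner_sum_left]
      simp only [indFun_smul, classInner_smul_left, hc, ← Nat.cast_mul, ← Nat.cast_sum,
        Nat.cast_ne_zero]
      exact fun hz => Nat.mul_ne_zero hφ (fun h0 => hξ (by rw [hc, h0, Nat.cast_zero]))
        (Finset.sum_eq_zero_iff.1 hz φ (Finset.mem_univ _))
    rw [← eq_of_constituent_irr h ξ.2 hne, hb φ, hb0, Nat.cast_zero] at hξ
    exact hξ rfl
  obtain ⟨φ, -, hφ⟩ := Finset.exists_ne_zero_of_sum_ne_zero (hsum.symm ▸ one_ne_zero :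
    ∑ φ : IrrCharacter H, a φ * b φ ≠ 0)
  have ha1 : a φ = 1 := by
    have := Finset.single_le_sum (f := fun φ => a φ * b φ) (fun _ _ => Nat.zero_le _)
      (Finset.mem_univ φ)
    rw [hsum] at this
    exact Nat.eq_one_of_mul_eq_one_right (le_antisymm this (Nat.one_le_iff_ne_zero.2 hφ))
  have hrest : ∀ η ∈ Finset.univ.erase φ, a η = 0 := by
    intro η hη
    by_contra hne
    have h2 := Finset.sum_le_sum_of_subset (f := fun φ => a φ * b φ)
      (Finset.subset_univ ({φ, η} : Finset (IrrCharacter H)))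
    rw [Finset.sum_pair (Finset.mem_erase.1 hη).1.symm, hsum] at h2
    have h3 := Nat.one_le_iff_ne_zero.2 (Nat.mul_ne_zero hne (hb1 η hne))
    have h4 := Nat.one_le_iff_ne_zero.2 hφ
    omega
  rw [hdec, Finset.sum_eq_single φ (fun η _ hne => by
    rw [hrest η (Finset.mem_erase.2 ⟨hne, Finset.mem_univ _⟩), Nat.cast_zero, zero_smul])
    (fun h0 => absurd (Finset.mem_univ _) h0), ha1, Nat.cast_one, one_smul]
  exact φ.2

theorem coatom_comap {A : Type u} [Group A] (π : A →* G) (hπ : Function.Surjective π)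
    {H : Subgroup G} (hH : IsCoatom H) : IsCoatom (H.comap π) := by
  refine ⟨fun h => hH.1 ?_, fun S hS => ?_⟩
  · rw [← Subgroup.map_comap_eq_self_of_surjective hπ H, h, Subgroup.map_top_of_surjective _ hπ]
  · have hk : π.ker ≤ S := (π.ker_le_comap H).trans hS.le
    have h1 : H < S.map π := by
      refine lt_of_le_of_ne ?_ fun h => hS.ne ?_
      · rw [← Subgroup.map_comap_eq_self_of_surjective hπ H]; exact Subgroup.map_mono hS.le
      · rw [h, Subgroup.comap_map_eq, sup_eq_left.2 hk]
    have h2 := congrArg (Subgroup.comap π) (hH.2 _ h1)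
    rwa [Subgroup.comap_map_eq, sup_eq_left.2 hk, Subgroup.comap_top] at h2

theorem coatom_map {B : Type u} [Group B] (π : G →* B) (hπ : Function.Surjective π)
    {H : Subgroup G} (hH : IsCoatom H) (hk : π.ker ≤ H) : IsCoatom (H.map π) := by
  refine ⟨fun h => hH.1 ?_, fun S hS => ?_⟩
  · have := congrArg (Subgroup.comap π) h
    rwa [Subgroup.comap_map_eq, sup_eq_left.2 hk, Subgroup.comap_top] at this
  · have h1 : H < S.comap π := by
      refine lt_of_le_of_ne (Subgroup.map_le_iff_le_comap.1 hS.le) fun h => hS.ne ?_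
      rw [h, Subgroup.map_comap_eq_self_of_surjective hπ]
    rw [← Subgroup.map_comap_eq_self_of_surjective hπ S, hH.2 _ h1,
      Subgroup.map_top_of_surjective _ hπ]

/-- The case of the core, by passing to a central one. -/
theorem false_of_core {n : ℕ} (IH : Below.{u} n) (L H : Subgroup G) [hLn : L.Normal]
    (hLH : L ≤ H) (hmax : IsCoatom H) (hidx : L.index ≤ n)
    (hsolv : Group.IsSolvable (G ⧸ L)) (hcore : ∀ W : Subgroup G, W.Normal → W ≤ H → W ≤ L)
    {θ : H → ℂ} (hθ : IsIrrCharacter H θ) {χ : G → ℂ} (hχ : IsIrrCharacter G χ)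
    (hind : indFun H θ = χ) (hhom : Homog L χ) : False := by
  classical
  letI := Fintype.ofFinite H
  letI := Fintype.ofFinite L
  have hχc := IsIrr.classFun hχ
  obtain ⟨φ, c₀, hφ, hc₀⟩ := hhom L inferInstance le_rfl
  have hθθ : classInner (fun h : H => χ h) θ ≠ 0 := by
    rw [← classInner_conj_symm, ← classInner_indFun H θ hχc, hind, classInner_self_irr hχ, map_one]
    exact one_ne_zero
  obtain ⟨g, hg, hgθ⟩ := homog_below hLH (IsChar.res (IsIrr.isCharacter hχ) H) hθ hθθ hφ (c := c₀)
    fun l => congrFun hc₀ l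
  have hc0 : (c₀ : ℂ) ≠ 0 := fun h => IsIrr.one_ne_zero hχ (by
    have := congrFun hc₀ 1
    rw [h, zero_smul] at this
    exact this)
  obtain ⟨d, ρ, hρ, hρφ⟩ := hφ
  haveI := hρ
  have hφ : IsIrrCharacter L φ := ⟨d, ρ, hρ, hρφ⟩
  have hinv : ∀ (x : G) (m : L), ρ.character (conjEquivN L x m) = ρ.character m := by
    intro x m
    refine mul_left_cancel₀ hc0 ?_
    rw [hρφ]
    have h1 : χ (conjEquivN L x m : G) = (c₀ : ℂ) * φ (conjEquivN L x m) :=
      congrFun hc₀ (conjEquivN L x m)
    have h2 : χ (m : G) = (c₀ : ℂ) * φ m := congrFun hc₀ m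
    rw [← h1, ← h2, conjEquivN_apply]
    exact hχc (m : G) x
  haveI := Ext.finite_cover L ρ
  haveI := Ext.coverRep_irreducible L ρ
  letI := Fintype.ofFinite (Ext.cover L ρ)
  set A := Ext.cover L ρ with hA
  set π := Ext.coverFst L ρ with hπdef
  have hπs : Function.Surjective π := Ext.coverFst_surjective L ρ hinv
  set F := (Ext.coverRep L ρ).character with hF
  have hFi : IsIrrCharacter A F := isIrrCharacter_character _
  set Lh := (Ext.coverEmb L ρ).range with hLh
  set Hh := H.comap π with hHh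
  letI := Fintype.ofFinite Hh
  have hLhL : Lh ≤ L.comap π := by
    rintro _ ⟨m, rfl⟩
    show π _ ∈ L
    rw [hπdef, Ext.coverFst_emb]; exact m.2
  have hLhH : Lh ≤ Hh := hLhL.trans (Subgroup.comap_mono hLH)
  have hFemb : ∀ m : L, F (Ext.coverEmb L ρ m) = φ m := fun m => by rw [← hρφ]; rfl
  -- irreducibility of the extension on the embedded subgroup, inside any larger one
  have hFS : ∀ (S : Subgroup A) [Fintype (Lh.subgroupOf S)], Lh ≤ S →
      IsIrrCharacter (Lh.subgroupOf S) (fun z : Lh.subgroupOf S => F ((z : S) : A)) := by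
    intro S _ hS
    letI := Fintype.ofFinite Lh
    let em : L →* Lh.subgroupOf S :=
      (Subgroup.subgroupOfEquivOfLe hS).symm.toMonoidHom.comp (Ext.coverEmb L ρ).rangeRestrict
    have hems : Function.Surjective em :=
      (Subgroup.subgroupOfEquivOfLe hS).symm.surjective.comp
        (Ext.coverEmb L ρ).rangeRestrict_surjective
    have hemi : Function.Injective em := fun x y h => Subtype.ext (congrArg
      (fun z : Lh.subgroupOf S => Ext.coverFst L ρ ((z : S) : A)) h)
    refine Eq.subst (motive := fun f => IsIrrCharacter (Lh.subgroupOf S) f) ?_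
      (IsIrr.comp_mulEquiv (MulEquiv.ofBijective em ⟨hemi, hems⟩).symm hφ)
    funext z
    obtain ⟨m, rfl⟩ := hems z
    rw [show (MulEquiv.ofBijective em ⟨hemi, hems⟩).symm (em m) = m from
      (MulEquiv.ofBijective em ⟨hemi, hems⟩).symm_apply_apply m]
    exact (hFemb m).symm
  set Ls := Lh.subgroupOf Hh with hLs
  haveI : Ls.Normal := Subgroup.Normal.subgroupOf inferInstance _
  letI := Fintype.ofFinite Ls
  set θh : Hh → ℂ := fun x => θ ⟨π x, x.2⟩ with hθh
  have hθhi : IsIrrCharacter Hh θh := IsIrr.comp_surjective (π.subgroupComap H)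
    (fun y => by
      obtain ⟨x, hx⟩ := hπs (y : G)
      exact ⟨⟨x, show π x ∈ H from hx.symm ▸ y.2⟩, Subtype.ext hx⟩) hθ
  set FH : Hh → ℂ := fun x => F x with hFH
  have hFHi : IsIrrCharacter Hh FH :=
    Alperin.isIrr_of_res (IsChar.res (IsIrr.isCharacter hFi) Hh) Ls.subtype (hFS Hh hLhH)
  obtain ⟨hγi, hFγ⟩ := gallagher Ls hFHi hθhi (hFS Hh hLhH) (by
    have e : (fun z : Ls => θh z) = (g : ℂ) • fun z : Ls => FH z := by
      funext z
      obtain ⟨m, hm⟩ := (show ((z : Hh) : A) ∈ Lh from z.2)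
      have e1 : π ((z : Hh) : A) = (m : G) := by rw [← hm, hπdef, Ext.coverFst_emb]
      rw [Pi.smul_apply, smul_eq_mul]
      show θ ⟨π ((z : Hh) : A), _⟩ = (g : ℂ) * F ((z : Hh) : A)
      rw [show F ((z : Hh) : A) = φ m from (congrArg F hm.symm).trans (hFemb m), ← hgθ m]
      exact congrArg θ (Subtype.ext e1)
    rw [e, classInner_smul_left, classInner_self_irr (hFS Hh hLhH), mul_one]
    exact Nat.cast_ne_zero.2 hg.ne')
  set γ := avgN Ls (θh * fun x => conj (FH x)) with hγ
  -- the quotient by the embedded subgroup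
  set mk := QuotientGroup.mk' Lh with hmk
  have hmks : Function.Surjective mk := QuotientGroup.mk'_surjective Lh
  set H₂ := Hh.map mk with hH₂
  set L₂ := (L.comap π).map mk with hL₂
  haveI : L₂.Normal := (hLn.comap π).map mk hmks
  have hH₂c : H₂.comap mk = Hh := by
    rw [hH₂, Subgroup.comap_map_eq, QuotientGroup.ker_mk', sup_eq_left.2 hLhH]
  have hL₂c : L₂.comap mk = L.comap π := by
    rw [hL₂, Subgroup.comap_map_eq, QuotientGroup.ker_mk', sup_eq_left.2 hLhL]
  obtain ⟨θ₂, hθ₂, hθ₂e⟩ := IsIrr.exists_factor hγi (mk.subgroupMap Hh)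
    (mk.subgroupMap_surjective Hh) (fun x hx => by
      have hx' : (x : A) ∈ Lh :=
        (QuotientGroup.eq_one_iff _).1 (congrArg Subtype.val (MonoidHom.mem_ker.1 hx))
      have := avgN_mul_left Ls (θh * fun x => conj (FH x)) ⟨x, hx'⟩ 1
      rwa [mul_one] at this)
  letI := Fintype.ofFinite (A ⧸ Lh)
  set Γ := indFun H₂ θ₂ with hΓ
  have hΓmk : ∀ x : A, Γ (mk x) = indFun Hh γ x := by
    intro x
    rw [hΓ, ← indFun_comap mk hmks H₂ θ₂ x,
      indFun_eq_of_eq hH₂c (g := γ) (fun s t hst => by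
        rw [← hθ₂e t]
        exact congrArg θ₂ (Subtype.ext (congrArg mk hst)))]
  set χh : A → ℂ := fun x => χ (π x) with hχh
  have hχhi : IsIrrCharacter A χh := IsIrr.comp_surjective π hπs hχ
  have hprod : F * (fun x => Γ (mk x)) = χh := by
    rw [show (fun x => Γ (mk x)) = indFun Hh γ from funext hΓmk,
      Brauer.mul_indFun Hh γ (IsIrr.classFun hFi),
      show (fun h : Hh => F h) * γ = θh from hFγ]
    funext x
    rw [hθh, indFun_comap π hπs, hind]
  have hΓch : IsCharacter (A ⧸ Lh) Γ := isCharacter_indFun H₂ (IsIrr.isCharacter hθ₂)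
  have hΓi : IsIrrCharacter (A ⧸ Lh) Γ := by
    have h1 : IsIrrCharacter A (fun x => Γ (mk x)) :=
      irr_of_mul (IsIrr.isCharacter hFi) (IsChar.comp mk hΓch) (hprod.symm ▸ hχhi)
    refine IsChar.irr_of_norm_one hΓch ?_
    rw [← classInner_comp_surjective mk hmks]
    exact classInner_self_irr h1
  -- quasi-primitivity descends
  have hΓhom : Homog L₂ Γ := by
    intro N hN hLN
    set S := N.comap mk with hS
    have hSL : L.comap π ≤ S := hL₂c ▸ Subgroup.comap_mono hLN
    obtain ⟨ξ, e, hξ, hξe⟩ := homog_comap π hπs hhom S (hN.comap mk) hSL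
    letI := Fintype.ofFinite S
    letI := Fintype.ofFinite N
    set Lt := Lh.subgroupOf S with hLt
    haveI : Lt.Normal := Subgroup.Normal.subgroupOf inferInstance _
    letI := Fintype.ofFinite Lt
    let q : S →* N := mk.subgroupComap N
    have hqs : Function.Surjective q := fun y => by
      obtain ⟨x, hx⟩ := hmks (y : A ⧸ Lh)
      exact ⟨⟨x, show mk x ∈ N from hx.symm ▸ y.2⟩, Subtype.ext hx⟩
    set FS : S → ℂ := fun x => F x with hFSdef
    have hFLt := hFS S (hLhL.trans hSL)
    have hFSi : IsIrrCharacter S FS :=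
      Alperin.isIrr_of_res (IsChar.res (IsIrr.isCharacter hFi) S) Lt.subtype hFLt
    have hconst : ∀ (f : N → ℂ) (l : Lt) (x : S), f (q ((l : S) * x)) = f (q x) := fun f l x => by
      have hl : q (l : S) = 1 := Subtype.ext ((QuotientGroup.eq_one_iff _).2 l.2)
      rw [map_mul, hl, one_mul]
    have hip : ∀ f f' : N → ℂ, classInner (FS * fun x => f (q x)) (FS * fun x => f' (q x)) =
        classInner f f' := fun f f' => by
      rw [classInner_mul_const Lt hFSi hFLt (hconst f) (hconst f'),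
        classInner_comp_surjective q hqs]
    set ΓN : N → ℂ := fun y => Γ y with hΓN
    obtain ⟨a, ha, hdec⟩ := IsChar.exists_decomp_inner (IsChar.res hΓch N : IsCharacter N ΓN)
    have hP : ∀ ζ : IrrCharacter N, a ζ ≠ 0 → (FS * fun x => (ζ : N → ℂ) (q x)) = ξ := by
      intro ζ hζ
      have hPi : IsIrrCharacter S (FS * fun x => (ζ : N → ℂ) (q x)) :=
        IsChar.irr_of_norm_one (IsChar.mul (IsIrr.isCharacter hFSi)
          (IsChar.comp q (IsIrr.isCharacter ζ.2))) (by rw [hip, classInner_self_irr ζ.2])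
      refine (eq_of_constituent_irr hξ hPi fun h0 => hζ ?_).symm
      have h1 := hip ΓN ζ
      have e1 : (FS * fun x => ΓN (q x)) = fun x : S => χh x :=
        funext fun x => congrFun hprod (x : A)
      rw [e1, hξe, classInner_smul_left, h0, mul_zero,
        show classInner ΓN (ζ : N → ℂ) = _ from ha ζ] at h1
      exact_mod_cast h1.symm
    obtain ⟨ζ₀, hζ₀⟩ : ∃ ζ, a ζ ≠ 0 := by
      by_contra hall
      push Not at hall
      refine IsIrr.one_ne_zero hΓi ?_
      have := congrFun hdec 1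
      rw [Finset.sum_eq_zero (fun ζ _ => by rw [hall ζ, Nat.cast_zero, zero_smul])] at this
      exact this
    refine ⟨ζ₀, a ζ₀, ζ₀.2, ?_⟩
    refine hdec.trans ?_
    rw [Finset.sum_eq_single ζ₀ (fun ζ _ hne => ?_) fun h => absurd (Finset.mem_univ _) h]
    rcases eq_or_ne (a ζ) 0 with h0 | h0
    · rw [h0, Nat.cast_zero, zero_smul]
    · refine absurd ?_ hne
      have h1 := hip ζ₀ ζ
      rw [hP ζ h0, hP ζ₀ hζ₀, classInner_self_irr hξ] at h1
      exact Subtype.ext (eq_of_constituent_irr ζ₀.2 ζ.2 (h1.symm ▸ one_ne_zero)).symm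
  refine false_of_central IH L₂ H₂ ?_ (Subgroup.map_mono (Subgroup.comap_mono hLH))
    (coatom_map mk hmks (coatom_comap π hπs hmax) (by rw [QuotientGroup.ker_mk']; exact hLhH))
    ?_ ?_ ?_ hθ₂ hΓi rfl hΓhom
  · rintro _ ⟨x, hx, rfl⟩
    refine Subgroup.mem_center_iff.2 fun y => ?_
    obtain ⟨w, rfl⟩ := hmks y
    have hker : x * (Ext.coverEmb L ρ ⟨π x, hx⟩)⁻¹ ∈ π.ker := by
      rw [MonoidHom.mem_ker, map_mul, map_inv]
      exact mul_inv_eq_one.2 (Ext.coverFst_emb L ρ ⟨π x, hx⟩).symm
    have e : mk x = mk (x * (Ext.coverEmb L ρ ⟨π x, hx⟩)⁻¹) := by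
      rw [map_mul, map_inv, show mk (Ext.coverEmb L ρ ⟨π x, hx⟩) = 1 from
        (QuotientGroup.eq_one_iff _).2 ⟨_, rfl⟩, inv_one, mul_one]
    rw [e, ← map_mul, ← map_mul,
      Subgroup.mem_center_iff.1 (Ext.ker_central L ρ hker) w]
  · rw [hL₂, Subgroup.index_map_eq _ hmks (by rw [QuotientGroup.ker_mk']; exact hLhL),
      Subgroup.index_comap_of_surjective L hπs]
    exact hidx
  · haveI := isSolvable_comap π hsolv
    refine solvable_of_surjective (f := QuotientGroup.map (L.comap π) L₂ mk hL₂c.ge) ?_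
    intro y
    obtain ⟨y', rfl⟩ := QuotientGroup.mk_surjective y
    obtain ⟨x, rfl⟩ := hmks y'
    exact ⟨(x : A ⧸ L.comap π), rfl⟩
  · intro W hW hle
    have h1 : (W.comap mk).map π ≤ L := hcore _ ((hW.comap mk).map π hπs) (by
      rw [← Subgroup.map_comap_eq_self_of_surjective hπs H]
      exact Subgroup.map_mono ((Subgroup.comap_mono hle).trans_eq hH₂c))
    rw [← Subgroup.map_comap_eq_self_of_surjective hmks W]
    exact Subgroup.map_mono (Subgroup.map_le_iff_le_comap.1 h1)

/-- Berger's theorem. -/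
theorem below : ∀ n : ℕ, Below.{u} n := by
  intro n
  induction n with
  | zero => intro A _ _ L _ h; omega
  | succ n IH =>
    intro A _ _ L hLn hidx hsolv χ hχ hhom H hH hLH ψ hψ hind
    classical
    obtain ⟨H', hmax, hHH'⟩ := (eq_top_or_exists_le_coatom H).resolve_left hH
    letI := Fintype.ofFinite H
    letI := Fintype.ofFinite H'
    letI := Fintype.ofFinite (H.subgroupOf H')
    set θ : H' → ℂ := indFun (H.subgroupOf H')
      (fun x : H.subgroupOf H' => ψ ⟨((x : H') : A), x.2⟩) with hθ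
    have hθch : IsCharacter H' θ := isCharacter_indFun _
      (IsChar.comp (Subgroup.subgroupOfEquivOfLe hHH').toMonoidHom hψ)
    have hθind : indFun H' θ = χ := by
      rw [hθ, Brauer.indFun_indFun, ← hind]
      refine indFun_eq_of_eq (Subgroup.map_subgroupOf_eq_of_le hHH') fun a b hab => ?_
      refine congrArg ψ (Subtype.ext ?_)
      rw [← hab]
      have h2 := congrArg Subtype.val (MulEquiv.apply_symm_apply
        ((H.subgroupOf H').equivMapOfInjective H'.subtype H'.subtype_injective) a)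
      exact h2
    have hθi : IsIrrCharacter H' θ := irr_of_ind hθch (hθind.symm ▸ hχ)
    by_cases hcore : ∀ W : Subgroup A, W.Normal → W ≤ H' → W ≤ L
    · exact false_of_core IH L H' (hLH.trans hHH') hmax (by omega) hsolv hcore hθi hχ hθind hhom
    push Not at hcore
    obtain ⟨W, hW, hWH, hWL⟩ := hcore
    haveI := hW
    have hlt : L < L ⊔ W := lt_of_le_of_ne le_sup_left fun h => hWL (le_sup_right.trans h.ge)
    refine IH (L ⊔ W) ?_ (Berger.isSolvable_quotient_of_le hsolv le_sup_left) χ hχ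
      (hhom.mono le_sup_left) H' hmax.1 (sup_le (hLH.trans hHH') hWH) θ hθch hθind
    have := Subgroup.index_strictAnti hlt
    omega

theorem not_induced [Group.IsSolvable G] (χ : G → ℂ) (hχ : IsIrrCharacter G χ)
    (hhom : Homog ⊥ χ) (H : Subgroup G) (hH : H ≠ ⊤) (ψ : H → ℂ) (hψ : IsCharacter H ψ) :
    indFun H ψ ≠ χ :=
  below ((⊥ : Subgroup G).index + 1) ⊥ (Nat.lt_succ_self _) inferInstance χ hχ hhom H hH bot_le ψ hψ

end Cfsg.Agent.Char.QPrim
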