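import Cfsg.Agent.Lib.Char.RamifiedCyclic
import Cfsg.Agent.Lib.Char.QuasiPrimitiveMain
import Mathlib.GroupTheory.Sylow

/-!
A fully ramified character and a normal subgroup with regular orbits on the characters below:
complements to the Sylow subgroups of the quotient.
-/

open scoped ComplexConjugate

namespace Cfsg.Agent.Char.RamCompl

open Cfsg Cfsg.Agent.Char

set_option linter.unusedSectionVars false
set_option linter.style.haveILetI false
set_option maxHeartbeats 800000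

universe u

/-- A constituent of a constituent occurs. -/
theorem pos_of_constituent {A B : Type u} [Group A] [Fintype A] [Group B] [Fintype B]
    (ι : B →* A) {f : A → ℂ} (hf : IsCharacter A f) {φ : A → ℂ} (hφ : IsIrrCharacter A φ)
    (h1 : classInner f φ ≠ 0) {ω : B → ℂ} (hω : IsIrrCharacter B ω)
    (h2 : classInner (fun b => φ (ι b)) ω ≠ 0) : classInner (fun b => f (ι b)) ω ≠ 0 := by
  classical
  obtain ⟨a, ha, hdec⟩ := IsChar.exists_decomp_inner hf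
  choose c hc using fun ψ : IrrCharacter A =>
    IsChar.classInner_nat (IsChar.comp ι (IsIrr.isCharacter ψ.2)) (IsIrr.isCharacter hω)
  have e : classInner (fun b => f (ι b)) ω = ((∑ ψ : IrrCharacter A, a ψ * c ψ : ℕ) : ℂ) := by
    have hfun : (fun b => f (ι b)) =
        ∑ ψ : IrrCharacter A, (a ψ : ℂ) • (fun b => (ψ : A → ℂ) (ι b)) := by
      funext b
      rw [congrFun hdec (ι b)]
      simp [Finset.sum_apply]
    rw [hfun, classInner_sum_left]
    push_cast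
    exact Finset.sum_congr rfl fun ψ _ => by rw [classInner_smul_left, hc]
  rw [e, Nat.cast_ne_zero]
  intro h0
  refine mul_ne_zero (a := a ⟨φ, hφ⟩) (b := c ⟨φ, hφ⟩) (fun h => ?_) (fun h => ?_)
    (Finset.sum_eq_zero_iff.1 h0 _ (Finset.mem_univ _))
  · exact h1 (by rw [ha ⟨φ, hφ⟩, h, Nat.cast_zero])
  · exact h2 (by rw [hc ⟨φ, hφ⟩, h, Nat.cast_zero])

/-- The characters over an invariant character. -/
theorem over_data {A : Type u} [Group A] [Fintype A] (Z : Subgroup A) [Z.Normal] [Fintype Z]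
    {θ : Z → ℂ} (hθ : IsIrrCharacter Z θ) (hinv : inertia Z θ = ⊤) :
    ∃ a : IrrCharacter A → ℕ,
      (∀ ζ : IrrCharacter A, classInner (fun z : Z => (ζ : A → ℂ) z) θ = a ζ) ∧
      (∀ ζ : IrrCharacter A, a ζ ≠ 0 → (ζ : A → ℂ) 1 = a ζ * θ 1) ∧
      ∑ ζ : IrrCharacter A, a ζ ^ 2 = Z.index := by
  classical
  obtain ⟨a, ha, hdec⟩ := IsChar.exists_decomp_inner (isCharacter_indFun Z (IsIrr.isCharacter hθ))
  have h1 : ∀ ζ : IrrCharacter A, classInner (fun z : Z => (ζ : A → ℂ) z) θ = a ζ := fun ζ => by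
    have h := ha ζ
    rw [classInner_indFun Z θ (IsIrr.classFun ζ.2)] at h
    rw [← classInner_conj_symm, h, Complex.conj_natCast]
  have h2 : ∀ ζ : IrrCharacter A, a ζ ≠ 0 → (ζ : A → ℂ) 1 = a ζ * θ 1 := fun ζ hζ => by
    have h := clifford_one Z ζ.2 hθ (by rw [h1]; exact_mod_cast hζ)
    rwa [h1, hinv, Subgroup.index_top, Nat.cast_one, mul_one] at h
  refine ⟨a, h1, h2, ?_⟩
  have h := congrFun hdec 1
  rw [indFun_one_eq, sum_irr_apply] at h
  rw [Finset.sum_congr rfl fun ζ _ => (show (a ζ : ℂ) * (ζ : A → ℂ) 1 = (a ζ : ℂ) ^ 2 * θ 1 by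
    rcases eq_or_ne (a ζ) 0 with h0 | h0
    · rw [h0]; simp
    · rw [h2 ζ h0]; ring), ← Finset.sum_mul] at h
  exact_mod_cast (mul_right_cancel₀ (IsIrr.one_ne_zero hθ) h).symm

/-- The orbit below the unique character over an invariant character. -/
theorem orbit_data {A : Type u} [Group A] [Fintype A] (Z Kp : Subgroup A) [Z.Normal] [Kp.Normal]
    [Fintype Z] [Fintype Kp] [Fintype (Z.subgroupOf Kp)] (hZK : Z ≤ Kp) {θ : Z → ℂ}
    (hθ : IsIrrCharacter Z θ) (hinv : inertia Z θ = ⊤) (D : ℕ) {ξ₀ : A → ℂ}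
    (hξ₀ : IsIrrCharacter A ξ₀) (hres : ∀ z : Z, ξ₀ z = (D : ℂ) * θ z)
    (huniq : ∀ ξ : A → ℂ, IsIrrCharacter A ξ →
      classInner (fun z : Z => ξ z) θ ≠ 0 → ξ = ξ₀) :
    ∃ (ζ : Kp → ℂ) (r f : ℕ), IsIrrCharacter Kp ζ ∧ ζ 1 = (r : ℂ) * θ 1 ∧
      (inertia Kp ζ).index * r ^ 2 = Z.relIndex Kp ∧ f * ((inertia Kp ζ).index * r) = D ∧
      (IsCyclic (A ⧸ Kp) → f = 1) ∧
      ∀ ζ' : Kp → ℂ, IsIrrCharacter Kp ζ' →
        classInner (fun z : Z.subgroupOf Kp => ζ' z) (fun z => θ ⟨((z : Kp) : A), z.2⟩) ≠ 0 →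
        ∃ q : A, conjN Kp q ζ = ζ' := by
  classical
  set θK : Z.subgroupOf Kp → ℂ := fun z => θ ⟨((z : Kp) : A), z.2⟩ with hθK
  have hθKi : IsIrrCharacter (Z.subgroupOf Kp) θK :=
    IsIrr.comp_mulEquiv (Subgroup.subgroupOfEquivOfLe hZK) hθ
  haveI : (Z.subgroupOf Kp).Normal := Subgroup.Normal.subgroupOf inferInstance _
  have hinvK : inertia (Z.subgroupOf Kp) θK = ⊤ := eq_top_iff.2 fun t _ => by
    rw [mem_inertia]
    funext z
    exact congrFun ((mem_inertia Z).1 (hinv ▸ Subgroup.mem_top (t : A)))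
      ⟨((z : Kp) : A), z.2⟩
  have hξ01 : ξ₀ 1 = (D : ℂ) * θ 1 := by simpa using hres 1
  -- everything over the character below is in the restriction
  have hdown : ∀ ζ' : Kp → ℂ, IsIrrCharacter Kp ζ' →
      classInner (fun z : Z.subgroupOf Kp => ζ' z) θK ≠ 0 →
      classInner (fun k : Kp => ξ₀ k) ζ' ≠ 0 := by
    intro ζ' hζ' hne
    have h0 : indFun Kp ζ' 1 ≠ 0 := by
      rw [indFun_one_eq]
      exact mul_ne_zero (Nat.cast_ne_zero.2 Subgroup.index_ne_zero_of_finite)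
        (IsIrr.one_ne_zero hζ')
    obtain ⟨ξ, hξ⟩ := IsChar.exists_constituent' (isCharacter_indFun Kp (IsIrr.isCharacter hζ')) h0
    rw [classInner_indFun Kp ζ' (IsIrr.classFun ξ.2)] at hξ
    have hξ' : classInner (fun k : Kp => (ξ : A → ℂ) k) ζ' ≠ 0 := fun h => hξ (by
      rw [← classInner_conj_symm, h, map_zero])
    have h1 := pos_of_constituent (Z.subgroupOf Kp).subtype (IsChar.res (IsIrr.isCharacter ξ.2) Kp)
      hζ' hξ' hθKi hne
    have h2 : classInner (fun z : Z => (ξ : A → ℂ) z) θ ≠ 0 := by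
      rw [← Corr.classInner_subgroupOf Z hZK (fun z : Z => (ξ : A → ℂ) z) θ]
      exact h1
    rw [← huniq ξ ξ.2 h2]
    exact hξ'
  -- and conversely
  have hup : ∀ ζ' : Kp → ℂ, IsIrrCharacter Kp ζ' → classInner (fun k : Kp => ξ₀ k) ζ' ≠ 0 →
      classInner (fun z : Z.subgroupOf Kp => ζ' z) θK ≠ 0 := by
    intro ζ' hζ' hne
    obtain ⟨θ', hθ'⟩ := IsChar.exists_constituent'
      (IsChar.res (IsIrr.isCharacter hζ') (Z.subgroupOf Kp))
      (show ζ' ((1 : Z.subgroupOf Kp) : Kp) ≠ 0 from IsIrr.one_ne_zero hζ')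
    have h1 := pos_of_constituent (Z.subgroupOf Kp).subtype (IsChar.res (IsIrr.isCharacter hξ₀) Kp)
      hζ' hne θ'.2 hθ'
    have e : (fun z : Z.subgroupOf Kp => ξ₀ ((z : Kp) : A)) = (D : ℂ) • θK :=
      funext fun z => hres ⟨((z : Kp) : A), z.2⟩
    change classInner (fun z : Z.subgroupOf Kp => ξ₀ ((z : Kp) : A)) _ ≠ 0 at h1
    rw [e, classInner_smul_left] at h1
    rw [eq_of_constituent_irr hθKi θ'.2 (right_ne_zero_of_mul h1)]
    exact hθ'
  obtain ⟨ζ, hζne⟩ := IsChar.exists_constituent' (IsChar.res (IsIrr.isCharacter hξ₀) Kp)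
    (show ξ₀ ((1 : Kp) : A) ≠ 0 from IsIrr.one_ne_zero hξ₀)
  obtain ⟨a, ha, had, hsum⟩ := over_data (Z.subgroupOf Kp) hθKi hinvK
  have hconj : ∀ ζ' : Kp → ℂ, IsIrrCharacter Kp ζ' →
      classInner (fun z : Z.subgroupOf Kp => ζ' z) θK ≠ 0 → ∃ q : A, conjN Kp q ζ = ζ' :=
    fun ζ' hζ' hne => exists_conj_of_constituents Kp hξ₀ ζ.2 hζ' hζne (hdown ζ' hζ' hne)
  set r := a ζ with hr
  have hr0 : r ≠ 0 := fun h => hup ζ ζ.2 hζne (by rw [ha, ← hr, h, Nat.cast_zero])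
  have hθ1 : θK 1 = θ 1 := congrArg θ (Subtype.ext rfl)
  have hζ1 : (ζ : Kp → ℂ) 1 = (r : ℂ) * θ 1 := by rw [had ζ hr0, hθ1]
  have horb : ∀ ζ' : IrrCharacter Kp, a ζ' ≠ 0 ↔ (ζ' : Kp → ℂ) ∈ conjOrbit Kp (ζ : Kp → ℂ) := by
    intro ζ'
    rw [mem_conjOrbit]
    constructor
    · intro h
      exact hconj ζ' ζ'.2 (by rw [ha]; exact_mod_cast h)
    · rintro ⟨q, hq⟩
      have h1 : classInner (fun k : Kp => ξ₀ k) (ζ' : Kp → ℂ) ≠ 0 := by
        rw [← hq, classInner_res_conjN Kp (IsIrr.classFun hξ₀)]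
        exact hζne
      have h2 := hup ζ' ζ'.2 h1
      rw [ha] at h2
      exact_mod_cast h2
  have heq : ∀ ζ' : IrrCharacter Kp, a ζ' ≠ 0 → a ζ' = r := by
    intro ζ' h
    obtain ⟨q, hq⟩ := (mem_conjOrbit Kp).1 ((horb ζ').1 h)
    have h1 : (ζ' : Kp → ℂ) 1 = (ζ : Kp → ℂ) 1 := by
      rw [← hq, conjN_apply]
      exact congrArg (ζ : Kp → ℂ) (Subtype.ext (by simp))
    rw [had ζ' h, hζ1, hθ1] at h1
    exact_mod_cast mul_right_cancel₀ (IsIrr.one_ne_zero hθ) h1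
  have hcard : (inertia Kp (ζ : Kp → ℂ)).index * r ^ 2 = Z.relIndex Kp := by
    rw [← card_conjOrbit, Subgroup.relIndex, ← hsum]
    rw [← Finset.sum_filter_of_ne (s := Finset.univ) (p := fun ζ' : IrrCharacter Kp => a ζ' ≠ 0)
      (fun ζ' _ h h0 => h (by rw [h0]; rfl)),
      Finset.sum_congr rfl fun ζ' hζ' => by rw [heq ζ' (Finset.mem_filter.1 hζ').2],
      Finset.sum_const, smul_eq_mul]
    congr 1
    refine (Finset.card_bij (fun (ζ' : IrrCharacter Kp) _ => (ζ' : Kp → ℂ))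
      (fun ζ' h => (horb ζ').1 (Finset.mem_filter.1 h).2) (fun _ _ _ _ h => Subtype.ext h)
      (fun f hf => ?_)).symm
    have hfi : IsIrrCharacter Kp f := by
      obtain ⟨q, rfl⟩ := (mem_conjOrbit Kp).1 hf
      exact IsIrr.conjN Kp ζ.2 q
    exact ⟨⟨f, hfi⟩, Finset.mem_filter.2 ⟨Finset.mem_univ _, (horb ⟨f, hfi⟩).2 hf⟩, rfl⟩
  obtain ⟨f, hf⟩ := IsChar.classInner_nat (IsChar.res (IsIrr.isCharacter hξ₀) Kp)
    (IsIrr.isCharacter ζ.2)
  refine ⟨ζ, r, f, ζ.2, hζ1, hcard, ?_, fun hcyc => ?_, hconj⟩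
  · have h := clifford_one Kp hξ₀ ζ.2 hζne
    rw [hf, hξ01, hζ1] at h
    have h' : (D : ℂ) * θ 1 = ((f * ((inertia Kp (ζ : Kp → ℂ)).index * r) : ℕ) : ℂ) * θ 1 := by
      push_cast
      rw [h]
      ring
    exact_mod_cast (mul_right_cancel₀ (IsIrr.one_ne_zero hθ) h').symm
  · have h := OverCyclic.mult_one hcyc ζ.2 hξ₀ hζne
    rw [hf] at h
    exact_mod_cast h

variable {H : Type u} [Group H] [Fintype H]

/-- A fully ramified character. -/
structure Data (Z : Subgroup H) [Fintype Z] (χ : H → ℂ) (θ : Z → ℂ) (e : ℕ) : Prop where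
  hχ : IsIrrCharacter H χ
  hθ : IsIrrCharacter Z θ
  he : e ^ 2 = Z.index
  hres : ∀ z : Z, χ z = (e : ℂ) * θ z

variable {Z : Subgroup H} [Z.Normal] [Fintype Z] {χ : H → ℂ} {θ : Z → ℂ} {e : ℕ}

theorem Data.e_ne_zero (d : Data Z χ θ e) : (e : ℂ) ≠ 0 := by
  have : Z.index ≠ 0 := Subgroup.index_ne_zero_of_finite
  rw [← d.he] at this
  exact Nat.cast_ne_zero.2 fun h => this (by rw [h]; norm_num)

theorem Data.conj_eq (d : Data Z χ θ e) (g : H) : conjN Z g θ = θ := funext fun z => by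
  refine mul_left_cancel₀ d.e_ne_zero ?_
  rw [conjN_apply, ← d.hres, ← d.hres]
  exact IsIrr.classFun d.hχ _ _

theorem Data.inertia_top (d : Data Z χ θ e) : inertia Z θ = ⊤ :=
  eq_top_iff.2 fun g _ => (mem_inertia Z).2 (d.conj_eq g)

theorem Data.eq_of_over (d : Data Z χ θ e) {ω : H → ℂ} (hω : IsIrrCharacter H ω)
    (hne : classInner (fun z : Z => ω z) θ ≠ 0) : ω = χ := by
  classical
  obtain ⟨a, ha, -, hsum⟩ := over_data Z d.hθ d.inertia_top
  have h1 : a ⟨χ, d.hχ⟩ = e := by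
    have h : (fun z : Z => χ z) = (e : ℂ) • θ := funext d.hres
    have h' := ha ⟨χ, d.hχ⟩
    simp only at h'
    rw [h, classInner_smul_left, classInner_self_irr d.hθ, mul_one] at h'
    exact_mod_cast h'.symm
  rw [← Finset.add_sum_erase _ _ (Finset.mem_univ (⟨χ, d.hχ⟩ : IrrCharacter H)), h1, d.he,
    add_eq_left] at hsum
  by_contra hne'
  have h2 := Finset.sum_eq_zero_iff.1 hsum ⟨ω, hω⟩
    (Finset.mem_erase.2 ⟨fun h => hne' (congrArg Subtype.val h), Finset.mem_univ _⟩)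
  exact hne (by rw [ha ⟨ω, hω⟩, pow_eq_zero_iff two_ne_zero |>.1 h2, Nat.cast_zero])

theorem Data.over_of_constituent (d : Data Z χ θ e) {A : Subgroup H} [Fintype A] (hZA : Z ≤ A)
    {ω : A → ℂ} (hω : IsIrrCharacter A ω) (hne : classInner (fun x : A => χ x) ω ≠ 0) :
    classInner (fun z : Z => ω ⟨(z : H), hZA z.2⟩) θ ≠ 0 := by
  obtain ⟨θ', hθ'⟩ := IsChar.exists_constituent'
    (IsChar.comp (Subgroup.inclusion hZA) (IsIrr.isCharacter hω))
    (show ω (Subgroup.inclusion hZA 1) ≠ 0 by rw [map_one]; exact IsIrr.one_ne_zero hω)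
  have h1 := pos_of_constituent (Subgroup.inclusion hZA) (IsChar.res (IsIrr.isCharacter d.hχ) A)
    hω hne θ'.2 hθ'
  change classInner (fun z : Z => χ (z : H)) _ ≠ 0 at h1
  rw [show (fun z : Z => χ (z : H)) = (e : ℂ) • θ from funext d.hres, classInner_smul_left] at h1
  rw [eq_of_constituent_irr d.hθ θ'.2 (right_ne_zero_of_mul h1)]
  exact hθ'

/-- Above a Sylow subgroup of the quotient the character is again fully ramified and unique. -/
theorem Data.sylow_data (d : Data Z χ θ e) {p : ℕ} (hp : p.Prime) {Q : Subgroup H} [Fintype Q]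
    (hZQ : Z ≤ Q) {m : ℕ} (hm : Z.relIndex Q = (p ^ m) ^ 2) (hQ : ¬ p ∣ Q.index) :
    ∃ ξ₀ : Q → ℂ, IsIrrCharacter Q ξ₀ ∧
      (∀ z : Z, ξ₀ ⟨(z : H), hZQ z.2⟩ = ((p ^ m : ℕ) : ℂ) * θ z) ∧
      ∀ ξ : Q → ℂ, IsIrrCharacter Q ξ →
        classInner (fun z : Z => ξ ⟨(z : H), hZQ z.2⟩) θ ≠ 0 → ξ = ξ₀ := by
  classical
  haveI : Fact p.Prime := ⟨hp⟩
  haveI : (Z.subgroupOf Q).Normal := Subgroup.Normal.subgroupOf inferInstance _
  letI := Fintype.ofFinite (Z.subgroupOf Q)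
  set θQ : Z.subgroupOf Q → ℂ := fun z => θ ⟨((z : Q) : H), z.2⟩ with hθQ
  have hθQi : IsIrrCharacter (Z.subgroupOf Q) θQ :=
    IsIrr.comp_mulEquiv (Subgroup.subgroupOfEquivOfLe hZQ) d.hθ
  have hinvQ : inertia (Z.subgroupOf Q) θQ = ⊤ := eq_top_iff.2 fun t _ => by
    rw [mem_inertia]
    funext z
    exact congrFun (d.conj_eq (t : H)) ⟨((z : Q) : H), z.2⟩
  obtain ⟨a, ha, had, hsum⟩ := over_data (Z.subgroupOf Q) hθQi hinvQ
  have hθ1 : θQ 1 = θ 1 := congrArg θ (Subtype.ext rfl)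
  have hin : ∀ ξ : Q → ℂ, classInner (fun z : Z.subgroupOf Q => ξ z) θQ =
      classInner (fun z : Z => ξ ⟨(z : H), hZQ z.2⟩) θ := fun ξ =>
    Corr.classInner_subgroupOf Z hZQ (fun z : Z => ξ ⟨(z : H), hZQ z.2⟩) θ
  have hbig : ∀ ξ : IrrCharacter Q, a ξ ≠ 0 → p ^ m ≤ a ξ := by
    intro ξ hξ
    have hover : classInner (fun z : Z => (ξ : Q → ℂ) ⟨(z : H), hZQ z.2⟩) θ ≠ 0 := by
      rw [← hin, ha]; exact_mod_cast hξ
    obtain ⟨b, hb, hdecb⟩ :=
      IsChar.exists_decomp_inner (isCharacter_indFun Q (IsIrr.isCharacter ξ.2))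
    have hb0 : ∀ ω : IrrCharacter H, b ω ≠ 0 → (ω : H → ℂ) = χ := by
      intro ω hω
      refine d.eq_of_over ω.2 ?_
      have h := hb ω
      rw [classInner_indFun Q _ (IsIrr.classFun ω.2)] at h
      have h' : classInner (fun x : Q => (ω : H → ℂ) x) (ξ : Q → ℂ) ≠ 0 := by
        rw [← classInner_conj_symm, h, Complex.conj_natCast]
        exact_mod_cast hω
      exact pos_of_constituent (Subgroup.inclusion hZQ) (IsChar.res (IsIrr.isCharacter ω.2) Q) ξ.2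
        h' d.hθ hover
    have h1 := congrFun hdecb 1
    rw [indFun_one_eq, sum_irr_apply, Finset.sum_eq_single (⟨χ, d.hχ⟩ : IrrCharacter H)
      (fun ω _ hω => by
        rcases eq_or_ne (b ω) 0 with h0 | h0
        · rw [h0, Nat.cast_zero, zero_mul]
        · exact absurd (Subtype.ext (hb0 ω h0)) hω)
      (fun h => absurd (Finset.mem_univ _) h), had ξ hξ, hθ1] at h1
    simp only at h1
    rw [show χ 1 = (e : ℂ) * θ 1 by simpa using d.hres 1, ← mul_assoc, ← mul_assoc] at h1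
    have h2 : Q.index * a ξ = b ⟨χ, d.hχ⟩ * e := by
      exact_mod_cast mul_right_cancel₀ (IsIrr.one_ne_zero d.hθ) h1
    have hpe : p ^ m ∣ e := by
      have h3 : (p ^ m) ^ 2 ∣ e ^ 2 := by
        rw [d.he, ← hm, ← Subgroup.relIndex_top_right]
        exact Subgroup.relIndex_mul_relIndex Z Q ⊤ hZQ le_top ▸ dvd_mul_right _ _
      exact (Nat.pow_dvd_pow_iff two_ne_zero).1 h3
    have h4 : p ^ m ∣ Q.index * a ξ := h2 ▸ hpe.mul_left _
    exact Nat.le_of_dvd (Nat.pos_of_ne_zero hξ)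
      (((hp.coprime_iff_not_dvd.2 hQ).pow_left m).dvd_of_dvd_mul_left h4)
  have hrel : (Z.subgroupOf Q).index = (p ^ m) ^ 2 := hm
  rw [hrel] at hsum
  have hsum0 : ∑ ξ : IrrCharacter Q, a ξ ^ 2 ≠ 0 := by
    rw [hsum]; exact pow_ne_zero _ (pow_ne_zero _ hp.ne_zero)
  obtain ⟨ξ₀, -, hξ₀⟩ := Finset.exists_ne_zero_of_sum_ne_zero hsum0
  have hξ₀' : a ξ₀ ≠ 0 := fun h => hξ₀ (by rw [h]; rfl)
  rw [← Finset.add_sum_erase _ _ (Finset.mem_univ ξ₀)] at hsum
  have hb := hbig ξ₀ hξ₀'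
  have hzero : ∀ ξ ∈ Finset.univ.erase ξ₀, a ξ = 0 := by
    intro ξ hξ
    by_contra h0
    have h1 := Finset.single_le_sum (f := fun ξ => a ξ ^ 2) (fun _ _ => Nat.zero_le _) hξ
    have h2 := Nat.pow_le_pow_left hb 2
    have h3 := Nat.pow_le_pow_left (hbig ξ h0) 2
    have h4 : 0 < (p ^ m) ^ 2 := pow_pos (pow_pos hp.pos _) _
    omega
  rw [Finset.sum_eq_zero fun ξ hξ => by rw [hzero ξ hξ]; rfl, add_zero] at hsum
  have hA : a ξ₀ = p ^ m := Nat.pow_left_injective two_ne_zero hsum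
  refine ⟨ξ₀, ξ₀.2, fun z => ?_, fun ξ hξ hne => ?_⟩
  · have hne0 : classInner (fun z : Z.subgroupOf Q => (ξ₀ : Q → ℂ) z) θQ ≠ 0 := by
      rw [ha]; exact_mod_cast hξ₀'
    have h := congrFun (clifford (Z.subgroupOf Q) ξ₀.2 hθQi hne0)
      (⟨⟨(z : H), hZQ z.2⟩, z.2⟩ : Z.subgroupOf Q)
    rw [Pi.smul_apply, Finset.sum_apply, ha, hA, smul_eq_mul] at h
    rw [h, show conjOrbit (Z.subgroupOf Q) θQ = {θQ} from Finset.eq_singleton_iff_unique_mem.2
      ⟨(mem_conjOrbit _).2 ⟨1, conjN_one _ _⟩, fun f hf => by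
        obtain ⟨q, rfl⟩ := (mem_conjOrbit _).1 hf
        exact (mem_inertia _).1 (hinvQ ▸ Subgroup.mem_top q)⟩, Finset.sum_singleton]
  · by_contra hne'
    have h := hzero ⟨ξ, hξ⟩ (Finset.mem_erase.2 ⟨fun h => hne' (congrArg Subtype.val h),
      Finset.mem_univ _⟩)
    rw [← hin, ha ⟨ξ, hξ⟩, h, Nat.cast_zero] at hne
    exact hne rfl

end Cfsg.Agent.Char.RamCompl
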