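import Cfsg.Agent.Lib.Char.BrauerInduction
import Cfsg.Agent.Lib.Char.Clifford
import Cfsg.Agent.Lib.Char.Quotient
import Cfsg.Agent.Lib.Char.RamifiedComplement
import Mathlib.GroupTheory.Sylow

/-!
Detection of invariant characters on `p`-elementary subgroups.
-/

open scoped ComplexConjugate

namespace Cfsg.Agent.Char.DadeElem

open Cfsg Cfsg.Agent.Char

set_option linter.unusedSectionVars false
set_option linter.style.haveILetI false

universe u

variable {G : Type u} [Group G] [Fintype G]

/-- Pairing an induced function with an invariant function on a normal subgroup. -/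
theorem inner_ind_invariant (E N : Subgroup G) [N.Normal] [Fintype N] [Fintype E]
    [Fintype (N.subgroupOf E)] (ψ : E → ℂ) (t : N → ℂ) (ht : ∀ g : G, conjN N g t = t) :
    classInner (fun n : N => indFun E ψ n) t = ((E ⊔ N).index : ℂ) *
      classInner (fun x : N.subgroupOf E => ψ x)
        (fun x : N.subgroupOf E => t ⟨((x : E) : G), x.2⟩) := by
  classical
  have hkey : ∀ x : G, ∑ n : N, extendByZero E ψ (x⁻¹ * n * x) * conj (t n) =
      ∑ z : N.subgroupOf E, ψ z * conj (t ⟨((z : E) : G), z.2⟩) := by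
    intro x
    rw [show ∑ n : N, extendByZero E ψ (x⁻¹ * n * x) * conj (t n) =
        ∑ n : N, extendByZero E ψ n * conj (t n) from
      Fintype.sum_equiv (conjEquivN N x⁻¹).toEquiv _ _ fun n => by
        have h1 : ((conjEquivN N x⁻¹ n : N) : G) = x⁻¹ * n * x := by
          rw [conjEquivN_apply]; simp
        have h2 : t (conjEquivN N x⁻¹ n) = t n := by
          conv_rhs => rw [← ht x⁻¹]
          rw [conjN_eq_comp]
        show _ = extendByZero E ψ ((conjEquivN N x⁻¹ n : N) : G) * conj (t (conjEquivN N x⁻¹ n))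
        rw [h1, h2]]
    rw [← Finset.sum_subset (Finset.subset_univ (Finset.univ.filter fun n : N => (n : G) ∈ E))
      (fun n _ hn => by rw [extendByZero_not_mem _ (by simpa using hn), zero_mul])]
    refine Finset.sum_bij' (fun n hn => (⟨⟨(n : G), (Finset.mem_filter.1 hn).2⟩, n.2⟩ : N.subgroupOf E))
      (fun z _ => (⟨((z : E) : G), z.2⟩ : N)) (fun n _ => Finset.mem_univ _)
      (fun z _ => Finset.mem_filter.2 ⟨Finset.mem_univ _, (z : E).2⟩) (fun n _ => rfl)
      (fun z _ => rfl) (fun n hn => ?_)
    rw [extendByZero_of_mem _ (Finset.mem_filter.1 hn).2]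
  have h1 : ∑ n : N, indFun E ψ n * conj (t n) = (Nat.card E : ℂ)⁻¹ * ((Nat.card G : ℂ) *
      ∑ z : N.subgroupOf E, ψ z * conj (t ⟨((z : E) : G), z.2⟩)) := by
    simp only [indFun]
    rw [Finset.sum_congr rfl fun n _ => mul_assoc _ _ _, ← Finset.mul_sum]
    congr 1
    simp only [Finset.sum_mul]
    rw [Finset.sum_comm, Finset.sum_congr rfl fun x _ => hkey x, Finset.sum_const, Finset.card_univ,
      nsmul_eq_mul, Nat.card_eq_fintype_card (α := G)]
  have hc : Nat.card G * Nat.card (N.subgroupOf E) = (E ⊔ N).index * (Nat.card N * Nat.card E) := by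
    have e1 : Nat.card (N.subgroupOf E) * (N.subgroupOf E).index = Nat.card E :=
      Subgroup.card_mul_index _
    have e2 : N.relIndex (E ⊔ N) * (E ⊔ N).index = N.index :=
      Subgroup.relIndex_mul_index le_sup_right
    rw [sup_comm, Subgroup.relIndex_sup_left] at e2
    rw [← e1, ← N.card_mul_index, ← e2, Subgroup.relIndex, sup_comm]
    ring
  rw [classInner, classInner, h1]
  have hc' : (Nat.card G : ℂ) * (Nat.card (N.subgroupOf E) : ℂ) =
      ((E ⊔ N).index : ℂ) * ((Nat.card N : ℂ) * (Nat.card E : ℂ)) := by exact_mod_cast hc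
  have hN0 : (Nat.card N : ℂ) ≠ 0 := Nat.cast_ne_zero.2 Nat.card_pos.ne'
  have hE0 : (Nat.card E : ℂ) ≠ 0 := Nat.cast_ne_zero.2 Nat.card_pos.ne'
  have hM0 : (Nat.card (N.subgroupOf E) : ℂ) ≠ 0 := Nat.cast_ne_zero.2 Nat.card_pos.ne'
  field_simp
  linear_combination (∑ z : N.subgroupOf E, ψ z * conj (t ⟨((z : E) : G), z.2⟩)) * hc'

/-- An invariant weight without fixed support sums to zero modulo `p`. -/
theorem sum_eq_zero_of_fixed {P : Type u} [Group P] [Finite P] {p : ℕ} [Fact p.Prime]
    (hP : IsPGroup p P) {α : Type u} [Fintype α] [MulAction P α] (w : α → ZMod p)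
    (hw : ∀ (g : P) (x : α), w (g • x) = w x) (hfix : ∀ x : α, (∀ g : P, g • x = x) → w x = 0) :
    ∑ x, w x = 0 := by
  classical
  letI : Setoid α := MulAction.orbitRel P α
  rw [Finset.sum_partition (MulAction.orbitRel P α)]
  refine Finset.sum_eq_zero fun q _ => ?_
  induction q using Quotient.inductionOn' with
  | h x =>
    have hset : ∀ y, y ∈ (Finset.univ.filter fun y : α => Quotient.mk'' y =
        (Quotient.mk'' x : Quotient (MulAction.orbitRel P α))) ↔ y ∈ MulAction.orbit P x := by
      intro y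
      rw [Finset.mem_filter, Quotient.eq'']
      simp [MulAction.orbitRel_apply]
    rw [Finset.sum_congr (Finset.ext fun y => (hset y).trans (Set.mem_toFinset.symm))
      (fun y hy => (show w y = w x by
        obtain ⟨g, rfl⟩ := Set.mem_toFinset.1 hy
        exact hw g x)), Finset.sum_const, nsmul_eq_mul]
    obtain ⟨n, hn⟩ := hP.card_orbit x
    rw [Nat.card_eq_fintype_card, ← Set.toFinset_card] at hn
    rcases Nat.eq_zero_or_pos n with h0 | h0
    · rw [hfix x fun g => ?_, mul_zero]
      rw [h0, pow_zero, Finset.card_eq_one] at hn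
      obtain ⟨a, ha⟩ := hn
      have h1 : g • x ∈ ({a} : Finset α) := ha ▸ Set.mem_toFinset.2 ⟨g, rfl⟩
      have h2 : x ∈ ({a} : Finset α) := ha ▸ Set.mem_toFinset.2 (MulAction.mem_orbit_self x)
      rw [Finset.mem_singleton] at h1 h2
      rw [h1, h2]
    · rw [hn, Nat.cast_pow, ZMod.natCast_self, zero_pow h0.ne', zero_mul]

/-- The local step on a supplement. -/
theorem local_dvd {E : Type u} [Group E] [Fintype E] {p : ℕ} [Fact p.Prime] (M : Subgroup E)
    [M.Normal] [Fintype M] (hidx : ∃ k, M.index = p ^ k) {θ : M → ℂ} (hθ : IsCharacter M θ)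
    (hinv : ∀ g : E, conjN M g θ = θ) {ψ : E → ℂ} (hψ : IsCharacter E ψ)
    (hno : ∀ φ : IrrCharacter M, inertia M (φ : M → ℂ) = ⊤ →
      ∀ a : ℕ, classInner θ φ = a → p ∣ a) :
    ∃ c : ℕ, p ∣ c ∧ classInner (fun x : M => ψ x) (θ * fun x => conj (θ x)) = c := by
  classical
  set f : M → ℂ := (fun x : M => ψ x) * θ with hf
  have hfc : IsCharacter M f := IsChar.mul (IsChar.res hψ M) hθ
  obtain ⟨a, ha, hdec⟩ := IsChar.exists_decomp_inner hθ
  choose b hb using fun φ : IrrCharacter M => IsChar.classInner_nat hfc (IsIrr.isCharacter φ.2)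
  refine ⟨∑ φ, a φ * b φ, ?_, ?_⟩
  · obtain ⟨S⟩ : Nonempty (Sylow p E) := inferInstance
    letI : MulAction (S : Subgroup E) (IrrCharacter M) :=
      { smul := fun g φ => ⟨conjN M ((g : E)⁻¹) φ, IsIrr.conjN M φ.2 _⟩
        one_smul := fun φ => Subtype.ext (by
          show conjN M (((1 : (S : Subgroup E)) : E)⁻¹) (φ : M → ℂ) = φ
          rw [Subgroup.coe_one, inv_one, conjN_one])
        mul_smul := fun g h φ => Subtype.ext (by
          show conjN M (((g * h : (S : Subgroup E)) : E)⁻¹) (φ : M → ℂ) =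
            conjN M ((g : E)⁻¹) (conjN M ((h : E)⁻¹) (φ : M → ℂ))
          rw [Subgroup.coe_mul, mul_inv_rev, conjN_mul]) }
    rw [← CharP.cast_eq_zero_iff (ZMod p) p, Nat.cast_sum]
    refine sum_eq_zero_of_fixed S.2 _ (fun g φ => ?_) fun φ hφ => ?_
    · have h1 : a (g • φ) = a φ := by
        have : classInner θ ((g • φ : IrrCharacter M) : M → ℂ) = classInner θ (φ : M → ℂ) := by
          show classInner θ (conjN M ((g : E)⁻¹) φ) = _
          conv_lhs => rw [← hinv ((g : E)⁻¹)]
          exact classInner_conjN M _ _ _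
        rw [ha, ha] at this
        exact_mod_cast this
      have h2 : b (g • φ) = b φ := by
        have : classInner f ((g • φ : IrrCharacter M) : M → ℂ) = classInner f (φ : M → ℂ) := by
          show classInner f (conjN M ((g : E)⁻¹) φ) = _
          have hfi : conjN M ((g : E)⁻¹) f = f := by
            funext x
            rw [hf, conjN_apply, Pi.mul_apply, Pi.mul_apply]
            refine congrArg₂ (· * ·) ?_ ?_
            · exact IsChar.classFun hψ (x : E) _
            · have := congrFun (hinv ((g : E)⁻¹)) x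
              rwa [conjN_apply] at this
          conv_lhs => rw [← hfi]
          exact classInner_conjN M _ _ _
        rw [hb, hb] at this
        exact_mod_cast this
      rw [h1, h2]
    · have hfull : inertia M (φ : M → ℂ) = ⊤ := by
        have hM : M ≤ inertia M (φ : M → ℂ) := le_inertia M (IsIrr.classFun φ.2)
        have hS : (S : Subgroup E) ≤ inertia M (φ : M → ℂ) := fun g hg => by
          rw [mem_inertia]
          have := congrArg Subtype.val (hφ (⟨g, hg⟩⁻¹ : (S : Subgroup E)))
          change conjN M (((⟨g, hg⟩⁻¹ : (S : Subgroup E)) : E)⁻¹) (φ : M → ℂ) = _ at this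
          simpa using this
        obtain ⟨k, hk⟩ := hidx
        have h1 : (inertia M (φ : M → ℂ)).index ∣ p ^ k := hk ▸ Subgroup.index_dvd_of_le hM
        have h2 : (inertia M (φ : M → ℂ)).index ∣ (S : Subgroup E).index :=
          Subgroup.index_dvd_of_le hS
        refine Subgroup.index_eq_one.1 (Nat.eq_one_of_dvd_coprimes ?_ h1 h2)
        exact Nat.Coprime.pow_left k
          ((Fact.out : p.Prime).coprime_iff_not_dvd.2 S.not_dvd_index)
      rw [Nat.cast_mul, (CharP.cast_eq_zero_iff (ZMod p) p _).2 (hno φ hfull _ (ha φ)), zero_mul]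
  · rw [show classInner (fun x : M => ψ x) (θ * fun x => conj (θ x)) = classInner f θ by
      simp only [classInner, hf, Pi.mul_apply, map_mul, Complex.conj_conj]
      congr 1
      exact Finset.sum_congr rfl fun x _ => by ring]
    conv_lhs => rw [hdec]
    rw [classInner_sum_right]
    push_cast
    exact Finset.sum_congr rfl fun φ _ => by
      rw [classInner_smul_right, hb, Complex.conj_natCast]

/-- Detection. -/
theorem detect (p : ℕ) [Fact p.Prime] (N : Subgroup G) [N.Normal] [Fintype N]
    (hind : ∃ k : ℕ, N.index = p ^ k) {θ : N → ℂ} (hθ : IsIrrCharacter N θ)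
    (hinv : ∀ g : G, conjN N g θ = θ) :
    ∃ (E : Subgroup G) (φ : N.subgroupOf E → ℂ), IsElementary p E ∧ E ⊔ N = ⊤ ∧
      IsIrrCharacter (N.subgroupOf E) φ ∧ inertia (N.subgroupOf E) φ = ⊤ ∧
      ∃ (_ : Fintype (N.subgroupOf E)) (a : ℕ), ¬ p ∣ a ∧
        classInner (fun x : N.subgroupOf E => θ ⟨((x : E) : G), x.2⟩) φ = a := by
  classical
  by_contra hno
  obtain ⟨m, hm, hmem⟩ := Brauer.local_induction (G := G) p
  set t : N → ℂ := θ * fun n => conj (θ n) with ht
  have ht' : ∀ g : G, conjN N g t = t := fun g => funext fun n => by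
    rw [ht, conjN_apply, Pi.mul_apply, Pi.mul_apply]
    have := congrFun (hinv g) n
    rw [conjN_apply] at this
    rw [this]
  suffices H : ∀ f ∈ Brauer.indSpan (fun E : Subgroup G => IsElementary p E),
      ∃ z : ℤ, classInner (fun n : N => f n) t = ((p : ℤ) * z : ℤ) by
    obtain ⟨z, hz⟩ := H _ hmem
    have h1 : classInner (fun _ : N => (m : ℂ)) t = (m : ℂ) := by
      have h2 := classInner_self_irr hθ
      rw [classInner] at h2 ⊢
      rw [Finset.sum_congr rfl fun n _ => (show (m : ℂ) * conj (t n) =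
        (m : ℂ) * (θ n * conj (θ n)) by
          rw [ht, Pi.mul_apply, map_mul, Complex.conj_conj]; ring), ← Finset.mul_sum,
        mul_left_comm, h2, mul_one]
    rw [h1] at hz
    exact hm ⟨z, by exact_mod_cast hz⟩
  intro f hf
  induction hf using AddSubgroup.closure_induction with
  | mem f hf =>
    obtain ⟨E, hE, ψ, hψ, rfl⟩ := hf
    letI := Fintype.ofFinite E
    letI := Fintype.ofFinite (N.subgroupOf E)
    haveI : (N.subgroupOf E).Normal := Subgroup.Normal.subgroupOf inferInstance _
    rw [inner_ind_invariant E N ψ t ht']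
    set θE : N.subgroupOf E → ℂ := fun x => θ ⟨((x : E) : G), x.2⟩ with hθE
    have hθEc : IsCharacter (N.subgroupOf E) θE := IsChar.comp
      ({ toFun := fun x => ⟨((x : E) : G), x.2⟩, map_one' := rfl, map_mul' := fun _ _ => rfl } :
        N.subgroupOf E →* N) (IsIrr.isCharacter hθ)
    by_cases htop : E ⊔ N = ⊤
    · obtain ⟨c, ⟨d, rfl⟩, hc'⟩ := local_dvd (p := p) (N.subgroupOf E) (by
        obtain ⟨k, hk⟩ := hind
        refine ⟨k, ?_⟩
        rw [← hk]
        show N.relIndex E = N.index
        rw [← Subgroup.relIndex_sup_left (K := N) (H := E), sup_comm, htop,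
          Subgroup.relIndex_top_right])
        hθEc (fun g => funext fun x => by
          rw [conjN_apply]
          have := congrFun (hinv (g : G)) ⟨((x : E) : G), x.2⟩
          rw [conjN_apply] at this
          exact this) hψ
        (fun φ hφ a ha => by
          by_contra hpa
          exact hno ⟨E, φ, hE, htop, φ.2, hφ, inferInstance, a, hpa, ha⟩)
      refine ⟨d, ?_⟩
      rw [htop, Subgroup.index_top, Nat.cast_one, one_mul]
      refine hc'.trans ?_
      push_cast
      ring
    · obtain ⟨k, hk⟩ := hind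
      have h1 : (E ⊔ N).index ∣ p ^ k := hk ▸ Subgroup.index_dvd_of_le le_sup_right
      obtain ⟨j, -, hj⟩ := (Nat.dvd_prime_pow Fact.out).1 h1
      have hj0 : j ≠ 0 := fun h => htop (Subgroup.index_eq_one.1 (by rw [hj, h, pow_zero]))
      obtain ⟨c, hc⟩ := IsChar.classInner_nat (IsChar.res hψ (N.subgroupOf E))
        (IsChar.mul hθEc (IsChar.conj hθEc))
      obtain ⟨i, rfl⟩ := Nat.exists_eq_succ_of_ne_zero hj0
      refine ⟨(p : ℤ) ^ i * c, ?_⟩
      rw [show (fun x : N.subgroupOf E => t ⟨((x : E) : G), x.2⟩) =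
        θE * fun x => conj (θE x) from rfl, hc, hj]
      push_cast
      rw [Nat.succ_eq_add_one, pow_succ', mul_assoc]
  | zero => exact ⟨0, by
      rw [mul_zero, Int.cast_zero]
      exact classInner_zero_left t⟩
  | add u v _ _ hu hv =>
    obtain ⟨a, ha⟩ := hu
    obtain ⟨b, hb⟩ := hv
    refine ⟨a + b, ?_⟩
    rw [show (fun n : N => (u + v) n) = (fun n : N => u n) + fun n : N => v n from rfl,
      classInner_add_left, ha, hb]
    push_cast
    ring
  | neg u _ hu =>
    obtain ⟨a, ha⟩ := hu
    refine ⟨-a, ?_⟩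
    rw [show (fun n : N => (-u) n) = -(fun n : N => u n) from rfl, classInner_neg_left, ha]
    push_cast
    ring

end Cfsg.Agent.Char.DadeElem
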