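import Cfsg.Agent.Lib.Char.DadeElementary
import Cfsg.Agent.Lib.Char.ExtendMain
import Mathlib.GroupTheory.FiniteAbelian.Duality
import Mathlib.GroupTheory.Abelianization.Defs

/-!
Extension of invariant characters when a Sylow intersection is central.
-/

open scoped ComplexConjugate commutatorElement

namespace Cfsg.Agent.Char.DadeExt

open Cfsg Cfsg.Agent.Char

set_option linter.unusedSectionVars false
set_option linter.style.haveILetI false

universe u

/-- Extend a homomorphism to units of the complex numbers along a map of abelian groups. -/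
theorem exists_lift {A B : Type u} [Group A] [CommGroup B] [Finite B] (f : A →* B) (l : A →* ℂˣ)
    (h : ∀ a, f a = 1 → l a = 1) : ∃ L : B →* ℂˣ, ∀ a, L (f a) = l a := by
  let e := (QuotientGroup.quotientKerEquivRange f).symm
  let l' : A ⧸ f.ker →* ℂˣ := QuotientGroup.lift f.ker l fun a ha => h a (MonoidHom.mem_ker.1 ha)
  obtain ⟨L, hL⟩ := MonoidHom.domRestrict_surjective (M := ℂ) f.range (l'.comp e.toMonoidHom)
  refine ⟨L, fun a => ?_⟩
  have h1 := DFunLike.congr_fun hL ⟨f a, a, rfl⟩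
  refine h1.trans ?_
  show l' (e ⟨f a, a, rfl⟩) = l a
  rw [show e ⟨f a, a, rfl⟩ = (a : A ⧸ f.ker) from
    (QuotientGroup.quotientKerEquivRange f).symm_apply_eq.2 rfl]
  rfl

variable {G : Type u} [Group G] [Fintype G]

theorem main (p : ℕ) [Fact p.Prime] (N : Subgroup G) [N.Normal] [Fintype N]
    (hind : ∃ k : ℕ, N.index = p ^ k) (P : Sylow p G)
    (hcent : ∀ x ∈ (P : Subgroup G) ⊓ N, ∀ y ∈ (P : Subgroup G), x * y = y * x)
    (hlin : ∀ l : ↥((P : Subgroup G) ⊓ N) →* ℂˣ, ∃ μ : (P : Subgroup G) →* ℂˣ,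
      ∀ x : ↥((P : Subgroup G) ⊓ N), μ ⟨(x : G), x.2.1⟩ = l x)
    {θ : N → ℂ} (hθ : IsIrrCharacter N θ) (hinv : ∀ g : G, conjN N g θ = θ) :
    ∃ χ : G → ℂ, IsIrrCharacter G χ ∧ ∀ n : N, χ n = θ n := by
  classical
  have hp : p.Prime := Fact.out
  obtain ⟨E, φ, hE, htop, hφ, -, inst, a, ha, hval⟩ := DadeElem.detect p N hind hθ hinv
  haveI : (N.subgroupOf E).Normal := Subgroup.Normal.subgroupOf inferInstance _
  obtain ⟨x, hxc, hxp, j, hj⟩ := hE
  have hCM : Subgroup.zpowers x ≤ (N.subgroupOf E) := by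
    rw [Subgroup.zpowers_le, Subgroup.mem_subgroupOf, ← QuotientGroup.eq_one_iff (N := N),
      ← orderOf_eq_one_iff]
    obtain ⟨k, hk⟩ := hind
    refine Nat.eq_one_of_dvd_coprimes (hxp.pow_right k) ?_ ?_
    · refine (orderOf_map_dvd (QuotientGroup.mk' N) (x : G)).trans ?_
      rw [Subgroup.orderOf_coe]
    · rw [← hk, Subgroup.index_eq_card]
      exact orderOf_dvd_natCard _
  obtain ⟨S⟩ : Nonempty (Sylow p E) := inferInstance
  have hCS : Subgroup.zpowers x ⊔ (S : Subgroup E) = ⊤ := by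
    refine Subgroup.index_eq_one.1 (Nat.eq_one_of_dvd_coprimes ?_
      (hj.symm ▸ (Subgroup.index_dvd_of_le le_sup_left :
        (Subgroup.zpowers x ⊔ (S : Subgroup E)).index ∣ (Subgroup.zpowers x).index))
      (Subgroup.index_dvd_of_le le_sup_right))
    exact Nat.Coprime.pow_left j (hp.coprime_iff_not_dvd.2 S.not_dvd_index)
  haveI : (Subgroup.zpowers x).Normal := ⟨fun z hz y => by
    obtain ⟨k, rfl⟩ := hz
    have hc : Commute y (x ^ k) := Commute.zpow_right (Subgroup.mem_center_iff.1 hxc y) k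
    show y * x ^ k * y⁻¹ ∈ _
    rw [hc.eq, mul_inv_cancel_right]
    exact ⟨k, rfl⟩⟩
  -- into the Sylow subgroup
  obtain ⟨Q, hQ⟩ := (S.2.map E.subtype).exists_le_sylow
  obtain ⟨g, hg⟩ := MulAction.exists_smul_eq G Q P
  let j' : (S : Subgroup E) →* (P : Subgroup G) :=
    { toFun := fun s => ⟨g * ((s : E) : G) * g⁻¹, by
        rw [← hg]
        exact ⟨((s : E) : G), hQ ⟨s, s.2, rfl⟩, rfl⟩⟩
      map_one' := Subtype.ext (by simp)
      map_mul' := fun s t => Subtype.ext (by
        show g * (((s * t : (S : Subgroup E)) : E) : G) * g⁻¹ =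
          g * ((s : E) : G) * g⁻¹ * (g * ((t : E) : G) * g⁻¹)
        rw [Subgroup.coe_mul, Subgroup.coe_mul]
        group) }
  have hj'inj : Function.Injective j' := fun s t h => by
    have := congrArg (fun z : (P : Subgroup G) => (z : G)) h
    exact Subtype.ext (Subtype.ext (mul_left_cancel (mul_right_cancel this)))
  have hj'N : ∀ s : (S : Subgroup E), (s : E) ∈ (N.subgroupOf E) → ((j' s : (P : Subgroup G)) : G) ∈ N :=
    fun s hs => (inferInstance : N.Normal).conj_mem _ hs g
  -- the intersection is central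
  have hMc : ∀ y ∈ (N.subgroupOf E), y ∈ Subgroup.center E := by
    intro y hy
    have hy' : y ∈ Subgroup.zpowers x ⊔ (S : Subgroup E) := hCS ▸ Subgroup.mem_top y
    obtain ⟨c, hc, s, hs, rfl⟩ := Subgroup.mem_sup_of_normal_left.1 hy'
    have hsM : s ∈ (N.subgroupOf E) := by
      have := mul_mem (inv_mem (hCM hc)) hy
      simpa using this
    refine mul_mem ((Subgroup.zpowers_le.2 hxc) hc) (Subgroup.mem_center_iff.2 fun z => ?_)
    have hz : z ∈ Subgroup.centralizer ({s} : Set E) := by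
      have hle : Subgroup.zpowers x ⊔ (S : Subgroup E) ≤ Subgroup.centralizer ({s} : Set E) := by
        refine sup_le ?_ fun t ht => ?_
        · rw [Subgroup.zpowers_le, Subgroup.mem_centralizer_iff]
          rintro _ rfl
          exact Subgroup.mem_center_iff.1 hxc _
        · rw [Subgroup.mem_centralizer_iff]
          rintro _ rfl
          have h1 := hcent _ ⟨(j' ⟨_, hs⟩).2, hj'N ⟨_, hs⟩ hsM⟩ _ (j' ⟨t, ht⟩).2
          exact congrArg Subtype.val (hj'inj (a₁ := ⟨_, hs⟩ * ⟨t, ht⟩) (a₂ := ⟨t, ht⟩ * ⟨_, hs⟩)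
            (by rw [map_mul, map_mul]; exact Subtype.ext h1))
      exact hle (hCS ▸ Subgroup.mem_top z)
    exact ((Subgroup.mem_centralizer_iff.1 hz) s rfl).symm
  have hMab : ∀ y z : (N.subgroupOf E), y * z = z * y := fun y z =>
    Subtype.ext ((Subgroup.mem_center_iff.1 (hMc z z.2)) y)
  obtain ⟨l, hl⟩ := linearHom_of_isCharacter (IsIrr.isCharacter hφ) (IsIrr.one_of_comm hMab hφ)
  have hl' : ∀ y : (N.subgroupOf E), φ y = (l y : ℂ) := fun y => by
    exact congrFun hl y
  -- a linear character of the Sylow subgroup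
  set D := (P : Subgroup G) ⊓ N with hD
  letI : CommGroup D :=
    { (inferInstance : Group D) with
      mul_comm := fun y z => Subtype.ext (hcent y y.2 z z.2.1) }
  let i : ((N.subgroupOf E).subgroupOf (S : Subgroup E)) →* D :=
    { toFun := fun s => ⟨((j' (s : (S : Subgroup E))) : G), (j' _).2, hj'N _ s.2⟩
      map_one' := Subtype.ext (show ((j' 1 : (P : Subgroup G)) : G) = 1 by rw [map_one]; rfl)
      map_mul' := fun s t => Subtype.ext (show ((j' (s.1 * t.1) : (P : Subgroup G)) : G) =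
        (j' s.1 : G) * (j' t.1 : G) by rw [map_mul]; rfl) }
  let lS : ((N.subgroupOf E).subgroupOf (S : Subgroup E)) →* ℂˣ :=
    l.comp { toFun := fun s => (⟨((s : (S : Subgroup E)) : E), s.2⟩ : (N.subgroupOf E))
             map_one' := rfl
             map_mul' := fun _ _ => rfl }
  obtain ⟨lD, hlD⟩ := exists_lift i lS fun s hs => by
    have h1 : (s : (S : Subgroup E)) = 1 := hj'inj (Subtype.ext (by
      rw [map_one]
      exact congrArg (fun d : D => (d : G)) hs))
    rw [show s = 1 from Subtype.ext h1, map_one]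
  obtain ⟨μ, hμ⟩ := hlin lD
  -- trivial on the commutators
  have hcomm : commutator E ≤ ⁅(S : Subgroup E), (S : Subgroup E)⁆ := by
    rw [commutator_def, Subgroup.commutator_le]
    intro y _ z _
    obtain ⟨c, hc, s, hs, rfl⟩ :=
      Subgroup.mem_sup_of_normal_left.1 (hCS ▸ Subgroup.mem_top y : y ∈ Subgroup.zpowers x ⊔ (S : Subgroup E))
    obtain ⟨d, hd, t, ht, rfl⟩ :=
      Subgroup.mem_sup_of_normal_left.1 (hCS ▸ Subgroup.mem_top z : z ∈ Subgroup.zpowers x ⊔ (S : Subgroup E))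
    have hcz : ∀ u, u * c = c * u := Subgroup.mem_center_iff.1 ((Subgroup.zpowers_le.2 hxc) hc)
    have hdz : ∀ u, u * d = d * u := Subgroup.mem_center_iff.1 ((Subgroup.zpowers_le.2 hxc) hd)
    have e : ⁅c * s, d * t⁆ = ⁅s, t⁆ := by
      simp only [commutatorElement_def]
      calc c * s * (d * t) * (c * s)⁻¹ * (d * t)⁻¹
          = c * (s * d) * t * s⁻¹ * (c⁻¹ * t⁻¹) * d⁻¹ := by group
        _ = c * (d * s) * t * s⁻¹ * (t⁻¹ * c⁻¹) * d⁻¹ := by
            rw [hdz s, show c⁻¹ * t⁻¹ = t⁻¹ * c⁻¹ by rw [← mul_inv_rev, ← mul_inv_rev, hcz t]]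
        _ = c * d * (s * t * s⁻¹ * t⁻¹) * c⁻¹ * d⁻¹ := by group
        _ = (s * t * s⁻¹ * t⁻¹) * (c * d) * c⁻¹ * d⁻¹ := by
            rw [(Commute.mul_left (hcz (s * t * s⁻¹ * t⁻¹)).symm
              (hdz (s * t * s⁻¹ * t⁻¹)).symm).eq]
        _ = (s * t * s⁻¹ * t⁻¹) * (d * c) * c⁻¹ * d⁻¹ := by rw [hdz c]
        _ = s * t * s⁻¹ * t⁻¹ := by group
    rw [e]
    exact Subgroup.commutator_mem_commutator hs ht
  obtain ⟨Λ, hΛ⟩ := exists_lift ((Abelianization.of : E →* Abelianization E).comp (N.subgroupOf E).subtype) l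
    fun y hy => by
      have hy1 : (y : E) ∈ commutator E :=
        (QuotientGroup.eq_one_iff (y : E)).1 hy
      have hy2 := hcomm hy1
      have hyS : (y : E) ∈ (S : Subgroup E) := Subgroup.commutator_le_self _ hy2
      have h2 : lD (i ⟨⟨(y : E), hyS⟩, y.2⟩) = l y := hlD _
      rw [← h2, ← hμ]
      show μ (j' ⟨(y : E), hyS⟩) = 1
      have hy3 : (⟨(y : E), hyS⟩ : (S : Subgroup E)) ∈ commutator (S : Subgroup E) := by
        rw [← Subgroup.map_subtype_commutator] at hy2
        obtain ⟨z, hz, hzy⟩ := hy2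
        rwa [show (⟨(y : E), hyS⟩ : (S : Subgroup E)) = z from Subtype.ext hzy.symm]
      exact MonoidHom.mem_ker.1 (Abelianization.commutator_subset_ker (μ.comp j') hy3)
  set φh : E → ℂ := fun y => ((Λ (Abelianization.of y) : ℂˣ) : ℂ) with hφh
  have hφhc : IsCharacter E φh := IsIrr.isCharacter (isIrr_linear (Λ.comp Abelianization.of))
  have hφhres : (fun y : (N.subgroupOf E) => φh y) = φ := funext fun y => by rw [hl' y, hφh]; exact congrArg _ (hΛ y)
  letI := Fintype.ofFinite E
  -- constituents of the induced character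
  set ω := indFun E φh with hω
  have hinner : classInner (fun n : N => ω n) θ = a := by
    rw [hω, DadeElem.inner_ind_invariant E N φh θ hinv, htop, Subgroup.index_top, Nat.cast_one,
      one_mul, show (fun y : (N.subgroupOf E) => φh y) = φ from hφhres, ← classInner_conj_symm, hval,
      Complex.conj_natCast]
  obtain ⟨b, -, hdec⟩ := IsChar.exists_decomp_inner (isCharacter_indFun E hφhc : IsCharacter G ω)
  choose c hc using fun χ : IrrCharacter G =>
    IsChar.classInner_nat (IsChar.res (IsIrr.isCharacter χ.2) N) (IsIrr.isCharacter hθ)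
  have hsum : ∑ χ : IrrCharacter G, b χ * c χ = a := by
    have e : (fun n : N => ω n) = ∑ χ : IrrCharacter G, (b χ : ℂ) • fun n : N => (χ : G → ℂ) n := by
      funext n
      show indFun E φh (n : G) = _
      rw [congrFun hdec (n : G)]
      simp [Finset.sum_apply]
    rw [e, classInner_sum_left] at hinner
    simp only [classInner_smul_left, hc] at hinner
    exact_mod_cast hinner
  obtain ⟨χ, hχ⟩ : ∃ χ : IrrCharacter G, ¬ p ∣ c χ := by
    by_contra hall
    push Not at hall
    exact ha (hsum ▸ Finset.dvd_sum fun χ _ => (hall χ).mul_left _)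
  have hne : classInner (fun n : N => (χ : G → ℂ) n) θ ≠ 0 := by
    rw [hc]; exact Nat.cast_ne_zero.2 fun h => hχ (h ▸ dvd_zero p)
  obtain ⟨e, he, hed⟩ := Ext.ratio_dvd_index' χ.2 hθ hne
  have hI : inertia N θ = ⊤ := eq_top_iff.2 fun g _ => (mem_inertia N).2 (hinv g)
  have h1 := clifford_one N χ.2 hθ hne
  rw [hI, Subgroup.index_top, Nat.cast_one, mul_one, hc, he] at h1
  have hec : e = c χ := by exact_mod_cast mul_right_cancel₀ (IsIrr.one_ne_zero hθ) h1
  have hc1 : c χ = 1 := by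
    obtain ⟨k, hk⟩ := hind
    obtain ⟨i, -, hi⟩ := (Nat.dvd_prime_pow hp).1 (hk ▸ hec ▸ hed)
    rcases Nat.eq_zero_or_pos i with h0 | h0
    · rw [hi, h0, pow_zero]
    · exact absurd (hi ▸ dvd_pow_self p h0.ne') hχ
  refine ⟨χ, χ.2, fun n => ?_⟩
  have h2 := congrFun (clifford N χ.2 hθ hne) n
  rw [hc, hc1, Nat.cast_one, one_smul, show conjOrbit N θ = {θ} from
    Finset.eq_singleton_iff_unique_mem.2 ⟨(mem_conjOrbit _).2 ⟨1, conjN_one _ _⟩, fun f hf => by
      obtain ⟨q, rfl⟩ := (mem_conjOrbit _).1 hf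
      exact hinv q⟩, Finset.sum_singleton] at h2
  exact h2

end Cfsg.Agent.Char.DadeExt
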