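import Cfsg.Agent.Lib.Char.Dade
import Cfsg.Agent.Lib.Char.Kernel

/-!
The Dade map carries generalised characters vanishing off `A` to generalised characters.
-/

namespace Cfsg.Agent.Char.Dade

open scoped ComplexConjugate
open Cfsg

universe u

variable {G : Type u} [Group G] {A : Set G} {L : Subgroup G} {H : G → Subgroup G}

/-- Common part of the `H b`, `b ∈ B`. -/
def HB (H : G → Subgroup G) (B : Finset G) : Subgroup G := ⨅ b ∈ B, H b

theorem mem_HB {B : Finset G} {u : G} : u ∈ HB H B ↔ ∀ b ∈ B, u ∈ H b := by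
  simp [HB, Subgroup.mem_iInf]

theorem HB_singleton (a : G) : HB H {a} = H a := by
  simp [HB]

variable [Fintype G]

open Classical in
/-- Elements of `L` normalising `B`. -/
def NB (L : Subgroup G) (B : Finset G) : Subgroup G where
  carrier := {x | x ∈ L ∧ B.image (fun b => x * b * x⁻¹) = B}
  one_mem' := ⟨L.one_mem, by simp⟩
  mul_mem' {x y} hx hy := ⟨L.mul_mem hx.1 hy.1, by
    conv_rhs => rw [← hx.2, ← hy.2]
    rw [Finset.image_image]
    exact Finset.image_congr fun b _ => by simp [mul_assoc]⟩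
  inv_mem' {x} hx := ⟨L.inv_mem hx.1, by
    conv_lhs => rw [← hx.2]
    rw [Finset.image_image]
    simp [Function.comp_def, mul_assoc]⟩

theorem NB_conj_mem {B : Finset G} {x b : G} (hx : x ∈ NB L B) (hb : b ∈ B) :
    x * b * x⁻¹ ∈ B := by
  classical
  have := Finset.mem_image_of_mem (fun b => x * b * x⁻¹) hb
  rwa [hx.2] at this

theorem conj_HB (hD : DadeHypothesis A L H) {B : Finset G} (hB : ↑B ⊆ A) {x u : G}
    (hx : x ∈ NB L B) (hu : u ∈ HB H B) : x * u * x⁻¹ ∈ HB H B := by
  rw [mem_HB] at hu ⊢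
  intro b hb
  have hb' := NB_conj_mem ((NB L B).inv_mem hx) hb
  simp only [inv_inv] at hb'
  have := conj_mem_H hD (hB hb') hx.1 (hu _ hb')
  simpa [mul_assoc] using this

theorem NB_inf_HB (hD : DadeHypothesis A L H) {B : Finset G} (hB : ↑B ⊆ A) (hne : B.Nonempty)
    {x : G} (hx : x ∈ NB L B) (hu : x ∈ HB H B) : x = 1 := by
  obtain ⟨b, hb⟩ := hne
  have h : x ∈ H b ⊓ (L ⊓ Subgroup.centralizer ({b} : Set G)) :=
    ⟨mem_HB.mp hu b hb, hx.1, hD.le_centralizer b (hB hb) (mem_HB.mp hu b hb)⟩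
  rwa [hD.inf_eq_bot b (hB hb), Subgroup.mem_bot] at h

/-- The semidirect product `N_L(B) H(B)`. -/
def MB (hD : DadeHypothesis A L H) {B : Finset G} (hB : ↑B ⊆ A) : Subgroup G where
  carrier := {z | ∃ l ∈ NB L B, ∃ u ∈ HB H B, z = l * u}
  one_mem' := ⟨1, one_mem _, 1, one_mem _, by simp⟩
  mul_mem' := by
    rintro _ _ ⟨l, hl, u, hu, rfl⟩ ⟨m, hm, v, hv, rfl⟩
    refine ⟨l * m, mul_mem hl hm, m⁻¹ * u * m * v, mul_mem ?_ hv, by group⟩
    simpa using conj_HB hD hB (inv_mem hm) hu
  inv_mem' := by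
    rintro _ ⟨l, hl, u, hu, rfl⟩
    exact ⟨l⁻¹, inv_mem hl, l * u⁻¹ * l⁻¹, conj_HB hD hB hl (inv_mem hu), by group⟩

theorem decomp_unique (hD : DadeHypothesis A L H) {B : Finset G} (hB : ↑B ⊆ A)
    (hne : B.Nonempty) {l m u v : G} (hl : l ∈ NB L B) (hm : m ∈ NB L B) (hu : u ∈ HB H B)
    (hv : v ∈ HB H B) (e : l * u = m * v) : l = m ∧ u = v := by
  have e2 : m⁻¹ * l = v * u⁻¹ := by
    calc m⁻¹ * l = m⁻¹ * (l * u) * u⁻¹ := by group
      _ = _ := by rw [e]; group
  have h1 := NB_inf_HB hD hB hne (mul_mem (inv_mem hm) hl) (e2 ▸ mul_mem hv (inv_mem hu))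
  rw [inv_mul_eq_one] at h1
  subst h1
  exact ⟨rfl, mul_left_cancel e⟩

/-- Projection of `N_L(B) H(B)` onto `L`. -/
noncomputable def projL (hD : DadeHypothesis A L H) {B : Finset G} (hB : ↑B ⊆ A)
    (hne : B.Nonempty) : MB hD hB →* L where
  toFun z := ⟨z.2.choose, z.2.choose_spec.1.1⟩
  map_one' := by
    apply Subtype.ext
    obtain ⟨hl, u, hu, e⟩ := (1 : MB hD hB).2.choose_spec
    exact (decomp_unique hD hB hne hl (one_mem _) hu (one_mem _) (by rw [← e]; simp)).1
  map_mul' z w := by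
    apply Subtype.ext
    obtain ⟨hp, r, hr, e⟩ := (z * w).2.choose_spec
    obtain ⟨hl, u, hu, e1⟩ := z.2.choose_spec
    obtain ⟨hm, v, hv, e2⟩ := w.2.choose_spec
    set l := z.2.choose
    set m := w.2.choose
    refine (decomp_unique hD hB hne hp (mul_mem hl hm) hr
      (mul_mem (by simpa using conj_HB hD hB (inv_mem hm) hu : m⁻¹ * u * m ∈ HB H B) hv) ?_).1
    rw [← e]
    show (z : G) * (w : G) = _
    rw [e1, e2]
    group

theorem projL_apply (hD : DadeHypothesis A L H) {B : Finset G} (hB : ↑B ⊆ A) (hne : B.Nonempty)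
    (z : MB hD hB) {l u : G} (hl : l ∈ NB L B) (hu : u ∈ HB H B) (e : (z : G) = l * u) :
    ((projL hD hB hne z : L) : G) = l := by
  obtain ⟨hl', u', hu', e'⟩ := z.2.choose_spec
  exact (decomp_unique hD hB hne hl' hl hu' hu (by rw [← e', e])).1

theorem card_MB (hD : DadeHypothesis A L H) {B : Finset G} (hB : ↑B ⊆ A) (hne : B.Nonempty) :
    Nat.card (MB hD hB) = Nat.card (NB L B) * Nat.card (HB H B) := by
  rw [← Nat.card_prod]
  refine (Nat.card_congr (Equiv.ofBijective (fun p : NB L B × HB H B =>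
    (⟨p.1 * p.2, p.1, p.1.2, p.2, p.2.2, rfl⟩ : MB hD hB)) ⟨?_, ?_⟩)).symm
  · rintro ⟨l, u⟩ ⟨m, v⟩ e
    obtain ⟨h1, h2⟩ := decomp_unique hD hB hne l.2 m.2 u.2 v.2 (congrArg Subtype.val e)
    exact Prod.ext (Subtype.ext h1) (Subtype.ext h2)
  · rintro ⟨z, l, hl, u, hu, rfl⟩
    exact ⟨(⟨l, hl⟩, ⟨u, hu⟩), rfl⟩

open Classical in
/-- The contribution of `B` at `g`: a sum over conjugators, `N_L(B)` and `H(B)`. -/
noncomputable def term (L : Subgroup G) (H : G → Subgroup G) (α' : G → ℂ) (B : Finset G)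
    (g : G) : ℂ :=
  (Nat.card (HB H B) : ℂ)⁻¹ * ∑ x : G, ∑ l : NB L B, ∑ u : HB H B,
    if x⁻¹ * g * x = (l : G) * u then α' l else 0

open Classical in
theorem term_eq_indFun (hD : DadeHypothesis A L H) {B : Finset G} (hB : ↑B ⊆ A)
    (hne : B.Nonempty) (α : L → ℂ) (g : G) :
    term L H (extendByZero L α) B g =
      (Nat.card (NB L B) : ℂ) * indFun (MB hD hB) (fun z => α (projL hD hB hne z)) g := by
  simp only [term, indFun, card_MB hD hB hne, Nat.cast_mul, mul_inv, ← mul_assoc,
    mul_inv_cancel₀ (Nat.cast_ne_zero.mpr Nat.card_pos.ne' : (Nat.card (NB L B) : ℂ) ≠ 0), one_mul]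
  congr 1
  refine Finset.sum_congr rfl fun x _ => ?_
  by_cases hm : x⁻¹ * g * x ∈ MB hD hB
  · rw [extendByZero_of_mem _ hm]
    obtain ⟨l, hl, u, hu, e⟩ := hm
    have hp := projL_apply hD hB hne ⟨x⁻¹ * g * x, l, hl, u, hu, e⟩ hl hu e
    rw [Finset.sum_eq_single (⟨l, hl⟩ : NB L B), Finset.sum_eq_single (⟨u, hu⟩ : HB H B), if_pos e]
    · show extendByZero L α l = _
      conv_lhs => rw [← hp]
      exact extendByZero_apply _ _
    · intro v _ hv
      rw [if_neg fun e' => hv (Subtype.ext (decomp_unique hD hB hne hl hl v.2 hu (e'.symm.trans e)).2)]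
    · simp
    · intro m _ hm'
      refine Finset.sum_eq_zero fun v _ => ?_
      rw [if_neg fun e' => hm' (Subtype.ext (decomp_unique hD hB hne m.2 hl v.2 hu (e'.symm.trans e)).1)]
    · simp
  · rw [extendByZero_not_mem _ hm]
    refine Finset.sum_eq_zero fun l _ => Finset.sum_eq_zero fun u _ => ?_
    rw [if_neg fun e => hm ⟨l, l.2, u, u.2, e⟩]

open Classical in
theorem isGenChar_term_div (hD : DadeHypothesis A L H) {B : Finset G} (hB : ↑B ⊆ A)
    (hne : B.Nonempty) {α : L → ℂ} (hα : IsGeneralizedCharacter L α) :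
    IsGeneralizedCharacter G
      (fun g => (Nat.card (NB L B) : ℂ)⁻¹ * term L H (extendByZero L α) B g) := by
  have h := IsGenChar.ind (MB hD hB) (IsGenChar.comp (projL hD hB hne) hα)
  convert h using 1
  funext g
  rw [term_eq_indFun hD hB hne, inv_mul_cancel_left₀
    (Nat.cast_ne_zero.mpr Nat.card_pos.ne' : (Nat.card (NB L B) : ℂ) ≠ 0)]

open Classical in
theorem coset_sum (hD : DadeHypothesis A L H) {B : Finset G} (hB : ↑B ⊆ A) (hne : B.Nonempty)
    {l : G} (hlA : l ∈ A) (hlN : l ∈ NB L B) (F : G → ℂ)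
    (hF : ∀ z y : G, F (y * z * y⁻¹) = F z) :
    (Nat.card (HB H B) : ℂ)⁻¹ * ∑ u : HB H B, F (l * u) =
      (Nat.card (HB H (insert l B)) : ℂ)⁻¹ * ∑ c : HB H (insert l B), F (l * c) := by
  set K := HB H B with hKdef
  set C := HB H (insert l B) with hCdef
  obtain ⟨b₀, hb₀⟩ := id hne
  have hKb : ∀ u ∈ K, u ∈ H b₀ := fun u hu => mem_HB.mp hu b₀ hb₀
  have hCK : ∀ c, c ∈ C ↔ c ∈ K ∧ c * l = l * c := by
    intro c
    simp only [hCdef, hKdef, mem_HB, Finset.forall_mem_insert]
    constructor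
    · exact fun h => ⟨h.2, Subgroup.mem_centralizer_singleton_iff.mp (hD.le_centralizer l hlA h.1)⟩
    · refine fun h => ⟨mem_H_of_coprime hD hlA (Subgroup.mem_centralizer_singleton_iff.mpr h.2) ?_, h.1⟩
      exact (hD.coprime b₀ (hB hb₀) l hlA).coprime_dvd_left (orderOf_dvd_card (h.1 b₀ hb₀))
  have hln : l ∈ Subgroup.normalizer (K : Set G) := by
    rw [Subgroup.mem_normalizer_iff]
    intro u
    refine ⟨conj_HB hD hB hlN, fun hu => ?_⟩
    have := conj_HB hD hB ((NB L B).inv_mem hlN) hu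
    simpa [hKdef, mul_assoc] using this
  have hcop : Nat.Coprime (orderOf l) (Nat.card K) := by
    have h := hD.coprime b₀ (hB hb₀) l hlA
    refine ((h.coprime_dvd_left (Subgroup.card_dvd_of_le hKb)).symm).coprime_dvd_left ?_
    exact orderOf_dvd_card ⟨hD.subset hlA, Subgroup.mem_centralizer_singleton_iff.mpr rfl⟩
  obtain ⟨n, hn0, hn1⟩ := Nat.chineseRemainder hcop.symm 0 1
  have hpow : ∀ c ∈ C, (c * l) ^ n = l := by
    intro c hc
    obtain ⟨hcK, hcl⟩ := (hCK c).mp hc
    rw [(show Commute c l from hcl).mul_pow,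
      orderOf_dvd_iff_pow_eq_one.mp ((orderOf_dvd_card hcK).trans (Nat.modEq_zero_iff_dvd.mp hn0)),
      one_mul]
    conv_rhs => rw [← pow_one l]
    exact pow_eq_pow_iff_modEq.mpr hn1
  have hcount : ∀ h : K, (∑ x : K, if (x : G) * ((h : G) * l) * (x : G)⁻¹ * l⁻¹ ∈ C
      then (1 : ℂ) else 0) = (Nat.card C : ℂ) := by
    intro h
    obtain ⟨y, hy, c₀, hc₀, hcl, e⟩ := exists_conj_centralizer_coset K l hln hcop h h.2
    have hc₀C : c₀ ∈ C := (hCK c₀).mpr ⟨hc₀, hcl⟩
    rw [Finset.sum_boole, ← Fintype.card_subtype, ← Nat.card_eq_fintype_card]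
    congr 1
    refine (Nat.card_congr (Equiv.ofBijective (fun c : C =>
      (⟨⟨(c : G) * y, K.mul_mem ((hCK c).mp c.2).1 hy⟩, ?_⟩ :
        {x : K // (x : G) * ((h : G) * l) * (x : G)⁻¹ * l⁻¹ ∈ C})) ⟨?_, ?_⟩)).symm
    · have hc' := ((hCK c).mp c.2).2
      have : (c : G) * y * ((h : G) * l) * ((c : G) * y)⁻¹ * l⁻¹ = (c : G) * c₀ * (c : G)⁻¹ := by
        calc (c : G) * y * ((h : G) * l) * ((c : G) * y)⁻¹ * l⁻¹
            = (c : G) * (y * ((h : G) * l) * y⁻¹) * (c : G)⁻¹ * l⁻¹ := by group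
          _ = (c : G) * c₀ * (l * (c : G)⁻¹ * l⁻¹) := by rw [e]; group
          _ = _ := by
            rw [show l * (c : G)⁻¹ * l⁻¹ = (l * (c : G) * l⁻¹)⁻¹ by group, ← hc']
            group
      show (c : G) * y * ((h : G) * l) * ((c : G) * y)⁻¹ * l⁻¹ ∈ C
      rw [this]
      exact C.mul_mem (C.mul_mem c.2 hc₀C) (C.inv_mem c.2)
    · intro a b hab
      have h2 : (a : G) * y = (b : G) * y :=
        congrArg (fun z : {x : K // (x : G) * ((h : G) * l) * (x : G)⁻¹ * l⁻¹ ∈ C} => ((z : K) : G)) hab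
      exact Subtype.ext (mul_right_cancel h2)
    · rintro ⟨x, hx⟩
      set c₁ := (x : G) * ((h : G) * l) * (x : G)⁻¹ * l⁻¹ with hc₁
      have h2 : (x : G) * y⁻¹ * (c₀ * l) * ((x : G) * y⁻¹)⁻¹ = c₁ * l := by
        rw [hc₁, ← e]; group
      have h3 := congrArg (· ^ n) h2
      simp only [conj_pow, hpow c₀ hc₀C, hpow c₁ hx] at h3
      refine ⟨⟨(x : G) * y⁻¹, (hCK _).mpr ⟨K.mul_mem x.2 (K.inv_mem hy), ?_⟩⟩,
        Subtype.ext (Subtype.ext (by simp))⟩
      conv_rhs => rw [← h3]
      group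
  have key : (Nat.card C : ℂ) * ∑ u : K, F (l * u) = (Nat.card K : ℂ) * ∑ c : C, F (l * c) := by
    have e1 : ∀ u : G, F (l * u) = F (u * l) := fun u => by
      conv_lhs => rw [← hF (l * u) l⁻¹]
      congr 1; group
    simp only [e1]
    have e2 : ∀ h : K, (Nat.card C : ℂ) * F ((h : G) * l) =
        ∑ x : K, if (x : G) * ((h : G) * l) * (x : G)⁻¹ * l⁻¹ ∈ C
          then F ((x : G) * ((h : G) * l) * (x : G)⁻¹) else 0 := by
      intro h
      rw [← hcount h, Finset.sum_mul]
      refine Finset.sum_congr rfl fun x _ => ?_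
      rw [ite_mul, one_mul, zero_mul, hF]
    rw [Finset.mul_sum, Finset.sum_congr rfl fun h _ => e2 h, Finset.sum_comm]
    have e3 : ∀ x : K, (∑ h : K, if (x : G) * ((h : G) * l) * (x : G)⁻¹ * l⁻¹ ∈ C
        then F ((x : G) * ((h : G) * l) * (x : G)⁻¹) else 0) = ∑ c : C, F ((c : G) * l) := by
      intro x
      have hx' : l * (x : G)⁻¹ * l⁻¹ ∈ K := (Subgroup.mem_normalizer_iff.mp hln _).mp (K.inv_mem x.2)
      have e4 : (∑ h : K, if (x : G) * ((h : G) * l) * (x : G)⁻¹ * l⁻¹ ∈ C
          then F ((x : G) * ((h : G) * l) * (x : G)⁻¹) else 0) =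
          ∑ k : K, if (k : G) ∈ C then F ((k : G) * l) else 0 :=
        Fintype.sum_equiv ((Equiv.mulLeft x).trans (Equiv.mulRight ⟨_, hx'⟩)) _ _ fun h => by
          simp [mul_assoc]
      rw [e4, ← Finset.sum_filter]
      exact Finset.sum_bij (fun k hk => (⟨(k : G), by simpa using hk⟩ : C))
        (fun _ _ => Finset.mem_univ _) (fun a _ b _ h2 => Subtype.ext (congrArg (fun z : C => (z : G)) h2))
        (fun c _ => ⟨⟨c, ((hCK c).mp c.2).1⟩, by simp, rfl⟩) (fun _ _ => rfl)
    rw [Finset.sum_congr rfl fun x _ => e3 x, Finset.sum_const, Finset.card_univ, nsmul_eq_mul,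
      ← Nat.card_eq_fintype_card]
  have h1 : (Nat.card K : ℂ) ≠ 0 := Nat.cast_ne_zero.mpr Nat.card_pos.ne'
  have h2 : (Nat.card C : ℂ) ≠ 0 := Nat.cast_ne_zero.mpr Nat.card_pos.ne'
  field_simp
  linear_combination key

open Classical in
theorem image_insert_conj (l : G) (B : Finset G) :
    (insert l B).image (fun b => l * b * l⁻¹) = insert l (B.image fun b => l * b * l⁻¹) := by
  simp [Finset.image_insert]

open Classical in
theorem signed_sum (hD : DadeHypothesis A L H) {α : L → ℂ}
    (hα : IsClassFunction L α) (hαA : ∀ x : L, (x : G) ∉ A → α x = 0) (g : G) :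
    (Nat.card L : ℂ) * dadeIsometry A L H α g =
      ∑ B ∈ (Finset.univ.filter fun a : G => a ∈ A).powerset.erase ∅,
        (-1 : ℂ) ^ (B.card + 1) * term L H (extendByZero L α) B g := by
  set As := Finset.univ.filter fun a : G => a ∈ A with hAs
  have hsub : ∀ B ∈ As.powerset, ↑B ⊆ A := fun B hB a ha => by
    simpa [hAs] using Finset.mem_powerset.mp hB ha
  set α' := extendByZero L α with hα'
  have hα'0 : ∀ l, l ∉ A → α' l = 0 := fun l hl => by
    by_cases hlL : l ∈ L
    · rw [hα', extendByZero_of_mem _ hlL]; exact hαA _ hl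
    · rw [hα', extendByZero_not_mem _ hlL]
  let F : G → ℂ := fun z => ∑ x : G, if x⁻¹ * g * x = z then 1 else 0
  have hF : ∀ z y : G, F (y * z * y⁻¹) = F z := fun z y => by
    refine Fintype.sum_equiv (Equiv.mulRight y) _ _ fun x => ?_
    simp only [Equiv.coe_mulRight]
    refine if_congr ?_ rfl rfl
    constructor
    · intro h; calc (x * y)⁻¹ * g * (x * y) = y⁻¹ * (x⁻¹ * g * x) * y := by group
        _ = z := by rw [h]; group
    · intro h; rw [← h]; group
  let Q : G → Finset G → ℂ := fun l C =>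
    (Nat.card (HB H C) : ℂ)⁻¹ * ∑ c : HB H C, F (l * c)
  have hterm : ∀ B ∈ As.powerset.erase ∅, term L H α' B g =
      ∑ l ∈ As, if l ∈ NB L B then α' l * Q l (insert l B) else 0 := by
    intro B hB
    obtain ⟨hne, hB'⟩ := Finset.mem_erase.mp hB
    have hBA := hsub B hB'
    have e1 : term L H α' B g =
        ∑ l : NB L B, α' l * ((Nat.card (HB H B) : ℂ)⁻¹ * ∑ u : HB H B, F ((l : G) * u)) := by
      simp only [term, F, Finset.mul_sum, mul_ite, mul_one, mul_zero]
      rw [Finset.sum_comm]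
      refine Finset.sum_congr rfl fun l _ => ?_
      rw [Finset.sum_comm]
      refine Finset.sum_congr rfl fun u _ => Finset.sum_congr rfl fun x _ => ?_
      split_ifs <;> ring
    have e2 : (∑ l : NB L B, α' l * ((Nat.card (HB H B) : ℂ)⁻¹ * ∑ u : HB H B, F ((l : G) * u))) =
        ∑ l : NB L B, if (l : G) ∈ A then α' l * Q l (insert (l : G) B) else 0 := by
      refine Finset.sum_congr rfl fun l _ => ?_
      split_ifs with hl
      · rw [coset_sum hD hBA (Finset.nonempty_iff_ne_empty.mpr hne) hl l.2 F hF]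
      · rw [hα'0 _ hl, zero_mul]
    rw [e1, e2, ← Finset.sum_filter, ← Finset.sum_filter]
    exact Finset.sum_bij (fun l _ => (l : G)) (fun l hl => by simpa [hAs] using hl)
      (fun a _ b _ h => Subtype.ext h)
      (fun b hb => by
        simp only [Finset.mem_filter, hAs, Finset.mem_univ, true_and] at hb
        exact ⟨⟨b, hb.2⟩, by simpa using hb.1, rfl⟩)
      (fun _ _ => rfl)
  rw [Finset.sum_congr rfl fun B hB => by rw [hterm B hB, Finset.mul_sum], Finset.sum_comm]
  have hl : ∀ l ∈ As, (∑ B ∈ As.powerset.erase ∅, (-1 : ℂ) ^ (B.card + 1) *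
      if l ∈ NB L B then α' l * Q l (insert l B) else 0) = α' l * Q l {l} := by
    intro l hl
    have hlA : l ∈ A := by simpa [hAs] using hl
    set f : Finset G → ℂ := fun B =>
      (-1 : ℂ) ^ (B.card + 1) * if l ∈ NB L B then α' l * Q l (insert l B) else 0 with hf
    have hN : ∀ B : Finset G, l ∉ B → (l ∈ NB L (insert l B) ↔ l ∈ NB L B) := by
      intro B hlB
      show (l ∈ L ∧ _) ↔ (l ∈ L ∧ _)
      rw [image_insert_conj]
      refine and_congr_right fun _ => ⟨fun h => ?_, fun h => by rw [h]⟩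
      have hnot : l ∉ B.image fun b => l * b * l⁻¹ := by
        simp only [Finset.mem_image, not_exists, not_and]
        intro b hb e
        have : b = l := by
          calc b = l⁻¹ * (l * b * l⁻¹) * l := by group
            _ = l := by rw [e]; group
        exact hlB (this ▸ hb)
      simpa [Finset.erase_insert hnot, Finset.erase_insert hlB] using congrArg (·.erase l) h
    have htot : ∑ B ∈ As.powerset, f B = 0 := by
      conv_lhs => rw [← Finset.insert_erase hl]
      rw [Finset.sum_powerset_insert (Finset.notMem_erase l As), ← Finset.sum_add_distrib]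
      refine Finset.sum_eq_zero fun B hB => ?_
      have hlB : l ∉ B := fun h => Finset.notMem_erase l As (Finset.mem_powerset.mp hB h)
      simp only [hf, Finset.card_insert_of_notMem hlB, hN B hlB, Finset.insert_idem]
      rw [pow_succ (-1 : ℂ) (B.card + 1)]
      ring
    rw [← Finset.add_sum_erase _ _ (Finset.empty_mem_powerset As)] at htot
    have h0 : f ∅ = -(α' l * Q l {l}) := by
      have : l ∈ NB L (∅ : Finset G) := ⟨hD.subset hlA, by simp⟩
      simp [hf, this]
    rw [h0] at htot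
    linear_combination htot
  rw [Finset.sum_congr rfl hl]
  have hav := average hD (fun z => dadeIsometry A L H α z * F z)
    (fun z y => by rw [hF, dade_classFun hD hα]) (fun z hz => by rw [dade_eq_zero hz, zero_mul])
  have hL : ∑ z : G, dadeIsometry A L H α z * F z = (Nat.card G : ℂ) * dadeIsometry A L H α g := by
    simp only [F, Finset.mul_sum, mul_ite, mul_one, mul_zero]
    rw [Finset.sum_comm]
    simp only [Finset.sum_ite_eq, Finset.mem_univ, if_true]
    rw [Finset.sum_congr rfl fun x _ => (show dadeIsometry A L H α (x⁻¹ * g * x) = _ by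
      simpa using dade_classFun hD hα g x⁻¹), Finset.sum_const, Finset.card_univ, nsmul_eq_mul,
      Nat.card_eq_fintype_card]
  rw [hL, inv_mul_cancel_left₀ (Nat.cast_ne_zero.mpr Nat.card_pos.ne')] at hav
  rw [hav, mul_inv_cancel_left₀ (Nat.cast_ne_zero.mpr Nat.card_pos.ne')]
  refine Finset.sum_congr rfl fun l hl => ?_
  have hlA : l ∈ A := by simpa [hAs] using hl
  simp only [Q]
  rw [show Nat.card (HB H {l}) = Nat.card (H l) by rw [HB_singleton]]
  rw [Finset.sum_subtype (p := fun x => x ∈ HB H {l}) (Finset.univ.filter fun u : G => u ∈ H l)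
    (fun x => by simp [HB_singleton])
    (fun u => dadeIsometry A L H α (l * u) * F (l * u))]
  rw [← mul_assoc, mul_comm (α' l), mul_assoc, Finset.mul_sum (a := α' l)]
  congr 1
  exact Finset.sum_congr rfl fun u _ => by rw [dade_apply_coset hD hα hlA (by simpa [HB_singleton] using u.2)]

open Classical in
theorem term_conj (hD : DadeHypothesis A L H) {α : L → ℂ} (hα : IsClassFunction L α)
    {x : G} (hx : x ∈ L) {B : Finset G} (hB : ↑B ⊆ A) (g : G) :
    term L H (extendByZero L α) (B.image fun b => x * b * x⁻¹) g =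
      term L H (extendByZero L α) B g := by
  set B' := B.image fun b => x * b * x⁻¹ with hB'
  have hH : ∀ u, u ∈ HB H B ↔ x * u * x⁻¹ ∈ HB H B' := by
    intro u
    simp only [mem_HB, hB', Finset.forall_mem_image]
    refine forall₂_congr fun b hb => ⟨conj_mem_H hD (hB hb) hx, fun h => ?_⟩
    have := conj_mem_H hD (hD.conj_mem x hx b (hB hb)) (L.inv_mem hx) h
    simpa [mul_assoc] using this
  have hN : ∀ l, l ∈ NB L B ↔ x * l * x⁻¹ ∈ NB L B' := by
    intro l
    show (l ∈ L ∧ _) ↔ (x * l * x⁻¹ ∈ L ∧ _)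
    refine and_congr ⟨fun h => L.mul_mem (L.mul_mem hx h) (L.inv_mem hx), fun h => ?_⟩ ?_
    · have := L.mul_mem (L.mul_mem (L.inv_mem hx) h) hx
      simpa [mul_assoc] using this
    · have hi : Function.Injective fun b : G => x * b * x⁻¹ := fun a b h =>
        mul_left_cancel (mul_right_cancel h)
      rw [← (Finset.image_injective hi).eq_iff]
      simp only [hB', Finset.image_image]
      refine Iff.of_eq (congrArg (· = _) (Finset.image_congr fun b _ => ?_))
      show x * (l * b * l⁻¹) * x⁻¹ = x * l * x⁻¹ * (x * b * x⁻¹) * (x * l * x⁻¹)⁻¹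
      group
  let eH : HB H B ≃ HB H B' :=
    (MulAut.conj x).toEquiv.subtypeEquiv fun u => by simpa using hH u
  let eN : NB L B ≃ NB L B' :=
    (MulAut.conj x).toEquiv.subtypeEquiv fun u => by simpa using hN u
  have hval : ∀ l : NB L B, extendByZero L α (x * l * x⁻¹) = extendByZero L α l := by
    intro l
    rw [extendByZero_of_mem _ l.2.1, extendByZero_of_mem _ (L.mul_mem (L.mul_mem hx l.2.1) (L.inv_mem hx))]
    exact hα ⟨l, l.2.1⟩ ⟨x, hx⟩
  simp only [term]
  rw [← Nat.card_congr eH]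
  congr 1
  refine (Fintype.sum_equiv (Equiv.mulRight x⁻¹) _ _ fun y => ?_).symm
  refine Fintype.sum_equiv eN _ _ fun l => ?_
  refine Fintype.sum_equiv eH _ _ fun u => ?_
  have e1 : ((eH u : HB H B') : G) = x * u * x⁻¹ := rfl
  have e2 : ((eN l : NB L B') : G) = x * l * x⁻¹ := rfl
  rw [e1, e2, hval]
  simp only [Equiv.coe_mulRight]
  refine if_congr ⟨fun h => ?_, fun h => ?_⟩ rfl rfl
  · calc (y * x⁻¹)⁻¹ * g * (y * x⁻¹) = x * (y⁻¹ * g * y) * x⁻¹ := by group
      _ = _ := by rw [h]; group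
  · calc y⁻¹ * g * y = x⁻¹ * ((y * x⁻¹)⁻¹ * g * (y * x⁻¹)) * x := by group
      _ = _ := by rw [h]; group

open Classical in
/-- Dade's theorem: generalised characters go to generalised characters. -/
theorem isGenChar_dade (hD : DadeHypothesis A L H) {α : L → ℂ}
    (hα : IsGeneralizedCharacter L α) (hαA : ∀ x : L, (x : G) ∉ A → α x = 0) :
    IsGeneralizedCharacter G (dadeIsometry A L H α) := by
  set As := Finset.univ.filter fun a : G => a ∈ A with hAs
  let S := {B : Finset G // B ∈ As.powerset.erase ∅}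
  have hconj : ∀ (l : L) (B : S), (B : Finset G).image (fun b => (l : G) * b * (l : G)⁻¹) ∈
      As.powerset.erase ∅ := by
    intro l B
    obtain ⟨hne, hB⟩ := Finset.mem_erase.mp B.2
    refine Finset.mem_erase.mpr ⟨fun h => hne (Finset.image_eq_empty.mp h), Finset.mem_powerset.mpr fun b hb => ?_⟩
    obtain ⟨c, hc, rfl⟩ := Finset.mem_image.mp hb
    have := Finset.mem_powerset.mp hB hc
    simpa [hAs] using hD.conj_mem l l.2 c (by simpa [hAs] using this)
  let act : MulAction L S :=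
    { smul := fun l B => ⟨_, hconj l B⟩
      one_smul := fun B => Subtype.ext (by show Finset.image _ _ = _; simp)
      mul_smul := fun l m B => Subtype.ext (by
        show Finset.image _ _ = Finset.image _ (Finset.image _ _)
        rw [Finset.image_image]
        exact Finset.image_congr fun b _ => by simp [mul_assoc]) }
  have hst : ∀ B : S, Nat.card (MulAction.stabilizer L B) = Nat.card (NB L (B : Finset G)) := fun B =>
    Nat.card_congr
      { toFun := fun l => ⟨((l : L) : G), (l : L).2, congrArg Subtype.val l.2⟩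
        invFun := fun l => ⟨⟨(l : G), l.2.1⟩, Subtype.ext l.2.2⟩
        left_inv := fun l => rfl
        right_inv := fun l => rfl }
  let t : G → S → ℂ := fun g B =>
    (-1 : ℂ) ^ ((B : Finset G).card + 1) * term L H (extendByZero L α) B g
  have hinv : ∀ g (l : L) (B : S), t g (l • B) = t g B := by
    intro g l B
    show (-1 : ℂ) ^ (((B : Finset G).image _).card + 1) * term L H _ ((B : Finset G).image _) g = _
    rw [Finset.card_image_of_injective _ (fun a b h => mul_left_cancel (mul_right_cancel h)),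
      term_conj hD (IsGenChar.classFun hα) l.2 (fun a ha => by
        simpa [hAs] using Finset.mem_powerset.mp (Finset.mem_erase.mp B.2).2 ha)]
  have : Fintype (Quotient (MulAction.orbitRel L S)) := Fintype.ofFinite _
  have hdec : dadeIsometry A L H α = ∑ ω : Quotient (MulAction.orbitRel L S),
      (((-1 : ℤ) ^ ((ω.out : S) : Finset G).card.succ : ℤ) : ℂ) •
        fun g => (Nat.card (NB L ((ω.out : S) : Finset G)) : ℂ)⁻¹ *
          term L H (extendByZero L α) ((ω.out : S) : Finset G) g := by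
    funext g
    have hL : (Nat.card L : ℂ) ≠ 0 := Nat.cast_ne_zero.mpr Nat.card_pos.ne'
    apply mul_left_cancel₀ hL
    rw [signed_sum hD (IsGenChar.classFun hα) hαA]
    rw [← Finset.sum_coe_sort (As.powerset.erase ∅)]
    show ∑ B : S, t g B = _
    rw [← (MulAction.selfEquivSigmaOrbits L S).symm.sum_comp, Fintype.sum_sigma,
      Finset.sum_apply, Finset.mul_sum]
    refine Finset.sum_congr rfl fun ω _ => ?_
    have e1 : ∀ B : MulAction.orbit L ω.out,
        t g ((MulAction.selfEquivSigmaOrbits L S).symm ⟨ω, B⟩) = t g ω.out := by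
      intro B
      have : ((MulAction.selfEquivSigmaOrbits L S).symm ⟨ω, B⟩ : S) = (B : S) := by
        simp [MulAction.selfEquivSigmaOrbits, MulAction.selfEquivSigmaOrbits']
        rfl
      rw [this]
      obtain ⟨l, hl⟩ := B.2
      rw [← hl]
      exact hinv g l _
    rw [Finset.sum_congr rfl fun B _ => e1 B, Finset.sum_const, Finset.card_univ, nsmul_eq_mul,
      ← Nat.card_eq_fintype_card, Nat.card_congr (MulAction.orbitEquivQuotientStabilizer L ω.out)]
    have h2 := Subgroup.card_eq_card_quotient_mul_card_subgroup (MulAction.stabilizer L ω.out)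
    rw [hst] at h2
    have hn : (Nat.card (NB L ((ω.out : S) : Finset G)) : ℂ) ≠ 0 :=
      Nat.cast_ne_zero.mpr Nat.card_pos.ne'
    have h3 : (Nat.card L : ℂ) = (Nat.card (L ⧸ MulAction.stabilizer L ω.out) : ℂ) *
        (Nat.card (NB L ((ω.out : S) : Finset G)) : ℂ) := by exact_mod_cast h2
    simp only [t, Pi.smul_apply, smul_eq_mul, h3, Int.cast_pow, Int.cast_neg, Int.cast_one]
    field_simp
  rw [hdec]
  refine IsGenChar.sum fun ω _ => IsGenChar.zsmul (isGenChar_term_div hD ?_ ?_ hα) _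
  · intro a ha
    simpa [hAs] using Finset.mem_powerset.mp (Finset.mem_erase.mp (ω.out : S).2).2 ha
  · exact Finset.nonempty_iff_ne_empty.mpr (Finset.mem_erase.mp (ω.out : S).2).1

end Cfsg.Agent.Char.Dade
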