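import Cfsg.Agent.Lib.Char.CohBasic
import Cfsg.Agent.Lib.Char.DadeGen
import Cfsg.Agent.Lib.Char.GenCharNorm
import Cfsg.Agent.S1500

/-!
Dade images of a Galois stable family of irreducible characters of one degree: on the support they differ from the
characters by rational integers, off the support they are equal rational integers.
-/

set_option autoImplicit false
set_option linter.unusedSectionVars false
set_option maxHeartbeats 1000000

namespace Cfsg.Agent.Char.DadeImg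

open scoped ComplexConjugate
open Cfsg

universe u

variable {G : Type u} [Group G]

theorem ringAut_pow {K : Type u} [Group K] [Finite K] {α : K → ℂ} (h : IsGeneralizedCharacter K α) {σ : ℂ ≃+* ℂ}
    {N j : ℕ} (hσ : ∀ ζ : ℂ, ζ ^ N = 1 → σ ζ = ζ ^ j) {x : K} (hx : orderOf x ∣ N) : σ (α x) = α (x ^ j) := by
  obtain ⟨a, b, ha, hb, rfl⟩ := h
  simp only [Pi.sub_apply, map_sub, ringAut_character_eq_pow ha σ hσ hx, ringAut_character_eq_pow hb σ hσ hx]

theorem gen_map {K : Type u} [Group K] [Finite K] {α : K → ℂ} (h : IsGeneralizedCharacter K α) (σ : ℂ ≃+* ℂ) :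
    IsGeneralizedCharacter K (fun x => σ (α x)) := by
  obtain ⟨a, b, ha, hb, rfl⟩ := h
  exact ⟨_, _, IsChar.map_ringAut ha σ, IsChar.map_ringAut hb σ, funext fun x => map_sub σ _ _⟩

theorem inner_map {K : Type u} [Group K] [Fintype K] {α : K → ℂ} (h : IsGeneralizedCharacter K α) (σ : ℂ ≃+* ℂ) :
    classInner (fun x => σ (α x)) (fun x => σ (α x)) = σ (classInner α α) := by
  obtain ⟨a, b, ha, hb, rfl⟩ := h
  have e : (fun x => σ ((a - b) x)) = (fun x => σ (a x)) - fun x => σ (b x) := funext fun x => map_sub σ _ _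
  rw [e]
  simp only [classInner_sub_left, classInner_sub_right, IsChar.classInner_map_ringAut ha ha,
    IsChar.classInner_map_ringAut ha hb, IsChar.classInner_map_ringAut hb ha, IsChar.classInner_map_ringAut hb hb,
    map_sub]

variable [Fintype G] {A : Set G} {L : Subgroup G} [Fintype L] {R : G → Subgroup G}

theorem span_props {U : Finset (L → ℂ)} {d : ℕ} (hd : ∀ ξ ∈ U, IsIrrCharacter L ξ ∧ ξ 1 = (d : ℂ)) {ξ₀ : L → ℂ}
    (hoff : ∀ ξ ∈ U, ∀ x : L, (x : G) ∉ A → ξ x = ξ₀ x) {α : L → ℂ} (hα : α ∈ zspan (↑U : Set (L → ℂ))) :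
    IsGeneralizedCharacter L α ∧ ∀ x : L, (x : G) ∉ A → α x * d = α 1 * ξ₀ x := by
  induction hα using Submodule.span_induction with
  | mem ξ hξ =>
    refine ⟨IsGenChar.of_isCharacter (IsIrr.isCharacter (hd ξ hξ).1), fun x hx => ?_⟩
    rw [(hd ξ hξ).2, hoff ξ hξ x hx, mul_comm]
  | zero => exact ⟨IsGenChar.zero, fun x _ => by simp⟩
  | add a b _ _ ha hb =>
    exact ⟨IsGenChar.add ha.1 hb.1, fun x hx => by simp only [Pi.add_apply, add_mul, ha.2 x hx, hb.2 x hx]⟩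
  | smul n a _ ha =>
    refine ⟨by simpa only [Int.cast_smul_eq_zsmul] using IsGenChar.zsmul ha.1 n, fun x hx => ?_⟩
    simp only [Pi.smul_apply, zsmul_eq_mul, mul_assoc, ha.2 x hx]

theorem one_not_supp (hD : DadeHypothesis A L R) : (1 : G) ∉ Dade.supp A R := by
  rintro ⟨a, ha, u, hu, x, hx⟩
  rw [mul_one, mul_inv_cancel] at hx
  have h : a ∈ R a ⊓ (L ⊓ Subgroup.centralizer ({a} : Set G)) := by
    refine ⟨?_, hD.subset ha, Subgroup.mem_centralizer_singleton_iff.2 rfl⟩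
    show a ∈ R a
    exact (inv_mem_iff (H := R a)).1 (inv_eq_of_mul_eq_one_right hx.symm ▸ hu)
  rw [hD.inf_eq_bot a ha, Subgroup.mem_bot] at h
  exact hD.one_not_mem (h ▸ ha)

theorem exists_images (hD : DadeHypothesis A L R) (U : Finset (L → ℂ)) (hk : 5 ≤ U.card) {d : ℕ}
    (hU : ∀ ξ ∈ U, IsIrrCharacter L ξ ∧ ξ 1 = (d : ℂ) ∧ ∀ σ : ℂ ≃+* ℂ, (fun x => σ (ξ x)) ∈ U)
    (hoff : ∀ ξ ∈ U, ∀ η ∈ U, ∀ x : L, (x : G) ∉ A → ξ x = η x) :
    ∃ F : (L → ℂ) → (G → ℂ), (∀ ξ ∈ U, IsGeneralizedCharacter G (F ξ) ∧ classInner (F ξ) (F ξ) = 1) ∧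
      (∀ a : L, (a : G) ∈ A → ∀ u ∈ R (a : G), ∃ b : ℤ, ∀ ξ ∈ U, F ξ ((a : G) * u) = ξ a + b) ∧
      ∀ g ∉ Dade.supp A R, ∃ n : ℤ, ∀ ξ ∈ U, F ξ g = n := by
  classical
  obtain ⟨ξ₀, hξ₀⟩ := Finset.card_pos.1 (by omega : 0 < U.card)
  have hd : ∀ ξ ∈ U, IsIrrCharacter L ξ ∧ ξ 1 = (d : ℂ) := fun ξ hξ => ⟨(hU ξ hξ).1, (hU ξ hξ).2.1⟩
  have hd0 : (d : ℂ) ≠ 0 := fun e => IsIrr.one_ne_zero (hU ξ₀ hξ₀).1 ((hU ξ₀ hξ₀).2.1.trans e)
  set τ := dadeIsometry A L R with hτ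
  have hzs : ∀ α ∈ zspanOn (↑U : Set (L → ℂ)) {1}ᶜ, IsGeneralizedCharacter L α ∧ ∀ x : L, (x : G) ∉ A → α x = 0 := by
    intro α hα
    obtain ⟨h1, h2⟩ := span_props hd (fun ξ hξ => hoff ξ hξ ξ₀ hξ₀) hα.1
    refine ⟨h1, fun x hx => ?_⟩
    have h3 := h2 x hx
    rw [hα.2 1 (by simp), zero_mul, mul_eq_zero] at h3
    exact h3.resolve_right hd0
  have hval : ∀ α : L → ℂ, IsClassFunction L α → ∀ g, g ∈ Dade.supp A R →
      ∃ a : L, (a : G) ∈ A ∧ ∃ u ∈ R (a : G), ∃ x : G, x * g * x⁻¹ = (a : G) * u ∧ τ α g = α a := by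
    rintro α hα g ⟨a, ha, u, hu, x, hx⟩
    exact ⟨⟨a, hD.subset ha⟩, ha, u, hu, x, hx, Dade.dade_apply_of hD hα (a := ⟨a, hD.subset ha⟩) ha hu hx⟩
  have hyp : Coh.Hyp (↑U : Set (L → ℂ)) τ := by
    refine ⟨fun ξ hξ => (hU ξ hξ).1, ⟨fun α hα β hβ => ?_, fun α hα n => ?_, fun α hα β hβ => ?_, fun α hα => ?_⟩,
      fun α _ => Dade.dade_eq_zero (one_not_supp hD)⟩
    · have ca := IsGenChar.classFun (hzs α hα).1
      have cb := IsGenChar.classFun (hzs β hβ).1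
      funext g
      by_cases hg : g ∈ Dade.supp A R
      · obtain ⟨a, ha, u, hu, x, hx⟩ := hg
        have key : ∀ f : L → ℂ, IsClassFunction L f → τ f g = f ⟨a, hD.subset ha⟩ := fun f hf =>
          Dade.dade_apply_of hD hf (a := ⟨a, hD.subset ha⟩) ha hu hx
        rw [Pi.add_apply, key α ca, key β cb,
          key (α + β) (IsGenChar.classFun (IsGenChar.add (hzs α hα).1 (hzs β hβ).1)), Pi.add_apply]
      · simp only [hτ, Pi.add_apply, Dade.dade_eq_zero hg, add_zero]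
    · have ca := IsGenChar.classFun (hzs α hα).1
      funext g
      by_cases hg : g ∈ Dade.supp A R
      · obtain ⟨a, ha, u, hu, x, hx⟩ := hg
        have key : ∀ f : L → ℂ, IsClassFunction L f → τ f g = f ⟨a, hD.subset ha⟩ := fun f hf =>
          Dade.dade_apply_of hD hf (a := ⟨a, hD.subset ha⟩) ha hu hx
        rw [Pi.smul_apply, key α ca, key (n • α) (IsGenChar.classFun (by simpa only [Int.cast_smul_eq_zsmul] using IsGenChar.zsmul (hzs α hα).1 n)),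
          Pi.smul_apply]
      · simp only [hτ, Pi.smul_apply, Dade.dade_eq_zero hg, smul_zero]
    · exact (Cfsg.Agent.S1500.result A L R hD α (IsGenChar.classFun (hzs α hα).1) (hzs α hα).2).1 β
        (IsGenChar.classFun (hzs β hβ).1) (hzs β hβ).2
    · exact Dade.isGenChar_dade hD (hzs α hα).1 (hzs α hα).2
  obtain ⟨-, F, hF, hFτ⟩ := Coh.equal_degree_irr U hyp (fun ξ hξ => (hU ξ hξ).2.1)
    (Finset.one_lt_card.1 (by omega))
  have hsp : ∀ ξ ∈ U, ξ ∈ zspan (↑U : Set (L → ℂ)) := fun ξ hξ => Submodule.subset_span hξ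
  have hgen : ∀ ξ ∈ U, IsGeneralizedCharacter G (F ξ) := fun ξ hξ => hF.2.2.2 ξ (hsp ξ hξ)
  have horth : ∀ ξ ∈ U, ∀ η ∈ U, classInner (F ξ) (F η) = if ξ = η then 1 else 0 := fun ξ hξ η hη => by
    rw [hF.2.2.1 ξ (hsp ξ hξ) η (hsp η hη), classInner_irr_eq_ite (hU ξ hξ).1 (hU η hη).1]
  have hclass : ∀ ξ ∈ U, ∀ η ∈ U, IsClassFunction L (ξ - η) := fun ξ hξ η hη =>
    IsGenChar.classFun (IsGenChar.sub (IsGenChar.of_isCharacter (IsIrr.isCharacter (hU ξ hξ).1))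
      (IsGenChar.of_isCharacter (IsIrr.isCharacter (hU η hη).1)))
  have hdiff : ∀ ξ ∈ U, ∀ η ∈ U, F ξ - F η = τ (ξ - η) := fun ξ hξ η hη => by
    have hm : ξ - η ∈ zspanOn (↑U : Set (L → ℂ)) {1}ᶜ :=
      ⟨Submodule.sub_mem _ (hsp ξ hξ) (hsp η hη), fun x hx => by
        rw [Set.notMem_compl_iff, Set.mem_singleton_iff] at hx
        subst hx
        rw [Pi.sub_apply, (hU ξ hξ).2.1, (hU η hη).2.1, sub_self]⟩
    rw [← hFτ _ hm, sub_eq_add_neg, ← neg_one_zsmul (F η), ← hF.2.1 η (hsp η hη),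
      ← hF.1 ξ (hsp ξ hξ) _ (Submodule.smul_mem _ _ (hsp η hη)), neg_one_zsmul, ← sub_eq_add_neg]
  -- the Galois action commutes with the images
  have hgal : ∀ σ : ℂ ≃+* ℂ, ∀ ξ ∈ U, (fun g => σ (F ξ g)) = F (fun x => σ (ξ x)) := by
    intro σ
    let p : (L → ℂ) → (L → ℂ) := fun ξ x => σ (ξ x)
    let δ : (L → ℂ) → (G → ℂ) := fun ξ => (fun g => σ (F ξ g)) - F (p ξ)
    have hp : ∀ ξ ∈ U, p ξ ∈ U := fun ξ hξ => (hU ξ hξ).2.2 σ
    have hpinj : ∀ ξ ∈ U, ∀ η ∈ U, p ξ = p η → ξ = η := fun ξ _ η _ e =>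
      funext fun x => σ.injective (congrFun e x)
    have hconst : ∀ ξ ∈ U, ∀ η ∈ U, δ ξ = δ η := by
      intro ξ hξ η hη
      funext g
      have e1 := congrFun (hdiff ξ hξ η hη) g
      have e2 := congrFun (hdiff (p ξ) (hp ξ hξ) (p η) (hp η hη)) g
      have e3 : σ (τ (ξ - η) g) = τ (p ξ - p η) g := by
        by_cases hg : g ∈ Dade.supp A R
        · obtain ⟨a, ha, u, hu, x, hx⟩ := hg
          have key : ∀ f : L → ℂ, IsClassFunction L f → τ f g = f ⟨a, hD.subset ha⟩ := fun f hf =>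
            Dade.dade_apply_of hD hf (a := ⟨a, hD.subset ha⟩) ha hu hx
          rw [key _ (hclass ξ hξ η hη), key _ (hclass _ (hp ξ hξ) _ (hp η hη))]
          simp [p]
        · simp only [hτ, Dade.dade_eq_zero hg, map_zero]
      simp only [δ, Pi.sub_apply] at e1 e2 ⊢
      rw [← e1, map_sub] at e3
      linear_combination e3 - e2
    have hδgen : IsGeneralizedCharacter G (δ ξ₀) := IsGenChar.sub (gen_map (hgen ξ₀ hξ₀) σ) (hgen _ (hp ξ₀ hξ₀))
    obtain ⟨N, hN⟩ := IsGenChar.classInner_int hδgen hδgen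
    have hhalf : ∀ ξ ∈ U, 2 * classInner (F (p ξ)) (δ ξ₀) = -(N : ℂ) := by
      intro ξ hξ
      obtain ⟨z, hz⟩ := IsGenChar.classInner_int (hgen _ (hp ξ hξ)) hδgen
      have e : (fun g => σ (F ξ g)) = F (p ξ) + δ ξ₀ := by
        rw [← hconst ξ hξ ξ₀ hξ₀]; funext g; simp [δ]
      have h1 := inner_map (hgen ξ hξ) σ
      rw [horth ξ hξ ξ hξ, if_pos rfl, map_one, e] at h1
      simp only [classInner_add_left, classInner_add_right, horth _ (hp ξ hξ) _ (hp ξ hξ), if_true, hN] at h1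
      rw [← classInner_conj_symm (F (p ξ)) (δ ξ₀), hz, map_intCast] at h1
      rw [hz]
      linear_combination h1
    set D := ∑ ξ ∈ U, F (p ξ) with hDdef
    have hDδ : 2 * classInner D (δ ξ₀) = -((U.card : ℂ) * N) := by
      rw [hDdef, classInner_sum_left, Finset.mul_sum, Finset.sum_congr rfl hhalf, Finset.sum_const, nsmul_eq_mul]
      ring
    have hDD : classInner D D = (U.card : ℂ) := by
      rw [hDdef, classInner_sum_left, Finset.sum_congr rfl (g := fun _ => (1 : ℂ)) fun ξ hξ => ?_, Finset.sum_const,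
        nsmul_eq_mul, mul_one]
      rw [classInner_sum_right, Finset.sum_congr rfl fun η hη => horth _ (hp ξ hξ) _ (hp η hη),
        Finset.sum_eq_single ξ (fun η hη hne => if_neg fun e => hne (hpinj ξ hξ η hη e).symm)
          (fun hn => absurd hξ hn), if_pos rfl]
    have hDδ' : 2 * classInner (δ ξ₀) D = -((U.card : ℂ) * N) := by
      have h1 := congrArg conj hDδ
      rw [map_mul, classInner_conj_symm, map_neg, map_mul, map_natCast, map_intCast, Complex.conj_ofNat] at h1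
      exact h1
    have hexp : classInner ((2 : ℂ) • δ ξ₀ + (N : ℂ) • D) ((2 : ℂ) • δ ξ₀ + (N : ℂ) • D) =
        ((4 * N - (U.card : ℤ) * N ^ 2 : ℤ) : ℂ) := by
      simp only [classInner_add_left, classInner_add_right, classInner_smul_left, classInner_smul_right,
        Complex.conj_ofNat, map_intCast, hN, hDD]
      push_cast
      linear_combination (N : ℂ) * hDδ + (N : ℂ) * hDδ'
    have h4 := classInner_self_re_nonneg ((2 : ℂ) • δ ξ₀ + (N : ℂ) • D)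
    rw [hexp, Complex.intCast_re, Int.cast_nonneg_iff] at h4
    have h5 := classInner_self_re_nonneg (δ ξ₀)
    rw [hN, Complex.intCast_re, Int.cast_nonneg_iff] at h5
    have hN0 : N = 0 := by
      by_contra hne
      have hk' : (5 : ℤ) ≤ U.card := by exact_mod_cast hk
      nlinarith [mul_le_mul_of_nonneg_right hk' (mul_nonneg h5 h5), (show 1 ≤ N by omega)]
    have hδ0 : δ ξ₀ = 0 := (classInner_self_eq_zero _).1 (by rw [hN, hN0, Int.cast_zero])
    intro ξ hξ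
    have h6 := hconst ξ hξ ξ₀ hξ₀
    rw [hδ0] at h6
    exact sub_eq_zero.1 h6
  haveI : Finite (G × L) := inferInstance
  have hsuppdiff : ∀ a : L, (a : G) ∈ A → ∀ u ∈ R (a : G), ∀ ξ ∈ U,
      F ξ ((a : G) * u) - ξ a = F ξ₀ ((a : G) * u) - ξ₀ a := by
    intro a ha u hu ξ hξ
    have e1 := congrFun (hdiff ξ hξ ξ₀ hξ₀) ((a : G) * u)
    rw [hτ, Dade.dade_apply_coset hD (hclass ξ hξ ξ₀ hξ₀) ha hu, extendByZero_apply] at e1
    simp only [Pi.sub_apply] at e1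
    linear_combination e1
  have hoffdiff : ∀ g ∉ Dade.supp A R, ∀ ξ ∈ U, F ξ g = F ξ₀ g := fun g hg ξ hξ => by
    have e1 := congrFun (hdiff ξ hξ ξ₀ hξ₀) g
    rw [hτ, Dade.dade_eq_zero hg, Pi.sub_apply] at e1
    exact sub_eq_zero.1 e1
  refine ⟨F, fun ξ hξ => ⟨hgen ξ hξ, by rw [horth ξ hξ ξ hξ, if_pos rfl]⟩, fun a ha u hu => ?_, fun g hg => ?_⟩
  · have hξL : IsGeneralizedCharacter L ξ₀ := IsGenChar.of_isCharacter (IsIrr.isCharacter (hU ξ₀ hξ₀).1)
    set ψ : G × L → ℂ := (fun z => F ξ₀ z.1) - fun z => ξ₀ z.2 with hψ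
    have hψgen : IsGeneralizedCharacter (G × L) ψ :=
      IsGenChar.sub (IsGenChar.comp (MonoidHom.fst G L) (hgen ξ₀ hξ₀)) (IsGenChar.comp (MonoidHom.snd G L) hξL)
    obtain ⟨b, hb⟩ := IsGenChar.exists_int_of_fixed hψgen ((a : G) * u, a) fun k hkc => by
      obtain ⟨σ, hσ⟩ := exists_ringAut_pow _ k (orderOf_pos ((a : G) * u, a)) hkc
      rw [← ringAut_pow hψgen hσ dvd_rfl]
      show σ (F ξ₀ ((a : G) * u) - ξ₀ a) = F ξ₀ ((a : G) * u) - ξ₀ a
      rw [map_sub, show σ (F ξ₀ ((a : G) * u)) = F (fun x => σ (ξ₀ x)) ((a : G) * u) from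
        congrFun (hgal σ ξ₀ hξ₀) _]
      exact hsuppdiff a ha u hu _ ((hU ξ₀ hξ₀).2.2 σ)
    refine ⟨b, fun ξ hξ => ?_⟩
    have e1 := hsuppdiff a ha u hu ξ hξ
    simp only [hψ, Pi.sub_apply] at hb
    linear_combination e1 + hb
  · obtain ⟨n, hn⟩ := IsGenChar.exists_int_of_fixed (hgen ξ₀ hξ₀) g fun k hkc => by
      obtain ⟨σ, hσ⟩ := exists_ringAut_pow _ k (orderOf_pos g) hkc
      rw [← ringAut_pow (hgen ξ₀ hξ₀) hσ dvd_rfl, show σ (F ξ₀ g) = F (fun x => σ (ξ₀ x)) g from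
        congrFun (hgal σ ξ₀ hξ₀) g]
      exact hoffdiff g hg _ ((hU ξ₀ hξ₀).2.2 σ)
    exact ⟨n, fun ξ hξ => (hoffdiff g hg ξ hξ).trans hn⟩

end Cfsg.Agent.Char.DadeImg
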