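import Cfsg.Agent.Lib.Char.SpectralIdem
import Cfsg.Agent.Lib.Block.Brauer
import Mathlib.LinearAlgebra.Trace
import Mathlib.LinearAlgebra.Matrix.ToLin
import Mathlib.LinearAlgebra.Dual.Lemmas
import Mathlib.FieldTheory.IsAlgClosed.Basic

/-!
The residue field is algebraically closed; reduction of the integral group algebra; the rank of an
idempotent matrix does not change under reduction.
-/

namespace Cfsg.Agent.Char.Res

open Cfsg.Agent.Block Cfsg.Agent.Char.Spec Polynomial

set_option linter.unusedSectionVars false
set_option linter.style.haveILetI false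

universe u

variable {p : ℕ} {M : Ideal AlgInt}

theorem red_surjective (hM : IsPModular p M) (a : ResField hM) :
    ∃ z, MemLocalRing M z ∧ red hM z = a := by
  obtain ⟨⟨z, hz⟩, rfl⟩ := Ideal.Quotient.mk_surjective a
  exact ⟨z, hz, red_mk hM hz⟩

theorem resField_isAlgClosed (hM : IsPModular p M) :
    @IsAlgClosed (ResField hM) (resInst hM) := by
  letI := resInst hM
  haveI := localIdeal_isMaximal hM
  refine IsAlgClosed.of_exists_root _ fun q hq hirr => ?_
  let π : localRing hM →+* ResField hM := Ideal.Quotient.mk _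
  obtain ⟨Q, hQ, hdeg, hQm⟩ := lifts_and_natDegree_eq_and_monic
    ((lifts_iff_coeff_lifts q).2 fun n => by
      obtain ⟨r, hr⟩ := Ideal.Quotient.mk_surjective (q.coeff n)
      exact ⟨r, hr⟩ : q ∈ lifts π) hq
  set P := Q.map (localRing hM).subtype with hP
  have hPm : P.Monic := hQm.map _
  have hdegP : 0 < P.degree := by
    rw [hP, Polynomial.degree_map_eq_of_injective Subtype.val_injective,
      degree_eq_natDegree hQm.ne_zero, hdeg]
    exact_mod_cast hirr.natDegree_pos
  obtain ⟨z, hz⟩ := IsAlgClosed.exists_root P hdegP.ne'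
  have hzR : MemLocalRing M z := ring_of_isRoot hM hPm (fun i => by
    rw [hP, coeff_map]
    exact (Q.coeff i).2) hz
  refine ⟨π ⟨z, hzR⟩, ?_⟩
  rw [← hQ]
  have h0 : Q.eval (⟨z, hzR⟩ : localRing hM) = 0 := by
    refine Subtype.ext ?_
    have h1 : (localRing hM).subtype (Q.eval ⟨z, hzR⟩) = P.eval z := by
      rw [hP, ← eval_map_apply]
      rfl
    exact h1.trans hz
  show eval (π _) (map π Q) = 0
  exact (eval_map_apply π _).trans (by rw [h0, map_zero])

theorem red_neg (hM : IsPModular p M) {z : ℂ} (hz : MemLocalRing M z) :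
    red hM (-z) = - red hM z := by
  rw [red_mk hM hz, red_mk hM (ring_neg hz), ← map_neg]; rfl

theorem red_sub (hM : IsPModular p M) {z w : ℂ} (hz : MemLocalRing M z) (hw : MemLocalRing M w) :
    red hM (z - w) = red hM z - red hM w := by
  rw [sub_eq_add_neg, red_add hM hz (ring_neg hw), red_neg hM hw, sub_eq_add_neg]

theorem red_natCast (hM : IsPModular p M) (n : ℕ) : red hM (n : ℂ) = (n : ResField hM) := by
  induction n with
  | zero => simpa using red_zero hM
  | succ n ih =>
    rw [Nat.cast_succ, red_add hM (ring_natCast hM n) (ring_one hM), ih, red_one, Nat.cast_succ]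

/-- The reduction of a matrix. -/
noncomputable def redMat (hM : IsPModular p M) {ι κ : Type*} (A : Matrix ι κ ℂ) :
    Matrix ι κ (ResField hM) :=
  A.map (red hM)

theorem redMat_mul (hM : IsPModular p M) {ι κ μ : Type*} [Fintype κ] {A : Matrix ι κ ℂ}
    {B : Matrix κ μ ℂ} (hA : ∀ i j, MemLocalRing M (A i j)) (hB : ∀ i j, MemLocalRing M (B i j)) :
    redMat hM (A * B) = redMat hM A * redMat hM B := by
  ext i j
  simp only [redMat, Matrix.map_apply, Matrix.mul_apply]
  rw [red_sum hM fun l _ => ring_mul hM (hA i l) (hB l j)]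
  exact Finset.sum_congr rfl fun l _ => red_mul hM (hA i l) (hB l j)

theorem det_ne_zero_of_red_eq_one (hM : IsPModular p M) {r : ℕ} {A : Matrix (Fin r) (Fin r) ℂ}
    (hA : ∀ i j, MemLocalRing M (A i j)) (h : redMat hM A = 1) : A.det ≠ 0 := by
  letI := resInst hM
  let A' : Matrix (Fin r) (Fin r) (localRing hM) := Matrix.of fun i j => ⟨A i j, hA i j⟩
  have h1 : A'.map (Ideal.Quotient.mk (localIdeal hM)) = (1 : Matrix _ _ (ResField hM)) := by
    rw [← h]
    ext i j
    exact (red_mk hM (hA i j)).symm
  have h2 : A'.map (localRing hM).subtype = A := by ext i j; rfl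
  intro h0
  have h3 : A'.det = 0 := by
    have e := RingHom.map_det (localRing hM).subtype A'
    rw [RingHom.mapMatrix_apply, h2, h0] at e
    exact Subtype.ext e
  have h4 := RingHom.map_det (Ideal.Quotient.mk (localIdeal hM)) A'
  rw [h3, map_zero, RingHom.mapMatrix_apply, h1, Matrix.det_one] at h4
  exact zero_ne_one h4

variable {ι : Type*} [Fintype ι] [DecidableEq ι]

theorem finrank_range_red_le (hM : IsPModular p M) {P : Matrix ι ι ℂ}
    (hP : ∀ i j, MemLocalRing M (P i j)) :
    letI := resInst hM
    Module.finrank (ResField hM) (LinearMap.range (Matrix.toLin' (redMat hM P))) ≤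
      Module.finrank ℂ (LinearMap.range (Matrix.toLin' P)) := by
  letI := resInst hM
  set L := LinearMap.range (Matrix.toLin' (redMat hM P)) with hL
  let b := Module.finBasis (ResField hM) L
  set r := Module.finrank (ResField hM) L
  choose u hu using fun a : Fin r => LinearMap.mem_range.1 (b a).2
  choose U hUr hU using fun a i => red_surjective hM (u a i)
  let f : (Fin r → ResField hM) →ₗ[ResField hM] (ι → ResField hM) :=
    L.subtype.comp b.equivFun.symm.toLinearMap
  obtain ⟨g, hg⟩ := f.exists_leftInverse_of_injective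
    (LinearMap.ker_eq_bot.2 (Subtype.val_injective.comp b.equivFun.symm.injective))
  choose W hWr hW using fun a i => red_surjective hM (g (Pi.single i 1) a)
  let V : Matrix ι (Fin r) ℂ := P * Matrix.of (fun i a => U a i)
  have hVr : ∀ i a, MemLocalRing M (V i a) := fun i a => ring_sum hM fun j _ =>
    ring_mul hM (hP i j) (hUr a j)
  have hVb : ∀ a, (fun i => redMat hM V i a) = (b a : ι → ResField hM) := fun a => by
    rw [← hu a, redMat_mul hM (A := P) (B := Matrix.of fun i a => U a i) hP fun i a => hUr a i]
    funext i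
    simp [Matrix.toLin'_apply, Matrix.mulVec, dotProduct, Matrix.mul_apply, redMat, hU]
  have hA : redMat hM (Matrix.of W * V) = 1 := by
    rw [redMat_mul hM (A := Matrix.of W) hWr hVr]
    ext a c
    have h1 : g (b c : ι → ResField hM) = Pi.single c 1 := by
      have := LinearMap.congr_fun hg (Pi.single c 1)
      simpa [f] using this
    rw [Matrix.mul_apply, Matrix.one_apply, ← Pi.single_apply c (1 : ResField hM) a, ← h1, ← hVb c]
    conv_rhs => rw [pi_eq_sum_univ (fun i => redMat hM V i c), map_sum, Finset.sum_apply]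
    refine Finset.sum_congr rfl fun i _ => ?_
    rw [map_smul, Pi.smul_apply, smul_eq_mul, mul_comm]
    congr 1
    simp only [redMat, Matrix.map_apply, Matrix.of_apply, hW]
    exact congrFun (congrArg g (funext fun j => by simp [Pi.single_apply, eq_comm])) a
  have hdet := det_ne_zero_of_red_eq_one hM (A := Matrix.of W * V) (fun a c => ring_sum hM fun i _ =>
    ring_mul hM (hWr a i) (hVr i c)) hA
  have hinj : Function.Injective V.mulVec := by
    intro x y hxy
    refine Matrix.mulVec_injective_iff_isUnit.2 ((Matrix.isUnit_iff_isUnit_det _).2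
      (isUnit_iff_ne_zero.2 hdet)) ?_
    exact (Matrix.mulVec_mulVec _ _ _).symm.trans
      ((congrArg (Matrix.mulVec (Matrix.of W)) hxy).trans (Matrix.mulVec_mulVec _ _ _))
  have hle : LinearMap.range (Matrix.toLin' V) ≤ LinearMap.range (Matrix.toLin' P) := by
    rw [Matrix.toLin'_mul]
    exact LinearMap.range_comp_le_range _ _
  refine le_trans ?_ (Submodule.finrank_mono hle)
  rw [LinearMap.finrank_range_of_inj (show Function.Injective (Matrix.toLin' V) from hinj)]
  simp [r]

/-- An idempotent matrix over the local ring keeps its rank modulo the ideal. -/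
theorem finrank_range_red_idem (hM : IsPModular p M) {P : Matrix ι ι ℂ}
    (hP : ∀ i j, MemLocalRing M (P i j)) (hPP : P * P = P) :
    letI := resInst hM
    (Module.finrank (ResField hM) (LinearMap.range (Matrix.toLin' (redMat hM P))) : ℂ) = P.trace := by
  letI := resInst hM
  have hQ : ∀ i j, MemLocalRing M ((1 - P) i j) := fun i j => by
    rw [Matrix.sub_apply, Matrix.one_apply]
    split_ifs
    · exact ring_sub hM (ring_one hM) (hP i j)
    · exact ring_sub hM (ring_zero hM) (hP i j)
  have hredQ : redMat hM (1 - P) = 1 - redMat hM P := by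
    ext i j
    simp only [redMat, Matrix.map_apply, Matrix.sub_apply, Matrix.one_apply]
    split_ifs
    · rw [red_sub hM (ring_one hM) (hP i j), red_one]
    · rw [red_sub hM (ring_zero hM) (hP i j), red_zero]
  have hidem : IsIdempotentElem (Matrix.toLin' P) := by
    rw [IsIdempotentElem, Module.End.mul_eq_comp, ← Matrix.toLin'_mul, hPP]
  have hidemr : IsIdempotentElem (Matrix.toLin' (redMat hM P)) := by
    rw [IsIdempotentElem, Module.End.mul_eq_comp, ← Matrix.toLin'_mul, ← redMat_mul hM hP hP, hPP]
  have h1 := finrank_range_red_le hM hP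
  have h2 := finrank_range_red_le hM hQ
  rw [hredQ, map_sub, map_sub, Matrix.toLin'_one, Matrix.toLin'_one,
    ← Module.End.one_eq_id, ← Module.End.one_eq_id,
    ← LinearMap.IsIdempotentElem.ker_eq_range_one_sub hidem,
    ← LinearMap.IsIdempotentElem.ker_eq_range_one_sub hidemr] at h2
  have h3 := LinearMap.finrank_range_add_finrank_ker (Matrix.toLin' P)
  have h4 := LinearMap.finrank_range_add_finrank_ker (Matrix.toLin' (redMat hM P))
  rw [Module.finrank_fintype_fun_eq_card] at h3 h4
  have h5 : Module.finrank (ResField hM) (LinearMap.range (Matrix.toLin' (redMat hM P))) =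
      Module.finrank ℂ (LinearMap.range (Matrix.toLin' P)) := by omega
  rw [h5, ← (LinearMap.IsIdempotentElem.isProj_range _ hidem).trace]
  exact Matrix.trace_toLin'_eq P

/-! ### The modular group algebra -/

variable {G : Type u} [Group G] [Fintype G] [DecidableEq G]

/-- The reduction of an element of the group algebra. -/
noncomputable def redA (hM : IsPModular p M) (x : MonoidAlgebra ℂ G) :
    MonoidAlgebra (ResField hM) G :=
  redAlg hM fun g => x.coeff g

theorem redA_coeff (hM : IsPModular p M) (x : MonoidAlgebra ℂ G) (g : G) :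
    (redA hM x).coeff g = red hM (x.coeff g) := redAlg_coeff hM _ g

theorem redA_zero (hM : IsPModular p M) : redA hM (0 : MonoidAlgebra ℂ G) = 0 := by
  ext g; simp [redA_coeff, red_zero hM]

theorem redA_add (hM : IsPModular p M) {x y : MonoidAlgebra ℂ G} (hx : AlgRing M x)
    (hy : AlgRing M y) : redA hM (x + y) = redA hM x + redA hM y := by
  ext g; simp [redA_coeff, red_add hM (hx g) (hy g)]

theorem redA_sub (hM : IsPModular p M) {x y : MonoidAlgebra ℂ G} (hx : AlgRing M x)
    (hy : AlgRing M y) : redA hM (x - y) = redA hM x - redA hM y := by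
  ext g; simp [redA_coeff, red_sub hM (hx g) (hy g)]

theorem redA_smul (hM : IsPModular p M) {c : ℂ} (hc : MemLocalRing M c) {x : MonoidAlgebra ℂ G}
    (hx : AlgRing M x) : redA hM (c • x) = red hM c • redA hM x := by
  ext g; simp [redA_coeff, red_mul hM hc (hx g)]

theorem redA_single (hM : IsPModular p M) (a : G) :
    redA hM (MonoidAlgebra.single a (1 : ℂ)) = MonoidAlgebra.single a 1 := by
  classical
  ext g
  rw [redA_coeff, MonoidAlgebra.coeff_single, MonoidAlgebra.coeff_single, Finsupp.single_apply,
    Finsupp.single_apply]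
  split_ifs
  · exact red_one hM
  · exact red_zero hM

theorem redA_one (hM : IsPModular p M) : redA hM (1 : MonoidAlgebra ℂ G) = 1 := by
  rw [MonoidAlgebra.one_def, redA_single, MonoidAlgebra.one_def]

theorem redA_eq_zero (hM : IsPModular p M) {x : MonoidAlgebra ℂ G} (hx : AlgRing M x) :
    redA hM x = 0 ↔ AlgIdeal M x := by
  constructor
  · intro h g
    rw [← red_eq_zero hM (hx g), ← redA_coeff, h]
    simp
  · intro h
    ext g
    rw [redA_coeff, (red_eq_zero hM (hx g)).2 (h g)]
    simp

theorem redA_surjective (hM : IsPModular p M) (y : MonoidAlgebra (ResField hM) G) :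
    ∃ x, AlgRing M x ∧ redA hM x = y := by
  choose f hf hr using fun g => red_surjective hM (y.coeff g)
  refine ⟨algOf (MonoidHom.id G) f, AlgRing.algOf hM _ hf, ?_⟩
  ext g
  rw [redA_coeff, algOf_coeff_id, hr]

theorem redA_mul (hM : IsPModular p M) {x y : MonoidAlgebra ℂ G} (hx : AlgRing M x)
    (hy : AlgRing M y) : redA hM (x * y) = redA hM x * redA hM y := by
  have h : ∀ w : MonoidAlgebra ℂ G, redA hM w =
      ∑ g : G, MonoidAlgebra.single g (red hM (w.coeff g)) := fun _ => rfl
  rw [h x, h y, Finset.sum_mul_sum]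
  simp only [MonoidAlgebra.single_mul_single]
  ext g
  rw [redA_coeff, coeff_mul_apply, red_sum hM fun l _ => ring_mul hM (hx _) (hy l)]
  rw [MonoidAlgebra.coeff_sum, Finsupp.coe_finsetSum, Finset.sum_apply]
  simp only [MonoidAlgebra.coeff_sum, Finsupp.coe_finsetSum, Finset.sum_apply,
    MonoidAlgebra.coeff_single, Finsupp.single_apply]
  rw [Finset.sum_comm]
  refine Finset.sum_congr rfl fun l _ => ?_
  rw [Finset.sum_eq_single (g * l⁻¹) (fun a _ ha => if_neg fun he : a * l = g => ha
      (by rw [← he, mul_inv_cancel_right])) (fun h => absurd (Finset.mem_univ _) h),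
    if_pos (inv_mul_cancel_right g l), red_mul hM (hx _) (hy l)]

theorem redA_pow (hM : IsPModular p M) {x : MonoidAlgebra ℂ G} (hx : AlgRing M x) :
    ∀ n : ℕ, redA hM (x ^ n) = redA hM x ^ n
  | 0 => by rw [pow_zero, pow_zero, redA_one]
  | n + 1 => by rw [pow_succ, pow_succ, redA_mul hM (AlgRing.pow hM hx n) hx, redA_pow hM hx n]

end Cfsg.Agent.Char.Res
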