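import Cfsg.Agent.Lib.Char.BrauerInduction
import Cfsg.Agent.Lib.Char.Average

/-!
Combinations of characters with algebraic-integer coefficients; the scaled indicator of a section
is such a combination (Brauer).
-/

open scoped ComplexConjugate

namespace Cfsg.Agent.Char.Brauer

open Cfsg Cfsg.Agent.Char

set_option linter.unusedSectionVars false
set_option linter.style.haveILetI false

universe u

variable {G : Type u} [Group G] [Fintype G]

/-- A combination of irreducible characters with algebraic-integer coefficients. -/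
def AlgComb (f : G → ℂ) : Prop :=
  ∃ c : IrrCharacter G → ℂ, (∀ χ, IsIntegral ℤ (c χ)) ∧ f = ∑ χ, c χ • (χ : G → ℂ)

theorem AlgComb.zero : AlgComb (0 : G → ℂ) :=
  ⟨0, fun _ => isIntegral_zero, by simp⟩

theorem AlgComb.add {f g : G → ℂ} (hf : AlgComb f) (hg : AlgComb g) : AlgComb (f + g) := by
  obtain ⟨a, ha, rfl⟩ := hf
  obtain ⟨b, hb, rfl⟩ := hg
  exact ⟨a + b, fun χ => (ha χ).add (hb χ), by simp [add_smul, Finset.sum_add_distrib]⟩

theorem AlgComb.smul {f : G → ℂ} (hf : AlgComb f) {z : ℂ} (hz : IsIntegral ℤ z) :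
    AlgComb (z • f) := by
  obtain ⟨a, ha, rfl⟩ := hf
  exact ⟨z • a, fun χ => hz.mul (ha χ), by simp [Finset.smul_sum, smul_smul]⟩

theorem AlgComb.neg {f : G → ℂ} (hf : AlgComb f) : AlgComb (-f) := by
  obtain ⟨a, ha, rfl⟩ := hf
  exact ⟨-a, fun χ => (ha χ).neg, by simp [Finset.sum_neg_distrib]⟩

theorem AlgComb.sum {ι : Type*} {s : Finset ι} {f : ι → G → ℂ} (h : ∀ i ∈ s, AlgComb (f i)) :
    AlgComb (∑ i ∈ s, f i) :=
  Finset.sum_induction f AlgComb (fun _ _ => AlgComb.add) AlgComb.zero h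

theorem AlgComb.of_char {f : G → ℂ} (hf : IsCharacter G f) : AlgComb f := by
  obtain ⟨a, ha⟩ := IsChar.exists_decomp hf
  exact ⟨fun χ => (a χ : ℂ), fun χ => (isIntegral_algebraMap (R := ℤ) (A := ℂ) (x := (a χ : ℤ))) |>
    fun h => by simpa using h, ha⟩

theorem AlgComb.of_classFun {f : G → ℂ} (hf : IsClassFunction G f)
    (h : ∀ χ : IrrCharacter G, IsIntegral ℤ (classInner f (χ : G → ℂ))) : AlgComb f :=
  ⟨fun χ => classInner f (χ : G → ℂ), h, classFunction_expansion hf⟩

theorem AlgComb.mul_char {f φ : G → ℂ} (hf : AlgComb f) (hφ : IsCharacter G φ) :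
    AlgComb (f * φ) := by
  obtain ⟨a, ha, rfl⟩ := hf
  rw [Finset.sum_mul]
  refine AlgComb.sum fun χ _ => ?_
  rw [smul_mul_assoc]
  exact (AlgComb.of_char (IsChar.mul (IsIrr.isCharacter χ.2) hφ)).smul (ha χ)

theorem AlgComb.ind {H : Subgroup G} [Fintype H] {f : H → ℂ} (hf : AlgComb f) :
    AlgComb (indFun H f) := by
  obtain ⟨a, ha, rfl⟩ := hf
  rw [indFun_sum]
  refine AlgComb.sum fun χ _ => ?_
  rw [indFun_smul]
  exact (AlgComb.of_char (isCharacter_indFun H (IsIrr.isCharacter χ.2))).smul (ha χ)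

/-- A class function is a combination when its restrictions to elementary subgroups are. -/
theorem algComb_of_elementary {θ : G → ℂ} (hθ : IsClassFunction G θ)
    (hE : ∀ E : Subgroup G, Elem E → ∀ [Fintype E], AlgComb (fun e : E => θ e)) : AlgComb θ := by
  classical
  suffices ∀ f ∈ indSpan (G := G) Elem, AlgComb (θ * f) by
    simpa [Pi.mul_def] using this _ (one_mem (G := G))
  intro f hf
  induction hf using AddSubgroup.closure_induction with
  | mem f hf =>
    obtain ⟨E, hEl, φ, hφ, rfl⟩ := hf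
    rw [mul_indFun E φ hθ]
    exact ((hE E hEl).mul_char hφ).ind
  | zero => rw [mul_zero]; exact AlgComb.zero
  | add u v _ _ hu hv => rw [mul_add]; exact hu.add hv
  | neg u _ hu => rw [mul_neg]; exact hu.neg

omit [Fintype G] in
/-- In a nilpotent group, normal subgroups of every Hall order. -/
theorem exists_normal_hall [Finite G] [Group.IsNilpotent G] (s : Finset ℕ) :
    ∃ N : Subgroup G, N.Normal ∧
      Nat.card N = ∏ q ∈ s ∩ (Nat.card G).primeFactors, q ^ (Nat.card G).factorization q := by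
  classical
  induction s using Finset.induction with
  | empty => exact ⟨⊥, inferInstance, by simp⟩
  | insert q s hq ih =>
    by_cases hqG : q ∈ (Nat.card G).primeFactors
    · obtain ⟨N, hN, hcard⟩ := ih
      haveI := hN
      haveI := Fact.mk (Nat.prime_of_mem_primeFactors hqG)
      obtain ⟨Q⟩ := Sylow.nonempty (p := q) (G := G)
      have hQ : Nat.card (Q : Subgroup G) = q ^ (Nat.card G).factorization q :=
        Sylow.card_eq_multiplicity Q
      have hco : (Nat.card N).Coprime (Nat.card (Q : Subgroup G)) := by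
        rw [hcard, hQ]
        refine Nat.Coprime.prod_left fun r hr => Nat.Coprime.pow _ _
          ((Nat.coprime_primes (Nat.prime_of_mem_primeFactors (Finset.mem_inter.1 hr).2)
            Fact.out).2 fun h => hq (h ▸ (Finset.mem_inter.1 hr).1))
      have hd : Disjoint N (Q : Subgroup G) :=
        disjoint_iff.2 (Subgroup.inf_eq_bot_of_coprime hco)
      refine ⟨N ⊔ (Q : Subgroup G), inferInstance, ?_⟩
      rw [Finset.insert_inter_of_mem hqG,
        Finset.prod_insert fun h => hq (Finset.mem_inter.1 h).1, ← hQ, ← hcard, mul_comm]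
      have hbij : Function.Bijective (fun x : N × (Q : Subgroup G) =>
          (⟨(x.1 : G) * x.2, mul_mem (le_sup_left (b := (Q : Subgroup G)) x.1.2)
            (le_sup_right (a := N) x.2.2)⟩ : (N ⊔ (Q : Subgroup G) : Subgroup G))) := by
        refine ⟨fun x y h => Subgroup.mul_injective_of_disjoint hd (congrArg Subtype.val h),
          fun z => ?_⟩
        obtain ⟨a, ha, b, hb, hab⟩ := Subgroup.mem_sup_of_normal_left.1 z.2
        exact ⟨⟨⟨a, ha⟩, ⟨b, hb⟩⟩, Subtype.ext hab⟩
      rw [← Nat.card_eq_of_bijective _ hbij, Nat.card_prod]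
    · rw [Finset.insert_inter_of_notMem hqG]
      exact ih

omit [Fintype G] in
theorem exists_normal_pi [Finite G] [Group.IsNilpotent G] {a b : ℕ} (hab : Nat.card G = a * b)
    (hco : Nat.Coprime a b) : ∃ N : Subgroup G, N.Normal ∧ Nat.card N = a := by
  classical
  obtain ⟨N, hN, hcard⟩ := exists_normal_hall (G := G) a.primeFactors
  refine ⟨N, hN, hcard.trans ?_⟩
  have ha : a ≠ 0 := fun h => (Nat.card_pos (α := G)).ne' (by rw [hab, h, zero_mul])
  have hb : b ≠ 0 := fun h => (Nat.card_pos (α := G)).ne' (by rw [hab, h, mul_zero])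
  rw [Finset.inter_eq_left.2 (Nat.primeFactors_mono (hab ▸ dvd_mul_right a b) Nat.card_pos.ne')]
  conv_rhs => rw [← Nat.prod_factorization_pow_eq_self ha]
  refine Finset.prod_congr rfl fun q hq => ?_
  congr 1
  rw [hab, Nat.factorization_mul ha hb, Finsupp.add_apply,
    Nat.factorization_eq_zero_of_not_dvd fun hqb => (Nat.prime_of_mem_primeFactors hq).ne_one
      (Nat.eq_one_of_dvd_coprimes hco (Nat.dvd_of_mem_primeFactors hq) hqb), add_zero]

/-- The scaled indicator of a section is a combination with algebraic-integer coefficients. -/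
theorem algComb_section {m n : ℕ} (hmn : Nat.card G = m * n) (hco : Nat.Coprime m n) {k : ℕ}
    (hk : ∀ x : G, orderOf x ∣ n → x ^ k = x) (hk' : ∀ x : G, orderOf x ∣ m → x ^ k = 1) (g : G) :
    AlgComb (fun x : G => open Classical in if IsConj (x ^ k) g then (n : ℂ) else 0) := by
  classical
  refine algComb_of_elementary (fun x t => ?_) fun E hEl _ => ?_
  · show (if IsConj ((t * x * t⁻¹) ^ k) g then (n : ℂ) else 0) = _
    rw [conj_pow]
    have hc : IsConj (t * x ^ k * t⁻¹) g ↔ IsConj (x ^ k) g :=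
      ⟨fun h => (isConj_iff.2 ⟨t, rfl⟩ : IsConj (x ^ k) _).trans h,
        fun h => (isConj_iff.2 ⟨t, rfl⟩ : IsConj (x ^ k) _).symm.trans h⟩
    simp only [hc]
  obtain ⟨q, hq, hqE⟩ := hEl
  haveI := isNilpotent_of_elementary hq hqE
  have hdE : Nat.card E ∣ m * n := hmn ▸ Subgroup.card_subgroup_dvd_card E
  have hE2 : Nat.card E = (Nat.card E).gcd m * (Nat.card E).gcd n := by
    rw [← hco.gcd_mul, Nat.gcd_eq_left hdE]
  have hco2 : Nat.Coprime ((Nat.card E).gcd m) ((Nat.card E).gcd n) :=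
    Nat.Coprime.coprime_dvd_left (Nat.gcd_dvd_right _ _)
      (hco.coprime_dvd_right (Nat.gcd_dvd_right _ _))
  obtain ⟨A, hA, hAc⟩ := exists_normal_pi hE2 hco2
  obtain ⟨B, hB, hBc⟩ := exists_normal_pi (hE2.trans (mul_comm _ _)) hco2.symm
  have hd : Disjoint A B := disjoint_iff.2 (Subgroup.inf_eq_bot_of_coprime (by rwa [hAc, hBc]))
  have hbij : Function.Bijective (fun x : A × B => (x.1 : E) * x.2) := by
    rw [Fintype.bijective_iff_injective_and_card]
    refine ⟨Subgroup.mul_injective_of_disjoint hd, ?_⟩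
    rw [Fintype.card_prod, ← Nat.card_eq_fintype_card, ← Nat.card_eq_fintype_card,
      ← Nat.card_eq_fintype_card, hAc, hBc, ← hE2]
  have hpow : ∀ (a : A) (b : B), (((a : E) * b : E) : G) ^ k = ((b : E) : G) := by
    intro a b
    have hc : Commute ((a : E) : G) ((b : E) : G) :=
      (Subgroup.commute_of_normal_of_disjoint A B hA hB hd _ _ a.2 b.2).map E.subtype
    rw [Subgroup.coe_mul, hc.mul_pow, hk' _ ?_, one_mul, hk _ ?_]
    · rw [Subgroup.orderOf_coe, Subgroup.orderOf_coe]
      exact (orderOf_dvd_natCard b).trans (hBc ▸ Nat.gcd_dvd_right _ _)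
    · rw [Subgroup.orderOf_coe, Subgroup.orderOf_coe]
      exact (orderOf_dvd_natCard a).trans (hAc ▸ Nat.gcd_dvd_right _ _)
  refine AlgComb.of_classFun (fun x t => ?_) fun χ => ?_
  · show (if IsConj ((((t * x * t⁻¹) : E) : G) ^ k) g then (n : ℂ) else 0) = _
    rw [Subgroup.coe_mul, Subgroup.coe_mul, Subgroup.coe_inv, conj_pow]
    have hc : IsConj ((t : G) * (x : G) ^ k * (t : G)⁻¹) g ↔ IsConj ((x : G) ^ k) g :=
      ⟨fun h => (isConj_iff.2 ⟨(t : G), rfl⟩ : IsConj ((x : G) ^ k) _).trans h,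
        fun h => (isConj_iff.2 ⟨(t : G), rfl⟩ : IsConj ((x : G) ^ k) _).symm.trans h⟩
    simp only [hc]
  obtain ⟨z, hz⟩ : (Nat.card E).gcd n ∣ n := Nat.gcd_dvd_right _ _
  haveI := hA
  have hsum : classInner (fun e : E => if IsConj ((e : G) ^ k) g then (n : ℂ) else 0)
      (χ : E → ℂ) =
      (z : ℂ) * ∑ b : B, (if IsConj ((b : E) : G) g then (1 : ℂ) else 0) *
        conj (avgN A (χ : E → ℂ) b) := by
    have hA0 : (Nat.card A : ℂ) ≠ 0 := Nat.cast_ne_zero.2 Nat.card_pos.ne'
    have hB0 : (Nat.card B : ℂ) ≠ 0 := Nat.cast_ne_zero.2 Nat.card_pos.ne'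
    rw [classInner, ← (Equiv.ofBijective _ hbij).sum_comp, Fintype.sum_prod_type, Finset.sum_comm]
    simp only [Equiv.ofBijective_apply, hpow, ← Finset.mul_sum]
    rw [Finset.mul_sum, Finset.mul_sum]
    refine Finset.sum_congr rfl fun b _ => ?_
    rw [← map_sum, avgN, map_mul, map_inv₀, map_natCast,
      show (Nat.card E : ℂ) = Nat.card A * Nat.card B by rw [hAc, hBc, ← Nat.cast_mul, ← hE2]]
    split
    · rw [show (n : ℂ) = Nat.card B * z by rw [hBc, ← Nat.cast_mul, ← hz]]
      field_simp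
    · simp
  rw [hsum]
  refine (isIntegral_algebraMap (R := ℤ) (A := ℂ) (x := (z : ℤ)) |> fun h => ?_)
  refine IsIntegral.mul (by simpa using h) (IsIntegral.sum _ fun b _ => IsIntegral.mul ?_ ?_)
  · split
    · exact isIntegral_one
    · exact isIntegral_zero
  · rcases avgN_irr A χ.2 with ⟨-, h0⟩ | ⟨-, h0⟩ <;> rw [h0]
    · simp only [Pi.zero_apply, map_zero]
      exact isIntegral_zero
    · rw [← IsIrr.apply_inv χ.2]
      exact IsChar.isIntegral (IsIrr.isCharacter χ.2) _

omit [Fintype G] in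
/-- An exponent projecting on the part of the order dividing `n`. -/
theorem exists_projection_exponent [Finite G] {m n : ℕ} (hco : Nat.Coprime m n) :
    ∃ k : ℕ, (∀ x : G, orderOf x ∣ n → x ^ k = x) ∧ ∀ x : G, orderOf x ∣ m → x ^ k = 1 := by
  obtain ⟨k, hk1, hk2⟩ := Nat.chineseRemainder hco 0 1
  refine ⟨k, fun x hx => ?_, fun x hx => ?_⟩
  · conv_rhs => rw [← pow_one x]
    exact pow_eq_pow_iff_modEq.2 (hk2.of_dvd hx)
  · rw [← pow_zero x]
    exact pow_eq_pow_iff_modEq.2 (hk1.of_dvd hx)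

end Cfsg.Agent.Char.Brauer
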