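import Cfsg.Agent.Lib.Char.CycModular
import Cfsg.Agent.Lib.Char.SectionSpan
import Cfsg.Agent.Lib.Char.ResidueAlgebra
import Cfsg.Agent.Lib.Block.FirstMain
import Cfsg.Agent.Lib.Block.Elementary2
import Mathlib.LinearAlgebra.Trace

/-!
Simple modules over the residue field which are pairwise without maps and fixed by the idempotent of
a block bound its `p`-regular rank from below.
-/

namespace Cfsg.Agent.Char.CycMod

open Cfsg Cfsg.Agent.Block Cfsg.Agent.Char.Res

set_option linter.unusedSectionVars false
set_option linter.style.haveILetI false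

universe u v w

section density

variable {G : Type u} [Group G] [Fintype G] {k : Type v} [Field k]

theorem act_add {V : Type*} [AddCommGroup V] [Module k V] (ρ : G →* Module.End k V) (a b : G → k)
    (x : V) : act ρ (a + b) x = act ρ a x + act ρ b x := by
  simp [act_apply, add_smul, Finset.sum_add_distrib]

theorem act_smul {V : Type*} [AddCommGroup V] [Module k V] (ρ : G →* Module.End k V) (c : k)
    (a : G → k) (x : V) : act ρ (c • a) x = c • act ρ a x := by
  simp [act_apply, Finset.smul_sum, smul_smul]

theorem act_translate {V : Type*} [AddCommGroup V] [Module k V] (ρ : G →* Module.End k V) (h : G)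
    (a : G → k) (x : V) : act ρ (fun g => a (h⁻¹ * g)) x = ρ h (act ρ a x) := by
  rw [act_apply, act_apply, map_sum]
  refine Fintype.sum_equiv (Equiv.mulLeft h⁻¹) _ _ fun g => ?_
  rw [Equiv.coe_mulLeft, map_smul, ← Module.End.mul_apply, ← map_mul, mul_inv_cancel_left]

theorem act_single [DecidableEq G] {V : Type*} [AddCommGroup V] [Module k V]
    (ρ : G →* Module.End k V) (x : V) : act ρ (Pi.single (1 : G) (1 : k)) x = x := by
  rw [act_apply, Finset.sum_eq_single 1 (fun g _ hg => by rw [Pi.single_eq_of_ne hg, zero_smul])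
    (fun h => absurd (Finset.mem_univ _) h), Pi.single_eq_same, one_smul, map_one,
    Module.End.one_apply]

variable [IsAlgClosed k] {ι : Type} [Fintype ι] {S : ι → Type w} [∀ i, AddCommGroup (S i)]
  [∀ i, Module k (S i)] [∀ i, FiniteDimensional k (S i)] (σ : ∀ i, G →* Module.End k (S i))

/-- Density for finitely many pairwise disjoint simple representations. -/
theorem exists_trace_dual (hirr : ∀ i, Irr (σ i))
    (hhom : ∀ i j, i ≠ j → ∀ f : S i →ₗ[k] S j, Intw (σ i) (σ j) f → f = 0) (i : ι) :
    ∃ a : G → k, ∀ j, LinearMap.trace k (S j) (act (σ j) a) =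
      open Classical in if j = i then 1 else 0 := by
  classical
  let d : ι → ℕ := fun i => Module.finrank k (S i)
  let b : ∀ i, Module.Basis (Fin (d i)) k (S i) := fun i => Module.finBasis k (S i)
  have key : ∀ (J : Finset (Σ i, Fin (d i))) (y : ∀ m : Σ i, Fin (d i), S m.1),
      ∃ a : G → k, ∀ m ∈ J, act (σ m.1) a (b m.1 m.2) = y m := by
    intro J
    induction J using Finset.induction with
    | empty => exact fun y => ⟨0, fun m hm => by simp at hm⟩
    | insert n J hn ih =>
      let L : Submodule k (S n.1) :=
        { carrier := {x | ∃ a : G → k, (∀ m ∈ J, act (σ m.1) a (b m.1 m.2) = 0) ∧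
            act (σ n.1) a (b n.1 n.2) = x}
          zero_mem' := ⟨0, fun m _ => by simp [act_apply], by simp [act_apply]⟩
          add_mem' := by
            rintro x z ⟨a, ha, rfl⟩ ⟨c, hc, rfl⟩
            exact ⟨a + c, fun m hm => by rw [act_add, ha m hm, hc m hm, add_zero], act_add _ _ _ _⟩
          smul_mem' := by
            rintro c x ⟨a, ha, rfl⟩
            exact ⟨c • a, fun m hm => by rw [act_smul, ha m hm, smul_zero], act_smul _ _ _ _⟩ }
      have hLinv : ∀ g, ∀ x ∈ L, σ n.1 g x ∈ L := by
        rintro g x ⟨a, ha, rfl⟩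
        exact ⟨fun h => a (g⁻¹ * h), fun m hm => by rw [act_translate, ha m hm, map_zero],
          act_translate _ _ _ _⟩
      rcases (hirr n.1).2 L hLinv with hL | hL
      · -- everything killed on `J` is killed at `n`: a linear relation
        exfalso
        have hkill : ∀ a : G → k, (∀ m ∈ J, act (σ m.1) a (b m.1 m.2) = 0) →
            act (σ n.1) a (b n.1 n.2) = 0 := fun a ha => by
          have : act (σ n.1) a (b n.1 n.2) ∈ L := ⟨a, ha, rfl⟩
          rwa [hL, Submodule.mem_bot] at this
        have hwd : ∀ a c : G → k, (∀ m ∈ J, act (σ m.1) a (b m.1 m.2) =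
            act (σ m.1) c (b m.1 m.2)) →
            act (σ n.1) a (b n.1 n.2) = act (σ n.1) c (b n.1 n.2) := fun a c h => by
          have h2 := hkill (a + (-1 : k) • c) fun m hm => by
            rw [act_add, act_smul, h m hm, neg_one_smul, add_neg_cancel]
          rwa [act_add, act_smul, neg_one_smul, ← sub_eq_add_neg, sub_eq_zero] at h2
        have hsel : ∀ (m : {m // m ∈ J}) (x : S m.1.1), ∃ a : G → k, ∀ l ∈ J,
            act (σ l.1) a (b l.1 l.2) = if h : m.1 = l then h ▸ x else 0 := fun m x => ih _
        choose A hA using hsel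
        let f : ∀ m : {m // m ∈ J}, S m.1.1 →ₗ[k] S n.1 := fun m =>
          { toFun := fun x => act (σ n.1) (A m x) (b n.1 n.2)
            map_add' := fun x z => by
              rw [← act_add]
              refine hwd _ _ fun l hl => ?_
              rw [act_add, hA m _ l hl, hA m x l hl, hA m z l hl]
              split
              · next h => subst h; rfl
              · rw [add_zero]
            map_smul' := fun c x => by
              rw [RingHom.id_apply, ← act_smul]
              refine hwd _ _ fun l hl => ?_
              rw [act_smul, hA m _ l hl, hA m x l hl]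
              split
              · next h => subst h; rfl
              · rw [smul_zero] }
        have hf : ∀ m, Intw (σ m.1.1) (σ n.1) (f m) := fun m g x => by
          show act (σ n.1) (A m (σ m.1.1 g x)) _ = σ n.1 g (act (σ n.1) (A m x) _)
          rw [← act_translate]
          refine hwd _ _ fun l hl => ?_
          rw [act_translate, hA m _ l hl, hA m x l hl]
          split
          · next h => subst h; rfl
          · rw [map_zero]
        have hsum : b n.1 n.2 = ∑ m : {m // m ∈ J}, f m (b m.1.1 m.1.2) := by
          have h1 := hwd (Pi.single (1 : G) (1 : k))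
            (∑ m : {m // m ∈ J}, A m (b m.1.1 m.1.2)) fun l hl => by
            rw [act_single]
            have hs : act (σ l.1) (∑ m : {m // m ∈ J}, A m (b m.1.1 m.1.2)) (b l.1 l.2) =
                ∑ m : {m // m ∈ J}, act (σ l.1) (A m (b m.1.1 m.1.2)) (b l.1 l.2) := by
              simp only [act_apply, Finset.sum_apply, Finset.sum_smul]
              rw [Finset.sum_comm]
            rw [hs, Finset.sum_congr rfl fun m _ => hA m _ l hl,
              Finset.sum_eq_single (⟨l, hl⟩ : {m // m ∈ J})
                (fun m _ hm => dif_neg fun e => hm (Subtype.ext e))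
                (fun h => absurd (Finset.mem_univ _) h), dif_pos rfl]
          rw [act_single] at h1
          rw [h1]
          simp only [act_apply, Finset.sum_apply, Finset.sum_smul]
          rw [Finset.sum_comm]
          exact Finset.sum_congr rfl fun m _ => (act_apply _ _ _).symm
        -- the coordinate at `n` vanishes on the right
        have hz : ∀ m : {m // m ∈ J}, (b n.1).coord n.2 (f m (b m.1.1 m.1.2)) = 0 := by
          rintro ⟨⟨i', j'⟩, hm⟩
          by_cases hi : i' = n.1
          · subst hi
            obtain ⟨c, hc⟩ := schur (σ n.1) (hirr n.1) (hf ⟨⟨n.1, j'⟩, hm⟩)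
            rw [hc, map_smul, Module.Basis.coord_apply, Module.Basis.repr_self,
              Finsupp.single_eq_of_ne (fun e => hn (by obtain ⟨n1, n2⟩ := n; simp_all)), smul_zero]
          · rw [hhom _ _ hi _ (hf ⟨⟨i', j'⟩, hm⟩), LinearMap.zero_apply, map_zero]
        have h2 := congrArg ((b n.1).coord n.2) hsum
        rw [map_sum, Finset.sum_eq_zero fun m _ => hz m, Module.Basis.coord_apply,
          Module.Basis.repr_self, Finsupp.single_eq_same] at h2
        exact one_ne_zero h2
      · intro y
        obtain ⟨a, ha⟩ := ih y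
        obtain ⟨c, hc, hc'⟩ : y n - act (σ n.1) a (b n.1 n.2) ∈ L := hL ▸ Submodule.mem_top
        refine ⟨a + c, fun m hm => ?_⟩
        rw [act_add]
        rcases Finset.mem_insert.1 hm with rfl | hm
        · rw [hc', add_sub_cancel]
        · rw [ha m hm, hc m hm, add_zero]
  obtain ⟨hne, -⟩ := hirr i
  have hd : 0 < d i := Module.finrank_pos
  obtain ⟨a, ha⟩ := key Finset.univ fun m =>
    if m = ⟨i, ⟨0, hd⟩⟩ then b m.1 m.2 else 0
  refine ⟨a, fun j => ?_⟩
  rw [LinearMap.trace_eq_matrix_trace k (b j), Matrix.trace]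
  simp only [Matrix.diag_apply, LinearMap.toMatrix_apply]
  have hval : ∀ q, (b j).repr (act (σ j) a (b j q)) q =
      if (⟨j, q⟩ : Σ i, Fin (d i)) = ⟨i, ⟨0, hd⟩⟩ then 1 else 0 := by
    intro q
    rw [ha ⟨j, q⟩ (Finset.mem_univ _)]
    split
    · simp
    · simp
  rw [Finset.sum_congr rfl fun q _ => hval q]
  by_cases hij : j = i
  · subst hij
    rw [if_pos rfl, Finset.sum_eq_single (⟨0, hd⟩ : Fin (d j))]
    · simp
    · intro q _ hq
      exact if_neg fun e => hq (by simpa using e)
    · exact fun h => absurd (Finset.mem_univ _) h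
  · rw [if_neg hij]
    exact Finset.sum_eq_zero fun q _ => if_neg fun e => hij (congrArg Sigma.fst e)

end density

section rank

variable {G : Type u} [Group G] [Fintype G] {p : ℕ} [hp : Fact p.Prime] {M : Ideal AlgInt}

/-- The trace of a representation in characteristic `p` depends only on the regular part. -/
theorem trace_pPart {k : Type v} [Field k] [CharP k p] {V : Type w} [AddCommGroup V] [Module k V]
    [FiniteDimensional k V] (ρ : G →* Module.End k V) {u v : G} (hc : Commute u v) {a : ℕ}
    (hu : u ^ p ^ a = 1) :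
    LinearMap.trace k V (ρ (u * v)) = LinearMap.trace k V (ρ v) := by
  haveI : Subsingleton (Module.End k V) ∨ True := Or.inr trivial
  rw [show ρ (u * v) = (ρ u - 1) * ρ v + ρ v by rw [sub_mul, one_mul, map_mul]; abel, map_add]
  have hnil : IsNilpotent (ρ u - 1) := by
    refine ⟨p ^ a, ?_⟩
    rcases subsingleton_or_nontrivial (Module.End k V) with h | h
    · exact Subsingleton.elim _ _
    · haveI : CharP (Module.End k V) p := charP_of_injective_algebraMap
        (FaithfulSMul.algebraMap_injective k (Module.End k V)) p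
      rw [sub_pow_char_pow_of_commute (p := p) (h := Commute.one_right (ρ u)), one_pow, ← map_pow, hu, map_one,
        sub_self]
  have hn2 : IsNilpotent ((ρ u - 1) * ρ v) :=
    (Commute.sub_left (hc.map ρ) (Commute.one_left _)).isNilpotent_mul_right hnil
  rw [(LinearMap.isNilpotent_trace_of_isNilpotent hn2).eq_zero, zero_add]

variable (hM : IsPModular p M)

theorem red_sum_mul {ι : Type*} (s : Finset ι) (f g : ι → ℂ) (hf : ∀ i, MemLocalRing M (f i))
    (hg : ∀ i, MemLocalRing M (g i)) :
    red hM (∑ i ∈ s, f i * g i) = ∑ i ∈ s, red hM (f i) * red hM (g i) := by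
  rw [red_sum hM fun i _ => ring_mul hM (hf i) (hg i)]
  exact Finset.sum_congr rfl fun i _ => red_mul hM (hf i) (hg i)

/-- The idempotent of a block against a member of the group: a projection on the block. -/
theorem sum_blockCoeff_mul_irr (B : Set (IrrCharacter G)) (χ : IrrCharacter G) (g : G) :
    ∑ h : G, blockCoeff B h * (χ : G → ℂ) (h * g) =
      open Classical in if χ ∈ B then (χ : G → ℂ) g else 0 := by
  classical
  have h1 := blockPart_eq_conv B (θ := (χ : G → ℂ)) (irr_classFun χ) g
  have h2 : blockPart B (χ : G → ℂ) g = if χ ∈ B then (χ : G → ℂ) g else 0 := by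
    have hfi : ∀ a b : G → ℂ,
        @classInner G _ (Fintype.ofFinite G) a b = classInner a b := fun a b => by
      congr!
    simp only [blockPart, hfi]
    rw [finsum_mem_eq_sum_of_inter_support_eq _ (t := Finset.univ.filter (· ∈ B)) (by ext; simp),
      Finset.sum_filter, Finset.sum_eq_single χ (fun ψ _ hψ => ?_)
        (fun h => absurd (Finset.mem_univ _) h)]
    · split
      · rw [classInner_self_irr χ.2, one_mul]
      · rfl
    · split
      · rw [classInner_irr_ne χ.2 ψ.2 (fun e => hψ (Subtype.ext e).symm), zero_mul]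
      · rfl
  rw [← h2, h1]

/-- Every residue class function constant on sections is a combination of reduced characters. -/
theorem exists_red_comb (τ : G → ResField hM) (hcl : ∀ g t : G, τ (t * g * t⁻¹) = τ g)
    (hsec : ∀ g u v : G, u * v = g → Commute u v → (∃ a, orderOf u = p ^ a) → ¬ p ∣ orderOf v →
      τ g = τ v) :
    ∃ c : IrrCharacter G → ResField hM, ∀ g, τ g = ∑ χ, c χ * red hM ((χ : G → ℂ) g) := by
  classical
  letI := resInst hM
  haveI : CharP (ResField hM) p := resField_charP hM
  have hG0 : Nat.card G ≠ 0 := Nat.card_pos.ne'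
  set n := Nat.card G / p ^ (Nat.card G).factorization p with hn
  set m := p ^ (Nat.card G).factorization p with hm
  have hmn : Nat.card G = m * n := (Nat.ordProj_mul_ordCompl_eq_self _ p).symm
  have hpn : ¬ p ∣ n := Nat.not_dvd_ordCompl hp.out hG0
  have hco : Nat.Coprime m n := (hp.out.coprime_iff_not_dvd.2 hpn).pow_left _
  obtain ⟨k, hk, hk'⟩ := Brauer.exists_projection_exponent (G := G) hco
  have hn0 : (n : ResField hM) ≠ 0 := by rwa [Ne, CharP.cast_eq_zero_iff (ResField hM) p]
  have hdec : ∀ g u v : G, u * v = g → Commute u v → (∃ a, orderOf u = p ^ a) →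
      ¬ p ∣ orderOf v → g ^ k = v := by
    intro g u v huv hc hu hv
    obtain ⟨a, ha⟩ := hu
    have h1 : orderOf u ∣ m :=
      (Nat.Coprime.dvd_of_dvd_mul_right (ha ▸ (hp.out.coprime_iff_not_dvd.2 hpn).pow_left a)
        (hmn ▸ orderOf_dvd_natCard u))
    have h2 : orderOf v ∣ n := Nat.Coprime.dvd_of_dvd_mul_left
      ((hp.out.coprime_iff_not_dvd.2 hv).symm.pow_right _) (hmn ▸ orderOf_dvd_natCard v)
    rw [← huv, hc.mul_pow, hk' u h1, hk v h2, one_mul]
  have hpk : ∀ g : G, τ g = τ (g ^ k) := fun g => by
    obtain ⟨u, v, huv, hc, hu, hv, -, -⟩ := exists_pPart_zpowers (p := p) g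
    rw [hdec g u v huv hc hu hv]
    exact hsec g u v huv hc hu hv
  choose c hc hdecomp using fun y : G => Brauer.algComb_section hmn hco hk hk' y
  let cnt : G → ℕ := fun y => (Finset.univ.filter fun z => IsConj z y).card
  -- normalising weights: one representative per class
  let rep : G → Prop := fun y => (Quotient.mk'' y : ConjClasses G).out = y
  refine ⟨fun χ => ∑ y : G, if rep y ∧ y ^ k = y then (n : ResField hM)⁻¹ * τ y * red hM (c y χ)
    else 0, fun g => ?_⟩
  have hy : ∀ y : G, ∑ χ : IrrCharacter G, red hM (c y χ) * red hM ((χ : G → ℂ) g) =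
      if IsConj (g ^ k) y then (n : ResField hM) else 0 := by
    intro y
    rw [← red_sum_mul hM Finset.univ _ _ (fun χ => ring_of_integral hM (hc y χ))
      (fun χ => irr_ring hM χ g)]
    have e := congrFun (hdecomp y) g
    simp only [Finset.sum_apply, Pi.smul_apply, smul_eq_mul] at e
    rw [← e]
    split
    · exact red_natCast hM n
    · exact red_zero hM
  simp only [Finset.sum_mul]
  rw [Finset.sum_comm]
  have hterm : ∀ y : G, ∑ χ : IrrCharacter G,
      (if rep y ∧ y ^ k = y then (n : ResField hM)⁻¹ * τ y * red hM (c y χ) else 0) *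
        red hM ((χ : G → ℂ) g) =
      if (rep y ∧ y ^ k = y) ∧ IsConj (g ^ k) y then τ y else 0 := by
    intro y
    by_cases h : rep y ∧ y ^ k = y
    · simp only [if_pos h, mul_assoc]
      rw [← Finset.mul_sum, ← Finset.mul_sum, hy]
      by_cases h' : IsConj (g ^ k) y
      · rw [if_pos h', if_pos ⟨h, h'⟩, mul_comm (τ y), inv_mul_cancel_left₀ hn0]
      · rw [if_neg h', if_neg (fun hh => h' hh.2), mul_zero, mul_zero]
    · rw [if_neg fun hh : (rep y ∧ y ^ k = y) ∧ IsConj (g ^ k) y => h hh.1]
      exact Finset.sum_eq_zero fun χ _ => by rw [if_neg h, zero_mul]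
  rw [Finset.sum_congr rfl fun y _ => hterm y]
  set y₀ := (Quotient.mk'' (g ^ k) : ConjClasses G).out with hy₀
  have hconj : IsConj (g ^ k) y₀ := ((Quotient.exact' (Quotient.out_eq' (Quotient.mk'' (g ^ k) : ConjClasses G))) :
    IsConj y₀ (g ^ k)).symm
  have hrep0 : rep y₀ := by
    show (Quotient.mk'' y₀ : ConjClasses G).out = y₀
    rw [hy₀, Quotient.out_eq']
  have hy0k : y₀ ^ k = y₀ := by
    obtain ⟨u, v, huv, hc', hu, hv, -, -⟩ := exists_pPart_zpowers (p := p) g
    obtain ⟨t, ht⟩ := isConj_iff.1 hconj
    rw [← ht, conj_pow, hdec g u v huv hc' hu hv]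
    rw [hdec v 1 v (one_mul v) (Commute.one_left v) ⟨0, by simp⟩ hv]
  rw [Finset.sum_eq_single y₀ (fun y _ hy' => if_neg fun hh => hy' ?_)
    (fun h => absurd (Finset.mem_univ _) h), if_pos ⟨⟨hrep0, hy0k⟩, hconj⟩, hpk g]
  · obtain ⟨t, ht⟩ := isConj_iff.1 hconj
    rw [← ht, hcl]
  · rw [hy₀, ← hh.1.1]
    exact congrArg Quotient.out (Quotient.sound hh.2.symm)

/-- Pairwise disjoint simple modules fixed by the idempotent of a block bound its rank. -/
theorem le_blockRank {B : Set (IrrCharacter G)} (hB : IsPBlock M B) {ι : Type} [Fintype ι]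
    {S : ι → Type w} [∀ i, AddCommGroup (S i)]
    (hmod : letI := resInst hM
      ∃ (_ : ∀ i, Module (ResField hM) (S i)) (_ : ∀ i, FiniteDimensional (ResField hM) (S i))
        (σ : ∀ i, G →* Module.End (ResField hM) (S i)), (∀ i, Irr (σ i)) ∧
        (∀ i j, i ≠ j → ∀ f : S i →ₗ[ResField hM] S j, Intw (σ i) (σ j) f → f = 0) ∧
        ∀ i x, act (σ i) (fun g => red hM (blockCoeff B g)) x = x) :
    Fintype.card ι ≤ blockRank p B := by
  classical
  letI := resInst hM
  obtain ⟨_, _, σ, hirr, hhom, hB1⟩ := hmod
  haveI : CharP (ResField hM) p := resField_charP hM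
  haveI : IsAlgClosed (ResField hM) := resField_isAlgClosed hM
  let τ : ι → G → ResField hM := fun i g => LinearMap.trace _ (S i) (σ i g)
  have hτcl : ∀ i g t, τ i (t * g * t⁻¹) = τ i g := fun i g t => by
    simp only [τ, map_mul]
    rw [LinearMap.trace_mul_comm, ← mul_assoc, ← map_mul, inv_mul_cancel, map_one, one_mul]
  have hτp : ∀ i (g u v : G), u * v = g → Commute u v → (∃ a, orderOf u = p ^ a) →
      ¬ p ∣ orderOf v → τ i g = τ i v := by
    rintro i g u v rfl hc ⟨a, ha⟩ -
    exact trace_pPart (σ i) hc (a := a) (ha ▸ pow_orderOf_eq_one u)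
  choose c hc using fun i => exists_red_comb hM (τ i) (hτcl i) (hτp i)
  -- only members of the block are needed
  have hcB : ∀ i g, τ i g =
      ∑ χ ∈ Finset.univ.filter (· ∈ B), c i χ * red hM ((χ : G → ℂ) g) := by
    intro i g
    have hbr : ∀ h, MemLocalRing M (blockCoeff B h) := fun h => blockCoeff_ring hM hB h
    calc τ i g = LinearMap.trace _ (S i) (act (σ i) (fun h => red hM (blockCoeff B h)) * σ i g) := by
          rw [show act (σ i) (fun h => red hM (blockCoeff B h)) = 1 from
            LinearMap.ext fun x => by rw [hB1]; rfl, one_mul]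
      _ = ∑ h, red hM (blockCoeff B h) * τ i (h * g) := by
          simp only [act, Finset.sum_mul, map_sum, smul_mul_assoc, map_smul, smul_eq_mul, ← map_mul]
          rfl
      _ = ∑ χ, c i χ * red hM (∑ h, blockCoeff B h * (χ : G → ℂ) (h * g)) := by
          simp only [hc, Finset.mul_sum]
          rw [Finset.sum_comm]
          refine Finset.sum_congr rfl fun χ _ => ?_
          rw [red_sum_mul hM _ _ _ hbr (fun h => irr_ring hM χ _), Finset.mul_sum]
          exact Finset.sum_congr rfl fun h _ => by ring
      _ = _ := by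
          rw [Finset.sum_filter]
          refine Finset.sum_congr rfl fun χ _ => ?_
          rw [sum_blockCoeff_mul_irr]
          split
          · rfl
          · rw [red_zero, mul_zero]
  choose a ha using exists_trace_dual σ hirr hhom
  have hdual : ∀ i j, ∑ g, a j g * τ i g = if i = j then 1 else 0 := fun i j => by
    rw [← ha j i, act, map_sum]
    simp [τ]
  choose cl hclr hcl using fun i χ => red_surjective hM (c i χ) |>.imp fun _ h => h
  choose al halr hal using fun i g => red_surjective hM (a i g) |>.imp fun _ h => h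
  let Φ : ι → G → ℂ := fun i => ∑ χ ∈ Finset.univ.filter (· ∈ B),
    cl i χ • pRegularPart p (χ : G → ℂ)
  choose uu vv huv hcomm hu hv huz hvz using fun g : G => exists_pPart_zpowers (p := p) g
  let A : Matrix ι ι ℂ := fun i j => ∑ g, al j g * Φ i (vv g)
  have hΦr : ∀ i g, MemLocalRing M (Φ i (vv g)) := fun i g => by
    simp only [Φ, Finset.sum_apply, Pi.smul_apply, smul_eq_mul]
    refine ring_sum hM fun χ _ => ring_mul hM (hclr i χ) ?_
    rw [pRegularPart_apply, if_pos (show IsPRegular p (vv g) from hv g)]
    exact irr_ring hM χ _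
  have hA : ∀ i j, red hM (A i j) = if i = j then 1 else 0 := by
    intro i j
    rw [← hdual i j]
    simp only [A]
    rw [red_sum_mul hM _ _ _ (halr j) (hΦr i)]
    refine Finset.sum_congr rfl fun g _ => ?_
    rw [hal, hτp i g (uu g) (vv g) (huv g) (hcomm g) (hu g) (hv g), hcB]
    congr 1
    simp only [Φ, Finset.sum_apply, Pi.smul_apply, smul_eq_mul]
    rw [red_sum_mul hM _ _ _ (hclr i) fun χ => by
      rw [pRegularPart_apply, if_pos (show IsPRegular p (vv g) from hv g)]; exact irr_ring hM χ _]
    exact Finset.sum_congr rfl fun χ _ => by rw [hcl, pRegularPart_apply, if_pos (show IsPRegular p (vv g) from hv g)]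
  let e := Fintype.equivFin ι
  have hdet : (A.submatrix e.symm e.symm).det ≠ 0 := by
    refine det_ne_zero_of_red_eq_one hM (fun i j => ring_sum hM fun g _ =>
      ring_mul hM (halr _ g) (hΦr _ g)) ?_
    ext i j
    show red hM (A (e.symm i) (e.symm j)) = _
    rw [hA, Matrix.one_apply]
    simp
  have hli : LinearIndependent ℂ Φ := by
    rw [Fintype.linearIndependent_iff]
    intro r hr i
    have hvec : Matrix.vecMul (fun q => r (e.symm q)) (A.submatrix e.symm e.symm) = 0 := by
      funext q
      simp only [Matrix.vecMul, dotProduct, Matrix.submatrix_apply, Pi.zero_apply]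
      rw [Fintype.sum_equiv e.symm _ (fun i => r i * A i (e.symm q)) fun _ => rfl]
      simp only [A, Finset.mul_sum]
      rw [Finset.sum_comm]
      refine Finset.sum_eq_zero fun g _ => ?_
      have h0 := congrFun hr (vv g)
      simp only [Finset.sum_apply, Pi.smul_apply, smul_eq_mul, Pi.zero_apply] at h0
      rw [Finset.sum_congr rfl fun i _ => mul_left_comm (r i) (al (e.symm q) g) (Φ i (vv g)),
        ← Finset.mul_sum, h0, mul_zero]
    simpa using congrFun (Matrix.eq_zero_of_vecMul_eq_zero hdet hvec) (e i)
  have hle : Submodule.span ℂ (Set.range Φ) ≤ Submodule.span ℂ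
      ((fun χ : IrrCharacter G => pRegularPart p (χ : G → ℂ)) '' B) := by
    refine Submodule.span_le.2 ?_
    rintro _ ⟨i, rfl⟩
    exact Submodule.sum_mem _ fun χ hχ => Submodule.smul_mem _ _
      (Submodule.subset_span ⟨χ, (Finset.mem_filter.1 hχ).2, rfl⟩)
  rw [← finrank_span_eq_card hli, blockRank]
  exact Submodule.finrank_mono hle

end rank

end Cfsg.Agent.Char.CycMod
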