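import Cfsg.Agent.Lib.Char.StarTransfer
import Cfsg.Agent.Lib.Char.Complete

/-!
On a `p`-group the weighted sum over the pairs, for an idempotent fixed by the group, is a
generalized character.
-/

open scoped ComplexConjugate

namespace Cfsg.Agent.Char.Star

open Cfsg.Agent.Block Cfsg.Agent.Char Cfsg.Agent.Char.BP Cfsg.Agent.Char.Spec

set_option linter.unusedSectionVars false
set_option linter.style.haveILetI false
set_option maxHeartbeats 1000000

universe u

/-- A class function with integral inner products is a generalized character. -/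
theorem isGenChar_of_inner {H : Type u} [Group H] [Fintype H] {θ : H → ℂ}
    (hθ : IsClassFunction H θ)
    (h : ∀ ψ : IrrCharacter H, ∃ n : ℤ, classInner θ (ψ : H → ℂ) = n) :
    IsGeneralizedCharacter H θ := by
  classical
  choose n hn using h
  rw [classFunction_expansion hθ]
  exact IsGenChar.sum fun ψ _ => by
    rw [hn]
    exact IsGenChar.zsmul (IsGenChar.of_isCharacter (irr_isChar ψ)) _

variable {G : Type u} [Group G] [Fintype G] [DecidableEq G] {p : ℕ} [Fact p.Prime]
  {M : Ideal AlgInt} {w : G → BrauerPairIdx G → ℂ} {χ : G → ℂ}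

local notation "sgl" => fun g : G => MonoidAlgebra.single g (1 : ℂ)

/-- Below a pair the weights form a generalized character. -/
def WLoc (p : ℕ) (M : Ideal AlgInt) (w : G → BrauerPairIdx G → ℂ) : Prop :=
  ∀ r : BrauerPairIdx G, IsPr p M r → ∃ φ : r.1 → ℂ, IsGeneralizedCharacter r.1 φ ∧
    ∀ (v : r.1) (a : BrauerPairIdx G), a.1 = Subgroup.zpowers (v : G) → LE p M a r →
      w (v : G) a = φ v

theorem order_pow {Q : Subgroup G} (hQ : IsPGroup p Q) (v : Q) :
    ∃ k, orderOf (v : G) = p ^ k := by
  obtain ⟨k, hk⟩ := IsPGroup.iff_orderOf.1 hQ v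
  exact ⟨k, by rw [Subgroup.orderOf_coe, hk]⟩

theorem classFun_theta (hM : IsPModular p M) (hf : IsClassFunction G χ) (hw : WConj p M w)
    {Q : Subgroup G} (hQ : IsPGroup p Q) {x : MonoidAlgebra ℂ G} (hx : Fx M Q x)
    (hxx : AlgIdeal M (x * x - x)) :
    IsClassFunction Q (fun v : Q => theta p M w χ x v) := by
  intro v q
  have h := theta_conj hM hf hw (order_pow hQ v) hx v.2 hxx (q : G)
  rw [cjA_fix (hx.2 (q : G) q.2)] at h
  exact h

/-- The case of a primitive idempotent lying in the pairs below one pair. -/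
theorem genChar_local (hM : IsPModular p M) (hχ : IsCharacter G χ) (hloc : WLoc p M w)
    {Q : Subgroup G} (hQ : IsPGroup p Q) {i : MonoidAlgebra ℂ G} (hi : Prim M Q i)
    (hne : ¬ BrEq M Q i 0) :
    IsGeneralizedCharacter Q (fun v : Q => theta p M w χ i v) := by
  obtain ⟨f, hf, htop⟩ := exists_top_pair hM hQ hi hne
  set r : BrauerPairIdx G := ⟨Q, f⟩ with hr
  have hpr : IsPr p M r := ⟨hQ, hf⟩
  obtain ⟨φ, hφ, hφw⟩ := hloc r hpr
  have hcl : IsClassFunction G χ := IsChar.classFun hχ
  have he : (fun v : Q => theta p M w χ i v) =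
      φ * fun v : Q => ev χ (sgl (v : G) * i) := by
    funext v
    obtain ⟨a, ha, hle⟩ := exists_le hM hpr (Q := Subgroup.zpowers (v : G))
      (Subgroup.zpowers_le.2 v.2)
    have hv := order_pow hQ v
    rw [theta_local hM hcl hv (hi.1.mono (Subgroup.zpowers_le.2 v.2)) hi.2.1
      (mem_prs.2 ⟨ha, le_isPr hle hpr⟩) (source_local hM hpr hi hne htop hle),
      hφw v a ha hle]
    rfl
  rw [he]
  exact IsGenChar.mul hφ (IsGenChar.of_isCharacter (isCharacter_cut hχ hi.2.1 hi.1.2))

/-- The case of a primitive idempotent vanishing at the group, from the smaller groups. -/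
theorem genChar_nonlocal (hM : IsPModular p M) (hcl : IsClassFunction G χ) (hw : WConj p M w)
    {Q : Subgroup G} (hQ : IsPGroup p Q) {j : MonoidAlgebra ℂ G} (hj : Prim M Q j) (hj0 : j ≠ 0)
    (h0 : BrEq M Q j 0)
    (ih : ∀ R < Q, ∀ x, Fx M R x → AlgIdeal M (x * x - x) →
      IsGeneralizedCharacter R (fun v : R => theta p M w χ x v)) :
    IsGeneralizedCharacter Q (fun v : Q => theta p M w χ j v) := by
  classical
  obtain ⟨R, t, c, hR, ht, htR, hc, hform⟩ := exists_trace_form hM hQ hj hj0 h0
  have hRlt : R < Q := hR.lt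
  have hRp : IsPGroup p R := hQ.to_le hR.1
  have hjj : AlgIdeal M (j * j - j) := by rw [hj.2.1, sub_self]; exact AlgIdeal.zero hM
  have hvan : ∀ v : Q, (v : G) ∉ R → theta p M w χ j v = 0 := by
    intro v hv
    have hvp := order_pow hQ v
    refine theta_of_brEq_zero hM hcl hvp (hj.1.mono (Subgroup.zpowers_le.2 v.2)) fun x hx => ?_
    rw [cg_zpowers, Subgroup.mem_centralizer_singleton_iff] at hx
    have hfix : ∀ i : Fin p, (cjA (t ^ (i : ℕ)) c).coeff x = c.coeff x := by
      intro i
      obtain ⟨m, hm, -⟩ := hR.coset hQ v.2 hv (t ^ (i : ℕ)) (pow_mem ht _)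
      have hinv := (fx_iff.1 hc).2 _ (inv_mem hm) x
      simp only [inv_inv] at hinv
      rw [cjA_coeff, ← hinv]
      congr 1
      have hcomm : Commute x ((v : G) ^ (m : ℕ)) := (show Commute x (v : G) from hx).pow_right _
      calc (t ^ (i : ℕ))⁻¹ * x * t ^ (i : ℕ) =
          (t ^ (i : ℕ))⁻¹ * ((v : G) ^ (m : ℕ) * ((v : G) ^ (m : ℕ))⁻¹ * x) * t ^ (i : ℕ) := by
            group
        _ = (t ^ (i : ℕ))⁻¹ * ((v : G) ^ (m : ℕ) * (x * ((v : G) ^ (m : ℕ))⁻¹)) * t ^ (i : ℕ) := by
            rw [mul_assoc ((v : G) ^ (m : ℕ)), hcomm.inv_right.eq]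
        _ = _ := by group
    have h1 := hform x
    rw [MonoidAlgebra.coeff_sub, Finsupp.sub_apply, MonoidAlgebra.coeff_sum,
      Finsupp.coe_finsetSum, Finset.sum_apply, Finset.sum_congr rfl (fun i _ => hfix i),
      Finset.sum_const, Finset.card_univ, Fintype.card_fin, nsmul_eq_mul] at h1
    have h2 := ideal_add hM h1 (ideal_mul_right hM (ideal_p hM) (hc.1 x))
    simpa using h2
  have hcf := classFun_theta hM hcl hw hQ hj.1 hjj
  refine isGenChar_of_inner hcf fun ψ => ?_
  set ψR : R → ℂ := fun v => (ψ : Q → ℂ) ⟨v, hR.1 v.2⟩ with hψR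
  have hψgen : IsGeneralizedCharacter R ψR :=
    IsGenChar.comp (Subgroup.inclusion hR.1) (IsGenChar.of_isCharacter (irr_isChar ψ))
  have hex : ∀ x, Fx M R x → AlgIdeal M (x * x - x) →
      ∃ n : ℤ, classInner (fun v : R => theta p M w χ x v) ψR = n := fun x hx hxx =>
    IsGenChar.classInner_int (ih R hRlt x hx hxx) hψgen
  let N : MonoidAlgebra ℂ G → ℤ := fun x =>
    if h : ∃ n : ℤ, classInner (fun v : R => theta p M w χ x v) ψR = n then h.choose else 0
  have hN : ∀ x, Fx M R x → AlgIdeal M (x * x - x) →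
      classInner (fun v : R => theta p M w χ x v) ψR = N x := fun x hx hxx => by
    simp only [N, dif_pos (hex x hx hxx)]
    exact (hex x hx hxx).choose_spec
  have hNeq : ∀ x y, (fun v : R => theta p M w χ x v) = (fun v : R => theta p M w χ y v) →
      N x = N y := fun x y h => by simp only [N, h]
  have hdvd : (p : ℤ) ∣ N j := by
    refine dvd_of_trace_form hM hR hj.1 hj.2.1 ht hc hform N ?_ ?_ ?_ ?_
    · intro x y hx hy hxy
      exact hNeq x y (funext fun v => theta_congr hM (order_pow hRp v) hx hy v.2 hxy)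
    · intro x y hx hy hxx hyy hxy hyx
      have hsum : AlgIdeal M ((x + y) * (x + y) - (x + y)) := by
        convert (hxx.add hM hyy).add hM (hxy.add hM hyx) using 1
        noncomm_ring
      have h := hN _ (hx.add hM hy) hsum
      rw [show (fun v : R => theta p M w χ (x + y) v) =
          (fun v : R => theta p M w χ x v) + (fun v : R => theta p M w χ y v) from
        funext fun v => theta_add hM hcl (order_pow hRp v) hx hy v.2 hxx hyy hxy hyx] at h
      rw [show classInner ((fun v : R => theta p M w χ x v) + fun v : R => theta p M w χ y v) ψR =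
          classInner (fun v : R => theta p M w χ x v) ψR +
            classInner (fun v : R => theta p M w χ y v) ψR by
        simp [classInner, add_mul, Finset.sum_add_distrib, mul_add],
        hN x hx hxx, hN y hy hyy] at h
      exact_mod_cast h.symm
    · intro x y hx hy h1 h2
      exact hNeq _ _ (funext fun v => theta_swap hM hcl (order_pow hRp v) hx hy v.2 h1 h2)
    · intro q hq x hx hxx
      have hqf : Fx M R (cjA q x) := ⟨cjA_ring hM q hx.1, fun r hr => by
        have hr' : q⁻¹ * r * q ∈ R := by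
          have := hR.2.1 q⁻¹ (inv_mem hq) r hr
          rwa [inv_inv] at this
        exact (cjA_fx hM q hx).2 r (mem_map_conj.2 hr')⟩
      have hqq : AlgIdeal M (cjA q x * cjA q x - cjA q x) := fun g => by
        rw [← cjA_mul, ← cjA_sub, cjA_coeff]; exact hxx _
      have h := hN _ hqf hqq
      suffices classInner (fun v : R => theta p M w χ (cjA q x) v) ψR =
          classInner (fun v : R => theta p M w χ x v) ψR by
        rw [this, hN x hx hxx] at h
        exact_mod_cast h.symm
      let e : R ≃* R := conjIso q fun g => ⟨fun hg => hR.2.1 q hq g hg, fun hg => by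
        have := hR.2.1 q⁻¹ (inv_mem hq) _ hg
        simpa [mul_assoc] using this⟩
      simp only [classInner]
      congr 1
      refine (Fintype.sum_equiv e.toEquiv _ _ fun v => ?_).symm
      show theta p M w χ x v * conj (ψR v) =
        theta p M w χ (cjA q x) (q * (v : G) * q⁻¹) * conj (ψR (e v))
      rw [theta_conj hM hcl hw (order_pow hRp v) hx v.2 hxx q]
      congr 2
      exact (IsIrr.classFun ψ.2 ⟨v, hR.1 v.2⟩ ⟨q, hq⟩).symm
  obtain ⟨m, hm⟩ := hdvd
  refine ⟨m, ?_⟩
  have hNj := hN j (hj.1.mono hR.1) hjj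
  rw [hm, classInner] at hNj
  have hRcard : (Nat.card R : ℂ) ≠ 0 := Nat.cast_ne_zero.2 Nat.card_pos.ne'
  have hp0 : (p : ℂ) ≠ 0 := Nat.cast_ne_zero.2 (Fact.out : p.Prime).ne_zero
  have hsum : ∑ v : Q, theta p M w χ j v * conj ((ψ : Q → ℂ) v) =
      ∑ v : R, theta p M w χ j v * conj (ψR v) := by
    symm
    refine Finset.sum_bij_ne_zero (fun v _ _ => (⟨v, hR.1 v.2⟩ : Q)) (fun v _ _ => Finset.mem_univ _)
      (fun v _ _ v' _ _ h => Subtype.ext (congrArg (fun z : Q => (z : G)) h))
      (fun v _ hv => ?_) (fun v _ _ => rfl)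
    have hvR : (v : G) ∈ R := by
      by_contra hn
      exact hv (by rw [hvan v hn, zero_mul])
    exact ⟨⟨v, hvR⟩, Finset.mem_univ _, hv, rfl⟩
  show classInner (fun v : Q => theta p M w χ j v) (ψ : Q → ℂ) = _
  rw [classInner, hsum, hR.2.2, Nat.cast_mul, mul_inv, mul_assoc, hNj]
  push_cast
  field_simp

theorem finrank_range_lt {r i : MonoidAlgebra ℂ G} (hrr : r * r = r) (hir : i * r = r)
    (hri : r * i = r) (hne : r ≠ i) :
    Module.finrank ℂ (LinearMap.range (Matrix.toLin' (leftMat r))) <
      Module.finrank ℂ (LinearMap.range (Matrix.toLin' (leftMat i))) := by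
  refine Submodule.finrank_lt_finrank_of_lt (lt_of_le_of_ne ?_ fun he => hne ?_)
  · rintro _ ⟨v, rfl⟩
    exact ⟨Matrix.toLin' (leftMat r) v, by rw [← LinearMap.comp_apply, ← Matrix.toLin'_mul,
      ← map_mul, hir]⟩
  · refine (hri.symm.trans (leftMat_injective (Matrix.toLin'.injective (LinearMap.ext fun v => ?_))) :)
    have hv : Matrix.toLin' (leftMat i) v ∈ LinearMap.range (Matrix.toLin' (leftMat r)) :=
      he ▸ ⟨v, rfl⟩
    obtain ⟨w, hw⟩ := hv
    rw [map_mul, Matrix.toLin'_mul, LinearMap.comp_apply, ← hw, ← LinearMap.comp_apply,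
      ← Matrix.toLin'_mul, ← map_mul, hrr]

/-- The weighted sum is a generalized character on every `p`-group fixing the idempotent. -/
theorem genChar_theta (hM : IsPModular p M) (hχ : IsCharacter G χ) (hw : WConj p M w)
    (hloc : WLoc p M w) {Q : Subgroup G} (hQ : IsPGroup p Q) {x : MonoidAlgebra ℂ G}
    (hx : Fx M Q x) (hxx : AlgIdeal M (x * x - x)) :
    IsGeneralizedCharacter Q (fun v : Q => theta p M w χ x v) := by
  classical
  induction hn : Nat.card Q using Nat.strong_induction_on generalizing Q x with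
  | _ n ih =>
  have hcl : IsClassFunction G χ := IsChar.classFun hχ
  have ih' : ∀ R < Q, ∀ y, Fx M R y → AlgIdeal M (y * y - y) →
      IsGeneralizedCharacter R (fun v : R => theta p M w χ y v) := fun R hR y hy hyy =>
    ih _ (hn ▸ Cfsg.Agent.Fus.card_lt_of_lt hR) (hQ.to_le hR.le) hy hyy rfl
  have key : ∀ (m : ℕ) (i : MonoidAlgebra ℂ G), Fx M Q i → i * i = i →
      Module.finrank ℂ (LinearMap.range (Matrix.toLin' (leftMat i))) = m →
      IsGeneralizedCharacter Q (fun v : Q => theta p M w χ i v) := by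
    intro m
    induction m using Nat.strong_induction_on with
    | _ m ihm =>
    intro i hi hii hm
    by_cases hp : Prim M Q i
    · by_cases h0 : BrEq M Q i 0
      · by_cases hi0 : i = 0
        · convert IsGenChar.zero (G := Q) using 1
          funext v
          exact theta_of_brEq_zero hM hcl (order_pow hQ v)
            (hi.mono (Subgroup.zpowers_le.2 v.2)) (by rw [hi0]; exact BrEq.refl hM 0)
        · exact genChar_nonlocal hM hcl hw hQ hp hi0 h0 ih'
      · exact genChar_local hM hχ hloc hQ hp h0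
    simp only [Prim, not_and, not_forall, not_or] at hp
    obtain ⟨q, hq, hqq, hiq, hqi, hq0, hqne⟩ := hp hi hii
    have h1 : (i - q) * (i - q) = i - q := by
      rw [sub_mul, mul_sub, mul_sub, hii, hiq, hqi, hqq, sub_self, sub_zero]
    have g1 := ihm _ (hm ▸ finrank_range_lt hqq hiq hqi hqne) q hq hqq rfl
    have g2 := ihm _ (hm ▸ finrank_range_lt h1 (by rw [mul_sub, hii, hiq])
      (by rw [sub_mul, hii, hqi]) fun e => hq0 (by simpa using e)) (i - q) (hi.sub hM hq) h1 rfl
    convert IsGenChar.add g2 g1 using 1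
    funext v
    rw [Pi.add_apply, ← theta_add hM hcl (order_pow hQ v) (hi.sub hM hq) hq v.2
      (by rw [h1, sub_self]; exact AlgIdeal.zero hM)
      (by rw [hqq, sub_self]; exact AlgIdeal.zero hM)
      (by rw [sub_mul, hiq, hqq, sub_self]; exact AlgIdeal.zero hM)
      (by rw [mul_sub, hqi, hqq, sub_self]; exact AlgIdeal.zero hM), sub_add_cancel]
  obtain ⟨δ, -, hδ, -, hδδ, hδx, -⟩ :=
    exists_lift hM (IsPGroup.of_bot (p := p) (G := G)) bot_le hx (brEq_of_sub hxx)
  have hid : AlgIdeal M (x - δ) := fun g => by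
    rw [MonoidAlgebra.coeff_sub, Finsupp.sub_apply]
    exact ideal_sub_comm (hδx g (Subgroup.mem_centralizer_iff.2 fun v hv => by
      rw [Subgroup.mem_bot.1 hv, one_mul, mul_one]))
  convert key _ δ hδ hδδ rfl using 1
  funext v
  exact theta_congr hM (order_pow hQ v) hx hδ v.2 hid

end Cfsg.Agent.Char.Star
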