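import Cfsg.Agent.Lib.Char.RankOneBasic
import Cfsg.Agent.Lib.Char.BrauerInduction
import Cfsg.Agent.Lib.Char.SectionSpan
import Cfsg.Agent.Lib.Char.ModularRank
import Cfsg.Agent.Lib.Char.StarGen

/-!
The classes of primitive idempotents of the integral group algebra: their character values form the
decomposition matrix, whose columns are independent modulo `M`; the functions dual to them on the
regular elements extend to generalized characters.
-/

open scoped ComplexConjugate

namespace Cfsg.Agent.Char.Decomp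

open Cfsg Cfsg.Agent.Block Cfsg.Agent.Char.Spec Cfsg.Agent.Char.BP Cfsg.Agent.Char.Res
  Cfsg.Agent.Char.Corner

set_option linter.unusedSectionVars false
set_option linter.style.haveILetI false
set_option maxHeartbeats 800000

universe u

variable {G : Type u} [Group G] [Fintype G] [DecidableEq G] {p : ℕ} {M : Ideal AlgInt}

/-- A nonzero primitive idempotent of the integral group algebra. -/
def Pr (M : Ideal AlgInt) (i : MonoidAlgebra ℂ G) : Prop :=
  Prim M (⊥ : Subgroup G) i ∧ i ≠ 0

theorem Pr.ring {i : MonoidAlgebra ℂ G} (h : Pr M i) : AlgRing M i := h.1.1.1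

theorem Pr.idem {i : MonoidAlgebra ℂ G} (h : Pr M i) : i * i = i := h.1.2.1

/-- Equivalence of idempotents. -/
def Eqv (M : Ideal AlgInt) (i j : MonoidAlgebra ℂ G) : Prop :=
  ∃ u v, AlgRing M u ∧ AlgRing M v ∧ i = i * u * j * v * i

theorem Eqv.refl (hM : IsPModular p M) {i : MonoidAlgebra ℂ G} (hi : Pr M i) : Eqv M i i :=
  ⟨1, 1, AlgRing.one hM, AlgRing.one hM, by simp [mul_assoc, hi.idem]⟩

theorem Eqv.swap_eq (hM : IsPModular p M) {i j u v : MonoidAlgebra ℂ G} (hi : Pr M i)
    (hj : Pr M j) (hu : AlgRing M u) (hv : AlgRing M v) (h : i = i * u * j * v * i) :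
    j * v * i * u * j = j := by
  set z := j * v * i * u * j with hz
  have hzr : AlgRing M z := (((hj.ring.mul hM hv).mul hM hi.ring).mul hM hu).mul hM hj.ring
  have hzj : z * j = z := by rw [hz, mul_assoc _ j j, hj.idem]
  have hjz : j * z = z := by rw [hz]; simp only [← mul_assoc, hj.idem]
  have hzz : z * z = z := by
    calc z * z = j * v * (i * u * (j * j) * v * i) * u * j := by
          rw [hz]; simp only [mul_assoc]
      _ = z := by rw [hj.idem, ← h]
  refine (hj.1.2.2 z (Res.fx_bot hzr) hzz hjz hzj).resolve_left fun h0 => hi.2 ?_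
  calc i = (i * u * j * v * i) * (i * u * j * v * i) := by rw [← h, hi.idem]
    _ = i * u * (j * v * (i * i) * u * j) * v * i := by simp only [mul_assoc]
    _ = 0 := by rw [hi.idem, ← hz, h0]; simp

theorem Eqv.symm (hM : IsPModular p M) {i j : MonoidAlgebra ℂ G} (hi : Pr M i) (hj : Pr M j)
    (h : Eqv M i j) : Eqv M j i := by
  obtain ⟨u, v, hu, hv, he⟩ := h
  exact ⟨v, u, hv, hu, (Eqv.swap_eq hM hi hj hu hv he).symm⟩

theorem Eqv.trans (hM : IsPModular p M) {i j k : MonoidAlgebra ℂ G} (hj : Pr M j)
    (h : Eqv M i j) (h' : Eqv M j k) : Eqv M i k := by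
  obtain ⟨u, v, hu, hv, he⟩ := h
  obtain ⟨u', v', hu', hv', he'⟩ := h'
  refine ⟨u * j * u', v' * j * v, (hu.mul hM hj.ring).mul hM hu', (hv'.mul hM hj.ring).mul hM hv, ?_⟩
  calc i = i * u * (j * u' * k * v' * j) * v * i := by rw [← he', ← he]
    _ = i * (u * j * u') * k * (v' * j * v) * i := by simp only [mul_assoc]

/-- Equivalent idempotents have the same values. -/
theorem Eqv.ev_eq (hM : IsPModular p M) {i j : MonoidAlgebra ℂ G} (hi : Pr M i) (hj : Pr M j)
    (h : Eqv M i j) {f : G → ℂ} (hf : IsClassFunction G f) : ev f i = ev f j := by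
  obtain ⟨u, v, hu, hv, he⟩ := h
  have h2 : j * v * i * (i * u * j) = j := by
    rw [show j * v * i * (i * u * j) = j * v * (i * i) * u * j by simp only [mul_assoc], hi.idem]
    exact Eqv.swap_eq hM hi hj hu hv he
  calc ev f i = ev f (i * u * j * (j * v * i)) := by
        rw [show i * u * j * (j * v * i) = i * u * (j * j) * v * i by simp only [mul_assoc],
          hj.idem, ← he]
    _ = ev f (j * v * i * (i * u * j)) := ev_mul_comm hf _ _
    _ = ev f j := by rw [h2]

/-! ### Decompositions -/

/-- The rank of an element of the group algebra. -/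
noncomputable def rk (a : MonoidAlgebra ℂ G) : ℕ :=
  Module.finrank ℂ (LinearMap.range (Matrix.toLin' (leftMat a)))

theorem rk_lt {r i : MonoidAlgebra ℂ G} (hrr : r * r = r) (hir : i * r = r) (hri : r * i = r)
    (hne : r ≠ i) : rk r < rk i := by
  refine Submodule.finrank_lt_finrank_of_lt (lt_of_le_of_ne ?_ fun he => hne ?_)
  · rintro _ ⟨v, rfl⟩
    exact ⟨Matrix.toLin' (leftMat r) v, by rw [← LinearMap.comp_apply, ← Matrix.toLin'_mul,
      ← map_mul, hir]⟩
  · refine (hri.symm.trans (leftMat_injective (Matrix.toLin'.injective (LinearMap.ext fun v => ?_))) :)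
    have hv : Matrix.toLin' (leftMat i) v ∈ LinearMap.range (Matrix.toLin' (leftMat r)) :=
      he ▸ ⟨v, rfl⟩
    obtain ⟨w, hw⟩ := hv
    rw [map_mul, Matrix.toLin'_mul, LinearMap.comp_apply, ← hw, ← LinearMap.comp_apply,
      ← Matrix.toLin'_mul, ← map_mul, hrr]

/-- Every idempotent is a sum of primitive ones. -/
theorem exists_decomp (hM : IsPModular p M) : ∀ (m : ℕ) (a : MonoidAlgebra ℂ G), rk a ≤ m →
    AlgRing M a → a * a = a →
    ∃ (n : ℕ) (f : Fin n → MonoidAlgebra ℂ G), (∀ t, Pr M (f t)) ∧ ∑ t, f t = a := by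
  intro m
  induction m using Nat.strong_induction_on with
  | _ m IH =>
    intro a hm ha haa
    by_cases h0 : a = 0
    · exact ⟨0, fun _ => 0, fun t => t.elim0, by simp [h0]⟩
    by_cases hp : Prim M (⊥ : Subgroup G) a
    · exact ⟨1, fun _ => a, fun _ => ⟨hp, h0⟩, by simp⟩
    simp only [Prim, Res.fx_bot ha, haa, true_and] at hp
    push Not at hp
    obtain ⟨q, hq, hqq, haq, hqa, hq0, hqa'⟩ := hp
    have hs : (a - q) * (a - q) = a - q := by
      rw [sub_mul, mul_sub, mul_sub, haa, haq, hqa, hqq, sub_self, sub_zero]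
    have hne : a - q ≠ a := fun e => hq0 (by simpa using e)
    have h1 := rk_lt hqq haq hqa hqa'
    have h2 := rk_lt (i := a) hs (by rw [mul_sub, haa, haq]) (by rw [sub_mul, haa, hqa]) hne
    obtain ⟨n₁, f₁, hf₁, e₁⟩ := IH (rk q) (lt_of_lt_of_le h1 hm) q le_rfl hq.1 hqq
    obtain ⟨n₂, f₂, hf₂, e₂⟩ := IH (rk (a - q)) (lt_of_lt_of_le h2 hm) (a - q) le_rfl
      (AlgRing.sub hM ha hq.1) hs
    refine ⟨n₁ + n₂, Fin.append f₁ f₂, fun t => ?_, ?_⟩
    · induction t using Fin.addCases with
      | left t => rw [Fin.append_left]; exact hf₁ t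
      | right t => rw [Fin.append_right]; exact hf₂ t
    · rw [Fin.sum_univ_add]
      simp only [Fin.append_left, Fin.append_right, e₁, e₂, add_sub_cancel]

/-- The corner of a primitive idempotent modulo the maximal ideal is local. -/
theorem corner_scalar (hM : IsPModular p M) [Fact p.Prime] {i : MonoidAlgebra ℂ G} (hi : Pr M i) :
    letI := resInst hM
    Nontrivial (redA_idem hM hi.ring hi.idem).Corner ∧
      LocAlg.IsScalarLocal (ResField hM) (redA_idem hM hi.ring hi.idem).Corner := by
  classical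
  letI := resInst hM
  haveI := resField_isAlgClosed hM
  have hir := hi.ring
  have he : IsIdempotentElem (redA hM i) := redA_idem hM hir hi.idem
  have hne : (redA hM i) ≠ 0 := fun h0 =>
    hi.2 (idem_eq_zero hM ((redA_eq_zero hM hir).1 h0) hi.idem)
  haveI : Nontrivial he.Corner := ⟨⟨1, 0, fun h => hne (congrArg Subtype.val h)⟩⟩
  refine ⟨‹_›, fun x => ?_⟩
  obtain ⟨c, hc⟩ := spectrum.nonempty_of_isAlgClosed_of_finiteDimensional (ResField hM) x
  refine ⟨c, ?_⟩
  rw [spectrum.mem_iff] at hc
  set y := x - algebraMap (ResField hM) he.Corner c with hy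
  have hyn : ¬ IsUnit y := fun h => hc (by rw [← neg_sub]; exact h.neg)
  obtain ⟨X₀, hX₀, hX₀e⟩ := redA_surjective hM y.1
  set X := i * X₀ * i with hXdef
  have hX : AlgRing M X := (hir.mul hM hX₀).mul hM hir
  have hXred : redA hM X = y.1 := by
    rw [redA_mul hM (hir.mul hM hX₀) hir, redA_mul hM hir hX₀, hX₀e, (val_mem he y).1,
      (val_mem he y).2]
  rcases prim_dichotomy hM hi.1 (Res.fx_bot hX)
    (by rw [hXdef, ← mul_assoc, ← mul_assoc, hi.idem])
    (by rw [hXdef, mul_assoc, hi.idem]) with ⟨w, hw, hwc, hxw⟩ | ⟨N, hN⟩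
  · exfalso
    refine hyn ?_
    haveI : IsArtinianRing he.Corner := IsArtinianRing.of_finite (ResField hM) he.Corner
    have hwc' : redA hM w * (redA hM i) = (redA hM i) * redA hM w := by
      rw [← redA_mul hM hw.1 hir, ← redA_mul hM hir hw.1, hwc.eq]
    refine IsUnit.of_mul_eq_one (⟨(redA hM i) * redA hM w * (redA hM i), _, rfl⟩ : he.Corner)
      (Subtype.ext ?_)
    show y.1 * ((redA hM i) * redA hM w * (redA hM i)) = (redA hM i)
    rw [← hwc', mul_assoc (redA hM w), he.eq, ← mul_assoc, ← hXred,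
      ← redA_mul hM hX hw.1, ← redA_mul hM (hX.mul hM hw.1) hir, hxw]
  · refine ⟨N, Subtype.ext ?_⟩
    have hpow : ∀ n : ℕ, (y ^ n).1 = y.1 ^ n * (redA hM i) := by
      intro n
      induction n with
      | zero => rw [pow_zero, pow_zero, one_mul]; rfl
      | succ n ih =>
        rw [pow_succ]
        show (y ^ n).1 * y.1 = _
        rw [ih, mul_assoc, (val_mem he y).1, pow_succ, mul_assoc, (val_mem he y).2]
    show (y ^ N).1 = 0
    rw [hpow, ← hXred, ← redA_pow hM hX, ← redA_mul hM (AlgRing.pow hM hX N) hir,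
      (redA_eq_zero hM ((AlgRing.pow hM hX N).mul hM hir)).2 hN]

/-- A residue class function, constant on sections, separating the class of a primitive
idempotent. -/
theorem exists_functional (hM : IsPModular p M) [Fact p.Prime] {i : MonoidAlgebra ℂ G}
    (hi : Pr M i) :
    ∃ τ : G → ResField hM, (∀ g t : G, τ (t * g * t⁻¹) = τ g) ∧
      (∀ g u v : G, u * v = g → Commute u v → (∃ a, orderOf u = p ^ a) → ¬ p ∣ orderOf v →
        τ g = τ v) ∧
      (letI := resInst hM; ∑ g, red hM (i.coeff g) * τ g ≠ 0) ∧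
      ∀ j, Pr M j → ¬ Eqv M i j → (letI := resInst hM; ∑ g, red hM (j.coeff g) * τ g = 0) := by
  classical
  letI := resInst hM
  haveI := resField_isAlgClosed hM
  haveI : CharP (ResField hM) p := resField_charP hM
  obtain ⟨hnt, hloc⟩ := corner_scalar hM hi
  have he := redA_idem hM hi.ring hi.idem
  haveI : Nontrivial he.Corner := hnt
  let I₀ : Ideal (MonoidAlgebra (ResField hM) G) :=
    { carrier := {y | ∀ a b, IsNilpotent (proj (K := ResField hM) he (a * y * b))}
      zero_mem' := fun a b => by simp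
      add_mem' := fun {y z} hy hz a b => by
        rw [mul_add, add_mul, map_add]
        exact LocAlg.nilpotent_add hloc (hy a b) (hz a b)
      smul_mem' := fun r y hy a b => by
        rw [smul_eq_mul, ← mul_assoc a r y]
        exact hy (a * r) b }
  haveI : I₀.IsTwoSided := ⟨fun {y} r hy a b => by
    rw [← mul_assoc a y r, mul_assoc (a * y) r b]
    exact hy a (r * b)⟩
  have hout : ∀ j, Pr M j → ¬ Eqv M i j → redA hM j ∈ I₀ := by
    intro j hj hne a b
    by_contra hnil
    obtain ⟨A, hA, rfl⟩ := redA_surjective hM a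
    obtain ⟨B, hB, rfl⟩ := redA_surjective hM b
    set X := i * (A * j * B) * i with hXdef
    have hX : AlgRing M X := (hi.ring.mul hM ((hA.mul hM hj.ring).mul hM hB)).mul hM hi.ring
    rcases prim_dichotomy hM hi.1 (Res.fx_bot hX)
      (by rw [hXdef, ← mul_assoc, ← mul_assoc, hi.idem])
      (by rw [hXdef, mul_assoc, hi.idem]) with ⟨w, hw, hwc, hxw⟩ | ⟨N, hN⟩
    · refine hne ⟨A, B * i * w, hA, (hB.mul hM hi.ring).mul hM hw.1, ?_⟩
      conv_lhs => rw [← hxw, hXdef]
      simp only [mul_assoc]
    · refine hnil ⟨N + 1, Subtype.ext ?_⟩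
      set y := proj (K := ResField hM) he (redA hM A * redA hM j * redA hM B) with hy
      have hyX : y.1 = redA hM X := by
        rw [hy, proj_val, hXdef, redA_mul hM (hi.ring.mul hM ((hA.mul hM hj.ring).mul hM hB)) hi.ring,
          redA_mul hM hi.ring ((hA.mul hM hj.ring).mul hM hB), redA_mul hM (hA.mul hM hj.ring) hB,
          redA_mul hM hA hj.ring]
      have hpow : ∀ n : ℕ, (y ^ n).1 = y.1 ^ n * (redA hM i) := by
        intro n
        induction n with
        | zero => rw [pow_zero, pow_zero, one_mul]; rfl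
        | succ n ih =>
          rw [pow_succ]
          show (y ^ n).1 * y.1 = _
          rw [ih, mul_assoc, (val_mem he y).1, pow_succ, mul_assoc, (val_mem he y).2]
      show (y ^ (N + 1)).1 = 0
      rw [pow_succ']
      show y.1 * (y ^ N).1 = 0
      rw [hpow, hyX, ← redA_pow hM hX, ← redA_mul hM (AlgRing.pow hM hX N) hi.ring,
        (redA_eq_zero hM ((AlgRing.pow hM hX N).mul hM hi.ring)).2 hN, mul_zero]
  have h1 : (1 : MonoidAlgebra (ResField hM) G) ∉ I₀ := by
    intro h
    have h2 := h 1 1
    rw [mul_one, one_mul] at h2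
    have h3 : proj (K := ResField hM) he 1 = 1 := Subtype.ext (by
      rw [proj_val, mul_one, he.eq]; rfl)
    rw [h3] at h2
    exact not_isNilpotent_one h2
  obtain ⟨n, hn, π, hπs, hπ0⟩ := exists_matrix_hom (K := ResField hM) I₀ h1
  set E := π (redA hM i) with hEdef
  have hE0 : E ≠ 0 := by
    intro hE
    obtain ⟨k, f, hf, hsum⟩ := exists_decomp (G := G) (p := p) hM _ 1 le_rfl (AlgRing.one hM) (one_mul _)
    have hall : ∀ t, π (redA hM (f t)) = 0 := by
      intro t
      by_cases hq : Eqv M i (f t)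
      · obtain ⟨u, v, hu, hv, hfe⟩ := Eqv.symm hM hi (hf t) hq
        rw [hfe, redA_mul hM ((((hf t).ring.mul hM hu).mul hM hi.ring).mul hM hv) (hf t).ring,
          redA_mul hM (((hf t).ring.mul hM hu).mul hM hi.ring) hv,
          redA_mul hM ((hf t).ring.mul hM hu) hi.ring]
        simp only [map_mul]
        rw [← hEdef, hE]
        simp
      · exact hπ0 _ (hout _ (hf t) hq)
    have hred : ∀ s : Finset (Fin k), redA hM (∑ t ∈ s, f t) = ∑ t ∈ s, redA hM (f t) := by
      intro s
      induction s using Finset.induction_on with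
      | empty => simp [redA_zero]
      | insert t s ht ih =>
        rw [Finset.sum_insert ht, Finset.sum_insert ht,
          redA_add hM (hf t).ring (AlgRing.sum hM fun t _ => (hf t).ring), ih]
    have h2 := congrArg π (hred Finset.univ)
    rw [hsum, redA_one, map_one, map_sum, Finset.sum_eq_zero fun t _ => hall t] at h2
    exact one_ne_zero h2
  have hEE : E * E = E := by rw [hEdef, ← map_mul, he.eq]
  have hscal : ∀ T : Matrix (Fin n) (Fin n) (ResField hM),
      ∃ c : ResField hM, IsNilpotent (E * T * E - c • E) := by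
    intro T
    obtain ⟨y, rfl⟩ := hπs T
    obtain ⟨c, N, hc⟩ := hloc (proj (K := ResField hM) he y)
    refine ⟨c, N + 1, ?_⟩
    set z := proj (K := ResField hM) he y - algebraMap (ResField hM) he.Corner c with hz
    have hz1 : π z.1 = E * π y * E - c • E := by
      have e : z.1 = redA hM i * y * redA hM i - c • redA hM i := rfl
      rw [e, map_sub, map_mul, map_mul, map_smul]
    rw [← hz1, ← map_pow]
    have hpow : ∀ n : ℕ, (z ^ (n + 1)).1 = z.1 ^ (n + 1) := by
      intro n
      induction n with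
      | zero => rw [pow_one, pow_one]
      | succ n ih =>
        rw [pow_succ, pow_succ _ (n + 1)]
        show (z ^ (n + 1)).1 * z.1 = _
        rw [ih]
    rw [← hpow, pow_succ, hc, zero_mul]
    exact map_zero π
  have htr : E.trace ≠ 0 := by
    intro h0
    refine hE0 (Matrix.ext fun a b => ?_)
    obtain ⟨c, hc⟩ := hscal (Matrix.single b a 1)
    have h2 := (Matrix.isNilpotent_trace_of_isNilpotent hc).eq_zero
    rw [Matrix.trace_sub, Matrix.trace_smul, h0, smul_zero, sub_zero, Matrix.trace_mul_comm,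
      ← mul_assoc, hEE] at h2
    rw [Matrix.trace_mul_comm, Matrix.trace_single_mul] at h2
    simpa using h2
  let τ : G → ResField hM := fun g => (π (MonoidAlgebra.single g 1)).trace
  have hsum : ∀ J : MonoidAlgebra ℂ G,
      ∑ g, red hM (J.coeff g) * τ g = (π (redA hM J)).trace := fun J => by
    rw [show (π (redA hM J)).trace = ((Matrix.traceLinearMap (Fin n) (ResField hM)
      (ResField hM)).comp π.toLinearMap) (redA hM J) from rfl, trace_redA hM]
    rfl
  refine ⟨τ, fun g t => ?_, ?_, by rw [hsum]; exact htr, fun j hj hne => ?_⟩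
  · show (π _).trace = (π _).trace
    rw [show MonoidAlgebra.single (t * g * t⁻¹) (1 : ResField hM) =
      MonoidAlgebra.single (t * g) 1 * MonoidAlgebra.single t⁻¹ 1 by simp, map_mul,
      Matrix.trace_mul_comm, ← map_mul]
    simp
  · rintro g u v rfl hc ⟨a, ha⟩ -
    show (π _).trace = (π _).trace
    set U := π (MonoidAlgebra.single u (1 : ResField hM)) with hU
    set V := π (MonoidAlgebra.single v (1 : ResField hM)) with hV
    have hUV : π (MonoidAlgebra.single (u * v) (1 : ResField hM)) = U * V := by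
      rw [hU, hV, ← map_mul, MonoidAlgebra.single_mul_single, one_mul]
    have hcm : Commute U V := by
      rw [Commute, SemiconjBy, hU, hV, ← map_mul, ← map_mul]
      simp [hc.eq]
    have hUp : U ^ p ^ a = 1 := by
      rw [hU, ← map_pow, MonoidAlgebra.single_pow, one_pow, ← ha, pow_orderOf_eq_one,
        ← MonoidAlgebra.one_def, map_one]
    haveI : Nonempty (Fin n) := ⟨⟨0, Nat.pos_of_ne_zero hn.out⟩⟩
    haveI : CharP (Matrix (Fin n) (Fin n) (ResField hM)) p := inferInstance
    have hnil : IsNilpotent ((U - 1) * V) :=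
      (Commute.sub_left hcm (Commute.one_left _)).isNilpotent_mul_right
        ⟨p ^ a, by rw [sub_pow_char_pow_of_commute _ _ (Commute.one_right U), one_pow, hUp, sub_self]⟩
    rw [hUV, show U * V = (U - 1) * V + V by rw [sub_mul, one_mul, sub_add_cancel],
      Matrix.trace_add, (Matrix.isNilpotent_trace_of_isNilpotent hnil).eq_zero, zero_add]
  · rw [hsum, hπ0 _ (hout j hj hne), Matrix.trace_zero]

/-- A primitive idempotent is equivalent to a summand of the identity. -/
theorem exists_eqv_of_sum (hM : IsPModular p M) [Fact p.Prime] {i : MonoidAlgebra ℂ G}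
    (hi : Pr M i) {k : ℕ} {f : Fin k → MonoidAlgebra ℂ G} (hf : ∀ t, Pr M (f t))
    (hsum : ∑ t, f t = 1) : ∃ t, Eqv M i (f t) := by
  classical
  by_contra hn
  push Not at hn
  letI := resInst hM
  obtain ⟨hnt, hloc⟩ := corner_scalar hM hi
  have he := redA_idem hM hi.ring hi.idem
  haveI : Nontrivial he.Corner := hnt
  have hnil : ∀ t, IsNilpotent (proj (K := ResField hM) he (redA hM (f t))) := by
    intro t
    set X := i * f t * i with hXdef
    have hX : AlgRing M X := (hi.ring.mul hM (hf t).ring).mul hM hi.ring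
    rcases prim_dichotomy hM hi.1 (Res.fx_bot hX)
      (by rw [hXdef, ← mul_assoc, ← mul_assoc, hi.idem])
      (by rw [hXdef, mul_assoc, hi.idem]) with ⟨w, hw, hwc, hxw⟩ | ⟨N, hN⟩
    · refine absurd ⟨1, i * w, AlgRing.one hM, hi.ring.mul hM hw.1, ?_⟩ (hn t)
      conv_lhs => rw [← hxw, hXdef]
      simp only [mul_one, mul_assoc]
    · refine ⟨N + 1, Subtype.ext ?_⟩
      set y := proj (K := ResField hM) he (redA hM (f t)) with hy
      have hyX : y.1 = redA hM X := by
        rw [hy, proj_val, hXdef, redA_mul hM (hi.ring.mul hM (hf t).ring) hi.ring,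
          redA_mul hM hi.ring (hf t).ring]
      have hpow : ∀ n : ℕ, (y ^ n).1 = y.1 ^ n * (redA hM i) := by
        intro n
        induction n with
        | zero => rw [pow_zero, pow_zero, one_mul]; rfl
        | succ n ih =>
          rw [pow_succ]
          show (y ^ n).1 * y.1 = _
          rw [ih, mul_assoc, (val_mem he y).1, pow_succ, mul_assoc, (val_mem he y).2]
      show (y ^ (N + 1)).1 = 0
      rw [pow_succ']
      show y.1 * (y ^ N).1 = 0
      rw [hpow, hyX, ← redA_pow hM hX, ← redA_mul hM (AlgRing.pow hM hX N) hi.ring,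
        (redA_eq_zero hM ((AlgRing.pow hM hX N).mul hM hi.ring)).2 hN, mul_zero]
  have hS : ∀ s : Finset (Fin k),
      IsNilpotent (proj (K := ResField hM) he (redA hM (∑ t ∈ s, f t))) := by
    intro s
    induction s using Finset.induction_on with
    | empty => simp [redA_zero]
    | insert t s ht ih =>
      rw [Finset.sum_insert ht,
        redA_add hM (hf t).ring (AlgRing.sum hM fun t _ => (hf t).ring), map_add]
      exact LocAlg.nilpotent_add hloc (hnil t) ih
  have h2 := hS Finset.univ
  rw [hsum, redA_one] at h2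
  have h3 : proj (K := ResField hM) he 1 = 1 := Subtype.ext (by
    rw [proj_val, mul_one, he.eq]; rfl)
  rw [h3] at h2
  exact not_isNilpotent_one h2

/-- The classes of primitive idempotents. -/
structure Classes (M : Ideal AlgInt) (G : Type u) [Group G] [Fintype G] [DecidableEq G] where
  n : ℕ
  i : Fin n → MonoidAlgebra ℂ G
  mult : Fin n → ℕ
  mult_pos : ∀ c, 0 < mult c
  pr : ∀ c, Pr M (i c)
  ne : ∀ c d, c ≠ d → ¬ Eqv M (i c) (i d)
  cover : ∀ j, Pr M j → ∃ c, Eqv M j (i c)
  one : ∀ f : G → ℂ, IsClassFunction G f → f 1 = ∑ c, (mult c : ℂ) * ev f (i c)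

theorem exists_classes (hM : IsPModular p M) [Fact p.Prime] : Nonempty (Classes M G) := by
  classical
  obtain ⟨k, f, hf, hsum⟩ := exists_decomp (G := G) (p := p) hM _ 1 le_rfl (AlgRing.one hM) (one_mul _)
  let s : Setoid (Fin k) :=
    { r := fun a b => Eqv M (f a) (f b)
      iseqv := ⟨fun a => Eqv.refl hM (hf a), fun h => Eqv.symm hM (hf _) (hf _) h,
        fun h h' => Eqv.trans hM (hf _) h h'⟩ }
  let e := Fintype.equivFin (Quotient s)
  let r : Fin (Fintype.card (Quotient s)) → Fin k := fun c => (e.symm c).out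
  have hev : ∀ (g : G → ℂ), IsClassFunction G g → ∀ t,
      ev g (f t) = ev g (f (r (e (Quotient.mk s t)))) := by
    intro g hg t
    refine (Eqv.ev_eq hM (hf _) (hf _) ?_ hg).symm
    have := Quotient.mk_out (s := s) t
    simp only [r, Equiv.symm_apply_apply]
    exact this
  refine ⟨{
    n := Fintype.card (Quotient s)
    i := fun c => f (r c)
    mult := fun c => (Finset.univ.filter fun t => e (Quotient.mk s t) = c).card
    mult_pos := fun c => Finset.card_pos.2 ⟨r c, by simp [r]⟩
    pr := fun c => hf _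
    ne := fun c d hcd h => hcd ?_
    cover := fun j hj => ?_
    one := fun g hg => ?_ }⟩
  · refine e.symm.injective ?_
    rw [← Quotient.out_eq (e.symm c), ← Quotient.out_eq (e.symm d)]
    exact Quotient.sound h
  · obtain ⟨t, ht⟩ := exists_eqv_of_sum hM hj hf hsum
    refine ⟨e (Quotient.mk s t), Eqv.trans hM (hf t) ht (Eqv.symm hM (hf _) (hf _) ?_)⟩
    have h2 := Quotient.mk_out (s := s) t
    simp only [r, Equiv.symm_apply_apply]
    exact h2
  · have h1 : ev g 1 = g 1 := by
      rw [MonoidAlgebra.one_def, Spec.ev_single, one_mul]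
    rw [← h1, ← hsum, ev_sum, Finset.sum_congr rfl fun t _ => hev g hg t,
      ← Finset.sum_fiberwise Finset.univ (fun t => e (Quotient.mk s t))]
    refine Finset.sum_congr rfl fun c _ => ?_
    rw [Finset.sum_congr rfl (g := fun _ => ev g (f (r c))) fun t ht => by
      rw [(Finset.mem_filter.1 ht).2], Finset.sum_const, nsmul_eq_mul]

end Cfsg.Agent.Char.Decomp
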