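import Cfsg.Agent.Lib.Block.Orth
import Cfsg.Agent.Lib.Char.Contrib

/-!
The exact power of `p` in the sum of the squares of the degrees in a block.
-/

open scoped ComplexConjugate

namespace Cfsg.Agent.Char.DegSum

open Cfsg Cfsg.Agent.Block

universe u

variable {G : Type u} [Group G] [Fintype G] {p : ℕ} {M : Ideal AlgInt}

theorem sum_one_value [Fact p.Prime] (hM : IsPModular p M) {B : Set (IrrCharacter G)}
    (hB : IsPBlock M B) [DecidablePred (· ∈ B)] {h v : G} (hh : ¬ p ∣ orderOf h)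
    (hv : p ∣ orderOf v) :
    ∑ χ ∈ Finset.univ.filter (· ∈ B), (χ : G → ℂ) h * (χ : G → ℂ) v = 0 := by
  have hw := weak_orth hM hB (x := h) (y := v⁻¹) hh (by rwa [orderOf_inv])
  rw [finsum_mem_block] at hw
  rw [← hw]
  refine Finset.sum_congr rfl fun χ _ => ?_
  rw [← irr_apply_inv, inv_inv]

/-- The exact power of `p` in the sum of the squares of the degrees. -/
theorem sum_sq_valuation [Fact p.Prime] (hM : IsPModular p M) {B : Set (IrrCharacter G)}
    (hB : IsPBlock M B) [DecidablePred (· ∈ B)] :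
    (∑ χ ∈ Finset.univ.filter (· ∈ B), charDegree (χ : G → ℂ) ^ 2).factorization p =
      2 * (Nat.card G).factorization p - blockDefect p B := by
  classical
  have hp : p.Prime := Fact.out
  set a := (Nat.card G).factorization p with ha
  set d := blockDefect p B with hd
  have hda : d ≤ a := blockDefect_le B
  set A := Finset.univ.filter (fun χ : IrrCharacter G => χ ∈ B) with hA
  obtain ⟨χ₀, hχ₀, h0⟩ := exists_height_zero hM hB
  have h00 := (blockHeight_zero_iff hM hB hχ₀).1 h0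
  set S := ∑ χ ∈ A, charDegree (χ : G → ℂ) ^ 2 with hS
  have hA0 : χ₀ ∈ A := Finset.mem_filter.2 ⟨Finset.mem_univ _, hχ₀⟩
  have hS0 : S ≠ 0 := by
    have h1 : charDegree (χ₀ : G → ℂ) ^ 2 ≤ S :=
      Finset.single_le_sum (f := fun χ : IrrCharacter G => charDegree (χ : G → ℂ) ^ 2)
        (fun χ _ => Nat.zero_le _) hA0
    have h2 := pow_pos (charDeg_pos χ₀) 2
    omega
  have hc0 : (p ^ (a - d) : ℕ) ≠ 0 := (pow_pos hp.pos _).ne'
  have hcC : ((p ^ (a - d) : ℕ) : ℂ) ≠ 0 := Nat.cast_ne_zero.2 hc0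
  have hpC : ((p ^ a : ℕ) : ℂ) ≠ 0 := Nat.cast_ne_zero.2 (pow_pos hp.pos _).ne'
  have hG0 : (Nat.card G : ℂ) ≠ 0 := Nat.cast_ne_zero.2 Nat.card_pos.ne'
  set P := Finset.univ.filter (fun v : G => v ^ p ^ a = 1) with hP
  set y : IrrCharacter G → ℂ := fun χ => (∑ v ∈ P, (χ : G → ℂ) v) / ((p ^ a : ℕ) : ℂ) with hy
  have hyr : ∀ χ : IrrCharacter G, MemLocalRing M (y χ) := fun χ => by
    have h1 := Contrib.ring_sum_qElements hM a le_rfl (irr_isChar χ)
    have h2 : y χ = (∑ v ∈ P, (χ : G → ℂ) v) / (Nat.card G : ℂ) *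
        ((Nat.card G / p ^ a : ℕ) : ℂ) := by
      rw [Nat.cast_div (Nat.ordProj_dvd (Nat.card G) p) hpC, hy, ← ha]
      field_simp
    rw [h2]
    exact ring_mul hM h1 (ring_natCast hM _)
  have hPs : ∀ v ∈ P, v ≠ 1 → p ∣ orderOf v := fun v hv hv1 => by
    obtain ⟨j, -, hj⟩ := (Nat.dvd_prime_pow hp).1
      (orderOf_dvd_of_pow_eq_one (Finset.mem_filter.1 hv).2)
    rcases Nat.eq_zero_or_pos j with rfl | hj0
    · exact absurd (orderOf_eq_one_iff.1 (by rw [hj, pow_zero])) hv1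
    · rw [hj]; exact dvd_pow_self p hj0.ne'
  have h1P : (1 : G) ∈ P := Finset.mem_filter.2 ⟨Finset.mem_univ _, one_pow _⟩
  -- the pairing of the degrees with `y`
  have hT : ∑ χ ∈ A, (χ : G → ℂ) 1 * y χ = (S : ℂ) / ((p ^ a : ℕ) : ℂ) := by
    simp only [hy, mul_div_assoc', ← Finset.sum_div, Finset.mul_sum]
    congr 1
    rw [Finset.sum_comm, Finset.sum_eq_single (1 : G)
      (fun v hv hv1 => sum_one_value hM hB (by simp [hp.ne_one]) (hPs v hv hv1))
      (fun h => absurd h1P h), hS, Nat.cast_sum]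
    refine Finset.sum_congr rfl fun χ _ => ?_
    rw [charDeg_spec' χ, Nat.cast_pow, sq]
  -- the pairing of `y` with the regular sums
  have hU : ∑ χ ∈ A, y χ * regSum p (χ : G → ℂ) (χ₀ : G → ℂ) =
      (Nat.card G : ℂ) * (χ₀ : G → ℂ) 1 / ((p ^ a : ℕ) : ℂ) := by
    simp only [hy, regSum_eq_sum, div_mul_eq_mul_div, ← Finset.sum_div]
    congr 1
    have hreg : ∑ χ ∈ A, (χ : G → ℂ) 1 * regSum p (χ : G → ℂ) (χ₀ : G → ℂ) =
        (Nat.card G : ℂ) * (χ₀ : G → ℂ) 1 := by
      rw [Finset.sum_subset (Finset.subset_univ A) (fun χ _ hχ => by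
        rw [reg_orth hM (fun h => hχ (Finset.mem_filter.2 ⟨Finset.mem_univ _,
          pblock_mem_of_sameBlock hM hB hχ₀ (sameBlock_symm h)⟩)), mul_zero])]
      simp only [regSum_eq_sum, Finset.mul_sum]
      rw [Finset.sum_comm, Finset.sum_eq_single (1 : G)
        (fun h _ h1 => by
          simp only [← mul_assoc, ← Finset.sum_mul]
          rw [Cfsg.Agent.Char.regular_expansion, if_neg h1, zero_mul])
        (fun h => absurd (Finset.mem_filter.2 ⟨Finset.mem_univ _, by simp [hp.ne_one]⟩) h)]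
      simp only [← mul_assoc, ← Finset.sum_mul]
      rw [Cfsg.Agent.Char.regular_expansion, if_pos rfl, ← irr_apply_inv, inv_one]
    rw [← hreg]
    simp only [regSum_eq_sum, Finset.sum_mul_sum]
    rw [Finset.sum_comm]
    rw [Finset.sum_eq_single (1 : G) (fun v hv hv1 => ?_) (fun h => absurd h1P h)]
    · simp only [Finset.mul_sum]
    · rw [Finset.sum_comm]
      refine Finset.sum_eq_zero fun h hh => ?_
      have hz := sum_one_value hM hB (Finset.mem_filter.1 hh).2 (hPs v hv hv1)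
      rw [Finset.sum_congr rfl (g := fun χ : IrrCharacter G =>
        ((χ : G → ℂ) h * (χ : G → ℂ) v) * conj ((χ₀ : G → ℂ) h)) (fun χ _ => by ring),
        ← Finset.sum_mul, hz, zero_mul]
  -- congruences
  have hal : ∀ χ ∈ A, MemLocalRing M ((χ : G → ℂ) 1 / ((p ^ (a - d) : ℕ) : ℂ)) := fun χ hχ => by
    rw [charDeg_spec' χ]
    refine ring_natDiv hM hc0 (charDeg_pos χ).ne' ?_
    rw [hp.factorization_pow, Finsupp.single_eq_same]
    have := le_defect_add hM hB (Finset.mem_filter.1 hχ).2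
    omega
  set u : IrrCharacter G → ℂ := regPair p χ₀ with hu
  set T := ∑ χ ∈ A, (χ : G → ℂ) 1 / ((p ^ (a - d) : ℕ) : ℂ) * y χ with hTdef
  set W := ∑ χ ∈ A, (χ : G → ℂ) 1 / ((p ^ (a - d) : ℕ) : ℂ) * y χ * u χ with hWdef
  have hW : W = ((Nat.card G / p ^ a * charDegree (χ₀ : G → ℂ) : ℕ) : ℂ) /
      ((p ^ (a - d) : ℕ) : ℂ) := by
    rw [Nat.cast_mul, Nat.cast_div (Nat.ordProj_dvd (Nat.card G) p) hpC, ← charDeg_spec' χ₀,
      div_mul_eq_mul_div, ← hU, hWdef, Finset.sum_div]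
    refine Finset.sum_congr rfl fun χ _ => ?_
    have h1 : (χ : G → ℂ) 1 ≠ 0 := by
      rw [charDeg_spec' χ]; exact Nat.cast_ne_zero.2 (charDeg_pos χ).ne'
    simp only [hu, regPair]
    field_simp
  have hm0 : Nat.card G / p ^ a ≠ 0 := (Nat.ordCompl_pos p Nat.card_pos.ne').ne'
  have hWu : ¬ MemLocalIdeal M W := by
    rw [hW]
    refine natDiv_notMem hM hc0 (mul_pos (Nat.pos_of_ne_zero hm0) (charDeg_pos χ₀)).ne' ?_
    rw [hp.factorization_pow, Finsupp.single_eq_same, Nat.factorization_mul hm0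
      (charDeg_pos χ₀).ne', Finsupp.add_apply, Nat.factorization_eq_zero_of_not_dvd
      (Nat.not_dvd_ordCompl hp Nat.card_pos.ne')]
    omega
  have hTr : MemLocalRing M T := ring_sum hM fun χ hχ => ring_mul hM (hal χ hχ) (hyr χ)
  have hTn : ¬ MemLocalIdeal M T := fun hT' => by
    refine hWu ?_
    have hW2 : W = (∑ χ ∈ A, (χ : G → ℂ) 1 / ((p ^ (a - d) : ℕ) : ℂ) * y χ * (u χ - u χ₀)) +
        T * u χ₀ := by
      rw [hTdef, Finset.sum_mul, ← Finset.sum_add_distrib]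
      exact Finset.sum_congr rfl fun χ _ => by ring
    rw [hW2]
    refine ideal_add hM (ideal_sum hM fun χ hχ => ideal_mul_left hM
      (ring_mul hM (hal χ hχ) (hyr χ)) ((cenInt_regPair hM χ₀).congr_block hM
        (pblock_sameBlock hM hB (Finset.mem_filter.1 hχ).2 hχ₀))) ?_
    exact ideal_mul_right hM hT' ((cenInt_regPair hM χ₀).ring hM χ₀)
  have hTS : T = (S : ℂ) / ((p ^ (2 * a - d) : ℕ) : ℂ) := by
    have h1 : T = (∑ χ ∈ A, (χ : G → ℂ) 1 * y χ) / ((p ^ (a - d) : ℕ) : ℂ) := by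
      rw [hTdef, Finset.sum_div]
      exact Finset.sum_congr rfl fun χ _ => by ring
    rw [h1, hT, div_div, ← Nat.cast_mul, ← pow_add]
    congr 4
    omega
  have hn0 : (p ^ (2 * a - d) : ℕ) ≠ 0 := (pow_pos hp.pos _).ne'
  have hfac : (p ^ (2 * a - d)).factorization p = 2 * a - d := by
    rw [hp.factorization_pow, Finsupp.single_eq_same]
  rcases lt_trichotomy (S.factorization p) (2 * a - d) with h | h | h
  · exfalso
    have hi : MemLocalIdeal M (((p ^ (2 * a - d) : ℕ) : ℂ) / (S : ℂ)) :=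
      ideal_natDiv hM hS0 hn0 (by rwa [hfac])
    have := ideal_mul_left hM hTr hi
    rw [hTS, div_mul_div_cancel₀ (Nat.cast_ne_zero.2 hn0),
      div_self (Nat.cast_ne_zero.2 hS0)] at this
    exact ideal_one hM this
  · exact h
  · exfalso
    exact hTn (hTS ▸ ideal_natDiv hM hn0 hS0 (by rwa [hfac]))

end Cfsg.Agent.Char.DegSum
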