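import Cfsg.Agent.Lib.Char.DecompBlock
import Cfsg.Agent.Lib.Char.DegreeSum

/-!
Degrees in a block through the decomposition data: the values at the identity of the projective
functions, and the factorization of the sum of the squares of the degrees.
-/

open scoped ComplexConjugate

namespace Cfsg.Agent.Char.Decomp

open Cfsg Cfsg.Agent.Block Cfsg.Agent.Char.Spec Cfsg.Agent.Char.BP Cfsg.Agent.Char.Res

set_option linter.unusedSectionVars false
set_option linter.style.haveILetI false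
set_option maxHeartbeats 800000

universe u

variable {G : Type u} [Group G] [Fintype G] [DecidableEq G] {p : ℕ} {M : Ideal AlgInt}
variable {B : Set (IrrCharacter G)}

/-- The degree of the projective function of a class. -/
noncomputable def BData.pdeg (D : BData p M B) (c : Fin D.n) : ℕ :=
  ∑ χ : IrrCharacter G, charDegree (χ : G → ℂ) * D.N χ c

theorem BData.pdeg_eq (D : BData p M B) (c : Fin D.n) :
    (D.pdeg c : ℂ) = (Nat.card G : ℂ) * (D.i c).coeff 1 := by
  classical
  simp only [BData.pdeg, Nat.cast_sum, Nat.cast_mul, ← charDeg_spec', ← D.val]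
  rw [← ev_sum_fun]
  simp only [ev, Finset.sum_apply, Pi.smul_apply, smul_eq_mul, regular_expansion]
  simp [mul_comm]

theorem pow_dvd_of_ring [Fact p.Prime] (hM : IsPModular p M) {a n : ℕ} {x : ℂ}
    (hx : MemLocalRing M x) (h : (n : ℂ) = (p : ℂ) ^ a * x) : p ^ a ∣ n := by
  have hp : p.Prime := Fact.out
  induction a generalizing n with
  | zero => simp
  | succ a ih =>
    have hd : p ∣ n := (ideal_natCast_iff hM n).1 (by
      rw [h, pow_succ', mul_assoc]
      exact ideal_mul_right hM ((ideal_natCast_iff hM p).2 dvd_rfl)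
        (ring_mul hM (by simpa using ring_natCast hM (p ^ a)) hx))
    obtain ⟨n', rfl⟩ := hd
    rw [pow_succ']
    refine Nat.mul_dvd_mul_left p (ih ?_)
    have hp0 : (p : ℂ) ≠ 0 := Nat.cast_ne_zero.2 hp.ne_zero
    rw [Nat.cast_mul, pow_succ', mul_assoc] at h
    exact mul_left_cancel₀ hp0 h

theorem BData.pow_dvd_pdeg [Fact p.Prime] (hM : IsPModular p M) (D : BData p M B) (c : Fin D.n) :
    p ^ (Nat.card G).factorization p ∣ D.pdeg c := by
  refine pow_dvd_of_ring hM (x := ((Nat.card G / p ^ (Nat.card G).factorization p : ℕ) : ℂ) *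
    (D.i c).coeff 1) (ring_mul hM (ring_natCast hM _) ((D.pr c).ring 1)) ?_
  rw [D.pdeg_eq, ← mul_assoc, ← Nat.cast_pow, ← Nat.cast_mul, Nat.ordProj_mul_ordCompl_eq_self]

theorem BData.pdeg_pos (D : BData p M B) (c : Fin D.n) : 0 < D.pdeg c := by
  classical
  refine Nat.pos_of_ne_zero fun h => ?_
  simp only [BData.pdeg, Finset.sum_eq_zero_iff, Finset.mem_univ, true_implies, mul_eq_zero,
    (charDeg_pos _).ne', false_or] at h
  have h2 := D.dual c c
  simp [h] at h2

theorem BData.dvd_pdeg (D : BData p M B) {g : ℕ}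
    (hg : ∀ χ : IrrCharacter G, χ ∈ B → g ∣ charDegree (χ : G → ℂ)) (c : Fin D.n) :
    g ∣ D.pdeg c := by
  refine Finset.dvd_sum fun χ _ => ?_
  by_cases hχ : χ ∈ B
  · exact (hg χ hχ).mul_right _
  · simp [D.supp χ hχ c]

theorem BData.dvd_mult (D : BData p M B) {g : ℕ}
    (hg : ∀ χ : IrrCharacter G, χ ∈ B → g ∣ charDegree (χ : G → ℂ)) (c : Fin D.n) :
    g ∣ D.mult c := by
  classical
  have h1 : (D.mult c : ℤ) = ∑ χ ∈ Finset.univ.filter (· ∈ B),
      D.a c χ * (charDegree (χ : G → ℂ) : ℤ) := by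
    have h : ∀ χ ∈ Finset.univ.filter (fun χ : IrrCharacter G => χ ∈ B),
        D.a c χ * (charDegree (χ : G → ℂ) : ℤ) = ∑ d, (D.mult d : ℤ) * (D.a c χ * (D.N χ d : ℤ)) := by
      intro χ hχ
      rw [D.deg χ (Finset.mem_filter.1 hχ).2, Nat.cast_sum, Finset.mul_sum]
      exact Finset.sum_congr rfl fun d _ => by push_cast; ring
    rw [Finset.sum_congr rfl h, Finset.sum_comm]
    simp only [← Finset.mul_sum]
    rw [Finset.sum_congr rfl (g := fun d => (D.mult d : ℤ) * if c = d then 1 else 0) fun d _ => by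
      rw [← D.dual c d, ← Finset.sum_subset (Finset.subset_univ (Finset.univ.filter (· ∈ B))) fun χ _ hχ => by
        rw [D.supp χ (by simpa using hχ) d]
        simp]]
    simp
  have h2 : (g : ℤ) ∣ (D.mult c : ℤ) := by
    rw [h1]
    exact Finset.dvd_sum fun χ hχ =>
      (Int.natCast_dvd_natCast.2 (hg χ (Finset.mem_filter.1 hχ).2)).mul_left _
  exact_mod_cast h2

theorem BData.sum_sq (D : BData p M B) [DecidablePred (· ∈ B)] :
    ∑ χ ∈ Finset.univ.filter (· ∈ B), charDegree (χ : G → ℂ) ^ 2 =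
      ∑ c, D.mult c * D.pdeg c := by
  classical
  simp only [BData.pdeg, Finset.mul_sum]
  rw [Finset.sum_comm, ← Finset.sum_subset (Finset.subset_univ (Finset.univ.filter (· ∈ B)))
    fun χ _ hχ => Finset.sum_eq_zero fun c _ => by simp [D.supp χ (by simpa using hχ) c]]
  refine Finset.sum_congr rfl fun χ hχ => ?_
  rw [sq]
  conv_lhs => arg 2; rw [D.deg χ (Finset.mem_filter.1 hχ).2]
  rw [Finset.mul_sum]
  exact Finset.sum_congr rfl fun c _ => by ring

/-- The sum of the squares of the degrees of a block. -/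
theorem exists_factor [Fact p.Prime] (hM : IsPModular p M) (hB : IsPBlock M B) {g : ℕ}
    (hg1 : ∀ χ : IrrCharacter G, χ ∈ B → g ∣ charDegree (χ : G → ℂ))
    (hg2 : ∀ g' : ℕ, (∀ χ : IrrCharacter G, χ ∈ B → g' ∣ charDegree (χ : G → ℂ)) → g' ∣ g) :
    g.factorization p = (Nat.card G).factorization p - blockDefect p B ∧
      ∃ v : ℕ, 0 < v ∧ ¬ p ∣ v ∧ blockRank p B ≤ v ∧
        ∑ᶠ χ ∈ B, charDegree (χ : G → ℂ) ^ 2 =
          p ^ (2 * (Nat.card G).factorization p - blockDefect p B) *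
            (g / p ^ ((Nat.card G).factorization p - blockDefect p B)) ^ 2 * v := by
  classical
  have hp : p.Prime := Fact.out
  obtain ⟨D⟩ := exists_bdata hM hB
  obtain ⟨χ₀, hχ₀, h0⟩ := exists_height_zero hM hB
  rw [blockHeight_zero_iff hM hB hχ₀] at h0
  set a := (Nat.card G).factorization p with ha
  set d := blockDefect p B with hd
  have hg0 : g ≠ 0 := fun h => (charDeg_pos χ₀).ne' (Nat.eq_zero_of_zero_dvd (h ▸ hg1 χ₀ hχ₀))
  have hfac : g.factorization p = a - d := by
    refine le_antisymm ?_ ?_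
    · have := (Nat.factorization_le_iff_dvd hg0 (charDeg_pos χ₀).ne').2 (hg1 χ₀ hχ₀) p
      omega
    · refine (hp.pow_dvd_iff_le_factorization hg0).1 (hg2 _ fun χ hχ => ?_)
      have := le_defect_add hM hB hχ
      exact (hp.pow_dvd_iff_le_factorization (charDeg_pos χ).ne').2 (by omega)
  refine ⟨hfac, ?_⟩
  set g' := g / p ^ (a - d) with hg'
  have hgg : g = p ^ (a - d) * g' := by
    rw [hg', ← hfac, Nat.ordProj_mul_ordCompl_eq_self]
  have hcop : Nat.Coprime (p ^ a) g' := by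
    refine (hp.coprime_iff_not_dvd.2 ?_).pow_left _
    rw [hg', ← hfac]
    exact Nat.not_dvd_ordCompl hp hg0
  have hg'0 : 0 < g' := Nat.pos_of_ne_zero fun h => hg0 (by rw [hgg, h, mul_zero])
  have hdiv : ∀ c, g * (p ^ a * g') ∣ D.mult c * D.pdeg c := fun c =>
    mul_dvd_mul (D.dvd_mult hg1 c) (hcop.mul_dvd_of_dvd_of_dvd (D.pow_dvd_pdeg hM c)
      (dvd_trans ⟨p ^ (a - d), by rw [hgg, mul_comm]⟩ (D.dvd_pdeg hg1 c)))
  choose w hw using hdiv
  have hsum : ∑ᶠ χ ∈ B, charDegree (χ : G → ℂ) ^ 2 = p ^ (2 * a - d) * g' ^ 2 * ∑ c, w c := by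
    rw [Cfsg.Agent.Block.finsum_mem_block, D.sum_sq, Finset.sum_congr rfl fun c _ => hw c,
      ← Finset.mul_sum, show 2 * a - d = (a - d) + a by have := le_defect_add hM hB hχ₀; omega,
      pow_add]
    conv_lhs => rw [hgg]
    ring
  have hwpos : ∀ c, 0 < w c := fun c => by
    have h1 : 0 < D.mult c * D.pdeg c := Nat.mul_pos (D.mult_pos c) (D.pdeg_pos c)
    rw [hw c] at h1
    exact Nat.pos_of_mul_pos_left h1
  have hne : ∑ᶠ χ ∈ B, charDegree (χ : G → ℂ) ^ 2 ≠ 0 := by
    rw [Cfsg.Agent.Block.finsum_mem_block]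
    exact (Finset.sum_pos (fun χ _ => pow_pos (charDeg_pos χ) 2)
      ⟨χ₀, by simpa using hχ₀⟩).ne'
  refine ⟨∑ c, w c, Nat.pos_of_ne_zero fun h => hne (by rw [hsum, h, mul_zero]), ?_, ?_, hsum⟩
  · intro hv
    have hval := DegSum.sum_sq_valuation hM hB
    rw [← Cfsg.Agent.Block.finsum_mem_block, ← ha, ← hd] at hval
    have h1 : p ^ (2 * a - d + 1) ∣ ∑ᶠ χ ∈ B, charDegree (χ : G → ℂ) ^ 2 := by
      rw [hsum, pow_succ, mul_assoc (p ^ (2 * a - d)) (g' ^ 2)]
      exact mul_dvd_mul_left _ (hv.mul_left _)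
    rw [hp.pow_dvd_iff_le_factorization hne, hval] at h1
    omega
  · rw [D.rank]
    calc D.n = ∑ _c : Fin D.n, 1 := by simp
      _ ≤ ∑ c, w c := Finset.sum_le_sum fun c _ => hwpos c

end Cfsg.Agent.Char.Decomp
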