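import Cfsg.Agent.Lib.Block.Elementary
import Cfsg.Agent.Lib.Block.Height

/-!
Blocks of a given defect are told apart by the classes of the same defect.
-/

open scoped ComplexConjugate

namespace Cfsg.Agent.Char.DefCls

open Cfsg Cfsg.Agent.Block

universe u

variable {G : Type u} [Group G] [Finite G] {p : ℕ} {M : Ideal AlgInt}

/-- Only the classes of the defect of the block contribute to the value of its idempotent. -/
theorem term_ideal [Fact p.Prime] (hM : IsPModular p M) {B B' : Set (IrrCharacter G)}
    (hB : IsPBlock M B) (hB' : IsPBlock M B') {d : ℕ} (hd : blockDefect p B = d)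
    (hd' : blockDefect p B' = d) {χ : IrrCharacter G} (hχ : χ ∈ B) {g : G}
    (hg : ¬ (¬ p ∣ orderOf g ∧
      (Nat.card (Subgroup.centralizer ({g} : Set G))).factorization p = d)) :
    MemLocalIdeal M (centralChar (χ : G → ℂ) g * blockCoeff B' g) := by
  by_cases hp : p ∣ orderOf g
  · rw [blockCoeff_singular hM hB' hp, mul_zero]; exact ideal_zero hM
  rcases lt_or_gt_of_ne (fun h => hg ⟨hp, h⟩) with h | h
  · exact ideal_mul_right hM (omega_ideal_of_small hM hB hχ (hd.symm ▸ h))
      (blockCoeff_ring hM hB' _)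
  · refine ideal_mul_left hM (centralChar_ring hM _ _) ?_
    by_contra hu
    obtain ⟨D, hD⟩ := exists_isDefectGroup hM hB'
    let Q : Sylow p (Subgroup.centralizer ({g} : Set G)) := Classical.arbitrary _
    obtain ⟨x, hx⟩ := exists_conj_le_of_unit hM hB' hD hu Q
    have h1 := Subgroup.card_dvd_of_le hx
    rw [card_map_conj, card_csyl, card_defectGroup hM hB' hD, hd'] at h1
    have h2 := (Nat.pow_dvd_pow_iff_le_right (Fact.out : p.Prime).one_lt).1 h1
    omega

theorem sameBlock_of_agree [Fact p.Prime] (hM : IsPModular p M) {d : ℕ} {χ ψ : IrrCharacter G}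
    (hχ : blockDefect p (blockOf M (χ : G → ℂ)) = d)
    (hψ : blockDefect p (blockOf M (ψ : G → ℂ)) = d)
    (h : ∀ x : G, ¬ p ∣ orderOf x →
      (Nat.card (Subgroup.centralizer ({x} : Set G))).factorization p = d →
      MemLocalIdeal M (centralChar (χ : G → ℂ) x - centralChar (ψ : G → ℂ) x)) :
    SameBlock M (χ : G → ℂ) (ψ : G → ℂ) := by
  classical
  cases nonempty_fintype (ConjClasses G)
  set B := blockOf M (χ : G → ℂ) with hB0
  have hB : IsPBlock M B := isPBlock_blockOf χ
  have hB' : IsPBlock M (blockOf M (ψ : G → ℂ)) := isPBlock_blockOf ψ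
  have hd : MemLocalIdeal M (blockInd B χ - blockInd B ψ) := by
    rw [eq_sum_centralChar (blockInd B) χ, eq_sum_centralChar (blockInd B) ψ,
      ← Finset.sum_sub_distrib]
    refine ideal_sum hM fun C _ => ?_
    rw [← blockCoeff_eq, ← mul_sub]
    by_cases hC : ¬ p ∣ orderOf C.out ∧
        (Nat.card (Subgroup.centralizer ({C.out} : Set G))).factorization p = d
    · exact ideal_mul_left hM (blockCoeff_ring hM hB _) (h _ hC.1 hC.2)
    · rw [mul_sub, mul_comm, mul_comm (blockCoeff B C.out) (centralChar (ψ : G → ℂ) C.out)]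
      exact ideal_sub hM (term_ideal hM hB hB hχ hχ (mem_blockOf_self hM χ) hC)
        (term_ideal hM hB' hB hψ hχ (mem_blockOf_self hM ψ) hC)
  by_contra hne
  have hnot : ψ ∉ B := fun hm => hne (pblock_sameBlock hM hB (mem_blockOf_self hM χ) hm)
  rw [blockInd_of_mem (mem_blockOf_self hM χ), blockInd_of_notMem hnot, sub_zero] at hd
  exact ideal_one hM hd

theorem card_blocks_exact [Fact p.Prime] (hM : IsPModular p M) (d : ℕ) :
    Nat.card {B : Set (IrrCharacter G) // IsPBlock M B ∧ blockDefect p B = d} ≤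
      Nat.card {C : ConjClasses G // ∃ g : G, ConjClasses.mk g = C ∧ ¬ p ∣ orderOf g ∧
        (Nat.card (Subgroup.centralizer ({g} : Set G))).factorization p = d} := by
  classical
  cases nonempty_fintype G
  cases nonempty_fintype (ConjClasses G)
  letI : Field (ResField hM) := resInst hM
  set 𝔅 := {B : Set (IrrCharacter G) // IsPBlock M B ∧ blockDefect p B = d}
  set 𝔎 := {C : ConjClasses G // ∃ g : G, ConjClasses.mk g = C ∧ ¬ p ∣ orderOf g ∧
        (Nat.card (Subgroup.centralizer ({g} : Set G))).factorization p = d}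
  haveI : Finite 𝔅 := Subtype.finite
  cases nonempty_fintype 𝔅
  cases nonempty_fintype 𝔎
  choose χ hχ using fun B : 𝔅 => pblock_nonempty hM B.2.1
  let W : Matrix 𝔅 𝔎 (ResField hM) := fun B C => red hM (centralChar (χ B : G → ℂ) C.1.out)
  let E : Matrix 𝔎 𝔅 (ResField hM) := fun C B => red hM (blockCoeff B.1 C.1.out)
  have hWE : W * E = 1 := by
    ext B B'
    rw [Matrix.mul_apply]
    have hsum : ∑ C : ConjClasses G, centralChar (χ B : G → ℂ) C.out * blockCoeff B'.1 C.out =
        blockInd B'.1 (χ B) := by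
      rw [eq_sum_centralChar (blockInd B'.1) (χ B)]
      exact Finset.sum_congr rfl fun C _ => by rw [blockCoeff_eq, mul_comm]
    have hring : ∀ C : ConjClasses G,
        MemLocalRing M (centralChar (χ B : G → ℂ) C.out * blockCoeff B'.1 C.out) := fun C =>
      ring_mul hM (centralChar_ring hM _ _) (blockCoeff_ring hM B'.2.1 _)
    have hred := congrArg (red hM) hsum
    rw [red_sum hM fun C _ => hring C] at hred
    rw [Finset.sum_congr rfl (g := fun C : 𝔎 =>
      red hM (centralChar (χ B : G → ℂ) C.1.out * blockCoeff B'.1 C.1.out)) fun C _ =>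
        (red_mul hM (centralChar_ring hM _ _) (blockCoeff_ring hM B'.2.1 _)).symm,
      ← Finset.sum_subtype (Finset.univ.filter (fun C : ConjClasses G => ∃ g : G,
        ConjClasses.mk g = C ∧ ¬ p ∣ orderOf g ∧
          (Nat.card (Subgroup.centralizer ({g} : Set G))).factorization p = d))
        (fun C => by simp)
        (fun C => red hM (centralChar (χ B : G → ℂ) C.out * blockCoeff B'.1 C.out)),
      Finset.sum_filter_of_ne fun C _ hne => ?_, hred]
    · rcases eq_or_ne B B' with rfl | hBB
      · rw [blockInd_of_mem (hχ B), red_one, Matrix.one_apply_eq]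
      · rw [blockInd_of_notMem, red_zero, Matrix.one_apply_ne hBB]
        intro hmem
        exact hBB (Subtype.ext ((pblock_eq_blockOf hM B.2.1 (hχ B)).trans
          (pblock_eq_blockOf hM B'.2.1 hmem).symm))
    · by_contra hC
      exact hne ((red_eq_zero hM (hring C)).2 (term_ideal hM B.2.1 B'.2.1 B.2.2 B'.2.2 (hχ B)
        fun h => hC ⟨C.out, Quotient.out_eq C, h.1, h.2⟩))
  have hrank : (W * E).rank ≤ Fintype.card 𝔎 :=
    (Matrix.rank_mul_le_left W E).trans (Matrix.rank_le_card_width W)
  rw [hWE, Matrix.rank_one] at hrank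
  rwa [Nat.card_eq_fintype_card, Nat.card_eq_fintype_card]

end Cfsg.Agent.Char.DefCls
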