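import Cfsg.Agent.Lib.Char.DefectOneBasics
import Cfsg.Agent.Lib.Char.Galois
import Cfsg.Agent.Lib.Char.RegularIntegral
import Cfsg.Agent.Lib.Block.FirstMain

/-!
Blocks with a Sylow subgroup of order `p`: the action of the field automorphisms fixing the roots
of unity of order prime to `p`.
-/

open scoped ComplexConjugate

namespace Cfsg.Agent.Char.DefectOne

open Cfsg Cfsg.Agent.Block Cfsg.Agent.Char.BP Cfsg.Agent.Char.Spec

set_option linter.unusedSectionVars false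
set_option linter.style.haveILetI false
set_option maxHeartbeats 800000

universe u

variable {G : Type u} [Group G] [Fintype G] {p : ℕ} [hp : Fact p.Prime] {M : Ideal AlgInt}

/-- The order prime to `p`. -/
noncomputable def pp' (p : ℕ) (G : Type u) [Group G] : ℕ := Nat.card G / p ^ (Nat.card G).factorization p

/-- An automorphism fixing the roots of unity of the order prime to `p`. -/
def FixesRoots (p : ℕ) (G : Type u) [Group G] (σ : ℂ ≃+* ℂ) : Prop :=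
  ∀ ζ : ℂ, ζ ^ pp' p G = 1 → σ ζ = ζ

theorem fixesRoots_of_exp (σ : ℂ ≃+* ℂ)
    (h : σ (Complex.exp (2 * Real.pi * Complex.I / (pp' p G : ℕ))) =
      Complex.exp (2 * Real.pi * Complex.I / (pp' p G : ℕ))) : FixesRoots p G σ := by
  intro ζ hζ
  have h0 : pp' p G ≠ 0 := (Nat.ordCompl_pos p Nat.card_pos.ne').ne'
  haveI : NeZero (pp' p G) := ⟨h0⟩
  obtain ⟨i, -, rfl⟩ := (Complex.isPrimitiveRoot_exp (pp' p G) h0).eq_pow_of_pow_eq_one hζ
  rw [map_pow, h]

theorem FixesRoots.symm {σ : ℂ ≃+* ℂ} (h : FixesRoots p G σ) : FixesRoots p G σ.symm :=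
  fun ζ hζ => σ.symm_apply_eq.2 (h ζ hζ).symm

theorem FixesRoots.regular {σ : ℂ ≃+* ℂ} (hσ : FixesRoots p G σ) {χ : G → ℂ} (hχ : IsCharacter G χ)
    {h : G} (hh : ¬ p ∣ orderOf h) : σ (χ h) = χ h := by
  have h1 := ringAut_character_eq_pow hχ σ (N := pp' p G) (k := 1)
    (fun ζ hζ => by rw [hσ ζ hζ, pow_one]) (g := h) ?_
  · rwa [pow_one] at h1
  refine (Nat.Coprime.dvd_mul_left ?_).1
    ((Nat.ordProj_mul_ordCompl_eq_self (Nat.card G) p).symm ▸ orderOf_dvd_natCard h)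
  exact Nat.Coprime.pow_right _ ((hp.out.coprime_iff_not_dvd.2 hh).symm)

theorem FixesRoots.regular_sub {σ : ℂ ≃+* ℂ} (hσ : FixesRoots p G σ) {H : Subgroup G}
    (ξ : IrrCharacter H) {h : H} (hh : ¬ p ∣ orderOf h) :
    σ ((ξ : H → ℂ) h) = (ξ : H → ℂ) h := by
  have h1 := ringAut_character_eq_pow (irr_isChar ξ) σ (N := pp' p G) (k := 1)
    (fun ζ hζ => by rw [hσ ζ hζ, pow_one]) (g := h) ?_
  · rwa [pow_one] at h1
  rw [← Subgroup.orderOf_coe]
  refine (Nat.Coprime.dvd_mul_left ?_).1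
    ((Nat.ordProj_mul_ordCompl_eq_self (Nat.card G) p).symm ▸ orderOf_dvd_natCard (h : G))
  rw [Subgroup.orderOf_coe]
  exact Nat.Coprime.pow_right _ ((hp.out.coprime_iff_not_dvd.2 hh).symm)

/-- The image of a character. -/
noncomputable def twist (σ : ℂ ≃+* ℂ) (χ : IrrCharacter G) : IrrCharacter G :=
  ⟨fun g => σ ((χ : G → ℂ) g), IsIrr.map_ringAut χ.2 σ⟩

theorem twist_apply (σ : ℂ ≃+* ℂ) (χ : IrrCharacter G) (g : G) :
    (twist σ χ : G → ℂ) g = σ ((χ : G → ℂ) g) := rfl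

theorem twist_symm (σ : ℂ ≃+* ℂ) (χ : IrrCharacter G) : twist σ.symm (twist σ χ) = χ :=
  Subtype.ext (funext fun g => σ.symm_apply_apply _)

theorem regSum_self_ne_zero (χ : IrrCharacter G) : regSum p (χ : G → ℂ) (χ : G → ℂ) ≠ 0 := by
  classical
  rw [regSum_eq_sum]
  intro h
  have h1 := congrArg Complex.re h
  rw [Complex.re_sum, Complex.zero_re] at h1
  have h2 := (Finset.sum_eq_zero_iff_of_nonneg fun g _ => ?_).1 h1 1
    (Finset.mem_filter.2 ⟨Finset.mem_univ _, by rw [orderOf_one]; exact hp.out.not_dvd_one⟩)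
  · rw [Complex.mul_conj, Complex.ofReal_re, Complex.normSq_eq_zero] at h2
    exact irr_one_ne_zero χ h2
  · rw [Complex.mul_conj, Complex.ofReal_re]
    exact Complex.normSq_nonneg _

theorem twist_mem (hM : IsPModular p M) {B : Set (IrrCharacter G)} (hB : IsPBlock M B)
    {σ : ℂ ≃+* ℂ} (hσ : FixesRoots p G σ) {χ : IrrCharacter G} (hχ : χ ∈ B) : twist σ χ ∈ B := by
  classical
  by_contra h
  refine regSum_self_ne_zero (p := p) χ ?_
  rw [← Contrib.regSum_eq_zero_of_not_mem hM hB hχ h, regSum_eq_sum, regSum_eq_sum]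
  refine Finset.sum_congr rfl fun g hg => ?_
  rw [twist_apply, hσ.regular (irr_isChar χ) (Finset.mem_filter.1 hg).2]

variable {P : Subgroup G} {b : Set (IrrCharacter (CG P))} {θ : IrrCharacter (CG P)}

theorem map_be (hM : IsPModular p M) (hb : IsPBlock M b) {σ : ℂ ≃+* ℂ} (hσ : FixesRoots p G σ)
    (k : G) : σ (be (⟨P, b⟩ : BrauerPairIdx G) k) = be (⟨P, b⟩ : BrauerPairIdx G) k := by
  classical
  show σ (bc (CG P) b k) = bc (CG P) b k
  by_cases hk : k ∈ CG P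
  swap
  · rw [bc_supp _ _ _ hk, map_zero]
  have h1 : bc (CG P) b k = blockCoeff b (⟨k, hk⟩ : CG P) := bc_coe (CG P) b ⟨k, hk⟩
  rw [h1]
  by_cases hr : p ∣ orderOf (⟨k, hk⟩ : CG P)
  · rw [blockCoeff_singular hM hb hr, map_zero]
  letI := Fintype.ofFinite (CG P)
  rw [blockCoeff, finsum_mem_block, map_mul, map_inv₀, map_natCast, map_sum]
  refine congrArg _ (Finset.sum_congr rfl fun ξ _ => ?_)
  rw [map_mul, charDeg_spec', map_natCast, ← irr_apply_inv,
    hσ.regular_sub ξ (by rwa [orderOf_inv])]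

theorem map_sct (hM : IsPModular p M) (hb : IsPBlock M b) {σ : ℂ ≃+* ℂ} (hσ : FixesRoots p G σ)
    (χ : IrrCharacter G) (x v : G) :
    sct (twist σ χ : G → ℂ) (⟨P, b⟩ : BrauerPairIdx G) x v =
      σ (sct (χ : G → ℂ) (⟨P, b⟩ : BrauerPairIdx G) x v) := by
  simp only [sct, map_sum, map_mul, map_be hM hb hσ, twist_apply]

variable {B : Set (IrrCharacter G)} {T : Subgroup G} {u₀ : G} {R : Subgroup (ZMod p)ˣ}
  {X : Finset (IrrCharacter G)} {y : (ZMod p)ˣ ⧸ R → IrrCharacter G} {c : IrrCharacter G → ℤ}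
  {ε : ℤ}

/-- The constant rows are fixed. -/
theorem twist_X (hM : IsPModular p M) (hPp : Nat.card P = p) (hsyl : ¬ p ∣ P.index) (hθ : θ ∈ b)
    (hθP : ∀ x : CG P, (x : G) ∈ P → (θ : CG P → ℂ) x = (θ : CG P → ℂ) 1)
    (haB : OfB p M B (⟨P, b⟩ : BrauerPairIdx G))
    (hT : ∀ g : G, g ∈ T ↔ (g ∈ Subgroup.normalizer (P : Set G) ∧ ∀ c c' : CG P,
      (c' : G) = g * c * g⁻¹ → (θ : CG P → ℂ) c' = (θ : CG P → ℂ) c))
    (hu₀ : u₀ ∈ P) (hu₁ : u₀ ≠ 1) (hD : Data M P B b θ T u₀ R X y c ε) {σ : ℂ ≃+* ℂ}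
    (hσ : FixesRoots p G σ) {χ : IrrCharacter G} (hχ : χ ∈ X) : twist σ χ = χ := by
  classical
  refine Subtype.ext (funext fun g => ?_)
  rw [twist_apply]
  by_cases hg : p ∣ orderOf g
  swap
  · exact hσ.regular (irr_isChar χ) hg
  -- the singular elements
  haveI : Finite G := inferInstance
  obtain ⟨u, v, huv, hc, ⟨k, hk⟩, hv⟩ : ∃ u v : G, u * v = g ∧ Commute u v ∧
      (∃ k, orderOf u = p ^ k) ∧ ¬ p ∣ orderOf v := by
    obtain ⟨u, v, h1, h2, h3, h4, -⟩ := exists_pPart_zpowers (p := p) g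
    exact ⟨u, v, h1, h2, h3, h4⟩
  have hu1 : u ≠ 1 := fun h => hv (by rwa [← huv, h, one_mul] at hg)
  haveI : Fact p.Prime := hp
  obtain ⟨S, hS⟩ := (IsPGroup.of_card (n := k) (by rw [Nat.card_zpowers, hk]) :
    IsPGroup p (Subgroup.zpowers u)).exists_le_sylow
  let SP : Sylow p G := IsPGroup.toSylow (IsPGroup.of_card (n := 1) (by rw [hPp, pow_one])) hsyl
  obtain ⟨t, ht⟩ := MulAction.exists_smul_eq G S SP
  have hP : t * u * t⁻¹ ∈ P := by
    have h1 : t * u * t⁻¹ ∈ (t • S : Sylow p G) := by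
      show t * u * t⁻¹ ∈ ((t • S : Sylow p G) : Subgroup G)
      rw [Sylow.coe_subgroup_smul]
      exact ⟨u, hS (Subgroup.mem_zpowers u), rfl⟩
    rw [ht] at h1
    exact h1
  have hne : t * u * t⁻¹ ≠ 1 := fun h => hu1 (conj_eq_one_iff.1 h)
  have hvC : t * v * t⁻¹ ∈ CG P := by
    refine Subgroup.mem_centralizer_iff.2 fun w hw => ?_
    rw [← mem_zpowers_of_prime hPp hP hne] at hw
    obtain ⟨n, rfl⟩ := Subgroup.mem_zpowers_iff.1 hw
    exact ((hc.map (MulAut.conj t).toMonoidHom).zpow_left n).eq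
  have hvr : ¬ p ∣ orderOf (⟨t * v * t⁻¹, hvC⟩ : CG P) := by
    rwa [Subgroup.orderOf_mk, show t * v * t⁻¹ = MulAut.conj t v from rfl, MulEquiv.orderOf_eq]
  have hval : (χ : G → ℂ) g = (χ : G → ℂ) ((t * u * t⁻¹) * (t * v * t⁻¹)) := by
    rw [show (t * u * t⁻¹) * (t * v * t⁻¹) = t * g * t⁻¹ by rw [← huv]; group, irr_classFun χ]
  letI : Fintype (Subgroup.normalizer (P : Set G) ⧸ T.subgroupOf (Subgroup.normalizer (P : Set G))) :=
    Fintype.ofFinite _
  rw [hval, value_X hM hPp hsyl hθ hθP haB hT hu₀ hu₁ hD rfl hχ hP hne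
    (v := ⟨t * v * t⁻¹, hvC⟩) hvr, map_mul, map_neg, map_intCast, map_sum]
  refine congrArg _ (Finset.sum_congr rfl fun q _ => ?_)
  by_cases h : (q.out : G)⁻¹ * (t * v * t⁻¹) * (q.out : G) ∈ CG P
  · rw [extendByZero_of_mem _ h]
    refine hσ.regular_sub θ ?_
    rw [Subgroup.orderOf_mk, show ((q.out : G))⁻¹ * (t * v * t⁻¹) * (q.out : G) =
      MulAut.conj (q.out : G)⁻¹ (t * v * t⁻¹) by simp, MulEquiv.orderOf_eq]
    rwa [Subgroup.orderOf_mk] at hvr
  · rw [extendByZero_not_mem _ h, map_zero]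

end Cfsg.Agent.Char.DefectOne
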