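import Cfsg.Agent.Lib.Char.DefectOneValues
import Cfsg.Agent.Lib.Char.DefectOneSetup
import Cfsg.Agent.Lib.Char.PSolvableIto
import Cfsg.Agent.Lib.Char.ModP

/-!
`p` dividing the order once: the number of characters of degree prime to `p`, from the canonical
characters of the centralizer of a subgroup of order `p` and their stabilizers.
-/

namespace Cfsg.Agent.Char.DefectOne

open Cfsg Cfsg.Agent.Block Cfsg.Agent.Char.BP Cfsg.Agent.Char.Spec

set_option linter.unusedSectionVars false
set_option linter.style.haveILetI false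
set_option maxHeartbeats 800000

universe u

variable {G : Type u} [Group G] [Fintype G] {p : ℕ} [hp : Fact p.Prime] {M : Ideal AlgInt}
variable {P : Subgroup G}

/-- The characters of the centralizer trivial on `P`. -/
noncomputable def canon (P : Subgroup G) : Finset (IrrCharacter (CG P)) := by
  classical
  exact Finset.univ.filter fun θ => ∀ x : CG P, (x : G) ∈ P →
    (θ : CG P → ℂ) x = (θ : CG P → ℂ) 1

theorem mem_canon {θ : IrrCharacter (CG P)} :
    θ ∈ canon P ↔ ∀ x : CG P, (x : G) ∈ P → (θ : CG P → ℂ) x = (θ : CG P → ℂ) 1 := by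
  classical
  simp [canon]

/-- The inertial index of a character of the centralizer. -/
noncomputable def inert (θ : IrrCharacter (CG P)) : ℕ :=
  Nat.card {q : (Subgroup.normalizer (P : Set G)) ⧸
    (CG P).subgroupOf (Subgroup.normalizer (P : Set G)) //
    ∀ c c' : CG P, (c' : G) = (q.out : G) * c * (q.out : G)⁻¹ →
      (θ : CG P → ℂ) c' = (θ : CG P → ℂ) c}

theorem inert_eq (θ : IrrCharacter (CG P)) {T : Subgroup G}
    (hT : ∀ g : G, g ∈ T ↔ (g ∈ Subgroup.normalizer (P : Set G) ∧ ∀ c c' : CG P,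
      (c' : G) = g * c * g⁻¹ → (θ : CG P → ℂ) c' = (θ : CG P → ℂ) c)) :
    inert θ = (CG P).relIndex T := by
  classical
  set N := Subgroup.normalizer (P : Set G)
  set C := (CG P).subgroupOf N
  set T' := T.subgroupOf N with hT'
  have hCT : CG P ≤ T := fun c hc => (hT c).2
    ⟨Subgroup.centralizer_le_normalizer _ hc, fun d d' h => by
      rw [show d' = (⟨c, hc⟩ : CG P) * d * (⟨c, hc⟩ : CG P)⁻¹ from Subtype.ext h,
        irr_classFun θ d]⟩
  have hTN : T ≤ N := fun g hg => ((hT g).1 hg).1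
  rw [← Subgroup.relIndex_subgroupOf hTN (H := CG P)]
  show _ = (C.subgroupOf T').index
  rw [Subgroup.index, inert]
  refine Nat.card_congr ((Equiv.subtypeEquivRight fun q : N ⧸ C => ?_).trans
    (Equiv.ofBijective (fun q : {q : N ⧸ C // (q.out : N) ∈ T'} =>
      ((⟨q.1.out, q.2⟩ : T') : T' ⧸ C.subgroupOf T')) ⟨?_, ?_⟩))
  · rw [hT', Subgroup.mem_subgroupOf, hT]
    exact ⟨fun h => ⟨q.out.2, h⟩, fun h => h.2⟩
  · intro q q' h
    apply Subtype.ext
    rw [← QuotientGroup.out_eq' q.1, ← QuotientGroup.out_eq' q'.1]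
    exact QuotientGroup.eq.2 (by simpa [Subgroup.mem_subgroupOf] using QuotientGroup.eq.1 h)
  · intro t
    obtain ⟨t, rfl⟩ := QuotientGroup.mk_surjective t
    have hC : C ≤ T' := Subgroup.comap_mono hCT
    obtain ⟨c, hc⟩ := QuotientGroup.mk_out_eq_mul C (t : N)
    refine ⟨⟨((t : N) : N ⧸ C), by rw [hc]; exact mul_mem t.2 (hC c.2)⟩, ?_⟩
    exact QuotientGroup.eq.2 (by
      rw [Subgroup.mem_subgroupOf]
      push_cast
      simp [hc])

include hp in
theorem exists_canon (hM : IsPModular p M) (hPp : Nat.card P = p) (hsyl : ¬ p ∣ P.index)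
    {b : Set (IrrCharacter (CG P))} (hbB : IsPBlock M b) :
    ∃ θ ∈ b, θ ∈ canon P := by
  classical
  letI := Fintype.ofFinite (CG P)
  have hPC : P ≤ CG P := le_cg hPp
  set P' := P.subgroupOf (CG P) with hP'
  have hc' : ∀ d ∈ P', ∀ g : CG P, d * g = g * d := fun d hd g =>
    Subtype.ext (Subgroup.mem_centralizer_iff.1 g.2 (d : G) hd)
  haveI : P'.Normal := ⟨fun d hd g => by rwa [← hc' d hd g, mul_inv_cancel_right]⟩
  have hcard' : Nat.card P' = p := by
    rw [Nat.card_congr (Subgroup.subgroupOfEquivOfLe hPC).toEquiv, hPp]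
  obtain ⟨D, hDb⟩ := exists_isDefectGroup hM hbB
  have hle : P' ≤ D := normal_le_defectGroup hM hbB hDb
    (IsPGroup.of_card (n := 1) (by rw [hcard', pow_one]))
  have hDeq : P' = D := by
    refine Subgroup.eq_of_le_of_card_ge hle ?_
    obtain ⟨a, ha⟩ := (IsDefectGroup.isPGroup hDb).exists_card_eq
    rw [ha, hcard']
    rcases Nat.lt_or_ge a 2 with h | h
    · exact le_trans (Nat.pow_le_pow_right hp.out.pos (Nat.le_of_lt_succ h)) (pow_one p).le
    · exfalso
      have h2 : p * p ∣ Nat.card G :=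
        ((sq p ▸ pow_dvd_pow p h).trans (ha ▸ Subgroup.card_subgroup_dvd_card D)).trans
          (Subgroup.card_subgroup_dvd_card (CG P))
      rw [← P.card_mul_index, hPp] at h2
      exact hsyl ((Nat.mul_dvd_mul_iff_left hp.out.pos).1 h2)
  subst hDeq
  obtain ⟨⟨θ, ⟨hθ, hθP⟩, -⟩, -⟩ := sup_centralizer_block hM
    (eq_top_iff.2 fun g _ => Subgroup.mem_sup_right
      (Subgroup.mem_centralizer_iff.2 fun d hd => hc' d hd g)) hbB hDb
  exact ⟨θ, hθ, mem_canon.2 fun x hx => hθP x hx⟩

include hp in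
/-- The characters of `p`-prime degree, weighted by the index of the centralizer. -/
theorem count_eq (hM : IsPModular p M) (hPp : Nat.card P = p) (hsyl : ¬ p ∣ P.index) :
    (CG P).relIndex (Subgroup.normalizer (P : Set G)) *
        Nat.card {χ : IrrCharacter G // ¬ p ∣ charDegree (χ : G → ℂ)} =
      ∑ θ ∈ canon P, (inert θ ^ 2 + (p - 1)) := by
  classical
  set N := Subgroup.normalizer (P : Set G) with hN
  have hfac : (Nat.card G).factorization p = 1 := by
    rw [← P.card_mul_index, hPp, Nat.factorization_mul hp.out.ne_zero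
      Subgroup.index_ne_zero_of_finite, Finsupp.add_apply, Nat.Prime.factorization_self hp.out,
      Nat.factorization_eq_zero_of_not_dvd hsyl]
  have hPgroup : IsPGroup p P := IsPGroup.of_card (n := 1) (by rw [hPp, pow_one])
  obtain ⟨u₀, hu₀, hu₁⟩ : ∃ u ∈ P, u ≠ 1 := by
    refine (Subgroup.bot_or_exists_ne_one P).resolve_left fun h => hp.out.one_lt.ne ?_
    rw [← hPp, h, Subgroup.card_bot]
  have hpr : ∀ θ : IrrCharacter (CG P),
      IsPr p M (⟨P, blockOf M (θ : CG P → ℂ)⟩ : BrauerPairIdx G) :=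
    fun θ => ⟨hPgroup, isPBlock_blockOf θ⟩
  choose blk hblk using fun θ => exists_ofB hM (hpr θ)
  -- positive defect
  have hpos : ∀ θ, blockDefect p (blk θ) ≠ 0 := by
    intro θ h0
    obtain ⟨D, hD⟩ := exists_isDefectGroup hM (hblk θ).2.1
    obtain ⟨g, hg⟩ := conj_le_defect hM (hblk θ) hD
    have h1 := Subgroup.card_le_of_le hg
    rw [card_defectGroup hM (hblk θ).2.1 hD, h0, pow_zero,
      Nat.card_congr (Subgroup.equivMapOfInjective P _ (MulAut.conj g).injective).symm.toEquiv,
      hPp] at h1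
    exact absurd h1 (not_le.2 hp.out.one_lt)
  have hdeg : ∀ χ : IrrCharacter G,
      ¬ p ∣ charDegree (χ : G → ℂ) ↔ blockDefect p (blockOf M (χ : G → ℂ)) ≠ 0 := by
    intro χ
    have hB := isPBlock_blockOf (M := M) χ
    have hmem := mem_blockOf_self hM χ
    constructor
    · intro h h0
      have := le_defect_add hM hB hmem
      rw [h0, hfac, Nat.factorization_eq_zero_of_not_dvd h] at this
      omega
    · intro hd hdvd
      have h := height_zero (hM := hM) hB hd hfac hmem
      rw [blockHeight] at h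
      rw [blockDefect, hfac] at hd
      have h2 := (hp.out.dvd_iff_one_le_factorization (charDeg_pos χ).ne').1 hdvd
      omega
  -- members of a block
  have hsize : ∀ θ ∈ canon P,
      inert θ * (Finset.univ.filter (· ∈ blk θ)).card = inert θ ^ 2 + (p - 1) := by
    intro θ hθ
    have hθP := mem_canon.1 hθ
    have hθb := mem_blockOf_self hM θ
    set T := stab (⟨P, blockOf M (θ : CG P → ℂ)⟩ : BrauerPairIdx G)
    have hT := mem_stab_theta hM hPp hsyl hθb hθP (isPBlock_blockOf θ)
    obtain ⟨R, X, y, c, ε, hD⟩ := exists_data hM hPp hsyl hθb hθP (hblk θ).2.1 (hblk θ)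
      (hpos θ) (T := T) hT hu₀ hu₁
    letI : Fintype ((ZMod p)ˣ ⧸ R) := Fintype.ofFinite _
    have hB : Finset.univ.filter (· ∈ blk θ) = X ∪ Finset.univ.image y := by
      ext χ
      simp [hD.mem_iff, eq_comm]
    rw [hB, Finset.card_union_of_disjoint (Finset.disjoint_right.2 fun χ hχ hX => by
        obtain ⟨q, -, rfl⟩ := Finset.mem_image.1 hχ
        exact hD.disj q hX), hD.card_X, Finset.card_image_of_injective _ hD.y_inj,
      Finset.card_univ, ← inert_eq θ (T := T) hT, mul_add, ← sq]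
    congr 1
    rw [inert_eq θ (T := T) hT, ← hD.card_R, ← Nat.card_eq_fintype_card]
    show Nat.card R * R.index = _
    rw [R.card_mul_index, Nat.card_eq_fintype_card, ZMod.card_units]
  -- conjugation
  have hconj : ∀ θ : IrrCharacter (CG P), ∀ n : N,
      cjI (n : G) (⟨P, blockOf M (θ : CG P → ℂ)⟩ : BrauerPairIdx G) =
        ⟨P, pullB (conjIso (n : G) (fun g => (Subgroup.mem_normalizer_iff.1
          (mem_normalizer_cg (Q := P) n.2) g))) (blockOf M (θ : CG P → ℂ))⟩ := fun θ n =>
    idx_ext (map_conj_eq_of_normalizer n.2) (by rw [be_cjI]; exact (bc_pullB _ _ _).symm)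
  let act : IrrCharacter (CG P) → N → IrrCharacter (CG P) := fun θ n =>
    irrPull (centEquiv (Q := P) n.2) θ
  have hact_canon : ∀ θ ∈ canon P, ∀ n : N, act θ n ∈ canon P := by
    intro θ hθ n
    refine mem_canon.2 fun x hx => ?_
    simp only [act, irrPull_apply, map_one]
    exact mem_canon.1 hθ _ ((Subgroup.mem_normalizer_iff.1 n.2 _).1 hx)
  have hact_blk : ∀ θ ∈ canon P, ∀ n : N, blk (act θ n) = blk θ := by
    intro θ hθ n
    have h1 := ofB_cjI hM (hblk θ) ((n⁻¹ : N) : G)
    rw [hconj θ n⁻¹] at h1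
    set f := pullB (conjIso ((n⁻¹ : N) : G) _) (blockOf M (θ : CG P → ℂ))
    have hmem : act θ n ∈ f := by
      show irrPull _ (act θ n) ∈ blockOf M (θ : CG P → ℂ)
      rw [show irrPull _ (act θ n) = θ from Subtype.ext (funext fun k => by
        simp only [act, irrPull_apply]
        refine congrArg (θ : CG P → ℂ) (Subtype.ext ?_)
        simp [conjIso, centEquiv_val, mul_assoc])]
      exact mem_blockOf_self hM θ
    refine ofB_unique hM ?_ h1
    have hfB : IsPBlock M f := h1.1.2
    rw [pblock_eq_blockOf hM hfB hmem]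
    exact hblk _
  have hfiber : ∀ θ ∈ canon P, ∀ θ' ∈ canon P, blk θ' = blk θ → ∃ n : N, act θ n = θ' := by
    intro θ hθ θ' hθ' he
    have h2 : OfB p M (blk θ) (⟨P, blockOf M (θ' : CG P → ℂ)⟩ : BrauerPairIdx G) := he ▸ hblk θ'
    obtain ⟨n, hn, hx⟩ := max_conj_normalizer hM (isMx_of_card hPp hsyl (hblk θ))
      (isMx_of_card hPp hsyl h2) rfl
    rw [hconj θ ⟨n, hn⟩] at hx
    set f := pullB (conjIso n _) (blockOf M (θ : CG P → ℂ))
    have hf : blockOf M (θ' : CG P → ℂ) = f := eq_of_heq (Sigma.mk.inj_iff.1 hx).2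
    refine ⟨⟨n⁻¹, inv_mem hn⟩, ?_⟩
    have hmem : act θ ⟨n⁻¹, inv_mem hn⟩ ∈ blockOf M (θ' : CG P → ℂ) := by
      rw [hf]
      show irrPull _ (act θ _) ∈ blockOf M (θ : CG P → ℂ)
      rw [show irrPull _ (act θ ⟨n⁻¹, inv_mem hn⟩) = θ from Subtype.ext (funext fun k => by
        simp only [act, irrPull_apply]
        refine congrArg (θ : CG P → ℂ) (Subtype.ext ?_)
        simp [conjIso, centEquiv_val, mul_assoc])]
      exact mem_blockOf_self hM θ
    exact (local_block hM hPp hsyl (isPBlock_blockOf θ') (mem_blockOf_self hM θ')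
      (mem_canon.1 hθ')).2.1 _ hmem (mem_canon.1 (hact_canon θ hθ _))
  set m := (CG P).relIndex N with hm
  have horbit : ∀ θ ∈ canon P,
      ((canon P).filter fun θ' => blk θ' = blk θ).card * inert θ = m := by
    intro θ hθ
    set T := stab (⟨P, blockOf M (θ : CG P → ℂ)⟩ : BrauerPairIdx G)
    have hT := mem_stab_theta hM hPp hsyl (mem_blockOf_self hM θ) (mem_canon.1 hθ)
      (isPBlock_blockOf θ)
    letI : Fintype N := Fintype.ofFinite _
    have hTN : T ≤ N := fun g hg => ((hT g).1 hg).1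
    have hCT : CG P ≤ T := fun c hc => (hT c).2
      ⟨Subgroup.centralizer_le_normalizer _ hc, fun d d' h => by
        rw [show d' = (⟨c, hc⟩ : CG P) * d * (⟨c, hc⟩ : CG P)⁻¹ from Subtype.ext h,
          irr_classFun θ d]⟩
    have hcount : Nat.card N =
        ((canon P).filter fun θ' => blk θ' = blk θ).card * Nat.card T := by
      rw [Nat.card_eq_fintype_card (α := N), ← Finset.card_univ,
        Finset.card_eq_sum_card_fiberwise (f := act θ)
          (t := (canon P).filter fun θ' => blk θ' = blk θ) (fun n _ =>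
            Finset.mem_filter.2 ⟨hact_canon θ hθ n, hact_blk θ hθ n⟩),
        Finset.sum_congr rfl (g := fun _ => Nat.card T), Finset.sum_const, smul_eq_mul]
      intro θ' hθ'
      obtain ⟨hθ'c, hθ'b⟩ := Finset.mem_filter.1 hθ'
      obtain ⟨n₀, rfl⟩ := hfiber θ hθ θ' hθ'c hθ'b
      rw [← Nat.card_congr (Subgroup.subgroupOfEquivOfLe hTN).toEquiv, ← Nat.card_eq_finsetCard]
      refine (Nat.card_congr ((Equiv.mulRight n₀).subtypeEquiv fun t => ?_)).symm
      simp only [Finset.mem_filter, Finset.mem_univ, true_and, Equiv.coe_mulRight,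
        Subgroup.mem_subgroupOf]
      rw [hT]
      constructor
      · intro h
        refine Subtype.ext (funext fun k => ?_)
        simp only [act, irrPull_apply]
        exact h.2 (centEquiv n₀.2 k) _ (by simp [centEquiv, mul_assoc])
      · intro h
        refine ⟨t.2, fun c c' hc => ?_⟩
        have h1 := congrFun (congrArg Subtype.val h) ((centEquiv (Q := P) n₀.2).symm c)
        simp only [act, irrPull_apply, MulEquiv.apply_symm_apply] at h1
        rw [← h1]
        refine congrArg (θ : CG P → ℂ) (Subtype.ext ?_)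
        simp [hc, centEquiv, mul_assoc]
    refine Nat.eq_of_mul_eq_mul_left (Nat.card_pos (α := CG P)) ?_
    rw [inert_eq θ (T := T) hT, hm]
    have e1 : Nat.card (CG P) * (CG P).relIndex T = Nat.card T := by
      rw [← Nat.card_congr (Subgroup.subgroupOfEquivOfLe hCT).toEquiv]
      exact Subgroup.card_mul_index _
    have e2 : Nat.card (CG P) * (CG P).relIndex N = Nat.card N := by
      rw [← Nat.card_congr (Subgroup.subgroupOfEquivOfLe (hCT.trans hTN)).toEquiv]
      exact Subgroup.card_mul_index _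
    rw [e2, hcount, ← e1]
    ring
  set Bs := (canon P).image blk
  rw [← Finset.sum_congr rfl hsize, ← Finset.sum_fiberwise_of_maps_to (t := Bs) (g := blk)
    (fun θ hθ => Finset.mem_image_of_mem _ hθ),
    Finset.sum_congr rfl (g := fun B : Set (IrrCharacter G) =>
      m * (Finset.univ.filter (· ∈ B)).card) fun B hB => ?_, ← Finset.mul_sum]
  · congr 1
    rw [← Finset.card_biUnion fun B hB B' hB' hne => Finset.disjoint_left.2 fun χ h1 h2 => by
      obtain ⟨θ, -, rfl⟩ := Finset.mem_image.1 hB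
      obtain ⟨θ', -, rfl⟩ := Finset.mem_image.1 hB'
      simp only [Finset.mem_filter, Finset.mem_univ, true_and] at h1 h2
      exact hne ((pblock_eq_blockOf hM (hblk θ).2.1 h1).trans
        (pblock_eq_blockOf hM (hblk θ').2.1 h2).symm), ← Nat.card_eq_finsetCard]
    refine Nat.card_congr (Equiv.subtypeEquivRight fun χ => ?_)
    simp only [Finset.mem_biUnion, Finset.mem_filter, Finset.mem_univ, true_and, Bs,
      Finset.mem_image, exists_exists_and_eq_and]
    rw [hdeg]
    constructor
    · intro hd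
      have hB := isPBlock_blockOf (M := M) χ
      obtain ⟨P₀, b₀, θ₀, T₀, v₀, hP₀, hsyl₀, -, -, hof, -⟩ := exists_setup hM hB hd hfac
      obtain ⟨g, hg⟩ : ∃ g : G, P₀.map (MulAut.conj g).toMonoidHom = P := by
        let S : Sylow p G := Sylow.ofCard P (by rw [hPp, hfac, pow_one])
        let S₀ : Sylow p G := Sylow.ofCard P₀ (by rw [hP₀, hfac, pow_one])
        obtain ⟨g, hg⟩ := MulAction.exists_smul_eq G S₀ S
        exact ⟨g, congrArg (fun Q : Sylow p G => (Q : Subgroup G)) hg⟩
      have hx := ofB_cjI hM hof g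
      obtain ⟨f, hf⟩ : ∃ f, OfB p M (blockOf M (χ : G → ℂ)) (⟨P, f⟩ : BrauerPairIdx G) := by
        generalize hy : cjI g (⟨P₀, b₀⟩ : BrauerPairIdx G) = y at hx
        obtain ⟨Q, f⟩ := y
        obtain rfl : Q = P := by
          rw [← hg]
          exact (congrArg Sigma.fst hy).symm
        exact ⟨f, hx⟩
      obtain ⟨θ, hθf, hθc⟩ := exists_canon hM hPp hsyl hf.1.2
      refine ⟨θ, hθc, ?_⟩
      have e : blk θ = blockOf M (χ : G → ℂ) := ofB_unique hM (hblk θ)
        (by rw [← pblock_eq_blockOf hM hf.1.2 hθf]; exact hf)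
      rw [e]
      exact mem_blockOf_self hM χ
    · rintro ⟨θ, -, hχ⟩
      rw [← pblock_eq_blockOf hM (hblk θ).2.1 hχ]
      exact hpos θ
  · obtain ⟨θ₀, hθ₀, rfl⟩ := Finset.mem_image.1 hB
    rw [Finset.sum_congr rfl (g := fun θ => inert θ₀ * (Finset.univ.filter (· ∈ blk θ₀)).card)
      fun θ hθ => ?_, Finset.sum_const, smul_eq_mul, ← mul_assoc, horbit θ₀ hθ₀]
    obtain ⟨hθc, hθb⟩ := Finset.mem_filter.1 hθ
    have h1 := horbit θ hθc
    have h2 := horbit θ₀ hθ₀
    rw [hθb] at h1 ⊢
    have hpos' : 0 < ((canon P).filter fun θ' => blk θ' = blk θ₀).card :=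
      Finset.card_pos.2 ⟨θ₀, Finset.mem_filter.2 ⟨hθ₀, rfl⟩⟩
    rw [Nat.eq_of_mul_eq_mul_left hpos' (h1.trans h2.symm)]

/-- Transport to the normalizer. -/
theorem canon_transport [Fintype (Subgroup.normalizer (P : Set G))] :
    ∑ θ ∈ canon (P.subgroupOf (Subgroup.normalizer (P : Set G))), (inert θ ^ 2 + (p - 1)) =
      ∑ θ ∈ canon P, (inert θ ^ 2 + (p - 1)) := by
  classical
  have hPN : P ≤ (Subgroup.normalizer (P : Set G)) := Subgroup.le_normalizer
  set Q := P.subgroupOf (Subgroup.normalizer (P : Set G)) with hQ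
  have hmem : ∀ k : (Subgroup.normalizer (P : Set G)), k ∈ CG Q ↔ (k : G) ∈ CG P := by
    intro k
    constructor
    · intro h
      exact Subgroup.mem_centralizer_iff.2 fun v hv =>
        congrArg Subtype.val (Subgroup.mem_centralizer_iff.1 h ⟨v, hPN hv⟩ hv)
    · intro h
      exact Subgroup.mem_centralizer_iff.2 fun v hv =>
        Subtype.ext (Subgroup.mem_centralizer_iff.1 h (v : G) hv)
  let e : CG Q ≃* CG P :=
    { toFun := fun k => ⟨((k : (Subgroup.normalizer (P : Set G))) : G), (hmem k).1 k.2⟩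
      invFun := fun k => ⟨⟨k, Subgroup.centralizer_le_normalizer _ k.2⟩, (hmem _).2 k.2⟩
      left_inv := fun k => rfl
      right_inv := fun k => rfl
      map_mul' := fun a b => rfl }
  have hTex : ∀ θ : IrrCharacter (CG P), ∃ T : Subgroup G, ∀ g : G, g ∈ T ↔
      (g ∈ (Subgroup.normalizer (P : Set G)) ∧ ∀ c c' : CG P, (c' : G) = g * c * g⁻¹ →
        (θ : CG P → ℂ) c' = (θ : CG P → ℂ) c) := by
    intro θ
    let conjN' : ∀ (n : (Subgroup.normalizer (P : Set G))) (c : CG P), CG P := fun n c => centEquiv (Q := P) n.2 c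
    refine ⟨{ carrier := {g | g ∈ (Subgroup.normalizer (P : Set G)) ∧ ∀ c c' : CG P, (c' : G) = g * c * g⁻¹ →
        (θ : CG P → ℂ) c' = (θ : CG P → ℂ) c},
              one_mem' := ⟨one_mem _, fun c c' h => by
                rw [show c' = c from Subtype.ext (by simpa using h)]⟩,
              mul_mem' := ?_, inv_mem' := ?_ }, fun g => Iff.rfl⟩
    · rintro a b ⟨ha, ha'⟩ ⟨hb, hb'⟩
      refine ⟨mul_mem ha hb, fun c c' h => ?_⟩
      rw [ha' (conjN' ⟨b, hb⟩ c) c' (by simp [conjN', centEquiv, h, mul_assoc]),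
        hb' c (conjN' ⟨b, hb⟩ c) rfl]
    · rintro a ⟨ha, ha'⟩
      refine ⟨inv_mem ha, fun c c' h => ?_⟩
      exact (ha' c' c (by rw [h]; simp [mul_assoc])).symm
  refine Finset.sum_bij' (fun θ _ => irrPull e.symm θ) (fun θ _ => irrPull e θ) ?_ ?_ ?_ ?_ ?_
  · intro θ hθ
    refine mem_canon.2 fun x hx => ?_
    show (θ : _ → ℂ) (e.symm x) = (θ : _ → ℂ) (e.symm 1)
    rw [e.symm.map_one]
    exact mem_canon.1 hθ _ hx
  · intro θ hθ
    refine mem_canon.2 fun x hx => ?_
    show (θ : _ → ℂ) (e x) = (θ : _ → ℂ) (e 1)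
    rw [map_one]
    exact mem_canon.1 hθ _ hx
  · exact fun θ _ => irrPull_symm_self e θ
  · exact fun θ _ => Subtype.ext (funext fun x => by simp)
  · intro θ hθ
    obtain ⟨T, hT⟩ := hTex (irrPull e.symm θ)
    have hTN : T ≤ (Subgroup.normalizer (P : Set G)) := fun g hg => ((hT g).1 hg).1
    rw [inert_eq _ hT, inert_eq θ (T := T.subgroupOf (Subgroup.normalizer (P : Set G))) ?_]
    · congr 2
      rw [show CG Q = (CG P).subgroupOf (Subgroup.normalizer (P : Set G)) from Subgroup.ext hmem,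
        Subgroup.relIndex_subgroupOf hTN]
    intro g
    rw [Subgroup.mem_subgroupOf, hT]
    have hnorm : g ∈ Subgroup.normalizer (Q : Set (Subgroup.normalizer (P : Set G))) := Subgroup.mem_normalizer_iff.2 fun v =>
      Subgroup.mem_normalizer_iff.1 g.2 (v : G)
    constructor
    · rintro ⟨-, h⟩
      refine ⟨hnorm, fun c c' hc => ?_⟩
      have := h (e c) (e c') (congrArg Subtype.val hc)
      simpa using this
    · rintro ⟨-, h⟩
      refine ⟨g.2, fun c c' hc => ?_⟩
      exact h (e.symm c) (e.symm c') (Subtype.ext hc)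

theorem mckay (hdiv : p ∣ Nat.card G) (hsq : ¬ p ^ 2 ∣ Nat.card G) (S : Sylow p G) :
    Nat.card {χ : IrrCharacter G // ¬ p ∣ charDegree (χ : G → ℂ)} =
      Nat.card (ConjClasses (Subgroup.normalizer ((S : Subgroup G) : Set G))) := by
  classical
  obtain ⟨M, hM⟩ := exists_isPModular p hp.out
  set P := (S : Subgroup G) with hP
  have hfac : (Nat.card G).factorization p = 1 := by
    have h1 := (hp.out.dvd_iff_one_le_factorization Nat.card_pos.ne').1 hdiv
    rw [hp.out.pow_dvd_iff_le_factorization Nat.card_pos.ne'] at hsq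
    omega
  have hPp : Nat.card P = p := by rw [hP, Sylow.card_eq_multiplicity, hfac, pow_one]
  have hsyl : ¬ p ∣ P.index := S.not_dvd_index
  set N := Subgroup.normalizer (P : Set G) with hN
  letI : Fintype N := Fintype.ofFinite _
  set Q := P.subgroupOf N with hQ
  have hPN : P ≤ N := Subgroup.le_normalizer
  have hQp : Nat.card Q = p := by
    rw [hQ, Nat.card_congr (Subgroup.subgroupOfEquivOfLe hPN).toEquiv, hPp]
  have hQsyl : ¬ p ∣ Q.index := fun h => hsyl (h.trans (Subgroup.relIndex_dvd_index_of_le hPN))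
  haveI : Q.Normal := Subgroup.normal_subgroupOf_of_le_normalizer le_rfl
  have hQnorm : Subgroup.normalizer (Q : Set N) = ⊤ := Subgroup.normalizer_eq_top_iff.2 inferInstance
  have h1 := count_eq (P := P) hM hPp hsyl
  have h2 := count_eq (P := Q) hM hQp hQsyl
  rw [canon_transport] at h2
  have hab : ∀ a ∈ Q, ∀ b ∈ Q, a * b = b * a := by
    haveI : Fact (Nat.card Q).Prime := ⟨hQp.symm ▸ hp.out⟩
    haveI := isCyclic_of_prime_card (α := Q) rfl
    letI : CommGroup Q := IsCyclic.commGroup
    exact fun a ha b hb => congrArg Subtype.val (mul_comm (⟨a, ha⟩ : Q) ⟨b, hb⟩)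
  have hall : Nat.card {χ : IrrCharacter N // ¬ p ∣ charDegree (χ : N → ℂ)} =
      Nat.card (ConjClasses N) := by
    rw [← card_irrCharacter]
    exact Nat.card_congr (Equiv.subtypeUnivEquiv fun χ => PIto.not_dvd_of_abelian Q hab hQsyl χ)
  have hrel : (CG Q).relIndex (Subgroup.normalizer (Q : Set N)) = (CG P).relIndex N := by
    rw [hQnorm, Subgroup.relIndex_top_right]
    rw [show CG Q = (CG P).subgroupOf N from Subgroup.ext fun k => ⟨fun h =>
      Subgroup.mem_centralizer_iff.2 fun v hv =>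
        congrArg Subtype.val (Subgroup.mem_centralizer_iff.1 h ⟨v, hPN hv⟩ hv), fun h =>
      Subgroup.mem_centralizer_iff.2 fun v hv =>
        Subtype.ext (Subgroup.mem_centralizer_iff.1 h (v : G) hv)⟩]
    rfl
  rw [hrel, hall, ← h1] at h2
  exact (Nat.eq_of_mul_eq_mul_left (Nat.pos_of_ne_zero Subgroup.index_ne_zero_of_finite) h2).symm

end Cfsg.Agent.Char.DefectOne
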