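import Cfsg.Agent.Lib.Char.RankOneBasic
import Cfsg.Agent.Lib.Char.SectionRank
import Cfsg.Agent.Lib.Char.NilpotentMain
import Cfsg.Agent.Lib.Char.PairInertial

/-!
Blocks with a defect group of order two.
-/

namespace Cfsg.Agent.Char.Spec

open scoped ComplexConjugate
open Cfsg.Agent.Block Cfsg.Agent.Char.BP

set_option linter.unusedSectionVars false
set_option linter.style.haveILetI false

universe u

variable {G : Type u} [Group G] [Fintype G] {M : Ideal AlgInt}
variable {B : Set (IrrCharacter G)}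

/-- A block with defect group of order two: two characters, equal on the regular elements. -/
theorem two_structure (hM : IsPModular 2 M) (hB : IsPBlock M B) {D : Subgroup G}
    (hD : IsDefectGroup 2 M B D) (h2 : Nat.card D = 2) :
    ∃ χ₁ ∈ B, ∃ χ₂ ∈ B, χ₁ ≠ χ₂ ∧ (∀ χ ∈ B, χ = χ₁ ∨ χ = χ₂) ∧ Nat.card B = 2 ∧
      blockRank 2 B = 1 ∧
      ∀ χ ∈ B, ∀ ψ ∈ B, ∀ g : G, ¬ 2 ∣ orderOf g → (χ : G → ℂ) g = (ψ : G → ℂ) g := by
  classical
  haveI := Fact.mk Nat.prime_two
  obtain ⟨χ, hχ, h0⟩ := exists_height_zero hM hB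
  obtain ⟨i, e, -, hmx, -, -⟩ := exists_source hM hB hχ h0 hD
  have hab : ∀ a ∈ D, ∀ b ∈ D, a * b = b * a := by
    haveI := isCyclic_of_prime_card (p := 2) h2
    exact fun a ha b hb => congrArg Subtype.val
      ((IsCyclic.commutative (α := D)).is_comm.comm ⟨a, ha⟩ ⟨b, hb⟩)
  have hnil := (nilpotent_iff_inertial hM hmx hab).2 (by
    intro y hy
    rw [Subgroup.mem_centralizer_iff]
    intro d hd
    by_cases hd1 : d = 1
    · simp [hd1]
    have hyd : y * d * y⁻¹ ∈ D :=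
      (Subgroup.mem_normalizer_iff.1 (stab_le_normalizer _ hy) d).1 hd
    have := ((Nat.card_eq_two_iff' (1 : D)).1 h2).unique (y₁ := ⟨y * d * y⁻¹, hyd⟩) (y₂ := ⟨d, hd⟩)
      (fun he => hd1 (by simpa using congrArg Subtype.val he))
      (fun he => hd1 (congrArg Subtype.val he))
    have he : y * d * y⁻¹ = d := congrArg Subtype.val this
    conv_lhs => rw [← he]
    group)
  obtain ⟨Φ, -⟩ := exists_height_equiv hM hnil hD
  have hk : Nat.card B = 2 := by
    rw [Nat.card_congr Φ, Cfsg.Agent.Char.card_irrCharacter, ← h2]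
    letI : CommGroup D :=
      { (inferInstance : Group D) with mul_comm := fun a b => Subtype.ext (hab a a.2 b b.2) }
    exact Nat.card_congr (ConjClasses.mkEquiv (α := D)).symm
  obtain ⟨hl, -⟩ := rank_of_nilpotent hM hnil
  obtain ⟨φ, d, -, hval, hsum⟩ := Contrib.exists_rank_one hM hB hl
  set A := Finset.univ.filter (· ∈ B) with hA
  have hAc : A.card = 2 := by rw [← hk, Nat.card_eq_fintype_card, Fintype.card_subtype]
  obtain ⟨χ₁, χ₂, hne, hAeq⟩ := Finset.card_eq_two.1 hAc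
  have hmem : ∀ η, η ∈ B ↔ η = χ₁ ∨ η = χ₂ := fun η => by
    have : η ∈ A ↔ η ∈ B := by simp [hA]
    rw [← this, hAeq]; simp
  have hd1 : ∀ η ∈ B, d η = 1 := by
    intro η hη
    have hpos : ∀ η ∈ B, 0 < d η := fun η hη => Nat.pos_of_ne_zero fun h => by
      have h1 := hval η hη 1 (by simp)
      rw [h, Nat.cast_zero, zero_mul] at h1
      exact irr_one_ne_zero η h1
    rw [← card_defectGroup hM hB hD, h2,
      finsum_mem_eq_sum_of_inter_support_eq _ (t := A) (by ext; simp [hA]), hAeq,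
      Finset.sum_pair hne] at hsum
    have a1 := hpos χ₁ ((hmem _).2 (Or.inl rfl))
    have a2 := hpos χ₂ ((hmem _).2 (Or.inr rfl))
    rcases (hmem η).1 hη with rfl | rfl <;> nlinarith [hsum, a1, a2]
  exact ⟨χ₁, (hmem _).2 (Or.inl rfl), χ₂, (hmem _).2 (Or.inr rfl), hne,
    fun η hη => (hmem η).1 hη, hk, hl, fun η hη ψ hψ g hg => by
      rw [hval η hη g hg, hval ψ hψ g hg, hd1 η hη, hd1 ψ hψ]⟩

/-- The section at the involution. -/
theorem two_section (hM : IsPModular 2 M) (hB : IsPBlock M B) {x : G} (hx : orderOf x = 2)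
    (hBD : IsDefectGroup 2 M B (Subgroup.zpowers x)) {H : Subgroup G}
    (hH : H = CG (Subgroup.zpowers x)) {b : Set (IrrCharacter H)} (hb : IsInducedBlock M H b B)
    {θ : IrrCharacter H} (hθ : θ ∈ b) :
    Nat.card B = 2 ∧ (∀ χ ∈ B, ∀ ψ ∈ B, ∀ g : G, ¬ 2 ∣ orderOf g → (χ : G → ℂ) g = (ψ : G → ℂ) g) ∧
      ∃ χ₁ ∈ B, ∃ χ₂ ∈ B, χ₁ ≠ χ₂ ∧ ∃ ε₁ ε₂ : ℤ, (ε₁ = 1 ∨ ε₁ = -1) ∧ (ε₂ = 1 ∨ ε₂ = -1) ∧
        ε₁ * ε₂ = -1 ∧ ∀ y : H, ¬ 2 ∣ orderOf y →
          (χ₁ : G → ℂ) (x * y) = (ε₁ : ℂ) * (θ : H → ℂ) y ∧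
            (χ₂ : G → ℂ) (x * y) = (ε₂ : ℂ) * (θ : H → ℂ) y := by
  classical
  subst hH
  haveI := Fact.mk Nat.prime_two
  have hD2 : Nat.card (Subgroup.zpowers x) = 2 := by rw [Nat.card_zpowers, hx]
  have hxp : ∃ k, orderOf x = 2 ^ k := ⟨1, by rw [hx, pow_one]⟩
  obtain ⟨χ₁, h1, χ₂, h2, hne, hmem, hk, hl, hagree⟩ := two_structure hM hB hBD hD2
  refine ⟨hk, hagree, χ₁, h1, χ₂, h2, hne, ?_⟩
  set a : BrauerPairIdx G := ⟨Subgroup.zpowers x, b⟩ with ha
  have haB : OfB 2 M B a := (ofB_iff_induced hM hB hxp b).2 hb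
  have hamx : IsMx 2 M B a := max_of_defect hM haB hBD
  have hab : ∀ u ∈ Subgroup.zpowers x, ∀ v ∈ Subgroup.zpowers x, u * v = v * u := by
    rintro _ ⟨i, rfl⟩ _ ⟨j, rfl⟩
    exact (Commute.refl x).zpow_zpow i j
  have hxa : x ∈ a.1 := Subgroup.mem_zpowers x
  have hPH : Subgroup.zpowers x ≤ CG (Subgroup.zpowers x) := fun v hv =>
    Subgroup.mem_centralizer_iff.2 fun w hw => hab w hw v hv
  letI := Fintype.ofFinite (CG a.1)
  obtain ⟨hbD, -⟩ := isMx_down hM (e := b) hamx hab (a := a) (step_refl hM haB.1) hPH le_rfl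
  have hDb : Nat.card ((Subgroup.zpowers x).subgroupOf (CG a.1)) = 2 := by
    rw [← hD2]
    exact Nat.card_congr (Subgroup.subgroupOfEquivOfLe hPH).toEquiv
  obtain ⟨θ₁, hθ₁, θ₂, hθ₂, hθne, hθmem, hbk, hbl, hbagree⟩ := two_structure hM haB.1.2 hbD hDb
  -- the blocks at the involution
  have huniq : ∀ b', OfB 2 M B (⟨Subgroup.zpowers x, b'⟩ : BrauerPairIdx G) → b' = b := by
    intro b' hb'
    obtain ⟨n, hn, hna⟩ := max_conj_normalizer hM hamx (max_of_defect hM hb' hBD) rfl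
    have hfix : cjI n a = a := by
      refine cjI_eq_of_stab (cg_le_stab a ?_)
      refine Subgroup.mem_centralizer_iff.2 fun w hw => ?_
      have hnx : n * x * n⁻¹ ∈ Subgroup.zpowers x := (Subgroup.mem_normalizer_iff.1 hn x).1 hxa
      have hex : n * x * n⁻¹ = x := by
        obtain ⟨i, hi⟩ := hnx
        simp only at hi
        rcases Int.emod_two_eq_zero_or_one i with h | h
        · rw [← zpow_mod_orderOf, hx, Nat.cast_two, h, zpow_zero] at hi
          have : x = 1 := by simpa using hi.symm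
          simp [this] at hx
        · rw [← zpow_mod_orderOf, hx, Nat.cast_two, h, zpow_one] at hi
          exact hi.symm
      obtain ⟨i, rfl⟩ := hw
      have hc : Commute x n := by
        show x * n = n * x
        conv_lhs => rw [← hex]
        group
      exact (hc.zpow_left i).eq
    rw [hfix] at hna
    exact eq_of_heq (Sigma.mk.inj_iff.1 hna).2
  set A := Finset.univ.filter (· ∈ b) with hA
  let coef : IrrCharacter G → ℂ := fun χ =>
    ∑ η ∈ A, classInner (fun c : CG a.1 => (χ : G → ℂ) (x * c)) (η : CG a.1 → ℂ)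
  have hsct : ∀ χ : IrrCharacter G, ∀ v : CG a.1, ¬ 2 ∣ orderOf v →
      sct (χ : G → ℂ) a x (v : G) = coef χ * (θ : CG a.1 → ℂ) v := by
    intro χ v hv
    rw [← blockPart_eq_sct χ (a := a) hxa v, blockPart, finsum_mem_eq_sum_of_inter_support_eq _
      (t := A) (by ext; simp [hA]; exact fun _ _ => Iff.rfl), Finset.sum_mul]
    exact Finset.sum_congr rfl fun η hη => by
      rw [hbagree η (Finset.mem_filter.1 hη).2 θ hθ v hv]
  have hvalue : ∀ χ ∈ B, ∀ v : CG a.1, ¬ 2 ∣ orderOf v →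
      (χ : G → ℂ) (x * v) = coef χ * (θ : CG a.1 → ℂ) v := by
    intro χ hχ v hv
    have hvr : ¬ 2 ∣ orderOf (v : G) := by rwa [Subgroup.orderOf_coe]
    rw [← hsct χ v hv, value_eq_sum_blks hM (Subgroup.zpowers x) (χ : G → ℂ) x v,
      Finset.sum_eq_single b]
    · intro b' hb' hbne
      exact sct_eq_zero (a := (⟨Subgroup.zpowers x, b'⟩ : BrauerPairIdx G)) (x := x) hM hχ hB
        ⟨isPGroup_zpowers hxp, mem_blks.1 hb'⟩ hxp rfl (fun h => hbne (huniq b' h)) v.2 hvr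
    · exact fun h => absurd (mem_blks.2 haB.1.2) h
  -- the coefficients are integers
  have hz : (⟨x, hPH hxa⟩ : CG a.1) ∈ Subgroup.center (CG a.1) := Subgroup.mem_center_iff.2 fun c =>
    Subtype.ext (Subgroup.mem_centralizer_iff.1 c.2 x hxa).symm
  have hint : ∀ χ : IrrCharacter G, ∃ n : ℤ, coef χ = n := by
    intro χ
    choose w hw using fun η : IrrCharacter (CG a.1) =>
      IsChar.classInner_nat (IsChar.res (irr_isChar χ) (CG a.1)) (irr_isChar η)
    have hsc : ∀ η : IrrCharacter (CG a.1), ∃ n : ℤ,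
        classInner (fun c : CG a.1 => (χ : G → ℂ) (x * c)) (η : CG a.1 → ℂ) = n := by
      intro η
      set z : CG a.1 := ⟨x, hPH hxa⟩ with hzdef
      obtain ⟨s, hs, hmul⟩ : ∃ s : ℤ, (s = 1 ∨ s = -1) ∧
          ∀ c, (η : CG a.1 → ℂ) (z * c) = (s : ℂ) * (η : CG a.1 → ℂ) c := by
        obtain ⟨s, -, hs⟩ := IsIrr.scalar_of_center η.2 hz
        have hzz : z * z = 1 := Subtype.ext (by
          show x * x = 1
          have := pow_orderOf_eq_one x
          rwa [hx, pow_two] at this)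
        have h11 : s * s = 1 := by
          have e1 := hs (z * 1)
          rw [← mul_assoc, hzz, one_mul, hs 1, ← mul_assoc] at e1
          exact (mul_right_cancel₀ (irr_one_ne_zero η) ((one_mul _).trans e1)).symm
        rcases mul_self_eq_one_iff.1 h11 with rfl | rfl
        · exact ⟨1, Or.inl rfl, fun c => by rw [hs]; simp⟩
        · exact ⟨-1, Or.inr rfl, fun c => by rw [hs]; simp⟩
      refine ⟨s * (w η : ℤ), ?_⟩
      push_cast
      rw [← hw η, classInner, classInner]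
      rw [← mul_assoc, mul_comm (s : ℂ), mul_assoc]
      congr 1
      rw [Finset.mul_sum]
      refine Fintype.sum_equiv (Equiv.mulLeft z) _ _ fun c => ?_
      simp only [Equiv.coe_mulLeft, Subgroup.coe_mul, hzdef]
      rw [← hzdef, hmul, map_mul, map_intCast]
      rcases hs with rfl | rfl <;> push_cast <;> ring
    choose n hn using hsc
    exact ⟨∑ η ∈ A, n η, by
      simp only [coef]
      push_cast
      exact Finset.sum_congr rfl fun η _ => hn η⟩
  choose n hn using hint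
  -- the norms
  haveI : DecidablePred (· ∈ B) := Classical.decPred _
  have hAB : Finset.univ.filter (· ∈ B) = {χ₁, χ₂} := by
    ext η
    simp only [Finset.mem_filter, Finset.mem_univ, true_and, Finset.mem_insert, Finset.mem_singleton]
    exact ⟨hmem η, by rintro (rfl | rfl) <;> assumption⟩
  have hsq := sum_sct_sq hM hxp (a := a) rfl haB
  set R := regSum 2 (θ : CG a.1 → ℂ) (θ : CG a.1 → ℂ) with hR
  have hsec : ∀ χ : IrrCharacter G, secT 2 (χ : G → ℂ) (χ : G → ℂ) a x =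
      ((n χ : ℂ) * n χ) * R := fun χ => by
    rw [secT, sum_regs_eq_regSum a.1 (fun c : CG a.1 => coef χ * (θ : CG a.1 → ℂ) c)
      (fun c : CG a.1 => coef χ * (θ : CG a.1 → ℂ) c) _ _ (hsct χ) (hsct χ), hR, regSum_eq_sum,
      regSum_eq_sum, Finset.mul_sum]
    refine Finset.sum_congr rfl fun c _ => ?_
    rw [hn χ, map_mul, map_intCast]
    ring
  rw [hAB, Finset.sum_pair hne, hsec, hsec, show blockRank 2 a.2 = 1 from hbl, Nat.cast_one,
    mul_one] at hsq
  have hreg := sum_regSum_self (p := 2) hM (b := b) haB.1.2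
  rw [show Finset.univ.filter (· ∈ b) = {θ₁, θ₂} by
      ext η
      simp only [Finset.mem_filter, Finset.mem_univ, true_and, Finset.mem_insert, Finset.mem_singleton]
      exact ⟨hθmem η, by rintro (rfl | rfl) <;> assumption⟩, Finset.sum_pair hθne,
    show blockRank 2 b = 1 from hbl, Nat.cast_one, mul_one] at hreg
  have hR' : ∀ η ∈ b, regSum 2 (η : CG a.1 → ℂ) (η : CG a.1 → ℂ) = R := fun η hη => by
    rw [hR, regSum_eq_sum, regSum_eq_sum]
    exact Finset.sum_congr rfl fun c hc => by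
      rw [hbagree η hη θ hθ c (Finset.mem_filter.1 hc).2]
  rw [hR' θ₁ hθ₁, hR' θ₂ hθ₂] at hreg
  have hsum : n χ₁ * n χ₁ + n χ₂ * n χ₂ = 2 := by
    have hC : (Nat.card (CG a.1) : ℂ) ≠ 0 := Nat.cast_ne_zero.2 Nat.card_pos.ne'
    have hR0 : R ≠ 0 := fun h => hC (by rw [← hreg, h, add_zero])
    have : (((n χ₁ * n χ₁ + n χ₂ * n χ₂ : ℤ) : ℂ)) * R = ((2 : ℤ) : ℂ) * R := by
      push_cast
      linear_combination hsq - hreg
    exact_mod_cast mul_right_cancel₀ hR0 this
  -- orthogonality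
  have horth : n χ₁ + n χ₂ = 0 := by
    have hw := weak_orth hM hB (x := 1) (y := x) (by simp) (by rw [hx])
    rw [finsum_mem_eq_sum_of_inter_support_eq _ (t := Finset.univ.filter (· ∈ B)) (by ext; simp),
      hAB, Finset.sum_pair hne] at hw
    have hx1 : ∀ χ ∈ B, (χ : G → ℂ) x = (n χ : ℂ) * (θ : CG a.1 → ℂ) 1 := fun χ hχ => by
      have := hvalue χ hχ 1 (by simp)
      rwa [OneMemClass.coe_one, mul_one, hn χ] at this
    obtain ⟨m, hm0, hm⟩ := IsIrr.one_eq_pos θ.2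
    rw [hx1 χ₁ h1, hx1 χ₂ h2, hm, hagree χ₂ h2 χ₁ h1 1 (by simp), map_mul, map_mul, map_intCast,
      map_intCast, map_natCast] at hw
    have h3 : (((n χ₁ + n χ₂ : ℤ)) : ℂ) * ((χ₁ : G → ℂ) 1 * (m : ℂ)) = 0 := by
      push_cast
      linear_combination hw
    have h4 := (mul_eq_zero.1 h3).resolve_right
      (mul_ne_zero (irr_one_ne_zero χ₁) (Nat.cast_ne_zero.2 hm0.ne'))
    exact_mod_cast h4
  have he : n χ₂ = -n χ₁ := by linarith
  have h11 : n χ₁ * n χ₁ = 1 := by rw [he] at hsum; linarith [hsum]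
  have hpm : n χ₁ = 1 ∨ n χ₁ = -1 := Int.eq_one_or_neg_one_of_mul_eq_one h11
  refine ⟨n χ₁, n χ₂, hpm, by rw [he]; omega, by rw [he, mul_neg, h11], fun y hy => ?_⟩
  rw [hvalue χ₁ h1 y hy, hvalue χ₂ h2 y hy, hn, hn]
  exact ⟨rfl, rfl⟩

end Cfsg.Agent.Char.Spec
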