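import Cfsg.Agent.Lib.Char.FongLocal
import Cfsg.Agent.Lib.Block.Principal

/-!
Deficiency class: non-principal blocks of large defect pass to and from centralisers of
`p`-elements.
-/

namespace Cfsg.Agent.Char.Defic

open Cfsg Cfsg.Agent.Block Cfsg.Agent.Char.BP

set_option linter.unusedSectionVars false

universe u

variable {G : Type u} [Group G] [Finite G] {p : ℕ} {M : Ideal AlgInt}

/-- No non-principal block of defect at least `r`. -/
def HasClass (p : ℕ) (M : Ideal AlgInt) (r : ℕ) (X : Type u) [Group X] : Prop :=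
  ∀ B : Set (IrrCharacter X), IsPBlock M B → B ≠ principalBlock M X → blockDefect p B < r

theorem centralizer_zpowers (y : G) :
    Subgroup.centralizer ((Subgroup.zpowers y : Subgroup G) : Set G) =
      Subgroup.centralizer ({y} : Set G) := by
  rw [Subgroup.zpowers_eq_closure, Subgroup.centralizer_closure]

theorem hasClass_congr {r : ℕ} {H H' : Subgroup G} (e : H = H') (h : HasClass p M r H') :
    HasClass p M r H := by
  subst e; exact h

theorem isPGroup_zpowers {y : G} {k : ℕ} (hk : orderOf y = p ^ k) :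
    IsPGroup p (Subgroup.zpowers y) := by
  rintro ⟨z, n, rfl⟩
  refine ⟨k, Subtype.ext ?_⟩
  show (y ^ n) ^ p ^ k = 1
  rw [← zpow_natCast, ← zpow_mul, mul_comm, zpow_mul, zpow_natCast, ← hk, pow_orderOf_eq_one,
    one_zpow]

/-- The defect of a block inducing another is at most that of the induced block. -/
theorem defect_le_induced [Fact p.Prime] (hM : IsPModular p M) {H : Subgroup G}
    {b : Set (IrrCharacter H)} {B : Set (IrrCharacter G)} (hind : IsInducedBlock M H b B) :
    blockDefect p b ≤ blockDefect p B := by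
  cases nonempty_fintype G
  obtain ⟨D, hD⟩ := exists_isDefectGroup hM hind.1
  obtain ⟨E, hE, hle⟩ := exists_defectGroup_ge_map hM hind hD
  have h1 := Subgroup.card_le_of_le hle
  rw [Subgroup.card_map_of_injective H.subtype_injective, card_defectGroup hM hind.1 hD,
    card_defectGroup hM hind.2.1 hE] at h1
  exact (Nat.pow_le_pow_iff_right (Fact.out : p.Prime).one_lt).1 h1

theorem centralizer_class [Fact p.Prime] (hM : IsPModular p M) {r : ℕ} (h : HasClass p M r G)
    {y : G} {k : ℕ} (hk : orderOf y = p ^ k) :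
    HasClass p M r (Subgroup.centralizer ({y} : Set G)) := by
  intro b hb hne
  cases nonempty_fintype G
  set P := Subgroup.zpowers y
  have hC := centralizer_zpowers y
  have hPH : P ≤ Subgroup.centralizer ({y} : Set G) := Subgroup.zpowers_le.2
    (Subgroup.mem_centralizer_singleton_iff.2 rfl)
  have hN : Subgroup.centralizer ({y} : Set G) ≤ Subgroup.normalizer (P : Set G) := by
    rw [← hC]; exact cg_le_normalizer P
  obtain ⟨B, hind⟩ := inducedBlockDefined_brauer hM (isPGroup_zpowers hk) hPH hC.le hN hb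
  have hB : B ≠ principalBlock M G := fun e =>
    hne ((principal_third_main hM ⟨B, hind⟩).1 (e ▸ hind))
  exact (defect_le_induced hM hind).trans_lt (h B hind.2.1 hB)

theorem of_centralizers [Fact p.Prime] (hM : IsPModular p M) {r : ℕ} (hr : 0 < r)
    (h : ∀ y : G, orderOf y = p → HasClass p M r (Subgroup.centralizer ({y} : Set G))) :
    HasClass p M r G := by
  intro B hB hne
  by_contra hlt
  push Not at hlt
  cases nonempty_fintype G
  obtain ⟨D, hD⟩ := exists_isDefectGroup hM hB
  have hDp := IsDefectGroup.isPGroup hD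
  have hcard := card_defectGroup hM hB hD
  haveI : Nontrivial D := by
    rw [← Finite.one_lt_card_iff_nontrivial, hcard]
    exact Nat.one_lt_pow (by omega) (Fact.out : p.Prime).one_lt
  haveI := hDp.center_nontrivial
  obtain ⟨z, hz⟩ := exists_prime_orderOf_dvd_card' (G := Subgroup.center D) p (by
    obtain ⟨m, hm⟩ := (hDp.to_subgroup (Subgroup.center D)).exists_card_eq
    rcases Nat.eq_zero_or_pos m with rfl | hm0
    · exact absurd (hm.trans (pow_zero p)) Finite.one_lt_card.ne'
    · rw [hm]; exact dvd_pow_self p hm0.ne')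
  set y : G := ((z : D) : G)
  have hy : orderOf y = p := by
    rw [← hz]
    exact (Subgroup.orderOf_coe (z : D)).trans (Subgroup.orderOf_coe z)
  obtain ⟨e, he⟩ := (exists_pair_iff hM hB hDp).2 (defectGroup_not_brZero hM hB hD)
  have hQ : Subgroup.zpowers y ≤ D := Subgroup.zpowers_le.2 (z : D).2
  have hDC : D ≤ CG (Subgroup.zpowers y) := by
    show D ≤ Subgroup.centralizer _
    rw [centralizer_zpowers]
    intro d hd
    rw [Subgroup.mem_centralizer_singleton_iff]
    exact congrArg Subtype.val (Subgroup.mem_center_iff.1 z.2 ⟨d, hd⟩)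
  obtain ⟨⟨Q, f⟩, hQe, hstep⟩ := step_exists hM (c := ⟨D, e⟩) he.1 hQ
    (hDC.trans (cg_le_normalizer _))
  obtain rfl : Q = Subgroup.zpowers y := hQe
  have ha : OfB p M B (⟨Subgroup.zpowers y, f⟩ : BrauerPairIdx G) := (ofB_step hM hstep).1 he
  have hind := Fong.induced_of_ofB hM ha
  obtain ⟨-, -, -, -, hinv, hH⟩ := (step_iff hM).1 hstep
  obtain ⟨c, hc, hcne⟩ := holds_coeff hM (x := ⟨D, e⟩) he.1
    ((be_inv_cg _).mono (Subgroup.centralizer_le hQ)) hH
  have hcC : c ∈ CG (Subgroup.zpowers y) := Subgroup.centralizer_le hQ hc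
  have hne' : ¬ BrZero M (D.subgroupOf (CG (Subgroup.zpowers y))) (blockInd f) := fun h0 => by
    refine hcne ?_
    have h1 := h0 ⟨c, hcC⟩ (Subgroup.mem_centralizer_iff.2 fun d hd =>
      Subtype.ext (Subgroup.mem_centralizer_iff.1 hc d hd))
    rw [← blockCoeff_eq] at h1
    rw [show be (⟨Subgroup.zpowers y, f⟩ : BrauerPairIdx G) c = blockCoeff f ⟨c, hcC⟩ from
      bc_coe (CG (Subgroup.zpowers y)) f ⟨c, hcC⟩]
    exact h1
  obtain ⟨E, hE, hDE⟩ := exists_defectGroup_ge hM ha.1.2
    (hDp.comap_of_injective _ (CG (Subgroup.zpowers y)).subtype_injective) hne'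
  have hd : blockDefect p B ≤ blockDefect p f := by
    have h1 := Subgroup.card_le_of_le hDE
    change Nat.card (D.subgroupOf (CG (Subgroup.zpowers y))) ≤ _ at h1
    rw [Nat.card_congr (Subgroup.subgroupOfEquivOfLe hDC).toEquiv, hcard,
      card_defectGroup hM ha.1.2 hE] at h1
    exact (Nat.pow_le_pow_iff_right (Fact.out : p.Prime).one_lt).1 h1
  have hfne : f ≠ principalBlock M (CG (Subgroup.zpowers y)) := fun e1 =>
    hne (induced_unique hM hind
      ((principal_third_main hM ⟨B, hind⟩).2 e1))
  exact absurd (hd.trans_lt (hasClass_congr (centralizer_zpowers y) (h y hy) f ha.1.2 hfne))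
    hlt.not_gt

end Cfsg.Agent.Char.Defic
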