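import Cfsg.Agent.Lib.Char.Constituent
import Cfsg.Agent.Lib.Char.Complete
import Cfsg.Agent.Lib.Char.Eigen

/-!
Primitive groups of degree two: the centre has index 12, 24 or 60 (count the fixed lines).
-/

namespace Cfsg.Agent.Char.DegTwo

open scoped ComplexConjugate
open Cfsg Module Representation

universe u

variable {G : Type u} [Group G] [Fintype G] (ρ : Representation ℂ G (Fin 2 → ℂ))

/-- The image of a submodule. -/
def act (g : G) (L : Submodule ℂ (Fin 2 → ℂ)) : Submodule ℂ (Fin 2 → ℂ) := L.map (ρ g)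

theorem act_one (L : Submodule ℂ (Fin 2 → ℂ)) : act ρ 1 L = L := by
  rw [act, map_one]; exact Submodule.map_id L

theorem act_mul (g h : G) (L : Submodule ℂ (Fin 2 → ℂ)) :
    act ρ (g * h) L = act ρ g (act ρ h L) := by
  rw [act, act, act, ← Submodule.map_comp, map_mul]; rfl

theorem act_span (g : G) (v : Fin 2 → ℂ) :
    act ρ g (Submodule.span ℂ {v}) = Submodule.span ℂ {ρ g v} := by
  rw [act, Submodule.map_span, Set.image_singleton]

/-- A line fixed by a subgroup gives a character of it inducing to `χ`, if the index is two. -/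
theorem index_ge (hρ : ρ.IsIrreducible)
    (hprim : ∀ H : Subgroup G, H ≠ ⊤ → ∀ θ : H → ℂ, IsCharacter H θ → ρ.character ≠ indFun H θ)
    (H : Subgroup G) {v : Fin 2 → ℂ} (hv : v ≠ 0)
    (hfix : ∀ g ∈ H, ∃ c : ℂ, ρ g v = c • v) : 3 ≤ H.index := by
  classical
  haveI := hρ
  choose c hc using hfix
  have hinj : Function.Injective fun a : ℂ => a • v := smul_left_injective ℂ hv
  have hc0 : ∀ (g : G) (hg : g ∈ H), c g hg ≠ 0 := fun g hg h0 => hv (by
    have h := hc g hg
    rw [h0, zero_smul] at h
    have e : ρ g⁻¹ (ρ g v) = v := by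
      rw [← Module.End.mul_apply, ← map_mul, inv_mul_cancel, map_one, Module.End.one_apply]
    rwa [h, map_zero, eq_comm] at e)
  let l : H →* ℂˣ :=
    { toFun := fun h => Units.mk0 (c h h.2) (hc0 h h.2)
      map_one' := Units.ext (hinj (by
        show c _ _ • v = ((1 : ℂˣ) : ℂ) • v
        rw [← hc]
        simp))
      map_mul' := fun a b => Units.ext (hinj (by
        show c _ _ • v = (c _ _ * c _ _) • v
        rw [← hc, Subgroup.coe_mul, map_mul, Module.End.mul_apply, hc _ b.2, map_smul, hc _ a.2,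
          smul_smul, mul_comm])) }
  set θ : H → ℂ := fun h => (l h : ℂ) with hθdef
  have hθ : IsCharacter H θ := IsIrr.isCharacter (isIrr_linear l)
  let dH : H →* ℂ :=
    { toFun := fun h => LinearMap.det (ρ (h : G))
      map_one' := by simp
      map_mul' := fun a b => by simp }
  let l' : H →* ℂˣ := dH.toHomUnits * l⁻¹
  have htr : ∀ h : H, ρ.character (h : G) = θ h + (l' h : ℂ) := by
    intro h
    set A := LinearMap.toMatrix' (ρ (h : G)) with hA
    have hAv : A.mulVec v = c h h.2 • v := by
      rw [hA, LinearMap.toMatrix'_mulVec, hc]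
    have e0 := congrFun hAv 0
    have e1 := congrFun hAv 1
    simp only [Matrix.mulVec, dotProduct, Fin.sum_univ_two, Pi.smul_apply, smul_eq_mul] at e0 e1
    have hchar : c h h.2 ^ 2 - (A 0 0 + A 1 1) * c h h.2 + (A 0 0 * A 1 1 - A 0 1 * A 1 0) = 0 := by
      by_cases h0 : v 0 = 0
      · have h1 : v 1 ≠ 0 := fun h1 => hv (funext fun i => by fin_cases i <;> simpa)
        refine mul_left_cancel₀ h1 ?_
        linear_combination (A 0 0 - c h h.2) * e1 - A 1 0 * e0
      · refine mul_left_cancel₀ h0 ?_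
        linear_combination (A 1 1 - c h h.2) * e0 - A 0 1 * e1
    have ht : ρ.character (h : G) = A 0 0 + A 1 1 := by
      rw [Representation.character, LinearMap.trace_eq_matrix_trace ℂ (Pi.basisFun ℂ (Fin 2)) (ρ (h : G)),
        LinearMap.toMatrix_eq_toMatrix', Matrix.trace_fin_two]
    have hd : LinearMap.det (ρ (h : G)) = A 0 0 * A 1 1 - A 0 1 * A 1 0 := by
      rw [← LinearMap.det_toMatrix', Matrix.det_fin_two]
    have hne := hc0 h h.2
    show _ = c h h.2 + ((dH.toHomUnits h * (l h)⁻¹ : ℂˣ) : ℂ)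
    rw [Units.val_mul, Units.val_inv_eq_inv_val, MonoidHom.coe_toHomUnits]
    show _ = c h h.2 + LinearMap.det (ρ (h : G)) * (c h h.2)⁻¹
    rw [ht, hd]
    field_simp
    linear_combination -hchar
  have hχ : IsIrrCharacter G ρ.character := ⟨2, ρ, hρ, rfl⟩
  have hIc : IsCharacter G (indFun H θ) := isCharacter_indFun H hθ
  have hI1 : indFun H θ 1 = (H.index : ℂ) := by
    rw [indFun_one_eq]; simp [hθdef]
  have hin : classInner θ (fun h : H => ρ.character h) ≠ 0 := by
    have e : (fun h : H => ρ.character h) = θ + fun h => (l' h : ℂ) := funext htr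
    rw [e, classInner_add_right, classInner_self_irr (isIrr_linear l),
      classInner_irr_eq_ite (isIrr_linear l) (isIrr_linear l')]
    split_ifs <;> norm_num
  rw [← classInner_indFun H θ (IsChar.classFun (IsIrr.isCharacter hχ))] at hin
  have h2 : ρ.character 1 = ((2 : ℕ) : ℂ) := by
    rw [Representation.char_one, Module.finrank_fintype_fun_eq_card]
    simp
  have hle : 2 ≤ H.index := degree_le_of_constituent hIc hχ hin hI1 h2
  by_contra hlt
  have hidx : H.index = 2 := by omega
  refine hprim H (fun h => by rw [h, Subgroup.index_top] at hidx; omega) θ hθ ?_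
  -- equal degrees force equality
  obtain ⟨a, ha, hdec⟩ := IsChar.exists_decomp_inner hIc
  have hpos : a ⟨_, hχ⟩ ≠ 0 := fun h0 => hin (by rw [ha ⟨_, hχ⟩, h0, Nat.cast_zero])
  have hD : IsCharacter G (indFun H θ - ρ.character) := by
    refine isCharacter_of_classInner_nat (fun g x => by
      rw [Pi.sub_apply, Pi.sub_apply, IsChar.classFun hIc g x,
        IsChar.classFun (IsIrr.isCharacter hχ) g x]) fun ψ hψ => ?_
    rw [classInner_sub_left, ha ⟨ψ, hψ⟩, classInner_irr_eq_ite hχ hψ]
    split_ifs with h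
    · subst h
      exact ⟨a ⟨_, hψ⟩ - 1, by rw [Nat.cast_sub (Nat.one_le_iff_ne_zero.2 hpos), Nat.cast_one]⟩
    · exact ⟨a ⟨ψ, hψ⟩, sub_zero _⟩
  have h0 := IsChar.eq_zero_of_one_eq_zero hD (by rw [Pi.sub_apply, hI1, h2, hidx, sub_self])
  exact (sub_eq_zero.1 h0).symm

/-- The lines of two eigenvectors with different eigenvalues are the only fixed ones. -/
theorem fixed_line_cases (g : G) (b : Basis (Fin 2) ℂ (Fin 2 → ℂ)) (c : Fin 2 → ℂ)
    (hb : ∀ i, ρ g (b i) = c i • b i) (hc : c 0 ≠ c 1) {v : Fin 2 → ℂ} (hv : v ≠ 0)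
    (hfix : act ρ g (Submodule.span ℂ {v}) = Submodule.span ℂ {v}) :
    ∃ i, Submodule.span ℂ {v} = Submodule.span ℂ {b i} := by
  have hmem : ρ g v ∈ Submodule.span ℂ {v} := by
    have h := Submodule.mem_span_singleton_self (R := ℂ) (ρ g v)
    rwa [← act_span, hfix] at h
  obtain ⟨e, he⟩ := Submodule.mem_span_singleton.1 hmem
  set x := b.repr v 0
  set y := b.repr v 1
  have hvxy : x • b 0 + y • b 1 = v := by
    have := b.sum_repr v
    rwa [Fin.sum_univ_two] at this
  have hgv : ρ g v = (x * c 0) • b 0 + (y * c 1) • b 1 := by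
    rw [← hvxy, map_add, map_smul, map_smul, hb, hb, smul_smul, smul_smul]
  have h0 := congrArg (fun w => b.repr w 0) he
  have h1 := congrArg (fun w => b.repr w 1) he
  simp only [hgv, map_add, map_smul, b.repr_self, Finsupp.add_apply, Finsupp.smul_apply,
    Finsupp.single_eq_same, smul_eq_mul] at h0 h1
  simp only [Finsupp.single_apply, Fin.one_eq_zero_iff, zero_ne_one, if_false, if_true,
    OfNat.ofNat_ne_one, Fin.zero_eq_one_iff, mul_one, mul_zero, add_zero, zero_add,
    ite_false] at h0 h1
  change e * x = x * c 0 at h0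
  change e * y = y * c 1 at h1
  by_cases hy : y = 0
  · refine ⟨0, ?_⟩
    rw [← hvxy, hy, zero_smul, add_zero, Submodule.span_singleton_smul_eq]
    refine isUnit_iff_ne_zero.2 fun hx => hv ?_
    rw [← hvxy, hx, hy, zero_smul, zero_smul, add_zero]
  · refine ⟨1, ?_⟩
    have hx : x = 0 := by
      by_contra hx
      have e0 : e = c 0 := mul_right_cancel₀ hx (h0.trans (mul_comm _ _))
      have e1 : e = c 1 := mul_right_cancel₀ hy (h1.trans (mul_comm _ _))
      exact hc (e0.symm.trans e1)
    rw [← hvxy, hx, zero_smul, zero_add, Submodule.span_singleton_smul_eq (isUnit_iff_ne_zero.2 hy)]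

/-- Three orbits of sizes at least three with half or less of the quotient fixed. -/
theorem three_orbits_ordered {n a b c : ℕ} {ma mb mc : ℕ} (ha : 3 ≤ a) (hb : 3 ≤ b) (hc : 3 ≤ c)
    (hma : 2 ≤ ma) (hab : ma ≤ mb) (hbc : mb ≤ mc) (hna : a * ma = n) (hnb : b * mb = n)
    (hnc : c * mc = n) (hsum : a + b + c = n + 2) : n = 12 ∨ n = 24 ∨ n = 60 := by
  have hma2 : ma = 2 := by
    by_contra h
    have : a * 3 ≤ a * ma := Nat.mul_le_mul_left a (by omega)
    have : b * 3 ≤ b * mb := Nat.mul_le_mul_left b (by omega)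
    have : c * 3 ≤ c * mc := Nat.mul_le_mul_left c (by omega)
    omega
  subst hma2
  have hmb3 : mb = 3 := by
    by_contra h
    by_cases h2 : mb = 2
    · subst h2; omega
    have : b * 4 ≤ b * mb := Nat.mul_le_mul_left b (by omega)
    have : c * 4 ≤ c * mc := Nat.mul_le_mul_left c (by omega)
    omega
  subst hmb3
  have hmc5 : mc ≤ 5 := by
    by_contra h
    have : c * 6 ≤ c * mc := Nat.mul_le_mul_left c (by omega)
    omega
  interval_cases mc <;> omega

/-- Three orbits of sizes at least three with half or less of the quotient fixed, unordered. -/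
theorem three_orbits {n a b c : ℕ} {ma mb mc : ℕ} (ha : 3 ≤ a) (hb : 3 ≤ b) (hc : 3 ≤ c)
    (hma : 2 ≤ ma) (hmb : 2 ≤ mb) (hmc : 2 ≤ mc) (hna : a * ma = n) (hnb : b * mb = n)
    (hnc : c * mc = n) (hsum : a + b + c = n + 2) : n = 12 ∨ n = 24 ∨ n = 60 := by
  rcases le_total ma mb with h1 | h1 <;> rcases le_total mb mc with h2 | h2 <;>
    rcases le_total ma mc with h3 | h3
  all_goals first
    | exact three_orbits_ordered ha hb hc hma h1 h2 hna hnb hnc hsum
    | exact three_orbits_ordered ha hc hb hma h3 h2 hna hnc hnb (by omega)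
    | exact three_orbits_ordered hb ha hc hmb h1 h3 hnb hna hnc (by omega)
    | exact three_orbits_ordered hb hc ha hmb h2 h3 hnb hnc hna (by omega)
    | exact three_orbits_ordered hc ha hb hmc h3 h1 hnc hna hnb (by omega)
    | exact three_orbits_ordered hc hb ha hmc h2 h1 hnc hnb hna (by omega)

theorem main (hρ : ρ.IsIrreducible) (hinj : Function.Injective ρ)
    (hprim : ∀ H : Subgroup G, H ≠ ⊤ → ∀ θ : H → ℂ, IsCharacter H θ → ρ.character ≠ indFun H θ) :
    (Subgroup.center G).index = 12 ∨ (Subgroup.center G).index = 24 ∨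
      (Subgroup.center G).index = 60 := by
  classical
  haveI := hρ
  set Z := Subgroup.center G with hZ
  have hscalar : ∀ g : G, (∃ a : ℂ, ∀ v, ρ g v = a • v) ↔ g ∈ Z := by
    intro g
    constructor
    · rintro ⟨a, ha⟩
      refine Subgroup.mem_center_iff.2 fun h => hinj (LinearMap.ext fun v => ?_)
      rw [map_mul, map_mul, Module.End.mul_apply, Module.End.mul_apply, ha, ha, map_smul]
    · intro hg
      obtain ⟨a, ha⟩ := schur_scalar ρ (ρ g) fun h => LinearMap.ext fun v => by
        show ρ g (ρ h v) = ρ h (ρ g v)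
        rw [← Module.End.mul_apply, ← map_mul, ← Subgroup.mem_center_iff.1 hg h, map_mul]
        rfl
      exact ⟨a, fun v => by rw [ha]; rfl⟩
  -- eigenlines
  have heig : ∀ g : G, g ∉ Z → ∃ (b : Basis (Fin 2) ℂ (Fin 2 → ℂ)) (c : Fin 2 → ℂ),
      (∀ i, ρ g (b i) = c i • b i) ∧ c 0 ≠ c 1 := by
    intro g hg
    obtain ⟨b, c, hb, -, -⟩ := exists_rep_eigenbasis ρ g
    have hd : finrank ℂ (Fin 2 → ℂ) = 2 := by rw [Module.finrank_fintype_fun_eq_card]; simp
    let e := finCongr hd
    refine ⟨b.reindex e, c ∘ e.symm, fun i => by simp [hb], fun h => hg ((hscalar g).1 ⟨c (e.symm 0), ?_⟩)⟩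
    intro v
    refine LinearMap.congr_fun (f := ρ g) (g := c (e.symm 0) • LinearMap.id)
      ((b.reindex e).ext fun i => ?_) v
    rw [Basis.reindex_apply, hb, LinearMap.smul_apply, LinearMap.id_apply]
    congr 1
    fin_cases i
    · rfl
    · exact h.symm
  choose b c hb hcne using heig
  let Fixed : Set (Submodule ℂ (Fin 2 → ℂ)) :=
    {L | ∃ (g : G) (hg : g ∉ Z) (i : Fin 2), L = Submodule.span ℂ {b g hg i}}
  have hFfin : Fixed.Finite := by
    refine (Set.finite_range fun q : {g : G // g ∉ Z} × Fin 2 =>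
      Submodule.span ℂ {b q.1.1 q.1.2 q.2}).subset ?_
    rintro L ⟨g, hg, i, rfl⟩
    exact ⟨(⟨g, hg⟩, i), rfl⟩
  have hbne : ∀ (g : G) (hg : g ∉ Z) i, b g hg i ≠ 0 := fun g hg i => (b g hg).ne_zero i
  have hbfix : ∀ (g : G) (hg : g ∉ Z) i,
      act ρ g (Submodule.span ℂ {b g hg i}) = Submodule.span ℂ {b g hg i} := fun g hg i => by
    rw [act_span, hb, Submodule.span_singleton_smul_eq]
    refine isUnit_iff_ne_zero.2 fun h0 => hbne g hg i ?_
    have e : ρ g⁻¹ (ρ g (b g hg i)) = b g hg i := by
      rw [← Module.End.mul_apply, ← map_mul, inv_mul_cancel, map_one, Module.End.one_apply]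
    rwa [hb, h0, zero_smul, map_zero, eq_comm] at e
  have hstable : ∀ (g : G) (L : Submodule ℂ (Fin 2 → ℂ)), L ∈ Fixed → act ρ g L ∈ Fixed := by
    rintro g L ⟨h, hh, i, rfl⟩
    have hgh : g * h * g⁻¹ ∉ Z := fun hz => hh (by
      have := (Subgroup.Normal.conj_mem (inferInstance : Z.Normal) _ hz g⁻¹)
      simpa [mul_assoc] using this)
    rw [act_span]
    have hne : ρ g (b h hh i) ≠ 0 := fun h0 => hbne h hh i (by
      have e : ρ g⁻¹ (ρ g (b h hh i)) = b h hh i := by
        rw [← Module.End.mul_apply, ← map_mul, inv_mul_cancel, map_one, Module.End.one_apply]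
      rwa [h0, map_zero, eq_comm] at e)
    obtain ⟨j, hj⟩ := fixed_line_cases ρ _ _ _ (hb _ hgh) (hcne _ hgh) hne (by
      rw [← act_span, ← act_mul, inv_mul_cancel_right, act_mul, hbfix])
    exact ⟨_, hgh, j, hj⟩
  let X := {L // L ∈ Fixed}
  haveI : Finite X := hFfin.to_subtype
  letI : Fintype X := Fintype.ofFinite X
  letI : MulAction G X :=
    { smul := fun g L => ⟨act ρ g L.1, hstable g L.1 L.2⟩
      one_smul := fun L => Subtype.ext (act_one ρ L.1)
      mul_smul := fun g h L => Subtype.ext (act_mul ρ g h L.1) }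
  have hZstab : ∀ (L : X), Z ≤ MulAction.stabilizer G L := by
    rintro ⟨L, g, hg, i, rfl⟩ z hz
    obtain ⟨a, ha⟩ := (hscalar z).2 hz
    refine Subtype.ext ?_
    show act ρ z (Submodule.span ℂ {b g hg i}) = _
    rw [act_span, ha, Submodule.span_singleton_smul_eq]
    refine isUnit_iff_ne_zero.2 fun h0 => hbne g hg i ?_
    have e : ρ z⁻¹ (ρ z (b g hg i)) = b g hg i := by
      rw [← Module.End.mul_apply, ← map_mul, inv_mul_cancel, map_one, Module.End.one_apply]
    rwa [ha, h0, zero_smul, map_zero, eq_comm] at e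
  -- each noncentral element fixes exactly two lines
  have htwo : ∀ g : G, g ∉ Z → (Finset.univ.filter fun L : X => g • L = L).card = 2 := by
    intro g hg
    let P : Fin 2 → X := fun i => ⟨Submodule.span ℂ {b g hg i}, g, hg, i, rfl⟩
    have hP : Function.Injective P := by
      intro i j hij
      have e : Submodule.span ℂ {b g hg i} = Submodule.span ℂ {b g hg j} :=
        congrArg Subtype.val hij
      have h : b g hg i ∈ Submodule.span ℂ {b g hg j} := e ▸ Submodule.mem_span_singleton_self _
      obtain ⟨a, ha⟩ := Submodule.mem_span_singleton.1 h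
      by_contra hne
      have h' := congrArg (fun w => (b g hg).repr w i) ha
      simp [Finsupp.single_apply, Ne.symm hne] at h'
    rw [show (Finset.univ.filter fun L : X => g • L = L) = Finset.univ.image P from ?_,
      Finset.card_image_of_injective _ hP, Finset.card_univ, Fintype.card_fin]
    ext L
    simp only [Finset.mem_filter, Finset.mem_univ, true_and, Finset.mem_image]
    constructor
    · obtain ⟨L, h, hh, i, rfl⟩ := L
      intro hfix
      obtain ⟨j, hj⟩ := fixed_line_cases ρ g _ _ (hb g hg) (hcne g hg) (hbne h hh i)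
        (congrArg Subtype.val hfix)
      exact ⟨j, Subtype.ext hj.symm⟩
    · rintro ⟨i, rfl⟩
      exact Subtype.ext (hbfix g hg i)
  set n := Z.index with hn
  set z := Nat.card Z with hzdef
  have hGn : z * n = Nat.card G := Z.card_mul_index
  let m : X → ℕ := fun L => Z.relIndex (MulAction.stabilizer G L)
  have hm : ∀ L : X, m L * (MulAction.stabilizer G L).index = n := fun L =>
    Subgroup.relIndex_mul_index (hZstab L)
  have hcardStab : ∀ L : X, Nat.card (MulAction.stabilizer G L) = z * m L := fun L => by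
    rw [hzdef, ← Nat.card_congr (Subgroup.subgroupOfEquivOfLe (hZstab L)).toEquiv]
    exact (Subgroup.card_mul_index _).symm
  have hindex3 : ∀ L : X, 3 ≤ (MulAction.stabilizer G L).index := by
    rintro ⟨L, g, hg, i, rfl⟩
    refine index_ge ρ hρ hprim _ (hbne g hg i) fun h hh => ?_
    have e := congrArg Subtype.val (MulAction.mem_stabilizer_iff.1 hh)
    have hmem : ρ h (b g hg i) ∈ Submodule.span ℂ {b g hg i} := by
      rw [← show act ρ h (Submodule.span ℂ {b g hg i}) = Submodule.span ℂ {b g hg i} from e,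
        act_span]
      exact Submodule.mem_span_singleton_self _
    obtain ⟨a, ha⟩ := Submodule.mem_span_singleton.1 hmem
    exact ⟨a, ha.symm⟩
  have hm2 : ∀ L : X, 2 ≤ m L := by
    rintro ⟨L, g, hg, i, rfl⟩
    by_contra hlt
    simp only [m] at hlt
    have h1 : Z.relIndex (MulAction.stabilizer G
        (⟨_, g, hg, i, rfl⟩ : X)) = 1 := by
      have h0 : Z.relIndex (MulAction.stabilizer G (⟨_, g, hg, i, rfl⟩ : X)) ≠ 0 :=
        Subgroup.index_ne_zero_of_finite
      omega
    exact hg (Subgroup.relIndex_eq_one.1 h1 (MulAction.mem_stabilizer_iff.2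
      (Subtype.ext (hbfix g hg i))))
  -- count the pairs
  set NC := Finset.univ.filter (fun g : G => g ∉ Z)
  have hNC : NC.card = z * (n - 1) := by
    have h := Finset.card_filter_add_card_filter_not (s := Finset.univ) (fun g : G => g ∈ Z)
    have hZc : (Finset.univ.filter fun g : G => g ∈ Z).card = z := by
      rw [hzdef, Nat.card_eq_fintype_card]; exact (Fintype.card_subtype _).symm
    rw [hZc, Finset.card_univ, ← Nat.card_eq_fintype_card, ← hGn] at h
    rw [Nat.mul_sub_one]
    show (Finset.univ.filter fun g : G => ¬ g ∈ Z).card = _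
    omega
  have hper : ∀ L : X, (NC.filter fun g => g • L = L).card = z * (m L - 1) := by
    intro L
    have h := Finset.card_filter_add_card_filter_not
      (s := Finset.univ.filter fun g : G => g • L = L) (fun g : G => g ∈ Z)
    have h1 : ((Finset.univ.filter fun g : G => g • L = L).filter fun g => g ∈ Z).card = z := by
      rw [Finset.filter_filter, hzdef, Nat.card_eq_fintype_card]
      refine (Fintype.card_subtype _).symm.trans (Fintype.card_congr
        (Equiv.subtypeEquivRight fun g => ⟨fun h => h.2, fun h => ⟨?_, h⟩⟩))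
      exact MulAction.mem_stabilizer_iff.1 (hZstab L h)
    have h2 : (Finset.univ.filter fun g : G => g • L = L).card = z * m L := by
      rw [← hcardStab, Nat.card_eq_fintype_card]
      exact (Fintype.card_subtype _).symm
    rw [h1, h2] at h
    rw [Finset.filter_comm, Nat.mul_sub_one]
    show ((Finset.univ.filter fun g : G => g • L = L).filter fun g => ¬ g ∈ Z).card = _
    omega
  have hsum : ∑ L : X, (m L - 1) = 2 * (n - 1) := by
    refine Nat.eq_of_mul_eq_mul_left (Nat.card_pos (α := Z)) ?_
    rw [← hzdef, Finset.mul_sum, ← Finset.sum_congr rfl fun L _ => hper L]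
    simp only [Finset.card_filter]
    rw [Finset.sum_comm, Finset.sum_congr rfl fun g hg => by
      rw [← Finset.card_filter, htwo g (Finset.mem_filter.1 hg).2], Finset.sum_const, hNC,
      smul_eq_mul]
    ring
  -- orbits
  letI : Fintype (MulAction.orbitRel.Quotient G X) := Fintype.ofFinite _
  set o : MulAction.orbitRel.Quotient G X → ℕ := fun w =>
    (MulAction.stabilizer G w.out).index with ho
  have horb : ∀ L : X, o ⟦L⟧ = (MulAction.stabilizer G L).index := by
    intro L
    simp only [ho, MulAction.index_stabilizer]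
    congr 1
    exact MulAction.orbit_eq_iff.2 (MulAction.orbitRel_apply.1 (Quotient.mk_out L))
  have hsum' : ∑ w, (n - o w) = 2 * (n - 1) := by
    rw [← hsum, ← Finset.sum_fiberwise Finset.univ (fun L : X => (⟦L⟧ : MulAction.orbitRel.Quotient G X))
      (fun L => m L - 1)]
    refine Finset.sum_congr rfl fun w _ => ?_
    obtain ⟨L, rfl⟩ := Quotient.mk_surjective w
    rw [horb, Finset.sum_congr rfl (g := fun _ => m L - 1) fun L' hL' => by
      have h := (horb L').symm.trans ((congrArg o (Finset.mem_filter.1 hL').2).trans (horb L))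
      have e := (hm L').trans (hm L).symm
      rw [h] at e
      rw [Nat.eq_of_mul_eq_mul_right (by have := hindex3 L; omega) e], Finset.sum_const,
      smul_eq_mul]
    have hcard : (Finset.univ.filter fun L' : X =>
        (⟦L'⟧ : MulAction.orbitRel.Quotient G X) = ⟦L⟧).card =
        (MulAction.stabilizer G L).index := by
      rw [MulAction.index_stabilizer, ← Nat.card_coe_set_eq, Nat.card_eq_fintype_card,
        ← Fintype.card_subtype]
      exact Fintype.card_congr (Equiv.subtypeEquivRight fun L' =>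
        Quotient.eq.trans MulAction.orbitRel_apply)
    rw [hcard, Nat.mul_sub_one, mul_comm, hm]
  have ho3 : ∀ w, 3 ≤ o w := fun w => hindex3 _
  have hmul : ∀ w, ∃ k, 2 ≤ k ∧ o w * k = n := fun w => ⟨m w.out, hm2 _, by rw [mul_comm]; exact hm _⟩
  -- a noncentral element exists
  have hn3 : 3 ≤ n := by
    by_contra hlt
    obtain ⟨g, hg⟩ : ∃ g : G, g ∉ Z := by
      by_contra hall
      push Not at hall
      have hsc : ∀ g, ∃ a : ℂ, ∀ v, ρ g v = a • v := fun g => (hscalar g).2 (hall g)
      have := index_ge ρ hρ hprim ⊤ (v := Pi.single 0 1)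
        (fun h => by simpa using congrFun h 0) fun g _ => (hsc g).imp fun a ha => ha _
      rw [Subgroup.index_top] at this
      omega
    obtain ⟨k, hk, hk'⟩ := hmul ⟦(⟨_, g, hg, 0, rfl⟩ : X)⟧
    have := ho3 ⟦(⟨_, g, hg, 0, rfl⟩ : X)⟧
    have : o ⟦(⟨_, g, hg, 0, rfl⟩ : X)⟧ * 2 ≤ n := hk' ▸ Nat.mul_le_mul_left _ hk
    omega
  set k := Fintype.card (MulAction.orbitRel.Quotient G X) with hkdef
  have hlow : ∀ w, n ≤ 2 * (n - o w) := fun w => by
    obtain ⟨j, hj, hj'⟩ := hmul w
    have : o w * 2 ≤ n := hj' ▸ Nat.mul_le_mul_left _ hj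
    omega
  have hk3 : k ≤ 3 := by
    have h : k * n ≤ 2 * (2 * (n - 1)) := by
      rw [← hsum', Finset.mul_sum, hkdef, ← smul_eq_mul, ← Finset.card_univ]
      exact Finset.card_nsmul_le_sum _ _ _ fun w _ => hlow w
    by_contra hc
    have : 4 * n ≤ k * n := Nat.mul_le_mul_right n (by omega)
    omega
  have hkup : ∑ w, (n - o w) + 3 * k ≤ k * n := by
    have h : ∑ w : MulAction.orbitRel.Quotient G X, (n - o w + 3) ≤
        ∑ _w : MulAction.orbitRel.Quotient G X, n := Finset.sum_le_sum fun w _ => by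
      have := ho3 w
      have := hlow w
      omega
    simpa [Finset.sum_add_distrib, hkdef, mul_comm] using h
  have hk : k = 3 := by
    interval_cases k <;> omega
  obtain ⟨w₁, w₂, w₃, h12, h13, h23, huniv⟩ := Finset.card_eq_three.1
    ((Finset.card_univ (α := MulAction.orbitRel.Quotient G X)).trans hk)
  rw [huniv, Finset.sum_insert (by simp [h12, h13]), Finset.sum_pair h23] at hsum'
  obtain ⟨j₁, hj₁, e₁⟩ := hmul w₁
  obtain ⟨j₂, hj₂, e₂⟩ := hmul w₂
  obtain ⟨j₃, hj₃, e₃⟩ := hmul w₃
  have := hlow w₁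
  have := hlow w₂
  have := hlow w₃
  exact three_orbits (ho3 w₁) (ho3 w₂) (ho3 w₃) hj₁ hj₂ hj₃ e₁ e₂ e₃ (by omega)

end Cfsg.Agent.Char.DegTwo
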