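import Mathlib

/-!
Counting fixed points and derangements: in a transitive action on `n` points,
`n * #derangements = ∑ f (f - 1) + ∑ f (f - 1) (n - f) / f`, both sums over the group, `f` the
number of fixed points.
-/

set_option autoImplicit false
set_option linter.unusedSectionVars false

namespace Cfsg.Agent.Derange

open Finset

variable {G Ω : Type*} [Group G] [Fintype G] [MulAction G Ω] [Fintype Ω] [DecidableEq Ω]

/-- The fixed points of an element, as a finite set. -/
def fx (g : G) : Finset Ω := univ.filter fun x => g • x = x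

theorem mem_fx {g : G} {x : Ω} : x ∈ fx g ↔ g • x = x := by simp [fx]

/-- Two-transitivity, spelled out on pairs. -/
def Trans2 (G Ω : Type*) [Group G] [MulAction G Ω] : Prop :=
  ∀ x y x' y' : Ω, x ≠ y → x' ≠ y' → ∃ g : G, g • x = x' ∧ g • y = y'

/-- The weight `(n - f) / f` of a group element. -/
noncomputable def wt (Ω : Type*) [MulAction G Ω] [Fintype Ω] [DecidableEq Ω] (g : G) : ℚ :=
  ((Fintype.card Ω : ℚ) - ((fx g : Finset Ω).card : ℚ)) / ((fx g : Finset Ω).card : ℚ)

theorem card_eq_card_orbit_mul {X : Type*} [MulAction G X] [DecidableEq X] (p : X) :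
    Fintype.card G = (univ.image fun g : G => g • p).card *
      (univ.filter fun g : G => g • p = p).card := by
  rw [← card_univ, card_eq_sum_card_image (fun g : G => g • p), sum_const_nat]
  intro q hq
  obtain ⟨k, -, hk⟩ := mem_image.1 hq
  refine card_bij (fun g _ => k⁻¹ * g) ?_ ?_ ?_
  · intro g hg
    simp only [mem_filter, mem_univ, true_and] at hg ⊢
    rw [mul_smul, hg, ← hk, inv_smul_smul]
  · intro g _ g' _ h
    exact mul_left_cancel h
  · intro g hg
    simp only [mem_filter, mem_univ, true_and] at hg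
    exact ⟨k * g, by simp [mul_smul, hg, hk], by group⟩

theorem card_filter_smul_eq {X : Type*} [MulAction G X] [DecidableEq X] (p : X) (k : G) :
    (univ.filter fun g : G => g • (k • p) = k • p).card =
      (univ.filter fun g : G => g • p = p).card := by
  refine card_bij (fun g _ => k⁻¹ * g * k) ?_ ?_ ?_
  · intro g hg
    simp only [mem_filter, mem_univ, true_and] at hg ⊢
    rw [mul_smul, mul_smul, hg, inv_smul_smul]
  · intro g _ g' _ h
    simpa using h
  · intro g hg
    simp only [mem_filter, mem_univ, true_and] at hg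
    exact ⟨k * g * k⁻¹, by simp [mul_smul, hg], by group⟩

/-- Over one orbit the point stabilisers add up to the group. -/
theorem sum_orbit_stab {X : Type*} [MulAction G X] [DecidableEq X] (p : X) :
    ∑ q ∈ univ.image (fun g : G => g • p), (univ.filter fun g : G => g • q = q).card =
      Fintype.card G := by
  rw [card_eq_card_orbit_mul p, sum_const_nat]
  intro q hq
  obtain ⟨k, -, rfl⟩ := mem_image.1 hq
  exact card_filter_smul_eq p k

theorem sum_card_fx :
    ∑ g : G, (fx g : Finset Ω).card = ∑ x : Ω, (univ.filter fun g : G => g • x = x).card := by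
  simp only [fx, card_filter]
  exact sum_comm

theorem sum_card_fx_eq (htr : MulAction.IsPretransitive G Ω) (a : Ω) :
    ∑ g : G, (fx g : Finset Ω).card = Fintype.card G := by
  rw [sum_card_fx]
  have h : univ.image (fun g : G => g • a) = (univ : Finset Ω) := by
    refine eq_univ_of_forall fun x => mem_image.2 ?_
    obtain ⟨g, hg⟩ := htr.exists_smul_eq a x
    exact ⟨g, mem_univ _, hg⟩
  rw [← sum_orbit_stab a, h]

theorem offDiag_fx (g : G) :
    (fx g : Finset Ω).offDiag = (univ : Finset Ω).offDiag.filter fun p => g • p = p := by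
  ext ⟨x, y⟩
  simp only [mem_offDiag, mem_fx, mem_filter, mem_univ, true_and, Prod.smul_mk, Prod.mk.injEq]
  tauto

theorem sum_pairs {M : Type*} [AddCommMonoid M] (F : G → M) :
    ∑ g : G, (fx g : Finset Ω).offDiag.card • F g =
      ∑ p ∈ (univ : Finset Ω).offDiag, ∑ g ∈ univ.filter (fun g : G => g • p = p), F g := by
  calc ∑ g : G, (fx g : Finset Ω).offDiag.card • F g
      = ∑ g : G, ∑ p ∈ (univ : Finset Ω).offDiag, if g • p = p then F g else 0 := by
        refine sum_congr rfl fun g _ => ?_
        rw [← sum_filter, sum_const, offDiag_fx]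
    _ = _ := by
        rw [sum_comm]
        exact sum_congr rfl fun p _ => (sum_filter _ _).symm

/-- The ordered pairs of fixed points, counted over the group. -/
def pairSum (G Ω : Type*) [Group G] [Fintype G] [MulAction G Ω] [Fintype Ω] [DecidableEq Ω] : ℕ :=
  ∑ g : G, (fx g : Finset Ω).offDiag.card

theorem pairSum_eq : pairSum G Ω =
    ∑ p ∈ (univ : Finset Ω).offDiag, (univ.filter fun g : G => g • p = p).card := by
  have h := sum_pairs (G := G) (Ω := Ω) fun _ => 1
  simpa [pairSum] using h

theorem orbit_offDiag_subset {p : Ω × Ω} (hp : p.1 ≠ p.2) :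
    univ.image (fun g : G => g • p) ⊆ (univ : Finset Ω).offDiag := by
  intro q hq
  obtain ⟨g, -, rfl⟩ := mem_image.1 hq
  simp [mem_offDiag, hp]

theorem two_mul_le_pairSum (h : ¬ Trans2 G Ω) :
    2 * Fintype.card G ≤ pairSum G Ω := by
  simp only [Trans2, not_forall, not_exists, not_and] at h
  obtain ⟨x, y, x', y', hxy, hxy', hno⟩ := h
  rw [pairSum_eq, two_mul]
  conv_lhs => arg 1; rw [← sum_orbit_stab (G := G) (x, y)]
  conv_lhs => arg 2; rw [← sum_orbit_stab (G := G) (x', y')]
  have hdis : Disjoint (univ.image fun g : G => g • (x, y))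
      (univ.image fun g : G => g • (x', y')) := by
    rw [disjoint_left]
    intro q hq hq'
    obtain ⟨g, -, rfl⟩ := mem_image.1 hq
    obtain ⟨g', -, hg'⟩ := mem_image.1 hq'
    have e : (g'⁻¹ * g) • (x, y) = (x', y') := by rw [mul_smul, ← hg', inv_smul_smul]
    rw [Prod.smul_mk, Prod.mk.injEq] at e
    exact hno _ e.1 e.2
  rw [← sum_union hdis]
  exact sum_le_sum_of_subset (union_subset (orbit_offDiag_subset hxy) (orbit_offDiag_subset hxy'))

theorem image_pair_eq (h : Trans2 G Ω) {x y : Ω} (hxy : x ≠ y) :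
    univ.image (fun g : G => g • (x, y)) = (univ : Finset Ω).offDiag := by
  refine Subset.antisymm (orbit_offDiag_subset hxy) fun q hq => mem_image.2 ?_
  obtain ⟨g, h1, h2⟩ := h x y q.1 q.2 hxy (mem_offDiag.1 hq).2.2
  exact ⟨g, mem_univ _, by ext <;> simpa⟩

theorem pairSum_of_trans2 (h : Trans2 G Ω) {x y : Ω} (hxy : x ≠ y) :
    pairSum G Ω = Fintype.card G := by
  rw [pairSum_eq, ← image_pair_eq (G := G) h hxy, sum_orbit_stab]

theorem card_eq_pairs_mul (h : Trans2 G Ω) {x y : Ω} (hxy : x ≠ y) :
    Fintype.card G = (univ : Finset Ω).offDiag.card *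
      (univ.filter fun g : G => g • (x, y) = (x, y)).card := by
  rw [← image_pair_eq (G := G) h hxy]
  exact card_eq_card_orbit_mul (x, y)

theorem wt_conj (g k : G) : wt Ω (k * g * k⁻¹) = wt Ω g := by
  have h : (fx (k * g * k⁻¹) : Finset Ω) = (fx g).image fun x => k • x := by
    ext x
    simp only [mem_image, mem_fx, mul_smul]
    constructor
    · intro hx
      exact ⟨k⁻¹ • x, by rw [eq_inv_smul_iff, hx], smul_inv_smul _ _⟩
    · rintro ⟨u, hu, rfl⟩
      rw [inv_smul_smul, hu]
  unfold wt
  rw [h, card_image_of_injective _ (MulAction.injective k)]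

theorem wt_pair_sum (h : Trans2 G Ω) {x y x' y' : Ω} (hxy : x ≠ y) (hxy' : x' ≠ y') :
    ∑ g ∈ univ.filter (fun g : G => g • (x', y') = (x', y')), wt Ω g =
      ∑ g ∈ univ.filter (fun g : G => g • (x, y) = (x, y)), wt Ω g := by
  obtain ⟨k, h1, h2⟩ := h x y x' y' hxy hxy'
  have hk : k • (x, y) = (x', y') := by rw [Prod.smul_mk, h1, h2]
  rw [← hk]
  refine sum_bij (fun g _ => k⁻¹ * g * k) ?_ ?_ ?_ ?_
  · intro g hg
    simp only [mem_filter, mem_univ, true_and] at hg ⊢
    rw [mul_smul, mul_smul, hg, inv_smul_smul]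
  · intro g _ g' _ e
    simpa using e
  · intro g hg
    simp only [mem_filter, mem_univ, true_and] at hg
    exact ⟨k * g * k⁻¹, by
      simp only [mem_filter, mem_univ, true_and, mul_smul, inv_smul_smul, hg], by group⟩
  · intro g _
    conv_rhs => rw [← wt_conj (k⁻¹ * g * k) k]
    congr 1
    group

/-- The fundamental identity. -/
theorem card_mul_derangements (htr : MulAction.IsPretransitive G Ω) (a : Ω) :
    (Fintype.card Ω : ℚ) * ((univ.filter fun g : G => ∀ x : Ω, g • x ≠ x).card : ℚ) =
      (pairSum G Ω : ℚ) + ∑ g : G, ((fx g : Finset Ω).offDiag.card : ℚ) * wt Ω g := by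
  have hpt : ∀ g : G, ((fx g : Finset Ω).offDiag.card : ℚ) * wt Ω g +
      ((fx g : Finset Ω).offDiag.card : ℚ) =
      (if ∀ x : Ω, g • x ≠ x then (Fintype.card Ω : ℚ) else 0) +
        (Fintype.card Ω : ℚ) * (((fx g : Finset Ω).card : ℚ) - 1) := by
    intro g
    have hd : ((fx g : Finset Ω).offDiag.card : ℚ) =
        ((fx g : Finset Ω).card : ℚ) * (((fx g : Finset Ω).card : ℚ) - 1) := by
      rw [offDiag_card, Nat.cast_sub (Nat.le_mul_self _)]
      push_cast
      ring
    rw [hd, wt]
    by_cases h : ∀ x : Ω, g • x ≠ x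
    · have h0 : (fx g : Finset Ω).card = 0 :=
        card_eq_zero.2 (eq_empty_of_forall_notMem fun x hx => h x (mem_fx.1 hx))
      rw [if_pos h, h0]
      simp
    · have h0 : (((fx g : Finset Ω).card : ℕ) : ℚ) ≠ 0 := by
        push Not at h
        obtain ⟨x, hx⟩ := h
        exact Nat.cast_ne_zero.2 (card_ne_zero.2 ⟨x, mem_fx.2 hx⟩)
      rw [if_neg h]
      field_simp
      ring
  have hs := sum_congr (s₁ := (univ : Finset G)) rfl fun g _ => hpt g
  rw [sum_add_distrib, sum_add_distrib, ← mul_sum, sum_sub_distrib, ← sum_filter, sum_const,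
    sum_const, nsmul_eq_mul, nsmul_eq_mul, mul_one, card_univ] at hs
  have h1 : (∑ g : G, ((fx g : Finset Ω).card : ℚ)) = (Fintype.card G : ℚ) := by
    exact_mod_cast sum_card_fx_eq htr a
  have h2 : (∑ g : G, ((fx g : Finset Ω).offDiag.card : ℚ)) = (pairSum G Ω : ℚ) := by
    simp [pairSum]
  rw [h1, h2, sub_self, mul_zero, add_zero] at hs
  linarith

theorem wt_nonneg (g : G) : 0 ≤ wt Ω g := by
  refine div_nonneg (sub_nonneg.2 ?_) (Nat.cast_nonneg _)
  exact_mod_cast card_le_univ _

theorem two_mul_le_of_not_trans2 (htr : MulAction.IsPretransitive G Ω) (a : Ω)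
    (h : ¬ Trans2 G Ω) :
    2 * Fintype.card G ≤
      Fintype.card Ω * (univ.filter fun g : G => ∀ x : Ω, g • x ≠ x).card := by
  have hid := card_mul_derangements (G := G) htr a
  have h2 : (2 * Fintype.card G : ℚ) ≤ (pairSum G Ω : ℚ) := by
    exact_mod_cast two_mul_le_pairSum h
  have h0 : 0 ≤ ∑ g : G, ((fx g : Finset Ω).offDiag.card : ℚ) * wt Ω g :=
    sum_nonneg fun g _ => mul_nonneg (Nat.cast_nonneg _) (wt_nonneg g)
  suffices (2 * Fintype.card G : ℚ) ≤ ((Fintype.card Ω *
      (univ.filter fun g : G => ∀ x : Ω, g • x ≠ x).card : ℕ) : ℚ) by exact_mod_cast this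
  push_cast
  linarith

/-- In a two-transitive group everything is governed by one pair stabiliser. -/
theorem card_mul_derangements_trans2 (htr : MulAction.IsPretransitive G Ω) (h : Trans2 G Ω)
    {a b : Ω} (hab : a ≠ b) :
    (Fintype.card Ω : ℚ) * ((univ.filter fun g : G => ∀ x : Ω, g • x ≠ x).card : ℚ) =
      (Fintype.card G : ℚ) + ((univ : Finset Ω).offDiag.card : ℚ) *
        ∑ g ∈ univ.filter (fun g : G => g • (a, b) = (a, b)), wt Ω g := by
  rw [card_mul_derangements htr a, pairSum_of_trans2 h hab]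
  congr 1
  have hs := sum_pairs (G := G) (Ω := Ω) (fun g => wt Ω g)
  simp only [nsmul_eq_mul] at hs
  rw [hs, sum_congr rfl fun p hp => wt_pair_sum h hab (mem_offDiag.1 hp).2.2, sum_const,
    nsmul_eq_mul]

end Cfsg.Agent.Derange
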