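import Mathlib
import Cfsg.Agent.Lib.Char.DerangeCount

/-!
The orbits of a two-point stabiliser `H` of a two-transitive group, the excess
`2 ∑ f - n |H|`, and the linear space formed by the fixed point sets of two-point stabilisers.
-/

set_option autoImplicit false
set_option linter.unusedSectionVars false
set_option linter.style.haveILetI false

namespace Cfsg.Agent.Derange

open Finset

variable {G Ω : Type*} [Group G] [Fintype G] [DecidableEq G] [MulAction G Ω] [Fintype Ω]
  [DecidableEq Ω]

/-- The stabiliser of two points, as a finite set. -/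
def ps (G : Type*) {Ω : Type*} [Group G] [Fintype G] [MulAction G Ω] [DecidableEq Ω] (x y : Ω) :
    Finset G :=
  univ.filter fun g : G => g • (x, y) = (x, y)

theorem mem_ps {g : G} {x y : Ω} : g ∈ ps G x y ↔ g • x = x ∧ g • y = y := by
  simp [ps, Prod.ext_iff]

theorem one_mem_ps (x y : Ω) : (1 : G) ∈ ps G x y := by simp [mem_ps]

theorem mul_mem_ps {g g' : G} {x y : Ω} (h : g ∈ ps G x y) (h' : g' ∈ ps G x y) :
    g * g' ∈ ps G x y := by
  rw [mem_ps] at h h' ⊢
  simp [mul_smul, h.1, h.2, h'.1, h'.2]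

theorem inv_mem_ps {g : G} {x y : Ω} (h : g ∈ ps G x y) : g⁻¹ ∈ ps G x y := by
  rw [mem_ps] at h ⊢
  exact ⟨inv_smul_eq_iff.2 h.1.symm, inv_smul_eq_iff.2 h.2.symm⟩

theorem card_ps (h : Trans2 G Ω) {x y x' y' : Ω} (hxy : x ≠ y) (hxy' : x' ≠ y') :
    (ps G x' y').card = (ps G x y).card := by
  obtain ⟨k, h1, h2⟩ := h x y x' y' hxy hxy'
  rw [ps, ps, ← card_filter_smul_eq (G := G) (x, y) k]
  simp [h1, h2]

variable (a b : Ω)

/-- The common fixed points of a two-point stabiliser: the line through the two points. -/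
def line (G : Type*) {Ω : Type*} [Group G] [Fintype G] [MulAction G Ω] [Fintype Ω] [DecidableEq Ω]
    (x y : Ω) : Finset Ω :=
  univ.filter fun u => ∀ g ∈ ps G x y, g • u = u

theorem mem_line {x y u : Ω} : u ∈ line G x y ↔ ∀ g ∈ ps G x y, g • u = u := by simp [line]

theorem left_mem_line (x y : Ω) : x ∈ line G x y := mem_line.2 fun _ hg => (mem_ps.1 hg).1

theorem right_mem_line (x y : Ω) : y ∈ line G x y := mem_line.2 fun _ hg => (mem_ps.1 hg).2

/-- An orbit of the stabiliser of `a` and `b`. -/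
def orb (G : Type*) {Ω : Type*} [Group G] [Fintype G] [MulAction G Ω] [DecidableEq Ω] (a b x : Ω) :
    Finset Ω :=
  (ps G a b).image fun g => g • x

/-- The stabiliser of `x` inside that of `a` and `b`, counted. -/
def stc (G : Type*) {Ω : Type*} [Group G] [Fintype G] [MulAction G Ω] [DecidableEq Ω] (a b x : Ω) :
    ℕ :=
  ((ps G a b).filter fun g => g • x = x).card

theorem mem_orb_self (x : Ω) : x ∈ orb G a b x :=
  mem_image.2 ⟨1, one_mem_ps a b, one_smul _ _⟩

theorem smul_mem_orb {g : G} (hg : g ∈ ps G a b) {x y : Ω} (hy : y ∈ orb G a b x) :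
    g • y ∈ orb G a b x := by
  obtain ⟨k, hk, rfl⟩ := mem_image.1 hy
  exact mem_image.2 ⟨g * k, mul_mem_ps hg hk, mul_smul g k x⟩

theorem orb_eq {x y : Ω} (hy : y ∈ orb G a b x) : orb G a b y = orb G a b x := by
  obtain ⟨k, hk, rfl⟩ := mem_image.1 hy
  ext u
  simp only [orb, mem_image]
  constructor
  · rintro ⟨g, hg, rfl⟩
    exact ⟨g * k, mul_mem_ps hg hk, mul_smul g k x⟩
  · rintro ⟨g, hg, rfl⟩
    exact ⟨g * k⁻¹, mul_mem_ps hg (inv_mem_ps hk), by rw [mul_smul, inv_smul_smul]⟩

theorem orb_mul (x : Ω) : (orb G a b x).card * stc G a b x = (ps G a b).card := by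
  rw [orb, card_eq_sum_card_image (fun g : G => g • x) (ps G a b), eq_comm, sum_const_nat]
  intro q hq
  obtain ⟨k, hk, hkq⟩ := mem_image.1 hq
  refine card_bij (fun g _ => k⁻¹ * g) ?_ ?_ ?_
  · intro g hg
    simp only [mem_filter] at hg ⊢
    exact ⟨mul_mem_ps (inv_mem_ps hk) hg.1, by rw [mul_smul, hg.2, ← hkq, inv_smul_smul]⟩
  · intro g _ g' _ h
    exact mul_left_cancel h
  · intro g hg
    simp only [mem_filter] at hg
    refine ⟨k * g, ?_, by group⟩
    simp only [mem_filter]
    exact ⟨mul_mem_ps hk hg.1, by rw [mul_smul, hg.2, hkq]⟩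

theorem stc_eq {x y : Ω} (hy : y ∈ orb G a b x) : stc G a b y = stc G a b x := by
  have h := orb_mul (G := G) a b y
  rw [orb_eq a b hy] at h
  exact Nat.eq_of_mul_eq_mul_left (card_pos.2 ⟨x, mem_orb_self a b x⟩)
    (h.trans (orb_mul a b x).symm)

/-- The contribution `2 |H_x| - |H|` of a point to the excess. -/
def phi (G : Type*) {Ω : Type*} [Group G] [Fintype G] [MulAction G Ω] [DecidableEq Ω] (a b x : Ω) :
    ℤ :=
  2 * (stc G a b x : ℤ) - ((ps G a b).card : ℤ)

theorem phi_line {x : Ω} (hx : x ∈ line G a b) : phi G a b x = ((ps G a b).card : ℤ) := by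
  have : stc G a b x = (ps G a b).card := by
    rw [stc, filter_true_of_mem (mem_line.1 hx)]
  rw [phi, this]
  ring

theorem two_le_card_orb {x : Ω} (hx : x ∉ line G a b) : 2 ≤ (orb G a b x).card := by
  simp only [mem_line, not_forall] at hx
  obtain ⟨g, hg, hne⟩ := hx
  exact one_lt_card.2 ⟨g • x, mem_image.2 ⟨g, hg, rfl⟩, x, mem_orb_self a b x, hne⟩

theorem phi_nonpos {x : Ω} (hx : x ∉ line G a b) : phi G a b x ≤ 0 := by
  have h := Nat.mul_le_mul_right (stc G a b x) (two_le_card_orb a b hx)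
  rw [orb_mul] at h
  rw [phi]
  omega

theorem phi_eq_zero {x : Ω} (hx : (orb G a b x).card = 2) : phi G a b x = 0 := by
  have h := orb_mul (G := G) a b x
  rw [hx] at h
  rw [phi]
  omega

theorem sum_phi_orb (x : Ω) :
    ∑ y ∈ orb G a b x, phi G a b y =
      ((ps G a b).card : ℤ) * (2 - ((orb G a b x).card : ℤ)) := by
  have h : ∀ y ∈ orb G a b x, phi G a b y = phi G a b x := fun y hy => by
    rw [phi, phi, stc_eq a b hy]
  rw [sum_congr rfl h, sum_const, nsmul_eq_mul, phi]
  have h' : ((orb G a b x).card : ℤ) * (stc G a b x : ℤ) = ((ps G a b).card : ℤ) := by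
    exact_mod_cast orb_mul a b x
  linear_combination 2 * h'

theorem orb_subset_compl {x : Ω} (hx : x ∉ line G a b) :
    orb G a b x ⊆ univ \ line G a b := by
  intro y hy
  refine mem_sdiff.2 ⟨mem_univ _, fun hyl => hx ?_⟩
  have hxy : x ∈ orb G a b y := by rw [orb_eq a b hy]; exact mem_orb_self a b x
  obtain ⟨k, hk, rfl⟩ := mem_image.1 hxy
  rwa [mem_line.1 hyl k hk]

/-- The excess is twice the fixed point total minus `n |H|`. -/
theorem sum_phi : ∑ x : Ω, phi G a b x =
    2 * ∑ g ∈ ps G a b, ((fx g : Finset Ω).card : ℤ) -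
      (Fintype.card Ω : ℤ) * ((ps G a b).card : ℤ) := by
  simp only [phi, sum_sub_distrib, sum_const, nsmul_eq_mul, card_univ, ← mul_sum]
  congr 2
  simp only [stc, fx, card_filter, Nat.cast_sum]
  exact sum_comm

/-- Three points moved by a two-point stabiliser element cannot be one of its orbits. -/
theorem no_three [FaithfulSMul G Ω] (h2 : Trans2 G Ω) (hn : 6 ≤ Fintype.card Ω) {O : Finset Ω}
    (hO : O.card = 3) (haO : a ∉ O) (hbO : b ∉ O) {g : G} (hg1 : g ≠ 1)
    (hout : ∀ u, u ∉ O → g • u = u) (hclosed : ∀ k ∈ ps G a b, ∀ y ∈ O, k • y ∈ O) : False := by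
  have hgH : g ∈ ps G a b := mem_ps.2 ⟨hout a haO, hout b hbO⟩
  obtain ⟨d, hd⟩ : ∃ d, g • d ≠ d := by
    by_contra! hall
    exact hg1 (eq_of_smul_eq_smul fun u : Ω => by rw [hall, one_smul])
  have hdO : d ∈ O := by
    by_contra hno
    exact hd (hout d hno)
  have hcO : g • d ∈ O := hclosed g hgH d hdO
  obtain ⟨z, hz⟩ : ∃ z, z ∉ insert a (insert b O) := by
    by_contra! hall
    have hle : (univ : Finset Ω).card ≤ (insert a (insert b O)).card :=
      card_le_card fun u _ => hall u
    have h1 := card_insert_le a (insert b O)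
    have h2 := card_insert_le b O
    rw [card_univ] at hle
    omega
  simp only [mem_insert, not_or] at hz
  obtain ⟨hza, hzb, hzO⟩ := hz
  have hzd : z ≠ d := fun e => hzO (e ▸ hdO)
  obtain ⟨k, hkc, hkd⟩ := h2 (g • d) d z d hd hzd
  set j : G := k * g * k⁻¹ with hj
  have hjd : j • d = z := by
    rw [hj, mul_smul, mul_smul, inv_smul_eq_iff.2 hkd.symm, hkc]
  have hjfix : ∀ u, u ∉ O.image (fun y => k • y) → j • u = u := by
    intro u hu
    have : k⁻¹ • u ∉ O := fun hc => hu (mem_image.2 ⟨_, hc, smul_inv_smul _ _⟩)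
    rw [hj, mul_smul, mul_smul, hout _ this, smul_inv_smul]
  by_cases hab : a ∈ O.image (fun y => k • y) ∨ b ∈ O.image (fun y => k • y)
  · have hfixO : ∀ y ∈ O, y ≠ d → j • y = y := by
      intro y hy hyd
      refine hjfix y fun hym => ?_
      obtain ⟨w, hw, hwO⟩ : ∃ w, w ∈ O.image (fun y => k • y) ∧ (w = a ∨ w = b) := by
        rcases hab with h | h
        · exact ⟨a, h, Or.inl rfl⟩
        · exact ⟨b, h, Or.inr rfl⟩
      have hwy : w ∉ O := by rcases hwO with rfl | rfl <;> assumption
      have hwz : w ≠ z := by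
        rcases hwO with rfl | rfl
        · exact Ne.symm hza
        · exact Ne.symm hzb
      have hsub : ({z, d, w, y} : Finset Ω) ⊆ O.image (fun y => k • y) := by
        intro u hu
        simp only [mem_insert, mem_singleton] at hu
        rcases hu with rfl | rfl | rfl | rfl
        · exact mem_image.2 ⟨_, hcO, hkc⟩
        · exact mem_image.2 ⟨_, hdO, hkd⟩
        · exact hw
        · exact hym
      have h4 : ({z, d, w, y} : Finset Ω).card = 4 := by
        have e1 : z ≠ y := fun e => hzO (e ▸ hy)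
        have e2 : d ≠ w := fun e => hwy (e ▸ hdO)
        have e3 : w ≠ y := fun e => hwy (e ▸ hy)
        simp [hzd, Ne.symm hwz, e1, e2, Ne.symm hyd, e3]
      have := (card_le_card hsub).trans card_image_le
      omega
    have hm : ∀ w, (w = a ∨ w = b) → j⁻¹ • w ∉ O := by
      intro w hw hin
      have hjy : j • (j⁻¹ • w) = w := smul_inv_smul _ _
      by_cases e : j⁻¹ • w = d
      · rw [e, hjd] at hjy
        rcases hw with rfl | rfl
        · exact hza hjy
        · exact hzb hjy
      · rw [hfixO _ hin e] at hjy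
        rw [hjy] at hin
        rcases hw with rfl | rfl <;> contradiction
    have hmem : j * g * j⁻¹ ∈ ps G a b := by
      refine mem_ps.2 ⟨?_, ?_⟩
      · rw [mul_smul, mul_smul, hout _ (hm a (Or.inl rfl)), smul_inv_smul]
      · rw [mul_smul, mul_smul, hout _ (hm b (Or.inr rfl)), smul_inv_smul]
    have hval : (j * g * j⁻¹) • z = g • d := by
      rw [mul_smul, mul_smul, inv_smul_eq_iff.2 hjd.symm]
      exact hfixO _ hcO hd
    have hback := hclosed _ (inv_mem_ps hmem) _ hcO
    rw [← hval, inv_smul_smul] at hback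
    exact hzO hback
  · simp only [not_or] at hab
    have := hclosed j (mem_ps.2 ⟨hjfix a hab.1, hjfix b hab.2⟩) d hdO
    rw [hjd] at this
    exact hzO this

theorem sum_phi_le_sum {s : Finset Ω} (hs : s ⊆ univ \ line G a b) :
    ∑ x : Ω, phi G a b x ≤
      ((line G a b).card : ℤ) * ((ps G a b).card : ℤ) + ∑ x ∈ s, phi G a b x := by
  rw [← sum_sdiff (subset_univ (line G a b)),
    sum_congr rfl fun x (hx : x ∈ line G a b) => phi_line a b hx, sum_const, nsmul_eq_mul,
    add_comm]
  refine add_le_add le_rfl ?_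
  rw [← sum_sdiff hs]
  have : ∑ x ∈ (univ \ line G a b) \ s, phi G a b x ≤ 0 :=
    sum_nonpos fun x hx => phi_nonpos a b (mem_sdiff.1 (mem_sdiff.1 hx).1).2
  linarith

/-- Either all orbits outside the line have two points, or the excess drops by `2 |H|`. -/
theorem phi_cases [FaithfulSMul G Ω] (h2 : Trans2 G Ω) (hn : 6 ≤ Fintype.card Ω) :
    ((∀ x, x ∉ line G a b → (orb G a b x).card = 2) ∧
      ∑ x : Ω, phi G a b x = ((line G a b).card : ℤ) * ((ps G a b).card : ℤ)) ∨
    ∑ x : Ω, phi G a b x ≤ (((line G a b).card : ℤ) - 2) * ((ps G a b).card : ℤ) := by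
  by_cases hall : ∀ x, x ∉ line G a b → (orb G a b x).card = 2
  · refine Or.inl ⟨hall, ?_⟩
    rw [← sum_sdiff (subset_univ (line G a b)),
      sum_congr rfl fun x (hx : x ∈ line G a b) => phi_line a b hx,
      sum_eq_zero fun x hx => phi_eq_zero a b (hall x (mem_sdiff.1 hx).2), sum_const, nsmul_eq_mul,
      zero_add]
  simp only [not_forall] at hall
  obtain ⟨x, hx, hx2⟩ := hall
  have hx3 : 3 ≤ (orb G a b x).card := by
    have := two_le_card_orb a b hx
    omega
  have hh : (0 : ℤ) ≤ ((ps G a b).card : ℤ) := Nat.cast_nonneg _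
  by_cases h4 : 4 ≤ (orb G a b x).card
  · refine Or.inr ((sum_phi_le_sum a b (orb_subset_compl a b hx)).trans ?_)
    rw [sum_phi_orb]
    have : (4 : ℤ) ≤ ((orb G a b x).card : ℤ) := by exact_mod_cast h4
    nlinarith
  have hcard : (orb G a b x).card = 3 := by omega
  by_cases hsec : ∃ y, y ∉ line G a b ∧ y ∉ orb G a b x ∧ (orb G a b y).card ≠ 2
  · obtain ⟨y, hy, hyo, hy2⟩ := hsec
    have hy3 : (3 : ℤ) ≤ ((orb G a b y).card : ℤ) := by
      have := two_le_card_orb a b hy
      exact_mod_cast (show 3 ≤ (orb G a b y).card by omega)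
    have hdis : Disjoint (orb G a b x) (orb G a b y) := by
      rw [disjoint_left]
      intro u hu hu'
      refine hyo ?_
      rw [← orb_eq a b hu, orb_eq a b hu']
      exact mem_orb_self a b y
    refine Or.inr ((sum_phi_le_sum a b
      (union_subset (orb_subset_compl a b hx) (orb_subset_compl a b hy))).trans ?_)
    rw [sum_union hdis, sum_phi_orb, sum_phi_orb, hcard]
    push_cast
    nlinarith
  simp only [not_exists, not_and, not_not] at hsec
  exfalso
  have hdvd : 3 ∣ Nat.card (MulAction.stabilizer G (a, b)) := by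
    have e : Nat.card (MulAction.stabilizer G (a, b)) = (ps G a b).card :=
      Nat.subtype_card (ps G a b) fun g => by simp [ps, MulAction.mem_stabilizer_iff]
    rw [e, ← orb_mul a b x, hcard]
    exact dvd_mul_right _ _
  have : Fact (Nat.Prime 3) := ⟨Nat.prime_three⟩
  obtain ⟨g, hg⟩ := exists_prime_orderOf_dvd_card' 3 hdvd
  rw [← Subgroup.orderOf_coe] at hg
  have hgH : (g : G) ∈ ps G a b := by
    exact mem_filter.2 ⟨mem_univ _, MulAction.mem_stabilizer_iff.1 g.2⟩
  refine no_three a b h2 hn hcard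
    (fun h => (mem_sdiff.1 (orb_subset_compl a b hx h)).2 (left_mem_line a b))
    (fun h => (mem_sdiff.1 (orb_subset_compl a b hx h)).2 (right_mem_line a b))
    (g := (g : G)) (fun e => by rw [e, orderOf_one] at hg; omega) ?_
    (fun k hk y hy => smul_mem_orb a b hk hy)
  intro u hu
  by_cases hul : u ∈ line G a b
  · exact mem_line.1 hul _ hgH
  have h2u := hsec u hul hu
  have hg3 : (g : G) ^ 3 = 1 := hg ▸ pow_orderOf_eq_one (g : G)
  have hu1 := smul_mem_orb a b hgH (mem_orb_self a b u)
  have hu2 := smul_mem_orb a b hgH hu1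
  by_contra hne
  have hne2 : (g : G) • (g : G) • u ≠ (g : G) • u := fun e =>
    hne (MulAction.injective (g : G) e)
  have hne3 : (g : G) • (g : G) • u ≠ u := fun e => by
    refine hne ?_
    have h3 : (g : G) • (g : G) • (g : G) • u = u := by
      rw [← mul_smul, ← mul_smul]
      have : (g : G) * g * g = (g : G) ^ 3 := by simp [pow_succ]
      rw [mul_assoc] at this ⊢
      rw [this, hg3, one_smul]
    rwa [e] at h3
  have hsub : ({u, (g : G) • u, (g : G) • (g : G) • u} : Finset Ω) ⊆ orb G a b u := by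
    intro w hw
    simp only [mem_insert, mem_singleton] at hw
    rcases hw with rfl | rfl | rfl
    exacts [mem_orb_self a b w, hu1, hu2]
  have := card_le_card hsub
  rw [h2u, card_insert_of_notMem (by simp [Ne.symm hne, Ne.symm hne3]),
    card_pair hne2.symm] at this
  omega

/-- Lines through an outside point separate the fixed points of an element. -/
theorem line_eq_of_mem (h2 : Trans2 G Ω) {z x u : Ω} (hzx : z ≠ x) (hu : u ∈ line G z x)
    (huz : u ≠ z) : ps G z u = ps G z x := by
  refine (eq_of_subset_of_card_le (fun g hg => ?_) ?_).symm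
  · exact mem_ps.2 ⟨(mem_ps.1 hg).1, mem_line.1 hu g hg⟩
  · exact (card_ps h2 hzx (Ne.symm huz)).le

theorem card_line (h2 : Trans2 G Ω) {x y x' y' : Ω} (hxy : x ≠ y) (hxy' : x' ≠ y') :
    (line G x' y').card = (line G x y).card := by
  obtain ⟨k, h1, h2'⟩ := h2 x y x' y' hxy hxy'
  refine card_bij (fun u _ => k⁻¹ • u) ?_ ?_ ?_
  · intro u hu
    refine mem_line.2 fun g hg => ?_
    have hg' : k * g * k⁻¹ ∈ ps G x' y' := by
      rw [mem_ps] at hg ⊢
      constructor
      · rw [mul_smul, mul_smul, ← h1, inv_smul_smul, hg.1]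
      · rw [mul_smul, mul_smul, ← h2', inv_smul_smul, hg.2]
    have := mem_line.1 hu _ hg'
    rw [mul_smul, mul_smul] at this
    exact smul_left_cancel k (this.trans (smul_inv_smul k u).symm)
  · intro u _ v _ e
    exact smul_left_cancel k⁻¹ e
  · intro u hu
    refine ⟨k • u, mem_line.2 fun g hg => ?_, inv_smul_smul _ _⟩
    have hg' : k⁻¹ * g * k ∈ ps G x y := by
      rw [mem_ps] at hg ⊢
      constructor
      · rw [mul_smul, mul_smul, h1, hg.1, inv_smul_eq_iff, h1]
      · rw [mul_smul, mul_smul, h2', hg.2, inv_smul_eq_iff, h2']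
    have := mem_line.1 hu _ hg'
    rw [mul_smul, mul_smul, inv_smul_eq_iff] at this
    exact this

theorem lines_disjoint (h2 : Trans2 G Ω) {g : G} {z : Ω} (hz : z ∉ fx g) :
    Set.PairwiseDisjoint (↑(fx g : Finset Ω) : Set Ω) fun x => (line G z x).erase z := by
  intro x hx x' hx' hne
  have hxg := mem_fx.1 hx
  have hx'g := mem_fx.1 hx'
  have hzx : z ≠ x := fun e => hz (e ▸ hx)
  have hzx' : z ≠ x' := fun e => hz (e ▸ hx')
  refine disjoint_left.2 fun u hu hu' => ?_
  obtain ⟨huz, hu⟩ := mem_erase.1 hu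
  obtain ⟨-, hu'⟩ := mem_erase.1 hu'
  have e : ps G z x = ps G z x' :=
    (line_eq_of_mem h2 hzx hu huz).symm.trans (line_eq_of_mem h2 hzx' hu' huz)
  have e' : ps G z x = ps G x x' := by
    refine eq_of_subset_of_card_le (fun k hk => ?_) (card_ps h2 hzx hne).le
    exact mem_ps.2 ⟨(mem_ps.1 hk).2, (mem_ps.1 (e ▸ hk)).2⟩
  have : g ∈ ps G z x := e' ▸ mem_ps.2 ⟨hxg, hx'g⟩
  exact hz (mem_fx.2 (mem_ps.1 this).1)

theorem card_biUnion_lines (h2 : Trans2 G Ω) (hab : a ≠ b) {g : G} {z : Ω} (hz : z ∉ fx g) :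
    ((fx g : Finset Ω).biUnion fun x => (line G z x).erase z).card =
      (fx g : Finset Ω).card * ((line G a b).card - 1) := by
  rw [card_biUnion (lines_disjoint h2 hz), sum_const_nat]
  intro x hx
  rw [card_erase_of_mem (left_mem_line z x), card_line h2 hab]
  exact fun e => hz (e ▸ hx)

theorem fixed_bound [FaithfulSMul G Ω] (h2 : Trans2 G Ω) (hab : a ≠ b) {g : G} (hg1 : g ≠ 1) :
    (fx g : Finset Ω).card * ((line G a b).card - 1) + 1 ≤ Fintype.card Ω := by
  obtain ⟨z, hz⟩ : ∃ z, z ∉ (fx g : Finset Ω) := by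
    by_contra! hall
    exact hg1 (eq_of_smul_eq_smul fun u : Ω => by rw [mem_fx.1 (hall u), one_smul])
  have hle := card_le_card (s := (fx g : Finset Ω).biUnion fun x => (line G z x).erase z)
    (t := univ.erase z) fun u hu => by
      obtain ⟨x, -, hu⟩ := mem_biUnion.1 hu
      exact mem_erase.2 ⟨(mem_erase.1 hu).1, mem_univ _⟩
  rw [card_biUnion_lines a b h2 hab hz, card_erase_of_mem (mem_univ z), card_univ] at hle
  have : 0 < Fintype.card Ω := Fintype.card_pos_iff.2 ⟨z⟩
  omega

/-- If every orbit outside the line has two points then the stabiliser has exponent two. -/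
theorem exponent_two [FaithfulSMul G Ω]
    (hall : ∀ x, x ∉ line G a b → (orb G a b x).card = 2) {g : G} (hg : g ∈ ps G a b) :
    g * g = 1 := by
  refine eq_of_smul_eq_smul fun u : Ω => ?_
  rw [one_smul, mul_smul]
  by_cases hu : u ∈ line G a b
  · rw [mem_line.1 hu g hg, mem_line.1 hu g hg]
  by_cases h1 : g • u = u
  · rw [h1, h1]
  have hpair : ({g • u, u} : Finset Ω) = orb G a b u := by
    refine eq_of_subset_of_card_le ?_ (by rw [hall u hu, card_pair h1])
    intro w hw
    simp only [mem_insert, mem_singleton] at hw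
    rcases hw with rfl | rfl
    exacts [smul_mem_orb a b hg (mem_orb_self a b u), mem_orb_self a b w]
  have hm := smul_mem_orb a b hg (smul_mem_orb a b hg (mem_orb_self a b u))
  rw [← hpair, mem_insert, mem_singleton] at hm
  rcases hm with e | e
  · exact absurd (MulAction.injective g e) h1
  · exact e

theorem even_compl_line (hall : ∀ x, x ∉ line G a b → (orb G a b x).card = 2) :
    2 ∣ Fintype.card Ω - (line G a b).card := by
  rw [← card_univ, ← card_sdiff_of_subset (subset_univ _),
    card_eq_sum_card_image (fun x => orb G a b x) (univ \ line G a b)]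
  refine dvd_sum fun O hO => ?_
  obtain ⟨x, hx, rfl⟩ := mem_image.1 hO
  have hx' := (mem_sdiff.1 hx).2
  suffices h : ((univ \ line G a b).filter fun y => orb G a b y = orb G a b x) = orb G a b x by
    rw [h, hall x hx']
  ext y
  simp only [mem_filter]
  exact ⟨fun h => h.2 ▸ mem_orb_self a b y,
    fun h => ⟨orb_subset_compl a b hx' h, orb_eq a b h⟩⟩

end Cfsg.Agent.Derange
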