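import Mathlib
import Cfsg.Agent.Lib.Char.DerangePairStab

/-!
Two-transitive groups of degree at least seven that are not sharply two-transitive have at least
`2 |G| / n` derangements.
-/

set_option autoImplicit false
set_option linter.unusedSectionVars false
set_option linter.style.haveILetI false

namespace Cfsg.Agent.Derange

open Finset

variable {G Ω : Type*} [Group G] [Fintype G] [DecidableEq G] [MulAction G Ω] [Fintype Ω]
  [DecidableEq Ω] [FaithfulSMul G Ω]

theorem line_subset_fx {a b : Ω} {g : G} (hg : g ∈ ps G a b) : line G a b ⊆ fx g :=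
  fun _ hu => mem_fx.2 (mem_line.1 hu g hg)

theorem two_le_card_line {a b : Ω} (hab : a ≠ b) : 2 ≤ (line G a b).card :=
  one_lt_card.2 ⟨a, left_mem_line a b, b, right_mem_line a b, hab⟩

theorem fx_one : (fx (1 : G) : Finset Ω) = univ := by
  ext x
  simp [mem_fx]

theorem card_fx_pos {a b : Ω} {g : G} (hg : g ∈ ps G a b) :
    0 < (fx g : Finset Ω).card :=
  card_pos.2 ⟨a, mem_fx.2 (mem_ps.1 hg).1⟩

variable (a b : Ω)

/-- The excess of an element: `(n - 2 f) / f`. -/
noncomputable def exc (Ω : Type*) [MulAction G Ω] [Fintype Ω] [DecidableEq Ω] (g : G) : ℚ :=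
  ((Fintype.card Ω : ℚ) - 2 * ((fx g : Finset Ω).card : ℚ)) / ((fx g : Finset Ω).card : ℚ)

theorem sum_wt : ∑ g ∈ ps G a b, wt Ω g =
    ∑ g ∈ (ps G a b).erase 1, exc Ω g + (((ps G a b).card : ℚ) - 1) := by
  have h0 : wt Ω (1 : G) = 0 := by simp [wt, fx_one]
  rw [← add_sum_erase _ _ (one_mem_ps a b), h0, zero_add]
  have hc : (((ps G a b).card : ℚ) - 1) = ∑ g ∈ (ps G a b).erase 1, (1 : ℚ) := by
    rw [sum_const, nsmul_eq_mul, mul_one, card_erase_of_mem (one_mem_ps a b),
      Nat.cast_sub (card_pos.2 ⟨1, one_mem_ps a b⟩)]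
    simp
  rw [hc, ← sum_add_distrib]
  refine sum_congr rfl fun g hg => ?_
  have : ((fx g : Finset Ω).card : ℚ) ≠ 0 :=
    Nat.cast_ne_zero.2 (card_fx_pos (mem_erase.1 hg).2).ne'
  rw [wt, exc, div_add_one this]
  ring

theorem sum_gap : (∑ g ∈ (ps G a b).erase 1,
      ((Fintype.card Ω : ℤ) - 2 * ((fx g : Finset Ω).card : ℤ))) =
    (Fintype.card Ω : ℤ) - ∑ x : Ω, phi G a b x := by
  have h1 : ∑ g ∈ ps G a b, ((fx g : Finset Ω).card : ℤ) =
      (Fintype.card Ω : ℤ) + ∑ g ∈ (ps G a b).erase 1, ((fx g : Finset Ω).card : ℤ) := by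
    rw [← add_sum_erase _ _ (one_mem_ps a b), fx_one, card_univ]
  rw [sum_phi, h1, sum_sub_distrib, sum_const, ← mul_sum, nsmul_eq_mul,
    card_erase_of_mem (one_mem_ps a b), Nat.cast_sub (card_pos.2 ⟨1, one_mem_ps a b⟩)]
  push_cast
  ring

theorem excess_of_jensen (hh : 2 ≤ (ps G a b).card)
    (hJ : (2 * ((ps G a b).card : ℤ) - 1) * ∑ x : Ω, phi G a b x ≤
      (Fintype.card Ω : ℤ) * ((ps G a b).card : ℤ)) :
    1 ≤ ∑ g ∈ (ps G a b).erase 1, exc Ω g := by
  have hgapZ := sum_gap (G := G) a b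
  have hgap : ∑ g ∈ (ps G a b).erase 1,
      ((Fintype.card Ω : ℚ) - 2 * ((fx g : Finset Ω).card : ℚ)) =
      (Fintype.card Ω : ℚ) - ((∑ x : Ω, phi G a b x : ℤ) : ℚ) := by
    exact_mod_cast hgapZ
  have hJ' : (2 * ((ps G a b).card : ℚ) - 1) * ((∑ x : Ω, phi G a b x : ℤ) : ℚ) ≤
      (Fintype.card Ω : ℚ) * ((ps G a b).card : ℚ) := by exact_mod_cast hJ
  obtain ⟨Φ, hΦ⟩ : ∃ Φ : ℚ, Φ = ((∑ x : Ω, phi G a b x : ℤ) : ℚ) := ⟨_, rfl⟩
  rw [← hΦ] at hgap hJ'
  set s := (ps G a b).erase 1 with hs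
  have hpos : ∀ g ∈ s, (0 : ℚ) < ((fx g : Finset Ω).card : ℚ) := fun g hg =>
    Nat.cast_pos.2 (card_fx_pos (mem_erase.1 hg).2)
  have hsc : (s.card : ℚ) = ((ps G a b).card : ℚ) - 1 := by
    rw [hs, card_erase_of_mem (one_mem_ps a b),
      Nat.cast_sub (card_pos.2 ⟨1, one_mem_ps a b⟩)]
    simp
  have hne : s.Nonempty := by
    rw [← card_pos, hs, card_erase_of_mem (one_mem_ps a b)]
    omega
  have hS : (0 : ℚ) < ∑ g ∈ s, ((fx g : Finset Ω).card : ℚ) := sum_pos hpos hne
  rw [sum_sub_distrib, sum_const, nsmul_eq_mul, ← mul_sum, hsc] at hgap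
  have hcs := sq_sum_div_le_sum_sq_div s (fun _ => (1 : ℚ)) hpos
  simp only [one_pow, sum_const, nsmul_eq_mul, mul_one, hsc] at hcs
  have hexc : ∑ g ∈ s, exc Ω g =
      (Fintype.card Ω : ℚ) * ∑ g ∈ s, 1 / ((fx g : Finset Ω).card : ℚ) -
        2 * (((ps G a b).card : ℚ) - 1) := by
    rw [← hsc, mul_sum, mul_comm (2 : ℚ), ← nsmul_eq_mul, ← sum_const, ← sum_sub_distrib]
    refine sum_congr rfl fun g hg => ?_
    have := (hpos g hg).ne'
    rw [exc]
    field_simp
  rw [hexc]
  generalize (∑ g ∈ s, ((fx g : Finset Ω).card : ℚ)) = S at hS hcs hgap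
  generalize (∑ g ∈ s, 1 / ((fx g : Finset Ω).card : ℚ)) = I at hcs ⊢
  rw [div_le_iff₀ hS] at hcs
  have hn0 : (0 : ℚ) ≤ (Fintype.card Ω : ℚ) := Nat.cast_nonneg _
  generalize ((Fintype.card Ω : ℕ) : ℚ) = n at hgap hJ' hn0 ⊢
  generalize (((ps G a b).card : ℕ) : ℚ) = h at hgap hJ' hcs ⊢
  have hS' : S = ((h - 2) * n + Φ) / 2 := by linarith
  have key : (2 * h - 1) * S ≤ n * (h - 1) ^ 2 := by
    rw [hS']
    nlinarith
  have : 2 * h - 1 ≤ n * I := by
    refine le_of_mul_le_mul_right ?_ hS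
    nlinarith [mul_le_mul_of_nonneg_left hcs hn0]
  linarith

theorem excess_ge_sum_gap {M : ℕ} (hM : 0 < M)
    (hf : ∀ g ∈ (ps G a b).erase 1, (fx g : Finset Ω).card ≤ M ∧
      2 * (fx g : Finset Ω).card ≤ Fintype.card Ω) :
    ((((Fintype.card Ω : ℤ) - ∑ x : Ω, phi G a b x : ℤ)) : ℚ) / (M : ℚ) ≤
      ∑ g ∈ (ps G a b).erase 1, exc Ω g := by
  rw [← sum_gap]
  push_cast
  rw [sum_div]
  refine sum_le_sum fun g hg => ?_
  refine div_le_div_of_nonneg_left (sub_nonneg.2 ?_)
    (Nat.cast_pos.2 (card_fx_pos (mem_erase.1 hg).2)) ?_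
  · exact_mod_cast (hf g hg).2
  · exact_mod_cast (hf g hg).1

theorem excess_four (h2 : Trans2 G Ω) (hab : a ≠ b) (hh : 2 ≤ (ps G a b).card)
    (ht : 4 ≤ (line G a b).card) : 1 ≤ ∑ g ∈ (ps G a b).erase 1, exc Ω g := by
  have hone : ∀ g ∈ (ps G a b).erase 1, (1 : ℚ) ≤ exc Ω g := by
    intro g hg
    obtain ⟨hg1, hgH⟩ := mem_erase.1 hg
    have hb := fixed_bound a b h2 hab hg1
    have h3 : (fx g : Finset Ω).card * 3 + 1 ≤ Fintype.card Ω :=
      le_trans (Nat.add_le_add_right (Nat.mul_le_mul_left _ (by omega)) 1) hb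
    rw [exc, le_div_iff₀ (Nat.cast_pos.2 (card_fx_pos hgH)), one_mul, le_sub_iff_add_le]
    exact_mod_cast (show (fx g : Finset Ω).card + 2 * (fx g : Finset Ω).card ≤ Fintype.card Ω by
      omega)
  obtain ⟨g, hg⟩ : ((ps G a b).erase 1).Nonempty := by
    rw [← card_pos, card_erase_of_mem (one_mem_ps a b)]
    omega
  exact (hone g hg).trans
    (single_le_sum (fun k hk => le_trans zero_le_one (hone k hk)) hg)

theorem card_stab_pair (h2 : Trans2 G Ω) (hab : a ≠ b) :
    (univ : Finset Ω).offDiag.card * (ps G a b).card = Fintype.card G :=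
  (card_eq_pairs_mul h2 hab).symm

/-- The case of an elementary abelian pair stabiliser fixing only the two points. -/
theorem excess_two (h2 : Trans2 G Ω) (hab : a ≠ b) (hn : 7 ≤ Fintype.card Ω)
    (hh : 3 ≤ (ps G a b).card) (ht : (line G a b).card = 2)
    (hall : ∀ x, x ∉ line G a b → (orb G a b x).card = 2) :
    1 ≤ ∑ g ∈ (ps G a b).erase 1, exc Ω g := by
  classical
  have hline : line G a b = {a, b} := by
    refine (eq_of_subset_of_card_le ?_ (by rw [ht, card_pair hab])).symm
    intro u hu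
    simp only [mem_insert, mem_singleton] at hu
    rcases hu with rfl | rfl
    exacts [left_mem_line u b, right_mem_line a u]
  have heven : 2 ∣ Fintype.card Ω := by
    have h := even_compl_line a b hall
    rw [ht] at h
    omega
  let X : Subgroup G := MulAction.stabilizer G a
  let H : Subgroup X := MulAction.stabilizer X b
  have hXfix : ∀ k : X, (k : G) • a = a := fun k => k.2
  have hmemH : ∀ k : X, k ∈ H ↔ (k : G) ∈ ps G a b := fun k => by
    simp only [H, MulAction.mem_stabilizer_iff, mem_ps, Subgroup.smul_def]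
    exact ⟨fun h => ⟨k.2, h⟩, fun h => h.2⟩
  have horb : MulAction.orbit X b = ↑((univ : Finset Ω).erase a) := by
    ext u
    simp only [coe_erase, coe_univ, Set.mem_sdiff, Set.mem_univ, true_and, Set.mem_singleton_iff,
      MulAction.mem_orbit_iff]
    constructor
    · rintro ⟨k, rfl⟩ e
      exact hab (smul_left_cancel (k : G) ((hXfix k).trans e.symm))
    · intro hu
      obtain ⟨k, hk1, hk2⟩ := h2 a b a u hab (Ne.symm hu)
      exact ⟨⟨k, hk1⟩, hk2⟩
  have hidx : H.index = Fintype.card Ω - 1 := by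
    rw [MulAction.index_stabilizer, horb, Set.ncard_coe_finset, card_erase_of_mem (mem_univ a),
      card_univ]
  have hsq : ∀ k : X, k ∈ H → k * k = 1 := fun k hk =>
    Subtype.ext (exponent_two a b hall ((hmemH k).1 hk))
  haveI : Fact (Nat.Prime 2) := ⟨Nat.prime_two⟩
  have hp : IsPGroup 2 H := fun k => ⟨1, by
    rw [pow_one, pow_two]
    exact Subtype.ext (hsq k k.2)⟩
  have hnd : ¬ 2 ∣ H.index := by
    rw [hidx]
    omega
  let P : Sylow 2 X := hp.toSylow hnd
  have hN : Subgroup.normalizer ((P : Subgroup X) : Set X) ≤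
      Subgroup.centralizer ((P : Subgroup X) : Set X) := by
    intro k hk
    have hkb : (k : G) • b ∈ line G a b := by
      refine mem_line.2 fun g hg => ?_
      let g' : X := ⟨g, (mem_ps.1 hg).1⟩
      have hm : k⁻¹ * g' * k ∈ H := by
        have h1 : g' ∈ (P : Subgroup X) := (hmemH g').2 hg
        exact (Subgroup.mem_normalizer_iff''.1 hk g').1 h1
      have hfix := (mem_ps.1 ((hmemH _).1 hm)).2
      simp only [Subgroup.coe_mul, Subgroup.coe_inv, mul_smul, inv_smul_eq_iff] at hfix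
      exact hfix
    rw [hline, mem_insert, mem_singleton] at hkb
    have hkb' : (k : G) • b = b := hkb.resolve_left fun e =>
      hab (smul_left_cancel (k : G) ((hXfix k).trans e.symm))
    have hkH : k ∈ H := (hmemH k).2 (mem_ps.2 ⟨k.2, hkb'⟩)
    rw [Subgroup.mem_centralizer_iff]
    intro x hx
    have e1 : (x * k) * (x * k) = 1 := hsq _ (H.mul_mem hx hkH)
    calc x * k = (x * k)⁻¹ := eq_inv_of_mul_eq_one_left e1
      _ = k * x := by
        rw [mul_inv_rev, inv_eq_of_mul_eq_one_left (hsq k hkH),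
          inv_eq_of_mul_eq_one_left (hsq x hx)]
  set R : Subgroup X := (MonoidHom.transferSylow P hN).ker with hR
  have hc : Subgroup.IsComplement' R (P : Subgroup X) :=
    MonoidHom.ker_transferSylow_isComplement' P hN
  have hcardR : Nat.card R = Fintype.card Ω - 1 := by
    rw [← hidx]
    exact hc.index_eq_card.symm
  have hdis : ∀ k : X, k ∈ R → k ∈ H → k = 1 := fun k h1 h3 => by
    have : k ∈ R ⊓ (P : Subgroup X) := ⟨h1, h3⟩
    rwa [disjoint_iff.1 hc.disjoint, Subgroup.mem_bot] at this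
  have hinj : Function.Injective fun r : R => ((r : X) : G) • b := by
    intro r r' e
    have hm : ((r' : X)⁻¹ * (r : X)) ∈ H := by
      refine (hmemH _).2 (mem_ps.2 ⟨((r' : X)⁻¹ * (r : X)).2, ?_⟩)
      simp only [Subgroup.coe_mul, Subgroup.coe_inv, mul_smul, inv_smul_eq_iff]
      exact e
    exact Subtype.ext
      (inv_mul_eq_one.1 (hdis _ (R.mul_mem (R.inv_mem r'.2) r.2) hm)).symm
  have hbound : ∀ g ∈ (ps G a b).erase 1,
      3 * (fx g : Finset Ω).card ≤ Fintype.card Ω + 2 := by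
    intro g hg
    obtain ⟨hg1, hgH⟩ := mem_erase.1 hg
    let x : X := ⟨g, (mem_ps.1 hgH).1⟩
    have hxH : x ∈ H := (hmemH x).2 hgH
    let S : Subgroup R := (Subgroup.centralizer ({x} : Set X)).subgroupOf R
    have hsub : (univ : Finset R).image (fun r : R => ((r : X) : G) • b) = univ.erase a := by
      refine eq_of_subset_of_card_le (fun u hu => ?_) ?_
      · obtain ⟨r, -, rfl⟩ := mem_image.1 hu
        exact mem_erase.2 ⟨fun e => hab (smul_left_cancel ((r : X) : G)
          ((hXfix r).trans e.symm)), mem_univ _⟩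
      · rw [card_image_of_injective _ hinj, card_erase_of_mem (mem_univ a), card_univ,
          card_univ, ← Nat.card_eq_fintype_card (α := R), hcardR]
    have hfx : (fx g : Finset Ω) ⊆ insert a
        (((univ : Finset R).filter fun r => r ∈ S).image fun r : R => ((r : X) : G) • b) := by
      intro u hu
      rw [mem_insert]
      by_cases hua : u = a
      · exact Or.inl hua
      have : u ∈ (univ : Finset R).image (fun r : R => ((r : X) : G) • b) := by
        rw [hsub]
        exact mem_erase.2 ⟨hua, mem_univ _⟩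
      obtain ⟨r, -, hru⟩ := mem_image.1 this
      refine Or.inr (mem_image.2 ⟨r, mem_filter.2 ⟨mem_univ _, ?_⟩, hru⟩)
      have hy : (r : X)⁻¹ * x * (r : X) ∈ H := by
        refine (hmemH _).2 (mem_ps.2 ⟨((r : X)⁻¹ * x * (r : X)).2, ?_⟩)
        simp only [Subgroup.coe_mul, Subgroup.coe_inv, mul_smul]
        rw [hru]
        show ((r : X) : G)⁻¹ • g • u = b
        rw [mem_fx.1 hu, ← hru, inv_smul_smul]
      have hz : (r : X)⁻¹ * x * (r : X) * x⁻¹ ∈ R := by
        rw [mul_assoc (r : X)⁻¹ x (r : X), mul_assoc]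
        exact R.mul_mem (R.inv_mem r.2) ((hR ▸ inferInstance : R.Normal).conj_mem _ r.2 x)
      have h1 := hdis _ hz (H.mul_mem hy (H.inv_mem hxH))
      show (r : X) ∈ Subgroup.centralizer ({x} : Set X)
      rw [Subgroup.mem_centralizer_singleton_iff]
      rw [mul_inv_eq_one, mul_assoc, inv_mul_eq_iff_eq_mul] at h1
      exact h1.symm
    have hScard : ((univ : Finset R).filter fun r => r ∈ S).card = Nat.card S :=
      (Nat.subtype_card _ (fun r => by simp)).symm
    have hle : (fx g : Finset Ω).card ≤ Nat.card S + 1 := by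
      refine (card_le_card hfx).trans ((card_insert_le _ _).trans (Nat.add_le_add_right ?_ 1))
      exact card_image_le.trans hScard.le
    have hne : S ≠ ⊤ := by
      intro htop
      refine hg1 (eq_of_smul_eq_smul fun u : Ω => ?_)
      rw [one_smul]
      by_cases hua : u = a
      · rw [hua]
        exact (mem_ps.1 hgH).1
      have : u ∈ (univ : Finset R).image (fun r : R => ((r : X) : G) • b) := by
        rw [hsub]
        exact mem_erase.2 ⟨hua, mem_univ _⟩
      obtain ⟨r, -, hru⟩ := mem_image.1 this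
      have hcm : (r : X) ∈ Subgroup.centralizer ({x} : Set X) := by
        have : r ∈ S := htop ▸ Subgroup.mem_top r
        exact this
      have hc' : ((r : X) : G) * g = g * ((r : X) : G) :=
        congrArg Subtype.val (Subgroup.mem_centralizer_singleton_iff.1 hcm)
      rw [← hru, ← mul_smul, ← hc', mul_smul, (mem_ps.1 hgH).2]
    have hmul : Nat.card S * S.index = Fintype.card Ω - 1 := by
      rw [Subgroup.card_mul_index, hcardR]
    have hi1 : S.index ≠ 1 := fun e => hne (Subgroup.index_eq_one.1 e)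
    have hi2 : S.index ≠ 2 := fun e => by
      rw [e] at hmul
      omega
    have hi0 : S.index ≠ 0 := Subgroup.index_ne_zero_of_finite
    have h3 : Nat.card S * 3 ≤ Fintype.card Ω - 1 :=
      hmul ▸ Nat.mul_le_mul_left _ (by omega)
    omega
  have hterm : ∀ g ∈ (ps G a b).erase 1,
      ((Fintype.card Ω : ℚ) - 4) / ((Fintype.card Ω : ℚ) + 2) ≤ exc Ω g := by
    intro g hg
    have h3 : 3 * ((fx g : Finset Ω).card : ℚ) ≤ (Fintype.card Ω : ℚ) + 2 := by
      exact_mod_cast hbound g hg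
    have hf : (0 : ℚ) < ((fx g : Finset Ω).card : ℚ) :=
      Nat.cast_pos.2 (card_fx_pos (mem_erase.1 hg).2)
    rw [exc, div_le_div_iff₀ (by positivity) hf]
    have h7 : (7 : ℚ) ≤ (Fintype.card Ω : ℚ) := by exact_mod_cast hn
    nlinarith
  have hev : 4 ≤ (ps G a b).card := by
    have e : (ps G a b).card = Nat.card (MulAction.stabilizer G (a, b)) :=
      (Nat.subtype_card (ps G a b) fun g => by simp [ps, MulAction.mem_stabilizer_iff]).symm
    by_contra hlt
    have h3 : (ps G a b).card = 3 := by omega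
    haveI : Fact (Nat.Prime 3) := ⟨Nat.prime_three⟩
    obtain ⟨g, hg⟩ := exists_prime_orderOf_dvd_card'
      (G := MulAction.stabilizer G (a, b)) 3 (by rw [← e, h3])
    have hgg : g * g = 1 := Subtype.ext
      (exponent_two a b hall (mem_filter.2 ⟨mem_univ _, MulAction.mem_stabilizer_iff.1 g.2⟩))
    have := orderOf_dvd_of_pow_eq_one (n := 2) (by rw [pow_two, hgg] : g ^ 2 = 1)
    rw [hg] at this
    exact absurd this (by decide)
  refine le_trans ?_ (sum_le_sum hterm)
  rw [sum_const, nsmul_eq_mul, card_erase_of_mem (one_mem_ps a b), Nat.cast_sub (by omega)]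
  have h7 : (7 : ℚ) ≤ (Fintype.card Ω : ℚ) := by exact_mod_cast hn
  have h4 : (4 : ℚ) ≤ ((ps G a b).card : ℚ) := by exact_mod_cast hev
  rw [mul_div_assoc', le_div_iff₀ (by positivity)]
  push_cast
  nlinarith

/-- Elements fixing just under half of the points meet in two common fixed points. -/
theorem common_two (h2 : Trans2 G Ω) (hab : a ≠ b) (ht : (line G a b).card = 3)
    (hn : 9 ≤ Fintype.card Ω) {g g' : G} (hg : 2 * (fx g : Finset Ω).card + 1 = Fintype.card Ω)
    (hg' : 2 * (fx g' : Finset Ω).card + 1 = Fintype.card Ω) :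
    ∃ x y : Ω, x ≠ y ∧ g • x = x ∧ g • y = y ∧ g' • x = x ∧ g' • y = y := by
  suffices h : 2 ≤ ((fx g : Finset Ω) ∩ fx g').card by
    obtain ⟨x, hx, y, hy, hxy⟩ := one_lt_card.1 h
    simp only [mem_inter, mem_fx] at hx hy
    exact ⟨x, y, hxy, hx.1, hy.1, hx.2, hy.2⟩
  by_cases hs : (fx g' : Finset Ω) ⊆ fx g
  · rw [inter_eq_right.2 hs]
    omega
  obtain ⟨z, hz', hz⟩ := not_subset.1 hs
  have hcov : (fx g : Finset Ω).biUnion (fun x => (line G z x).erase z) = univ.erase z := by
    refine eq_of_subset_of_card_le (fun u hu => ?_) ?_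
    · obtain ⟨x, -, hu⟩ := mem_biUnion.1 hu
      exact mem_erase.2 ⟨(mem_erase.1 hu).1, mem_univ _⟩
    · rw [card_biUnion_lines a b h2 hab hz, ht, card_erase_of_mem (mem_univ z), card_univ]
      omega
  have hsub : (fx g' : Finset Ω).erase z ⊆
      ((fx g : Finset Ω) ∩ fx g').biUnion fun x => (line G z x).erase z := by
    intro y hy
    obtain ⟨hyz, hy'⟩ := mem_erase.1 hy
    have : y ∈ (fx g : Finset Ω).biUnion (fun x => (line G z x).erase z) := by
      rw [hcov]
      exact mem_erase.2 ⟨hyz, mem_univ _⟩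
    obtain ⟨x, hx, hyx⟩ := mem_biUnion.1 this
    have hzx : z ≠ x := fun e => hz (e ▸ hx)
    have e : ps G z y = ps G z x := line_eq_of_mem h2 hzx (mem_erase.1 hyx).2 hyz
    have hm : g' ∈ ps G z x := e ▸ mem_ps.2 ⟨mem_fx.1 hz', mem_fx.1 hy'⟩
    exact mem_biUnion.2 ⟨x, mem_inter.2 ⟨hx, mem_fx.2 (mem_ps.1 hm).2⟩, hyx⟩
  have hle := (card_le_card hsub).trans card_biUnion_le
  rw [card_erase_of_mem hz'] at hle
  have h3 : ∀ x ∈ (fx g : Finset Ω) ∩ fx g', ((line G z x).erase z).card = 2 := by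
    intro x hx
    rw [card_erase_of_mem (left_mem_line z x), card_line h2 hab, ht]
    exact fun e => hz (e ▸ (mem_inter.1 hx).1)
  rw [sum_const_nat h3] at hle
  omega

theorem not_seven (h2 : Trans2 G Ω) (hab : a ≠ b) (hn : Fintype.card Ω = 7) {g : G}
    (hg : g ∈ ps G a b) (hh : (ps G a b).card = 2) : g = 1 := by
  haveI : Fact (Nat.Prime 7) := ⟨by norm_num⟩
  have hG : Nat.card G = 84 := by
    rw [Nat.card_eq_fintype_card, ← card_stab_pair a b h2 hab, hh, offDiag_card, card_univ, hn]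
  obtain ⟨P, hP7, hnor⟩ : ∃ P : Subgroup G, Nat.card P = 7 ∧ P.Normal := by
    obtain ⟨P⟩ : Nonempty (Sylow 7 G) := inferInstance
    have hP7 : Nat.card (P : Subgroup G) = 7 := by
      rw [P.card_eq_multiplicity, hG]
      have : Nat.factorization 84 7 = 1 := by
        rw [show 84 = 7 ^ 1 * 12 by norm_num,
          Nat.factorization_mul (by norm_num) (by norm_num), Finsupp.add_apply,
          Nat.Prime.factorization_pow (by norm_num), Finsupp.single_eq_same,
          Nat.factorization_eq_zero_of_not_dvd (by norm_num)]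
      rw [this, pow_one]
    have hidx : (P : Subgroup G).index = 12 := by
      have := (P : Subgroup G).card_mul_index
      rw [hG, hP7] at this
      omega
    have hone : Nat.card (Sylow 7 G) = 1 := by
      have hd := P.card_dvd_index
      rw [hidx] at hd
      have hm := card_sylow_modEq_one 7 G
      unfold Nat.ModEq at hm
      have hle := Nat.le_of_dvd (by norm_num) hd
      generalize Nat.card (Sylow 7 G) = m at hd hm hle
      interval_cases m <;> omega
    have : Subsingleton (Sylow 7 G) := (Nat.card_eq_one_iff_unique.1 hone).1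
    exact ⟨P, hP7, Sylow.normal_of_subsingleton P⟩
  haveI : Fintype P := Fintype.ofFinite P
  -- `P` is semiregular, hence regular
  have hfree : ∀ σ : P, (σ : G) • a = a → σ = 1 := by
    intro σ hσ
    by_contra hne
    have ho : orderOf σ = 7 := by
      rcases (Nat.dvd_prime (by norm_num)).1 (hP7 ▸ orderOf_dvd_natCard σ) with h | h
      · exact absurd (orderOf_eq_one_iff.1 h) hne
      · exact h
    have hst : Nat.card (MulAction.stabilizer G a) = 12 := by
      haveI : MulAction.IsPretransitive G Ω := ⟨fun x y => by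
        by_cases hxy : x = y
        · exact ⟨1, by rw [one_smul, hxy]⟩
        obtain ⟨k, hk, -⟩ := h2 x y y x hxy (Ne.symm hxy)
        exact ⟨k, hk⟩⟩
      have := (MulAction.stabilizer G a).card_mul_index
      rw [MulAction.index_stabilizer_of_transitive, Nat.card_eq_fintype_card (α := Ω), hn,
        hG] at this
      omega
    have hd := orderOf_dvd_natCard (⟨σ, hσ⟩ : MulAction.stabilizer G a)
    rw [← Subgroup.orderOf_coe, Subgroup.orderOf_coe σ, ho, hst] at hd
    norm_num at hd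
  have hinj : Function.Injective fun σ : P => (σ : G) • a := by
    intro σ τ e
    refine (inv_mul_eq_one.1 (hfree (τ⁻¹ * σ) ?_)).symm
    simp only [Subgroup.coe_mul, Subgroup.coe_inv, mul_smul, inv_smul_eq_iff]
    exact e
  have hbij := ((Fintype.bijective_iff_injective_and_card _).2 ⟨hinj, by
    rw [← Nat.card_eq_fintype_card, hP7, hn]⟩)
  obtain ⟨σ, hσ⟩ := hbij.2 b
  simp only at hσ
  have hcomm : g * σ * g⁻¹ = σ := by
    have e : (⟨g * σ * g⁻¹, hnor.conj_mem σ σ.2 g⟩ : P) = σ := hinj (by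
      show (g * (σ : G) * g⁻¹) • a = (σ : G) • a
      rw [mul_smul, mul_smul, inv_smul_eq_iff.2 (mem_ps.1 hg).1.symm, hσ, (mem_ps.1 hg).2])
    exact congrArg Subtype.val e
  have hσ1 : σ ≠ 1 := fun e => by
    rw [e, Subgroup.coe_one, one_smul] at hσ
    exact hab hσ
  have hgen : Subgroup.zpowers σ = ⊤ := zpowers_eq_top_of_prime_card hP7 hσ1
  refine eq_of_smul_eq_smul fun u : Ω => ?_
  obtain ⟨τ, hτ⟩ := hbij.2 u
  simp only at hτ
  obtain ⟨m, hm⟩ := Subgroup.mem_zpowers_iff.1 (hgen ▸ Subgroup.mem_top τ : τ ∈ Subgroup.zpowers σ)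
  have hgσ : Commute g (σ : G) := mul_inv_eq_iff_eq_mul.1 hcomm
  have hgτ : Commute g (τ : G) := by
    rw [← hm, Subgroup.coe_zpow]
    exact hgσ.zpow_right m
  rw [one_smul, ← hτ, ← mul_smul, hgτ.eq, mul_smul, (mem_ps.1 hg).1]

/-- An element fixing just under half of the points cannot occur when all are such. -/
theorem no_all_half (h2 : Trans2 G Ω) (hab : a ≠ b) (ht : (line G a b).card = 3)
    (hall : ∀ x, x ∉ line G a b → (orb G a b x).card = 2) (hn : 9 ≤ Fintype.card Ω) {g : G}
    (hg : g ∈ ps G a b) (hg1 : g ≠ 1)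
    (hgf : 2 * (fx g : Finset Ω).card + 1 = Fintype.card Ω) : False := by
  set E : Set G := {k | 2 * (fx k : Finset Ω).card + 1 = Fintype.card Ω} with hE
  have hexp : ∀ x y : Ω, x ≠ y → ∀ k ∈ ps G x y, k * k = 1 := by
    intro x y hxy k hk
    obtain ⟨c, hc1, hc2⟩ := h2 x y a b hxy hab
    have hm : c * k * c⁻¹ ∈ ps G a b := by
      rw [mem_ps] at hk ⊢
      constructor
      · rw [mul_smul, mul_smul, inv_smul_eq_iff.2 hc1.symm, hk.1, hc1]
      · rw [mul_smul, mul_smul, inv_smul_eq_iff.2 hc2.symm, hk.2, hc2]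
    have := exponent_two a b hall hm
    rw [show c * k * c⁻¹ * (c * k * c⁻¹) = c * (k * k) * c⁻¹ by group] at this
    exact conj_eq_one_iff.1 this
  have hcomm : ∀ k ∈ E, ∀ k' ∈ E, k * k' = k' * k := by
    intro k hk k' hk'
    obtain ⟨x, y, hxy, h1, h3, h4, h5⟩ := common_two a b h2 hab ht hn hk hk'
    have hm := mem_ps.2 ⟨h1, h3⟩
    have hm' := mem_ps.2 ⟨h4, h5⟩
    have e1 := hexp x y hxy _ (mul_mem_ps hm hm')
    calc k * k' = (k * k')⁻¹ := eq_inv_of_mul_eq_one_left e1
      _ = k' * k := by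
        rw [mul_inv_rev, inv_eq_of_mul_eq_one_left (hexp x y hxy k hm),
          inv_eq_of_mul_eq_one_left (hexp x y hxy k' hm')]
  haveI hAcomm := Subgroup.isMulCommutative_closure hcomm
  have hconj : ∀ c : G, c * g * c⁻¹ ∈ E := by
    intro c
    have h : (fx (c * g * c⁻¹) : Finset Ω) = (fx g).image fun x => c • x := by
      ext x
      simp only [mem_image, mem_fx, mul_smul]
      constructor
      · intro hx
        exact ⟨c⁻¹ • x, by rw [eq_inv_smul_iff, hx], smul_inv_smul _ _⟩
      · rintro ⟨u, hu, rfl⟩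
        rw [inv_smul_smul, hu]
    show 2 * (fx (c * g * c⁻¹) : Finset Ω).card + 1 = Fintype.card Ω
    rwa [h, card_image_of_injective _ (MulAction.injective c)]
  obtain ⟨u, hu⟩ : ∃ u, g • u ≠ u := by
    by_contra! hall'
    exact hg1 (eq_of_smul_eq_smul fun x : Ω => by rw [hall', one_smul])
  have htrans : ∀ v : Ω, ∃ c ∈ Subgroup.closure E, c • a = v := by
    intro v
    by_cases hv : a = v
    · exact ⟨1, one_mem _, by rw [one_smul, hv]⟩
    obtain ⟨c, hc1, hc2⟩ := h2 u (g • u) a v (Ne.symm hu) hv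
    refine ⟨c * g * c⁻¹, Subgroup.subset_closure (hconj c), ?_⟩
    rw [mul_smul, mul_smul, inv_smul_eq_iff.2 hc1.symm, hc2]
  refine hg1 (eq_of_smul_eq_smul fun v : Ω => ?_)
  obtain ⟨c, hc, hcv⟩ := htrans v
  have hgE : g ∈ Subgroup.closure E := Subgroup.subset_closure hgf
  have hgc : g * c = c * g :=
    congrArg Subtype.val (hAcomm.is_comm.comm ⟨g, hgE⟩ ⟨c, hc⟩)
  rw [one_smul, ← hcv, ← mul_smul, hgc, mul_smul, (mem_ps.1 hg).1]

theorem excess_three (h2 : Trans2 G Ω) (hab : a ≠ b) (hn : 7 ≤ Fintype.card Ω)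
    (hh : 2 ≤ (ps G a b).card) (ht : (line G a b).card = 3) :
    1 ≤ ∑ g ∈ (ps G a b).erase 1, exc Ω g := by
  classical
  have hb : ∀ g ∈ (ps G a b).erase 1, 2 * (fx g : Finset Ω).card + 1 ≤ Fintype.card Ω := by
    intro g hg
    have := fixed_bound a b h2 hab (mem_erase.1 hg).1
    rw [ht] at this
    omega
  have hscard : (((ps G a b).erase 1).card : ℤ) = ((ps G a b).card : ℤ) - 1 := by
    rw [card_erase_of_mem (one_mem_ps a b)]
    omega
  have hgap_low : ∀ c : ℤ, (∀ g ∈ (ps G a b).erase 1,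
      c ≤ (Fintype.card Ω : ℤ) - 2 * ((fx g : Finset Ω).card : ℤ)) →
      c * (((ps G a b).card : ℤ) - 1) ≤ (Fintype.card Ω : ℤ) - ∑ x : Ω, phi G a b x := by
    intro c hc
    rw [← sum_gap, ← hscard, mul_comm, ← nsmul_eq_mul]
    exact card_nsmul_le_sum _ _ _ hc
  have hge1 := hgap_low 1 fun g hg => by have := hb g hg; omega
  have hfinish : ∀ M : ℕ, 0 < M → (∀ g ∈ (ps G a b).erase 1, (fx g : Finset Ω).card ≤ M) →
      (M : ℤ) ≤ (Fintype.card Ω : ℤ) - ∑ x : Ω, phi G a b x →
      1 ≤ ∑ g ∈ (ps G a b).erase 1, exc Ω g := by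
    intro M hM hfM hle
    refine le_trans ?_ (excess_ge_sum_gap a b hM fun g hg => ⟨hfM g hg, by
      have := hb g hg
      omega⟩)
    rw [le_div_iff₀ (Nat.cast_pos.2 hM), one_mul]
    exact_mod_cast hle
  rcases phi_cases a b h2 (by omega) with ⟨hall, hΦ⟩ | hle
  swap
  · rw [ht] at hle
    push_cast at hle
    by_cases hsmall : 2 * (ps G a b).card ≤ Fintype.card Ω + 1
    · refine excess_of_jensen a b hh ?_
      have e : ((2 * ((ps G a b).card : ℤ) - 1)) * ((ps G a b).card : ℤ) ≤
          (Fintype.card Ω : ℤ) * ((ps G a b).card : ℤ) :=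
        mul_le_mul_of_nonneg_right (by omega) (by omega)
      refine le_trans ?_ e
      exact mul_le_mul_of_nonneg_left (by linarith) (by omega)
    · refine hfinish ((Fintype.card Ω - 1) / 2) (by omega) (fun g hg => ?_) ?_
      · have := hb g hg
        omega
      · omega
  rw [ht] at hΦ
  push_cast at hΦ
  have hodd : 2 ∣ Fintype.card Ω - 3 := ht ▸ even_compl_line a b hall
  by_cases h6 : 6 * (ps G a b).card ≤ Fintype.card Ω + 1
  · refine hfinish ((Fintype.card Ω - 1) / 2) (by omega) (fun g hg => ?_) ?_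
    · have := hb g hg
      omega
    · omega
  by_cases hhalf : ∃ g ∈ (ps G a b).erase 1, 2 * (fx g : Finset Ω).card + 1 = Fintype.card Ω
  swap
  · simp only [not_exists, not_and] at hhalf
    have h3 := hgap_low 3 fun g hg => by
      have := hb g hg
      have := hhalf g hg
      omega
    refine hfinish ((Fintype.card Ω - 3) / 2) (by omega) (fun g hg => ?_) ?_
    · have := hb g hg
      have := hhalf g hg
      omega
    · omega
  obtain ⟨g, hg, hgf⟩ := hhalf
  exfalso
  by_cases hh2 : (ps G a b).card = 2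
  · have hs1 : ((ps G a b).erase 1) = {g} := by
      refine (eq_of_subset_of_card_le (singleton_subset_iff.2 hg) ?_).symm
      rw [card_erase_of_mem (one_mem_ps a b), hh2, card_singleton]
    have hgap := sum_gap (G := G) a b
    rw [hs1, sum_singleton] at hgap
    exact (mem_erase.1 hg).1
      (not_seven a b h2 hab (by omega) (mem_erase.1 hg).2 hh2)
  exact no_all_half a b h2 hab ht hall (by omega) (mem_erase.1 hg).2 (mem_erase.1 hg).1 hgf

/-- The excess of a pair stabiliser is at least one. -/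
theorem excess_ge_one (h2 : Trans2 G Ω) (hab : a ≠ b) (hn : 7 ≤ Fintype.card Ω)
    (hh : 2 ≤ (ps G a b).card) : 1 ≤ ∑ g ∈ (ps G a b).erase 1, exc Ω g := by
  have ht2 := two_le_card_line (G := G) hab
  rcases (show (line G a b).card = 2 ∨ (line G a b).card = 3 ∨ 4 ≤ (line G a b).card by omega)
    with ht | ht | ht
  · rcases phi_cases a b h2 (by omega) with ⟨hall, hΦ⟩ | hle
    · by_cases h : (ps G a b).card = 2
      · refine excess_of_jensen a b hh ?_
        rw [hΦ, ht, h]
        push_cast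
        omega
      · exact excess_two a b h2 hab hn (by omega) ht hall
    · refine excess_of_jensen a b hh (le_trans ?_ (by positivity))
      rw [ht] at hle
      push_cast at hle
      exact mul_nonpos_of_nonneg_of_nonpos (by omega) (by linarith)
  · exact excess_three a b h2 hab hn hh ht
  · exact excess_four a b h2 hab hh ht

end Cfsg.Agent.Derange
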