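import Cfsg.Agent.Lib.Char.DegreeSum
import Cfsg.Agent.Lib.Char.Galois
import Cfsg.Agent.Lib.Char.RealBlock
import Cfsg.Agent.Lib.Block.Height
import Mathlib.GroupTheory.Perm.Cycle.Type

/-!
A Galois automorphism of `p`-power order fixes a constituent of degree prime to `p` in the principal
block of the character induced from an invariant linear character of a Sylow `p`-subgroup.
-/

open scoped ComplexConjugate

namespace Cfsg.Agent.Char.GalParity

open Cfsg Cfsg.Agent.Block Cfsg.Agent.Char

universe u

variable {G : Type u} [Group G] [Fintype G] {p : ℕ} {M : Ideal AlgInt}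

theorem principal_defect (hM : IsPModular p M) :
    blockDefect p (principalBlock M G) = (Nat.card G).factorization p := by
  classical
  unfold blockDefect
  have h : sInf ((fun χ : IrrCharacter G => (charDegree (χ : G → ℂ)).factorization p) ''
      principalBlock M G) = 0 :=
    Nat.sInf_eq_zero.2 (Or.inl ⟨trivialIrr G, trivial_mem_principalBlock hM, by
      show (charDegree (fun _ : G => (1 : ℂ))).factorization p = 0
      simp [charDeg_trivial]⟩)
  rw [h, Nat.sub_zero]

/-- Weighted fixed point congruence for a permutation of `p`-power order. -/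
theorem sum_modEq_fixed [hp : Fact p.Prime] {α : Type*} [Fintype α]
    (f : Function.End α) [DecidablePred fun a => f a = a] {n : ℕ} (hf : f ^ p ^ n = 1) (w : α → ℕ) (hw : ∀ a, w (f a) = w a) :
    (∑ a : α, w a) ≡ ∑ a ∈ Finset.univ.filter (fun a => f a = a), w a [MOD p] := by
  classical
  let F : Function.End (Σ a : α, Fin (w a)) := fun x => ⟨f x.1, Fin.cast (hw x.1).symm x.2⟩
  have hiter : ∀ (i : ℕ) (x : Σ a : α, Fin (w a)),
      ((F ^ i : Function.End _) x).1 = (f ^ i : Function.End α) x.1 ∧
      (((F ^ i : Function.End _) x).2 : ℕ) = (x.2 : ℕ) := by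
    intro i
    induction i with
    | zero => intro x; exact ⟨rfl, rfl⟩
    | succ i ih =>
      intro x
      rw [pow_succ, pow_succ]
      obtain ⟨h1, h2⟩ := ih (F x)
      exact ⟨h1, h2.trans (by simp [F])⟩
  have hF : F ^ p ^ n = 1 := by
    funext x
    obtain ⟨h1, h2⟩ := hiter (p ^ n) x
    have h1' : ((F ^ p ^ n : Function.End _) x).1 = x.1 := by rw [h1, hf]; rfl
    rw [Function.End.one_def, id_eq]
    generalize (F ^ p ^ n : Function.End _) x = y at h1' h2
    obtain ⟨a, i⟩ := y
    obtain ⟨b, j⟩ := x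
    simp only at h1' h2
    subst h1'
    rw [Fin.ext h2]
  have hmod := Equiv.Perm.card_fixedPoints_modEq (p := p) (n := n) hF
  rw [Fintype.card_sigma] at hmod
  simp only [Fintype.card_fin] at hmod
  refine hmod.trans ?_
  refine (congrArg (fun t => t % p) ?_ : Nat.ModEq p _ _)
  have e : Fintype.card (Function.fixedPoints F) =
      Fintype.card (Σ a : {a : α // f a = a}, Fin (w a.1)) := by
    refine Fintype.card_congr
      { toFun := fun x => ⟨⟨x.1.1, congrArg Sigma.fst x.2⟩, x.1.2⟩
        invFun := fun x => ⟨⟨x.1.1, x.2⟩, ?_⟩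
        left_inv := fun _ => rfl
        right_inv := fun _ => rfl }
    show (⟨f x.1.1, Fin.cast _ x.2⟩ : Σ a : α, Fin (w a)) = ⟨x.1.1, x.2⟩
    exact Sigma.ext x.1.2 ((Fin.heq_ext_iff (congrArg w x.1.2)).2 rfl)
  rw [e, Fintype.card_sigma]
  simp only [Fintype.card_fin]
  exact (Finset.sum_subtype (Finset.univ.filter fun a => f a = a) (fun a => by simp) w).symm

/-- A fixed constituent. -/
theorem exists_fixed [hp : Fact p.Prime] (hM : IsPModular p M) (P : Sylow p G) {k m : ℕ}
    (hcop : k.Coprime (Nat.card G)) (hper : ∀ g : G, g ^ k ^ p ^ m = g)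
    (lam : (P : Subgroup G) →* ℂˣ) (hlam : ∀ x, lam (x ^ k) = lam x) :
    ∃ χ : IrrCharacter G, χ ∈ principalBlock M G ∧ ¬ p ∣ charDegree (χ : G → ℂ) ∧
      (∀ g, (χ : G → ℂ) (g ^ k) = (χ : G → ℂ) g) ∧
      ∑ᶠ x : (P : Subgroup G), (χ : G → ℂ) x * conj ((lam x : ℂ)) ≠ 0 := by
  classical
  letI := Fintype.ofFinite (P : Subgroup G)
  set q := Nat.card (P : Subgroup G) with hq
  have hq0 : (q : ℂ) ≠ 0 := Nat.cast_ne_zero.2 Nat.card_pos.ne'
  have hn : ∀ χ : IrrCharacter G, ∃ n : ℕ,
      ∑ x : (P : Subgroup G), (χ : G → ℂ) x * conj ((lam x : ℂ)) = (q : ℂ) * n := by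
    intro χ
    obtain ⟨n, hn⟩ := IsChar.classInner_nat
      (IsChar.comp (P : Subgroup G).subtype (IsIrr.isCharacter χ.2))
      (IsIrr.isCharacter (isIrr_linear lam))
    refine ⟨n, ?_⟩
    rw [← hn]
    simp only [classInner, Function.comp_apply, Subgroup.coe_subtype]
    rw [mul_inv_cancel_left₀ hq0]
  choose n hn using hn
  have hidx : ∀ g : G, (Subgroup.centralizer ({g ^ k} : Set G)).index =
      (Subgroup.centralizer ({g} : Set G)).index := fun g => by
    rw [Cfsg.Agent.Char.RealBlock.centralizer_pow_eq hcop]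
  let tw : IrrCharacter G → IrrCharacter G := fun χ =>
    ⟨fun g => (χ : G → ℂ) (g ^ k), IsIrr.pow_map χ.2 hcop⟩
  have hdeg : ∀ χ, charDegree (tw χ : G → ℂ) = charDegree (χ : G → ℂ) := fun χ => by
    have h1 := charDeg_spec' (tw χ)
    have h2 := charDeg_spec' χ
    simp only [tw, one_pow] at h1
    rw [h2] at h1
    exact (Nat.cast_injective h1).symm
  have hB : ∀ χ, χ ∈ principalBlock M G → tw χ ∈ principalBlock M G := by
    intro χ hχ g
    have h := hχ (g ^ k)
    simp only [Cfsg.centralChar, tw, one_pow, hidx] at h ⊢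
    exact h
  have hntw : ∀ χ, n (tw χ) = n χ := by
    intro χ
    have h : (q : ℂ) * n (tw χ) = (q : ℂ) * n χ := by
      rw [← hn, ← hn]
      have hc : (Nat.card (P : Subgroup G)).Coprime k :=
        (hcop.coprime_dvd_right (Subgroup.card_subgroup_dvd_card _)).symm
      refine Fintype.sum_equiv (powCoprime hc) _ _ fun x => ?_
      simp [tw, powCoprime, hlam]
    exact_mod_cast mul_left_cancel₀ hq0 h
  let T := {χ : IrrCharacter G // χ ∈ principalBlock M G}
  let f : Function.End T := fun χ => ⟨tw χ.1, hB _ χ.2⟩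
  have hiter : ∀ (i : ℕ) (χ : T) (g : G),
      (((f ^ i : Function.End T) χ).1 : G → ℂ) g = (χ.1 : G → ℂ) (g ^ k ^ i) := by
    intro i
    induction i with
    | zero => intro χ g; rw [pow_zero, pow_zero, pow_one]; rfl
    | succ i ih =>
      intro χ g
      rw [pow_succ f i]
      show (((f ^ i : Function.End T) (f χ)).1 : G → ℂ) g = _
      rw [ih, pow_succ k i, pow_mul]
  have hf : f ^ p ^ m = 1 := by
    funext χ
    refine Subtype.ext (Subtype.ext (funext fun g => ?_))
    rw [hiter, hper]
    rfl
  cases nonempty_fintype (IrrCharacter G)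
  haveI : DecidablePred fun χ : T => f χ = χ := Classical.decPred _
  let w : T → ℕ := fun χ => charDegree (χ.1 : G → ℂ) * n χ.1
  have hmod := sum_modEq_fixed f hf w (fun χ => by simp [w, f, hdeg, hntw])
  -- the total is prime to `p`
  set F := Finset.univ.filter (· ∈ principalBlock M G) with hF
  have htot : ∑ χ : T, w χ = ∑ χ ∈ F, charDegree (χ : G → ℂ) * n χ :=
    (Finset.sum_subtype F (fun χ => by simp [hF])
      (fun χ : IrrCharacter G => charDegree (χ : G → ℂ) * n χ)).symm
  set S := ∑ χ ∈ F, charDegree (χ : G → ℂ) ^ 2 with hS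
  have hST : q * ∑ χ : T, w χ = S := by
    rw [htot]
    have e : ((q * ∑ χ ∈ F, charDegree (χ : G → ℂ) * n χ : ℕ) : ℂ) = (S : ℂ) := by
      push_cast
      rw [Finset.mul_sum]
      have e1 : ∀ χ ∈ F, (q : ℂ) * ((charDegree (χ : G → ℂ) : ℂ) * n χ) =
          ∑ x : (P : Subgroup G), ((χ : G → ℂ) 1 * (χ : G → ℂ) x) * conj ((lam x : ℂ)) := by
        intro χ _
        rw [mul_left_comm, ← hn, Finset.mul_sum, ← charDeg_spec']
        exact Finset.sum_congr rfl fun x _ => by ring
      rw [Finset.sum_congr rfl e1, Finset.sum_comm, Finset.sum_eq_single (1 : (P : Subgroup G))]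
      · simp only [hS, Nat.cast_sum, Nat.cast_pow, OneMemClass.coe_one, map_one, Units.val_one,
          mul_one]
        exact Finset.sum_congr rfl fun χ _ => by rw [charDeg_spec' χ, sq]
      · intro x _ hx
        rw [← Finset.sum_mul]
        have hpx : p ∣ orderOf (x : G) := by
          obtain ⟨j, hj⟩ := IsPGroup.iff_orderOf.1 P.isPGroup' x
          rw [Subgroup.orderOf_coe, hj]
          refine dvd_pow_self p fun h0 => hx ?_
          rw [h0, pow_zero, orderOf_eq_one_iff] at hj
          exact hj
        have h1 := DegSum.sum_one_value hM (isPBlock_principalBlock (M := M) (G := G))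
          (h := 1) (v := (x : G)) (by rw [orderOf_one]; exact hp.out.not_dvd_one) hpx
        convert mul_eq_zero_of_left h1 _ using 3
        ext χ; simp [hF]
      · exact fun h => absurd (Finset.mem_univ _) h
    exact_mod_cast e
  have hnd : ¬ p ∣ ∑ χ : T, w χ := by
    intro hd
    have hval := DegSum.sum_sq_valuation hM (isPBlock_principalBlock (M := M) (G := G))
    rw [principal_defect hM] at hval
    replace hval : S.factorization p =
        2 * (Nat.card G).factorization p - (Nat.card G).factorization p := by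
      rw [← hval, hS]
      congr 3
      ext χ
      simp [hF]
    rw [hq, P.card_eq_multiplicity] at hST
    set a := (Nat.card G).factorization p
    have hS0 : S ≠ 0 := by
      have : charDegree (trivialIrr G : G → ℂ) ^ 2 ≤ S :=
        Finset.single_le_sum (f := fun χ : IrrCharacter G => charDegree (χ : G → ℂ) ^ 2)
          (fun χ _ => Nat.zero_le _)
          (Finset.mem_filter.2 ⟨Finset.mem_univ _, trivial_mem_principalBlock hM⟩)
      have h2 := pow_pos (charDeg_pos (trivialIrr G)) 2
      omega
    have h1 : p ^ (a + 1) ∣ S := by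
      rw [← hST, pow_succ]
      exact mul_dvd_mul_left _ hd
    have := (hp.out.pow_dvd_iff_le_factorization hS0).1 h1
    rw [hval] at this
    omega
  obtain ⟨χ, hχ, hχw⟩ : ∃ χ ∈ Finset.univ.filter (fun χ : T => f χ = χ), ¬ p ∣ w χ := by
    by_contra hall
    push Not at hall
    exact hnd ((Nat.modEq_zero_iff_dvd).1
      (hmod.trans (Nat.modEq_zero_iff_dvd.2 (Finset.dvd_sum hall))))
  refine ⟨χ.1, χ.2, fun hd => hχw (hd.mul_right _), fun g => ?_, ?_⟩
  · exact congrFun (congrArg Subtype.val (congrArg Subtype.val (Finset.mem_filter.1 hχ).2)) g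
  · rw [finsum_eq_sum_of_fintype, hn]
    refine mul_ne_zero hq0 (Nat.cast_ne_zero.2 fun h0 => hχw ?_)
    simp [w, h0]

end Cfsg.Agent.Char.GalParity
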