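import Cfsg.Agent.Lib.Char.PairNilpotent
import Cfsg.Agent.Lib.Transfer.Frobenius
import Cfsg.Agent.Lib.Block.Principal
import Cfsg.Agent.Lib.Block.Elementary
import Cfsg.Agent.Lib.Char.Constituent
import Cfsg.Prelude.Def_BlockRank

/-!
The principal block is nilpotent exactly when there is a normal `p`-complement, and exactly when
its regular rank is one.
-/

namespace Cfsg.Agent.Char.BP

open Cfsg.Agent.Block

set_option linter.unusedSectionVars false
set_option linter.style.haveILetI false

universe u

variable {G : Type u} [Group G] [Fintype G] {p : ℕ} {M : Ideal AlgInt}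

theorem coprime_iff_regular [hp : Fact p.Prime] {n : ℕ} : Nat.Coprime n p ↔ ¬ p ∣ n :=
  ⟨fun h => hp.out.coprime_iff_not_dvd.1 h.symm, fun h => (hp.out.coprime_iff_not_dvd.2 h).symm⟩

theorem nilpotent_principal_iff [Fact p.Prime] (hM : IsPModular p M) :
    IsNilpotentBlock p M (principalBlock M G) ↔ HasNormalPComplement p G := by
  constructor
  · intro hnil
    rw [Cfsg.Agent.Transfer.hasNormalPComplement_iff_frobeniusCondition (default : Sylow p G)]
    intro Q hQ g hg hgc
    have hQp : IsPGroup p Q := (default : Sylow p G).isPGroup'.to_le hQ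
    refine ((nil_iff hM).1 hnil).2 (prPair M Q) (prPair_ofB hM hQp) g
      (mem_stab_of_cjI hg ?_) (coprime_iff_regular.1 hgc)
    rw [cjI_prPair hM, map_conj_eq_of_normalizer hg]
  · intro h
    refine (nil_iff hM).2 ⟨isPBlock_principalBlock, fun a ha y hy hyp => ?_⟩
    exact Cfsg.Agent.Transfer.frobeniusCondition_of_hasNormalPComplement h ha.1.1 a.1 le_rfl y
      (stab_le_normalizer a hy) (coprime_iff_regular.2 hyp)

theorem regular_const_of_rank_one [Fact p.Prime] (hM : IsPModular p M)
    (h : blockRank p (principalBlock M G) = 1) {χ : IrrCharacter G}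
    (hχ : χ ∈ principalBlock M G) {x : G} (hx : ¬ p ∣ orderOf x) :
    (χ : G → ℂ) x = (χ : G → ℂ) 1 := by
  classical
  set V := Submodule.span ℂ ((fun χ : IrrCharacter G => pRegularPart p (χ : G → ℂ)) ''
    principalBlock M G)
  have h1 : ∀ ξ ∈ principalBlock M G, pRegularPart p (ξ : G → ℂ) ∈ V := fun ξ hξ =>
    Submodule.subset_span ⟨ξ, hξ, rfl⟩
  obtain ⟨v, hv, hsp⟩ := (finrank_eq_one_iff' (K := ℂ) (V := V)).1 h
  obtain ⟨c, hc⟩ := hsp ⟨_, h1 χ hχ⟩
  obtain ⟨d, hd⟩ := hsp ⟨_, h1 _ (trivial_mem_principalBlock hM)⟩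
  have e1 := fun g : G => congrArg (fun w : V => (w : G → ℂ) g) hc
  have e2 := fun g : G => congrArg (fun w : V => (w : G → ℂ) g) hd
  have hone : IsPRegular p (1 : G) := by
    show ¬ p ∣ orderOf (1 : G)
    rw [orderOf_one]
    exact (Fact.out : p.Prime).not_dvd_one
  have a1 := e1 x; have a2 := e1 1; have b1 := e2 x; have b2 := e2 1
  simp only [SetLike.val_smul, Pi.smul_apply, smul_eq_mul, pRegularPart,
    if_pos (show IsPRegular p x from hx), if_pos hone, trivialIrr] at a1 a2 b1 b2
  have hd0 : d ≠ 0 := fun h0 => by simp [h0] at b1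
  have : (v : G → ℂ) x = (v : G → ℂ) 1 := mul_left_cancel₀ hd0 (b1.trans b2.symm)
  rw [← a1, ← a2, this]

theorem complement_of_rank_one [Fact p.Prime] (hM : IsPModular p M)
    (h : blockRank p (principalBlock M G) = 1) : HasNormalPComplement p G := by
  refine Cfsg.Agent.Transfer.hasNormalPComplement_iff_not_dvd.2 fun hd => ?_
  obtain ⟨z, hz⟩ := exists_prime_orderOf_dvd_card' (G := pResidual p G) p hd
  refine blockKer_pPrime hM isPBlock_principalBlock (z := (z : G))
    (by rw [Subgroup.orderOf_coe, hz]) fun χ hχ => ?_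
  refine (mem_charKer (irr_isChar χ)).1 ?_
  have hle : pResidual p G ≤ charKer (irr_isChar χ) :=
    (Subgroup.closure_le _).2 fun g hg => (mem_charKer (irr_isChar χ)).2
      (regular_const_of_rank_one hM h hχ (coprime_iff_regular.1 hg))
  exact hle z.2

theorem rank_one_of_complement [Fact p.Prime] (hM : IsPModular p M)
    (h : HasNormalPComplement p G) : blockRank p (principalBlock M G) = 1 := by
  classical
  obtain ⟨N, hn, hd, k, hk⟩ := Cfsg.Agent.Transfer.hasNormalPComplement_iff_exists.1 h
  haveI := hn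
  set v : G → ℂ := pRegularPart p (trivialIrr G : G → ℂ)
  have hv : v ≠ 0 := fun h0 => by
    have h1 := congrFun h0 1
    have hone : IsPRegular p (1 : G) := by
      show ¬ p ∣ orderOf (1 : G)
      rw [orderOf_one]
      exact (Fact.out : p.Prime).not_dvd_one
    simp [v, pRegularPart, hone, trivialIrr] at h1
  have hspan : Submodule.span ℂ ((fun χ : IrrCharacter G => pRegularPart p (χ : G → ℂ)) ''
      principalBlock M G) = Submodule.span ℂ {v} := by
    refine le_antisymm (Submodule.span_le.2 ?_) (Submodule.span_le.2 ?_)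
    · rintro _ ⟨χ, hχ, rfl⟩
      refine Submodule.mem_span_singleton.2 ⟨(χ : G → ℂ) 1, funext fun g => ?_⟩
      simp only [Pi.smul_apply, smul_eq_mul, v, pRegularPart]
      split_ifs with hg
      · rw [principal_ker_of_coprime hM hd hχ (regular_mem_of_index_pPow hk hg)]
        simp [trivialIrr]
      · rw [mul_zero]
    · rintro _ rfl
      exact Submodule.subset_span ⟨_, trivial_mem_principalBlock hM, rfl⟩
  rw [blockRank, hspan, finrank_span_singleton hv]

theorem nilpotent_principal_iff_rank [Fact p.Prime] (hM : IsPModular p M) :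
    IsNilpotentBlock p M (principalBlock M G) ↔ blockRank p (principalBlock M G) = 1 := by
  rw [nilpotent_principal_iff hM]
  exact ⟨rank_one_of_complement hM, complement_of_rank_one hM⟩

end Cfsg.Agent.Char.BP
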