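import Cfsg.Agent.Lib.Grp.Cores
import Cfsg.Agent.Lib.Grp.Frattini
import Cfsg.Agent.Lib.Grp.PSolvable
import Cfsg.Prelude.Def_Local

/-!
The subgroup `O_{p',p}(G)` over `O_{p'}(G)`.
-/

namespace Cfsg.Agent.Char.Fong

universe u

variable {G : Type u} [Group G] [Finite G] {p : ℕ}

theorem pPrimePCore_normal : (Cfsg.pPrimePCore p G).Normal := by
  rw [Cfsg.pPrimePCore]
  exact (Grp.pCore_isNormal (p := p)).comap _

theorem pPrimeCore_le_pPrimePCore : Cfsg.pPrimeCore p G ≤ Cfsg.pPrimePCore p G := fun x hx => by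
  haveI := Grp.pPrimeCore_isNormal (p := p) (G := G)
  show QuotientGroup.mk' (Cfsg.pPrimeCore p G) x ∈ Cfsg.pCore p _
  rw [(QuotientGroup.eq_one_iff x).2 hx |> fun h => (show QuotientGroup.mk' (Cfsg.pPrimeCore p G) x = 1 from h)]
  exact one_mem _

theorem exists_relIndex_pPrimePCore [Fact p.Prime] :
    ∃ j : ℕ, (Cfsg.pPrimeCore p G).relIndex (Cfsg.pPrimePCore p G) = p ^ j := by
  haveI := Grp.pPrimeCore_isNormal (p := p) (G := G)
  obtain ⟨j, hj⟩ := IsPGroup.iff_card.1 (Grp.pCore_isPGroup (p := p) (G := G ⧸ Cfsg.pPrimeCore p G))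
  refine ⟨j, ?_⟩
  set f := QuotientGroup.mk' (Cfsg.pPrimeCore p G) with hf
  have h1 := Subgroup.relIndex_comap (H := (⊥ : Subgroup (G ⧸ Cfsg.pPrimeCore p G))) (f := f)
    (K := Cfsg.pPrimePCore p G)
  rw [show (⊥ : Subgroup (G ⧸ Cfsg.pPrimeCore p G)).comap f = Cfsg.pPrimeCore p G from
    QuotientGroup.ker_mk' _, Cfsg.pPrimePCore,
    Subgroup.map_comap_eq_self_of_surjective (QuotientGroup.mk'_surjective _),
    Subgroup.relIndex_bot_left, hj] at h1
  exact h1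

/-- A normal `p'`-subgroup and a subgroup of index prime to `p` generate a `p`-extension. -/
theorem sup_eq_of_relIndex [Fact p.Prime] {K L Q : Subgroup G} (hKL : K ≤ L) (hQL : Q ≤ L) {j : ℕ}
    (hidx : K.relIndex L = p ^ j) (hQ : ¬ p ∣ Q.relIndex L) : K ⊔ Q = L := by
  refine le_antisymm (sup_le hKL hQL) (Subgroup.relIndex_eq_one.1 ?_)
  have h1 : (K ⊔ Q).relIndex L ∣ p ^ j := hidx ▸ Subgroup.relIndex_dvd_of_le_left L le_sup_left
  have h2 : (K ⊔ Q).relIndex L ∣ Q.relIndex L := Subgroup.relIndex_dvd_of_le_left L le_sup_right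
  exact Nat.eq_one_of_dvd_coprimes
    (Nat.Coprime.pow_left _ ((Fact.out : p.Prime).coprime_iff_not_dvd.2 hQ)) h1 h2

/-- In a `p`-soluble group the regular elements centralizing a Sylow subgroup of `O_{p',p}` lie in
`O_{p'}`. -/
theorem mem_pPrimeCore_of_commute [Fact p.Prime] (hsolv : Cfsg.IsPSolvable p G) {Q : Subgroup G}
    (hQL : Q ≤ Cfsg.pPrimePCore p G) (hQ : ¬ p ∣ Q.relIndex (Cfsg.pPrimePCore p G)) {x : G}
    (hx : x ∈ Subgroup.centralizer (Q : Set G)) (hr : ¬ p ∣ orderOf x) :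
    x ∈ Cfsg.pPrimeCore p G := by
  haveI := Grp.pPrimeCore_isNormal (p := p) (G := G)
  set K := Cfsg.pPrimeCore p G with hK
  set f := QuotientGroup.mk' K with hf
  have hfs : Function.Surjective f := QuotientGroup.mk'_surjective _
  obtain ⟨j, hj⟩ := exists_relIndex_pPrimePCore (p := p) (G := G)
  have himg : Cfsg.pCore p (G ⧸ K) = Q.map f := by
    rw [← Subgroup.map_comap_eq_self_of_surjective hfs (Cfsg.pCore p (G ⧸ K))]
    show (Cfsg.pPrimePCore p G).map f = _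
    conv_lhs => rw [← sup_eq_of_relIndex pPrimeCore_le_pPrimePCore hQL hj hQ]
    rw [Subgroup.map_sup, QuotientGroup.map_mk'_self, bot_sup_eq]
  have hmem : f x ∈ Cfsg.pCore p (G ⧸ K) := by
    refine Grp.centralizer_pCore_le_of_pSolvable (Grp.isPSolvable_map hsolv f hfs)
      Grp.pPrimeCore_quotient_eq_bot ?_
    rw [himg]
    refine Subgroup.mem_centralizer_iff.2 fun u hu => ?_
    obtain ⟨q, hq, rfl⟩ := hu
    rw [← map_mul, ← map_mul, Subgroup.mem_centralizer_iff.1 hx q hq]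
  obtain ⟨a, ha⟩ := (Grp.pCore_isPGroup (p := p) (G := G ⧸ K)) ⟨f x, hmem⟩
  have h1 : orderOf (f x) ∣ p ^ a := orderOf_dvd_of_pow_eq_one (congrArg Subtype.val ha)
  have h2 : orderOf (f x) ∣ orderOf x := orderOf_map_dvd f x
  rw [← QuotientGroup.eq_one_iff, ← orderOf_eq_one_iff]
  exact Nat.eq_one_of_dvd_coprimes
    (Nat.Coprime.pow_left _ ((Fact.out : p.Prime).coprime_iff_not_dvd.2 hr)) h1 h2

/-- The trace of a Sylow subgroup on `O_{p',p}`. -/
theorem exists_sylow_pPrimePCore [Fact p.Prime] :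
    ∃ Q : Subgroup G, IsPGroup p Q ∧ Q ≤ Cfsg.pPrimePCore p G ∧
      ¬ p ∣ Q.relIndex (Cfsg.pPrimePCore p G) := by
  obtain ⟨P⟩ : Nonempty (Sylow p (Cfsg.pPrimePCore p G)) := inferInstance
  refine ⟨(P : Subgroup (Cfsg.pPrimePCore p G)).map (Cfsg.pPrimePCore p G).subtype,
    P.isPGroup'.map _, Subgroup.map_subtype_le _, ?_⟩
  rw [Subgroup.relIndex, Subgroup.subgroupOf,
    Subgroup.comap_map_eq_self_of_injective (Subgroup.subtype_injective _)]
  exact P.not_dvd_index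

end Cfsg.Agent.Char.Fong
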