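import Cfsg.Agent.Lib.Block.Covering
import Cfsg.Agent.Lib.Block.Roots
import Cfsg.Agent.Lib.Block.Induced
import Cfsg.Agent.Lib.Block.Orth
import Cfsg.Agent.Lib.Char.CliffordCorr

/-!
The Fong–Reynolds correspondence: characters over a block of a normal subgroup and the stabiliser
of that block.
-/

namespace Cfsg.Agent.Char.FR

open scoped ComplexConjugate
open Cfsg Cfsg.Agent.Block

universe u

variable {G : Type u} [Group G] [Fintype G] {p : ℕ} {M : Ideal AlgInt}

/-- Inner products after composition with a homomorphism. -/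
theorem inner_comp_expand {H K : Type u} [Group H] [Group K] [Fintype H] [Fintype K]
    (i : K →* H) {f : H → ℂ} {a : IrrCharacter H → ℕ}
    (ha : f = ∑ φ : IrrCharacter H, (a φ : ℂ) • (φ : H → ℂ)) (θ : K → ℂ) :
    classInner (fun k => f (i k)) θ =
      ∑ φ : IrrCharacter H, (a φ : ℂ) * classInner (fun k => (φ : H → ℂ) (i k)) θ := by
  have h : (fun k => f (i k)) = ∑ φ : IrrCharacter H, (a φ : ℂ) • fun k => (φ : H → ℂ) (i k) := by
    funext k
    rw [ha, sum_irr_apply]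
    simp
  rw [h, classInner_sum_left]
  exact Finset.sum_congr rfl fun φ _ => classInner_smul_left _ _ _

/-- The multiplicity along a homomorphism. -/
noncomputable def mlt {H K : Type u} [Group H] [Group K] [Fintype K] (i : K →* H) (f : H → ℂ)
    (θ : K → ℂ) : ℕ := ⌊(classInner (fun k => f (i k)) θ).re⌋₊

theorem mlt_spec {H K : Type u} [Group H] [Group K] [Fintype K] (i : K →* H) {f : H → ℂ}
    (hf : IsCharacter H f) {θ : K → ℂ} (hθ : IsCharacter K θ) :
    classInner (fun k => f (i k)) θ = (mlt i f θ : ℂ) := by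
  obtain ⟨n, hn⟩ := IsChar.classInner_nat (IsChar.comp i hf) hθ
  rw [mlt, hn]
  simp

theorem mlt_expand {H K : Type u} [Group H] [Group K] [Fintype H] [Fintype K] (i : K →* H)
    {f : H → ℂ} (hf : IsCharacter H f) {a : IrrCharacter H → ℕ}
    (ha : f = ∑ φ : IrrCharacter H, (a φ : ℂ) • (φ : H → ℂ)) {θ : K → ℂ} (hθ : IsCharacter K θ) :
    mlt i f θ = ∑ φ : IrrCharacter H, a φ * mlt i (φ : H → ℂ) θ := by
  have h := inner_comp_expand i ha θ
  rw [mlt_spec i hf hθ, Finset.sum_congr rfl fun φ _ => by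
    rw [mlt_spec i (irr_isChar φ) hθ, ← Nat.cast_mul], ← Nat.cast_sum] at h
  exact_mod_cast h

variable (N : Subgroup G) [hN : N.Normal] [Fintype N]

/-- Lying over a set of characters of `N`. -/
def Over (b : Set (IrrCharacter N)) {T : Subgroup G} (hNT : N ≤ T) (ψ : IrrCharacter T) : Prop :=
  ∃ θ ∈ b, classInner (fun n : N => (ψ : T → ℂ) ⟨(n : G), hNT n.2⟩) (θ : N → ℂ) ≠ 0

/-- Lying over a set of characters of `N`, in the whole group. -/
def OverG (b : Set (IrrCharacter N)) (χ : IrrCharacter G) : Prop :=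
  ∃ θ ∈ b, classInner (fun n : N => (χ : G → ℂ) n) (θ : N → ℂ) ≠ 0

/-- `T` is the stabiliser of `b`. -/
def IsStab (b : Set (IrrCharacter N)) (T : Subgroup G) : Prop :=
  ∀ g : G, g ∈ T ↔ ∀ θ ∈ b, ∀ θ' : IrrCharacter N,
    (∀ n : N, (θ' : N → ℂ) n = (θ : N → ℂ) ⟨g * n * g⁻¹, hN.conj_mem n n.2 g⟩) → θ' ∈ b

variable {N}
variable {b : Set (IrrCharacter N)} {T : Subgroup G}

theorem mem_stab_of_conj (hM : IsPModular p M) (hb : IsPBlock M b) (hT : IsStab N b T)
    {θ θ' : IrrCharacter N} (hθ : θ ∈ b) (hθ' : θ' ∈ b) {g : G}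
    (h : Char.conjN N g (θ : N → ℂ) = (θ' : N → ℂ)) : g ∈ T := by
  refine (hT g).mpr fun η hη η' hη' => ?_
  have e1 : irrPull (conjEquivN N g) θ = θ' := Subtype.ext (by rw [← h, conjN_eq_comp]; rfl)
  have e2 : irrPull (conjEquivN N g) η = η' := Subtype.ext (funext fun n => by
    rw [irrPull_apply, conjEquivN_apply]; exact (hη' n).symm)
  refine pblock_mem_of_sameBlock hM hb hθ' ?_
  rw [← e1, ← e2]
  exact (sameBlock_irrPull_iff (conjEquivN N g) θ η).mpr (pblock_sameBlock hM hb hθ hη)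

theorem inertia_le (hM : IsPModular p M) (hb : IsPBlock M b) (hT : IsStab N b T)
    {θ : IrrCharacter N} (hθ : θ ∈ b) : inertia N (θ : N → ℂ) ≤ T := fun _ hg =>
  mem_stab_of_conj hM hb hT hθ hθ ((mem_inertia N).mp hg)

variable [Fintype T]

/-- Constituents of a character of `T` on `N` are in `b` as soon as one is. -/
theorem mem_of_constituent (hT : IsStab N b T) (hNT : N ≤ T) {ψ : IrrCharacter T}
    {θ θ' : IrrCharacter N} (hθ : θ ∈ b)
    (h1 : classInner (fun n : N => (ψ : T → ℂ) ⟨(n : G), hNT n.2⟩) (θ : N → ℂ) ≠ 0)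
    (h2 : classInner (fun n : N => (ψ : T → ℂ) ⟨(n : G), hNT n.2⟩) (θ' : N → ℂ) ≠ 0) :
    θ' ∈ b ∧ ∃ t ∈ T, Char.conjN N t (θ : N → ℂ) = (θ' : N → ℂ) := by
  classical
  haveI : (N.subgroupOf T).Normal := Subgroup.Normal.subgroupOf inferInstance _
  haveI : Fintype (N.subgroupOf T) := Fintype.ofFinite _
  have e : ∀ η : N → ℂ, classInner (fun x : N.subgroupOf T => (ψ : T → ℂ) x)
      (fun x : N.subgroupOf T => η ⟨((x : T) : G), x.2⟩) =
      classInner (fun n : N => (ψ : T → ℂ) ⟨(n : G), hNT n.2⟩) η :=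
    fun η => Corr.classInner_subgroupOf N hNT (fun n : N => (ψ : T → ℂ) ⟨(n : G), hNT n.2⟩) η
  obtain ⟨t, ht⟩ := exists_conj_of_constituents (N.subgroupOf T) ψ.2
    (θ := fun x : N.subgroupOf T => (θ : N → ℂ) ⟨((x : T) : G), x.2⟩)
    (φ := fun x : N.subgroupOf T => (θ' : N → ℂ) ⟨((x : T) : G), x.2⟩)
    (IsIrr.comp_mulEquiv (Subgroup.subgroupOfEquivOfLe hNT) θ.2)
    (IsIrr.comp_mulEquiv (Subgroup.subgroupOfEquivOfLe hNT) θ'.2)
    (by rw [e]; exact h1) (by rw [e]; exact h2)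
  have hh : Char.conjN N (t : G) (θ : N → ℂ) = (θ' : N → ℂ) := funext fun n => by
    have := congrFun ht ⟨⟨(n : G), hNT n.2⟩, n.2⟩
    simpa [Char.conjN] using this
  exact ⟨(hT t).mp t.2 θ hθ θ' fun n => (congrFun hh n).symm, t, t.2, hh⟩

theorem inner_res_conj (hNT : N ≤ T) (ψ : IrrCharacter T) (θ : N → ℂ) {t : G} (ht : t ∈ T) :
    classInner (fun n : N => (ψ : T → ℂ) ⟨(n : G), hNT n.2⟩) (Char.conjN N t θ) =
      classInner (fun n : N => (ψ : T → ℂ) ⟨(n : G), hNT n.2⟩) θ := by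
  have e : (fun n : N => (ψ : T → ℂ) ⟨(n : G), hNT n.2⟩) =
      Char.conjN N t (fun n : N => (ψ : T → ℂ) ⟨(n : G), hNT n.2⟩) := funext fun n =>
    (IsIrr.classFun ψ.2 ⟨(n : G), hNT n.2⟩ ⟨t, ht⟩).symm
  conv_lhs => rw [e]
  exact classInner_conjN N t _ _

/-- The correspondent of a character over `b`. -/
theorem corr (hM : IsPModular p M) (hb : IsPBlock M b) (hT : IsStab N b T) (hNT : N ≤ T)
    {θ : IrrCharacter N} (hθ : θ ∈ b) {χ : IrrCharacter G}
    (hχ : classInner (fun n : N => (χ : G → ℂ) n) (θ : N → ℂ) ≠ 0) :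
    ∃ η : IrrCharacter T,
      classInner (fun n : N => (η : T → ℂ) ⟨(n : G), hNT n.2⟩) (θ : N → ℂ) ≠ 0 ∧
      indFun T (η : T → ℂ) = (χ : G → ℂ) ∧
      classInner (fun t : T => (χ : G → ℂ) t) (η : T → ℂ) = 1 ∧
      ∀ η' : IrrCharacter T, classInner (fun t : T => (χ : G → ℂ) t) (η' : T → ℂ) ≠ 0 →
        Over N b hNT η' → η' = η := by
  classical
  set I := inertia N (θ : N → ℂ) with hI
  have hIT : I ≤ T := inertia_le hM hb hT hθ
  have hNI : N ≤ I := le_inertia N (IsIrr.classFun θ.2)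
  cases nonempty_fintype I
  let iT : N →* T := Subgroup.inclusion hNT
  let iI : N →* I := Subgroup.inclusion hNI
  let iIT : I →* T := Subgroup.inclusion hIT
  have hθc : IsCharacter N (θ : N → ℂ) := irr_isChar θ
  -- for any character of `G` over `θ`
  have main : ∀ χ : IrrCharacter G,
      classInner (fun n : N => (χ : G → ℂ) n) (θ : N → ℂ) ≠ 0 →
      ∃ (φ : IrrCharacter I) (η₀ : IrrCharacter T),
        indFun I (φ : I → ℂ) = (χ : G → ℂ) ∧ 0 < mlt iI (φ : I → ℂ) (θ : N → ℂ) ∧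
        0 < mlt iIT (η₀ : T → ℂ) (φ : I → ℂ) ∧
        mlt iI (φ : I → ℂ) (θ : N → ℂ) = mlt iT (η₀ : T → ℂ) (θ : N → ℂ) ∧
        classInner (fun t : T => (χ : G → ℂ) t) (η₀ : T → ℂ) = 1 ∧
        ∀ η : IrrCharacter T, classInner (fun t : T => (χ : G → ℂ) t) (η : T → ℂ) ≠ 0 →
          Over N b hNT η → η = η₀ := by
    intro χ hχ
    obtain ⟨φ₀, hφ₀, hind, hφe⟩ := Corr.exists_correspondent N θ.2 hI hNI χ.2 hχ
    set φ : IrrCharacter I := ⟨φ₀, hφ₀⟩
    obtain ⟨a, ha, hdec⟩ := IsChar.exists_decomp_inner (IsChar.res (irr_isChar χ) T)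
    set e := mlt (N.subtype) (χ : G → ℂ) (θ : N → ℂ) with he
    have he0 : e ≠ 0 := fun h => hχ (by
      rw [show (fun n : N => (χ : G → ℂ) n) = fun n => (χ : G → ℂ) (N.subtype n) from rfl,
        mlt_spec _ (irr_isChar χ) hθc, ← he, h, Nat.cast_zero])
    have hφe' : mlt iI (φ : I → ℂ) (θ : N → ℂ) = e := by
      have h1 := mlt_spec iI (irr_isChar φ) hθc
      have h2 := mlt_spec N.subtype (irr_isChar χ) hθc
      rw [← he] at h2
      exact_mod_cast h1.symm.trans (hφe.trans h2)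
    have hsum : ∑ η : IrrCharacter T, a η * mlt iT (η : T → ℂ) (θ : N → ℂ) = e :=
      (mlt_expand iT (IsChar.res (irr_isChar χ) T) hdec hθc).symm
    obtain ⟨η₀, hη₀⟩ : ∃ η₀ : IrrCharacter T, a η₀ * mlt iIT (η₀ : T → ℂ) (φ : I → ℂ) ≠ 0 := by
      by_contra hno
      push Not at hno
      have h1 := mlt_expand iIT (IsChar.res (irr_isChar χ) T) hdec (irr_isChar φ)
      rw [Finset.sum_eq_zero fun η _ => hno η] at h1
      have h2 := mlt_spec iIT (IsChar.res (irr_isChar χ) T) (irr_isChar φ)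
      rw [h1, Nat.cast_zero] at h2
      have h3 := classInner_self_irr χ.2
      conv_lhs at h3 => arg 1; rw [← hind]
      rw [classInner_indFun I _ (IsIrr.classFun χ.2), ← classInner_conj_symm] at h3
      have h4 : classInner (fun x : I => (χ : G → ℂ) x) φ₀ = 0 := h2
      rw [h4, map_zero] at h3
      exact zero_ne_one h3
    obtain ⟨ha0, hm0⟩ := mul_ne_zero_iff.mp hη₀
    have hge : e ≤ mlt iT (η₀ : T → ℂ) (θ : N → ℂ) := by
      obtain ⟨c, hc, hcd⟩ := IsChar.exists_decomp_inner (IsChar.comp iIT (irr_isChar η₀))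
      have h1 : mlt iI (fun x => (η₀ : T → ℂ) (iIT x)) (θ : N → ℂ) =
          mlt iT (η₀ : T → ℂ) (θ : N → ℂ) := rfl
      rw [← h1, mlt_expand iI (IsChar.comp iIT (irr_isChar η₀)) hcd hθc, ← hφe']
      refine le_trans ?_ (Finset.single_le_sum (f := fun ψ => c ψ * mlt iI (ψ : I → ℂ) (θ : N → ℂ))
        (fun _ _ => Nat.zero_le _) (Finset.mem_univ φ))
      refine Nat.le_mul_of_pos_left _ (Nat.pos_of_ne_zero fun h0 => hm0 ?_)
      have h2 := mlt_spec iIT (irr_isChar η₀) (irr_isChar φ)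
      rw [hc, h0] at h2
      exact_mod_cast h2.symm
    have hsingle : a η₀ * mlt iT (η₀ : T → ℂ) (θ : N → ℂ) ≤ e := hsum ▸
      Finset.single_le_sum (f := fun η => a η * mlt iT (η : T → ℂ) (θ : N → ℂ))
        (fun _ _ => Nat.zero_le _) (Finset.mem_univ η₀)
    have hle : mlt iT (η₀ : T → ℂ) (θ : N → ℂ) ≤ a η₀ * mlt iT (η₀ : T → ℂ) (θ : N → ℂ) :=
      Nat.le_mul_of_pos_left _ (Nat.pos_of_ne_zero ha0)
    have heq : mlt iT (η₀ : T → ℂ) (θ : N → ℂ) = e := le_antisymm (hle.trans hsingle) hge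
    have ha1 : a η₀ = 1 := by
      rw [heq] at hsingle
      by_contra h
      have : 2 * e ≤ a η₀ * e := Nat.mul_le_mul_right e (by omega)
      omega
    refine ⟨φ, η₀, hind, by omega, Nat.pos_of_ne_zero hm0, hφe'.trans heq.symm,
      by rw [ha, ha1, Nat.cast_one], fun η hη hov => ?_⟩
    by_contra hne
    obtain ⟨θ₂, hθ₂, hθ₂c⟩ := hov
    have hover : classInner (fun n : N => (η : T → ℂ) ⟨(n : G), hNT n.2⟩) (θ : N → ℂ) ≠ 0 := by
      obtain ⟨ηθ, hηθ⟩ : ∃ g : G, Char.conjN N g (θ : N → ℂ) = (θ₂ : N → ℂ) := by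
        refine exists_conj_of_constituents N χ.2 θ.2 θ₂.2 hχ fun h0 => ?_
        have h1 := mlt_expand iT (IsChar.res (irr_isChar χ) T) hdec (irr_isChar θ₂)
        have h2 : mlt iT (fun t : T => (χ : G → ℂ) t) (θ₂ : N → ℂ) = 0 := by
          have h3 := mlt_spec iT (IsChar.res (irr_isChar χ) T) (irr_isChar θ₂)
          change classInner (fun n : N => (χ : G → ℂ) n) (θ₂ : N → ℂ) = _ at h3
          rw [h0] at h3
          exact_mod_cast h3.symm
        rw [h2] at h1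
        have h4 := (Finset.sum_eq_zero_iff.mp h1.symm) η (Finset.mem_univ η)
        rcases Nat.mul_eq_zero.mp h4 with h5 | h5
        · exact hη (by rw [ha, h5, Nat.cast_zero])
        · exact hθ₂c (by
            rw [show (fun n : N => (η : T → ℂ) ⟨(n : G), hNT n.2⟩) =
              fun n => (η : T → ℂ) (iT n) from rfl, mlt_spec iT (irr_isChar η) (irr_isChar θ₂), h5,
              Nat.cast_zero])
      rw [← inner_res_conj hNT η (θ : N → ℂ) (mem_stab_of_conj hM hb hT hθ hθ₂ hηθ), hηθ]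
      exact hθ₂c
    have hpos : 0 < a η * mlt iT (η : T → ℂ) (θ : N → ℂ) := by
      refine Nat.mul_pos (Nat.pos_of_ne_zero fun h => hη (by rw [ha, h, Nat.cast_zero]))
        (Nat.pos_of_ne_zero fun h => hover ?_)
      rw [show (fun n : N => (η : T → ℂ) ⟨(n : G), hNT n.2⟩) =
        fun n => (η : T → ℂ) (iT n) from rfl, mlt_spec iT (irr_isChar η) hθc, h, Nat.cast_zero]
    have h2 := Finset.sum_le_sum_of_subset (f := fun η => a η * mlt iT (η : T → ℂ) (θ : N → ℂ))
      (Finset.subset_univ ({η, η₀} : Finset (IrrCharacter T)))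
    rw [Finset.sum_pair hne, hsum, heq, ha1, one_mul] at h2
    omega
  obtain ⟨φ, η₀, hind, hφpos, hφη, he, h1, huniq⟩ := main χ hχ
  have hover : classInner (fun n : N => (η₀ : T → ℂ) ⟨(n : G), hNT n.2⟩) (θ : N → ℂ) ≠ 0 := by
    rw [show (fun n : N => (η₀ : T → ℂ) ⟨(n : G), hNT n.2⟩) =
      fun n => (η₀ : T → ℂ) (iT n) from rfl, mlt_spec iT (irr_isChar η₀) hθc]
    exact Nat.cast_ne_zero.mpr (by omega)
  refine ⟨η₀, hover, ?_, h1, huniq⟩
  obtain ⟨c, hc, hcd⟩ := IsChar.exists_decomp_inner (isCharacter_indFun T (irr_isChar η₀))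
  have hcχ : c χ = 1 := by
    have h2 := hc χ
    rw [classInner_indFun T _ (IsIrr.classFun χ.2), ← classInner_conj_symm, h1, map_one] at h2
    exact_mod_cast h2.symm
  rw [hcd, Finset.sum_eq_single χ (fun χ₂ _ hne => ?_) (by simp), hcχ, Nat.cast_one, one_smul]
  suffices h : c χ₂ = 0 by rw [h, Nat.cast_zero, zero_smul]
  by_contra hc0
  have h2 : classInner (fun t : T => (χ₂ : G → ℂ) t) (η₀ : T → ℂ) ≠ 0 := by
    intro h0
    have h3 := hc χ₂
    rw [classInner_indFun T _ (IsIrr.classFun χ₂.2), ← classInner_conj_symm, h0, map_zero] at h3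
    exact hc0 (by exact_mod_cast h3.symm)
  have hχ₂ : classInner (fun n : N => (χ₂ : G → ℂ) n) (θ : N → ℂ) ≠ 0 := by
    obtain ⟨d, hd, hdd⟩ := IsChar.exists_decomp_inner (IsChar.res (irr_isChar χ₂) T)
    rw [show (fun n : N => (χ₂ : G → ℂ) n) = fun n => (fun t : T => (χ₂ : G → ℂ) t) (iT n) from rfl,
      mlt_spec iT (IsChar.res (irr_isChar χ₂) T) hθc,
      mlt_expand iT (IsChar.res (irr_isChar χ₂) T) hdd hθc]
    refine Nat.cast_ne_zero.mpr (Nat.pos_iff_ne_zero.mp ?_)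
    refine lt_of_lt_of_le ?_ (Finset.single_le_sum
      (f := fun ψ => d ψ * mlt iT (ψ : T → ℂ) (θ : N → ℂ)) (fun _ _ => Nat.zero_le _)
      (Finset.mem_univ η₀))
    exact Nat.mul_pos (Nat.pos_of_ne_zero fun h => h2 (by rw [hd, h, Nat.cast_zero])) (by omega)
  obtain ⟨φ₂, η₂, hind₂, hφ₂pos, hφη₂, he₂, -, huniq₂⟩ := main χ₂ hχ₂
  obtain rfl : η₀ = η₂ := huniq₂ η₀ h2 ⟨θ, hθ, hover⟩
  have hφne : φ₂ ≠ φ := fun h => hne (Subtype.ext (by rw [← hind₂, h, hind]))
  obtain ⟨d, hd, hdd⟩ := IsChar.exists_decomp_inner (IsChar.comp iIT (irr_isChar η₀))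
  have htot : mlt iT (η₀ : T → ℂ) (θ : N → ℂ) =
      ∑ ψ : IrrCharacter I, d ψ * mlt iI (ψ : I → ℂ) (θ : N → ℂ) :=
    mlt_expand iI (IsChar.comp iIT (irr_isChar η₀)) hdd hθc
  have hdpos : ∀ ψ : IrrCharacter I, 0 < mlt iIT (η₀ : T → ℂ) (ψ : I → ℂ) → 1 ≤ d ψ := fun ψ hψ => by
    have h4 := mlt_spec iIT (irr_isChar η₀) (irr_isChar ψ)
    rw [hd] at h4
    have : d ψ = mlt iIT (η₀ : T → ℂ) (ψ : I → ℂ) := by exact_mod_cast h4
    omega
  have h5 := Finset.sum_le_sum_of_subset (f := fun ψ => d ψ * mlt iI (ψ : I → ℂ) (θ : N → ℂ))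
    (Finset.subset_univ ({φ₂, φ} : Finset (IrrCharacter I)))
  rw [Finset.sum_pair hφne, ← htot] at h5
  have h6 := Nat.le_mul_of_pos_left (mlt iI (φ : I → ℂ) (θ : N → ℂ)) (hdpos φ hφη)
  have h7 := Nat.le_mul_of_pos_left (mlt iI (φ₂ : I → ℂ) (θ : N → ℂ)) (hdpos φ₂ hφη₂)
  omega

/-- Induction from the stabiliser is irreducible over `b`. -/
theorem ind_of_over (hM : IsPModular p M) (hb : IsPBlock M b) (hT : IsStab N b T) (hNT : N ≤ T)
    {ψ : IrrCharacter T} (hψ : Over N b hNT ψ) :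
    ∃ χ : IrrCharacter G, (χ : G → ℂ) = indFun T (ψ : T → ℂ) ∧ OverG N b χ ∧
      classInner (fun t : T => (χ : G → ℂ) t) (ψ : T → ℂ) = 1 ∧
      ∀ η : IrrCharacter T, classInner (fun t : T => (χ : G → ℂ) t) (η : T → ℂ) ≠ 0 →
        Over N b hNT η → η = ψ := by
  classical
  obtain ⟨θ, hθ, hθc⟩ := hψ
  obtain ⟨χ, hχ⟩ := IsChar.exists_constituent' (isCharacter_indFun T (irr_isChar ψ)) (by
    rw [indFun_one_eq]
    exact mul_ne_zero (Nat.cast_ne_zero.mpr Subgroup.index_ne_zero_of_finite) (irr_one_ne_zero ψ))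
  have hχψ : classInner (fun t : T => (χ : G → ℂ) t) (ψ : T → ℂ) ≠ 0 := fun h => hχ (by
    rw [classInner_indFun T _ (IsIrr.classFun χ.2), ← classInner_conj_symm, h, map_zero])
  have hχθ : classInner (fun n : N => (χ : G → ℂ) n) (θ : N → ℂ) ≠ 0 := by
    obtain ⟨d, hd, hdd⟩ := IsChar.exists_decomp_inner (IsChar.res (irr_isChar χ) T)
    rw [show (fun n : N => (χ : G → ℂ) n) =
        fun n => (fun t : T => (χ : G → ℂ) t) (Subgroup.inclusion hNT n) from rfl,
      mlt_spec _ (IsChar.res (irr_isChar χ) T) (irr_isChar θ),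
      mlt_expand _ (IsChar.res (irr_isChar χ) T) hdd (irr_isChar θ)]
    refine Nat.cast_ne_zero.mpr (Nat.pos_iff_ne_zero.mp ?_)
    refine lt_of_lt_of_le ?_ (Finset.single_le_sum
      (f := fun φ => d φ * mlt (Subgroup.inclusion hNT) (φ : T → ℂ) (θ : N → ℂ))
      (fun _ _ => Nat.zero_le _) (Finset.mem_univ ψ))
    refine Nat.mul_pos (Nat.pos_of_ne_zero fun h => hχψ (by rw [hd, h, Nat.cast_zero]))
      (Nat.pos_of_ne_zero fun h => hθc ?_)
    rw [show (fun n : N => (ψ : T → ℂ) ⟨(n : G), hNT n.2⟩) =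
      fun n => (ψ : T → ℂ) (Subgroup.inclusion hNT n) from rfl,
      mlt_spec _ (irr_isChar ψ) (irr_isChar θ), h, Nat.cast_zero]
  obtain ⟨η, -, hind, h1, huniq⟩ := corr hM hb hT hNT hθ hχθ
  obtain rfl : ψ = η := huniq ψ hχψ ⟨θ, hθ, hθc⟩
  exact ⟨χ, hind.symm, ⟨θ, hθ, hχθ⟩, h1, huniq⟩

variable (N) in
/-- The idempotent of `b` on `T`. -/
noncomputable def eT (b : Set (IrrCharacter N)) (T : Subgroup G) (t : T) : ℂ :=
  covCoeff N b (t : G)

theorem eT_classFun (hT : IsStab N b T) : IsClassFunction T (eT N b T) := by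
  intro y x
  classical
  simp only [eT, Subgroup.coe_mul, InvMemClass.coe_inv]
  by_cases h : (y : G) ∈ N
  · have h' : (x : G) * y * (x : G)⁻¹ ∈ N := hN.conj_mem _ h x
    rw [covCoeff, covCoeff, dif_pos h', dif_pos h]
    cases nonempty_fintype (IrrCharacter N)
    rw [coeffFun_eq_sum, coeffFun_eq_sum]
    congr 1
    refine Fintype.sum_equiv (conjPerm N (x : G)) _ _ fun θ => ?_
    have hiff : conjPerm N (x : G) θ ∈ b ↔ θ ∈ b := by
      refine ⟨fun hh => (hT _).mp (inv_mem x.2) _ hh θ fun n => ?_,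
        fun hh => (hT _).mp x.2 θ hh _ fun n => rfl⟩
      show (θ : N → ℂ) n =
        Char.conjN N (x : G)⁻¹ (Char.conjN N (x : G) (θ : N → ℂ)) n
      rw [conjN_inv_cancel]
    have h1 : blockInd b (conjPerm N (x : G) θ) = blockInd b θ := by
      by_cases hθ : θ ∈ b
      · rw [blockInd_of_mem hθ, blockInd_of_mem (hiff.mpr hθ)]
      · rw [blockInd_of_notMem hθ, blockInd_of_notMem fun hh => hθ (hiff.mp hh)]
    rw [h1]
    congr 1
    · congr 1
      show (θ : N → ℂ) 1 = (θ : N → ℂ) _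
      exact congrArg _ (Subtype.ext (by simp))
    · show (θ : N → ℂ) _ = (θ : N → ℂ) _
      refine congrArg _ (Subtype.ext ?_)
      show ((x : G) * y * (x : G)⁻¹)⁻¹ = (x : G) * (y : G)⁻¹ * (x : G)⁻¹
      group
  · rw [covCoeff_of_notMem N b h, covCoeff_of_notMem N b fun h' => h (by
      simpa [mul_assoc] using hN.conj_mem _ h' (x : G)⁻¹)]

/-- The central element of `T` cutting out the characters over `b`. -/
noncomputable def cov (N : Subgroup G) [N.Normal] (b : Set (IrrCharacter N)) (T : Subgroup G)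
    [Fintype T] (ψ : IrrCharacter T) : ℂ :=
  omegaFun ψ (eT N b T)

theorem cenInt_cov (hM : IsPModular p M) (hb : IsPBlock M b) (hT : IsStab N b T) :
    CenInt M (cov N b T) := fun t => by
  rw [show cov N b T = fun ψ : IrrCharacter T => omegaFun ψ (eT N b T) from rfl,
    coeffFun_omegaFun (eT_classFun hT)]
  simp only [eT, covCoeff]
  split_ifs with h
  · exact cenInt_blockInd hM hb _
  · exact ring_zero hM

theorem cov_eq (hT : IsStab N b T) (hNT : N ≤ T) (ψ : IrrCharacter T) :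
    (Over N b hNT ψ → cov N b T ψ = 1) ∧ (¬ Over N b hNT ψ → cov N b T ψ = 0) := by
  classical
  obtain ⟨a, ha, hdec⟩ := IsChar.exists_decomp_inner
    (IsChar.comp (Subgroup.inclusion hNT) (irr_isChar ψ))
  have hval : cov N b T ψ * (ψ : T → ℂ) 1 =
      ∑ θ : IrrCharacter N, (a θ : ℂ) * ((θ : N → ℂ) 1 * blockInd b θ) := by
    rw [cov, omegaFun, div_mul_cancel₀ _ (irr_one_ne_zero ψ)]
    have h1 : ∑ t : T, eT N b T t * (ψ : T → ℂ) t =
        ∑ n : N, coeffFun (blockInd b) n * (ψ : T → ℂ) (Subgroup.inclusion hNT n) := by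
      have : ∀ t : T, ¬ (t : G) ∈ N → eT N b T t * (ψ : T → ℂ) t = 0 := fun t ht => by
        rw [eT, covCoeff_of_notMem N b ht, zero_mul]
      rw [← Finset.sum_subset (Finset.subset_univ
        (Finset.univ.image (Subgroup.inclusion hNT))) (fun t _ ht => this t fun h =>
          ht (Finset.mem_image.mpr ⟨⟨t, h⟩, Finset.mem_univ _, Subtype.ext rfl⟩)),
        Finset.sum_image fun a _ b _ h => Subgroup.inclusion_injective hNT h]
      refine Finset.sum_congr rfl fun n _ => ?_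
      rw [eT, show ((Subgroup.inclusion hNT n : T) : G) = (n : G) from rfl, covCoeff_coe]
    rw [h1, Finset.sum_congr rfl fun n _ => by
      rw [congrFun hdec n, sum_irr_apply, Finset.mul_sum], Finset.sum_comm]
    refine Finset.sum_congr rfl fun θ _ => ?_
    rw [← omegaFun_coeffFun (blockInd b) θ, omegaFun, mul_div_cancel₀ _ (irr_one_ne_zero θ),
      Finset.mul_sum]
    exact Finset.sum_congr rfl fun n _ => by ring
  have hone : (ψ : T → ℂ) 1 = ∑ θ : IrrCharacter N, (a θ : ℂ) * (θ : N → ℂ) 1 := by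
    have := congrFun hdec 1
    rw [sum_irr_apply] at this
    simpa using this
  constructor
  · rintro ⟨θ₀, hθ₀, hc₀⟩
    refine mul_right_cancel₀ (irr_one_ne_zero ψ) ?_
    rw [one_mul, hval, hone]
    refine Finset.sum_congr rfl fun θ _ => ?_
    by_cases h0 : a θ = 0
    · simp [h0]
    · rw [blockInd_of_mem (mem_of_constituent hT hNT hθ₀ hc₀
        (show classInner (fun n : N => (ψ : T → ℂ) ⟨(n : G), hNT n.2⟩) (θ : N → ℂ) ≠ 0 from fun h =>
          h0 (by exact_mod_cast (ha θ).symm.trans h))).1, mul_one]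
  · intro hno
    refine (mul_eq_zero.mp (hval.trans (Finset.sum_eq_zero fun θ _ => ?_))).resolve_right
      (irr_one_ne_zero ψ)
    by_cases h0 : a θ = 0
    · simp [h0]
    · rw [blockInd_of_notMem fun h => hno ⟨θ, h, fun h' => h0
        (by exact_mod_cast (ha θ).symm.trans h')⟩, mul_zero, mul_zero]

theorem over_of_sameBlock (hM : IsPModular p M) (hb : IsPBlock M b) (hT : IsStab N b T)
    (hNT : N ≤ T) {ψ η : IrrCharacter T} (hψ : Over N b hNT ψ)
    (h : SameBlock M (ψ : T → ℂ) (η : T → ℂ)) : Over N b hNT η := by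
  by_contra hno
  have := (cenInt_cov hM hb hT).congr_block hM h
  rw [(cov_eq hT hNT ψ).1 hψ, (cov_eq hT hNT η).2 hno, sub_zero] at this
  exact ideal_one hM this

/-- A central element of `T` carried to `G`. -/
noncomputable def lift (N : Subgroup G) [N.Normal] (b : Set (IrrCharacter N)) (T : Subgroup G)
    [Fintype T] (z : IrrCharacter T → ℂ) (χ : IrrCharacter G) : ℂ :=
  omegaFun χ (indFun T (coeffFun (z * cov N b T)))

theorem cenInt_lift (hM : IsPModular p M) (hb : IsPBlock M b) (hT : IsStab N b T)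
    {z : IrrCharacter T → ℂ} (hz : CenInt M z) : CenInt M (lift N b T z) := fun g => by
  classical
  rw [show lift N b T z =
      fun χ : IrrCharacter G => omegaFun χ (indFun T (coeffFun (z * cov N b T))) from rfl,
    coeffFun_omegaFun (indFun_classFun _ _)]
  set a := coeffFun (z * cov N b T)
  have ha : ∀ t, MemLocalRing M (a t) := hz.mul hM (cenInt_cov hM hb hT)
  haveI := Fintype.ofFinite (G ⧸ T)
  have h1 : ∀ (q : G ⧸ T) (w : T),
      extendByZero T a ((q.out * w)⁻¹ * g * (q.out * w)) =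
        extendByZero T a (q.out⁻¹ * g * q.out) := fun q w => by
    by_cases h : q.out⁻¹ * g * q.out ∈ T
    · have h' : (q.out * (w : G))⁻¹ * g * (q.out * w) ∈ T := by
        have := mul_mem (mul_mem (inv_mem w.2) h) w.2
        simpa [mul_assoc] using this
      rw [extendByZero_of_mem _ h, extendByZero_of_mem _ h']
      refine Eq.trans (congrArg a (Subtype.ext ?_))
        (coeffFun_classFun (z * cov N b T) ⟨_, h⟩ w⁻¹)
      simp [mul_assoc]
    · rw [extendByZero_not_mem _ h, extendByZero_not_mem _ fun h' => h (by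
        have := mul_mem (mul_mem w.2 h') (inv_mem w.2)
        simpa [mul_assoc] using this)]
  rw [indFun, ← sum_out_mul T (fun x => extendByZero T a (x⁻¹ * g * x)),
    Finset.sum_congr rfl fun q _ => by
      rw [Finset.sum_congr rfl fun w _ => h1 q w, Finset.sum_const, nsmul_eq_mul,
        Finset.card_univ, ← Nat.card_eq_fintype_card], ← Finset.mul_sum, ← mul_assoc,
    inv_mul_cancel₀ (Nat.cast_ne_zero.mpr Nat.card_pos.ne'), one_mul]
  refine ring_sum hM fun q _ => ?_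
  by_cases h : q.out⁻¹ * g * q.out ∈ T
  · rw [extendByZero_of_mem _ h]; exact ha _
  · rw [extendByZero_not_mem _ h]; exact ring_zero hM

theorem lift_mul_one (z : IrrCharacter T → ℂ) (χ : IrrCharacter G) {a : IrrCharacter T → ℕ}
    (ha : (fun t : T => (χ : G → ℂ) t) = ∑ η : IrrCharacter T, (a η : ℂ) • (η : T → ℂ)) :
    lift N b T z χ * (χ : G → ℂ) 1 =
      (T.index : ℂ) * ∑ η : IrrCharacter T, (a η : ℂ) * ((η : T → ℂ) 1 * (z η * cov N b T η)) := by
  rw [lift, omegaFun, div_mul_cancel₀ _ (irr_one_ne_zero χ),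
    sum_indFun_mul T _ (irr_classFun χ)]
  congr 1
  rw [Finset.sum_congr rfl fun t _ => by rw [congrFun ha t, sum_irr_apply, Finset.mul_sum],
    Finset.sum_comm]
  refine Finset.sum_congr rfl fun η _ => ?_
  rw [← Pi.mul_apply (f := z) (g := cov N b T), ← omegaFun_coeffFun (z * cov N b T) η, omegaFun,
    mul_div_cancel₀ _ (irr_one_ne_zero η), Finset.mul_sum]
  exact Finset.sum_congr rfl fun t _ => by ring

theorem lift_ind (hM : IsPModular p M) (hb : IsPBlock M b) (hT : IsStab N b T) (hNT : N ≤ T)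
    (z : IrrCharacter T → ℂ) {ψ : IrrCharacter T} (hψ : Over N b hNT ψ) {χ : IrrCharacter G}
    (hχ : (χ : G → ℂ) = indFun T (ψ : T → ℂ)) : lift N b T z χ = z ψ := by
  classical
  obtain ⟨χ', hχ', -, h1, huniq⟩ := ind_of_over hM hb hT hNT hψ
  obtain rfl : χ = χ' := Subtype.ext (hχ.trans hχ'.symm)
  obtain ⟨a, ha, hdec⟩ := IsChar.exists_decomp_inner (IsChar.res (irr_isChar χ) T)
  refine mul_right_cancel₀ (irr_one_ne_zero χ) ?_
  rw [lift_mul_one z χ hdec, Finset.sum_eq_single ψ (fun η _ hne => ?_) (by simp),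
    (cov_eq hT hNT ψ).1 hψ, ← ha, h1, show (χ : G → ℂ) 1 = (T.index : ℂ) * (ψ : T → ℂ) 1 by
      rw [hχ, indFun_one_eq]]
  · ring
  by_cases h0 : a η = 0
  · simp [h0]
  · rw [(cov_eq hT hNT η).2 fun hov => hne (huniq η (by
      rw [ha]; exact Nat.cast_ne_zero.mpr h0) hov)]
    ring

theorem overG_of_sameBlock (hM : IsPModular p M) (hb : IsPBlock M b) (hT : IsStab N b T)
    (hNT : N ≤ T) {ψ : IrrCharacter T} (hψ : Over N b hNT ψ) {χ χ' : IrrCharacter G}
    (hχ : (χ : G → ℂ) = indFun T (ψ : T → ℂ))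
    (h : SameBlock M (χ : G → ℂ) (χ' : G → ℂ)) : OverG N b χ' := by
  classical
  by_contra hno
  have h1 := (cenInt_lift hM hb hT (z := (1 : IrrCharacter T → ℂ)) (cenInt_one hM)).congr_block hM h
  obtain ⟨a, ha, hdec⟩ := IsChar.exists_decomp_inner (IsChar.res (irr_isChar χ') T)
  have h0 : lift N b T 1 χ' = 0 := by
    refine (mul_eq_zero.mp ((lift_mul_one 1 χ' hdec).trans ?_)).resolve_right (irr_one_ne_zero χ')
    refine mul_eq_zero_of_right _ (Finset.sum_eq_zero fun η _ => ?_)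
    by_cases hη : a η = 0
    · simp [hη]
    · rw [(cov_eq hT hNT η).2 fun ⟨θ, hθ, hθc⟩ => hno ⟨θ, hθ, ?_⟩]
      · ring
      rw [show (fun n : N => (χ' : G → ℂ) n) =
          fun n => (fun t : T => (χ' : G → ℂ) t) (Subgroup.inclusion hNT n) from rfl,
        mlt_spec _ (IsChar.res (irr_isChar χ') T) (irr_isChar θ),
        mlt_expand _ (IsChar.res (irr_isChar χ') T) hdec (irr_isChar θ)]
      refine Nat.cast_ne_zero.mpr fun hz => hθc ?_
      rw [show (fun n : N => (η : T → ℂ) ⟨(n : G), hNT n.2⟩) =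
        fun n => (η : T → ℂ) (Subgroup.inclusion hNT n) from rfl,
        mlt_spec _ (irr_isChar η) (irr_isChar θ),
        (Nat.mul_eq_zero.mp (Finset.sum_eq_zero_iff.mp hz η (Finset.mem_univ η))).resolve_left hη,
        Nat.cast_zero]
  rw [lift_ind hM hb hT hNT 1 hψ hχ, h0, sub_zero] at h1
  exact ideal_one hM h1

theorem inducedCentralChar_eq {ψ : IrrCharacter T} {χ : IrrCharacter G}
    (hχ : (χ : G → ℂ) = indFun T (ψ : T → ℂ)) (g : G) :
    inducedCentralChar T (ψ : T → ℂ) g = centralChar (χ : G → ℂ) g := by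
  rw [← resCen_centralChar, resCen_eq_omegaFun, coeffFun_centralChar, ← omegaFun_classInd,
    omegaFun, omegaFun, hχ, indFun_one_eq,
    show ∑ x : G, classInd g x * indFun T (ψ : T → ℂ) x =
      ∑ x : G, indFun T (ψ : T → ℂ) x * classInd g x from
      Finset.sum_congr rfl fun x _ => mul_comm _ _,
    sum_indFun_mul T _ (classInd_classFun g),
    mul_div_mul_left _ _ (Nat.cast_ne_zero.mpr Subgroup.index_ne_zero_of_finite)]
  congr 1
  exact Finset.sum_congr rfl fun t _ => mul_comm _ _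

theorem sameBlock_ind_iff (hM : IsPModular p M) (hb : IsPBlock M b) (hT : IsStab N b T)
    (hNT : N ≤ T) {ψ η : IrrCharacter T} (hψ : Over N b hNT ψ) (hη : Over N b hNT η)
    {χ χ' : IrrCharacter G} (hχ : (χ : G → ℂ) = indFun T (ψ : T → ℂ))
    (hχ' : (χ' : G → ℂ) = indFun T (η : T → ℂ)) :
    SameBlock M (χ : G → ℂ) (χ' : G → ℂ) ↔ SameBlock M (ψ : T → ℂ) (η : T → ℂ) := by
  constructor
  · intro h t
    have h1 := (cenInt_lift hM hb hT (cenInt_centralChar hM t)).congr_block hM h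
    rwa [lift_ind hM hb hT hNT _ hψ hχ, lift_ind hM hb hT hNT _ hη hχ'] at h1
  · intro h g
    have h1 := (CenInt.resCen (H := T) (cenInt_centralChar hM g)).congr_block hM h
    rwa [resCen_centralChar, resCen_centralChar, inducedCentralChar_eq hχ,
      inducedCentralChar_eq hχ'] at h1

/-- The block induced by a block of `T` over `b`. -/
theorem induced (hM : IsPModular p M) (hb : IsPBlock M b) (hT : IsStab N b T) (hNT : N ≤ T)
    {B' : Set (IrrCharacter T)} (hB' : IsPBlock M B') (hcov : ∃ ψ ∈ B', Over N b hNT ψ) :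
    (∀ ψ ∈ B', Over N b hNT ψ) ∧ ∃ B : Set (IrrCharacter G), IsInducedBlock M T B' B ∧
      (∀ χ : IrrCharacter G, χ ∈ B ↔ ∃ ψ ∈ B', (χ : G → ℂ) = indFun T (ψ : T → ℂ)) ∧
      ∀ χ ∈ B, OverG N b χ := by
  obtain ⟨ψ, hψB, hψ⟩ := hcov
  have hall : ∀ η ∈ B', Over N b hNT η := fun η hη =>
    over_of_sameBlock hM hb hT hNT hψ (pblock_sameBlock hM hB' hψB hη)
  refine ⟨hall, ?_⟩
  obtain ⟨χ, hχ, hχG, -, -⟩ := ind_of_over hM hb hT hNT hψ
  have hmem : ∀ χ' : IrrCharacter G, χ' ∈ blockOf M (χ : G → ℂ) ↔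
      ∃ η ∈ B', (χ' : G → ℂ) = indFun T (η : T → ℂ) := fun χ' => by
    rw [mem_blockOf]
    constructor
    · intro h
      obtain ⟨θ, hθ, hθc⟩ := overG_of_sameBlock hM hb hT hNT hψ hχ h
      obtain ⟨η, hη, hind, -, -⟩ := corr hM hb hT hNT hθ hθc
      exact ⟨η, pblock_mem_of_sameBlock hM hB' hψB
        ((sameBlock_ind_iff hM hb hT hNT hψ ⟨θ, hθ, hη⟩ hχ hind.symm).mp h), hind.symm⟩
    · rintro ⟨η, hη, hχ'⟩
      exact (sameBlock_ind_iff hM hb hT hNT hψ (hall η hη) hχ hχ').mpr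
        (pblock_sameBlock hM hB' hψB hη)
  refine ⟨blockOf M (χ : G → ℂ), ⟨hB', isPBlock_blockOf χ, fun ξ hξ χ' hχ' g => ?_⟩, hmem,
    fun χ' hχ' => overG_of_sameBlock hM hb hT hNT hψ hχ (mem_blockOf.mp hχ')⟩
  obtain ⟨χξ, hχξ, -, -, -⟩ := ind_of_over hM hb hT hNT (hall ξ hξ)
  rw [inducedCentralChar_eq hχξ]
  exact pblock_sameBlock hM (isPBlock_blockOf χ) ((hmem χξ).mpr ⟨ξ, hξ, hχξ⟩) hχ' g

end Cfsg.Agent.Char.FR
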