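import Cfsg.Agent.Lib.Char.SectionOrbit
import Cfsg.Agent.Lib.Char.RankOneBasic
import Cfsg.Agent.Lib.Char.PairPrincipalNilpotent
import Cfsg.Agent.Lib.Char.GaloisParity
import Cfsg.Agent.Lib.Transfer.Burnside
import Cfsg.Agent.Lib.Invol.FongHeight
import Cfsg.Prelude.Def_Transfer
import Mathlib.GroupTheory.FixedPointFree

/-!
Blocks in which the number of characters exceeds the regular rank by at most one.
-/

namespace Cfsg.Agent.Char.DiffOne

open Cfsg Cfsg.Agent.Block Cfsg.Agent.Char Cfsg.Agent.Char.BP Cfsg.Agent.Char.Spec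

set_option linter.unusedSectionVars false
set_option linter.style.haveILetI false

universe u

variable {G : Type u} [Group G] [Fintype G] {p : ℕ} [Fact p.Prime] {M : Ideal AlgInt}
variable {B : Set (IrrCharacter G)} {D : Subgroup G}

theorem ppow_of_mem (hD : IsPGroup p D) {u : G} (hu : u ∈ D) : ∃ k, orderOf u = p ^ k := by
  obtain ⟨k, hk⟩ := IsPGroup.iff_orderOf.1 hD ⟨u, hu⟩
  exact ⟨k, by rwa [Subgroup.orderOf_mk] at hk⟩

theorem exists_pairsAt (hM : IsPModular p M) (hB : IsPBlock M B) (hD : IsDefectGroup p M B D)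
    {x : G} (hx : x ∈ D) : ∃ a, a ∈ pairsAt p M B x := by
  have hxp := ppow_of_mem (IsDefectGroup.isPGroup hD) hx
  have hp := isPGroup_zpowers hxp
  have hPH : Subgroup.zpowers x ≤ CG (Subgroup.zpowers x) :=
    Subgroup.zpowers_le.2 (by
      rw [cg_zpowers]; exact Subgroup.mem_centralizer_singleton_iff.2 rfl)
  have hne : ¬ BrZero M (Subgroup.zpowers x) (blockInd B) :=
    (not_brZero_iff hM hB hD hp).2 ⟨1, Cfsg.Agent.Block.map_conj_le_iff.2 fun v hv => by
      simpa using (Subgroup.zpowers_le.2 hx) hv⟩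
  obtain ⟨b, hb⟩ := (exists_inducing_iff hM hp hPH le_rfl (cg_le_normalizer _) hB).2 hne
  exact ⟨⟨Subgroup.zpowers x, b⟩, mem_pairsAt.2 ⟨rfl, (ofB_iff_induced hM hB hxp b).2 hb⟩⟩

theorem sum_rank_one_eq (hM : IsPModular p M) (hB : IsPBlock M B) (hD : IsDefectGroup p M B D) :
    blockRank p B ≤ ∑ a ∈ pairsAt p M B (1 : G), blockRank p a.2 := by
  obtain ⟨a, ha⟩ := exists_pairsAt hM hB hD (one_mem D)
  obtain ⟨ha1, haB⟩ := mem_pairsAt.1 ha
  obtain ⟨⟨P, e⟩, -, hy⟩ := exists_max_above hM haB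
  rw [← rank_bot_pair hM hy hB ha1 haB]
  exact Finset.single_le_sum (f := fun a : BrauerPairIdx G => blockRank p a.2)
    (fun _ _ => Nat.zero_le _) ha

theorem pair_rank_pos (hM : IsPModular p M) {x : G} {a : BrauerPairIdx G}
    (ha : a ∈ pairsAt p M B x) : 1 ≤ blockRank p a.2 := by
  classical
  letI := Fintype.ofFinite (CG a.1)
  exact Res.blockRank_pos hM (mem_pairsAt.1 ha).2.1.2

theorem sections (hM : IsPModular p M) (hB : IsPBlock M B) (hD : IsDefectGroup p M B D)
    (hk : Nat.card B ≤ blockRank p B + 1) {u : G} (hu : u ∈ D) (hu1 : u ≠ 1) :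
    (∀ v ∈ D, v ≠ 1 → IsConj v u) ∧
      ∀ b : Set (IrrCharacter ↥(Subgroup.centralizer ({u} : Set G))),
        IsInducedBlock M (Subgroup.centralizer ({u} : Set G)) b B → blockRank p b = 1 := by
  classical
  set S := Finset.univ.filter (fun g : G => ∃ k : ℕ, orderOf g = p ^ k)
  let rep : G → G := fun g => if IsConj g u then u else (ConjClasses.mk g).out
  have hout : ∀ g : G, IsConj g (ConjClasses.mk g).out := fun g =>
    ConjClasses.mk_eq_mk_iff_isConj.1 (Quotient.out_eq (ConjClasses.mk g)).symm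
  have hrep : ∀ g : G, IsConj g (rep g) := fun g => by
    by_cases h : IsConj g u
    · show IsConj g (if IsConj g u then u else _)
      rw [if_pos h]; exact h
    · show IsConj g (if IsConj g u then u else _)
      rw [if_neg h]; exact hout g
  have hpow : ∀ {g g' : G}, IsConj g g' → orderOf g = orderOf g' := fun {g g'} h => by
    obtain ⟨t, rfl⟩ := isConj_iff.1 h
    exact (MulEquiv.orderOf_eq (MulAut.conj t) g).symm
  have hrepC : ∀ {g g' : G}, IsConj g g' → rep g = rep g' := fun {g g'} h => by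
    by_cases h' : IsConj g u
    · simp only [rep, if_pos h', if_pos (h.symm.trans h')]
    · have h'' : ¬ IsConj g' u := fun e => h' (h.trans e)
      simp only [rep, if_neg h', if_neg h'', ConjClasses.mk_eq_mk_iff_isConj.2 h]
  set X := S.image rep with hX
  have hXp : ∀ v ∈ X, ∃ k : ℕ, orderOf v = p ^ k := by
    intro v hv
    obtain ⟨g, hg, rfl⟩ := Finset.mem_image.1 hv
    rw [← hpow (hrep g)]
    exact (Finset.mem_filter.1 hg).2
  have hXrep : ∀ g : G, (∃ k : ℕ, orderOf g = p ^ k) → ∃! v, v ∈ X ∧ IsConj g v := by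
    intro g hg
    refine ⟨rep g, ⟨Finset.mem_image.2 ⟨g, Finset.mem_filter.2 ⟨Finset.mem_univ g, hg⟩, rfl⟩,
      hrep g⟩, ?_⟩
    rintro v ⟨hv, hgv⟩
    obtain ⟨g', -, rfl⟩ := Finset.mem_image.1 hv
    exact ((hrepC (hgv.trans (hrep g').symm))).symm
  have hrone : rep 1 = 1 := (isConj_one_right.1 (hrep 1)).symm ▸ rfl
  have hru : rep u = u := if_pos (IsConj.refl u)
  have hmem : ∀ {g : G}, g ∈ D → rep g ∈ X := fun {g} hg => Finset.mem_image.2
    ⟨g, Finset.mem_filter.2 ⟨Finset.mem_univ g, ppow_of_mem (IsDefectGroup.isPGroup hD) hg⟩, rfl⟩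
  set f : G → ℕ := fun x => ∑ a ∈ pairsAt p M B x, blockRank p a.2 with hf
  have hpos : ∀ {g : G}, g ∈ D → 1 ≤ f (rep g) := fun {g} hg => by
    obtain ⟨t, ht⟩ := isConj_iff.1 (hrep g)
    obtain ⟨a, ha⟩ := exists_pairsAt hM hB (isDefectGroup_map_conj hM hD t)
      (x := rep g) ⟨g, hg, ht⟩
    exact le_trans (pair_rank_pos hM ha) (Finset.single_le_sum
      (f := fun a : BrauerPairIdx G => blockRank p a.2) (fun _ _ => Nat.zero_le _) ha)
  have htot : Nat.card B = ∑ x ∈ X, f x := by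
    rw [card_eq_sum_ranks hM hB X hXp hXrep]
    exact Finset.sum_congr rfl fun v hv =>
      sum_rank_pairsAt hM hB (hXp v hv) (cg_zpowers v).symm
  have h1 : (1 : G) ∈ X := hrone ▸ hmem (one_mem D)
  have huX : u ∈ X := hru ▸ hmem hu
  have hsum1 : blockRank p B ≤ f 1 := sum_rank_one_eq hM hB hD
  have hsub : ∀ s : Finset G, s ⊆ X → ∑ x ∈ s, f x ≤ blockRank p B + 1 := fun s hs =>
    (Finset.sum_le_sum_of_subset hs).trans (htot ▸ hk)
  refine ⟨fun v hv hv1 => ?_, fun b hb => ?_⟩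
  · by_contra hc
    have hr1 : rep v ≠ 1 := fun e => hv1 (isConj_one_left.1 (e ▸ hrep v : IsConj v 1))
    have hru' : rep v ≠ u := fun e => hc (e ▸ hrep v)
    have h := hsub {1, u, rep v} (by
      simp [Finset.insert_subset_iff, h1, huX, hmem hv])
    rw [Finset.sum_insert (by simp [Ne.symm hu1, Ne.symm hr1]),
      Finset.sum_insert (by simp [Ne.symm hru']), Finset.sum_singleton] at h
    have a1 := hpos hv
    have a2 := hru ▸ hpos hu
    omega
  · have h := hsub {1, u} (by simp [Finset.insert_subset_iff, h1, huX])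
    rw [Finset.sum_insert (by simp [Ne.symm hu1]), Finset.sum_singleton] at h
    have hle : blockRank p b ≤ f u := by
      simp only [hf]
      rw [← sum_rank_pairsAt hM hB (hXp u huX) (cg_zpowers u).symm, finsum_mem_eq_toFinset_sum]
      exact Finset.single_le_sum (f := fun b => blockRank p b) (fun _ _ => Nat.zero_le _)
        (by simpa using hb)
    have hb1 := Res.blockRank_pos hM hb.1
    omega
theorem pow_eq_one (hM : IsPModular p M) (hB : IsPBlock M B) (hD : IsDefectGroup p M B D)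
    (hk : Nat.card B ≤ blockRank p B + 1) {a : G} (ha : a ∈ D) : a ^ p = 1 := by
  by_cases ha1 : a = 1
  · simp [ha1]
  obtain ⟨k, hk'⟩ := ppow_of_mem (IsDefectGroup.isPGroup hD) ha
  obtain ⟨j, rfl⟩ : ∃ j, k = j + 1 := by
    refine ⟨k - 1, (Nat.sub_add_cancel (Nat.one_le_iff_ne_zero.2 fun h => ha1 ?_)).symm⟩
    rw [h, pow_zero, orderOf_eq_one_iff] at hk'
    exact hk'
  have ho : orderOf (a ^ p ^ j) = p := by
    rw [orderOf_pow' _ (pow_ne_zero _ (Fact.out : p.Prime).ne_zero), hk',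
      Nat.gcd_eq_right (pow_dvd_pow p (Nat.le_succ j)), pow_succ,
      Nat.mul_div_cancel_left _ (pow_pos (Fact.out : p.Prime).pos j)]
  have hne : a ^ p ^ j ≠ 1 := fun h => (Fact.out : p.Prime).ne_one (by rw [← ho, h, orderOf_one])
  obtain ⟨t, ht⟩ := isConj_iff.1
    ((sections hM hB hD hk ha ha1).1 _ (pow_mem ha _) hne)
  have : orderOf a = p := (congrArg orderOf ht).symm.trans
    ((MulEquiv.orderOf_eq (MulAut.conj t) _).trans ho)
  rw [← this]
  exact pow_orderOf_eq_one a

/-- In a group with a normal `p`-complement, a `p'`-element commutes with whatever it moves only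
by elements of `p`-power order. -/
theorem commute_of_complement {C : Subgroup G} (hC : HasNormalPComplement p C) {s a : G}
    (hs : s ∈ C) (ha : a ∈ C) (hsp : ¬ p ∣ orderOf s)
    (hpow : ∃ k, orderOf (s * a * s⁻¹ * a⁻¹) = p ^ k) : s * a * s⁻¹ = a := by
  obtain ⟨N, hN, hd, k, hk⟩ := Cfsg.Agent.Transfer.hasNormalPComplement_iff_exists.1 hC
  haveI := hN
  have hsN : (⟨s, hs⟩ : C) ∈ N := regular_mem_of_index_pPow hk (by rwa [Subgroup.orderOf_mk])
  have hw : (⟨s, hs⟩ * (⟨a, ha⟩ * (⟨s, hs⟩ : C)⁻¹ * ⟨a, ha⟩⁻¹) : C) ∈ N :=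
    mul_mem hsN (hN.conj_mem _ (inv_mem hsN) _)
  obtain ⟨j, hj⟩ := hpow
  have h1 : orderOf (⟨s, hs⟩ * (⟨a, ha⟩ * (⟨s, hs⟩ : C)⁻¹ * ⟨a, ha⟩⁻¹) : C) = p ^ j := by
    rw [← hj, ← Subgroup.orderOf_coe]
    simp [mul_assoc]
  have h2 := N.orderOf_dvd_natCard hw
  rw [h1] at h2
  have h3 : p ^ j = 1 := Nat.eq_one_of_dvd_coprimes
    (Nat.Coprime.pow_left j ((Fact.out : p.Prime).coprime_iff_not_dvd.2 hd)) dvd_rfl h2
  rw [h3, orderOf_eq_one_iff, mul_inv_eq_one] at hj
  exact hj

theorem commute_principal (hM : IsPModular p M) (hD : IsDefectGroup p M (principalBlock M G) D)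
    (hk : Nat.card (principalBlock M G) ≤ blockRank p (principalBlock M G) + 1) (hp2 : p ≠ 2) :
    ∀ a ∈ D, ∀ b ∈ D, a * b = b * a := by
  classical
  have hp : p.Prime := Fact.out
  have hB : IsPBlock M (principalBlock M G) := isPBlock_principalBlock
  have hodd : Odd p := hp.odd_of_ne_two hp2
  by_cases hbot : D = ⊥
  · subst hbot
    intro a ha b hb
    rw [Subgroup.mem_bot.1 ha, Subgroup.mem_bot.1 hb]
  let P : Sylow p G := Sylow.ofCard D (by
    rw [card_defectGroup hM hB hD, GalParity.principal_defect hM])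
  have hPD : (P : Subgroup G) = D := rfl
  have hDp : IsPGroup p D := IsDefectGroup.isPGroup hD
  -- centralizers of non-trivial elements have normal complements
  have hcompl : ∀ u ∈ D, u ≠ 1 →
      HasNormalPComplement p (Subgroup.centralizer ({u} : Set G)) := by
    intro u hu hu1
    letI := Fintype.ofFinite (Subgroup.centralizer ({u} : Set G))
    obtain ⟨a, ha⟩ := exists_pairsAt hM hB hD hu
    have hup := ppow_of_mem hDp hu
    have hpz := isPGroup_zpowers hup
    have hCe := cg_zpowers u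
    have hPH : Subgroup.zpowers u ≤ Subgroup.centralizer ({u} : Set G) :=
      Subgroup.zpowers_le.2 (Subgroup.mem_centralizer_singleton_iff.2 rfl)
    have hdef := inducedBlockDefined_brauer hM hpz hPH (le_of_eq hCe)
      (hCe ▸ cg_le_normalizer _) (isPBlock_principalBlock (M := M)
        (G := Subgroup.centralizer ({u} : Set G)))
    exact complement_of_rank_one hM
      ((sections hM hB hD hk hu hu1).2 _ ((principal_third_main hM hdef).2 rfl))
  haveI : Nontrivial (D : Subgroup G) := (Subgroup.nontrivial_iff_ne_bot D).2 hbot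
  haveI := hDp.center_nontrivial
  obtain ⟨z₀, hz₀⟩ := exists_ne (1 : Subgroup.center (D : Subgroup G))
  set z : G := ((z₀ : D) : G) with hz
  have hzD : z ∈ D := (z₀ : D).2
  have hz1 : z ≠ 1 := fun h => hz₀ (Subtype.ext (Subtype.ext h))
  have hzc : ∀ a ∈ D, a * z = z * a := fun a ha =>
    congrArg Subtype.val (Subgroup.mem_center_iff.1 z₀.2 ⟨a, ha⟩)
  have hz2 : z * z ≠ 1 := by
    intro h
    have h1 : orderOf z ∣ 2 := orderOf_dvd_of_pow_eq_one (by rw [pow_two, h])
    have h2 : orderOf z ∣ p := orderOf_dvd_of_pow_eq_one (pow_eq_one hM hB hD hk hzD)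
    exact hz1 (orderOf_eq_one_iff.1 (Nat.eq_one_of_dvd_coprimes
      (Nat.coprime_two_left.2 hodd) h1 h2))
  obtain ⟨g, hg⟩ := isConj_iff.1
    ((sections hM hB hD hk (inv_mem hzD) (inv_ne_one.2 hz1)).1 z hzD hz1)
  obtain ⟨n₀, hn₀, hnz₀⟩ := Cfsg.Agent.Transfer.exists_normalizer_conj_elem P
    (x := z) (g := g) (fun a ha => hzc a ha)
    (fun a ha => by rw [hg]; exact (show Commute a z from hzc a ha).inv_right)
  rw [hg] at hnz₀
  -- an inverting element of order prime to `p`
  obtain ⟨e, m, hm, hem⟩ := Nat.exists_eq_pow_mul_and_not_dvd (orderOf_pos n₀).ne' p hp.ne_one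
  set n := n₀ ^ p ^ e with hn
  have hnN : n ∈ Subgroup.normalizer (D : Set G) := pow_mem hn₀ _
  have hnp : ¬ p ∣ orderOf n := by
    rw [hn, orderOf_pow' _ (pow_ne_zero _ hp.ne_zero), hem,
      Nat.gcd_eq_right (Dvd.intro m rfl), Nat.mul_div_cancel_left _ (pow_pos hp.pos e)]
    exact hm
  have hodd_pow : ∀ j : ℕ, Odd j → n₀ ^ j * z * (n₀ ^ j)⁻¹ = z⁻¹ := by
    rintro _ ⟨j, rfl⟩
    induction j with
    | zero => simpa using hnz₀
    | succ j ih =>
      have e2 : n₀ ^ (2 * (j + 1) + 1) = n₀ * (n₀ * n₀ ^ (2 * j + 1)) := by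
        rw [← pow_succ', ← pow_succ']; ring_nf
      have hinv : n₀ * z⁻¹ * n₀⁻¹ = z := by
        rw [← inv_inv (n₀ * z⁻¹ * n₀⁻¹)]
        simp only [mul_inv_rev, inv_inv, ← mul_assoc, hnz₀]
      calc _ = n₀ * (n₀ * (n₀ ^ (2 * j + 1) * z * (n₀ ^ (2 * j + 1))⁻¹) * n₀⁻¹) * n₀⁻¹ := by
            rw [e2]; group
        _ = _ := by rw [ih, hinv, hnz₀]
  have hnz : n * z * n⁻¹ = z⁻¹ := hodd_pow _ hodd.pow
  have hconjD : ∀ a ∈ D, n * a * n⁻¹ ∈ D := fun a ha =>
    (Subgroup.mem_normalizer_iff.1 hnN a).1 ha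
  have hcomm : ∀ c a : G, c ∈ D → a ∈ D → ∃ k, orderOf (c * a⁻¹) = p ^ k := fun c a hc ha =>
    ppow_of_mem hDp (mul_mem hc (inv_mem ha))
  have hnn : ∀ a ∈ D, n * (n * a * n⁻¹) * n⁻¹ = a := by
    intro a ha
    have hs : n * n ∈ Subgroup.centralizer ({z} : Set G) := by
      rw [Subgroup.mem_centralizer_singleton_iff]
      have hni : n * z⁻¹ * n⁻¹ = z := by
        rw [← inv_inv (n * z⁻¹ * n⁻¹)]
        simp only [mul_inv_rev, inv_inv, ← mul_assoc, hnz]
      calc n * n * z = n * (n * z * n⁻¹) * n⁻¹ * (n * n) := by group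
        _ = z * (n * n) := by rw [hnz, hni]
    have haC : a ∈ Subgroup.centralizer ({z} : Set G) :=
      Subgroup.mem_centralizer_singleton_iff.2 (hzc a ha)
    have hsp : ¬ p ∣ orderOf (n * n) := fun h => hnp (h.trans (by
      rw [← pow_two]; exact orderOf_pow_dvd 2))
    have h := commute_of_complement (hcompl z hzD hz1) hs haC hsp (by
      rw [show n * n * a * (n * n)⁻¹ * a⁻¹ = n * (n * a * n⁻¹) * n⁻¹ * a⁻¹ by group]
      exact hcomm _ _ (hconjD _ (hconjD a ha)) ha)
    calc _ = n * n * a * (n * n)⁻¹ := by group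
      _ = a := h
  let φ : D →* D :=
    { toFun := fun a => ⟨n * (a : G) * n⁻¹, hconjD a a.2⟩
      map_one' := Subtype.ext (by simp)
      map_mul' := fun a b => Subtype.ext (by simp [mul_assoc]) }
  have hinv : Function.Involutive φ := fun a => Subtype.ext (hnn a a.2)
  have hfix : MonoidHom.FixedPointFree φ := by
    intro y hy
    by_contra hy1
    have hy' : n * (y : G) * n⁻¹ = y := congrArg Subtype.val hy
    have hy1' : (y : G) ≠ 1 := fun h => hy1 (Subtype.ext h)
    have hsC : n ∈ Subgroup.centralizer ({(y : G)} : Set G) :=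
      Subgroup.mem_centralizer_singleton_iff.2 (mul_inv_eq_iff_eq_mul.1 hy')
    have hzC : z ∈ Subgroup.centralizer ({(y : G)} : Set G) :=
      Subgroup.mem_centralizer_singleton_iff.2 (hzc y y.2).symm
    have h := commute_of_complement (hcompl y y.2 hy1') hsC hzC hnp (by
      rw [hnz]; exact hcomm _ _ (inv_mem hzD) hzD)
    rw [hnz, inv_eq_iff_mul_eq_one] at h
    exact hz2 h
  intro a ha b hb
  exact congrArg Subtype.val (hfix.commute_all_of_involutive hinv (⟨a, ha⟩ : D) ⟨b, hb⟩).eq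

theorem blockRank_le_induced (T : Subgroup G) [Fintype T] {B' : Set (IrrCharacter T)}
    {B : Set (IrrCharacter G)}
    (hmem : ∀ χ : IrrCharacter G, χ ∈ B → ∃ ψ ∈ B', (χ : G → ℂ) = indFun T (ψ : T → ℂ)) :
    blockRank p B ≤ blockRank p B' := by
  classical
  let Φ : (T → ℂ) →ₗ[ℂ] (G → ℂ) :=
    { toFun := fun f => indFun T f
      map_add' := fun f f' => indFun_add T f f'
      map_smul' := fun c f => indFun_smul T c f }
  have hcomm : ∀ f : T → ℂ, pRegularPart p (indFun T f) = indFun T (pRegularPart p f) := by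
    intro f
    funext g
    have hreg : ∀ x : G, IsPRegular p (x⁻¹ * g * x) ↔ IsPRegular p g := fun x => by
      have h : orderOf (x⁻¹ * g * x) = orderOf g := by
        simpa using MulEquiv.orderOf_eq (MulAut.conj x⁻¹) g
      simp only [IsPRegular, h]
    have hext : ∀ x : G, extendByZero T (pRegularPart p f) (x⁻¹ * g * x) =
        if IsPRegular p g then extendByZero T f (x⁻¹ * g * x) else 0 := by
      intro x
      by_cases hxT : x⁻¹ * g * x ∈ T
      · have e : ∀ φ : T → ℂ, extendByZero T φ (x⁻¹ * g * x) = φ ⟨_, hxT⟩ := fun φ =>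
          Subtype.val_injective.extend_apply φ 0 (⟨_, hxT⟩ : T)
        rw [e, e]
        simp only [pRegularPart]
        refine if_congr ?_ rfl rfl
        rw [← hreg x]
        simp only [IsPRegular, Subgroup.orderOf_mk]
      · have e : ∀ φ : T → ℂ, extendByZero T φ (x⁻¹ * g * x) = 0 := fun φ =>
          Function.extend_apply' φ (0 : G → ℂ) _ fun ⟨t, ht⟩ => hxT (ht ▸ t.2)
        rw [e, e]
        simp
    simp only [indFun, Finset.sum_congr rfl fun x _ => hext x, pRegularPart]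
    by_cases hg : IsPRegular p g <;> simp [hg]
  refine le_trans (Submodule.finrank_mono (Submodule.span_le.2 ?_)) (Submodule.finrank_map_le Φ _)
  rintro _ ⟨χ, hχ, rfl⟩
  obtain ⟨ψ, hψ, e⟩ := hmem χ hχ
  exact ⟨_, Submodule.subset_span ⟨ψ, hψ, rfl⟩, by show indFun T _ = _; rw [← hcomm, ← e]⟩

theorem commute_pSolvable (hM : IsPModular p M) :
    ∀ (n : ℕ) (G : Type u) [Group G] [Fintype G], Nat.card G = n → IsPSolvable p G →
      ∀ (B : Set (IrrCharacter G)), IsPBlock M B → Nat.card B ≤ blockRank p B + 1 →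
      ∀ D : Subgroup G, IsDefectGroup p M B D → ∀ a ∈ D, ∀ b ∈ D, a * b = b * a := by
  intro n
  induction n using Nat.strong_induction_on with
  | _ n ih =>
    intro G _ _ hn hsolv B hB hk D hD
    classical
    haveI := Grp.pPrimeCore_isNormal (p := p) (G := G)
    haveI := Fong.pPrimePCore_normal (p := p) (G := G)
    set K := Cfsg.pPrimeCore p G with hKdef
    letI : Fintype K := Fintype.ofFinite _
    letI : Fintype (Cfsg.pPrimePCore p G) := Fintype.ofFinite _
    have hcop : ¬ p ∣ Nat.card K := Grp.pPrimeCore_not_dvd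
    obtain ⟨χ, hχ⟩ := pblock_nonempty hM hB
    obtain ⟨θ, hθ⟩ := IsChar.exists_constituent' (IsChar.res (irr_isChar χ) K)
      (show (χ : G → ℂ) ((1 : K) : G) ≠ 0 by simpa using irr_one_ne_zero χ)
    by_cases hTtop : inertia K (θ : K → ℂ) = ⊤
    · have hinv : Fong.Fixed K θ := fun g m =>
        congrFun ((mem_inertia K).mp (hTtop ▸ Subgroup.mem_top g)) m
      obtain ⟨Q, hQp, hQL, hQ⟩ := Fong.exists_sylow_pPrimePCore (p := p) (G := G)
      obtain ⟨j, hj⟩ := Fong.exists_relIndex_pPrimePCore (p := p) (G := G)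
      obtain ⟨B₀, hB₀, hmem, -, hdef⟩ := Fong.block_over (Cfsg.pPrimePCore p G) Q hM
        Fong.pPrimeCore_le_pPrimePCore hQL hQp hcop hj hinv
        fun x hx hr => Fong.mem_pPrimeCore_of_commute hsolv hQL hQ hx hr
      have hBeq : B = B₀ := by
        rw [pblock_eq_blockOf hM hB hχ, pblock_eq_blockOf hM hB₀ ((hmem χ).mpr hθ)]
      obtain ⟨S, rfl⟩ := hdef D (hBeq ▸ hD)
      by_cases hbot : (S : Subgroup G) = ⊥
      · intro a ha b hb
        rw [hbot, Subgroup.mem_bot] at *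
        rw [ha, hb]
      obtain ⟨A, hA, hKA, -, hcomm, hZA⟩ := Invol.FongHeight.exists_abelian hsolv S
      haveI := hA
      haveI : Nontrivial (S : Subgroup G) := (Subgroup.nontrivial_iff_ne_bot _).2 hbot
      haveI := S.isPGroup'.center_nontrivial
      obtain ⟨z₀, hz₀⟩ := exists_ne (1 : Subgroup.center (S : Subgroup G))
      have hzA : ((z₀ : (S : Subgroup G)) : G) ∈ A := hZA ⟨(z₀ : (S : Subgroup G)), z₀.2, rfl⟩
      have hz1 : ((z₀ : (S : Subgroup G)) : G) ≠ 1 := fun h => hz₀ (Subtype.ext (Subtype.ext h))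
      have hle : ∀ v ∈ (S : Subgroup G), v ∈ A := by
        intro v hv
        by_cases hv1 : v = 1
        · rw [hv1]; exact one_mem _
        obtain ⟨t, ht⟩ := isConj_iff.1 ((sections hM hB hD hk hv hv1).1 _ (z₀ : (S : Subgroup G)).2 hz1)
        exact ht ▸ hA.conj_mem _ hzA t
      intro a ha b hb
      have hc := hcomm a (hle a ha) b (hle b hb)
      obtain ⟨i, hi⟩ := ppow_of_mem S.isPGroup'
        (mul_mem (mul_mem (mul_mem ha hb) (inv_mem ha)) (inv_mem hb))
      have h2 := K.orderOf_dvd_natCard hc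
      rw [hi] at h2
      have h3 : p ^ i = 1 := Nat.eq_one_of_dvd_coprimes
        (Nat.Coprime.pow_left i ((Fact.out : p.Prime).coprime_iff_not_dvd.2 hcop)) dvd_rfl h2
      rw [h3, orderOf_eq_one_iff, mul_inv_eq_one, mul_inv_eq_iff_eq_mul] at hi
      exact hi
    · set T := inertia K (θ : K → ℂ) with hTdef
      have hKT : K ≤ T := le_inertia K (IsIrr.classFun θ.2)
      letI : Fintype T := Fintype.ofFinite _
      have hb : IsPBlock M ({θ} : Set (IrrCharacter K)) := Fong.isPBlock_singleton hM hcop θ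
      have hT : FR.IsStab K ({θ} : Set (IrrCharacter K)) T := by
        intro g
        rw [hTdef, mem_inertia]
        constructor
        · rintro hg η hη η' hη'
          obtain rfl : η = θ := hη
          exact Subtype.ext (funext fun m => (hη' m).trans (congrFun hg m))
        · intro h
          have h1 : (⟨_, IsIrr.conjN K θ.2 g⟩ : IrrCharacter K) ∈
              ({θ} : Set (IrrCharacter K)) := h θ rfl _ fun m => rfl
          exact congrArg Subtype.val (Set.mem_singleton_iff.mp h1)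
      obtain ⟨η, hη, hindχ, -, -⟩ := FR.corr hM hb hT hKT rfl hθ
      have hcov : ∃ ψ ∈ blockOf M (η : T → ℂ), ∃ θ' ∈ ({θ} : Set (IrrCharacter K)),
          classInner (fun n : K => (ψ : T → ℂ) ⟨(n : G), hKT n.2⟩) (θ' : K → ℂ) ≠ 0 :=
        ⟨η, mem_blockOf_self hM η, θ, rfl, hη⟩
      obtain ⟨hall, C, hC, hmemC, -⟩ := FR.induced hM hb hT hKT (isPBlock_blockOf η) hcov
      have hχC : χ ∈ C := (hmemC χ).mpr ⟨η, mem_blockOf_self hM η, hindχ.symm⟩
      have hBC : C = B := by
        rw [pblock_eq_blockOf hM hB hχ, pblock_eq_blockOf hM hC.2.1 hχC]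
      rw [hBC] at hC hmemC
      obtain ⟨hdef, -⟩ := Cfsg.Agent.S4436.result p M hM K _ hb T hT hKT _ (isPBlock_blockOf η)
        hcov B hC
      obtain ⟨E, hE⟩ := exists_isDefectGroup hM (isPBlock_blockOf η)
      obtain ⟨x, hx⟩ := defectGroup_conj hM hB (hdef E hE) hD
      have hkT : Nat.card (blockOf M (η : T → ℂ)) ≤
          blockRank p (blockOf M (η : T → ℂ)) + 1 := by
        have hex : ∀ ψ : blockOf M (η : T → ℂ), ∃ ξ : B,
            ((ξ : IrrCharacter G) : G → ℂ) = indFun T ((ψ : IrrCharacter T) : T → ℂ) := fun ψ => by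
          obtain ⟨ξ, hξ, -⟩ := FR.ind_of_over hM hb hT hKT (hall ψ ψ.2)
          exact ⟨⟨ξ, (hmemC ξ).2 ⟨ψ, ψ.2, hξ⟩⟩, hξ⟩
        choose F hF using hex
        refine le_trans (le_trans (Nat.card_le_card_of_injective F fun ψ ψ' h => ?_) hk)
          (Nat.add_le_add_right (blockRank_le_induced T fun ξ hξ => (hmemC ξ).1 hξ) 1)
        obtain ⟨ξ, hξ, -, hone, huniq⟩ := FR.ind_of_over hM hb hT hKT (hall ψ' ψ'.2)
        obtain ⟨ξ', hξ', -, hone', -⟩ := FR.ind_of_over hM hb hT hKT (hall ψ ψ.2)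
        have e : ξ' = ξ := Subtype.ext (by rw [hξ', hξ, ← hF ψ, ← hF ψ', h])
        refine Subtype.ext (huniq ψ ?_ (hall ψ ψ.2))
        rw [← e, hone']
        exact one_ne_zero
      have hlt : Nat.card T < n := hn ▸ lt_of_le_of_ne (Subgroup.card_le_card_group T)
        (fun h => hTtop (Subgroup.eq_top_of_card_eq T h))
      have h := ih _ hlt T rfl (PPartDerived.isPSolvable_subgroup hsolv T) _ (isPBlock_blockOf η)
        hkT E hE
      rw [← hx]
      rintro _ ⟨_, ⟨a, ha, rfl⟩, rfl⟩ _ ⟨_, ⟨b, hb, rfl⟩, rfl⟩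
      rw [← map_mul, ← map_mul, ← map_mul, ← map_mul, h a ha b hb]

theorem elementary (hM : IsPModular p M) (hB : IsPBlock M B) (hD : IsDefectGroup p M B D)
    (hk : Nat.card B ≤ blockRank p B + 1)
    (hB0 : B = principalBlock M G ∨ IsPSolvable p G) : IsElementaryAbelian p D := by
  have hexp : ∀ a ∈ D, a ^ p = 1 := fun a ha => pow_eq_one hM hB hD hk ha
  suffices h : ∀ a ∈ D, ∀ b ∈ D, a * b = b * a from
    ⟨⟨⟨fun a b => Subtype.ext (h a a.2 b b.2)⟩⟩, hexp⟩
  by_cases hp2 : p = 2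
  · subst hp2
    intro a ha b hb
    have e : ∀ c ∈ D, c⁻¹ = c := fun c hc =>
      inv_eq_of_mul_eq_one_right (by rw [← pow_two]; exact hexp c hc)
    calc a * b = (a * b)⁻¹ := (e _ (mul_mem ha hb)).symm
      _ = b * a := by rw [mul_inv_rev, e a ha, e b hb]
  · rcases hB0 with rfl | hsolv
    · exact commute_principal hM hD hk hp2
    · exact commute_pSolvable hM _ G rfl hsolv B hB hk D hD

end Cfsg.Agent.Char.DiffOne
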