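import Cfsg.Agent.Lib.Char.DihBlockMain
import Cfsg.Agent.Lib.Char.RegularQuotient
import Cfsg.Agent.Lib.Char.CycQuotForm
import Cfsg.Agent.Lib.Invol.QuasiDihedral

/-!
A 2-block of rank three with dihedral or semidihedral defect group: the centre of the group has odd
order.
-/

namespace Cfsg.Agent.Char.DihBlk

open Cfsg Cfsg.Agent.Block Cfsg.Agent.Char Cfsg.Agent.Char.BP Cfsg.Agent.Char.Spec

set_option linter.unusedSectionVars false
set_option linter.style.haveILetI false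
set_option maxHeartbeats 800000

universe u

variable {G : Type u} [Group G] [Fintype G] {M : Ideal AlgInt} {B : Set (IrrCharacter G)}

theorem exists_setup {D : Subgroup G} (hM : IsPModular 2 M) (hB : IsPBlock M B)
    (hD : IsDefectGroup 2 M B D) {r : G} {t : ℕ} (hr : Dh D r t) :
    ∃ f, Setup M B D f r t := by
  obtain ⟨f, hf⟩ := (exists_pair_iff hM hB (IsDefectGroup.isPGroup hD)).2
    ((not_brZero_iff hM hB hD (IsDefectGroup.isPGroup hD)).2 ⟨1, by rw [map_conj_one]⟩)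
  exact ⟨f, hM, max_of_defect hM hf hD, hr⟩

/-- With three Brauer characters all involutions of the defect group are fused. -/
theorem Setup.fused {P : Subgroup G} {e : Set (IrrCharacter (CG P))} {r : G} {t : ℕ}
    (S : Setup M B P e r t) (hl : 3 ≤ blockRank 2 B) {x : G} (hx : x ∈ P) (hxx : x * x = 1)
    (hx1 : x ≠ 1) : IsConj (r ^ 2 ^ t) x := by
  classical
  obtain ⟨hk, -, hl3, -⟩ := S.invariants
  obtain ⟨-, hsharp⟩ := S.count
  obtain ⟨a, ha, hle⟩ := S.exists_below hx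
  obtain ⟨i, hi, g, hg, -⟩ := hsharp (by omega) x hx1 (S.ppow_mem hx) a
    (mem_pairsAt.2 ⟨ha, S.ofB_of_le hle⟩)
  have h2 : r ^ i * r ^ i = 1 := by rw [← hg, conj_mul, hxx, mul_one, mul_inv_cancel]
  have hdvd := S.dh.pow_self_inv (inv_eq_of_mul_eq_one_right h2)
  rw [Finset.mem_Icc] at hi
  obtain rfl : i = 2 ^ t := le_antisymm hi.2 (Nat.le_of_dvd (by omega) hdvd)
  exact (isConj_iff.2 ⟨g, hg⟩).symm

/-- A semidihedral group modulo its central involution, as a dihedral group. -/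
theorem dh_quotient {D : Subgroup G} {z : G} [(Subgroup.zpowers z).Normal] {n : ℕ} {x y : D}
    (h : Invol.QD D n x y) (hz : z = ((x ^ (2 * Invol.qq n) : D) : G)) :
    Dh (D.map (QuotientGroup.mk' (Subgroup.zpowers z))) ((x : G) : G ⧸ Subgroup.zpowers z)
        (n - 2) ∧
      ((y : G) : G ⧸ Subgroup.zpowers z) ∈ D.map (QuotientGroup.mk' (Subgroup.zpowers z)) ∧
      ((y : G) : G ⧸ Subgroup.zpowers z) ∉
        Subgroup.zpowers ((x : G) : G ⧸ Subgroup.zpowers z) := by
  have hn := h.hn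
  set Z := Subgroup.zpowers z with hZ
  let π : D →* G ⧸ Z := (QuotientGroup.mk' Z).comp D.subtype
  have hker : ∀ v : D, π v = 1 ↔ v = 1 ∨ v = x ^ (2 * Invol.qq n) := by
    intro v
    show ((v : G) : G ⧸ Z) = 1 ↔ _
    rw [QuotientGroup.eq_one_iff, hZ]
    constructor
    · rintro ⟨k, hk⟩
      have e : v = (x ^ (2 * Invol.qq n)) ^ k := Subtype.ext (by
        rw [SubgroupClass.coe_zpow, ← hz]; exact hk.symm)
      rcases Int.even_or_odd k with ⟨c, rfl⟩ | ⟨c, rfl⟩
      · left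
        rw [e, ← zpow_mul, h.zpow_eq_one]
        exact ⟨c, by ring⟩
      · right
        rw [e, ← zpow_mul, h.zpow_eq]
        exact ⟨c, by ring⟩
    · rintro (rfl | rfl)
      · exact one_mem _
      · rw [← hz]; exact Subgroup.mem_zpowers z
  have hzπ : π (x ^ (2 * Invol.qq n)) = 1 := (hker _).2 (Or.inr rfl)
  have hinv : ∀ i : ℤ, π (x ^ i * y) * π x * (π (x ^ i * y))⁻¹ = (π x)⁻¹ := by
    intro i
    rw [← map_mul, ← map_inv, ← map_mul, ← map_inv]
    have e : x ^ i * y * x * (x ^ i * y)⁻¹ = x ^ (2 * Invol.qq n) * x⁻¹ := by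
      rw [show x ^ i * y * x * (x ^ i * y)⁻¹ = x ^ i * (y * x ^ (1 : ℤ) * y⁻¹) * (x ^ i)⁻¹ by group,
        h.conj_zpow, ← zpow_add, ← zpow_neg, ← zpow_add, ← zpow_neg_one x, ← zpow_add]
      congr 1
      ring
    rw [e, map_mul, hzπ, one_mul]
  have hsq : ∀ i : ℤ, π (x ^ i * y) * π (x ^ i * y) = 1 := fun i => by
    rw [← map_mul, h.sq_mul_y, mul_comm i, zpow_mul, map_zpow, hzπ, one_zpow]
  have hout : ∀ v : D, π v ∉ Subgroup.zpowers (π x) → ∃ i : ℤ, v = x ^ i * y := by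
    intro v hv
    obtain ⟨i, rfl | rfl⟩ := h.cases' v
    · exact absurd (by rw [map_zpow]; exact Subgroup.zpow_mem _ (Subgroup.mem_zpowers _) i) hv
    · exact ⟨i, rfl⟩
  have hy : π y ∉ Subgroup.zpowers (π x) := by
    rintro ⟨k, hk⟩
    have h1 : π (y * (x ^ k)⁻¹) = 1 := by
      rw [map_mul, map_inv, map_zpow]
      exact mul_inv_eq_one.2 hk.symm
    rcases (hker _).1 h1 with h2 | h2
    · exact h.zpow_mul_y_ne 0 k (by rw [zpow_zero, one_mul]; exact mul_inv_eq_one.1 h2)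
    · refine h.zpow_mul_y_ne 0 (2 * Invol.qq n + k) ?_
      rw [zpow_zero, one_mul, zpow_add]
      exact mul_inv_eq_iff_eq_mul.1 h2
  have hqq : Invol.qq n = ((2 ^ (n - 2) : ℕ) : ℤ) := by simp [Invol.qq]
  have hord : orderOf (π x) = 2 ^ (n - 2 + 1) := by
    refine orderOf_eq_prime_pow (fun hc => ?_) ?_
    · rw [← map_pow, ← zpow_natCast, ← hqq] at hc
      rcases (hker _).1 hc with h2 | h2
      · exact h.z_ne_one (by rw [mul_comm, zpow_mul, h2, one_zpow])
      · rw [h.zpow_eq] at h2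
        obtain ⟨c, hc'⟩ := h2
        have := h.qq_pos
        have : Invol.qq n * (4 * c + 1) = 0 := by linarith
        rcases mul_eq_zero.1 this with h0 | h0 <;> omega
    · rw [pow_succ, ← map_pow, ← zpow_natCast, Nat.cast_mul, ← hqq]
      rw [show Invol.qq n * ((2 : ℕ) : ℤ) = 2 * Invol.qq n by push_cast; ring]
      exact hzπ
  refine ⟨⟨by omega, hord, ⟨(x : G), x.2, rfl⟩, ?_, ?_, ⟨π y, ⟨(y : G), y.2, rfl⟩, hy⟩⟩,
    ⟨(y : G), y.2, rfl⟩, hy⟩
  · have hle : Z ≤ D := Subgroup.zpowers_le.2 (hz ▸ SetLike.coe_mem _)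
    have hcZ : Nat.card Z = 2 := by
      rw [hZ, Nat.card_zpowers, hz, Subgroup.orderOf_coe, h.orderOf_z]
    have h1 := (Z.subgroupOf D).card_mul_index
    rw [Nat.card_congr (Subgroup.subgroupOfEquivOfLe hle).toEquiv, hcZ, h.card] at h1
    rw [← Subgroup.relIndex_ker, QuotientGroup.ker_mk', show n - 2 + 2 = n by omega]
    have h2 : Z.relIndex D = (Z.subgroupOf D).index := rfl
    rw [pow_succ] at h1
    show Z.relIndex D = 2 ^ n
    rw [h2]
    omega
  · rintro _ ⟨v, hv, rfl⟩ hnot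
    obtain ⟨i, hi⟩ := hout ⟨v, hv⟩ hnot
    have e : QuotientGroup.mk' Z v = π (x ^ i * y) := by rw [← hi]; rfl
    rw [e]
    exact ⟨hsq i, hinv i⟩

/-- The centre has odd order. -/
theorem center_odd (hM : IsPModular 2 M) (hB : IsPBlock M B) {D : Subgroup G}
    (hD : IsDefectGroup 2 M B D)
    (hD' : (∃ n : ℕ, 3 ≤ n ∧ Nonempty (D ≃* DihedralGroup (2 ^ (n - 1)))) ∨
      Cfsg.IsQuasiDihedral D)
    (hl : 3 ≤ blockRank 2 B) : Odd (Nat.card (Subgroup.center G)) := by
  by_contra hc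
  rw [Nat.not_odd_iff_even, even_iff_two_dvd] at hc
  obtain ⟨z₀, hz₀⟩ := exists_prime_orderOf_dvd_card' 2 hc
  set z : G := (z₀ : G) with hzdef
  have hzo : orderOf z = 2 := by rw [hzdef, Subgroup.orderOf_coe, hz₀]
  have hzc : ∀ g : G, g * z = z * g := fun g => Subgroup.mem_center_iff.1 z₀.2 g
  have hzz : z * z = 1 := by rw [← pow_two, ← hzo, pow_orderOf_eq_one]
  have hz1 : z ≠ 1 := fun h => by rw [h, orderOf_one] at hzo; omega
  have hZc : Subgroup.zpowers z ≤ Subgroup.center G := Subgroup.zpowers_le.2 z₀.2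
  haveI : (Subgroup.zpowers z).Normal := ⟨fun v hv g => by
    rwa [Subgroup.mem_center_iff.1 (hZc hv) g, mul_inv_cancel_right]⟩
  have hZp : IsPGroup 2 (Subgroup.zpowers z) := isPGroup_zpowers ⟨1, by rw [hzo, pow_one]⟩
  have hzD : z ∈ D := normal_le_defectGroup hM hB hD hZp (Subgroup.mem_zpowers z)
  rcases hD' with ⟨n, hn, hdih⟩ | hqd
  · obtain ⟨r, hr⟩ := exists_dh hn hdih
    obtain ⟨f, S⟩ := exists_setup hM hB hD hr
    obtain ⟨s, hs, hsr⟩ := hr.exists_refl
    have hs1 : s ≠ 1 := fun h => hsr (h ▸ one_mem _)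
    have e1 := S.fused hl hzD hzz hz1
    have e2 := S.fused hl hs (hr.refl s hs hsr).1 hs1
    obtain ⟨g, hg⟩ := isConj_iff.1 e1
    obtain ⟨g', hg'⟩ := isConj_iff.1 e2
    have hzr : r ^ 2 ^ (n - 2) = z := by
      rw [← mul_right_inj g, ← mul_left_inj g⁻¹, hg, hzc g, mul_inv_cancel_right]
    rw [hzr, hzc g', mul_inv_cancel_right] at hg'
    exact hsr (hg' ▸ hzr ▸ pow_mem (Subgroup.mem_zpowers r) _)
  · obtain ⟨n, x, y, h⟩ := Invol.exists_qd hqd
    have hn := h.hn
    -- the involution of the centre is the central involution of the defect group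
    have hz' : z = ((x ^ (2 * Invol.qq n) : D) : G) := by
      rcases h.involution_cases (t := ⟨z, hzD⟩) (by rw [Subgroup.orderOf_mk, hzo]) with e | ⟨i, -, e⟩
      · exact congrArg Subtype.val e
      · exfalso
        have h1 : x * (x ^ i * y) = x ^ i * y * x := by
          rw [← e]; exact Subtype.ext (hzc (x : G))
        rw [← mul_assoc, ← zpow_one_add, show x ^ i * y * x = x ^ i * y * x ^ (1 : ℤ) by rw [zpow_one],
          h.mul_y_mul_zpow, h.mul_y_eq] at h1
        obtain ⟨c, hc'⟩ := h1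
        obtain ⟨q, hq⟩ := h.qq_even
        rw [hq] at hc'
        have h4 : (4 : ℤ) ∣ 2 := ⟨q * (2 * c + 1), by linarith⟩
        omega
    haveI := Fintype.ofFinite (G ⧸ Subgroup.zpowers z)
    obtain ⟨hdh, hy, hyr⟩ := dh_quotient h hz'
    obtain ⟨hBb, hdef⟩ := RankBound.liftSet_block (Subgroup.zpowers z) hM hZc hZp hB
    obtain ⟨f, S⟩ := exists_setup hM hBb (hdef D hD) hdh
    have hl' := hl.trans (RegQuot.blockRank_le (Subgroup.zpowers z) hM hZc hZp hB)
    have hyy : ((y : G) : G ⧸ Subgroup.zpowers z) * ((y : G) : G ⧸ Subgroup.zpowers z) = 1 :=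
      (hdh.refl _ hy hyr).1
    have e := S.fused hl' hy hyy fun hc => hyr (hc ▸ one_mem _)
    obtain ⟨q, hq⟩ := isConj_iff.1 e
    induction q using QuotientGroup.induction_on with
    | _ g =>
      rw [← QuotientGroup.mk_pow, ← QuotientGroup.mk_mul, ← QuotientGroup.mk_inv,
        ← QuotientGroup.mk_mul, QuotientGroup.eq] at hq
      obtain ⟨k, hk⟩ := hq
      have hk2 : z ^ k * z ^ k = 1 := by
        rw [← ((Commute.refl z).mul_zpow k), hzz, one_zpow]
      have hy' : (y : G) * (y : G) = 1 := congrArg Subtype.val h.y_mul_self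
      have hw : (y : G) = g * (x : G) ^ 2 ^ (n - 2) * g⁻¹ * z ^ k := by
        rw [show z ^ k = _ from hk]; group
      rw [hw, show g * (x : G) ^ 2 ^ (n - 2) * g⁻¹ * z ^ k * (g * (x : G) ^ 2 ^ (n - 2) * g⁻¹ * z ^ k)
        = g * (x : G) ^ 2 ^ (n - 2) * g⁻¹ * (g * (x : G) ^ 2 ^ (n - 2) * g⁻¹) * (z ^ k * z ^ k) by
          have hcm : ∀ w : G, z ^ k * w = w * z ^ k := fun w =>
            ((show Commute w z from hzc w).zpow_right k).eq.symm
          simp only [mul_assoc]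
          rw [← mul_assoc (z ^ k) g, hcm g]
          simp only [mul_assoc]
          rw [← mul_assoc (z ^ k) ((x : G) ^ 2 ^ (n - 2)), hcm]
          simp only [mul_assoc]
          rw [← mul_assoc (z ^ k) g⁻¹, hcm]
          simp only [mul_assoc],
        hk2, mul_one, conj_mul, conj_eq_one_iff] at hy'
      have h4 : (x ^ Invol.qq n) * (x ^ Invol.qq n) = 1 := Subtype.ext (by
        rw [show Invol.qq n = ((2 ^ (n - 2) : ℕ) : ℤ) by simp [Invol.qq], zpow_natCast]
        simpa using hy')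
      have h5 := orderOf_dvd_of_pow_eq_one (x := x ^ Invol.qq n) (n := 2) (by rw [pow_two]; exact h4)
      rw [h.orderOf_quarter] at h5
      have := Nat.le_of_dvd two_pos h5
      omega

end Cfsg.Agent.Char.DihBlk
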