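import Cfsg.Agent.Lib.Char.SectionKernel
import Cfsg.Agent.Lib.Char.SectionOrbit
import Cfsg.Agent.Lib.Char.CardSqBound
import Cfsg.Agent.Lib.Char.RegularPartGen
import Cfsg.Agent.Lib.Char.DiffOne

/-!
Columns of the pairs of regular rank one: values, norms, orthogonality of nonconjugate sections,
and the values of a block at two elements of prime power order.
-/

open scoped ComplexConjugate

namespace Cfsg.Agent.Char.DihBlk

open Cfsg Cfsg.Agent.Block Cfsg.Agent.Char Cfsg.Agent.Char.BP Cfsg.Agent.Char.Spec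

set_option linter.unusedSectionVars false
set_option linter.style.haveILetI false
set_option maxHeartbeats 800000

universe u

variable {G : Type u} [Group G] [Fintype G] {p : ℕ} [Fact p.Prime] {M : Ideal AlgInt}
variable {B : Set (IrrCharacter G)}

/-- A section through the kernel of its block. -/
theorem sct_eq_kernel (hM : IsPModular p M) {a : BrauerPairIdx G} [Fintype (CG a.1)]
    (hb : IsPBlock M a.2) {x : G} (hxa : x ∈ a.1) (χ : IrrCharacter G) (s : CG a.1)
    (hs : ¬ p ∣ orderOf s) :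
    sct (χ : G → ℂ) a x (s : G) = (Nat.card (CG a.1) : ℂ)⁻¹ *
      ∑ c ∈ Finset.univ.filter (fun c : CG a.1 => ¬ p ∣ orderOf c),
        (χ : G → ℂ) (x * (c : G)) * kerB a.2 s c := by
  classical
  set A := Finset.univ.filter (· ∈ a.2) with hA
  have hK : ∀ c, kerB a.2 s c = ∑ ξ ∈ A, (ξ : (CG a.1) → ℂ) s * conj ((ξ : (CG a.1) → ℂ) c) :=
    fun c => finsum_mem_block a.2 _
  rw [← blockPart_eq_sct χ hxa s, blockPart, finsum_mem_block a.2]
  calc _ = ∑ ξ ∈ A, (Nat.card (CG a.1) : ℂ)⁻¹ * ∑ c : (CG a.1),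
        (χ : G → ℂ) (x * (c : G)) * ((ξ : (CG a.1) → ℂ) s * conj ((ξ : (CG a.1) → ℂ) c)) := by
        refine Finset.sum_congr rfl fun ξ _ => ?_
        simp only [classInner]
        rw [mul_assoc, Finset.sum_mul]
        congr 1
        refine Finset.sum_congr (by congr!) fun c _ => ?_
        ring
    _ = (Nat.card (CG a.1) : ℂ)⁻¹ * ∑ c : (CG a.1), (χ : G → ℂ) (x * (c : G)) * kerB a.2 s c := by
        rw [← Finset.mul_sum, Finset.sum_comm]
        simp only [hK, Finset.mul_sum]
    _ = _ := by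
        rw [Finset.sum_subset (Finset.subset_univ
          (Finset.univ.filter fun c : CG a.1 => ¬ p ∣ orderOf c)) fun c _ hc => ?_]
        rw [kerB, weak_orth hM hb hs (by simpa using hc), mul_zero]

theorem sum_irr_zero [DecidableEq G] {x x' : G} (h : ∀ y : G, y * x * y⁻¹ ≠ x') :
    ∑ χ : IrrCharacter G, (χ : G → ℂ) x * conj ((χ : G → ℂ) x') = 0 := by
  rw [sum_irr_count]
  exact Finset.sum_eq_zero fun y _ => if_neg (h y)

/-- Two sections at one element with different blocks are orthogonal, and so are two sections at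
elements that are not conjugate. -/
theorem sum_sct_cross (hM : IsPModular p M) [DecidablePred (· ∈ B)] {a a' : BrauerPairIdx G}
    {x x' : G} (hx : ∃ k, orderOf x = p ^ k) (hx' : ∃ k, orderOf x' = p ^ k)
    (hax : a.1 = Subgroup.zpowers x) (hax' : a'.1 = Subgroup.zpowers x') (haB : OfB p M B a)
    (haB' : OfB p M B a') (hne : ∀ g : G, g * x * g⁻¹ = x' → cjI g a ≠ a')
    {s s' : G} (hs : s ∈ CG a.1) (hs2 : ¬ p ∣ orderOf s) (hs' : s' ∈ CG a'.1)
    (hs2' : ¬ p ∣ orderOf s') :
    ∑ χ ∈ Finset.univ.filter (· ∈ B),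
      sct (χ : G → ℂ) a x s * conj (sct (χ : G → ℂ) a' x' s') = 0 := by
  classical
  rw [Finset.sum_subset (Finset.subset_univ _) fun χ _ hχ => by
    rw [sct_eq_zero hM (mem_blockOf_self hM χ) (isPBlock_blockOf χ) haB.1 hx hax
      (fun h => hχ (Finset.mem_filter.2 ⟨Finset.mem_univ _, by
        rw [ofB_unique hM haB h]; exact mem_blockOf_self hM χ⟩))
      hs hs2, zero_mul]]
  by_cases hc : ∃ g : G, g * x * g⁻¹ = x'
  · obtain ⟨g, rfl⟩ := hc
    obtain ⟨Q, b⟩ := a
    obtain ⟨Q', b'⟩ := a'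
    obtain rfl : Q = Subgroup.zpowers x := hax
    obtain rfl : Q' = Subgroup.zpowers (g * x * g⁻¹) := hax'
    have hQ : (Subgroup.zpowers (g * x * g⁻¹)).map (MulAut.conj g⁻¹).toMonoidHom =
        Subgroup.zpowers x := by
      rw [MonoidHom.map_zpowers]
      congr 1
      show g⁻¹ * (g * x * g⁻¹) * g⁻¹⁻¹ = x
      group
    obtain ⟨b'', hb''⟩ : ∃ b'' : Set (IrrCharacter (CG (Subgroup.zpowers x))),
        (⟨Subgroup.zpowers x, b''⟩ : BrauerPairIdx G) =
          cjI g⁻¹ (⟨Subgroup.zpowers (g * x * g⁻¹), b'⟩ : BrauerPairIdx G) := by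
      generalize hq : cjI g⁻¹ (⟨Subgroup.zpowers (g * x * g⁻¹), b'⟩ : BrauerPairIdx G) = q
      obtain ⟨Q'', c''⟩ := q
      obtain rfl : Q'' = Subgroup.zpowers x := (congrArg Sigma.fst hq).symm.trans hQ
      exact ⟨c'', rfl⟩
    have hne' : b ≠ b'' := by
      intro e
      refine hne g rfl ?_
      rw [e, hb'', cjI_cancel_inv]
    have hpr : IsPr p M (⟨Subgroup.zpowers x, b''⟩ : BrauerPairIdx G) :=
      hb'' ▸ isPr_cjI hM _ haB'.1
    set t' := g⁻¹ * s' * g with ht'
    have ht : t' ∈ CG (Subgroup.zpowers x) := by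
      have h := (cg_map_conj g⁻¹ (Subgroup.zpowers (g * x * g⁻¹)) s').1 hs'
      rw [hQ, inv_inv] at h
      exact h
    have ht2 : ¬ p ∣ orderOf t' := by
      rwa [show t' = MulAut.conj g⁻¹ s' by rw [ht', MulAut.conj_apply, inv_inv],
        MulEquiv.orderOf_eq]
    have hrew : ∀ χ : IrrCharacter G, sct (χ : G → ℂ) ⟨Subgroup.zpowers (g * x * g⁻¹), b'⟩
        (g * x * g⁻¹) s' = sct (χ : G → ℂ) ⟨Subgroup.zpowers x, b''⟩ x t' := by
      intro χ
      rw [← sct_conj (irr_classFun χ) _ g⁻¹ (g * x * g⁻¹) s', ← hb'',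
        show g⁻¹ * (g * x * g⁻¹) * g⁻¹⁻¹ = x by group,
        show g⁻¹ * s' * g⁻¹⁻¹ = t' by rw [inv_inv]]
    simp only [hrew]
    letI := Fintype.ofFinite (CG (Subgroup.zpowers x))
    set R := Finset.univ.filter (fun c : (CG (Subgroup.zpowers x)) => ¬ p ∣ orderOf c) with hR
    have hxQ : x ∈ Subgroup.zpowers x := Subgroup.mem_zpowers x
    have e1 := fun χ : IrrCharacter G => sct_eq_kernel hM
      (a := (⟨Subgroup.zpowers x, b⟩ : BrauerPairIdx G)) haB.1.2 hxQ χ ⟨s, hs⟩
      (by rwa [Subgroup.orderOf_mk])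
    have e2 := fun χ : IrrCharacter G => sct_eq_kernel hM
      (a := (⟨Subgroup.zpowers x, b''⟩ : BrauerPairIdx G)) hpr.2 hxQ χ ⟨t', ht⟩
      (by rwa [Subgroup.orderOf_mk])
    simp only at e1 e2
    simp only [e1, e2, map_mul, map_sum, map_inv₀, map_natCast]
    have hpp : ∀ c ∈ R, IsPPart p (x * ((c : (CG (Subgroup.zpowers x))) : G)) x := fun c hc =>
      ⟨c, rfl, Subgroup.mem_centralizer_iff.1 c.2 x hxQ, hx, by
        rw [Subgroup.orderOf_coe]; exact (Finset.mem_filter.1 hc).2⟩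
    have hcount : ∀ c ∈ R, ∀ c' ∈ R, ∑ χ : IrrCharacter G,
        (χ : G → ℂ) (x * ((c : (CG (Subgroup.zpowers x))) : G)) * conj ((χ : G → ℂ) (x * ((c' : (CG (Subgroup.zpowers x))) : G))) =
        ∑ y : (CG (Subgroup.zpowers x)), (if y * c * y⁻¹ = c' then (1 : ℂ) else 0) := by
      intro c hc c' hc'
      have key : ∀ y : G, y * (x * (c : G)) * y⁻¹ = x * (c' : G) → y ∈ (CG (Subgroup.zpowers x)) := by
        intro y hy
        obtain ⟨v, h1, h2, ⟨k, hk⟩, h4⟩ := hpp c hc
        have hp' : IsPPart p (x * (c' : G)) (y * x * y⁻¹) := by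
          have hconj : ∀ w : G, orderOf (y * w * y⁻¹) = orderOf w := fun w =>
            MulEquiv.orderOf_eq (MulAut.conj y) w
          refine ⟨y * (c : G) * y⁻¹, by rw [conj_mul, hy], ?_, ⟨k, by rw [hconj, hk]⟩, ?_⟩
          · show y * x * y⁻¹ * (y * (c : G) * y⁻¹) = y * (c : G) * y⁻¹ * (y * x * y⁻¹)
            rw [conj_mul, conj_mul, (Subgroup.mem_centralizer_iff.1 c.2 x hxQ)]
          · rw [hconj, Subgroup.orderOf_coe]
            exact (Finset.mem_filter.1 hc).2
        have h5 := pPart_unique hp' (hpp c' hc')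
        show y ∈ CG (Subgroup.zpowers x)
        rw [cg_zpowers, Subgroup.mem_centralizer_singleton_iff]
        exact mul_inv_eq_iff_eq_mul.1 h5
      rw [sum_irr_count, ← Finset.sum_subset (Finset.subset_univ (Finset.univ.filter (· ∈ (CG (Subgroup.zpowers x)))))
        (fun y _ hy => if_neg fun h => hy (Finset.mem_filter.2 ⟨Finset.mem_univ _, key y h⟩)),
        ← Finset.sum_subtype_eq_sum_filter, Finset.subtype_univ]
      refine Finset.sum_congr rfl fun y _ => if_congr ?_ rfl rfl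
      have hy : (y : G) * x = x * (y : G) := (Subgroup.mem_centralizer_iff.1 y.2 x hxQ).symm
      rw [← mul_assoc (y : G), hy, Subtype.ext_iff, mul_assoc, mul_assoc, mul_right_inj, ← mul_assoc]
      simp
    have hcl : ∀ y c : (CG (Subgroup.zpowers x)), c ∈ R → y * c * y⁻¹ ∈ R := fun y c hc => by
      simp only [R, Finset.mem_filter, Finset.mem_univ, true_and] at hc ⊢
      rwa [show orderOf (y * c * y⁻¹) = orderOf c from MulEquiv.orderOf_eq (MulAut.conj y) c]
    calc _ = ((Nat.card (CG (Subgroup.zpowers x)) : ℂ)⁻¹) ^ 2 * ∑ c ∈ R, ∑ c' ∈ R,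
          (kerB b ⟨s, hs⟩ c * conj (kerB b'' ⟨t', ht⟩ c')) * ∑ χ : IrrCharacter G,
            (χ : G → ℂ) (x * ((c : (CG (Subgroup.zpowers x))) : G)) * conj ((χ : G → ℂ) (x * ((c' : (CG (Subgroup.zpowers x))) : G))) := by
          simp only [Finset.mul_sum, Finset.sum_mul]
          conv_lhs => enter [2, χ]; rw [Finset.sum_comm]
          rw [Finset.sum_comm]
          refine Finset.sum_congr rfl fun c _ => ?_
          rw [Finset.sum_comm]
          exact Finset.sum_congr rfl fun c' _ => Finset.sum_congr rfl fun χ _ => by ring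
      _ = ((Nat.card (CG (Subgroup.zpowers x)) : ℂ)⁻¹) ^ 2 * ((Nat.card (CG (Subgroup.zpowers x)) : ℂ) *
          ∑ c ∈ R, kerB b ⟨s, hs⟩ c * conj (kerB b'' ⟨t', ht⟩ c)) := by
          congr 1
          rw [Finset.mul_sum]
          refine Finset.sum_congr rfl fun c hc => ?_
          rw [Finset.sum_congr rfl fun c' hc' => by rw [hcount c hc c' hc', Finset.mul_sum],
            Finset.sum_comm, Nat.card_eq_fintype_card, ← Finset.card_univ, ← nsmul_eq_mul,
            ← Finset.sum_const]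
          refine Finset.sum_congr rfl fun y _ => ?_
          rw [Finset.sum_eq_single (y * c * y⁻¹)]
          · rw [if_pos rfl, mul_one, kerB_classFun]
          · intro c' _ hne; rw [if_neg (Ne.symm hne), mul_zero]
          · exact fun h => absurd (hcl y c hc) h
      _ = 0 := by
          have hzero : ∑ c ∈ R, kerB b ⟨s, hs⟩ c * conj (kerB b'' ⟨t', ht⟩ c) = 0 := by
            simp only [kerB, finsum_mem_block b, finsum_mem_block b'', map_sum, map_mul,
              Complex.conj_conj, Finset.mul_sum, Finset.sum_mul]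
            rw [Finset.sum_comm, Finset.sum_eq_zero]
            intro η hη
            rw [Finset.sum_comm, Finset.sum_eq_zero]
            intro ξ hξ
            have h0 := reg_orth (p := p) hM (χ := η) (ψ := ξ) fun hs' => hne' <| by
              rw [show b = blockOf M ξ from pblock_eq_blockOf hM haB.1.2 (Finset.mem_filter.1 hξ).2,
                show b'' = blockOf M η from pblock_eq_blockOf hM hpr.2 (Finset.mem_filter.1 hη).2,
                blockOf_eq hM hs']
            rw [regSum_eq_sum] at h0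
            rw [← mul_zero ((ξ : (CG (Subgroup.zpowers x)) → ℂ) ⟨s, hs⟩ * conj ((η : (CG (Subgroup.zpowers x)) → ℂ) ⟨t', ht⟩)), ← h0,
              Finset.mul_sum]
            exact Finset.sum_congr rfl fun v _ => by ring
          rw [hzero, mul_zero, mul_zero]
  · push Not at hc
    letI := Fintype.ofFinite (CG a.1)
    letI := Fintype.ofFinite (CG a'.1)
    have hxa : x ∈ a.1 := hax ▸ Subgroup.mem_zpowers x
    have hxa' : x' ∈ a'.1 := hax' ▸ Subgroup.mem_zpowers x'
    have e1 := fun χ : IrrCharacter G => sct_eq_kernel hM haB.1.2 hxa χ ⟨s, hs⟩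
      (by rwa [Subgroup.orderOf_mk])
    have e2 := fun χ : IrrCharacter G => sct_eq_kernel hM haB'.1.2 hxa' χ ⟨s', hs'⟩
      (by rwa [Subgroup.orderOf_mk])
    simp only at e1 e2
    simp only [e1, e2, map_mul, map_sum, map_inv₀, map_natCast, Finset.mul_sum, Finset.sum_mul]
    rw [Finset.sum_comm]
    refine Finset.sum_eq_zero fun c' hc' => ?_
    rw [Finset.sum_comm]
    refine Finset.sum_eq_zero fun c hc0 => ?_
    refine Eq.trans (Finset.sum_congr rfl (g := fun χ : IrrCharacter G =>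
      ((Nat.card (CG a.1) : ℂ)⁻¹ * kerB a.2 ⟨s, hs⟩ c *
        ((Nat.card (CG a'.1) : ℂ)⁻¹ * conj (kerB a'.2 ⟨s', hs'⟩ c'))) *
      ((χ : G → ℂ) (x * (c : G)) * conj ((χ : G → ℂ) (x' * (c' : G))))) fun χ _ => by ring) ?_
    rw [← Finset.mul_sum, sum_irr_zero ?_, mul_zero]
    intro y hy
    have hpp : IsPPart p (x * (c : G)) x := ⟨c, rfl, Subgroup.mem_centralizer_iff.1 c.2 x hxa, hx,
      by rw [Subgroup.orderOf_coe]; exact (Finset.mem_filter.1 hc0).2⟩
    have hpp' : IsPPart p (x' * (c' : G)) x' :=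
      ⟨c', rfl, Subgroup.mem_centralizer_iff.1 c'.2 x' hxa', hx',
        by rw [Subgroup.orderOf_coe]; exact (Finset.mem_filter.1 hc').2⟩
    obtain ⟨k, hk⟩ := hx
    have hp' : IsPPart p (x' * (c' : G)) (y * x * y⁻¹) := by
      have hconj : ∀ w : G, orderOf (y * w * y⁻¹) = orderOf w := fun w =>
        MulEquiv.orderOf_eq (MulAut.conj y) w
      refine ⟨y * (c : G) * y⁻¹, by rw [conj_mul, hy], ?_, ⟨k, by rw [hconj, hk]⟩, ?_⟩
      · show y * x * y⁻¹ * (y * (c : G) * y⁻¹) = y * (c : G) * y⁻¹ * (y * x * y⁻¹)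
        rw [conj_mul, conj_mul, (Subgroup.mem_centralizer_iff.1 c.2 x hxa)]
      · rw [hconj, Subgroup.orderOf_coe]
        exact (Finset.mem_filter.1 hc0).2
    exact hc y (pPart_unique hp' hpp')

end Cfsg.Agent.Char.DihBlk
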