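import Cfsg.Agent.Lib.Char.DihBlockSetup
import Cfsg.Agent.Lib.Char.SectionOrbit

/-!
The count of the sections of a 2-block with dihedral defect group.
-/

open scoped ComplexConjugate

namespace Cfsg.Agent.Char.DihBlk

open Cfsg Cfsg.Agent.Block Cfsg.Agent.Char Cfsg.Agent.Char.BP Cfsg.Agent.Char.Spec

set_option linter.unusedSectionVars false
set_option linter.style.haveILetI false
set_option maxHeartbeats 800000

universe u

variable {G : Type u} [Group G] [Fintype G] {M : Ideal AlgInt} {B : Set (IrrCharacter G)}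
variable {P : Subgroup G} {e : Set (IrrCharacter (CG P))} {r : G} {t : ℕ}

/-- The values of a member through the pairs of its block. -/
theorem value_eq_pairs {p : ℕ} [Fact p.Prime] (hM : IsPModular p M) (hB : IsPBlock M B)
    {χ : IrrCharacter G} (hχ : χ ∈ B) {x : G} (hx : ∃ k, orderOf x = p ^ k) {v : G}
    (hv : v ∈ CG (Subgroup.zpowers x)) (hvr : ¬ p ∣ orderOf v) :
    (χ : G → ℂ) (x * v) = ∑ a ∈ pairsAt p M B x, sct (χ : G → ℂ) a x v := by
  classical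
  rw [value_eq_sum_blks hM (Subgroup.zpowers x) (χ : G → ℂ) x v]
  symm
  refine Finset.sum_bij_ne_zero
    (fun a ha _ => (mem_pairsAt.1 ha).1 ▸ a.2) (fun a ha _ => ?_) ?_ (fun b hb hne => ?_) ?_
  · obtain ⟨Q, b⟩ := a
    obtain rfl : Q = Subgroup.zpowers x := (mem_pairsAt.1 ha).1
    exact mem_blks.2 (mem_pairsAt.1 ha).2.1.2
  · intro a ha _ a' ha' _ h
    obtain ⟨Q, b⟩ := a
    obtain rfl : Q = Subgroup.zpowers x := (mem_pairsAt.1 ha).1
    obtain ⟨Q', b'⟩ := a'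
    obtain rfl : Q' = Subgroup.zpowers x := (mem_pairsAt.1 ha').1
    exact Sigma.ext rfl (heq_of_eq h)
  · have hpr : IsPr p M (⟨Subgroup.zpowers x, b⟩ : BrauerPairIdx G) :=
      ⟨isPGroup_zpowers hx, mem_blks.1 hb⟩
    refine ⟨⟨Subgroup.zpowers x, b⟩, mem_pairsAt.2 ⟨rfl, ?_⟩, hne, rfl⟩
    by_contra hc
    exact hne (sct_eq_zero (a := (⟨Subgroup.zpowers x, b⟩ : BrauerPairIdx G)) hM hχ hB hpr hx rfl
      hc hv hvr)
  · intro a ha _
    obtain ⟨Q, b⟩ := a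
    obtain rfl : Q = Subgroup.zpowers x := (mem_pairsAt.1 ha).1
    rfl

theorem conj_mem_pairsAt (hM : IsPModular 2 M) {x : G} {a : BrauerPairIdx G}
    (ha : a ∈ pairsAt 2 M B x) (g : G) : cjI g a ∈ pairsAt 2 M B (g * x * g⁻¹) := by
  obtain ⟨h1, h2⟩ := mem_pairsAt.1 ha
  refine mem_pairsAt.2 ⟨?_, ofB_cjI hM h2 g⟩
  show a.1.map (MulAut.conj g).toMonoidHom = _
  rw [h1, MonoidHom.map_zpowers]
  rfl

namespace Setup

variable (S : Setup M B P e r t)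

/-- The pair below the maximal pair at a power of the rotation. -/
noncomputable def rot (i : ℕ) : BrauerPairIdx G := (S.exists_below (S.dh.pow_mem' i)).choose

theorem rot_fst (i : ℕ) : (S.rot i).1 = Subgroup.zpowers (r ^ i) :=
  (S.exists_below (S.dh.pow_mem' i)).choose_spec.1

theorem rot_le (i : ℕ) : LE 2 M (S.rot i) (⟨P, e⟩ : BrauerPairIdx G) :=
  (S.exists_below (S.dh.pow_mem' i)).choose_spec.2

theorem rot_ofB (i : ℕ) : OfB 2 M B (S.rot i) := S.ofB_of_le (S.rot_le i)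

include S in
theorem pow_eq_one_iff {i : ℕ} : r ^ i = 1 ↔ 2 ^ (t + 1) ∣ i := by
  rw [← S.dh.order, orderOf_dvd_iff_pow_eq_one]

include S in
theorem pow_ne_one {i : ℕ} (hi : i ∈ Finset.Icc 1 (2 ^ t)) : r ^ i ≠ 1 := by
  rw [Finset.mem_Icc] at hi
  intro h
  have h1 := Nat.le_of_dvd (by omega) (S.pow_eq_one_iff.1 h)
  rw [pow_succ] at h1
  omega

theorem eq_of_fusion {i j : ℕ} (hi : i ∈ Finset.Icc 1 (2 ^ t)) (hj : j ∈ Finset.Icc 1 (2 ^ t))
    {g : G} (hg : g * r ^ i * g⁻¹ = r ^ j) (he : cjI g (S.rot i) = S.rot j) : i = j := by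
  have hr : ∀ k, r ^ k ∈ Subgroup.zpowers r := fun k => pow_mem (Subgroup.mem_zpowers r) k
  rw [Finset.mem_Icc] at hi hj
  have hlt : ∀ {k}, k ≤ 2 ^ t → k < orderOf r := fun {k} hk => by
    rw [S.dh.order, pow_succ]; have := Nat.two_pow_pos t; omega
  rcases S.rotation_fusion (hr i) (hg ▸ hr j) (S.rot_fst i) (S.rot_le j) (S.rot_le i) he with h | h
  · rw [hg] at h
    exact (pow_injOn_Iio_orderOf (Set.mem_Iio.2 (hlt hj.2)) (Set.mem_Iio.2 (hlt hi.2)) h).symm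
  · rw [hg, eq_inv_iff_mul_eq_one, ← pow_add, S.pow_eq_one_iff] at h
    have h1 := Nat.le_of_dvd (by omega) h
    rw [pow_succ] at h1
    omega

include S in
theorem pairsAt_one {a : BrauerPairIdx G} (ha : a ∈ pairsAt 2 M B (1 : G)) : a = S.rot 0 := by
  obtain ⟨h1, h2⟩ := mem_pairsAt.1 ha
  refine le_unique S.hM (eq_bot_pair S.hM S.max (h1.trans Subgroup.zpowers_one_eq_bot) h2)
    (S.rot_le 0) ?_
  rw [h1, S.rot_fst, pow_zero]

theorem rot_zero_mem : S.rot 0 ∈ pairsAt 2 M B (1 : G) :=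
  mem_pairsAt.2 ⟨by rw [S.rot_fst, pow_zero], S.rot_ofB 0⟩

theorem rank_rot_zero : blockRank 2 (S.rot 0).2 = blockRank 2 B :=
  rank_bot_pair S.hM S.max S.isBlock (by rw [S.rot_fst, pow_zero]) (S.rot_ofB 0)

theorem value_one {χ : IrrCharacter G} (hχ : χ ∈ B) :
    (χ : G → ℂ) 1 = sct (χ : G → ℂ) (S.rot 0) 1 1 := by
  have h := value_eq_pairs S.hM S.isBlock hχ (x := (1 : G)) ⟨0, by simp⟩ (one_mem _)
    (by simp)
  rw [mul_one] at h
  rw [h]
  refine Finset.sum_eq_single (S.rot 0) (fun a ha hne => absurd (S.pairsAt_one ha) hne)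
    fun h => absurd S.rot_zero_mem h

theorem rank_rot {i : ℕ} (hi : r ^ i ≠ 1) : blockRank 2 (S.rot i).2 = 1 :=
  S.rank_one (S.rot_fst i) hi (S.rot_ofB i)

include S in
/-- The count of sections, and their description when it is sharp. -/
theorem count : blockRank 2 B + 2 ^ t ≤ Nat.card B ∧
    (Nat.card B ≤ blockRank 2 B + 2 ^ t → ∀ x : G, x ≠ 1 → (∃ k, orderOf x = 2 ^ k) →
      ∀ b ∈ pairsAt 2 M B x, ∃ i ∈ Finset.Icc 1 (2 ^ t), ∃ g : G,
        g * x * g⁻¹ = r ^ i ∧ cjI g b = S.rot i) := by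
  classical
  let rep : G → G := fun g => (ConjClasses.mk g).out
  have hrep : ∀ g : G, IsConj g (rep g) := fun g =>
    ConjClasses.mk_eq_mk_iff_isConj.1 (Quotient.out_eq (ConjClasses.mk g)).symm
  have hpow : ∀ {g g' : G}, IsConj g g' → orderOf g = orderOf g' := fun {g g'} h => by
    obtain ⟨t, rfl⟩ := isConj_iff.1 h
    exact (MulEquiv.orderOf_eq (MulAut.conj t) g).symm
  have hrepC : ∀ {g g' : G}, IsConj g g' → rep g = rep g' := fun h => by
    simp only [rep, ConjClasses.mk_eq_mk_iff_isConj.2 h]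
  set X := (Finset.univ.filter (fun g : G => ∃ k : ℕ, orderOf g = 2 ^ k)).image rep with hX
  have hXp : ∀ v ∈ X, ∃ k : ℕ, orderOf v = 2 ^ k := by
    intro v hv
    obtain ⟨g, hg, rfl⟩ := Finset.mem_image.1 hv
    rw [← hpow (hrep g)]
    exact (Finset.mem_filter.1 hg).2
  have hmem : ∀ {g : G}, (∃ k, orderOf g = 2 ^ k) → rep g ∈ X := fun {g} hg =>
    Finset.mem_image.2 ⟨g, Finset.mem_filter.2 ⟨Finset.mem_univ g, hg⟩, rfl⟩
  have hXrep : ∀ g : G, (∃ k : ℕ, orderOf g = 2 ^ k) → ∃! v, v ∈ X ∧ IsConj g v := by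
    intro g hg
    refine ⟨rep g, ⟨hmem hg, hrep g⟩, ?_⟩
    rintro v ⟨hv, hgv⟩
    obtain ⟨g', -, rfl⟩ := Finset.mem_image.1 hv
    exact ((hrepC (hgv.trans (hrep g').symm))).symm
  have hrone : rep 1 = 1 := isConj_one_right.1 (hrep 1)
  have hrne : ∀ {g : G}, g ≠ 1 → rep g ≠ 1 := fun {g} hg h => hg <| by
    have h1 := hrep g
    rw [h] at h1
    exact isConj_one_left.1 h1
  have h1X : (1 : G) ∈ X := hrone ▸ hmem ⟨0, by simp⟩
  have htot := card_eq_sum_ranks S.hM S.isBlock X hXp hXrep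
  rw [Finset.sum_congr rfl fun x hx =>
    sum_rank_pairsAt S.hM S.isBlock (hXp x hx) (cg_zpowers x).symm,
    ← Finset.add_sum_erase X _ h1X] at htot
  rw [show pairsAt 2 M B (1 : G) = {S.rot 0} from Finset.eq_singleton_iff_unique_mem.2
    ⟨S.rot_zero_mem, fun a ha => S.pairsAt_one ha⟩, Finset.sum_singleton, S.rank_rot_zero,
    Finset.sum_congr rfl (g := fun x => (pairsAt 2 M B x).card) fun x hx => ?_,
    ← Finset.card_sigma] at htot
  swap
  · rw [Finset.card_eq_sum_ones]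
    exact Finset.sum_congr rfl fun a ha => S.rank_one (mem_pairsAt.1 ha).1
      (Finset.ne_of_mem_erase hx) (mem_pairsAt.1 ha).2
  set T := (X.erase 1).sigma (fun x => pairsAt 2 M B x) with hT
  have hg : ∀ i : ℕ, ∃ g : G, g * r ^ i * g⁻¹ = rep (r ^ i) := fun i => isConj_iff.1 (hrep _)
  choose gi hgi using hg
  let F : ∀ i ∈ Finset.Icc 1 (2 ^ t), (Σ _ : G, BrauerPairIdx G) :=
    fun i _ => ⟨rep (r ^ i), cjI (gi i) (S.rot i)⟩
  have hFT : ∀ i hi, F i hi ∈ T := fun i hi => by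
    refine Finset.mem_sigma.2 ⟨Finset.mem_erase.2 ⟨hrne (S.pow_ne_one hi),
      hmem (S.ppow_mem (S.dh.pow_mem' i))⟩, ?_⟩
    show cjI (gi i) (S.rot i) ∈ pairsAt 2 M B (rep (r ^ i))
    rw [← hgi i]
    exact conj_mem_pairsAt S.hM (mem_pairsAt.2 ⟨S.rot_fst i, S.rot_ofB i⟩) _
  have hFinj : ∀ i hi j hj, F i hi = F j hj → i = j := by
    intro i hi j hj h
    obtain ⟨h1, h2⟩ := Sigma.mk.inj_iff.1 h
    refine S.eq_of_fusion hi hj (g := (gi j)⁻¹ * gi i) ?_ ?_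
    · rw [show (gi j)⁻¹ * gi i * r ^ i * ((gi j)⁻¹ * gi i)⁻¹ =
        (gi j)⁻¹ * (gi i * r ^ i * (gi i)⁻¹) * gi j by group, hgi i, h1, ← hgi j]
      group
    · rw [← cjI_cjI, eq_of_heq h2, cjI_inv_cancel]
  have hcard : 2 ^ t ≤ T.card := by
    have h := Finset.card_le_card_of_injOn (fun i => (⟨rep (r ^ i), cjI (gi i) (S.rot i)⟩ :
      Σ _ : G, BrauerPairIdx G)) (fun i hi => hFT i hi) (fun i hi j hj h => hFinj i hi j hj h)
    rwa [Nat.card_Icc, Nat.add_sub_cancel] at h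
  refine ⟨by omega, fun hle x hx1 hx b hb => ?_⟩
  have hTle : T.card ≤ (Finset.Icc 1 (2 ^ t)).card := by
    rw [Nat.card_Icc, Nat.add_sub_cancel]; omega
  obtain ⟨k, hk⟩ := isConj_iff.1 (hrep x)
  obtain ⟨i, hi, hFi⟩ := Finset.surj_on_of_inj_on_of_card_le F hFT
    (fun i j hi hj h => hFinj i hi j hj h) hTle
    ⟨rep x, cjI k b⟩ (Finset.mem_sigma.2 ⟨Finset.mem_erase.2 ⟨hrne hx1, hmem hx⟩,
      hk ▸ conj_mem_pairsAt S.hM hb k⟩)
  obtain ⟨h1, h2⟩ := Sigma.mk.inj_iff.1 hFi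
  refine ⟨i, hi, (gi i)⁻¹ * k, ?_, ?_⟩
  · rw [show (gi i)⁻¹ * k * x * ((gi i)⁻¹ * k)⁻¹ = (gi i)⁻¹ * (k * x * k⁻¹) * gi i by group,
      hk, h1, ← hgi i]
    group
  · rw [← cjI_cjI, eq_of_heq h2, cjI_inv_cancel]

end Setup

end Cfsg.Agent.Char.DihBlk
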