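import Mathlib.GroupTheory.SpecificGroups.Dihedral
import Mathlib.GroupTheory.OrderOfElement
import Mathlib.Algebra.Ring.GeomSum
import Mathlib.Data.ZMod.Basic
import Mathlib.RingTheory.Int.Basic
import Mathlib.GroupTheory.Subgroup.Centralizer

/-!
Dihedral 2-subgroups: rotations, reflections, and odd automorphisms of their subgroups fixing a
nontrivial central element.
-/

namespace Cfsg.Agent.Char.DihBlk

variable {G : Type*} [Group G]

/-- A dihedral subgroup of order `4 * m` with rotation `r`, where `m = 2 ^ t`, `t ≥ 1`. -/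
structure Dh (P : Subgroup G) (r : G) (t : ℕ) : Prop where
  pos : 1 ≤ t
  order : orderOf r = 2 ^ (t + 1)
  mem : r ∈ P
  card : Nat.card P = 2 ^ (t + 2)
  refl : ∀ w ∈ P, w ∉ Subgroup.zpowers r → w * w = 1 ∧ w * r * w⁻¹ = r⁻¹
  exists_refl : ∃ s ∈ P, s ∉ Subgroup.zpowers r

theorem exists_dh [Finite G] {D : Subgroup G} {n : ℕ} (hn : 3 ≤ n)
    (h : Nonempty (D ≃* DihedralGroup (2 ^ (n - 1)))) : ∃ r, Dh D r (n - 2) := by
  obtain ⟨φ⟩ := h
  haveI : NeZero (2 ^ (n - 1)) := ⟨pow_ne_zero _ two_ne_zero⟩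
  set u : D := φ.symm (DihedralGroup.r 1) with hu
  have hmem : ∀ w : D, (w : G) ∈ Subgroup.zpowers (u : G) ↔ ∃ i, φ w = DihedralGroup.r i := by
    intro w
    constructor
    · rintro ⟨k, hk⟩
      refine ⟨(k : ZMod (2 ^ (n - 1))), ?_⟩
      have e : u ^ k = w := Subtype.ext (by simpa using hk)
      rw [← e, map_zpow, hu, MulEquiv.apply_symm_apply, DihedralGroup.r_one_zpow]
    · rintro ⟨i, hi⟩
      refine ⟨(i.val : ℤ), ?_⟩
      have e : u ^ i.val = w := φ.injective (by
        rw [map_pow, hu, MulEquiv.apply_symm_apply, DihedralGroup.r_one_pow, hi,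
          ZMod.natCast_zmod_val])
      show (u : G) ^ (i.val : ℤ) = _
      rw [zpow_natCast, ← e]
      simp
  refine ⟨(u : G), by omega, ?_, u.2, ?_, fun w hw hwr => ?_, ?_⟩
  · rw [Subgroup.orderOf_coe, hu, MulEquiv.orderOf_eq, DihedralGroup.orderOf_r_one,
      show n - 2 + 1 = n - 1 by omega]
  · rw [Nat.card_congr φ.toEquiv, DihedralGroup.nat_card, ← pow_succ']
    congr 1
    omega
  · obtain ⟨i, hi⟩ : ∃ i, φ ⟨w, hw⟩ = DihedralGroup.sr i := by
      rcases h : φ ⟨w, hw⟩ with i | i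
      · exact absurd ((hmem ⟨w, hw⟩).2 ⟨i, h⟩) hwr
      · exact ⟨i, rfl⟩
    have e1 : (⟨w, hw⟩ * ⟨w, hw⟩ : D) = 1 := φ.injective (by
      rw [map_mul, hi, DihedralGroup.sr_mul_self, map_one])
    have e2 : (⟨w, hw⟩ * u * (⟨w, hw⟩ : D)⁻¹) = u⁻¹ := φ.injective (by
      rw [map_mul, map_mul, map_inv, map_inv, hi, hu, MulEquiv.apply_symm_apply]
      simp)
    exact ⟨by simpa using congrArg Subtype.val e1, by simpa using congrArg Subtype.val e2⟩
  · refine ⟨(φ.symm (DihedralGroup.sr 0) : G), SetLike.coe_mem _, fun h => ?_⟩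
    obtain ⟨i, hi⟩ := (hmem _).1 h
    rw [MulEquiv.apply_symm_apply] at hi
    cases hi

namespace Dh

variable {P : Subgroup G} {r : G} {t : ℕ} (h : Dh P r t)
include h

theorem pow_mem' (i : ℕ) : r ^ i ∈ P := P.pow_mem h.mem i

/-- The central involution. -/
theorem z_order : orderOf (r ^ 2 ^ t) = 2 := by
  rw [orderOf_pow' _ (pow_ne_zero _ two_ne_zero), h.order,
    Nat.gcd_eq_right (pow_dvd_pow 2 t.le_succ), pow_succ,
    Nat.mul_div_cancel_left _ (Nat.two_pow_pos t)]

theorem z_inv : (r ^ 2 ^ t)⁻¹ = r ^ 2 ^ t := by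
  refine inv_eq_of_mul_eq_one_right ?_
  rw [← pow_two]
  conv_lhs => arg 2; rw [← h.z_order]
  exact pow_orderOf_eq_one _

theorem refl_pow {w : G} (hw : w ∈ P) (hwr : w ∉ Subgroup.zpowers r) (i : ℕ) :
    w * r ^ i * w⁻¹ = (r ^ i)⁻¹ := by
  rw [← MulAut.conj_apply, map_pow, MulAut.conj_apply, (h.refl w hw hwr).2, inv_pow]

/-- A rotation that is its own inverse is a power of the central involution. -/
theorem pow_self_inv {i : ℕ} (hi : (r ^ i)⁻¹ = r ^ i) : 2 ^ t ∣ i := by
  have h2 : r ^ (2 * i) = 1 := by rw [two_mul, pow_add]; nth_rw 1 [← hi]; exact inv_mul_cancel _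
  have h3 := orderOf_dvd_of_pow_eq_one h2
  rw [h.order, pow_succ'] at h3
  exact Nat.dvd_of_mul_dvd_mul_left two_pos h3

theorem pow_eq_z [Finite G] {x : G} (hx : x ∈ Subgroup.zpowers r) (hxx : x * x = 1) :
    x = 1 ∨ x = r ^ 2 ^ t := by
  obtain ⟨i, rfl⟩ := (isOfFinOrder_of_finite r).mem_powers_iff_mem_zpowers.2 hx
  obtain ⟨c, rfl⟩ := h.pow_self_inv (inv_eq_of_mul_eq_one_right hxx)
  rcases Nat.even_or_odd c with ⟨e, rfl⟩ | ⟨e, rfl⟩
  · left
    show r ^ (2 ^ t * (e + e)) = 1
    rw [show 2 ^ t * (e + e) = 2 ^ (t + 1) * e by ring, ← h.order, pow_mul, pow_orderOf_eq_one,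
      one_pow]
  · right
    show r ^ (2 ^ t * (2 * e + 1)) = r ^ 2 ^ t
    rw [show 2 ^ t * (2 * e + 1) = 2 ^ (t + 1) * e + 2 ^ t by ring, pow_add, ← h.order, pow_mul,
      pow_orderOf_eq_one, one_pow, one_mul]

theorem mem_zpowers_of_order [Finite G] {w : G} (hw : w ∈ P) (hww : w * w ≠ 1) :
    w ∈ Subgroup.zpowers r := by
  by_contra hc
  exact hww (h.refl w hw hc).1

/-- Only rotations and reflections through it commute with a nontrivial element. -/
theorem commute_rotation [Finite G] {x w : G} (hx : x ∈ Subgroup.zpowers r) (hw : w ∈ P)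
    (hwr : w ∉ Subgroup.zpowers r) (hc : w * x = x * w) : x * x = 1 := by
  obtain ⟨i, rfl⟩ := (isOfFinOrder_of_finite r).mem_powers_iff_mem_zpowers.2 hx
  have h1 := h.refl_pow hw hwr i
  rw [show (fun j => r ^ j) i = r ^ i from rfl] at hc ⊢
  rw [hc, mul_inv_cancel_right] at h1
  nth_rw 1 [h1]
  exact inv_mul_cancel _

theorem mul_mem_zpowers [Finite G] {u w : G} (hu : u ∈ P) (hw : w ∈ P)
    (hur : u ∉ Subgroup.zpowers r) (hwr : w ∉ Subgroup.zpowers r) :
    u * w ∈ Subgroup.zpowers r := by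
  by_contra hc
  obtain ⟨h1, h2⟩ := h.refl _ (mul_mem hu hw) hc
  have e : u * w * r * (u * w)⁻¹ = r := by
    have h3 : ∀ x : G, u * x⁻¹ * u⁻¹ = (u * x * u⁻¹)⁻¹ := fun x => by group
    rw [show u * w * r * (u * w)⁻¹ = u * (w * r * w⁻¹) * u⁻¹ by group, (h.refl w hw hwr).2, h3,
      (h.refl u hu hur).2, inv_inv]
  rw [e] at h2
  have h4 := orderOf_le_of_pow_eq_one two_pos (show r ^ 2 = 1 by
    rw [pow_two]; nth_rw 1 [h2]; exact inv_mul_cancel _)
  rw [h.order] at h4
  have := Nat.pow_le_pow_right two_pos (show 2 ≤ t + 1 from Nat.succ_le_succ h.pos)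
  omega

/-- An automorphism of odd order of a subgroup fixing a nontrivial central element of it is
trivial. -/
theorem odd_trivial [Finite G] {R : Subgroup G} (hR : R ≤ P) {x : G} (hx : x ∈ R) (hx1 : x ≠ 1)
    (hxc : ∀ w ∈ R, w * x = x * w) {y : G} (hy : Odd (orderOf y))
    (hyR : ∀ w ∈ R, y * w * y⁻¹ ∈ R) (hyx : y * x * y⁻¹ = x) : ∀ w ∈ R, y * w * y⁻¹ = w := by
  -- a cyclic subgroup of index at most two, fixed by `y`
  obtain ⟨S, hSR, hSc, hfix⟩ : ∃ S : Subgroup G, S ≤ R ∧
      (∀ u ∈ R, ∀ w ∈ R, u ∉ S → w ∉ S → u * w ∈ S) ∧ ∀ w ∈ S, y * w * y⁻¹ = w := by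
    by_cases hxr : x ∈ Subgroup.zpowers r
    · refine ⟨R ⊓ Subgroup.zpowers r, inf_le_left, fun u hu w hw hu' hw' => ⟨mul_mem hu hw,
        h.mul_mem_zpowers (hR hu) (hR hw) (fun e => hu' ⟨hu, e⟩) fun e => hw' ⟨hw, e⟩⟩, ?_⟩
      have hz : ∀ w ∈ Subgroup.zpowers r, w * w = 1 → y * w * y⁻¹ = w := by
        intro w hw hww
        rcases h.pow_eq_z hw hww with rfl | rfl
        · simp
        obtain ⟨i, rfl⟩ := (isOfFinOrder_of_finite r).mem_powers_iff_mem_zpowers.2 hxr
        obtain ⟨k, hk⟩ : ∃ k : ℕ, (r ^ i) ^ k = r ^ 2 ^ t := by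
          obtain ⟨k, -, hk⟩ : ∃ k ≤ t + 1, orderOf (r ^ i) = 2 ^ k :=
            (Nat.dvd_prime_pow Nat.prime_two).1 (h.order ▸ orderOf_pow_dvd i)
          rcases k with _ | k
          · exact absurd (orderOf_eq_one_iff.1 (by simpa using hk)) hx1
          refine ⟨2 ^ k, ?_⟩
          rcases h.pow_eq_z (pow_mem hxr (2 ^ k)) (by
            rw [← pow_add, ← two_mul, ← pow_succ', ← hk, pow_orderOf_eq_one]) with e | e
          · exfalso
            have := Nat.le_of_dvd (Nat.two_pow_pos k) (hk ▸ orderOf_dvd_of_pow_eq_one e)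
            have := Nat.pow_lt_pow_right one_lt_two k.lt_succ_self
            omega
          · exact e
        rw [← hk, ← MulAut.conj_apply, map_pow, MulAut.conj_apply,
          show y * r ^ i * y⁻¹ = r ^ i from hyx]
      intro w hw
      obtain ⟨hwR, hwr⟩ := hw
      by_cases hww : w * w = 1
      · exact hz w hwr hww
      -- `y` normalises `⟨w⟩`, whose automorphism group is a 2-group
      have hord : ∀ v : G, orderOf (y * v * y⁻¹) = orderOf v := fun v =>
        MulEquiv.orderOf_eq (MulAut.conj y) v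
      have hyw : y * w * y⁻¹ ∈ Subgroup.zpowers r := h.mem_zpowers_of_order (hR (hyR w hwR))
        fun e => hww (by rw [show y * w * y⁻¹ * (y * w * y⁻¹) = y * (w * w) * y⁻¹ by group] at e;
                         exact MulAut.conj y |>.injective (by simpa using e))
      obtain ⟨k, hk⟩ : y * w * y⁻¹ ∈ Subgroup.zpowers w := by
        obtain ⟨i, rfl⟩ := (isOfFinOrder_of_finite r).mem_powers_iff_mem_zpowers.2 hwr
        obtain ⟨j, hj⟩ := (isOfFinOrder_of_finite r).mem_powers_iff_mem_zpowers.2 hyw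
        simp only at hj ⊢
        have e := hord (r ^ i)
        rw [← hj, orderOf_pow, orderOf_pow] at e
        have hg : Nat.gcd (orderOf r) j = Nat.gcd (orderOf r) i := by
          rw [← Nat.div_div_self (Nat.gcd_dvd_left (orderOf r) j) (orderOf_pos r).ne',
            e, Nat.div_div_self (Nat.gcd_dvd_left (orderOf r) i) (orderOf_pos r).ne']
        rw [← hj]
        have hdvd : ((Nat.gcd (orderOf r) i : ℕ) : ℤ) ∣ j :=
          Int.natCast_dvd_natCast.2 (hg ▸ Nat.gcd_dvd_right _ _)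
        obtain ⟨c, hc⟩ := hdvd
        have hb := Nat.gcd_eq_gcd_ab (orderOf r) i
        refine ⟨Nat.gcdB (orderOf r) i * c, ?_⟩
        show (r ^ i) ^ _ = r ^ j
        rw [← zpow_natCast r j, ← zpow_natCast r i, ← zpow_mul, hc, hb, add_mul,
          zpow_add r (_ : ℤ) _, mul_assoc, zpow_mul r (orderOf r : ℤ), zpow_natCast,
          pow_orderOf_eq_one, one_zpow, one_mul, mul_assoc]
      have hpow : ∀ n : ℕ, y ^ n * w * (y ^ n)⁻¹ = w ^ (k ^ n) := by
        intro n
        induction n with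
        | zero => simp
        | succ n ih =>
          rw [pow_succ', show y * y ^ n * w * (y * y ^ n)⁻¹ = y * (y ^ n * w * (y ^ n)⁻¹) * y⁻¹ by
            group, ih, ← MulAut.conj_apply, map_zpow, MulAut.conj_apply,
            show y * w * y⁻¹ = w ^ k from hk.symm, ← zpow_mul, ← pow_succ' k n]
      have h1 := hpow (orderOf y)
      rw [pow_orderOf_eq_one, one_mul, inv_one, mul_one] at h1
      have h2 : ((orderOf w : ℕ) : ℤ) ∣ k ^ orderOf y - 1 := by
        rw [orderOf_dvd_iff_zpow_eq_one, zpow_sub, zpow_one, ← h1, mul_inv_cancel]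
      obtain ⟨j, -, hj⟩ := (Nat.dvd_prime_pow Nat.prime_two).1
        (h.order ▸ orderOf_dvd_of_mem_zpowers hwr)
      have hj0 : j ≠ 0 := fun e => hww (by
        rw [orderOf_eq_one_iff.1 (by rw [hj, e, pow_zero] : orderOf w = 1), one_mul])
      rw [hj, geom_sum_mul k (orderOf y) |>.symm] at h2
      have hkodd : Odd k := by
        rw [← Int.not_even_iff_odd]
        intro he
        have h3 : (2 : ℤ) ∣ (∑ i ∈ Finset.range (orderOf y), k ^ i) * (k - 1) :=
          dvd_trans (by exact_mod_cast dvd_pow_self 2 hj0) h2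
        rw [geom_sum_mul] at h3
        have h4 : Even (k ^ orderOf y) := he.pow_of_ne_zero (orderOf_pos y).ne'
        obtain ⟨c, hc⟩ := h4
        omega
      have hsum : ¬ (2 : ℤ) ∣ ∑ i ∈ Finset.range (orderOf y), k ^ i := by
        rw [show (2 : ℤ) = ((2 : ℕ) : ℤ) from rfl, ← ZMod.intCast_zmod_eq_zero_iff_dvd]
        have hk1 : (k : ZMod 2) = 1 := by
          obtain ⟨c, rfl⟩ := hkodd
          push_cast
          rw [show (2 : ZMod 2) = 0 from rfl]
          simp
        push_cast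
        rw [Finset.sum_congr rfl fun i _ => by rw [hk1, one_pow], Finset.sum_const,
          Finset.card_range, nsmul_eq_mul, mul_one]
        obtain ⟨c, hc⟩ := hy
        rw [hc]
        push_cast
        rw [show (2 : ZMod 2) = 0 from rfl]
        simp
      have h5 : ((orderOf w : ℕ) : ℤ) ∣ k - 1 := by
        rw [hj]
        refine IsCoprime.dvd_of_dvd_mul_left ?_ h2
        push_cast
        exact ((Int.prime_two.coprime_iff_not_dvd).2 hsum).pow_left
      rw [orderOf_dvd_iff_zpow_eq_one, zpow_sub, zpow_one, mul_inv_eq_one] at h5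
      rw [← hk]
      exact h5
    · have hxx := (h.refl x (hR hx) hxr).1
      refine ⟨Subgroup.zpowers x, Subgroup.zpowers_le.2 hx, fun u hu w hw hu' hw' => ?_,
        fun w hw => ?_⟩
      · have key : ∀ v ∈ R, v ∉ Subgroup.zpowers x → v = r ^ 2 ^ t ∨ v = r ^ 2 ^ t * x := by
          intro v hv hv'
          by_cases hvr : v ∈ Subgroup.zpowers r
          · rcases h.pow_eq_z hvr (h.commute_rotation hvr (hR hx) hxr (hxc v hv).symm) with e | e
            · exact absurd (e ▸ one_mem _) hv'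
            · exact Or.inl e
          · have hvx := h.mul_mem_zpowers (hR hv) (hR hx) hvr hxr
            have hc := h.commute_rotation hvx (hR hx) hxr
              (by rw [← mul_assoc, ← hxc v hv])
            rcases h.pow_eq_z hvx hc with e | e
            · refine absurd ?_ hv'
              rw [show v = x by
                rw [mul_eq_one_iff_eq_inv] at e
                rw [e, inv_eq_of_mul_eq_one_right hxx]]
              exact Subgroup.mem_zpowers x
            · refine Or.inr ?_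
              rw [← e, mul_assoc, hxx, mul_one]
        have hzz : r ^ 2 ^ t * r ^ 2 ^ t = 1 := by
          nth_rw 1 [← h.z_inv]
          exact inv_mul_cancel _
        rcases key u hu hu' with rfl | rfl <;> rcases key w hw hw' with rfl | rfl
        · rw [hzz]; exact one_mem _
        · rw [← mul_assoc, hzz, one_mul]; exact Subgroup.mem_zpowers x
        · rw [mul_assoc, ← hxc _ hw, ← mul_assoc, hzz, one_mul]
          exact Subgroup.mem_zpowers x
        · rw [show r ^ 2 ^ t * x * (r ^ 2 ^ t * x) = r ^ 2 ^ t * (x * (r ^ 2 ^ t * x)) by group,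
            ← hxc _ hu, mul_assoc (r ^ 2 ^ t) x x, hxx, mul_one, hzz]
          exact one_mem _
      · obtain ⟨k, rfl⟩ := Subgroup.mem_zpowers_iff.1 hw
        rw [← MulAut.conj_apply, map_zpow, MulAut.conj_apply, hyx]
  intro w hw
  by_cases hwS : w ∈ S
  · exact hfix w hwS
  -- the displacement lies in `S`
  have himg : y * w * y⁻¹ ∉ S := fun e => hwS (by
    have h1 := hfix _ e
    have h2 : y * w * y⁻¹ = w := MulAut.conj y |>.injective (by simpa using h1)
    rwa [h2] at e)
  set s := w⁻¹ * (y * w * y⁻¹) with hs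
  have hsS : s ∈ S := hSc _ (inv_mem hw) _ (hyR w hw) (fun e => hwS (by simpa using inv_mem e)) himg
  have hpow : ∀ n : ℕ, y ^ n * w * (y ^ n)⁻¹ = w * s ^ n := by
    intro n
    induction n with
    | zero => simp
    | succ n ih =>
      rw [pow_succ', show y * y ^ n * w * (y * y ^ n)⁻¹ = y * (y ^ n * w * (y ^ n)⁻¹) * y⁻¹ by
        group, ih, show y * (w * s ^ n) * y⁻¹ = y * w * y⁻¹ * (y * s ^ n * y⁻¹) by group,
        hfix _ (pow_mem hsS n), show y * w * y⁻¹ = w * s by rw [hs]; group, mul_assoc,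
        ← pow_succ']
  have h1 := hpow (orderOf y)
  rw [pow_orderOf_eq_one, one_mul, inv_one, mul_one, left_eq_mul] at h1
  obtain ⟨j, -, hj⟩ := (Nat.dvd_prime_pow Nat.prime_two).1
    (h.card ▸ Subgroup.orderOf_dvd_natCard (s := P) (hR (hSR hsS)))
  have hs1 : s = 1 := orderOf_eq_one_iff.1 (Nat.eq_one_of_dvd_coprimes
    (hj ▸ Nat.Coprime.pow_left j (Nat.coprime_two_left.2 hy)) dvd_rfl
    (orderOf_dvd_of_pow_eq_one h1))
  rw [show y * w * y⁻¹ = w * s by rw [hs]; group, hs1, mul_one]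

/-- The centralizer in `P` of a rotation of order more than two is the rotation group. -/
theorem centralizer_rotation [Finite G] {x w : G} (hx : x ∈ Subgroup.zpowers r) (hxx : x * x ≠ 1)
    (hw : w ∈ P) (hc : w * x = x * w) : w ∈ Subgroup.zpowers r := by
  by_contra hwr
  exact hxx (h.commute_rotation hx hw hwr hc)

theorem z_central [Finite G] {w : G} (hw : w ∈ P) : w * r ^ 2 ^ t = r ^ 2 ^ t * w := by
  by_cases hwr : w ∈ Subgroup.zpowers r
  · obtain ⟨i, rfl⟩ := (isOfFinOrder_of_finite r).mem_powers_iff_mem_zpowers.2 hwr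
    show r ^ i * r ^ 2 ^ t = r ^ 2 ^ t * r ^ i
    rw [← pow_add, ← pow_add, add_comm]
  · have h1 := h.refl_pow hw hwr (2 ^ t)
    rw [h.z_inv] at h1
    exact mul_inv_eq_iff_eq_mul.1 h1

theorem zpowers_pow_eq {i : ℕ} (hi : Odd i) : Subgroup.zpowers (r ^ i) = Subgroup.zpowers r := by
  refine le_antisymm (Subgroup.zpowers_le.2 (pow_mem (Subgroup.mem_zpowers r) i))
    (Subgroup.zpowers_le.2 ?_)
  obtain ⟨k, -, hk⟩ := Nat.exists_mul_mod_eq_one_of_coprime
    (show i.Coprime (2 ^ (t + 1)) from Nat.Coprime.pow_right _ (Nat.coprime_two_right.2 hi))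
    (Nat.one_lt_two_pow (Nat.succ_ne_zero t))
  refine Subgroup.mem_zpowers_iff.2 ⟨(k : ℤ), ?_⟩
  rw [zpow_natCast, ← pow_mul, ← pow_mod_orderOf, h.order, hk, pow_one]

end Dh

end Cfsg.Agent.Char.DihBlk
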