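import Cfsg.Agent.Lib.Char.DihBlockInvolution
import Cfsg.Agent.Lib.Char.Integral

/-!
The invariants of a 2-block with dihedral defect group.
-/

open scoped ComplexConjugate

namespace Cfsg.Agent.Char.DihBlk

open Cfsg Cfsg.Agent.Block Cfsg.Agent.Char Cfsg.Agent.Char.BP Cfsg.Agent.Char.Spec

set_option linter.unusedSectionVars false
set_option linter.style.haveILetI false
set_option maxHeartbeats 800000

universe u

variable {G : Type u} [Group G] [Fintype G] {M : Ideal AlgInt} {B : Set (IrrCharacter G)}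

theorem One.L_classFun {p : ℕ} {a : BrauerPairIdx G} (o : One p a) (c y : CG a.1) :
    o.L (y * c * y⁻¹) = o.L c := by
  exact Finset.sum_congr rfl fun ξ _ => by rw [irr_classFun ξ c y]

namespace Setup

variable {P : Subgroup G} {e : Set (IrrCharacter (CG P))} {r : G} {t : ℕ}
variable (S : Setup M B P e r t)

include S in
/-- At a generator of the rotations the factorisations pair divisibly with the kernel. -/
theorem cnt_rotation_ring (o : One 2 (S.rot 1)) [Fintype (CG (S.rot 1).1)] (i : ℕ) :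
    MemLocalRing M ((∑ c : CG (S.rot 1).1, (cnt (S.gen i * (c : G)) : ℂ) * o.L c⁻¹) /
      (Nat.card (CG (S.rot 1).1) : ℂ) / (2 : ℂ) ^ (t + 1)) := by
  classical
  rw [div_right_comm, Finset.sum_div]
  have hau := S.rot_gen i
  have hcomm : ∀ y : CG (S.rot 1).1, (y : G) * S.gen i = S.gen i * (y : G) := fun y =>
    (Subgroup.mem_centralizer_iff.1 y.2 (S.gen i) (S.gen_mem i)).symm
  refine RankBound.ring_sum_classes S.hM _ (fun c y => ?_) fun c => ?_
  · show (cnt (S.gen i * ((y : G) * (c : G) * (y : G)⁻¹)) : ℂ) * o.L (y * c * y⁻¹)⁻¹ / _ = _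
    rw [show (y * c * y⁻¹)⁻¹ = y * c⁻¹ * y⁻¹ by group, o.L_classFun,
      show S.gen i * ((y : G) * (c : G) * (y : G)⁻¹) = (y : G) * (S.gen i * (c : G)) * (y : G)⁻¹ by
        rw [← mul_assoc (y : G) (S.gen i), hcomm y]; group, cnt_conj]
  · by_cases hc : 2 ∣ orderOf c
    · rw [o.L_singular S.hM (S.rot_ofB 1).1.2 (by rwa [orderOf_inv]), mul_zero, zero_div, zero_div]
      exact ring_of_ideal (ideal_zero S.hM)
    have hco : (orderOf (S.gen i)).Coprime (orderOf (c : G)) := by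
      rw [S.gen_order, Subgroup.orderOf_coe]
      exact Nat.Coprime.pow_left _
        (Nat.coprime_two_left.2 (Nat.not_even_iff_odd.1 fun h => hc h.two_dvd))
    obtain ⟨k, hk⟩ := dvd_cnt (mem_zpowers_mul (hcomm c).symm hco) (S.gen_sq i)
    rw [S.gen_order] at hk
    have hcent : Subgroup.centralizer ({c⁻¹} : Set (CG (S.rot 1).1)) =
        Subgroup.centralizer ({c} : Set (CG (S.rot 1).1)) := by
      ext x
      rw [Subgroup.mem_centralizer_singleton_iff, Subgroup.mem_centralizer_singleton_iff]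
      exact ⟨fun h => by simpa using (Commute.inv_right (show Commute x c⁻¹ from h)).eq,
        fun h => (Commute.inv_right (show Commute x c from h)).eq⟩
    have h := ring_mul S.hM (ring_natCast S.hM k)
      (o.L_div_ring S.hM (S.rot_ofB 1).1.2 (c := c⁻¹) (by rwa [orderOf_inv]))
    rw [hcent] at h
    rw [hk]
    convert h using 1
    push_cast
    field_simp

include S in
/-- The short count does not occur. -/
theorem not_short [DecidablePred (· ∈ B)] (hk : Nat.card B = 2 ^ t + 1) : False := by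
  classical
  have ht := S.dh.pos
  obtain ⟨hcount, hsharp⟩ := S.count
  have hl : blockRank 2 B = 1 := by
    have := Res.blockRank_pos S.hM S.isBlock
    omega
  have hsharp' := hsharp (by omega)
  set m := 2 ^ t with hm
  have hm2 := S.two_le
  have hz1 : r ^ m ≠ 1 := S.pow_ne_one (Finset.mem_Icc.2 ⟨by omega, le_rfl⟩)
  have hr1 : r ^ 1 ≠ 1 := S.pow_ne_one (Finset.mem_Icc.2 ⟨le_rfl, by omega⟩)
  obtain ⟨o⟩ := exists_one S.hM (S.rot_ofB m).1.2 (S.rank_rot hz1)
  obtain ⟨o₁⟩ := exists_one S.hM (S.rot_ofB 1).1.2 (S.rank_rot hr1)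
  obtain ⟨o₀⟩ := exists_one S.hM (S.rot_ofB 0).1.2 (S.rank_rot_zero.trans hl)
  set z := r ^ m with hz
  have hzc : ∀ w ∈ P, w * z = z * w := fun w hw => S.dh.z_central hw
  have hzz : z * z = 1 := by
    have := pow_orderOf_eq_one z
    rwa [S.dh.z_order, pow_two] at this
  obtain ⟨dz, hdz, hdzs, hdzp⟩ := S.exists_major_col hzc hzz o
  obtain ⟨d, hd, hds, hdp⟩ := S.exists_major_col (i := 0) (fun w _ => by simp) (by simp) o₀
  simp only [pow_zero] at hd
  obtain ⟨hH4, hw⟩ := S.height_zero o o₁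
  set A := Finset.univ.filter (· ∈ B) with hA
  set H := A.filter fun χ : IrrCharacter G => blockHeight 2 B (χ : G → ℂ) = 0 with hH
  have hmA : ∀ {χ : IrrCharacter G}, χ ∈ A ↔ χ ∈ B := by intro χ; simp [hA]
  have hAc : A.card = m + 1 := by
    rw [← hk, Nat.card_eq_fintype_card]
    exact (Fintype.card_of_subtype A fun χ => hmA).symm
  -- the degree column is positive
  have hdeg : ∀ χ ∈ B, ((charDegree (χ : G → ℂ) : ℤ) = d χ * (o₀.g0 : ℤ)) := fun χ hχ => by
    have h := S.value_one hχ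
    rw [o₀.sct_one, hd, charDeg_spec'] at h
    exact Int.cast_injective (α := ℂ) (by push_cast; exact h)
  have hdpos : ∀ χ ∈ B, 0 < d χ := fun χ hχ => by
    have h1 := hdeg χ hχ
    have h2 := charDeg_pos χ
    have h3 := o₀.g0_pos
    by_contra hc
    push Not at hc
    nlinarith
  -- both columns have one entry of absolute value three
  have hpat : ∀ c : IrrCharacter G → ℤ, (∑ χ ∈ A, (c χ).natAbs ^ 2 = 4 * m) →
      (∀ χ ∈ B, c χ ≠ 0 ∧ (Odd (c χ).natAbs ↔ blockHeight 2 B (χ : G → ℂ) = 0) ∧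
        ((c χ).natAbs = 2 → blockHeight 2 B (χ : G → ℂ) = 1)) →
      (∀ χ ∈ A, χ ∉ H → (c χ).natAbs = 2) ∧
        ∃ ρ ∈ H, (c ρ).natAbs = 3 ∧ ∀ χ ∈ H, χ ≠ ρ → (c χ).natAbs = 1 := by
    intro c hs hp
    rcases square_pattern A H (Finset.filter_subset _ _) hH4 (fun χ => (c χ).natAbs)
      (fun χ hχ => (hp χ (hmA.1 (Finset.mem_filter.1 hχ).1)).2.1.2 (Finset.mem_filter.1 hχ).2)
      (fun χ hχ hn => ⟨Nat.not_odd_iff_even.1 fun ho => hn (Finset.mem_filter.2
        ⟨hχ, (hp χ (hmA.1 hχ)).2.1.1 ho⟩), Int.natAbs_ne_zero.2 (hp χ (hmA.1 hχ)).1⟩) hs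
      (by omega) with ⟨h, -, -⟩ | ⟨-, h⟩
    · omega
    · exact h
  obtain ⟨hdzE, ρz, hρzH, hρz, hdzO⟩ := hpat dz hdzs hdzp
  obtain ⟨hdE, ρ, hρH, hρ, hdO⟩ := hpat d hds hdp
  have hdval : ∀ χ ∈ B, (d χ : ℂ) = ((d χ).natAbs : ℂ) := fun χ hχ => by
    rw [← Int.cast_natCast, Int.natAbs_of_nonneg (hdpos χ hχ).le]
  have hdsq : ∀ χ, (dz χ : ℂ) ^ 2 = (((dz χ).natAbs ^ 2 : ℕ) : ℂ) := fun χ => by
    rw [← Int.cast_natCast, ← Int.cast_pow, Nat.cast_pow, Int.natAbs_sq]
  -- the involution sums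
  set cl := (invs G).filter (fun s => IsConj z s) with hcl
  set N := cl.card with hN
  have hinv : ∀ {s : G}, s ∈ invs G → ∃ k, orderOf s = 2 ^ k := fun {s} hs =>
    ⟨1, by rw [pow_one]; exact orderOf_eq_prime (by rw [pow_two, (mem_invs.1 hs).1]) (mem_invs.1 hs).2⟩
  have hto_m : ∀ {s : G}, s ∈ invs G → ∀ b ∈ pairsAt 2 M B s,
      ∃ g : G, g * s * g⁻¹ = z ∧ cjI g b = S.rot m := by
    intro s hs b hb
    obtain ⟨i, hi, g, hg, hgb⟩ := hsharp' s (mem_invs.1 hs).2 (hinv hs) b hb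
    have h2 : r ^ i * r ^ i = 1 := by rw [← hg, conj_mul, (mem_invs.1 hs).1, mul_one, mul_inv_cancel]
    have hdvd := S.dh.pow_self_inv (inv_eq_of_mul_eq_one_right h2)
    rw [Finset.mem_Icc] at hi
    obtain rfl : i = m := le_antisymm hi.2 (Nat.le_of_dvd (by omega) hdvd)
    exact ⟨g, hg, hgb⟩
  have hzI : z ∈ invs G := mem_invs.2 ⟨hzz, hz1⟩
  have hzu : ∃ k, orderOf z = 2 ^ k := hinv hzI
  have hone : ¬ 2 ∣ orderOf (1 : G) := by simp
  have hFI : ∀ χ ∈ B, ∑ s ∈ invs G, (χ : G → ℂ) s = ((N * o.g0 : ℕ) : ℂ) * dz χ := by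
    intro χ hχ
    have hzval : (χ : G → ℂ) z = (dz χ : ℂ) * o.g0 := by
      have h := value_eq_pairs S.hM S.isBlock hχ hzu (one_mem _) hone
      rw [mul_one] at h
      rw [h, Finset.sum_eq_single (S.rot m)]
      · rw [o.sct_one, hdz]
      · intro b hb hne
        obtain ⟨g, hg, hgb⟩ := hto_m hzI b hb
        refine absurd ?_ hne
        rw [← hgb, cjI_of_mem_cg]
        rw [(mem_pairsAt.1 hb).1, cg_zpowers, Subgroup.mem_centralizer_singleton_iff]
        exact mul_inv_eq_iff_eq_mul.1 hg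
      · exact fun h => absurd (mem_pairsAt.2 ⟨S.rot_fst m, S.rot_ofB m⟩) h
    rw [← Finset.sum_filter_add_sum_filter_not (invs G) (fun s => IsConj z s),
      Finset.sum_eq_zero (s := (invs G).filter fun s => ¬ IsConj z s) fun s hs => ?_, add_zero,
      Finset.sum_congr rfl (g := fun _ => (dz χ : ℂ) * o.g0) fun s hs => ?_, Finset.sum_const,
      nsmul_eq_mul]
    · push_cast; ring
    · obtain ⟨g, rfl⟩ := isConj_iff.1 (Finset.mem_filter.1 hs).2
      rw [irr_classFun χ z g, hzval]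
    · obtain ⟨hsI, hnc⟩ := Finset.mem_filter.1 hs
      have h := value_eq_pairs S.hM S.isBlock hχ (hinv hsI) (one_mem _) hone
      rw [mul_one] at h
      rw [h]
      refine Finset.sum_eq_zero fun b hb => absurd ?_ hnc
      obtain ⟨g, hg, -⟩ := hto_m hsI b hb
      exact (isConj_iff.2 ⟨g, hg⟩).symm
  set σ := N * o.g0 with hσ
  have hNpos : 0 < N :=
    Finset.card_pos.2 ⟨z, Finset.mem_filter.2 ⟨hzI, IsConj.refl _⟩⟩
  have hσ0 : σ ≠ 0 := Nat.mul_ne_zero hNpos.ne' o.g0_pos.ne'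
  -- the identity, on the block
  have hident : ∀ {a : BrauerPairIdx G} (q : One 2 a) [Fintype (CG a.1)] {v : G},
      (∃ k, orderOf v = 2 ^ k) → a.1 = Subgroup.zpowers v → OfB 2 M B a →
      ∑ χ ∈ A, (dz χ : ℂ) ^ 2 / (d χ : ℂ) * q.col χ v =
        ((o₀.g0 * Nat.card G : ℕ) : ℂ) / ((σ : ℂ) ^ 2) *
          ((∑ c : CG a.1, (cnt (v * (c : G)) : ℂ) * q.L c⁻¹) / (Nat.card (CG a.1) : ℂ)) := by
    intro a q _ v hv hau haB
    have hC : (Nat.card (CG a.1) : ℂ) ≠ 0 := Nat.cast_ne_zero.2 Nat.card_pos.ne'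
    have h := q.cnt_identity S.hM hv hau haB
    rw [Finset.sum_congr rfl (g := fun χ => (σ : ℂ) ^ 2 / (o₀.g0 : ℂ) *
      ((dz χ : ℂ) ^ 2 / (d χ : ℂ) * q.col χ v)) fun χ hχ => ?_, ← Finset.mul_sum, ← hA] at h
    · have hσc : (σ : ℂ) ≠ 0 := Nat.cast_ne_zero.2 hσ0
      have hg := o₀.g0_ne
      push_cast
      field_simp at h ⊢
      linear_combination -h
    · have hχB := hmA.1 hχ
      rw [hFI χ hχB, charDeg_spec',
        show (charDegree (χ : G → ℂ) : ℂ) = (d χ : ℂ) * o₀.g0 by exact_mod_cast hdeg χ hχB]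
      have hdne : (d χ : ℂ) ≠ 0 := Int.cast_ne_zero.2 (hdpos χ hχB).ne'
      have hg := o₀.g0_ne
      field_simp
  -- orthogonality with the degree column
  have hcross : ∀ {i : ℕ} (q : One 2 (S.rot i)) {v : G}, (∃ k, orderOf v = 2 ^ k) →
      (S.rot i).1 = Subgroup.zpowers v → v ≠ 1 → ∑ χ ∈ A, (d χ : ℂ) * q.col χ v = 0 := by
    intro i q v hv hau hv1
    have h := sum_sct_cross (B := B) S.hM hv (⟨0, by simp⟩ : ∃ k, orderOf (1 : G) = 2 ^ k) hau
      (by rw [S.rot_fst, pow_zero]) (S.rot_ofB i) (S.rot_ofB 0)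
      (fun g hg _ => hv1 (by rwa [conj_eq_one_iff] at hg)) (one_mem _) hone (one_mem _) hone
    simp only [q.sct_one, o₀.sct_one, hd, map_mul, map_natCast, map_intCast] at h
    have h3 : (∑ χ ∈ A, (d χ : ℂ) * q.col χ v) * ((q.g0 : ℂ) * o₀.g0) = 0 := by
      rw [Finset.sum_mul, ← h]
      exact Finset.sum_congr rfl fun χ _ => by ring
    exact (mul_eq_zero.1 h3).resolve_right (mul_ne_zero q.g0_ne o₀.g0_ne)
  have hρB := hmA.1 (Finset.mem_filter.1 hρH).1
  have hρzB := hmA.1 (Finset.mem_filter.1 hρzH).1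
  letI := Fintype.ofFinite (CG (S.rot m).1)
  letI := Fintype.ofFinite (CG (S.rot 1).1)
  by_cases hpos : ρ = ρz
  · -- same position: the sum at the centre vanishes
    subst hpos
    have hpt : ∀ χ ∈ A, (dz χ : ℂ) ^ 2 / (d χ : ℂ) = (d χ : ℂ) := by
      intro χ hχ
      have hne : (d χ : ℂ) ≠ 0 := Int.cast_ne_zero.2 (hdpos χ (hmA.1 hχ)).ne'
      rw [div_eq_iff hne, hdsq, hdval χ (hmA.1 hχ)]
      by_cases h1 : χ ∈ H
      · by_cases h2 : χ = ρ
        · subst h2; rw [hρ, hρz]; push_cast; ring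
        · rw [hdO χ h1 h2, hdzO χ h1 h2]; push_cast; ring
      · rw [hdE χ hχ h1, hdzE χ hχ h1]; push_cast; ring
    have h := hident o hzu (S.rot_fst m) (S.rot_ofB m)
    rw [Finset.sum_congr rfl fun χ hχ => by rw [hpt χ hχ], hcross o hzu (S.rot_fst m) hz1] at h
    have hW := S.cnt_central_ne (S.rot_fst m) (S.rot_le m) o
    have h1 : ((o₀.g0 * Nat.card G : ℕ) : ℂ) / ((σ : ℂ) ^ 2) ≠ 0 :=
      div_ne_zero (Nat.cast_ne_zero.2 (Nat.mul_ne_zero o₀.g0_pos.ne' Nat.card_pos.ne'))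
        (pow_ne_zero _ (Nat.cast_ne_zero.2 hσ0))
    rcases mul_eq_zero.1 h.symm with h2 | h2
    · exact h1 h2
    · rcases div_eq_zero_iff.1 h2 with h3 | h3
      · exact hW h3
      · exact Nat.cast_ne_zero.2 Nat.card_pos.ne' h3
  -- different positions
  have hρρz : (dz ρ).natAbs = 1 := hdzO ρ hρH hpos
  have hρzρ : (d ρz).natAbs = 1 := hdO ρz hρzH (Ne.symm hpos)
  set F : ℕ → ℂ := fun i => ∑ χ ∈ A, (dz χ : ℂ) ^ 2 / (d χ : ℂ) * o₁.col χ (S.gen i) with hF
  have hFval : ∀ i, F i = -(8 / 3 : ℂ) * o₁.col ρ (S.gen i) + 8 * o₁.col ρz (S.gen i) := by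
    intro i
    have h0 := hcross o₁ ⟨t + 1, S.gen_order i⟩ (S.rot_gen i)
      (fun h => S.gen_sq i (by rw [h, mul_one]))
    rw [hF]
    show ∑ χ ∈ A, _ = _
    rw [← sub_zero (∑ χ ∈ A, (dz χ : ℂ) ^ 2 / (d χ : ℂ) * o₁.col χ (S.gen i)), ← h0,
      ← Finset.sum_sub_distrib, ← Finset.sum_subset (show ({ρ, ρz} : Finset (IrrCharacter G)) ⊆ A by
        intro χ hχ
        simp only [Finset.mem_insert, Finset.mem_singleton] at hχ
        rcases hχ with rfl | rfl
        · exact hmA.2 hρB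
        · exact hmA.2 hρzB), Finset.sum_pair hpos]
    · rw [hdsq, hdval ρ hρB, hρ, hρρz, hdsq, hdval ρz hρzB, hρzρ, hρz]
      push_cast
      ring
    · intro χ hχ hn
      simp only [Finset.mem_insert, Finset.mem_singleton, not_or] at hn
      have : (dz χ : ℂ) ^ 2 / (d χ : ℂ) = (d χ : ℂ) := by
        have hne : (d χ : ℂ) ≠ 0 := Int.cast_ne_zero.2 (hdpos χ (hmA.1 hχ)).ne'
        rw [div_eq_iff hne, hdsq, hdval χ (hmA.1 hχ)]
        by_cases h1 : χ ∈ H
        · rw [hdO χ h1 hn.1, hdzO χ h1 hn.2]; push_cast; ring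
        · rw [hdE χ hχ h1, hdzE χ hχ h1]; push_cast; ring
      rw [this, sub_self]
  -- the powers of two
  have hC0 : (Nat.card (CG (S.rot 0).1)).factorization 2 = (Nat.card G).factorization 2 := by
    rw [show CG (S.rot 0).1 = ⊤ by
      rw [eq_top_iff]
      intro g _
      rw [S.rot_fst, pow_zero, cg_zpowers, Subgroup.mem_centralizer_singleton_iff, mul_one, one_mul],
      Subgroup.card_top]
  have hg0 := o₀.g0_factorization S.hM (S.rot_ofB 0)
  rw [S.defect_major (S.rot_fst 0) (fun w _ => by simp) (S.rot_le 0), hC0] at hg0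
  have hgz := o.g0_factorization S.hM (S.rot_ofB m)
  rw [S.defect_major (S.rot_fst m) hzc (S.rot_le m)] at hgz
  have hNcard : N * Nat.card (CG (S.rot m).1) = Nat.card G := by
    rw [S.rot_fst, cg_zpowers, hN, hcl, ← (Subgroup.centralizer ({z} : Set G)).index_mul_card,
      ← card_conjClass_finset]
    congr 2
    ext s
    simp only [Finset.mem_filter, Finset.mem_univ, true_and, and_iff_right_iff_imp]
    intro hs
    obtain ⟨g, rfl⟩ := isConj_iff.1 hs
    exact invs_closed z hzI g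
  have hσf : σ.factorization 2 + (t + 2) = (Nat.card G).factorization 2 := by
    rw [← hNcard, hσ, Nat.factorization_mul hNpos.ne' o.g0_pos.ne',
      Nat.factorization_mul hNpos.ne' Nat.card_pos.ne', Finsupp.add_apply, Finsupp.add_apply]
    omega
  have hratio : MemLocalRing M (((o₀.g0 * Nat.card G : ℕ) : ℂ) /
      ((σ ^ 2 * 2 ^ (t + 2) : ℕ) : ℂ)) := by
    refine ring_natDiv S.hM (Nat.mul_ne_zero (pow_ne_zero _ hσ0) (pow_ne_zero _ two_ne_zero))
      (Nat.mul_ne_zero o₀.g0_pos.ne' Nat.card_pos.ne') ?_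
    rw [Nat.factorization_mul (pow_ne_zero _ hσ0) (pow_ne_zero _ two_ne_zero),
      Nat.factorization_mul o₀.g0_pos.ne' Nat.card_pos.ne', Nat.factorization_pow,
      Finsupp.add_apply, Finsupp.add_apply, Finsupp.smul_apply,
      Nat.Prime.factorization_pow Nat.prime_two, Finsupp.single_eq_same, smul_eq_mul]
    omega
  have hring : ∀ i, MemLocalRing M (F i / (2 : ℂ) ^ (2 * t + 3)) := by
    intro i
    have h := hident o₁ (v := S.gen i) ⟨t + 1, S.gen_order i⟩ (S.rot_gen i) (S.rot_ofB 1)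
    have h2 := ring_mul S.hM hratio (S.cnt_rotation_ring o₁ i)
    convert h2 using 1
    rw [hF]
    show (∑ χ ∈ A, _) / _ = _
    rw [h, show 2 * t + 3 = (t + 2) + (t + 1) by omega, pow_add]
    push_cast
    field_simp
  -- pairing inverse generators
  obtain ⟨s, hs⟩ : ∃ s, t = s + 1 := ⟨t - 1, by omega⟩
  have hhalf : ∑ i ∈ Finset.range m, F i = 2 * ∑ i ∈ Finset.range (2 ^ s), F i := by
    have hms : m = 2 ^ s + 2 ^ s := by rw [hm, hs, pow_succ]; ring
    rw [hms, Finset.sum_range_add, two_mul]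
    congr 1
    rw [← Finset.sum_range_reflect (fun i => F (2 ^ s + i))]
    refine Finset.sum_congr rfl fun i hi => ?_
    rw [Finset.mem_range] at hi
    show F (2 ^ s + (2 ^ s - 1 - i)) = F i
    rw [show 2 ^ s + (2 ^ s - 1 - i) = 2 ^ t - 1 - i by rw [← hm, hms]; omega, hF]
    refine Finset.sum_congr rfl fun χ _ => ?_
    rw [S.gen_inv (by rw [← hm, hms]; omega), S.col_inv o₁ χ (S.gen_mem' i)]
  obtain ⟨c, hc1, hwc⟩ := (hw ρ hρB).1 (Finset.mem_filter.1 hρH).2
  obtain ⟨cz, hcz1, hwcz⟩ := (hw ρz hρzB).1 (Finset.mem_filter.1 hρzH).2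
  have hsum : ∑ i ∈ Finset.range m, F i =
      (((2 : ℤ) ^ (t + 3) * (3 * cz - c) : ℤ) : ℂ) / 3 := by
    rw [Finset.sum_congr rfl fun i _ => hFval i, Finset.sum_add_distrib, ← Finset.mul_sum,
      ← Finset.mul_sum]
    show -(8 / 3 : ℂ) * S.w o₁ ρ + 8 * S.w o₁ ρz = _
    rw [hwc, hwcz]
    push_cast
    ring
  have hfin : MemLocalRing M ((((2 : ℤ) ^ (t + 3) * (3 * cz - c) : ℤ) : ℂ) /
      ((2 : ℕ) : ℂ) ^ (2 * t + 4)) := by
    have h3 : MemLocalRing M (3 : ℂ) := by exact_mod_cast ring_natCast S.hM 3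
    have h := ring_mul S.hM h3 (ring_sum S.hM (s := Finset.range (2 ^ s)) fun i _ => hring i)
    convert h using 1
    rw [← Finset.sum_div, show ∑ i ∈ Finset.range (2 ^ s), F i =
      (∑ i ∈ Finset.range m, F i) / 2 by rw [hhalf]; ring, hsum, pow_succ _ (2 * t + 3)]
    push_cast
    ring
  have hdvd := pow_dvd_of_ring_div S.hM _ _ hfin
  rw [Nat.cast_ofNat, show 2 * t + 4 = (t + 3) + (t + 1) by omega, pow_add,
    mul_dvd_mul_iff_left (pow_ne_zero _ two_ne_zero)] at hdvd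
  have hbound : 3 * cz - c ≠ 0 ∧ (3 * cz - c).natAbs ≤ 4 := by omega
  have hle := Nat.le_of_dvd (Int.natAbs_pos.2 hbound.1) (Int.natAbs_dvd_natAbs.2 hdvd)
  rw [Int.natAbs_pow] at hle
  have h8 : 2 ^ 3 ≤ (2 : ℤ).natAbs ^ (t + 1) := by
    show 2 ^ 3 ≤ 2 ^ (t + 1)
    refine Nat.pow_le_pow_right two_pos ?_
    -- for `m = 2` there are fewer characters than characters of height zero
    by_contra hlt
    have h2 : m = 2 := by rw [hm, show t = 1 by omega, pow_one]
    have := Finset.card_le_card (show H ⊆ A from Finset.filter_subset _ _)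
    omega
  omega

include S in
/-- The invariants. -/
theorem invariants [DecidablePred (· ∈ B)] :
    Nat.card B = 2 ^ t + 3 ∧ 1 ≤ blockRank 2 B ∧ blockRank 2 B ≤ 3 ∧
      Nat.card {χ : IrrCharacter G // χ ∈ B ∧ blockHeight 2 B (χ : G → ℂ) = 0} = 4 ∧
      ∀ χ ∈ B, blockHeight 2 B (χ : G → ℂ) ≤ 1 := by
  classical
  have hm2 := S.two_le
  obtain ⟨o⟩ := exists_one S.hM (S.rot_ofB (2 ^ t)).1.2
    (S.rank_rot (S.pow_ne_one (Finset.mem_Icc.2 ⟨by omega, le_rfl⟩)))
  obtain ⟨o₁⟩ := exists_one S.hM (S.rot_ofB 1).1.2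
    (S.rank_rot (S.pow_ne_one (Finset.mem_Icc.2 ⟨le_rfl, by omega⟩)))
  obtain ⟨dz, -, hdzs, hdzp⟩ := S.exists_major_col (fun w hw => S.dh.z_central hw)
    (by nth_rw 1 [← S.dh.z_inv]; exact inv_mul_cancel _) o
  obtain ⟨hH4, -⟩ := S.height_zero o o₁
  set A := Finset.univ.filter (· ∈ B) with hA
  set H := A.filter fun χ : IrrCharacter G => blockHeight 2 B (χ : G → ℂ) = 0 with hH
  have hmA : ∀ {χ : IrrCharacter G}, χ ∈ A ↔ χ ∈ B := by intro χ; simp [hA]
  have hAc : Nat.card B = A.card := by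
    rw [Nat.card_eq_fintype_card]
    exact Fintype.card_of_subtype A fun χ => hmA
  have hl := Res.blockRank_pos S.hM S.isBlock
  obtain ⟨hcount, -⟩ := S.count
  rcases square_pattern A H (Finset.filter_subset _ _) hH4 (fun χ => (dz χ).natAbs)
      (fun χ hχ => (hdzp χ (hmA.1 (Finset.mem_filter.1 hχ).1)).2.1.2 (Finset.mem_filter.1 hχ).2)
      (fun χ hχ hn => ⟨Nat.not_odd_iff_even.1 fun ho => hn (Finset.mem_filter.2
        ⟨hχ, (hdzp χ (hmA.1 hχ)).2.1.1 ho⟩), Int.natAbs_ne_zero.2 (hdzp χ (hmA.1 hχ)).1⟩) hdzs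
      (by omega) with ⟨hk, -, hev⟩ | ⟨hk, -⟩
  · refine ⟨by omega, hl, by omega, ?_, fun χ hχ => ?_⟩
    · rw [Nat.card_eq_fintype_card, ← hH4]
      exact Fintype.card_of_subtype H fun χ => by simp [hH, hA]
    · by_cases h0 : blockHeight 2 B (χ : G → ℂ) = 0
      · omega
      · rw [(hdzp χ hχ).2.2 (hev χ (hmA.2 hχ) fun h => h0 (Finset.mem_filter.1 h).2)]
  · exact (S.not_short (by omega)).elim

end Setup

end Cfsg.Agent.Char.DihBlk
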