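import Cfsg.Agent.Lib.Char.SubsectionHeight
import Cfsg.Agent.Lib.Char.CardSqBound
import Cfsg.Agent.Lib.Block.NormalDefect

/-!
The number of characters of height zero at a 2-subsection: averaged contributions are odd integers.
-/

open scoped ComplexConjugate

namespace Cfsg.Agent.Char.Spec

open Cfsg.Agent.Block Cfsg.Agent.Char.BP

set_option linter.unusedSectionVars false
set_option linter.style.haveILetI false
set_option maxHeartbeats 800000

universe u

/-- The sum over the squares of a real generalized character of an abelian group. -/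
theorem exists_square_sum {A : Type u} [CommGroup A] [Fintype A] {θ : A → ℂ}
    (hθ : IsGeneralizedCharacter A θ) (hreal : ∀ g, conj (θ g) = θ g) {n : ℤ} (h1 : θ 1 = n) :
    ∃ B : ℤ, ∑ g : A, θ (g * g) = (Nat.card A : ℂ) * B ∧ (2 : ℤ) ∣ n - B := by
  classical
  obtain ⟨a, ha, hexp⟩ := IsGenChar.exists_decomp hθ
  let cjc : IrrCharacter A → IrrCharacter A := fun φ =>
    ⟨fun g => conj ((φ : A → ℂ) g), IsIrr.conj φ.2⟩
  have hcc : ∀ φ, cjc (cjc φ) = φ := fun φ =>
    Subtype.ext (funext fun g => Complex.conj_conj _)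
  have hac : ∀ φ, a (cjc φ) = a φ := by
    intro φ
    have h2 : classInner θ (cjc φ : A → ℂ) = conj (classInner θ (φ : A → ℂ)) := by
      simp only [classInner, cjc, Complex.conj_conj, map_mul, map_sum, map_inv₀, map_natCast, hreal]
    rw [ha, ha, map_intCast] at h2
    exact_mod_cast h2
  have hlin : ∀ φ : IrrCharacter A, (φ : A → ℂ) 1 = 1 := fun φ => by
    rw [charDeg_spec', (comm_iff_linear A).1 mul_comm φ, Nat.cast_one]
  have hmul : ∀ (φ : IrrCharacter A) (g : A),
      (φ : A → ℂ) (g * g) = (φ : A → ℂ) g * (φ : A → ℂ) g := by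
    intro φ g
    have hg : g ∈ Subgroup.center A := Subgroup.mem_center_iff.2 fun t => mul_comm t g
    have h2 := centralChar_of_center (η := φ) hg 1
    rw [mul_one, hlin, mul_one] at h2
    rw [centralChar_of_center hg, ← h2]
  refine ⟨∑ φ : IrrCharacter A, if cjc φ = φ then a φ else 0, ?_, ?_⟩
  · calc ∑ g : A, θ (g * g) = ∑ φ : IrrCharacter A, (a φ : ℂ) *
          ((Nat.card A : ℂ) * classInner (φ : A → ℂ) (cjc φ : A → ℂ)) := by
          rw [hexp]
          simp only [Finset.sum_apply, Pi.smul_apply, smul_eq_mul]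
          rw [Finset.sum_comm]
          refine Finset.sum_congr rfl fun φ _ => ?_
          rw [← Finset.mul_sum, classInner, ← mul_assoc (Nat.card A : ℂ),
            mul_inv_cancel₀ (Nat.cast_ne_zero.2 Nat.card_pos.ne'), one_mul]
          congr 1
          exact Finset.sum_congr rfl fun g _ => by simp only [cjc, Complex.conj_conj, hmul]
      _ = _ := by
          rw [Int.cast_sum, Finset.mul_sum]
          refine Finset.sum_congr rfl fun φ _ => ?_
          by_cases h : cjc φ = φ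
          · rw [if_pos h, h, classInner_self_irr φ.2]; ring
          · rw [if_neg h, classInner_irr_ne φ.2 (cjc φ).2 (fun e => h (Subtype.ext e.symm))]
            simp
  · have hn : n = ∑ φ : IrrCharacter A, a φ := by
      have h := congrFun hexp 1
      simp only [Finset.sum_apply, Pi.smul_apply, smul_eq_mul, hlin, mul_one, h1] at h
      exact_mod_cast h
    rw [hn, ← Finset.sum_sub_distrib, ← Nat.cast_ofNat (n := 2),
      ← ZMod.intCast_zmod_eq_zero_iff_dvd, Int.cast_sum]
    refine Finset.sum_involution (fun φ _ => cjc φ) (fun φ _ => ?_) (fun φ _ h e => h ?_)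
      (fun φ _ => Finset.mem_univ _) (fun φ _ => hcc φ)
    · by_cases h : cjc φ = φ
      · simp [h]
      · have h' : ¬ cjc (cjc φ) = cjc φ := fun e => h (by rw [hcc] at e; exact e.symm)
        rw [if_neg h, if_neg h', hac, sub_zero]
        exact CharTwo.add_self_eq_zero _
    · simp [e]

/-- The average over the generators of a real generalized character of odd degree. -/
theorem exists_odd_average {Q : Type u} [CommGroup Q] [IsCyclic Q] [Fintype Q] [DecidableEq Q]
    {j : ℕ} (hj : Nat.card Q = 2 ^ j) {θ : Q → ℂ}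
    (hθ : IsGeneralizedCharacter Q θ) (hreal : ∀ g, conj (θ g) = θ g) {n : ℤ} (h1 : θ 1 = n)
    (hn : Odd n) :
    ∃ c : ℤ, Odd c ∧ ∑ u ∈ Finset.univ.filter (fun u : Q => orderOf u = Nat.card Q), θ u =
      ((Finset.univ.filter (fun u : Q => orderOf u = Nat.card Q)).card : ℂ) * c := by
  classical
  rcases j with _ | j
  · have hc1 : Nat.card Q = 1 := by simpa using hj
    haveI := (Nat.card_eq_one_iff_unique.1 hc1).1
    have hs : Finset.univ.filter (fun u : Q => orderOf u = Nat.card Q) = {1} := by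
      ext u
      simp only [Finset.mem_filter, Finset.mem_univ, true_and, Finset.mem_singleton,
        Subsingleton.elim u 1, orderOf_one, hc1]
    exact ⟨n, hn, by rw [hs]; simp [h1]⟩
  set f : Q →* Q := powMonoidHom 2 with hf
  have hker : Nat.card f.ker = 2 := by
    rw [hf, IsCyclic.card_powMonoidHom_ker, hj]
    exact Nat.gcd_eq_right (dvd_pow_self 2 j.succ_ne_zero)
  have hR : Nat.card f.range * 2 = 2 ^ (j + 1) := by
    rw [← hj, ← Subgroup.card_mul_index f.ker, hker, Subgroup.index_ker, mul_comm]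
  have hgen : ∀ u : Q, orderOf u = Nat.card Q ↔ u ∉ f.range := by
    intro u
    set g : Q →* Q := powMonoidHom (2 ^ j) with hg
    have hle : f.range ≤ g.ker := by
      rintro _ ⟨w, rfl⟩
      show (w ^ 2) ^ 2 ^ j = 1
      rw [← pow_mul, ← pow_succ', ← hj, pow_card_eq_one']
    have heq : f.range = g.ker := Subgroup.eq_of_le_of_card_ge hle (by
      rw [hg, IsCyclic.card_powMonoidHom_ker, hj,
        Nat.gcd_eq_right (pow_dvd_pow 2 j.le_succ)]
      rw [pow_succ] at hR
      omega)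
    rw [heq, MonoidHom.mem_ker]
    show _ ↔ ¬ u ^ 2 ^ j = 1
    constructor
    · intro ho h
      have h2 := Nat.le_of_dvd (Nat.two_pow_pos j) (orderOf_dvd_of_pow_eq_one h)
      rw [ho, hj, pow_succ] at h2
      have := Nat.two_pow_pos j
      omega
    · intro hne
      rw [hj]
      exact orderOf_eq_prime_pow hne (by rw [← hj, pow_card_eq_one'])
  obtain ⟨A, hA⟩ := IsGenChar.classInner_int hθ (IsGenChar.of_isCharacter IsChar.one)
  obtain ⟨B, hB, hdvd⟩ := exists_square_sum hθ hreal h1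
  set s := Finset.univ.filter (fun u : Q => orderOf u = Nat.card Q) with hs
  have hsplit : ∀ F : Q → ℂ, ∑ u ∈ s, F u = ∑ u : Q, F u - ∑ r : f.range, F r := by
    intro F
    rw [eq_sub_iff_add_eq, ← Finset.sum_subtype (Finset.univ.filter (fun u : Q => u ∈ f.range))
      (fun u => by simp) F, hs, Finset.filter_congr (fun u _ => hgen u), add_comm,
      Finset.sum_filter_add_sum_filter_not]
  have hsum : ∑ g : Q, θ (g * g) = 2 * ∑ r : f.range, θ r := by
    have h := sum_comp_surjective f.rangeRestrict f.rangeRestrict_surjective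
      (fun r : f.range => θ (r : Q))
    rw [MonoidHom.ker_rangeRestrict, hker, Nat.cast_ofNat] at h
    rw [← h]
    exact Finset.sum_congr rfl fun g _ => by simp [hf, sq]
  have htot : ∑ g : Q, θ g = (Nat.card Q : ℂ) * A := by
    rw [← hA, classInner, ← mul_assoc, mul_inv_cancel₀ (Nat.cast_ne_zero.2 Nat.card_pos.ne'),
      one_mul]
    simp
  have hcard : (s.card : ℂ) * 2 = Nat.card Q := by
    have h := hsplit (fun _ => 1)
    simp only [Finset.sum_const, nsmul_eq_mul, mul_one, Finset.card_univ,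
      ← Nat.card_eq_fintype_card] at h
    have h2 : (Nat.card f.range : ℂ) * 2 = (Nat.card Q : ℂ) := by rw [hj]; exact_mod_cast hR
    linear_combination 2 * h - h2
  refine ⟨2 * A - B, ?_, ?_⟩
  · rw [Int.odd_iff] at hn ⊢
    omega
  · rw [hsplit, htot]
    rw [hB] at hsum
    push_cast
    linear_combination (B - 2 * (A : ℂ)) / 2 * hcard + hsum / 2

variable {G : Type u} [Group G] [Fintype G] {M : Ideal AlgInt}
variable {B : Set (IrrCharacter G)}

theorem contrib_self_nonneg (p : ℕ) (d : ℕ) (a : BrauerPairIdx G) (y : G) (χ : IrrCharacter G) :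
    ∃ r : ℝ, 0 ≤ r ∧ contrib p d a y χ χ = r := by
  refine ⟨(p : ℝ) ^ d * (∑ v ∈ regs p a.1, Complex.normSq (sct (χ : G → ℂ) a y v)) /
    (Nat.card (CG a.1) : ℝ), ?_, ?_⟩
  · exact div_nonneg (mul_nonneg (pow_nonneg (Nat.cast_nonneg _) _)
      (Finset.sum_nonneg fun v _ => Complex.normSq_nonneg _)) (Nat.cast_nonneg _)
  · push_cast
    simp only [contrib, secT, Complex.mul_conj]

/-- Averaged over the generators, a diagonal contribution bounds the height zero characters. -/
theorem height_zero_bound (hM : IsPModular 2 M) {a : BrauerPairIdx G} {y : G}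
    (hy : ∃ k, orderOf y = 2 ^ k) (hay : a.1 = Subgroup.zpowers y) (haB : OfB 2 M B a) :
    ∃ (S : Finset (IrrCharacter G)) (c : IrrCharacter G → ℤ),
      (∀ χ, χ ∈ S ↔ χ ∈ B ∧ blockHeight 2 B (χ : G → ℂ) = 0) ∧
      (∀ χ ∈ S, Odd (c χ) ∧ (S.card : ℤ) ≤ 2 ^ blockDefect 2 a.2 * c χ) ∧
      ∑ χ ∈ S, c χ ≤ 2 ^ blockDefect 2 a.2 * blockRank 2 a.2 := by
  classical
  set q := blockDefect 2 a.2 with hq
  have hcomm : a.1 ≤ CG a.1 := by
    rw [hay]; exact Subgroup.zpowers_le.2 (hay ▸ self_mem_cg hay)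
  set A := Finset.univ.filter (· ∈ B) with hA
  set S := A.filter (fun χ : IrrCharacter G => blockHeight 2 B (χ : G → ℂ) = 0) with hS
  have hSm : ∀ χ, χ ∈ S ↔ χ ∈ B ∧ blockHeight 2 B (χ : G → ℂ) = 0 := fun χ => by simp [hS, hA]
  haveI : IsCyclic a.1 := by rw [hay]; infer_instance
  letI : CommGroup a.1 := IsCyclic.commGroup
  obtain ⟨j, hj⟩ := hy
  have hcardQ : Nat.card a.1 = 2 ^ j := by rw [hay, Nat.card_zpowers, hj]
  set s : Finset a.1 := Finset.univ.filter (fun u => orderOf u = Nat.card a.1) with hs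
  have hgen : ∀ u ∈ s, (∃ k, orderOf (u : G) = 2 ^ k) ∧ a.1 = Subgroup.zpowers (u : G) := by
    intro u hu
    have hu' : orderOf (u : G) = Nat.card a.1 := by
      rw [Subgroup.orderOf_coe]; exact (Finset.mem_filter.1 hu).2
    refine ⟨⟨j, by rw [hu', hcardQ]⟩, ?_⟩
    exact (Subgroup.eq_of_le_of_card_ge (Subgroup.zpowers_le.2 u.2)
      (by rw [Nat.card_zpowers, hu'])).symm
  have hs0 : 0 < s.card := by
    refine Finset.card_pos.2 ⟨⟨y, (SetLike.ext_iff.1 hay y).2 (Subgroup.mem_zpowers y)⟩, ?_⟩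
    simp only [s, Finset.mem_filter, Finset.mem_univ, true_and, Subgroup.orderOf_mk]
    rw [hay, Nat.card_zpowers]
  have hpow : ∀ u : a.1, ∀ k : ℕ, (Nat.card a.1).Coprime k → (u ^ k ∈ s ↔ u ∈ s) := by
    intro u k hk
    simp only [s, Finset.mem_filter, Finset.mem_univ, true_and]
    rw [((hk.coprime_dvd_left (orderOf_dvd_natCard u))).orderOf_pow]
  set N : IrrCharacter G → IrrCharacter G → a.1 → ℂ :=
    fun χ η u => contrib 2 q a (u : G) χ η with hN
  choose Θ hΘ hΘv using fun χ η : IrrCharacter G => exists_contrib_genChar hM a haB.1.2 hcomm χ η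
  have hrealN : ∀ χ u, conj (N χ χ u) = N χ χ u := fun χ u => by
    obtain ⟨r, -, hr⟩ := contrib_self_nonneg 2 q a (u : G) χ
    simp only [hN, hr, Complex.conj_ofReal]
  -- the averages are odd integers
  have havg : ∀ χ, ∃ c : ℤ, χ ∈ S → Odd c ∧ ∑ u ∈ s, N χ χ u = (s.card : ℂ) * c := by
    intro χ
    by_cases hχ : χ ∈ S
    swap
    · exact ⟨0, fun h => absurd h hχ⟩
    obtain ⟨hχB, h0⟩ := (hSm χ).1 hχ
    obtain ⟨u₀, hu₀⟩ := Finset.card_pos.1 hs0
    obtain ⟨α, β, hα, hβ, hαβ⟩ := hΘ χ χ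
    obtain ⟨m₁, hm₁⟩ := IsChar.one_eq_nat hα
    obtain ⟨m₂, hm₂⟩ := IsChar.one_eq_nat hβ
    set n : ℤ := (m₁ : ℤ) - m₂ with hn
    have h1 : Θ χ χ 1 = n := by rw [hαβ, Pi.sub_apply, hm₁, hm₂, hn]; push_cast; ring
    have hord : ∃ k, orderOf u₀ = 2 ^ k := ⟨j, by rw [(Finset.mem_filter.1 hu₀).2, hcardQ]⟩
    have hodd : Odd n := by
      rw [← Int.not_even_iff_odd, even_iff_two_dvd]
      intro hdvd
      have hni : MemLocalIdeal M ((n : ℤ) : ℂ) :=
        (ideal_intCast_iff hM n).2 (by exact_mod_cast hdvd)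
      have hd : MemLocalIdeal M (Θ χ χ u₀ - (n : ℂ)) := by
        have ha := (ideal_coe_iff hM _).2 (IsChar.sub_degree_mem hα hM hord)
        have hb := (ideal_coe_iff hM _).2 (IsChar.sub_degree_mem hβ hM hord)
        have hab := ideal_sub hM ha hb
        rw [← h1, hαβ]
        simp only [Pi.sub_apply]
        convert hab using 1
        simp only [AddSubgroupClass.coe_sub]
        ring
      refine (contrib_sub hM (hgen u₀ hu₀).1 (hgen u₀ hu₀).2 haB χ χ).2 hχB hχB h0 h0 ?_
      rw [← hΘv χ χ u₀]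
      simpa using ideal_add hM hd hni
    obtain ⟨c, hc, hsum⟩ := exists_odd_average (θ := Θ χ χ) hcardQ (hΘ χ χ)
      (fun g => by rw [hΘv]; exact hrealN χ g) h1 hodd
    refine ⟨c, fun _ => ⟨hc, ?_⟩⟩
    rw [← hsum]
    exact Finset.sum_congr (by ext; simp [s]) fun u _ => (hΘv χ χ u).symm
  choose c hc using havg
  have hC0 : (Nat.card (CG a.1) : ℂ) ≠ 0 := Nat.cast_ne_zero.2 Nat.card_pos.ne'
  have hsq : ∀ χ, ∀ u ∈ s, ((∑ η ∈ A, Complex.normSq (N χ η u) : ℝ) : ℂ) = 2 ^ q * N χ χ u := by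
    intro χ u hu
    obtain ⟨hup, hua⟩ := hgen u hu
    push_cast
    simp only [← Complex.mul_conj]
    simp only [hN, contrib, map_div₀, map_mul, map_pow, map_natCast, Nat.cast_ofNat]
    calc _ = ((2 : ℂ) ^ (2 * q) / (Nat.card (CG a.1) : ℂ) ^ 2) *
          ∑ η ∈ A, secT 2 (χ : G → ℂ) (η : G → ℂ) a (u : G) *
            conj (secT 2 (χ : G → ℂ) (η : G → ℂ) a (u : G)) := by
          rw [Finset.mul_sum]
          refine Finset.sum_congr rfl fun η _ => ?_
          simp only [map_ofNat]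
          field_simp
          ring
      _ = _ := by
          rw [sum_secT_sq hM hup hua haB χ]
          field_simp
          ring
  have hdiag : ∀ u ∈ s, ∑ χ ∈ A, N χ χ u = ((2 ^ q * blockRank 2 a.2 : ℕ) : ℂ) := by
    intro u hu
    obtain ⟨hup, hua⟩ := hgen u hu
    simp only [hN, contrib, ← Finset.mul_sum, ← Finset.sum_div]
    rw [sum_sct_sq hM hup hua haB]
    push_cast
    field_simp
  refine ⟨S, c, hSm, fun χ hχ => ⟨(hc χ hχ).1, ?_⟩, ?_⟩
  · obtain ⟨hχB, h0⟩ := (hSm χ).1 hχ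
    have hlow : ∀ η ∈ S, (s.card : ℝ) ≤ ∑ u ∈ s, Complex.normSq (N χ η u) := by
      intro η hη
      obtain ⟨hηB, hη0⟩ := (hSm η).1 hη
      have hne : ∀ u ∈ s, Θ χ η u ≠ 0 := fun u hu hz => by
        refine (contrib_sub hM (hgen u hu).1 (hgen u hu).2 haB χ η).2 hχB hηB h0 hη0 ?_
        rw [← hΘv χ η u, hz]
        exact ideal_zero hM
      obtain ⟨z, hz⟩ := IsGenChar.exists_int_prod (hΘ χ η) s
        (fun u hu => (Finset.mem_filter.1 hu).2) hpow
      have hz0 : z ≠ 0 := fun h => by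
        rw [h, Int.cast_zero] at hz
        exact Finset.prod_ne_zero_iff.2 hne hz
      refine card_le_sum_of_one_le_prod s _ (fun u hu => Complex.normSq_pos.2 (by
        show contrib 2 q a (u : G) χ η ≠ 0
        rw [← hΘv χ η u]; exact hne u hu)) ?_
      rw [← map_prod Complex.normSq, Finset.prod_congr rfl fun u _ => (hΘv χ η u).symm, hz,
        Complex.normSq_intCast, ← sq]
      have h2 : (1 : ℤ) ≤ z ^ 2 := sq_pos_of_ne_zero hz0
      exact_mod_cast h2
    have htotal : ((∑ η ∈ A, ∑ u ∈ s, Complex.normSq (N χ η u) : ℝ) : ℂ) =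
        (((2 : ℝ) ^ q * (s.card * (c χ : ℝ)) : ℝ) : ℂ) := by
      rw [Finset.sum_comm, Complex.ofReal_sum, Finset.sum_congr rfl (hsq χ), ← Finset.mul_sum,
        (hc χ hχ).2]
      push_cast
      ring
    have h : (s.card : ℝ) * (S.card : ℝ) ≤ (s.card : ℝ) * ((2 : ℝ) ^ q * (c χ : ℝ)) := by
      calc (s.card : ℝ) * (S.card : ℝ) = ∑ η ∈ S, (s.card : ℝ) := by
            rw [Finset.sum_const, nsmul_eq_mul]; ring
        _ ≤ ∑ η ∈ S, ∑ u ∈ s, Complex.normSq (N χ η u) := Finset.sum_le_sum hlow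
        _ ≤ ∑ η ∈ A, ∑ u ∈ s, Complex.normSq (N χ η u) :=
            Finset.sum_le_sum_of_subset_of_nonneg (Finset.filter_subset _ _)
              fun η _ _ => Finset.sum_nonneg fun u _ => Complex.normSq_nonneg _
        _ = _ := by rw [Complex.ofReal_inj.1 htotal]; ring
    exact_mod_cast le_of_mul_le_mul_left h (Nat.cast_pos.2 hs0)
  · choose r hr0 hr using fun (χ : IrrCharacter G) (u : a.1) =>
      contrib_self_nonneg 2 q a (u : G) χ
    have hr1 : ∀ χ ∈ S, ∑ u ∈ s, r χ u = (s.card : ℝ) * (c χ : ℝ) := fun χ hχ => by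
      refine Complex.ofReal_inj.1 ?_
      push_cast
      rw [← (hc χ hχ).2]
      exact Finset.sum_congr rfl fun u _ => (hr χ u).symm
    have hr2 : ∀ u ∈ s, ∑ χ ∈ A, r χ u = (2 : ℝ) ^ q * (blockRank 2 a.2 : ℝ) := fun u hu => by
      refine Complex.ofReal_inj.1 ?_
      push_cast
      rw [Finset.sum_congr rfl fun χ _ => (hr χ u).symm]
      exact (hdiag u hu).trans (by push_cast; ring)
    have h : (s.card : ℝ) * ((∑ χ ∈ S, c χ : ℤ) : ℝ) ≤
        (s.card : ℝ) * ((2 : ℝ) ^ q * (blockRank 2 a.2 : ℝ)) := by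
      calc (s.card : ℝ) * ((∑ χ ∈ S, c χ : ℤ) : ℝ) = ∑ χ ∈ S, ∑ u ∈ s, r χ u := by
            rw [Finset.sum_congr rfl hr1]; push_cast; rw [Finset.mul_sum]
        _ ≤ ∑ χ ∈ A, ∑ u ∈ s, r χ u :=
            Finset.sum_le_sum_of_subset_of_nonneg (Finset.filter_subset _ _)
              fun χ _ _ => Finset.sum_nonneg fun u _ => hr0 χ u
        _ = _ := by
            rw [Finset.sum_comm, Finset.sum_congr rfl hr2, Finset.sum_const, nsmul_eq_mul]
    exact_mod_cast le_of_mul_le_mul_left h (Nat.cast_pos.2 hs0)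

/-- The bound in terms of the square root of the rank. -/
theorem height_zero_count (hM : IsPModular 2 M) {a : BrauerPairIdx G} {y : G}
    (hy : ∃ k, orderOf y = 2 ^ k) (hay : a.1 = Subgroup.zpowers y) (haB : OfB 2 M B a) :
    (Odd (Nat.sqrt (blockRank 2 a.2)) →
      Nat.card {χ : IrrCharacter G // χ ∈ B ∧ blockHeight 2 B (χ : G → ℂ) = 0} ≤
        Nat.sqrt (blockRank 2 a.2) * 2 ^ blockDefect 2 a.2) ∧
    (¬ Odd (Nat.sqrt (blockRank 2 a.2)) → (Nat.sqrt (blockRank 2 a.2) + 1) *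
      Nat.card {χ : IrrCharacter G // χ ∈ B ∧ blockHeight 2 B (χ : G → ℂ) = 0} ≤
        blockRank 2 a.2 * 2 ^ blockDefect 2 a.2) := by
  classical
  obtain ⟨S, c, hS, hc, hsum⟩ := height_zero_bound hM hy hay haB
  have hk : Nat.card {χ : IrrCharacter G // χ ∈ B ∧ blockHeight 2 B (χ : G → ℂ) = 0} = S.card := by
    rw [Nat.card_eq_fintype_card]
    exact Fintype.card_of_subtype S hS
  rw [hk]
  set l := blockRank 2 a.2
  set s := Nat.sqrt l
  set T : ℤ := 2 ^ blockDefect 2 a.2 with hT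
  have hTp : 0 < T := by positivity
  have hlo : (s : ℤ) * s ≤ l := by exact_mod_cast Nat.sqrt_le l
  have hhi : (l : ℤ) + 1 ≤ ((s : ℤ) + 1) * ((s : ℤ) + 1) := by exact_mod_cast Nat.lt_succ_sqrt l
  constructor
  · intro hodd
    suffices h : (S.card : ℤ) ≤ (s : ℤ) * T by rw [hT] at h; exact_mod_cast h
    by_cases h : ∃ χ ∈ S, c χ ≤ s
    · obtain ⟨χ, hχ, hle⟩ := h
      exact (hc χ hχ).2.trans (by nlinarith)
    · push Not at h
      have hge : ∀ χ ∈ S, ((s : ℤ) + 2) ≤ c χ := fun χ hχ => by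
        have h1 := h χ hχ
        obtain ⟨w, hw⟩ := (hc χ hχ).1
        obtain ⟨v, hv⟩ := hodd
        omega
      have h2 : (S.card : ℤ) * ((s : ℤ) + 2) ≤ T * l := by
        refine le_trans ?_ hsum
        calc (S.card : ℤ) * ((s : ℤ) + 2) = ∑ _χ ∈ S, ((s : ℤ) + 2) := by
              rw [Finset.sum_const, nsmul_eq_mul]
          _ ≤ _ := Finset.sum_le_sum hge
      refine le_of_mul_le_mul_right (a := (s : ℤ) + 2) (h2.trans ?_) (by positivity)
      nlinarith
  · intro heven
    suffices h : ((s : ℤ) + 1) * (S.card : ℤ) ≤ (l : ℤ) * T by rw [hT] at h; exact_mod_cast h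
    by_cases h : ∃ χ ∈ S, c χ ≤ s
    · obtain ⟨χ, hχ, hle⟩ := h
      have hle' : c χ + 1 ≤ (s : ℤ) := by
        obtain ⟨w, hw⟩ := (hc χ hχ).1
        obtain ⟨v, hv⟩ := Nat.not_odd_iff_even.1 heven
        omega
      calc ((s : ℤ) + 1) * (S.card : ℤ) ≤ ((s : ℤ) + 1) * (T * c χ) :=
            mul_le_mul_of_nonneg_left (hc χ hχ).2 (by positivity)
        _ ≤ ((s : ℤ) + 1) * (T * ((s : ℤ) - 1)) := mul_le_mul_of_nonneg_left
            (mul_le_mul_of_nonneg_left (by omega) hTp.le) (by positivity)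
        _ ≤ _ := by nlinarith
    · push Not at h
      calc ((s : ℤ) + 1) * (S.card : ℤ) = ∑ _χ ∈ S, ((s : ℤ) + 1) := by
            rw [Finset.sum_const, nsmul_eq_mul]; ring
        _ ≤ ∑ χ ∈ S, c χ := Finset.sum_le_sum fun χ hχ => h χ hχ
        _ ≤ _ := hsum.trans_eq (mul_comm _ _)

end Cfsg.Agent.Char.Spec
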