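import Cfsg.Agent.Lib.Char.DihBlockCount
import Cfsg.Agent.Lib.Char.SubsectionBound

/-!
The integral columns and the averaged rotation column of a 2-block with dihedral defect group, and
the numbers of characters.
-/

open scoped ComplexConjugate

namespace Cfsg.Agent.Char.DihBlk

open Cfsg Cfsg.Agent.Block Cfsg.Agent.Char Cfsg.Agent.Char.BP Cfsg.Agent.Char.Spec

set_option linter.unusedSectionVars false
set_option linter.style.haveILetI false
set_option maxHeartbeats 800000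

universe u

theorem square_pattern {ι : Type*} [DecidableEq ι] (A H : Finset ι) (hH : H ⊆ A) (h4 : H.card = 4)
    (f : ι → ℕ) (hodd : ∀ i ∈ H, Odd (f i)) (heven : ∀ i ∈ A, i ∉ H → Even (f i) ∧ f i ≠ 0) {m : ℕ}
    (hsum : ∑ i ∈ A, f i ^ 2 = 4 * m) (hlow : m + 1 ≤ A.card) :
    (A.card = m + 3 ∧ (∀ i ∈ H, f i = 1) ∧ ∀ i ∈ A, i ∉ H → f i = 2) ∨
      (A.card = m + 1 ∧ (∀ i ∈ A, i ∉ H → f i = 2) ∧
        ∃ ρ ∈ H, f ρ = 3 ∧ ∀ i ∈ H, i ≠ ρ → f i = 1) := by
  have hsplit := Finset.sum_sdiff hH (f := fun i => f i ^ 2)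
  have hcard := Finset.card_sdiff_add_card_eq_card hH
  have he : ∀ i ∈ A \ H, f i ^ 2 = 4 + (f i ^ 2 - 4) ∧ (f i ≠ 2 → 12 ≤ f i ^ 2 - 4) := by
    intro i hi
    obtain ⟨⟨c, hc⟩, h0⟩ := heven i (Finset.mem_sdiff.1 hi).1 (Finset.mem_sdiff.1 hi).2
    have h1 : 4 ≤ f i ^ 2 := by
      calc 4 = 2 ^ 2 := by norm_num
        _ ≤ f i ^ 2 := Nat.pow_le_pow_left (by omega) 2
    refine ⟨by omega, fun h2 => ?_⟩
    have h3 : 4 ^ 2 ≤ f i ^ 2 := Nat.pow_le_pow_left (by omega) 2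
    omega
  have ho : ∀ i ∈ H, f i ^ 2 = 1 + (f i ^ 2 - 1) ∧ (f i ≠ 1 → 8 ≤ f i ^ 2 - 1) ∧
      (f i ≠ 1 → f i ≠ 3 → 24 ≤ f i ^ 2 - 1) := by
    intro i hi
    obtain ⟨c, hc⟩ := hodd i hi
    have h1 : 1 ^ 2 ≤ f i ^ 2 := Nat.pow_le_pow_left (by omega) 2
    refine ⟨by omega, fun h2 => ?_, fun h2 h3 => ?_⟩
    · have : 3 ^ 2 ≤ f i ^ 2 := Nat.pow_le_pow_left (by omega) 2
      omega
    · have : 5 ^ 2 ≤ f i ^ 2 := Nat.pow_le_pow_left (by omega) 2
      omega
  rw [Finset.sum_congr rfl fun i hi => (he i hi).1, Finset.sum_congr rfl fun i hi => (ho i hi).1,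
    Finset.sum_add_distrib, Finset.sum_add_distrib, hsum] at hsplit
  simp only [Finset.sum_const, smul_eq_mul] at hsplit
  have hE : ∀ i ∈ A \ H, f i = 2 := fun i hi => by
    by_contra h2
    have h3 := ((he i hi).2 h2).trans (Finset.single_le_sum (f := fun i => f i ^ 2 - 4)
      (fun _ _ => Nat.zero_le _) hi)
    omega
  rw [Finset.sum_eq_zero (s := A \ H) (f := fun i => f i ^ 2 - 4) fun i hi => by
    rw [hE i hi]; rfl] at hsplit
  have hH3 : ∀ i ∈ H, f i = 1 ∨ f i = 3 := fun i hi => by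
    by_contra h2
    push Not at h2
    have h3 := ((ho i hi).2.2 h2.1 h2.2).trans (Finset.single_le_sum (f := fun i => f i ^ 2 - 1)
      (fun _ _ => Nat.zero_le _) hi)
    omega
  have hcnt : ∑ i ∈ H, (f i ^ 2 - 1) = 8 * (H.filter (fun i => f i = 3)).card := by
    rw [mul_comm, ← smul_eq_mul, ← Finset.sum_const, Finset.sum_filter]
    refine Finset.sum_congr rfl fun i hi => ?_
    rcases hH3 i hi with h | h <;> simp [h]
  rw [hcnt] at hsplit
  have hcase : (H.filter (fun i => f i = 3)).card = 0 ∨ (H.filter (fun i => f i = 3)).card = 1 := by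
    omega
  rcases hcase with h | h
  · refine Or.inl ⟨by omega, fun i hi => (hH3 i hi).resolve_right fun h3 => ?_,
      fun i hi hn => hE i (Finset.mem_sdiff.2 ⟨hi, hn⟩)⟩
    exact Finset.notMem_empty i (Finset.card_eq_zero.1 h ▸ Finset.mem_filter.2 ⟨hi, h3⟩)
  · obtain ⟨ρ, hρ⟩ := Finset.card_eq_one.1 h
    have hρH := Finset.mem_filter.1 (hρ ▸ Finset.mem_singleton_self ρ)
    refine Or.inr ⟨by omega, fun i hi hn => hE i (Finset.mem_sdiff.2 ⟨hi, hn⟩), ρ, hρH.1, hρH.2,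
      fun i hi hne => (hH3 i hi).resolve_right fun h3 => hne ?_⟩
    exact Finset.mem_singleton.1 (hρ ▸ Finset.mem_filter.2 ⟨hi, h3⟩)

variable {G : Type u} [Group G] [Fintype G] {M : Ideal AlgInt} {B : Set (IrrCharacter G)}
variable {P : Subgroup G} {e : Set (IrrCharacter (CG P))} {r : G} {t : ℕ}

theorem One.col_genChar' {p : ℕ} [Fact p.Prime] {a : BrauerPairIdx G} (o : One p a)
    (hcomm : a.1 ≤ CG a.1) {Q : Subgroup G} (hQ : a.1 = Q) (χ : IrrCharacter G) :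
    IsGeneralizedCharacter Q (fun u : Q => o.col χ (u : G)) := by
  subst hQ; exact o.col_genChar hcomm χ

theorem One.col_int {p : ℕ} [Fact p.Prime] {a : BrauerPairIdx G} (o : One p a)
    (hcomm : a.1 ≤ CG a.1) (χ : IrrCharacter G) {u : G} (hu : u ∈ a.1) (huu : u * u = 1) :
    ∃ z : ℤ, o.col χ u = z := by
  refine IsGenChar.exists_int_of_fixed (o.col_genChar hcomm χ) ⟨u, hu⟩ fun k hk => ?_
  show o.col χ (((⟨u, hu⟩ : a.1) ^ k : a.1) : G) = o.col χ u
  congr 1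
  show u ^ k = u
  by_cases hu1 : u = 1
  · rw [hu1, one_pow]
  have ho : orderOf u = 2 := orderOf_eq_prime (by rw [pow_two, huu]) hu1
  rw [Subgroup.orderOf_mk, ho] at hk
  obtain ⟨c, hc⟩ := Nat.coprime_two_right.1 hk
  rw [hc, pow_succ, pow_mul, pow_two, huu, one_pow, one_mul]

namespace Setup

variable (S : Setup M B P e r t)

/-- An integral column at a central power of the rotation. -/
theorem exists_major_col {i : ℕ} (hc : ∀ w ∈ P, w * r ^ i = r ^ i * w)
    (hii : r ^ i * r ^ i = 1) (o : One 2 (S.rot i)) [DecidablePred (· ∈ B)] :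
    ∃ c : IrrCharacter G → ℤ, (∀ χ, o.col χ (r ^ i) = c χ) ∧
      (∑ χ ∈ Finset.univ.filter (· ∈ B), (c χ).natAbs ^ 2 = 4 * 2 ^ t) ∧
      ∀ χ ∈ B, c χ ≠ 0 ∧ (Odd (c χ).natAbs ↔ blockHeight 2 B (χ : G → ℂ) = 0) ∧
        ((c χ).natAbs = 2 → blockHeight 2 B (χ : G → ℂ) = 1) := by
  have hu : ∃ k, orderOf (r ^ i) = 2 ^ k := S.ppow_mem (S.dh.pow_mem' i)
  have hcomm := One.comm_of_gen (S.rot_fst i)
  choose c hc' using fun χ : IrrCharacter G => o.col_int hcomm χ
    (S.rot_fst i ▸ Subgroup.mem_zpowers (r ^ i)) hii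
  have hd : blockDefect 2 (S.rot i).2 = blockDefect 2 B := by
    rw [S.defect, S.defect_major (S.rot_fst i) hc (S.rot_le i)]
  refine ⟨c, hc', ?_, fun χ hχ => ?_⟩
  · have h := o.norm S.hM hu (S.rot_fst i) (S.rot_ofB i)
    rw [hd, S.defect] at h
    have h2 : ((∑ χ ∈ Finset.univ.filter (· ∈ B), (c χ).natAbs ^ 2 : ℕ) : ℂ) =
        ((4 * 2 ^ t : ℕ) : ℂ) := by
      rw [Nat.cast_sum]
      refine Eq.trans (Finset.sum_congr rfl fun χ _ => ?_) (h.trans (by push_cast; ring))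
      rw [hc' χ, map_intCast, ← Int.cast_mul, ← Int.natAbs_mul_self, Int.cast_natCast, pow_two]
    exact Nat.cast_injective h2
  · obtain ⟨h1, h2⟩ := o.major S.hM hu (S.rot_fst i) (S.rot_ofB i) hd hc' hχ
    simp only [Nat.cast_ofNat] at h1 h2
    have h0 : c χ ≠ 0 := fun h => h2 (h ▸ dvd_zero _)
    refine ⟨h0, ?_, fun h3 => ?_⟩
    · rw [Int.natAbs_odd, ← Int.not_even_iff_odd, even_iff_two_dvd]
      constructor
      · intro hodd
        by_contra hh
        exact hodd (dvd_trans (dvd_pow_self 2 hh) h1)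
      · intro hh hdvd
        rw [hh, zero_add, pow_one] at h2
        exact h2 hdvd
    · have h4 : ∀ k : ℕ, (2 : ℤ) ^ k ∣ c χ ↔ 2 ^ k ∣ 2 := fun k => by
        rw [show (2 : ℤ) ^ k = ((2 ^ k : ℕ) : ℤ) by push_cast; rfl, Int.natCast_dvd, h3]
      rw [h4] at h1 h2
      have h5 := Nat.le_of_dvd two_pos h1
      rcases hb : blockHeight 2 B (χ : G → ℂ) with _ | _ | k
      · rw [hb] at h2; exact absurd (by norm_num) h2
      · rfl
      · exfalso
        rw [hb] at h5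
        have : 2 ^ 2 ≤ 2 ^ (k + 1 + 1) := Nat.pow_le_pow_right two_pos (by omega)
        omega

/-- The generators of the rotation group. -/
def gen (_S : Setup M B P e r t) (i : ℕ) : G := r ^ (2 * i + 1)

theorem gen_mem (i : ℕ) : S.gen i ∈ (S.rot 1).1 := by
  rw [S.rot_fst, pow_one]; exact pow_mem (Subgroup.mem_zpowers r) _

theorem rot_gen (i : ℕ) : (S.rot 1).1 = Subgroup.zpowers (S.gen i) := by
  rw [S.rot_fst, pow_one, gen, S.dh.zpowers_pow_eq ⟨i, rfl⟩]

theorem gen_order (i : ℕ) : orderOf (S.gen i) = 2 ^ (t + 1) := by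
  rw [← S.dh.order, ← Nat.card_zpowers, ← S.rot_gen, S.rot_fst, pow_one, Nat.card_zpowers]

theorem gen_inv {i : ℕ} (hi : i < 2 ^ t) : S.gen (2 ^ t - 1 - i) = (S.gen i)⁻¹ := by
  refine eq_inv_of_mul_eq_one_left ?_
  show r ^ (2 * (2 ^ t - 1 - i) + 1) * r ^ (2 * i + 1) = 1
  rw [← pow_add, show 2 * (2 ^ t - 1 - i) + 1 + (2 * i + 1) = 2 ^ (t + 1) by
    rw [pow_succ]; omega, ← S.dh.order, pow_orderOf_eq_one]

theorem gen_inj {i j : ℕ} (hi : i < 2 ^ t) (hj : j < 2 ^ t) (h : S.gen i = S.gen j) : i = j := by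
  have := pow_injOn_Iio_orderOf (x := r)
    (Set.mem_Iio.2 (show 2 * i + 1 < orderOf r by rw [S.dh.order, pow_succ]; omega))
    (Set.mem_Iio.2 (show 2 * j + 1 < orderOf r by rw [S.dh.order, pow_succ]; omega)) h
  omega

include S in
theorem two_le : 2 ≤ 2 ^ t := by
  calc 2 = 2 ^ 1 := (pow_one 2).symm
    _ ≤ 2 ^ t := Nat.pow_le_pow_right two_pos S.dh.pos

theorem gen_sq (i : ℕ) : S.gen i * S.gen i ≠ 1 := by
  intro h
  have h1 := Nat.le_of_dvd two_pos (orderOf_dvd_of_pow_eq_one (x := S.gen i) (n := 2) (by rw [pow_two]; exact h))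
  rw [S.gen_order, pow_succ] at h1
  have := S.two_le
  omega

theorem col_inv (o : One 2 (S.rot 1)) (χ : IrrCharacter G) {u : G} (hu : u ∈ Subgroup.zpowers r) :
    o.col χ u⁻¹ = o.col χ u := by
  obtain ⟨s, hs, hsr⟩ := S.dh.exists_refl
  obtain ⟨j, rfl⟩ := (isOfFinOrder_of_finite r).mem_powers_iff_mem_zpowers.2 hu
  have hrot : cjI s (S.rot 1) = S.rot 1 := by
    refine le_unique S.hM ?_ (S.rot_le 1) ?_
    · have h := le_cjI S.hM s (S.rot_le 1)
      rwa [cjI_self (a := (⟨P, e⟩ : BrauerPairIdx G)) hs] at h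
    · show (S.rot 1).1.map (MulAut.conj s).toMonoidHom = _
      rw [S.rot_fst, pow_one, MonoidHom.map_zpowers]
      show Subgroup.zpowers (s * r * s⁻¹) = _
      rw [(S.dh.refl s hs hsr).2, Subgroup.zpowers_inv]
  have h := sct_conj (irr_classFun χ) (S.rot 1) s (r ^ j) 1
  rw [hrot, S.dh.refl_pow hs hsr, mul_one, mul_inv_cancel] at h
  simp only [One.col]
  rw [h]

theorem col_real (o : One 2 (S.rot 1)) (χ : IrrCharacter G) {u : G} (hu : u ∈ Subgroup.zpowers r) :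
    conj (o.col χ u) = o.col χ u := by
  rw [o.conj_col (One.comm_of_gen (S.rot_fst 1)) χ (by rw [S.rot_fst, pow_one]; exact hu),
    S.col_inv o χ hu]

theorem gen_mem' (i : ℕ) : S.gen i ∈ Subgroup.zpowers r := pow_mem (Subgroup.mem_zpowers r) _

theorem gen_defect : blockDefect 2 (S.rot 1).2 = t + 1 :=
  S.defect_rotation (S.gen_mem' 0) (S.gen_sq 0) (S.rot_gen 0) (S.rot_le 1)

/-- The sum of the column over the generators of the rotation group. -/
noncomputable def w (o : One 2 (S.rot 1)) (χ : IrrCharacter G) : ℂ :=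
  ∑ i ∈ Finset.range (2 ^ t), o.col χ (S.gen i)

theorem w_real (o : One 2 (S.rot 1)) (χ : IrrCharacter G) : conj (S.w o χ) = S.w o χ := by
  rw [w, map_sum]
  exact Finset.sum_congr rfl fun i _ => S.col_real o χ (S.gen_mem' i)

theorem w_norm (o : One 2 (S.rot 1)) [DecidablePred (· ∈ B)] :
    ∑ χ ∈ Finset.univ.filter (· ∈ B), S.w o χ * conj (S.w o χ) =
      4 * ((2 : ℂ) ^ t) ^ 2 := by
  classical
  have hu : ∀ i, ∃ k, orderOf (S.gen i) = 2 ^ k := fun i => ⟨t + 1, S.gen_order i⟩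
  have hn : ∀ i, ∑ χ ∈ Finset.univ.filter (· ∈ B),
      o.col χ (S.gen i) * conj (o.col χ (S.gen i)) = 2 * (2 : ℂ) ^ t := fun i => by
    rw [o.norm S.hM (hu i) (S.rot_gen i) (S.rot_ofB 1), S.gen_defect, pow_succ']
    norm_num
  have hI : ∀ i ∈ Finset.range (2 ^ t), ∀ j ∈ Finset.range (2 ^ t),
      ∑ χ ∈ Finset.univ.filter (· ∈ B), o.col χ (S.gen i) * conj (o.col χ (S.gen j)) =
        (if j = i then 2 * (2 : ℂ) ^ t else 0) +
          (if j = 2 ^ t - 1 - i then 2 * (2 : ℂ) ^ t else 0) := by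
    intro i hi j hj
    rw [Finset.mem_range] at hi hj
    have htwo : 2 ∣ 2 ^ t := dvd_pow_self 2 (by have := S.dh.pos; omega)
    have hne : i ≠ 2 ^ t - 1 - i := by omega
    by_cases h1 : j = i
    · subst h1
      rw [if_pos rfl, if_neg hne, add_zero, hn]
    by_cases h2 : j = 2 ^ t - 1 - i
    · subst h2
      rw [if_neg h1, if_pos rfl, zero_add, S.gen_inv hi, ← hn i]
      exact Finset.sum_congr rfl fun χ _ => by rw [S.col_inv o χ (S.gen_mem' i)]
    rw [if_neg h1, if_neg h2, add_zero]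
    have h := sum_sct_cross (B := B) S.hM (hu i) (hu j) (S.rot_gen i) (S.rot_gen j) (S.rot_ofB 1)
      (S.rot_ofB 1) (fun g hg he => ?_) (one_mem _) (by simp) (one_mem _) (by simp)
    · simp only [o.sct_one, map_mul, map_natCast] at h
      have h3 : (∑ χ ∈ Finset.univ.filter (· ∈ B), o.col χ (S.gen i) * conj (o.col χ (S.gen j))) *
          ((o.g0 : ℂ) * o.g0) = 0 := by
        rw [Finset.sum_mul, ← h]
        exact Finset.sum_congr rfl fun χ _ => by ring
      exact (mul_eq_zero.1 h3).resolve_right (mul_ne_zero o.g0_ne o.g0_ne)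
    · rcases S.rotation_fusion (S.gen_mem' i) (hg ▸ S.gen_mem' j) (S.rot_gen i) (S.rot_le 1)
        (S.rot_le 1) he with h | h <;> rw [hg] at h
      · exact h1 (S.gen_inj hj hi h)
      · rw [← S.gen_inv hi] at h
        exact h2 (S.gen_inj hj (by omega) h)
  simp only [w, map_sum, Finset.sum_mul, Finset.mul_sum]
  rw [Finset.sum_comm]
  refine Eq.trans (Finset.sum_congr rfl (g := fun _ => 4 * (2 : ℂ) ^ t) fun i hi => ?_) ?_
  · rw [Finset.sum_comm]
    refine Eq.trans (Finset.sum_congr rfl (g := fun x =>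
      (if x = i then 2 * (2 : ℂ) ^ t else 0) +
        (if x = 2 ^ t - 1 - i then 2 * (2 : ℂ) ^ t else 0)) fun x hx => ?_) ?_
    · rw [hI x hx i hi]
      have := Finset.mem_range.1 hx
      have := Finset.mem_range.1 hi
      exact congrArg₂ (· + ·) (if_congr eq_comm rfl rfl)
        (if_congr ⟨fun h => by omega, fun h => by omega⟩ rfl rfl)
    rw [Finset.sum_add_distrib, Finset.sum_ite_eq', Finset.sum_ite_eq', if_pos hi,
      if_pos (Finset.mem_range.2 (by have := Finset.mem_range.1 hi; omega))]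
    ring
  · rw [Finset.sum_const, Finset.card_range, nsmul_eq_mul]
    push_cast
    ring

theorem w_height_zero (o : One 2 (S.rot 1)) {χ : IrrCharacter G} (hχ : χ ∈ B)
    (h0 : blockHeight 2 B (χ : G → ℂ) = 0) :
    ∃ c : ℤ, Odd c ∧ S.w o χ = (2 : ℂ) ^ t * c := by
  classical
  haveI : Fintype (Subgroup.zpowers r) := Fintype.ofFinite _
  have hQ : (S.rot 1).1 = Subgroup.zpowers r := by rw [S.rot_fst, pow_one]
  have hcomm := One.comm_of_gen (S.rot_fst 1)
  obtain ⟨z, hz⟩ := o.col_one_int hcomm χ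
  have hzodd : Odd z := by
    rw [← Int.not_even_iff_odd, even_iff_two_dvd]
    intro hd
    refine o.unit S.hM ⟨t + 1, S.gen_order 0⟩ (S.rot_gen 0) (S.rot_ofB 1) hχ h0 ?_
    rw [ideal_congr S.hM (o.col_sub_one S.hM hcomm χ (S.gen_mem 0) ⟨t + 1, S.gen_order 0⟩), hz,
      ideal_intCast_iff S.hM]
    exact_mod_cast hd
  letI : CommGroup (Subgroup.zpowers r) := IsCyclic.commGroup
  have hcard : Nat.card (Subgroup.zpowers r) = 2 ^ (t + 1) := by
    rw [Nat.card_zpowers, S.dh.order]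
  obtain ⟨c, hc, hsum⟩ := exists_odd_average (Q := Subgroup.zpowers r) hcard
    (o.col_genChar' hcomm hQ χ) (fun g => S.col_real o χ g.2) (n := z) hz hzodd
  refine ⟨c, hc, ?_⟩
  have hbij : ∀ F : G → ℂ, ∑ i ∈ Finset.range (2 ^ t), F (S.gen i) =
      ∑ u ∈ Finset.univ.filter
        (fun u : Subgroup.zpowers r => orderOf u = Nat.card (Subgroup.zpowers r)), F (u : G) := by
    intro F
    refine Finset.sum_bij (fun i _ => (⟨S.gen i, S.gen_mem' i⟩ : Subgroup.zpowers r))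
      (fun i _ => Finset.mem_filter.2 ⟨Finset.mem_univ _,
        by rw [Subgroup.orderOf_mk, S.gen_order, hcard]⟩)
      (fun i hi j hj h => S.gen_inj (Finset.mem_range.1 hi) (Finset.mem_range.1 hj)
        (congrArg Subtype.val h)) (fun u hu => ?_) fun _ _ => rfl
    obtain ⟨v, hv⟩ := u
    obtain ⟨k, hk, rfl⟩ := (isOfFinOrder_of_finite r).mem_zpowers_iff_mem_range_orderOf.1 hv |>
      Finset.mem_image.1
    rw [Finset.mem_filter, Subgroup.orderOf_mk, hcard] at hu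
    rw [Finset.mem_range, S.dh.order, pow_succ] at hk
    rcases Nat.even_or_odd k with ⟨j, rfl⟩ | ⟨j, rfl⟩
    · exfalso
      have h1 : (r ^ (j + j)) ^ 2 ^ t = 1 := by
        rw [← pow_mul, show (j + j) * 2 ^ t = 2 ^ (t + 1) * j by ring, pow_mul, ← S.dh.order,
          pow_orderOf_eq_one, one_pow]
      have h2 := Nat.le_of_dvd (Nat.two_pow_pos t) (orderOf_dvd_of_pow_eq_one h1)
      rw [hu.2, pow_succ] at h2
      have := Nat.two_pow_pos t
      omega
    · exact ⟨j, Finset.mem_range.2 (by omega), rfl⟩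
  rw [w, hbij, hsum, ← Finset.card_map ⟨fun u : Subgroup.zpowers r => (u : G),
    Subtype.coe_injective⟩]
  congr 1
  have h := hbij (fun _ => 1)
  simp only [Finset.sum_const, Finset.card_range, nsmul_eq_mul, mul_one] at h
  rw [Finset.card_map, ← h]
  push_cast
  rfl

include S in
/-- Exactly four members have height zero. -/
theorem height_zero [DecidablePred (· ∈ B)] (o : One 2 (S.rot (2 ^ t))) (o₁ : One 2 (S.rot 1)) :
    ((Finset.univ.filter (· ∈ B)).filter fun χ : IrrCharacter G =>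
        blockHeight 2 B (χ : G → ℂ) = 0).card = 4 ∧
      ∀ χ ∈ B, (blockHeight 2 B (χ : G → ℂ) = 0 →
          ∃ c : ℤ, c.natAbs = 1 ∧ S.w o₁ χ = (2 : ℂ) ^ t * c) ∧
        (blockHeight 2 B (χ : G → ℂ) ≠ 0 → S.w o₁ χ = 0) := by
  classical
  obtain ⟨c, -, hsum, hc⟩ := S.exists_major_col (fun w hw => S.dh.z_central hw)
    (by nth_rw 1 [← S.dh.z_inv]; exact inv_mul_cancel _) o
  set A := Finset.univ.filter (· ∈ B) with hA
  set H := A.filter fun χ : IrrCharacter G => blockHeight 2 B (χ : G → ℂ) = 0 with hH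
  have hmA : ∀ {χ : IrrCharacter G}, χ ∈ A ↔ χ ∈ B := by intro χ; simp [hA]
  have hpos : 1 ≤ H.card := by
    obtain ⟨χ, hχ, h0⟩ := exists_height_zero S.hM S.isBlock
    exact Finset.card_pos.2 ⟨χ, Finset.mem_filter.2 ⟨hmA.2 hχ, h0⟩⟩
  -- modulo four only the members of height zero count
  have hmod : H.card % 4 = 0 := by
    have h1 : ((∑ χ ∈ A, (c χ).natAbs ^ 2 : ℕ) : ZMod 4) = ((H.card : ℕ) : ZMod 4) := by
      rw [hH, Finset.card_filter, Nat.cast_sum, Nat.cast_sum]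
      refine Finset.sum_congr rfl fun χ hχ => ?_
      obtain ⟨-, h2, -⟩ := hc χ (hmA.1 hχ)
      by_cases h0 : blockHeight 2 B (χ : G → ℂ) = 0
      · obtain ⟨j, hj⟩ := h2.2 h0
        rw [if_pos h0, hj]
        push_cast
        rw [add_sq, mul_pow]
        rw [show (2 : ZMod 4) ^ 2 = 0 from rfl, show (2 : ZMod 4) * (2 * (j : ZMod 4)) = 0 by
          rw [← mul_assoc, show (2 : ZMod 4) * 2 = 0 from rfl, zero_mul]]
        simp
      · obtain ⟨j, hj⟩ := (Nat.not_odd_iff_even.1 fun h => h0 (h2.1 h))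
        rw [if_neg h0, hj]
        push_cast
        rw [← two_mul, mul_pow, show (2 : ZMod 4) ^ 2 = 0 from rfl, zero_mul]
    rw [hsum, Nat.cast_mul, show ((4 : ℕ) : ZMod 4) = 0 from rfl, zero_mul, eq_comm,
      ZMod.natCast_eq_zero_iff] at h1
    omega
  choose! cc hcc hw using fun χ (hχ : χ ∈ H) => S.w_height_zero o₁
    (hmA.1 (Finset.mem_filter.1 hχ).1) (Finset.mem_filter.1 hχ).2
  have hnorm := S.w_norm o₁
  rw [← hA] at hnorm
  have hre : ∑ χ ∈ A, Complex.normSq (S.w o₁ χ) = 4 * ((2 : ℝ) ^ t) ^ 2 := by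
    apply Complex.ofReal_injective
    push_cast
    rw [← hnorm]
    exact Finset.sum_congr rfl fun χ _ => (Complex.mul_conj _).symm
  rw [← Finset.sum_filter_add_sum_filter_not A
    (fun χ : IrrCharacter G => blockHeight 2 B (χ : G → ℂ) = 0), ← hH,
    Finset.sum_congr rfl (g := fun χ => ((2 : ℝ) ^ t) ^ 2 * (cc χ : ℝ) ^ 2) fun χ hχ => by
      rw [hw χ hχ, Complex.normSq_mul, Complex.normSq_intCast, map_pow,
        show (Complex.normSq 2 : ℝ) = 2 ^ 2 by simp [Complex.normSq_apply]; norm_num,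
        ← pow_mul, mul_comm 2 t, pow_mul, ← pow_two (cc χ : ℝ)],
    ← Finset.mul_sum] at hre
  have hone : ∀ χ ∈ H, (1 : ℝ) ≤ (cc χ : ℝ) ^ 2 := fun χ hχ => by
    have h := hcc χ hχ
    have : (1 : ℤ) ≤ cc χ ^ 2 := sq_pos_of_ne_zero (fun h0 : cc χ = 0 => by rw [h0] at h; exact absurd h (by decide))
    exact_mod_cast this
  have hm : (0 : ℝ) < ((2 : ℝ) ^ t) ^ 2 := by positivity
  set Q := ∑ x ∈ A.filter (fun χ : IrrCharacter G => ¬ blockHeight 2 B (χ : G → ℂ) = 0),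
    Complex.normSq (S.w o₁ x) with hQ
  have hQ0 : 0 ≤ Q := Finset.sum_nonneg fun _ _ => Complex.normSq_nonneg _
  have hsumle : ∑ χ ∈ H, (cc χ : ℝ) ^ 2 ≤ 4 := by nlinarith
  have hge : (H.card : ℝ) ≤ ∑ χ ∈ H, (cc χ : ℝ) ^ 2 := by
    simpa using Finset.card_nsmul_le_sum H _ 1 hone
  have hle : H.card ≤ 4 := by exact_mod_cast hge.trans hsumle
  have h4 : H.card = 4 := by omega
  have h4' : (H.card : ℝ) = 4 := by exact_mod_cast h4
  have hs4 : ∑ χ ∈ H, (cc χ : ℝ) ^ 2 = 4 := le_antisymm hsumle (by linarith)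
  have hQz : Q = 0 := by rw [hs4] at hre; linarith
  have hall : ∀ χ ∈ H, (cc χ : ℝ) ^ 2 = 1 := by
    have h := (Finset.sum_eq_sum_iff_of_le hone).1
      (show ∑ χ ∈ H, (1 : ℝ) = ∑ χ ∈ H, (cc χ : ℝ) ^ 2 by
        rw [hs4, Finset.sum_const, nsmul_eq_mul, mul_one, h4'])
    exact fun χ hχ => (h χ hχ).symm
  refine ⟨h4, fun χ hχ => ⟨fun h0 => ?_, fun h0 => ?_⟩⟩
  · have hχH : χ ∈ H := Finset.mem_filter.2 ⟨hmA.2 hχ, h0⟩
    refine ⟨cc χ, ?_, hw χ hχH⟩
    have h : cc χ ^ 2 = 1 := by exact_mod_cast hall χ hχH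
    rcases sq_eq_one_iff.1 h with h | h <;> rw [h] <;> rfl
  · exact Complex.normSq_eq_zero.1 ((Finset.sum_eq_zero_iff_of_nonneg
      fun _ _ => Complex.normSq_nonneg _).1 hQz χ (Finset.mem_filter.2 ⟨hmA.2 hχ, h0⟩))

end Setup

end Cfsg.Agent.Char.DihBlk
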