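import Cfsg.Agent.Lib.Char.CycloTwo
import Cfsg.Agent.Lib.Char.SectionOrbit

/-!
The contributions at a major subsection and the heights; Brauer's bound for 2-blocks with a major
subsection of small rank or small corank.
-/

open scoped ComplexConjugate

namespace Cfsg.Agent.Char.Spec

open Cfsg.Agent.Block Cfsg.Agent.Char.BP

set_option linter.unusedSectionVars false
set_option linter.style.haveILetI false
set_option maxHeartbeats 1600000

universe u

variable {G : Type u} [Group G] [Fintype G] {p : ℕ} {M : Ideal AlgInt}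
variable {B : Set (IrrCharacter G)}

/-- In the first argument a contribution is a central element evaluated at the character. -/
theorem exists_contrib_omega [Fact p.Prime] (hM : IsPModular p M) {a : BrauerPairIdx G} {y : G}
    (hay : a.1 = Subgroup.zpowers y) (ha : IsPr p M a) (η : IrrCharacter G) (d : ℕ) :
    ∃ F : IrrCharacter G → ℂ, CenInt M F ∧ ∀ ψ : IrrCharacter G, contrib p d a y ψ η =
      ((charDegree (ψ : G → ℂ) * p ^ d : ℕ) : ℂ) / (Nat.card G : ℂ) * F ψ := by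
  classical
  letI := Fintype.ofFinite (G ⧸ CG a.1)
  letI := Fintype.ofFinite (CG a.1)
  have hya : y ∈ a.1 := (SetLike.ext_iff.1 hay y).2 (Subgroup.mem_zpowers y)
  obtain ⟨c, hcint, hc⟩ := exists_sct_coef (irr_isChar η) (a := a) (self_mem_cg hay) hya
  have hsint : ∀ v ∈ regs p a.1, IsIntegral ℤ (sct (η : G → ℂ) a y v) := fun v hv => by
    rw [show sct (η : G → ℂ) a y v = sct (η : G → ℂ) a y ((⟨v, (mem_regs.1 hv).1⟩ : CG a.1) : G)
      from rfl, hc]
    exact IsIntegral.sum _ fun ξ _ => (hcint ξ).mul (IsChar.isIntegral (irr_isChar ξ) _)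
  set e : G → ℂ := fun g =>
    ∑ v ∈ regs p a.1, conj (sct (η : G → ℂ) a y v) * be a (y⁻¹ * g * v⁻¹) with he
  have hinv : ∀ x ∈ CG a.1, ∀ g, e (x * g * x⁻¹) = e g := by
    intro x hx g
    have hxy : x * y = y * x := (Subgroup.mem_centralizer_iff.1 hx y hya).symm
    refine (Finset.sum_equiv (MulAut.conj x).toEquiv (fun v => ?_) fun v _ => ?_).symm
    · simp only [mem_regs, MulEquiv.toEquiv_eq_coe, MulEquiv.coe_toEquiv]
      rw [MulEquiv.orderOf_eq]
      simp only [MulAut.conj_apply]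
      exact and_congr_left fun _ => ⟨fun h => mul_mem (mul_mem hx h) (inv_mem hx), fun h => by
        have := mul_mem (mul_mem (inv_mem hx) h) hx
        simpa [mul_assoc] using this⟩
    · simp only [MulEquiv.toEquiv_eq_coe, MulEquiv.coe_toEquiv, MulAut.conj_apply]
      have h1 : sct (η : G → ℂ) a y (x * v * x⁻¹) = sct (η : G → ℂ) a y v := by
        have h := sct_conj (irr_classFun η) a x y v
        rwa [cjI_of_mem_cg hx, hxy, mul_inv_cancel_right] at h
      rw [h1]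
      congr 1
      rw [show y⁻¹ * (x * g * x⁻¹) * (x * v * x⁻¹)⁻¹ = x * (y⁻¹ * g * v⁻¹) * x⁻¹ by
        have h2 : y⁻¹ * x = x * y⁻¹ := (Commute.inv_right (show Commute x y from hxy)).eq.symm
        calc y⁻¹ * (x * g * x⁻¹) * (x * v * x⁻¹)⁻¹ = (y⁻¹ * x) * g * v⁻¹ * x⁻¹ := by group
          _ = _ := by rw [h2]; group]
      exact (be_inv_cg a x hx _).symm
  have hr : ∀ g, MemLocalRing M (e g) := fun g => ring_sum hM fun v hv =>
    ring_mul hM (ring_of_integral hM (isIntegral_conj (hsint v hv))) ((be_idem hM ha).1 _)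
  set E : G → ℂ := fun g => ∑ t : G ⧸ CG a.1, e (t.out⁻¹ * g * t.out) with hE
  have hcf : IsClassFunction G E := by
    intro g u
    refine Fintype.sum_equiv (MulAction.toPerm u⁻¹) _ _ fun t => ?_
    obtain ⟨w, hw⟩ := QuotientGroup.mk_out_eq_mul (CG a.1) (u⁻¹ * t.out)
    have e1 : MulAction.toPerm u⁻¹ t = ((u⁻¹ * t.out : G) : G ⧸ CG a.1) := by
      conv_lhs => rw [← QuotientGroup.out_eq' t]
      rfl
    rw [e1, hw]
    have h := hinv (w : G)⁻¹ (inv_mem w.2) ((u⁻¹ * t.out)⁻¹ * g * (u⁻¹ * t.out))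
    rw [inv_inv] at h
    calc e (t.out⁻¹ * (u * g * u⁻¹) * t.out)
        = e ((u⁻¹ * t.out)⁻¹ * g * (u⁻¹ * t.out)) := by congr 1; group
      _ = _ := by rw [← h]; congr 1; group
  refine ⟨fun ψ => omegaFun ψ E, fun g => ?_, fun ψ => ?_⟩
  · rw [coeffFun_omegaFun hcf]
    exact ring_sum hM fun t _ => hr _
  have hsum : ∑ g : G, E g * (ψ : G → ℂ) g =
      ((CG a.1).index : ℂ) * secT p (ψ : G → ℂ) (η : G → ℂ) a y := by
    have h1 : ∑ g : G, e g * (ψ : G → ℂ) g = secT p (ψ : G → ℂ) (η : G → ℂ) a y := by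
      simp only [he, Finset.sum_mul, secT]
      rw [Finset.sum_comm]
      refine Finset.sum_congr rfl fun v _ => ?_
      rw [show sct (ψ : G → ℂ) a y v = ∑ k : G, be a k * (ψ : G → ℂ) (y * k * v) from rfl,
        Finset.sum_mul]
      refine (Fintype.sum_equiv ((Equiv.mulLeft y).trans (Equiv.mulRight v)) _ _ fun k => ?_).symm
      simp only [Equiv.trans_apply, Equiv.coe_mulLeft, Equiv.coe_mulRight]
      rw [show y⁻¹ * (y * k * v) * v⁻¹ = k by group]
      ring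
    simp only [hE, Finset.sum_mul]
    rw [Finset.sum_comm]
    have h2 : ∀ t : G ⧸ CG a.1, ∑ g : G, e (t.out⁻¹ * g * t.out) * (ψ : G → ℂ) g =
        secT p (ψ : G → ℂ) (η : G → ℂ) a y := fun t => by
      rw [← h1]
      refine Fintype.sum_equiv (MulAut.conj t.out⁻¹).toEquiv _ _ fun g => ?_
      simp only [MulEquiv.toEquiv_eq_coe, MulEquiv.coe_toEquiv, MulAut.conj_apply]
      rw [irr_classFun ψ g t.out⁻¹, inv_inv]
    rw [Finset.sum_congr rfl fun t _ => h2 t, Finset.sum_const, nsmul_eq_mul, Finset.card_univ,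
      ← Nat.card_eq_fintype_card, Subgroup.index_eq_card]
  simp only [omegaFun, hsum, contrib]
  rw [← Subgroup.index_mul_card (CG a.1)]
  push_cast
  rw [← charDeg_spec']
  have h4 : (((CG a.1).index : ℕ) : ℂ) ≠ 0 :=
    Nat.cast_ne_zero.2 Subgroup.index_ne_zero_of_finite
  have h5 := irr_one_ne_zero ψ
  field_simp

/-- Contributions at a major subsection against the heights. -/
theorem contrib_height [Fact p.Prime] (hM : IsPModular p M) {a : BrauerPairIdx G} {y : G}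
    (hy : ∃ k, orderOf y = p ^ k) (hay : a.1 = Subgroup.zpowers y) (haB : OfB p M B a)
    (hd : blockDefect p a.2 = blockDefect p B) {ψ η : IrrCharacter G} (hψ : ψ ∈ B) :
    MemLocalRing M (contrib p (blockDefect p B) a y ψ η / (p : ℂ) ^ blockHeight p B (ψ : G → ℂ)) ∧
    (η ∈ B → blockHeight p B (η : G → ℂ) = 0 →
      ¬ MemLocalIdeal M
        (contrib p (blockDefect p B) a y ψ η / (p : ℂ) ^ blockHeight p B (ψ : G → ℂ))) ∧
    (η ∈ B → blockHeight p B (η : G → ℂ) ≠ 0 →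
      MemLocalIdeal M
        (contrib p (blockDefect p B) a y ψ η / (p : ℂ) ^ blockHeight p B (ψ : G → ℂ))) := by
  classical
  have hp : p.Prime := Fact.out
  have hB := haB.2.1
  set d := blockDefect p B
  -- the reduced degree is a unit
  have hunit : ∀ φ ∈ B, MemLocalRing M (((charDegree (φ : G → ℂ) * p ^ d : ℕ) : ℂ) /
      (Nat.card G : ℂ) / (p : ℂ) ^ blockHeight p B (φ : G → ℂ)) ∧
      ¬ MemLocalIdeal M (((charDegree (φ : G → ℂ) * p ^ d : ℕ) : ℂ) /
      (Nat.card G : ℂ) / (p : ℂ) ^ blockHeight p B (φ : G → ℂ)) := by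
    intro φ hφ
    have hfac : (Nat.card G * p ^ blockHeight p B (φ : G → ℂ)).factorization p =
        (charDegree (φ : G → ℂ) * p ^ d).factorization p := by
      rw [Nat.factorization_mul Nat.card_pos.ne' (pow_ne_zero _ hp.ne_zero),
        Nat.factorization_mul (charDeg_pos φ).ne' (pow_ne_zero _ hp.ne_zero), Finsupp.add_apply,
        Finsupp.add_apply, Nat.Prime.factorization_pow hp, Nat.Prime.factorization_pow hp,
        Finsupp.single_eq_same, Finsupp.single_eq_same, blockHeight_eq hM hB hφ]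
      have := le_defect_add hM hB hφ
      omega
    have e : ((charDegree (φ : G → ℂ) * p ^ d : ℕ) : ℂ) /
        (Nat.card G : ℂ) / (p : ℂ) ^ blockHeight p B (φ : G → ℂ) =
        ((charDegree (φ : G → ℂ) * p ^ d : ℕ) : ℂ) /
          ((Nat.card G * p ^ blockHeight p B (φ : G → ℂ) : ℕ) : ℂ) := by
      push_cast
      rw [div_div]
    rw [e]
    exact ⟨ring_natDiv hM (Nat.mul_ne_zero Nat.card_pos.ne' (pow_ne_zero _ hp.ne_zero))
      (Nat.mul_ne_zero (charDeg_pos φ).ne' (pow_ne_zero _ hp.ne_zero)) hfac.le,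
      natDiv_notMem hM (Nat.mul_ne_zero Nat.card_pos.ne' (pow_ne_zero _ hp.ne_zero))
      (Nat.mul_ne_zero (charDeg_pos φ).ne' (pow_ne_zero _ hp.ne_zero)) hfac⟩
  obtain ⟨F, hF, hval⟩ := exists_contrib_omega hM hay haB.1 η d
  set h := blockHeight p B (ψ : G → ℂ) with hh
  have e : contrib p d a y ψ η / (p : ℂ) ^ h =
      ((charDegree (ψ : G → ℂ) * p ^ d : ℕ) : ℂ) / (Nat.card G : ℂ) / (p : ℂ) ^ h * F ψ := by
    rw [hval]; ring
  obtain ⟨hvr, hvu⟩ := hunit ψ hψ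
  obtain ⟨ψ₀, hψ₀, h00⟩ := exists_height_zero hM hB
  obtain ⟨hr0, hu0⟩ := hunit ψ₀ hψ₀
  have hcong := hF.congr_block hM (pblock_sameBlock hM hB hψ hψ₀)
  have e0 : contrib p d a y ψ₀ η =
      ((charDegree (ψ₀ : G → ℂ) * p ^ d : ℕ) : ℂ) / (Nat.card G : ℂ) * F ψ₀ := hval ψ₀
  rw [h00, pow_zero, div_one] at hr0 hu0
  refine ⟨by rw [e]; exact ring_mul hM hvr (hF.ring hM ψ), fun hη hη0 => ?_, fun hη hηpos => ?_⟩
  · have hc := (contrib_major hM hy hay haB hd ψ₀ η).2 hψ₀ hη h00 hη0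
    rw [e]
    refine ideal_notMem_mul hM hvr (hF.ring hM ψ) hvu fun hi => hc ?_
    rw [e0]
    exact ideal_mul_left hM hr0 ((ideal_congr hM hcong).1 hi)
  · rw [e]
    refine ideal_mul_left hM hvr ((ideal_congr hM hcong).2 ?_)
    have hcI : MemLocalIdeal M (contrib p d a y ψ₀ η) := by
      have hcomm : a.1 ≤ CG a.1 := by
        rw [hay]; exact Subgroup.zpowers_le.2 (hay ▸ self_mem_cg hay)
      obtain ⟨θ, hθ, hθv⟩ := exists_contrib_genChar hM a haB.1.2 hcomm η ψ₀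
      rw [hd] at hθv
      have hya : y ∈ a.1 := (SetLike.ext_iff.1 hay y).2 (Subgroup.mem_zpowers y)
      have hswap : contrib p d a y ψ₀ η = conj (contrib p d a y η ψ₀) := by
        simp only [contrib, secT, map_div₀, map_mul, map_pow, map_natCast, map_sum,
          Complex.conj_conj]
        congr 1
        congr 1
        exact Finset.sum_congr rfl fun v _ => mul_comm _ _
      have hinv : conj (θ ⟨y, hya⟩) = θ (⟨y, hya⟩ : a.1)⁻¹ := by
        obtain ⟨α, β, hα, hβ, rfl⟩ := hθ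
        simp only [Pi.sub_apply, map_sub, IsChar.apply_inv hα, IsChar.apply_inv hβ]
      rw [hswap, show contrib p d a y η ψ₀ = θ ⟨y, hya⟩ from (hθv ⟨y, hya⟩).symm, hinv, hθv]
      show MemLocalIdeal M (contrib p d a y⁻¹ η ψ₀)
      obtain ⟨F', hF', hval'⟩ := exists_contrib_omega hM (y := y⁻¹)
        (by rw [hay, Subgroup.zpowers_inv]) haB.1 ψ₀ d
      obtain ⟨hvr', -⟩ := hunit η hη
      have hp0 : ((p : ℂ)) ^ blockHeight p B (η : G → ℂ) ≠ 0 :=
        pow_ne_zero _ (Nat.cast_ne_zero.2 hp.ne_zero)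
      rw [hval', ← div_mul_cancel₀ (((charDegree (η : G → ℂ) * p ^ d : ℕ) : ℂ) /
        (Nat.card G : ℂ)) hp0]
      refine ideal_mul_right hM (ideal_mul_left hM hvr' ?_) (hF'.ring hM η)
      obtain ⟨m, hm⟩ := Nat.exists_eq_succ_of_ne_zero hηpos
      rw [hm, pow_succ]
      exact ideal_mul_left hM (ring_pow hM (ring_natCast hM p) m) (ideal_p hM)
    by_contra hi
    rw [e0] at hcI
    exact ideal_notMem_mul hM hr0 (hF.ring hM ψ₀) hu0 hi hcI

/-- The counting argument. -/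
theorem height_bound_core {ι κ : Type*} [DecidableEq ι] (A : Finset ι) (s : Finset κ) (hs : 0 < s.card)
    (ht : ι → ℕ) (N : ι → ι → κ → ℂ) (r : ι → κ → ℝ) (c : ι → ℤ) {T : ℕ} (hT : 0 < T)
    (hsq : ∀ χ ∈ A, ∀ u ∈ s, ∑ η ∈ A, Complex.normSq (N χ η u) = (T : ℝ) * r χ u)
    (htr : ∀ u ∈ s, ∑ χ ∈ A, r χ u ≤ 3 * (T : ℝ))
    (hc : ∀ χ ∈ A, ∑ u ∈ s, r χ u = (s.card : ℝ) * (c χ : ℝ))
    (h0 : ∀ χ ∈ A, ht χ = 0 → Odd (c χ))
    (hpos : ∀ χ ∈ A, ht χ ≠ 0 → (2 : ℤ) ^ (ht χ + 1) ∣ c χ)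
    (hrow : ∀ χ ∈ A, ht χ = 0 → ∀ η ∈ A,
      (s.card : ℝ) * (4 : ℝ) ^ ht η ≤ ∑ u ∈ s, Complex.normSq (N χ η u))
    (hsym : ∀ χ ∈ A, ∀ η ∈ A, ∀ u, Complex.normSq (N χ η u) = Complex.normSq (N η χ u))
    (hex : ∃ χ ∈ A, ht χ = 0) :
    3 * A.card ≤ 3 * (A.filter (fun χ => ht χ = 0)).card +
        2 * ∑ χ ∈ A.filter (fun χ => ht χ ≠ 0), 2 ^ ht χ ∧
      3 * (A.filter (fun χ => ht χ = 0)).card +
        2 * ∑ χ ∈ A.filter (fun χ => ht χ ≠ 0), 2 ^ ht χ ≤ 3 * T := by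
  classical
  set A0 := A.filter (fun χ => ht χ = 0) with hA0
  set A1 := A.filter (fun χ => ht χ ≠ 0) with hA1
  have hsplit : A0.card + A1.card = A.card := Finset.card_filter_add_card_filter_not _
  have hs' : (0 : ℝ) < (s.card : ℝ) := Nat.cast_pos.2 hs
  have hT' : (0 : ℝ) < (T : ℝ) := Nat.cast_pos.2 hT
  refine ⟨?_, ?_⟩
  · have h : ∑ _χ ∈ A1, 3 ≤ ∑ χ ∈ A1, 2 * 2 ^ ht χ := Finset.sum_le_sum fun χ hχ => by
      obtain ⟨m, hm⟩ := Nat.exists_eq_succ_of_ne_zero (Finset.mem_filter.1 hχ).2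
      rw [hm, pow_succ]
      have := Nat.two_pow_pos m
      omega
    rw [Finset.sum_const, smul_eq_mul, ← Finset.mul_sum] at h
    omega
  have htotal : ∀ χ ∈ A, ∑ η ∈ A, ∑ u ∈ s, Complex.normSq (N χ η u) =
      (T : ℝ) * ((s.card : ℝ) * (c χ : ℝ)) := fun χ hχ => by
    rw [Finset.sum_comm, Finset.sum_congr rfl (hsq χ hχ), ← Finset.mul_sum, hc χ hχ]
  have hc1 : ∀ χ ∈ A, 1 ≤ c χ := by
    intro χ hχ
    obtain ⟨χ₀, hχ₀, h00⟩ := hex
    have h1 := hrow χ₀ hχ₀ h00 χ hχ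
    have h2 : ∑ u ∈ s, Complex.normSq (N χ χ₀ u) ≤ (T : ℝ) * ((s.card : ℝ) * (c χ : ℝ)) := by
      rw [← htotal χ hχ]
      exact Finset.single_le_sum (f := fun η => ∑ u ∈ s, Complex.normSq (N χ η u))
        (fun η _ => Finset.sum_nonneg fun u _ => Complex.normSq_nonneg _) hχ₀
    rw [Finset.sum_congr rfl fun u _ => hsym χ hχ χ₀ hχ₀ u] at h2
    have h3 : 0 < (c χ : ℝ) := by
      have : 0 < (s.card : ℝ) * (4 : ℝ) ^ ht χ := by positivity
      by_contra hle
      push Not at hle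
      have : (T : ℝ) * ((s.card : ℝ) * (c χ : ℝ)) ≤ 0 :=
        mul_nonpos_of_nonneg_of_nonpos hT'.le (mul_nonpos_of_nonneg_of_nonpos hs'.le hle)
      linarith
    exact_mod_cast h3
  by_cases hone : ∃ χ ∈ A, ht χ = 0 ∧ c χ = 1
  · obtain ⟨χ, hχ, hχ0, hc'⟩ := hone
    have h : (s.card : ℝ) * ∑ η ∈ A, (4 : ℝ) ^ ht η ≤ (s.card : ℝ) * (T : ℝ) := by
      rw [Finset.mul_sum]
      refine (Finset.sum_le_sum fun η hη => hrow χ hχ hχ0 η hη).trans ?_
      rw [htotal χ hχ, hc']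
      push_cast
      ring_nf
      exact le_rfl
    have h2 : ∑ η ∈ A, 4 ^ ht η ≤ T := by exact_mod_cast le_of_mul_le_mul_left h hs'
    rw [← Finset.sum_filter_add_sum_filter_not A (fun χ => ht χ = 0) (fun η => 4 ^ ht η)] at h2
    have h3 : A0.card ≤ ∑ η ∈ A0, 4 ^ ht η := by
      rw [Finset.card_eq_sum_ones]
      exact Finset.sum_le_sum fun η _ => Nat.one_le_pow _ _ (by norm_num)
    have h4 : ∑ η ∈ A1, 2 ^ ht η ≤ ∑ η ∈ A1, 4 ^ ht η :=
      Finset.sum_le_sum fun η _ => Nat.pow_le_pow_left (by norm_num) _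
    simp only [← hA0, ← hA1] at h2
    omega
  · push Not at hone
    have hsum : ∑ χ ∈ A, c χ ≤ 3 * (T : ℤ) := by
      have h : (s.card : ℝ) * ∑ χ ∈ A, (c χ : ℝ) ≤ (s.card : ℝ) * (3 * (T : ℝ)) := by
        rw [Finset.mul_sum, ← Finset.sum_congr rfl hc, Finset.sum_comm]
        refine (Finset.sum_le_sum htr).trans_eq ?_
        rw [Finset.sum_const, nsmul_eq_mul]
      exact_mod_cast le_of_mul_le_mul_left h hs'
    rw [← Finset.sum_filter_add_sum_filter_not A (fun χ => ht χ = 0) c] at hsum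
    have h3 : ∑ _χ ∈ A0, (3 : ℤ) ≤ ∑ χ ∈ A0, c χ := Finset.sum_le_sum fun χ hχ => by
      obtain ⟨hχA, hχ0⟩ := Finset.mem_filter.1 hχ
      obtain ⟨w, hw⟩ := h0 χ hχA hχ0
      have := hc1 χ hχA
      have := hone χ hχA hχ0
      omega
    have h4 : ∑ χ ∈ A1, 2 * (2 : ℤ) ^ ht χ ≤ ∑ χ ∈ A1, c χ := Finset.sum_le_sum fun χ hχ => by
      obtain ⟨hχA, hχ0⟩ := Finset.mem_filter.1 hχ
      rw [← pow_succ']
      exact Int.le_of_dvd (hc1 χ hχA) (hpos χ hχA hχ0)
    rw [Finset.sum_const, nsmul_eq_mul] at h3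
    rw [← Finset.mul_sum] at h4
    simp only [← hA0, ← hA1] at hsum
    have h5 : 3 * (A0.card : ℤ) + 2 * ∑ χ ∈ A1, (2 : ℤ) ^ ht χ ≤ 3 * (T : ℤ) := by linarith
    exact_mod_cast h5

/-- The rows at a character of height zero. -/
theorem row_bound (hM : IsPModular 2 M) {a : BrauerPairIdx G} {y : G}
    (hy : ∃ k, orderOf y = 2 ^ k) (hay : a.1 = Subgroup.zpowers y) (haB : OfB 2 M B a)
    (hd : blockDefect 2 a.2 = blockDefect 2 B) [DecidableEq a.1] [Fintype a.1] {χ η : IrrCharacter G} (hχ : χ ∈ B)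
    (hχ0 : blockHeight 2 B (χ : G → ℂ) = 0) (hη : η ∈ B) :
    ((Finset.univ.filter (fun u : a.1 => orderOf u = Nat.card a.1)).card : ℝ) *
        (4 : ℝ) ^ blockHeight 2 B (η : G → ℂ) ≤
      ∑ u ∈ Finset.univ.filter (fun u : a.1 => orderOf u = Nat.card a.1),
        Complex.normSq (contrib 2 (blockDefect 2 B) a (u : G) η χ) := by
  classical
  set s := Finset.univ.filter (fun u : a.1 => orderOf u = Nat.card a.1) with hs
  set h := blockHeight 2 B (η : G → ℂ) with hh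
  have hcomm : a.1 ≤ CG a.1 := by
    rw [hay]; exact Subgroup.zpowers_le.2 (hay ▸ self_mem_cg hay)
  obtain ⟨j, hj⟩ := hy
  have hgen : ∀ u ∈ s, (∃ k, orderOf (u : G) = 2 ^ k) ∧ a.1 = Subgroup.zpowers (u : G) := by
    intro u hu
    have hu' : orderOf (u : G) = Nat.card a.1 := by
      rw [Subgroup.orderOf_coe]; exact (Finset.mem_filter.1 hu).2
    refine ⟨⟨j, by rw [hu', hay, Nat.card_zpowers, hj]⟩, ?_⟩
    exact (Subgroup.eq_of_le_of_card_ge (Subgroup.zpowers_le.2 u.2)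
      (by rw [Nat.card_zpowers, hu'])).symm
  have hpow : ∀ u : a.1, ∀ k : ℕ, (Nat.card a.1).Coprime k → (u ^ k ∈ s ↔ u ∈ s) := by
    intro u k hk
    simp only [s, Finset.mem_filter, Finset.mem_univ, true_and]
    rw [((hk.coprime_dvd_left (orderOf_dvd_natCard u))).orderOf_pow]
  obtain ⟨θ, hθ, hθv⟩ := exists_contrib_genChar hM a haB.1.2 hcomm η χ
  rw [hd] at hθv
  set x : a.1 → ℂ := fun u => contrib 2 (blockDefect 2 B) a (u : G) η χ / (2 : ℂ) ^ h with hx
  have hx' : ∀ u ∈ s, MemLocalRing M (x u) ∧ ¬ MemLocalIdeal M (x u) := fun u hu => by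
    obtain ⟨h1, h2, -⟩ := contrib_height hM (hgen u hu).1 (hgen u hu).2 haB hd (η := χ) hη
    simp only [Nat.cast_ofNat] at h1 h2
    exact ⟨h1, h2 hχ hχ0⟩
  obtain ⟨z, hz⟩ := IsGenChar.exists_int_prod hθ s (fun u hu => (Finset.mem_filter.1 hu).2) hpow
  have hprod : ∏ u ∈ s, x u = (z : ℂ) / 2 ^ (h * s.card) := by
    simp only [hx, Finset.prod_div_distrib, Finset.prod_const, ← pow_mul]
    rw [Finset.prod_congr rfl fun u _ => (hθv u).symm, hz]
  have hpr : MemLocalRing M (∏ u ∈ s, x u) ∧ ¬ MemLocalIdeal M (∏ u ∈ s, x u) := by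
    suffices hall : ∀ t : Finset a.1,
        (∀ u ∈ t, MemLocalRing M (x u) ∧ ¬ MemLocalIdeal M (x u)) →
        MemLocalRing M (∏ u ∈ t, x u) ∧ ¬ MemLocalIdeal M (∏ u ∈ t, x u) from hall s hx'
    intro t
    induction t using Finset.induction with
    | empty => exact fun _ => by simpa using ⟨ring_one hM, ideal_one hM⟩
    | insert u t hu ih =>
      intro hall
      rw [Finset.prod_insert hu]
      obtain ⟨h1, h2⟩ := ih (fun v hv => hall v (Finset.mem_insert_of_mem hv))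
      obtain ⟨h3, h4⟩ := hall u (Finset.mem_insert_self u t)
      exact ⟨ring_mul hM h3 h1, ideal_notMem_mul hM h3 h1 h4 h2⟩
  rw [hprod] at hpr
  obtain ⟨P', hP', -⟩ := CycloTwo.exists_div (ζ := (-1 : ℂ)) (j := 0) hM (by norm_num)
    (P := Polynomial.C z) (by simp) (h * s.card) (by simpa using hpr.1)
  obtain ⟨w, hw⟩ : ∃ w : ℤ, z = 2 ^ (h * s.card) * w := by
    refine ⟨P'.coeff 0, ?_⟩
    have := congrArg (fun f : Polynomial ℤ => f.coeff 0) hP'
    rw [Polynomial.coeff_C_mul, Polynomial.coeff_C_zero] at this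
    exact this
  have hw0 : w ≠ 0 := fun h0 => hpr.2 (by rw [hw, h0, mul_zero, Int.cast_zero, zero_div]; exact ideal_zero hM)
  have hxne : ∀ u ∈ s, x u ≠ 0 := fun u hu h0 => (hx' u hu).2 (h0 ▸ ideal_zero hM)
  have hnorm : ∀ u : a.1, Complex.normSq (contrib 2 (blockDefect 2 B) a (u : G) η χ) =
      (4 : ℝ) ^ h * Complex.normSq (x u) := fun u => by
    simp only [hx, Complex.normSq_div, map_pow]
    norm_num
    field_simp
  rw [Finset.sum_congr rfl fun u _ => hnorm u, ← Finset.mul_sum, mul_comm]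
  refine mul_le_mul_of_nonneg_left (card_le_sum_of_one_le_prod s _
    (fun u hu => Complex.normSq_pos.2 (hxne u hu)) ?_) (by positivity)
  rw [← map_prod Complex.normSq, hprod, hw]
  push_cast
  rw [mul_div_cancel_left₀ _ (pow_ne_zero _ (two_ne_zero (α := ℂ))), Complex.normSq_intCast, ← sq]
  have h2 : (1 : ℤ) ≤ w ^ 2 := sq_pos_of_ne_zero hw0
  exact_mod_cast h2

end Cfsg.Agent.Char.Spec
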