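import Cfsg.Agent.Lib.Char.DihBlockColumn
import Cfsg.Agent.Lib.Char.MajorHeight
import Cfsg.Agent.Lib.Char.CentralHeight
import Cfsg.Agent.Lib.Char.CycDefDiv

/-!
Pairs of regular rank one: the column of a block at such a pair, its norm, units and heights, and
the kernel of the pair.
-/

open scoped ComplexConjugate

namespace Cfsg.Agent.Char.DihBlk

open Cfsg Cfsg.Agent.Block Cfsg.Agent.Char Cfsg.Agent.Char.BP Cfsg.Agent.Char.Spec

set_option linter.unusedSectionVars false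
set_option linter.style.haveILetI false
set_option maxHeartbeats 800000

universe u

variable {G : Type u} [Group G] [Fintype G] {p : ℕ} [Fact p.Prime] {M : Ideal AlgInt}
variable {B : Set (IrrCharacter G)} {a : BrauerPairIdx G}

/-- The members of the block of a pair. -/
noncomputable def mems (a : BrauerPairIdx G) : Finset (IrrCharacter (CG a.1)) :=
  (Set.toFinite a.2).toFinset

theorem mem_mems {ξ : IrrCharacter (CG a.1)} : ξ ∈ mems a ↔ ξ ∈ a.2 :=
  Set.Finite.mem_toFinset _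

theorem finsum_mems (f : IrrCharacter (CG a.1) → ℂ) : ∑ᶠ ξ ∈ a.2, f ξ = ∑ ξ ∈ mems a, f ξ :=
  finsum_mem_eq_finite_toFinset_sum _ _

/-- The data of a pair whose block has regular rank one. -/
structure One (p : ℕ) (a : BrauerPairIdx G) where
  φ : CG a.1 → ℂ
  dl : IrrCharacter (CG a.1) → ℕ
  g0 : ℕ
  g0_pos : 0 < g0
  φ_one : φ 1 = g0
  val : ∀ ξ ∈ a.2, ∀ v : CG a.1, ¬ p ∣ orderOf v → (ξ : CG a.1 → ℂ) v = (dl ξ : ℂ) * φ v
  sumsq : ∑ ξ ∈ mems a, dl ξ ^ 2 = p ^ blockDefect p a.2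
  exists_unit : ∃ ξ ∈ a.2, ¬ p ∣ dl ξ

theorem exists_one (hM : IsPModular p M) (hb : IsPBlock M a.2) (hl : blockRank p a.2 = 1) :
    Nonempty (One p a) := by
  classical
  letI := Fintype.ofFinite (CG a.1)
  obtain ⟨φ, dl, ⟨n, hn⟩, hval, hsq⟩ := Contrib.exists_rank_one hM hb hl
  have h1 : ¬ p ∣ orderOf (1 : CG a.1) := by
    rw [orderOf_one]; exact (Fact.out : p.Prime).not_dvd_one
  have hsum : φ 1 = ∑ ξ ∈ mems a, (n ξ : ℂ) * ((dl ξ : ℂ) * φ 1) := by
    conv_lhs => rw [hn 1, finsum_mems]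
    exact Finset.sum_congr rfl fun ξ hξ => by rw [hval ξ (mem_mems.1 hξ) 1 h1]
  set N : ℤ := ∑ ξ ∈ mems a, n ξ * charDegree (ξ : CG a.1 → ℂ) with hN
  have hφ : φ 1 = (N : ℂ) := by
    rw [hn 1, finsum_mems, hN, Int.cast_sum]
    exact Finset.sum_congr rfl fun ξ _ => by rw [charDeg_spec']; push_cast; rfl
  obtain ⟨ξ₀, hξ₀⟩ := pblock_nonempty hM hb
  have hdeg : ((charDegree (ξ₀ : CG a.1 → ℂ) : ℤ) : ℂ) = (((dl ξ₀ : ℤ) * N : ℤ) : ℂ) := by
    push_cast
    rw [← charDeg_spec', hval ξ₀ hξ₀ 1 h1, hφ]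
  have hNpos : 0 < N := by
    have h := Int.cast_injective hdeg
    have := charDeg_pos ξ₀
    by_contra hc
    push Not at hc
    nlinarith [Int.natCast_nonneg (dl ξ₀)]
  have hNnat : ((N.toNat : ℕ) : ℂ) = φ 1 := by
    rw [hφ, ← Int.cast_natCast, Int.toNat_of_nonneg hNpos.le]
  refine ⟨⟨φ, dl, N.toNat, by omega, hNnat.symm, hval, ?_, ?_⟩⟩
  · rw [← hsq, finsum_mem_eq_finite_toFinset_sum _ (Set.toFinite a.2)]; rfl
  · by_contra hc
    push Not at hc
    have h2 : ((1 : ℤ) : ℂ) * φ 1 = ((∑ ξ ∈ mems a, n ξ * (dl ξ : ℤ) : ℤ) : ℂ) * φ 1 := by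
      rw [Int.cast_one, one_mul, Int.cast_sum, Finset.sum_mul]
      conv_lhs => rw [hsum]
      exact Finset.sum_congr rfl fun ξ _ => by push_cast; ring
    have h3 := Int.cast_injective (mul_right_cancel₀ (by
      rw [hφ]; exact Int.cast_ne_zero.2 hNpos.ne') h2)
    have h4 : (p : ℤ) ∣ 1 := h3 ▸ Finset.dvd_sum fun ξ hξ =>
      dvd_mul_of_dvd_right (Int.natCast_dvd_natCast.2 (hc ξ (mem_mems.1 hξ))) _
    exact (Fact.out : p.Prime).not_dvd_one (Int.natCast_dvd_natCast.1 h4)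

namespace One

variable (o : One p a)

theorem one_reg (_o : One p a) : ¬ p ∣ orderOf (1 : CG a.1) := by
  rw [orderOf_one]; exact (Fact.out : p.Prime).not_dvd_one

theorem g0_ne : (o.g0 : ℂ) ≠ 0 := Nat.cast_ne_zero.2 o.g0_pos.ne'

theorem degree {ξ : IrrCharacter (CG a.1)} (hξ : ξ ∈ a.2) :
    charDegree (ξ : CG a.1 → ℂ) = o.dl ξ * o.g0 := by
  have h := o.val ξ hξ 1 o.one_reg
  rw [charDeg_spec', o.φ_one, ← Nat.cast_mul] at h
  exact Nat.cast_injective h

/-- The combination of the members of the block with the multipliers as coefficients. -/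
noncomputable def L (c : CG a.1) : ℂ := ∑ ξ ∈ mems a, (o.dl ξ : ℂ) * (ξ : CG a.1 → ℂ) c

theorem L_reg {c : CG a.1} (hc : ¬ p ∣ orderOf c) :
    o.L c = (p : ℂ) ^ blockDefect p a.2 * o.φ c := by
  rw [L, Finset.sum_congr rfl fun ξ hξ => by rw [o.val ξ (mem_mems.1 hξ) c hc, ← mul_assoc],
    ← Finset.sum_mul]
  congr 1
  exact_mod_cast (congrArg (fun x : ℕ => (x : ℂ)) (by simpa [sq] using o.sumsq) : _)

theorem kerB_eq (c : CG a.1) : kerB a.2 1 c = (o.g0 : ℂ) * o.L c⁻¹ := by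
  rw [kerB, finsum_mems, L, Finset.mul_sum]
  refine Finset.sum_congr rfl fun ξ hξ => ?_
  rw [irr_apply_inv, o.val ξ (mem_mems.1 hξ) 1 o.one_reg, o.φ_one]
  ring

theorem L_singular (hM : IsPModular p M) (hb : IsPBlock M a.2) {c : CG a.1}
    (hc : p ∣ orderOf c) : o.L c = 0 := by
  letI := Fintype.ofFinite (CG a.1)
  have h := o.kerB_eq c⁻¹
  rw [inv_inv, kerB, weak_orth hM hb o.one_reg (by rwa [orderOf_inv])] at h
  exact (mul_eq_zero.1 h.symm).resolve_left o.g0_ne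

theorem L_div_ring (hM : IsPModular p M) (hb : IsPBlock M a.2) {c : CG a.1}
    (hc : ¬ p ∣ orderOf c) :
    MemLocalRing M (o.L c / (Nat.card (Subgroup.centralizer ({c} : Set (CG a.1))) : ℂ)) := by
  letI := Fintype.ofFinite (CG a.1)
  exact CycDef.div_centralizer_ring hM (mems a) (fun ξ => (o.dl ξ : ℂ))
    (fun ξ _ => ring_natCast hM _) (fun g hg => o.L_singular hM hb hg) hc

/-- The value of the column of a pair of rank one. -/
noncomputable def col (χ : IrrCharacter G) (u : G) : ℂ := sct (χ : G → ℂ) a u 1 / (o.g0 : ℂ)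

theorem sct_one (χ : IrrCharacter G) (u : G) :
    sct (χ : G → ℂ) a u 1 = o.col χ u * (o.g0 : ℂ) := by
  rw [col, div_mul_cancel₀ _ o.g0_ne]

theorem sct_reg (χ : IrrCharacter G) {u : G} (hu : u ∈ a.1) (huC : u ∈ CG a.1) {v : CG a.1}
    (hv : ¬ p ∣ orderOf v) : sct (χ : G → ℂ) a u (v : G) = o.col χ u * o.φ v := by
  classical
  letI := Fintype.ofFinite (CG a.1)
  obtain ⟨m, hm⟩ := exists_sct_mult (irr_isChar χ) a
  have h : ∀ w : CG a.1, ¬ p ∣ orderOf w → sct (χ : G → ℂ) a u (w : G) =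
      (∑ ξ ∈ Finset.univ.filter (· ∈ a.2),
        ((m ξ : ℂ) * centralChar (ξ : CG a.1 → ℂ) ⟨u, huC⟩) * (o.dl ξ : ℂ)) * o.φ w := by
    intro w hw
    have hmw := hm ⟨u, huC⟩ hu w
    simp only at hmw
    rw [hmw, Finset.sum_mul]
    refine Finset.sum_congr rfl fun ξ hξ => ?_
    rw [o.val ξ (Finset.mem_filter.1 hξ).2 w hw]
    ring
  rw [h v hv, col, show ((1 : G)) = (((1 : CG a.1)) : G) from rfl, h 1 o.one_reg, o.φ_one,
    mul_div_assoc, div_self o.g0_ne, mul_one]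

/-- The column is a generalized character of the subgroup of the pair. -/
theorem col_genChar (hcomm : a.1 ≤ CG a.1) (χ : IrrCharacter G) :
    IsGeneralizedCharacter a.1 (fun u : a.1 => o.col χ (u : G)) := by
  classical
  letI := Fintype.ofFinite (CG a.1)
  obtain ⟨m, hm⟩ := exists_sct_mult (irr_isChar χ) a
  have hcen : ∀ u : a.1, Subgroup.inclusion hcomm u ∈ Subgroup.center (CG a.1) := fun u =>
    Subgroup.mem_center_iff.mpr fun t =>
      Subtype.ext (Subgroup.mem_centralizer_iff.1 t.2 (u : G) u.2).symm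
  let lam : IrrCharacter (CG a.1) → (a.1 →* ℂ) := fun ξ =>
    { toFun := fun u => centralChar (ξ : CG a.1 → ℂ) (Subgroup.inclusion hcomm u)
      map_one' := by rw [map_one, centralChar_one]
      map_mul' := fun u v => by rw [map_mul, gam_mul (hcen u) (hcen v)] }
  have hlin : ∀ ξ, IsCharacter a.1 (fun u => lam ξ u) := by
    intro ξ
    have h1 := IsIrr.mul_linear (isIrr_one (G := a.1)) (lam ξ).toHomUnits
    have e : (fun u => lam ξ u) = fun g : a.1 => (((lam ξ).toHomUnits g : ℂˣ) : ℂ) * (1 : ℂ) := by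
      funext g; simp [MonoidHom.coe_toHomUnits]
    rw [e]
    exact IsIrr.isCharacter h1
  have e : (fun u : a.1 => o.col χ (u : G)) = ∑ ξ ∈ Finset.univ.filter (· ∈ a.2),
      (((m ξ : ℤ) * (o.dl ξ : ℤ) : ℤ) : ℂ) • fun u => lam ξ u := by
    funext u
    have h := hm (Subgroup.inclusion hcomm u) u.2 1
    rw [Finset.sum_apply, col, show ((1 : G)) = (((1 : CG a.1)) : G) from rfl,
      show (u : G) = ((Subgroup.inclusion hcomm u : CG a.1) : G) from rfl, h, Finset.sum_div]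
    refine Finset.sum_congr rfl fun ξ hξ => ?_
    rw [o.val ξ (Finset.mem_filter.1 hξ).2 1 o.one_reg, o.φ_one, Pi.smul_apply, smul_eq_mul]
    show _ = _ * centralChar (ξ : CG a.1 → ℂ) (Subgroup.inclusion hcomm u)
    rw [mul_div_assoc, mul_div_assoc, div_self o.g0_ne]
    push_cast
    ring
  rw [e]
  exact IsGenChar.sum fun ξ _ => IsGenChar.zsmul (IsGenChar.of_isCharacter (hlin ξ)) _

theorem conj_col (hcomm : a.1 ≤ CG a.1) (χ : IrrCharacter G) {u : G} (hu : u ∈ a.1) :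
    conj (o.col χ u) = o.col χ u⁻¹ := by
  obtain ⟨α, β, hα, hβ, h⟩ := o.col_genChar hcomm χ
  have h1 := congrFun h ⟨u, hu⟩
  have h2 := congrFun h (⟨u, hu⟩ : a.1)⁻¹
  simp only [Pi.sub_apply] at h1 h2
  rw [IsChar.apply_inv hα, IsChar.apply_inv hβ, ← map_sub, ← h1] at h2
  exact h2.symm

theorem col_isIntegral (hcomm : a.1 ≤ CG a.1) (χ : IrrCharacter G) {u : G} (hu : u ∈ a.1) :
    IsIntegral ℤ (o.col χ u) := by
  obtain ⟨α, β, hα, hβ, h⟩ := o.col_genChar hcomm χ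
  have h1 := congrFun h ⟨u, hu⟩
  simp only [Pi.sub_apply] at h1
  rw [h1]
  exact (IsChar.isIntegral hα _).sub (IsChar.isIntegral hβ _)

theorem col_one_int (hcomm : a.1 ≤ CG a.1) (χ : IrrCharacter G) : ∃ z : ℤ, o.col χ 1 = z := by
  obtain ⟨α, β, hα, hβ, h⟩ := o.col_genChar hcomm χ
  have h1 := congrFun h 1
  simp only [Pi.sub_apply] at h1
  obtain ⟨m₁, hm₁⟩ := IsChar.one_eq_nat hα
  obtain ⟨m₂, hm₂⟩ := IsChar.one_eq_nat hβ
  exact ⟨(m₁ : ℤ) - m₂, by rw [show o.col χ 1 = α 1 - β 1 from h1, hm₁, hm₂]; push_cast; rfl⟩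

/-- The column at a `p`-element against its value at the identity. -/
theorem col_sub_one (hM : IsPModular p M) (hcomm : a.1 ≤ CG a.1) (χ : IrrCharacter G) {u : G}
    (hu : u ∈ a.1) (hup : ∃ k, orderOf u = p ^ k) :
    MemLocalIdeal M (o.col χ u - o.col χ 1) := by
  obtain ⟨α, β, hα, hβ, h⟩ := o.col_genChar hcomm χ
  obtain ⟨k, hk⟩ := hup
  have hk' : ∃ j : ℕ, orderOf (⟨u, hu⟩ : a.1) = p ^ j := ⟨k, by rw [Subgroup.orderOf_mk, hk]⟩
  have h1 := congrFun h ⟨u, hu⟩
  have h2 := congrFun h 1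
  simp only [Pi.sub_apply] at h1 h2
  have hA := (ideal_coe_iff hM _).2 (IsChar.sub_degree_mem hα hM hk')
  have hB := (ideal_coe_iff hM _).2 (IsChar.sub_degree_mem hβ hM hk')
  rw [show o.col χ u - o.col χ 1 = (α ⟨u, hu⟩ - α 1) - (β ⟨u, hu⟩ - β 1) by
    rw [h1, show o.col χ 1 = α 1 - β 1 from h2]; ring]
  exact ideal_sub hM (by simpa using hA) (by simpa using hB)

section Gen

variable {u : G} (hM : IsPModular p M) (hu : ∃ k, orderOf u = p ^ k)
  (hau : a.1 = Subgroup.zpowers u) (haB : OfB p M B a)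

include hau in
theorem comm_of_gen : a.1 ≤ CG a.1 := by
  rw [hau]; exact Subgroup.zpowers_le.2 (hau ▸ self_mem_cg hau)

include hM hu hau haB in
theorem norm [DecidablePred (· ∈ B)] :
    ∑ χ ∈ Finset.univ.filter (· ∈ B), o.col χ u * conj (o.col χ u) =
      (p : ℂ) ^ blockDefect p a.2 := by
  letI := Fintype.ofFinite (CG a.1)
  have h := sum_sct_mul_conj hM hu hau haB 1 1 o.one_reg o.one_reg
  rw [o.kerB_eq, inv_one, o.L_reg o.one_reg, o.φ_one] at h
  simp only [OneMemClass.coe_one, o.sct_one, map_mul, map_natCast] at h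
  have h2 : (∑ χ ∈ Finset.univ.filter (· ∈ B), o.col χ u * conj (o.col χ u)) *
      ((o.g0 : ℂ) * o.g0) = (p : ℂ) ^ blockDefect p a.2 * ((o.g0 : ℂ) * o.g0) := by
    rw [Finset.sum_mul]
    refine Eq.trans (Finset.sum_congr rfl fun χ _ => ?_) (h.trans (by ring))
    ring
  exact mul_right_cancel₀ (mul_ne_zero o.g0_ne o.g0_ne) h2

include hM hau in
theorem secT_eq (χ η : IrrCharacter G) :
    secT p (χ : G → ℂ) (η : G → ℂ) a u =
      o.col χ u * conj (o.col η u) * regSum p o.φ o.φ := by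
  letI := Fintype.ofFinite (CG a.1)
  have hua : u ∈ a.1 := hau ▸ Subgroup.mem_zpowers u
  rw [secT, sum_regs_eq_regSum a.1 (fun v => o.col χ u * o.φ v) (fun v => o.col η u * o.φ v) _ _
    (fun v hv => o.sct_reg χ hua (comm_of_gen hau hua) hv)
    (fun v hv => o.sct_reg η hua (comm_of_gen hau hua) hv), regSum_eq_sum, regSum_eq_sum,
    Finset.mul_sum]
  exact Finset.sum_congr rfl fun v _ => by rw [map_mul]; ring

include hM hu hau haB in
theorem regSum_phi :
    regSum p o.φ o.φ = (Nat.card (CG a.1) : ℂ) / (p : ℂ) ^ blockDefect p a.2 := by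
  classical
  letI := Fintype.ofFinite (CG a.1)
  have hr : blockRank p a.2 = 1 := by
    refine le_antisymm ?_ (Res.blockRank_pos hM haB.1.2)
    have hsub : Submodule.span ℂ
        ((fun ξ : IrrCharacter (CG a.1) => pRegularPart p (ξ : CG a.1 → ℂ)) '' a.2) ≤
        Submodule.span ℂ {pRegularPart p o.φ} := by
      refine Submodule.span_le.2 ?_
      rintro _ ⟨ξ, hξ, rfl⟩
      refine Submodule.mem_span_singleton.2 ⟨(o.dl ξ : ℂ), funext fun v => ?_⟩
      by_cases hv : p ∣ orderOf v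
      · simp [pRegularPart_apply, IsPRegular, hv]
      · simp [pRegularPart_apply, IsPRegular, hv, o.val ξ hξ v hv]
    exact (Submodule.finrank_mono hsub).trans ((finrank_span_le_card _).trans (by simp))
  have h := sum_sct_sq hM hu hau haB
  rw [Finset.sum_congr rfl fun χ _ => o.secT_eq hM hau χ χ, ← Finset.sum_mul,
    o.norm hM hu hau haB, hr, Nat.cast_one, mul_one] at h
  rw [eq_div_iff (pow_ne_zero _ (Nat.cast_ne_zero.2 (Fact.out : p.Prime).ne_zero)), mul_comm]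
  exact h

include hM hu hau haB in
theorem contrib_eq (χ η : IrrCharacter G) :
    contrib p (blockDefect p a.2) a u χ η = o.col χ u * conj (o.col η u) := by
  rw [contrib, o.secT_eq hM hau, o.regSum_phi hM hu hau haB]
  have h1 : (Nat.card (CG a.1) : ℂ) ≠ 0 := Nat.cast_ne_zero.2 Nat.card_pos.ne'
  have h2 : (p : ℂ) ^ blockDefect p a.2 ≠ 0 :=
    pow_ne_zero _ (Nat.cast_ne_zero.2 (Fact.out : p.Prime).ne_zero)
  field_simp

include hM hu hau haB in
theorem unit {χ : IrrCharacter G} (hχ : χ ∈ B) (h0 : blockHeight p B (χ : G → ℂ) = 0) :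
    ¬ MemLocalIdeal M (o.col χ u) := by
  intro hi
  refine (contrib_sub hM hu hau haB χ χ).2 hχ hχ h0 h0 ?_
  rw [o.contrib_eq hM hu hau haB]
  exact ideal_mul_right hM hi (ring_of_integral hM (isIntegral_conj
    (o.col_isIntegral (comm_of_gen hau) χ (hau ▸ Subgroup.mem_zpowers u))))

include hM hu hau haB in
/-- An integral column at a major pair shows the heights. -/
theorem major (hd : blockDefect p a.2 = blockDefect p B) {c : IrrCharacter G → ℤ}
    (hc : ∀ χ, o.col χ u = c χ) {ψ : IrrCharacter G} (hψ : ψ ∈ B) :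
    (p : ℤ) ^ blockHeight p B (ψ : G → ℂ) ∣ c ψ ∧
      ¬ (p : ℤ) ^ (blockHeight p B (ψ : G → ℂ) + 1) ∣ c ψ := by
  have hB := haB.2.1
  have hp0 : (p : ℂ) ≠ 0 := Nat.cast_ne_zero.2 (Fact.out : p.Prime).ne_zero
  obtain ⟨η, hη, h0⟩ := exists_height_zero hM hB
  set h := blockHeight p B (ψ : G → ℂ)
  obtain ⟨hr, hu0, -⟩ := contrib_height hM hu hau haB hd (η := η) hψ
  have e : contrib p (blockDefect p B) a u ψ η / (p : ℂ) ^ h =
      ((c ψ * c η : ℤ) : ℂ) / (p : ℂ) ^ h := by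
    rw [← hd, o.contrib_eq hM hu hau haB, hc, hc, map_intCast, Int.cast_mul]
  rw [e] at hr hu0
  have hodd : ¬ (p : ℤ) ∣ c η := fun hd' =>
    o.unit hM hu hau haB hη h0 (by rw [hc, ideal_intCast_iff hM]; exact hd')
  have hdvd := pow_dvd_of_ring_div hM h _ hr
  refine ⟨(IsCoprime.pow_left ((Prime.coprime_iff_not_dvd
    (Nat.prime_iff_prime_int.1 (Fact.out : p.Prime))).2 hodd)).dvd_of_dvd_mul_right hdvd,
    fun hd1 => hu0 hη h0 ?_⟩
  obtain ⟨w, hw⟩ := hd1
  rw [show (((c ψ * c η : ℤ)) : ℂ) / (p : ℂ) ^ h = (p : ℂ) * ((w * c η : ℤ) : ℂ) by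
    rw [hw]; push_cast; field_simp; ring]
  exact ideal_mul_right hM (ideal_p hM) (ring_intCast hM _)

include hM hau haB in
/-- The values on the coset of `u` against the kernel. -/
theorem sum_value_L [Fintype (CG a.1)] (χ : IrrCharacter G) :
    ∑ c : CG a.1, (χ : G → ℂ) (u * (c : G)) * o.L c⁻¹ =
      (Nat.card (CG a.1) : ℂ) * o.col χ u := by
  classical
  have h := sct_eq_kernel hM haB.1.2 (hau ▸ Subgroup.mem_zpowers u) χ 1 o.one_reg
  rw [Finset.sum_subset (Finset.subset_univ _) fun c _ hc => by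
    rw [o.kerB_eq, o.L_singular hM haB.1.2 (by
      rw [orderOf_inv]; simpa using hc), mul_zero, mul_zero], OneMemClass.coe_one, o.sct_one] at h
  have hC : (Nat.card (CG a.1) : ℂ) ≠ 0 := Nat.cast_ne_zero.2 Nat.card_pos.ne'
  rw [eq_inv_mul_iff_mul_eq₀ hC, ← mul_assoc] at h
  refine mul_right_cancel₀ o.g0_ne (Eq.trans ?_ h.symm)
  rw [Finset.sum_mul]
  exact Finset.sum_congr rfl fun c _ => by rw [o.kerB_eq]; ring

include hM haB in
theorem g0_factorization :
    o.g0.factorization p + blockDefect p a.2 = (Nat.card (CG a.1)).factorization p := by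
  letI := Fintype.ofFinite (CG a.1)
  have hb := haB.1.2
  obtain ⟨ξ₀, hξ₀, h0⟩ := exists_height_zero hM hb
  obtain ⟨ξ₁, hξ₁, h1⟩ := o.exists_unit
  have e0 := le_defect_add hM hb hξ₁
  have e1 := blockHeight_eq hM hb hξ₀
  have e2 := le_defect_add hM hb hξ₀
  have hdl : ∀ ξ ∈ a.2, o.dl ξ ≠ 0 := fun ξ hξ h => by
    have := charDeg_pos ξ
    rw [o.degree hξ, h, zero_mul] at this
    exact this.false
  rw [o.degree hξ₁, Nat.factorization_mul (hdl _ hξ₁) o.g0_pos.ne', Finsupp.add_apply,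
    Nat.factorization_eq_zero_of_not_dvd h1, zero_add] at e0
  rw [o.degree hξ₀, Nat.factorization_mul (hdl _ hξ₀) o.g0_pos.ne', Finsupp.add_apply] at e2
  rw [h0, o.degree hξ₀, Nat.factorization_mul (hdl _ hξ₀) o.g0_pos.ne', Finsupp.add_apply] at e1
  show _ = (Nat.card (Subgroup.centralizer (a.1 : Set G))).factorization p
  omega

end Gen

end One

end Cfsg.Agent.Char.DihBlk
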