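import Cfsg.Agent.Lib.Char.DihBlockGroup
import Cfsg.Agent.Lib.Char.DihBlockOne
import Cfsg.Agent.Lib.Char.NilpotentMain
import Cfsg.Agent.Lib.Char.PairSaturated

/-!
The sections of a 2-block with dihedral defect group: ranks, defects, fusion of rotations and the
count.
-/

open scoped ComplexConjugate

namespace Cfsg.Agent.Char.DihBlk

open Cfsg Cfsg.Agent.Block Cfsg.Agent.Char Cfsg.Agent.Char.BP Cfsg.Agent.Char.Spec

set_option linter.unusedSectionVars false
set_option linter.style.haveILetI false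
set_option maxHeartbeats 800000

universe u

variable {G : Type u} [Group G] [Fintype G] {M : Ideal AlgInt} {B : Set (IrrCharacter G)}
variable {P : Subgroup G} {e : Set (IrrCharacter (CG P))} {r : G} {t : ℕ}

/-- The equipment: a maximal pair on a dihedral group. -/
structure Setup (M : Ideal AlgInt) (B : Set (IrrCharacter G)) (P : Subgroup G)
    (e : Set (IrrCharacter (CG P))) (r : G) (t : ℕ) : Prop where
  hM : IsPModular 2 M
  max : IsMx 2 M B (⟨P, e⟩ : BrauerPairIdx G)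
  dh : Dh P r t

theorem zpowers_eq_of_orderOf {x y : G} (hx : x ∈ Subgroup.zpowers r) (hy : y ∈ Subgroup.zpowers r)
    (h : orderOf x = orderOf y) : Subgroup.zpowers x = Subgroup.zpowers y := by
  suffices key : ∀ {x y : G}, x ∈ Subgroup.zpowers r → y ∈ Subgroup.zpowers r →
      orderOf x = orderOf y → y ∈ Subgroup.zpowers x from
    le_antisymm (Subgroup.zpowers_le.2 (key hy hx h.symm)) (Subgroup.zpowers_le.2 (key hx hy h))
  intro x y hx hy h
  obtain ⟨i, rfl⟩ := (isOfFinOrder_of_finite r).mem_powers_iff_mem_zpowers.2 hx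
  obtain ⟨j, rfl⟩ := (isOfFinOrder_of_finite r).mem_powers_iff_mem_zpowers.2 hy
  simp only at h ⊢
  rw [orderOf_pow, orderOf_pow] at h
  have hg : Nat.gcd (orderOf r) j = Nat.gcd (orderOf r) i := by
    rw [← Nat.div_div_self (Nat.gcd_dvd_left (orderOf r) j) (orderOf_pos r).ne',
      ← h, Nat.div_div_self (Nat.gcd_dvd_left (orderOf r) i) (orderOf_pos r).ne']
  have hdvd : ((Nat.gcd (orderOf r) i : ℕ) : ℤ) ∣ j :=
    Int.natCast_dvd_natCast.2 (hg ▸ Nat.gcd_dvd_right _ _)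
  obtain ⟨c, hc⟩ := hdvd
  have hb := Nat.gcd_eq_gcd_ab (orderOf r) i
  refine ⟨Nat.gcdB (orderOf r) i * c, ?_⟩
  show (r ^ i) ^ _ = r ^ j
  rw [← zpow_natCast r j, ← zpow_natCast r i, ← zpow_mul, hc, hb, add_mul,
    zpow_add r (_ : ℤ) _, mul_assoc, zpow_mul r (orderOf r : ℤ), zpow_natCast,
    pow_orderOf_eq_one, one_zpow, one_mul, mul_assoc]

namespace Setup

variable (S : Setup M B P e r t)
include S

theorem isPr : IsPr 2 M (⟨P, e⟩ : BrauerPairIdx G) := S.max.1.1

theorem isBlock : IsPBlock M B := S.max.1.2.1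

theorem defect : blockDefect 2 B = t + 2 := by
  have h := card_defectGroup S.hM S.isBlock (defect_of_max S.hM S.max)
  rw [S.dh.card] at h
  exact (Nat.pow_right_injective le_rfl h).symm

theorem ppow_mem {x : G} (hx : x ∈ P) : ∃ k, orderOf x = 2 ^ k := by
  obtain ⟨k, -, hk⟩ := (Nat.dvd_prime_pow Nat.prime_two).1
    (S.dh.card ▸ Subgroup.orderOf_dvd_natCard (s := P) hx)
  exact ⟨k, hk⟩

theorem r_le : Subgroup.zpowers r ≤ P := Subgroup.zpowers_le.2 S.dh.mem

theorem ofB_of_le {a : BrauerPairIdx G} (h : LE 2 M a (⟨P, e⟩ : BrauerPairIdx G)) :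
    OfB 2 M B a := (ofB_le S.hM h).1 S.max.1

theorem exists_below {x : G} (hx : x ∈ P) :
    ∃ a : BrauerPairIdx G, a.1 = Subgroup.zpowers x ∧ LE 2 M a (⟨P, e⟩ : BrauerPairIdx G) :=
  exists_le S.hM S.isPr (Subgroup.zpowers_le.2 hx)

/-- Every block of a nontrivial section is nilpotent, so of rank one. -/
theorem rank_one {a : BrauerPairIdx G} {x : G} (hax : a.1 = Subgroup.zpowers x) (hx1 : x ≠ 1)
    (haB : OfB 2 M B a) : blockRank 2 a.2 = 1 := by
  haveI := Fintype.ofFinite (CG a.1)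
  refine (rank_of_nilpotent S.hM ((nil_iff S.hM).2 ⟨haB.1.2, fun b hb y hy hyo => ?_⟩)).1
  set R := upIn a b with hR
  have hstep : Step 2 M a R := step_upIn S.hM haB.1 hb
  obtain ⟨l, hl⟩ := le_conj_max S.hM ((ofB_step S.hM hstep).2 haB) S.max
  have hle : R.1.map (MulAut.conj l).toMonoidHom ≤ P := le_subgroup hl
  have hbR : b.1.map (CG a.1).subtype ≤ R.1 := le_sup_left
  have hxR : x ∈ R.1 := (le_sup_right : a.1 ≤ R.1) (hax ▸ Subgroup.mem_zpowers x)
  have hRC : R.1 ≤ Subgroup.centralizer ({x} : Set G) := by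
    rw [← cg_zpowers, ← hax]
    refine sup_le ?_ ?_
    · rintro _ ⟨d, -, rfl⟩; exact d.2
    · rw [hax]; exact Subgroup.zpowers_le.2 (hax ▸ self_mem_cg hax)
  have hyN : (y : G) ∈ Subgroup.normalizer (R.1 : Set G) :=
    stab_le_normalizer _ (mem_stab_upIn hy)
  have hxC : (y : G) * x = x * (y : G) :=
    (Subgroup.mem_centralizer_iff.1 y.2 x (hax ▸ Subgroup.mem_zpowers x)).symm
  have hodd : Odd (orderOf (l * (y : G) * l⁻¹)) := by
    rw [show orderOf (l * (y : G) * l⁻¹) = orderOf (y : G) from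
      MulEquiv.orderOf_eq (MulAut.conj l) _, Subgroup.orderOf_coe]
    exact Nat.not_even_iff_odd.1 fun hc => hyo hc.two_dvd
  have key := S.dh.odd_trivial hle (x := l * x * l⁻¹) (conj_mem_map_conj.2 hxR)
    (fun hc => hx1 (by rwa [conj_eq_one_iff] at hc))
    (fun w hw => by
      obtain ⟨w', hw', rfl⟩ := hw
      show l * w' * l⁻¹ * (l * x * l⁻¹) = l * x * l⁻¹ * (l * w' * l⁻¹)
      rw [conj_mul, conj_mul, Subgroup.mem_centralizer_singleton_iff.1 (hRC hw')])
    (y := l * (y : G) * l⁻¹) hodd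
    (fun w hw => by
      obtain ⟨w', hw', rfl⟩ := hw
      refine ⟨(y : G) * w' * (y : G)⁻¹, (Subgroup.mem_normalizer_iff.1 hyN w').1 hw', ?_⟩
      show l * ((y : G) * w' * (y : G)⁻¹) * l⁻¹ =
        l * (y : G) * l⁻¹ * (l * w' * l⁻¹) * (l * (y : G) * l⁻¹)⁻¹
      group)
    (by
      rw [show l * (y : G) * l⁻¹ * (l * x * l⁻¹) * (l * (y : G) * l⁻¹)⁻¹ =
        l * ((y : G) * x * (y : G)⁻¹) * l⁻¹ by group, hxC, mul_inv_cancel_right])
  refine Subgroup.mem_centralizer_iff.2 fun w hw => Subtype.ext ?_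
  have h := key (l * (w : G) * l⁻¹) (conj_mem_map_conj.2 (hbR ⟨w, hw, rfl⟩))
  have h2 : (y : G) * (w : G) * (y : G)⁻¹ = (w : G) := by
    refine MulAut.conj l |>.injective ?_
    show l * ((y : G) * (w : G) * (y : G)⁻¹) * l⁻¹ = l * (w : G) * l⁻¹
    conv_rhs => rw [← h]
    group
  exact (mul_inv_eq_iff_eq_mul.1 h2).symm

/-- A pair at a rotation of order more than two has defect one less. -/
theorem defect_rotation {a : BrauerPairIdx G} {x : G} (hx : x ∈ Subgroup.zpowers r)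
    (hxx : x * x ≠ 1) (hax : a.1 = Subgroup.zpowers x)
    (ha : LE 2 M a (⟨P, e⟩ : BrauerPairIdx G)) : blockDefect 2 a.2 = t + 1 := by
  refine le_antisymm ?_ ?_
  · obtain ⟨g, hg, hD⟩ := exists_conj_fully S.hM S.max ha
    have h1 := card_of_isDefect_inf S.hM (le_isPr hg S.isPr) hD
    rw [blockDefect_cjI] at h1
    have hgx : (cjI g a).1 = Subgroup.zpowers (g * x * g⁻¹) := by
      show a.1.map (MulAut.conj g).toMonoidHom = _
      rw [hax, MonoidHom.map_zpowers]
      rfl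
    have hgP : g * x * g⁻¹ ∈ P := le_subgroup hg (hgx ▸ Subgroup.mem_zpowers _)
    have hgg : g * x * g⁻¹ * (g * x * g⁻¹) ≠ 1 := fun hc => hxx <| by
      rwa [conj_mul, conj_eq_one_iff] at hc
    have hgr := S.dh.mem_zpowers_of_order hgP hgg
    have hle : (⟨P, e⟩ : BrauerPairIdx G).1 ⊓ CG (cjI g a).1 ≤ Subgroup.zpowers r := by
      rintro w ⟨hw, hwC⟩
      exact S.dh.centralizer_rotation hgr hgg hw
        (Subgroup.mem_centralizer_iff.1 hwC _ (hgx ▸ Subgroup.mem_zpowers _)).symm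
    have h2 := Subgroup.card_le_of_le hle
    rw [h1, Nat.card_zpowers, S.dh.order] at h2
    exact (Nat.pow_le_pow_iff_right one_lt_two).1 h2
  · have h1 := card_inf_cg_le S.hM S.isPr ha
    have hle : Subgroup.zpowers r ≤ (⟨P, e⟩ : BrauerPairIdx G).1 ⊓ CG a.1 := by
      refine Subgroup.zpowers_le.2 ⟨S.dh.mem, ?_⟩
      show r ∈ CG a.1
      rw [hax, cg_zpowers, Subgroup.mem_centralizer_singleton_iff]
      obtain ⟨k, rfl⟩ := Subgroup.mem_zpowers_iff.1 hx
      exact ((Commute.refl r).zpow_right k).eq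
    have h2 := (Subgroup.card_le_of_le hle).trans h1
    rw [Nat.card_zpowers, S.dh.order] at h2
    exact (Nat.pow_le_pow_iff_right one_lt_two).1 h2

/-- A pair at a central element of the defect group is major. -/
theorem defect_major {a : BrauerPairIdx G} {x : G} (hax : a.1 = Subgroup.zpowers x)
    (hxc : ∀ w ∈ P, w * x = x * w) (ha : LE 2 M a (⟨P, e⟩ : BrauerPairIdx G)) :
    blockDefect 2 a.2 = t + 2 := by
  rw [blockDefect_of_le_major S.hM S.max ha ?_, S.defect]
  intro w hw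
  rw [hax, cg_zpowers, Subgroup.mem_centralizer_singleton_iff]
  exact hxc w hw

/-- Fusion of rotations by the stabilizers of their pairs is inversion at most. -/
theorem rotation_fusion {x g : G} (hx : x ∈ Subgroup.zpowers r)
    (hgx : g * x * g⁻¹ ∈ Subgroup.zpowers r) {a a' : BrauerPairIdx G}
    (hax : a.1 = Subgroup.zpowers x) (ha' : LE 2 M a' (⟨P, e⟩ : BrauerPairIdx G))
    (ha : LE 2 M a (⟨P, e⟩ : BrauerPairIdx G)) (he : cjI g a = a') :
    g * x * g⁻¹ = x ∨ g * x * g⁻¹ = x⁻¹ := by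
  set Q := Subgroup.zpowers x with hQ
  have hQP : Q ≤ P := (Subgroup.zpowers_le.2 hx).trans S.r_le
  have hQe : Subgroup.zpowers (g * x * g⁻¹) = Q :=
    zpowers_eq_of_orderOf hgx hx (MulEquiv.orderOf_eq (MulAut.conj g) x)
  have hgQ : g ∈ Subgroup.normalizer (Q : Set G) := by
    have h1 : Q.map (MulAut.conj g).toMonoidHom = Q := by
      rw [hQ, MonoidHom.map_zpowers]
      exact hQe
    refine Subgroup.mem_normalizer_iff.2 fun v => ?_
    conv_rhs => rw [← h1]
    exact conj_mem_map_conj.symm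
  have hPN : P ≤ Subgroup.normalizer (Q : Set G) := by
    intro w hw
    refine Subgroup.mem_normalizer_iff.2 fun v => ?_
    have key : ∀ w ∈ P, ∀ v ∈ Q, w * v * w⁻¹ ∈ Q := by
      intro w hw v hv
      obtain ⟨k, rfl⟩ := Subgroup.mem_zpowers_iff.1 hv
      rw [← conj_zpow]
      refine Subgroup.zpow_mem _ ?_ k
      by_cases hwr : w ∈ Subgroup.zpowers r
      · obtain ⟨i, rfl⟩ := Subgroup.mem_zpowers_iff.1 hwr
        obtain ⟨j, rfl⟩ := Subgroup.mem_zpowers_iff.1 hx
        rw [← zpow_add, ← zpow_neg, ← zpow_add, show i + j + -i = j by ring]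
        exact Subgroup.mem_zpowers _
      · obtain ⟨i, rfl⟩ := (isOfFinOrder_of_finite r).mem_powers_iff_mem_zpowers.2 hx
        rw [S.dh.refl_pow hw hwr i]
        exact inv_mem (Subgroup.mem_zpowers _)
    exact ⟨key w hw v, fun hv => by
      have := key w⁻¹ (inv_mem hw) _ hv
      rwa [show w⁻¹ * (w * v * w⁻¹) * w⁻¹⁻¹ = v by group] at this⟩
  obtain ⟨F, hF, hsat⟩ := exists_saturated S.hM S.max
  have hP : IsPGroup 2 P := S.isPr.1
  have hFN : F.IsFullyNormalized Q := ⟨hQP, fun R hR => by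
    refine Subgroup.card_le_of_le ?_
    rw [show FusionSystem.normalizerIn P Q = P from inf_eq_left.2 hPN]
    exact inf_le_left⟩
  obtain ⟨-, R, hR⟩ := Fus.fullyAutomized_of_fullyNormalized hP hsat hFN
  set α : MulAut Q := Q.normalizerMonoidHom ⟨g, hgQ⟩ with hα
  have hαF : α ∈ F.autGroup Q := (Fus.mem_autGroup hQP).2 <| (isMap_iff hF).2
    ⟨a, g, hax, ha, he ▸ ha', fun u hu => by
      rw [show u = ((⟨u, hu⟩ : Q) : G) from rfl, Fus.autFun_coe]
      rfl⟩
  have h2 : IsPGroup 2 (F.autGroup Q) := by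
    obtain ⟨k, hk⟩ := S.ppow_mem (hQP (Subgroup.mem_zpowers x))
    have hc : Nat.card (MulAut Q) = Nat.totient (2 ^ k) := by
      haveI : IsCyclic Q := inferInstanceAs (IsCyclic (Subgroup.zpowers x))
      rw [IsCyclic.card_mulAut, hQ, Nat.card_zpowers, hk]
    refine IsPGroup.to_subgroup (IsPGroup.of_card (n := k - 1) ?_) _
    rw [hc]
    rcases k with _ | k
    · simp
    · rw [Nat.totient_prime_pow_succ Nat.prime_two]; simp
  have hRt : (R : Subgroup (F.autGroup Q)) = ⊤ :=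
    R.3 (h2.to_subgroup ⊤) le_top |>.symm
  have hαR : (⟨α, hαF⟩ : F.autGroup Q) ∈ (autInducedBy P Q).subgroupOf (F.autGroup Q) := by
    rw [← hR, hRt]; exact Subgroup.mem_top _
  obtain ⟨w, hw, hwα⟩ := Fus.mem_autInducedBy.1 (Subgroup.mem_subgroupOf.1 hαR)
  have h3 : g * x * g⁻¹ = w * x * w⁻¹ := hwα ⟨x, Subgroup.mem_zpowers x⟩
  obtain ⟨i, rfl⟩ := (isOfFinOrder_of_finite r).mem_powers_iff_mem_zpowers.2 hx
  simp only at h3 ⊢
  rw [h3]
  by_cases hwr : w ∈ Subgroup.zpowers r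
  · left
    obtain ⟨j, rfl⟩ := Subgroup.mem_zpowers_iff.1 hwr
    rw [((Commute.refl r).zpow_left j).pow_right i |>.eq, mul_inv_cancel_right]
  · exact Or.inr (S.dh.refl_pow hw hwr i)

end Setup

end Cfsg.Agent.Char.DihBlk
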