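import Cfsg.Agent.Lib.Char.DihBlockCenter
import Cfsg.Agent.Lib.Char.DiffOne
import Cfsg.Agent.Lib.Char.Average
import Cfsg.Agent.Lib.Char.ExtendMain
import Cfsg.Agent.Lib.Char.Glauberman
import Cfsg.Agent.Lib.Invol.SolvableMaxClass
import Cfsg.Agent.Lib.Fus.TransitivityOdd
import Cfsg.Agent.Lib.Grp.Cores
import Cfsg.Agent.Lib.Block.PPartDerived

/-!
In a solvable group a 2-block with dihedral or semidihedral defect group has at most two Brauer
characters.
-/

open scoped ComplexConjugate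

namespace Cfsg.Agent.Char.DihBlk

open Cfsg Cfsg.Agent.Block Cfsg.Agent.Char Cfsg.Agent.Char.BP Cfsg.Agent.Char.Spec

set_option linter.unusedSectionVars false
set_option linter.style.haveILetI false
set_option maxHeartbeats 800000

universe u

variable {G : Type u} [Group G] [Fintype G] {M : Ideal AlgInt} {B : Set (IrrCharacter G)}

/-- Over an invariant character the values on a coset are proportional. -/
theorem proportional (K : Subgroup G) [K.Normal] [Fintype K] {θ : IrrCharacter K}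
    (hinv : Fong.Fixed K θ) (h : G) :
    ∃ η : G → ℂ, ∀ χ : IrrCharacter G,
      classInner (fun n : K => (χ : G → ℂ) n) (θ : K → ℂ) ≠ 0 →
        ∃ c : ℂ, ∀ k ∈ K, (χ : G → ℂ) (k * h) = c * η (k * h) := by
  classical
  set H := K ⊔ Subgroup.zpowers h with hH
  have hKH : K ≤ H := le_sup_left
  have hhH : h ∈ H := (le_sup_right : Subgroup.zpowers h ≤ H) (Subgroup.mem_zpowers h)
  letI : Fintype H := Fintype.ofFinite _
  set K' := K.subgroupOf H with hK'
  haveI : K'.Normal := Subgroup.Normal.subgroupOf inferInstance _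
  letI : Fintype K' := Fintype.ofFinite _
  haveI hcyc : IsCyclic (H ⧸ K') := by
    refine ⟨⟨((⟨h, hhH⟩ : H) : H ⧸ K'), fun q => ?_⟩⟩
    induction q using QuotientGroup.induction_on with
    | _ v =>
      obtain ⟨a, ha, b, ⟨i, rfl⟩, hab⟩ := (Subgroup.mem_sup_of_normal_left (s := K)).1 v.2
      refine ⟨i, ?_⟩
      show ((⟨h, hhH⟩ : H) : H ⧸ K') ^ i = (v : H ⧸ K')
      rw [show v = ⟨a, hKH ha⟩ * (⟨h, hhH⟩ : H) ^ i from
        Subtype.ext (by simpa using hab.symm), QuotientGroup.mk_mul,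
        (QuotientGroup.eq_one_iff (N := K') (⟨a, hKH ha⟩ : H)).2 ha, one_mul,
        QuotientGroup.mk_zpow]
  set θ' : K' → ℂ := fun x => (θ : K → ℂ) ⟨((x : H) : G), x.2⟩ with hθ'
  have hθi : IsIrrCharacter K' θ' := IsIrr.comp_mulEquiv (Subgroup.subgroupOfEquivOfLe hKH) θ.2
  obtain ⟨k, ρ, hρ, hρeq, -, -⟩ := IsIrr.exists_rep hθi
  haveI := hρ
  have hinv' : ∀ (g : H) (m : K'), ρ.character (conjEquivN K' g m) = ρ.character m := by
    intro g m
    rw [conjEquivN_apply, hρeq]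
    exact hinv (g : G) ⟨((m : H) : G), m.2⟩
  obtain ⟨η, hη, hηres⟩ := Ext.exists_extension K' ρ hinv' (Ext.cyclic_mem K' ρ hinv' hcyc)
  have hres : (fun x : K' => η x) = θ' := (funext hηres).trans hρeq
  refine ⟨fun g => if hg : g ∈ H then η ⟨g, hg⟩ else 0, fun χ hχ => ?_⟩
  have horb : conjOrbit K (θ : K → ℂ) = {(θ : K → ℂ)} := by
    ext φ
    rw [Finset.mem_singleton, mem_conjOrbit]
    constructor
    · rintro ⟨g, rfl⟩
      exact hinv.conj g
    · rintro rfl
      exact ⟨1, hinv.conj 1⟩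
  have hres2 : ∀ n : K, (χ : G → ℂ) n =
      classInner (fun n : K => (χ : G → ℂ) n) (θ : K → ℂ) * (θ : K → ℂ) n := fun n => by
    have hc := congrFun (clifford K χ.2 θ.2 hχ) n
    rw [horb, Finset.sum_singleton] at hc
    simpa using hc
  set m := classInner (fun n : K => (χ : G → ℂ) n) (θ : K → ℂ)
  let mu : IrrCharacter H → ℕ := fun β => Glaub.mult H (χ : G → ℂ) (β : H → ℂ)
  set ζ : IrrCharacter H → ℂ := fun β =>
    avgN K' ((β : H → ℂ) * fun g => conj (η g)) ⟨h, hhH⟩ with hζdef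
  refine ⟨∑ β : IrrCharacter H, (mu β : ℂ) * ζ β, fun a ha => ?_⟩
  have hah : a * h ∈ H := mul_mem (hKH ha) hhH
  show (χ : G → ℂ) (((⟨a * h, hah⟩ : H)) : G) =
    _ * (if hg : a * h ∈ H then η ⟨a * h, hg⟩ else 0)
  rw [dif_pos hah, Glaub.res_expansion H (irr_isChar χ), Finset.sum_mul]
  refine Finset.sum_congr rfl fun β _ => ?_
  by_cases hβ : classInner (fun n : K' => (β : H → ℂ) n) θ' = 0
  · -- such a constituent does not occur
    suffices h0 : Glaub.mult H (χ : G → ℂ) (β : H → ℂ) = 0 by simp [mu, h0]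
    by_contra hne
    have hsum : classInner (fun n : K' => (χ : G → ℂ) ((n : H) : G)) (fun n : K' => (β : H → ℂ) n) =
        m * classInner θ' (fun n : K' => (β : H → ℂ) n) := by
      rw [← classInner_smul_left]
      congr 1
      funext n
      exact hres2 ⟨((n : H) : G), n.2⟩
    have h2 : classInner θ' (fun n : K' => (β : H → ℂ) n) = 0 := by
      rw [← classInner_conj_symm, hβ, map_zero]
    rw [h2, mul_zero] at hsum
    have hexp : classInner (fun n : K' => (χ : G → ℂ) ((n : H) : G))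
        (fun n : K' => (β : H → ℂ) n) = ∑ γ : IrrCharacter H,
          (Glaub.mult H (χ : G → ℂ) (γ : H → ℂ) : ℂ) *
            classInner (fun n : K' => (γ : H → ℂ) n) (fun n : K' => (β : H → ℂ) n) := by
      rw [show (fun n : K' => (χ : G → ℂ) ((n : H) : G)) = ∑ γ : IrrCharacter H,
        (Glaub.mult H (χ : G → ℂ) (γ : H → ℂ) : ℂ) • (fun n : K' => (γ : H → ℂ) n) from
        funext fun n => by
          rw [Glaub.res_expansion H (irr_isChar χ) (n : H), Finset.sum_apply]; rfl,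
        classInner_sum_left]
      exact Finset.sum_congr rfl fun γ _ => classInner_smul_left _ _ _
    rw [hsum] at hexp
    have hnat : ∀ γ : IrrCharacter H, ∃ j : ℕ,
        classInner (fun n : K' => (γ : H → ℂ) n) (fun n : K' => (β : H → ℂ) n) = j := fun γ =>
      IsChar.classInner_nat (IsChar.res (irr_isChar γ) K') (IsChar.res (irr_isChar β) K')
    choose j hj using hnat
    have hexp' : ((∑ γ : IrrCharacter H, Glaub.mult H (χ : G → ℂ) (γ : H → ℂ) * j γ : ℕ) : ℂ) =
        ((0 : ℕ) : ℂ) := by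
      rw [Nat.cast_zero, hexp, Nat.cast_sum]
      exact Finset.sum_congr rfl fun γ _ => by rw [hj, Nat.cast_mul]
    have h3 := (Finset.sum_eq_zero_iff_of_nonneg fun _ _ => Nat.zero_le _).1
      (Nat.cast_injective hexp') β (Finset.mem_univ _)
    have h4 : j β = 0 := (mul_eq_zero.1 h3).resolve_left hne
    have h5 := hj β
    rw [h4, Nat.cast_zero, classInner_self_eq_zero] at h5
    exact irr_one_ne_zero β (congrFun h5 1)
  · obtain ⟨-, heq⟩ := gallagher K' hη β.2 (hres ▸ hθi) (hres ▸ hβ)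
    have hav : avgN K' ((β : H → ℂ) * fun g => conj (η g)) ⟨a * h, hah⟩ = ζ β :=
      avgN_mul_left (N := K') _ (⟨⟨a, hKH ha⟩, ha⟩ : K') (⟨h, hhH⟩ : H)
    have h2 := congrFun heq ⟨a * h, hah⟩
    rw [Pi.mul_apply, hav] at h2
    show (Glaub.mult H (χ : G → ℂ) (β : H → ℂ) : ℂ) * (β : H → ℂ) ⟨a * h, hah⟩ = _
    rw [← h2]
    show _ = (Glaub.mult H (χ : G → ℂ) (β : H → ℂ) : ℂ) * ζ β * η ⟨a * h, hah⟩
    ring

/-- Over an invariant character the rank is at most the number of classes of odd order modulo the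
subgroup. -/
theorem rank_le_card (K : Subgroup G) [K.Normal] [Fintype K] {θ : IrrCharacter K}
    (hinv : Fong.Fixed K θ)
    (hover : ∀ χ ∈ B, classInner (fun n : K => (χ : G → ℂ) n) (θ : K → ℂ) ≠ 0) (S : Finset G)
    (hS : ∀ g : G, ¬ 2 ∣ orderOf g → ∃ x : G, ∃ h ∈ S, x * g * x⁻¹ * h⁻¹ ∈ K) :
    blockRank 2 B ≤ S.card := by
  classical
  choose η hη using fun h : G => proportional K hinv h
  choose! xx hh hhS hK using hS
  set F : G → G → ℂ := fun h g =>
    if ¬ 2 ∣ orderOf g ∧ hh g = h then η h (xx g * g * (xx g)⁻¹) else 0 with hF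
  have hsub : Submodule.span ℂ ((fun χ : IrrCharacter G => pRegularPart 2 (χ : G → ℂ)) '' B) ≤
      Submodule.span ℂ ((S.image F : Finset (G → ℂ)) : Set (G → ℂ)) := by
    refine Submodule.span_le.2 ?_
    rintro _ ⟨χ, hχ, rfl⟩
    choose c hc using fun h => hη h χ (hover χ hχ)
    have e : pRegularPart 2 (χ : G → ℂ) = ∑ h ∈ S, c h • F h := by
      funext g
      rw [Finset.sum_apply]
      by_cases hg : 2 ∣ orderOf g
      · rw [Finset.sum_eq_zero fun h _ => by
          rw [Pi.smul_apply, hF]; dsimp only; rw [if_neg (fun e => e.1 hg), smul_zero]]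
        simp [pRegularPart_apply, IsPRegular, hg]
      · rw [Finset.sum_eq_single (hh g) (fun h _ hne => by simp [hF, Ne.symm hne])
          fun hn => absurd (hhS g hg) hn]
        simp only [pRegularPart_apply, IsPRegular, hg, not_false_eq_true, if_true, Pi.smul_apply,
          smul_eq_mul, hF, and_self]
        have h1 := hc (hh g) _ (hK g hg)
        rw [inv_mul_cancel_right, irr_classFun χ g (xx g)] at h1
        exact h1
    show pRegularPart 2 (χ : G → ℂ) ∈ _
    rw [e]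
    exact Submodule.sum_mem _ fun h hh' => Submodule.smul_mem _ _
      (Submodule.subset_span (Finset.mem_coe.2 (Finset.mem_image_of_mem _ hh')))
  exact (Submodule.finrank_mono hsub).trans
    ((finrank_span_finset_le_card _).trans Finset.card_image_le)

/-- The elements of odd order of a solvable group without odd core with semidihedral Sylow
2-subgroup and central involution form two classes. -/
theorem odd_two_classes {X : Type u} [Group X] [Finite X] (hsol : Group.IsSolvable X)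
    (hO : Cfsg.oddCore X = ⊥) (T : Sylow 2 X) {n : ℕ} {x y : (T : Subgroup X)}
    (h : Invol.QD (T : Subgroup X) n x y)
    (hz : ∀ g : X, g * ((x ^ (2 * Invol.qq n) : (T : Subgroup X)) : X) * g⁻¹ =
      ((x ^ (2 * Invol.qq n) : (T : Subgroup X)) : X)) :
    ∃ g₀ : X, ∀ g : X, Odd (orderOf g) → g = 1 ∨ IsConj g₀ g := by
  classical
  haveI : Fact (Nat.Prime 2) := ⟨Nat.prime_two⟩
  haveI : Fact (Nat.Prime 3) := ⟨Nat.prime_three⟩
  haveI := Fintype.ofFinite X
  have hn := h.hn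
  by_cases hne : (T : Subgroup X) = ⊤
  · refine ⟨1, fun g hg => Or.inl ?_⟩
    obtain ⟨k, hk⟩ := IsPGroup.iff_orderOf.1 T.isPGroup' ⟨g, hne ▸ Subgroup.mem_top g⟩
    rw [Subgroup.orderOf_mk] at hk
    rcases k with _ | k
    · exact orderOf_eq_one_iff.1 (by simpa using hk)
    · rw [hk, Nat.odd_iff, pow_succ] at hg
      omega
  have hZ : ((T : Subgroup X) ⊓ Subgroup.centralizer ((T : Subgroup X) : Set X)).Normal := by
    refine ⟨fun v hv g => ?_⟩
    obtain ⟨hvT, hvC⟩ := Subgroup.mem_inf.1 hv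
    obtain ⟨i, e | e⟩ := h.cases' ⟨v, hvT⟩
    · have h1 : y * x ^ i = x ^ i * y := by
        rw [← e]; exact Subtype.ext (Subgroup.mem_centralizer_iff.1 hvC (y : X) y.2)
      rw [h.y_mul_zpow, h.mul_y_eq] at h1
      obtain ⟨c, hc⟩ := h1
      have h2 : x ^ i = 1 ∨ x ^ i = x ^ (2 * Invol.qq n) := by
        refine (h.zpow_sq i).1 ?_
        rw [← zpow_add, h.zpow_eq_one]
        have hev : (i + i) = 2 * (i * Invol.qq n) - 4 * Invol.qq n * c := by linarith
        have h4 : (4 : ℤ) ∣ i + i := by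
          obtain ⟨q, hq⟩ := h.qq_even
          exact ⟨i * q - 2 * q * c, by rw [hev, hq]; ring⟩
        obtain ⟨d, hd⟩ := h4
        exact ⟨d - c, by rw [hev, show i = 2 * d by omega]; ring⟩
      have hvv : v = ((x ^ i : (T : Subgroup X)) : X) := congrArg Subtype.val e
      rcases h2 with h2 | h2 <;> rw [hvv, h2]
      · simp
      · rw [hz g, ← h2, ← hvv]
        exact hv
    · exfalso
      have h1 : x * (x ^ i * y) = x ^ i * y * x := by
        rw [← e]; exact Subtype.ext (Subgroup.mem_centralizer_iff.1 hvC (x : X) x.2)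
      rw [← mul_assoc, ← zpow_one_add, show x ^ i * y * x = x ^ i * y * x ^ (1 : ℤ) by rw [zpow_one],
        h.mul_y_mul_zpow, h.mul_y_eq] at h1
      obtain ⟨c, hc⟩ := h1
      obtain ⟨q, hq⟩ := h.qq_even
      rw [hq] at hc
      have h4 : (4 : ℤ) ∣ 2 := ⟨q * (2 * c + 1), by linarith⟩
      omega
  have hcases : ∀ w : (T : Subgroup X), (w : X) ∉ Subgroup.zpowers (x : X) →
      ∃ i : ℤ, w = x ^ i * y := by
    intro w hw
    obtain ⟨i, e | e⟩ := h.cases' w
    · exact absurd ⟨i, by rw [e, SubgroupClass.coe_zpow]⟩ hw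
    · exact ⟨i, e⟩
  have hD : Invol.SolvableMaxClass.Data (T : Subgroup X) (x : X) n := by
    refine ⟨by omega, x.2, by rw [Subgroup.orderOf_coe, h.ox], h.card, ?_, ?_⟩
    · intro w hw hwX
      obtain ⟨i, hi⟩ := hcases ⟨w, hw⟩ hwX
      refine (congrArg Subtype.val (?_ : (⟨w, hw⟩ : (T : Subgroup X)) ^ 4 = 1) :)
      rw [hi, show ∀ v : (T : Subgroup X), v ^ 4 = (v * v) * (v * v) from fun v => by
          simp [pow_succ, mul_assoc],
        h.sq_mul_y, ← zpow_add, h.zpow_eq_one]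
      exact ⟨i, by ring⟩
    · intro w hw hwX
      obtain ⟨i, hi⟩ := hcases ⟨w, hw⟩ hwX
      refine (congrArg Subtype.val (?_ : (⟨w, hw⟩ : (T : Subgroup X)) * x ^ 2 ^ (n - 2) *
        (⟨w, hw⟩ : (T : Subgroup X))⁻¹ = (x ^ 2 ^ (n - 2))⁻¹) :)
      have e : (x : (T : Subgroup X)) ^ 2 ^ (n - 2) = x ^ Invol.qq n := by
        rw [← zpow_natCast]; simp [Invol.qq]
      rw [e, hi]
      calc x ^ i * y * x ^ Invol.qq n * (x ^ i * y)⁻¹
          = x ^ i * (y * x ^ Invol.qq n * y⁻¹) * (x ^ i)⁻¹ := by group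
        _ = x ^ i * x ^ (-Invol.qq n) * (x ^ i)⁻¹ := by rw [h.conj_y_quarter]
        _ = _ := by group
  obtain ⟨f, w, hfF, hwF, hwX, hf, hfw, -, hFcase, hkey⟩ :=
    Invol.SolvableMaxClass.core hsol hO hne hZ hD
  set F := Cfsg.pCore 2 X with hFdef
  haveI hFn : F.Normal := Grp.pCore_isNormal
  -- the lines
  have hinvwf : w * f * w⁻¹ = f⁻¹ := by
    rw [hf]
    exact hD.inv w (Grp.pCore_le_sylow T hwF) hwX
  have hsqwf : w * f * (w * f) = f * f := by
    calc w * f * (w * f) = w * f * w⁻¹ * (w * w) * f := by group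
      _ = f * f := by rw [hinvwf, ← hfw]; group
  have hf4 : f ^ 4 = 1 := by
    rw [hf, ← pow_mul]
    refine orderOf_dvd_iff_pow_eq_one.1 ?_
    rw [hD.ox, show (4 : ℕ) = 2 ^ 2 by norm_num, ← pow_add, show n - 2 + 2 = n by omega]
  have hw4 : w ^ 4 = 1 := by
    rw [show w ^ 4 = (w * w) * (w * w) by simp [pow_succ, mul_assoc], ← hfw,
      show f * f * (f * f) = f ^ 4 by simp [pow_succ, mul_assoc], hf4]
  have hFcard : Nat.card F ≤ 8 := by
    have hzc : (Subgroup.zpowers f : Set X).ncard ≤ 4 := by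
      rw [← Nat.card_coe_set_eq]
      show Nat.card (Subgroup.zpowers f) ≤ 4
      rw [Nat.card_zpowers]
      exact orderOf_le_of_pow_eq_one (by norm_num) hf4
    have hsub : (F : Set X) ⊆ (Subgroup.zpowers f : Set X) ∪ (w * ·) '' (Subgroup.zpowers f : Set X) := by
      intro u hu
      rcases hFcase u hu with h1 | h1
      · exact Or.inl h1
      · exact Or.inr ⟨w⁻¹ * u, h1, mul_inv_cancel_left _ _⟩
    have h1 := (Set.ncard_le_ncard hsub (Set.toFinite _)).trans (Set.ncard_union_le _ _)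
    have h2 := Set.ncard_image_le (f := (w * ·)) (s := (Subgroup.zpowers f : Set X)) (Set.toFinite _)
    rw [← Nat.card_coe_set_eq] at h1
    exact h1.trans (by omega)
  have hline : ∀ g : X, Subgroup.zpowers (g * f * g⁻¹) = Subgroup.zpowers f ∨
      Subgroup.zpowers (g * f * g⁻¹) = Subgroup.zpowers w ∨
      Subgroup.zpowers (g * f * g⁻¹) = Subgroup.zpowers (w * f) := by
    intro g
    set u := g * f * g⁻¹ with hu
    have huF : u ∈ F := hFn.conj_mem _ hfF g
    have hou : orderOf u = orderOf f := MulEquiv.orderOf_eq (MulAut.conj g) f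
    have hin : ∀ {v : X}, u ∈ Subgroup.zpowers v → orderOf v ∣ 4 → orderOf f = 4 →
        Subgroup.zpowers u = Subgroup.zpowers v := by
      intro v hv hv4 hf'
      refine Subgroup.eq_of_le_of_card_ge (Subgroup.zpowers_le.2 hv) ?_
      rw [Nat.card_zpowers, Nat.card_zpowers, hou, hf']
      exact Nat.le_of_dvd (by norm_num) hv4
    have hf' : orderOf f = 4 := by
      rw [hf, orderOf_pow_of_dvd (by positivity) (hD.ox ▸ pow_dvd_pow 2 (by omega)), hD.ox,
        Nat.pow_div (by omega) two_pos, show n - (n - 2) = 2 by omega]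
      norm_num
    rcases hFcase u huF with h1 | ⟨k, hk⟩
    · exact Or.inl (hin h1 hf'.dvd hf')
    replace hk : u = w * f ^ k := by rw [show f ^ k = w⁻¹ * u from hk, mul_inv_cancel_left]
    rcases Int.even_or_odd k with ⟨c, hc⟩ | ⟨c, hc⟩
    · refine Or.inr (Or.inl (hin ?_ (orderOf_dvd_of_pow_eq_one hw4) hf'))
      refine ⟨1 + (c + c), ?_⟩
      show w ^ (1 + (c + c)) = u
      rw [hk, hc, zpow_one_add, ← two_mul, zpow_mul, zpow_mul, zpow_ofNat, zpow_ofNat, pow_two,
        pow_two, hfw]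
    · refine Or.inr (Or.inr (hin ?_ (orderOf_dvd_of_pow_eq_one ?_) hf'))
      · refine ⟨1 + 2 * c, ?_⟩
        show (w * f) ^ (1 + 2 * c) = u
        rw [hk, hc, add_comm (2 * c) 1, zpow_one_add, zpow_one_add, zpow_mul, zpow_mul,
          zpow_ofNat, zpow_ofNat, pow_two, pow_two, hsqwf, mul_assoc]
      · rw [show (w * f) ^ 4 = (w * f * (w * f)) * (w * f * (w * f)) by
            simp [pow_succ, mul_assoc], hsqwf,
          show f * f * (f * f) = f ^ 4 by simp [pow_succ, mul_assoc], hf4]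
  -- a group of odd elements has at most three elements
  have hsmall : ∀ H : Subgroup X, (∀ g ∈ H, Odd (orderOf g)) → Nat.card H ≤ 3 := by
    intro H hH
    set L : Finset (Subgroup X) :=
      {Subgroup.zpowers f, Subgroup.zpowers w, Subgroup.zpowers (w * f)} with hL
    have hmem : ∀ g : X, Subgroup.zpowers (g * f * g⁻¹) ∈ L := fun g => by
      rcases hline g with e | e | e <;> simp [hL, e]
    refine (Nat.card_le_card_of_injective (fun g : H => (⟨_, hmem (g : X)⟩ : L)) ?_).trans ?_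
    · intro g g' e
      have e' : Subgroup.zpowers ((g : X) * f * (g : X)⁻¹) =
          Subgroup.zpowers ((g' : X) * f * (g' : X)⁻¹) := congrArg Subtype.val e
      obtain ⟨i, hi⟩ : (g' : X) * f * (g' : X)⁻¹ ∈ Subgroup.zpowers ((g : X) * f * (g : X)⁻¹) :=
        e' ▸ Subgroup.mem_zpowers _
      have h1 : (g : X)⁻¹ * (g' : X) = 1 := by
        refine hkey _ (hH _ (mul_mem (inv_mem g.2) g'.2)) ⟨i, ?_⟩
        show f ^ i = _
        have hi' : ((g : X) * f * (g : X)⁻¹) ^ i = (g' : X) * f * (g' : X)⁻¹ := hi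
        rw [conj_zpow] at hi'
        calc f ^ i = (g : X)⁻¹ * ((g : X) * f ^ i * (g : X)⁻¹) * (g : X) := by group
          _ = _ := by rw [hi']; group
      exact Subtype.ext (inv_mul_eq_one.1 h1)
    · rw [Nat.card_eq_fintype_card, Fintype.card_coe]
      exact Finset.card_le_three
  have hodd3 : ∀ g : X, Odd (orderOf g) → g = 1 ∨ orderOf g = 3 := by
    intro g hg
    have h1 := hsmall (Subgroup.zpowers g) fun u hu => hg.of_dvd_nat (orderOf_dvd_of_mem_zpowers hu)
    rw [Nat.card_zpowers] at h1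
    obtain ⟨c, hc⟩ := hg
    have h0 := orderOf_pos g
    rcases Nat.eq_zero_or_pos c with h2 | h2
    · exact Or.inl (orderOf_eq_one_iff.1 (by omega))
    · exact Or.inr (by omega)
  by_cases h3 : ∀ g : X, orderOf g ≠ 3
  · exact ⟨1, fun g hg => Or.inl ((hodd3 g hg).resolve_right (h3 g))⟩
  push Not at h3
  obtain ⟨g₀, hg₀⟩ := h3
  have hP3 : ∀ P : Sylow 3 X, Nat.card (P : Subgroup X) ≤ 3 := fun P => hsmall _ fun g hg => by
    obtain ⟨k, hk⟩ := IsPGroup.iff_orderOf.1 P.isPGroup' ⟨g, hg⟩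
    rw [Subgroup.orderOf_mk] at hk
    rw [hk]
    exact Odd.pow ⟨1, rfl⟩
  obtain ⟨P, hP⟩ := (isPGroup_zpowers (p := 3) ⟨1, by rw [hg₀, pow_one]⟩).exists_le_sylow
  have hPe : Subgroup.zpowers g₀ = (P : Subgroup X) :=
    Subgroup.eq_of_le_of_card_ge hP (by rw [Nat.card_zpowers, hg₀]; exact hP3 P)
  have hpow : ∀ u ∈ (P : Subgroup X), u ≠ 1 → u = g₀ ∨ u = g₀⁻¹ := by
    intro u hu hu1
    obtain ⟨i, hi, rfl⟩ := (isOfFinOrder_of_finite g₀).mem_zpowers_iff_mem_range_orderOf.1
      (hPe ▸ hu) |> Finset.mem_image.1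
    rw [Finset.mem_range, hg₀] at hi
    interval_cases i
    · exact absurd (pow_zero _) hu1
    · exact Or.inl (pow_one _)
    · exact Or.inr (eq_inv_of_mul_eq_one_left (by
        rw [← pow_succ]; simpa [hg₀] using pow_orderOf_eq_one g₀))
  have hinv : IsConj g₀ g₀⁻¹ := by
    by_contra hnc
    have hNC : Subgroup.normalizer ((P : Subgroup X) : Set X) ≤
        Subgroup.centralizer ((P : Subgroup X) : Set X) := by
      intro v hv
      have hvg : v * g₀ * v⁻¹ = g₀ := by
        refine (hpow _ ((Subgroup.mem_normalizer_iff.1 hv g₀).1 (hP (Subgroup.mem_zpowers g₀)))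
          fun e => ?_).resolve_right fun e => hnc (isConj_iff.2 ⟨v, e⟩)
        rw [conj_eq_one_iff] at e
        rw [e, orderOf_one] at hg₀
        omega
      refine Subgroup.mem_centralizer_iff.2 fun u hu => ?_
      obtain ⟨i, rfl⟩ := Subgroup.mem_zpowers_iff.1 (hPe.symm ▸ hu : u ∈ Subgroup.zpowers g₀)
      exact ((show Commute v g₀ from mul_inv_eq_iff_eq_mul.1 hvg).zpow_right i).eq.symm
    have hc3 : Nat.card (P : Subgroup X) = 3 := by rw [← hPe, Nat.card_zpowers, hg₀]
    set N := (MonoidHom.transferSylow P hNC).ker with hN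
    have hcompl := (MonoidHom.ker_transferSylow_isComplement' P hNC).card_mul
    rw [hc3] at hcompl
    have hN2 : IsPGroup 2 N := by
      refine IsPGroup.iff_card.2 ⟨_, Nat.eq_prime_pow_of_unique_prime_dvd Nat.card_pos.ne' ?_⟩
      intro q hq hqN
      by_contra hq2
      haveI := Fact.mk hq
      obtain ⟨u, hu⟩ := exists_prime_orderOf_dvd_card' q hqN
      rw [← Subgroup.orderOf_coe] at hu
      have hu' := (hodd3 (u : X) (hu ▸ hq.odd_of_ne_two hq2)).resolve_left fun e => by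
        rw [e, orderOf_one] at hu; exact hq.one_lt.ne hu
      have hd := Subgroup.orderOf_dvd_natCard (s := N) u.2
      rw [hu'] at hd
      exact MonoidHom.not_dvd_card_ker_transferSylow P hNC hd
    have hNF : N ≤ F := le_sSup ⟨MonoidHom.normal_ker _, hN2⟩
    have h1 : (2 : ℕ) ^ (n + 1) ∣ Nat.card N := by
      refine (Nat.Coprime.pow_left _ (by norm_num : Nat.Coprime 2 3)).dvd_of_dvd_mul_right ?_
      rw [hcompl, ← h.card]
      exact (T : Subgroup X).card_subgroup_dvd_card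
    have h2 := Nat.le_of_dvd Nat.card_pos h1
    have h3 := (Subgroup.card_le_of_le hNF).trans hFcard
    have : 2 ^ 4 ≤ 2 ^ (n + 1) := Nat.pow_le_pow_right two_pos (by omega)
    omega
  refine ⟨g₀, fun g hg => ?_⟩
  rcases hodd3 g hg with h1 | h1
  · exact Or.inl h1
  right
  obtain ⟨P', hP'⟩ := (isPGroup_zpowers (p := 3) ⟨1, by rw [h1, pow_one]⟩).exists_le_sylow
  obtain ⟨v, hv⟩ := MulAction.exists_smul_eq X P' P
  have hvm : v * g * v⁻¹ ∈ (P : Subgroup X) := by
    rw [← hv]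
    exact ⟨g, hP' (Subgroup.mem_zpowers g), rfl⟩
  have hcg : IsConj g (v * g * v⁻¹) := isConj_iff.2 ⟨v, rfl⟩
  rcases hpow _ hvm (fun e => by
    rw [conj_eq_one_iff] at e
    rw [e, orderOf_one] at h1
    omega) with e | e <;> rw [e] at hcg
  · exact hcg.symm
  · exact hinv.trans hcg.symm

/-- The bound for an invariant character of the odd core. -/
theorem rank_le_inertial (hM : IsPModular 2 M) (hB : IsPBlock M B) (hsol : Group.IsSolvable G)
    (hsolv : IsPSolvable 2 G) (S : Sylow 2 G) (hD : IsDefectGroup 2 M B (S : Subgroup G))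
    (hD' : (∃ n : ℕ, 3 ≤ n ∧ Nonempty ((S : Subgroup G) ≃* DihedralGroup (2 ^ (n - 1)))) ∨
      Cfsg.IsQuasiDihedral (S : Subgroup G))
    (K : Subgroup G) [K.Normal] [Fintype K] (hK : K = Cfsg.pPrimeCore 2 G) {θ : IrrCharacter K}
    (hinv : Fong.Fixed K θ)
    (hover : ∀ χ ∈ B, classInner (fun n : K => (χ : G → ℂ) n) (θ : K → ℂ) ≠ 0) :
    blockRank 2 B ≤ 2 := by
  classical
  subst hK
  obtain ⟨A, hA, hKA, ⟨j, hj⟩, hcomm, hZA⟩ := Invol.FongHeight.exists_abelian hsolv S
  haveI := hA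
  have hKodd : ¬ 2 ∣ Nat.card (Cfsg.pPrimeCore 2 G) := Grp.pPrimeCore_not_dvd
  -- two-elements of the odd core are trivial
  have hK1 : ∀ {v : G}, v ∈ (S : Subgroup G) → v ∈ (Cfsg.pPrimeCore 2 G) → v = 1 := by
    intro v hv hvK
    obtain ⟨i, hi⟩ := IsPGroup.iff_orderOf.1 S.isPGroup' ⟨v, hv⟩
    rw [Subgroup.orderOf_mk] at hi
    rcases i with _ | i
    · exact orderOf_eq_one_iff.1 (by simpa using hi)
    · exact absurd ((dvd_pow_self 2 i.succ_ne_zero).trans (hi ▸ Subgroup.orderOf_dvd_natCard (s := Cfsg.pPrimeCore 2 G) hvK)) hKodd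
  rcases hD' with ⟨n, hn, hdih⟩ | hqd
  · -- all involutions would lie in an abelian section
    by_contra hl
    push Not at hl
    obtain ⟨r, hr⟩ := exists_dh hn hdih
    obtain ⟨f, St⟩ := exists_setup hM hB hD hr
    have hzS : r ^ 2 ^ (n - 2) ∈ (S : Subgroup G) := hr.pow_mem' _
    have hzA : r ^ 2 ^ (n - 2) ∈ A := hZA ⟨⟨_, hzS⟩, Subgroup.mem_center_iff.2 fun v =>
      Subtype.ext (hr.z_central v.2), rfl⟩
    have hinA : ∀ v ∈ (S : Subgroup G), v * v = 1 → v ≠ 1 → v ∈ A := by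
      intro v hv hvv hv1
      obtain ⟨g, rfl⟩ := isConj_iff.1 (St.fused hl hv hvv hv1)
      exact hA.conj_mem _ hzA g
    obtain ⟨s, hs, hsr⟩ := hr.exists_refl
    have hsr' : s * r ∉ Subgroup.zpowers r := fun e =>
      hsr ((Subgroup.mul_mem_cancel_right _ (Subgroup.mem_zpowers r)).1 e)
    have hsA := hinA s hs (hr.refl s hs hsr).1 fun e => hsr (e ▸ one_mem _)
    have hsrA := hinA _ (mul_mem hs hr.mem) (hr.refl _ (mul_mem hs hr.mem) hsr').1
      fun e => hsr' (e ▸ one_mem _)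
    have hrA : r ∈ A := by simpa using mul_mem (inv_mem hsA) hsrA
    have h1 := hcomm s hsA r hrA
    rw [(hr.refl s hs hsr).2] at h1
    have h2 := hK1 (mul_mem (inv_mem hr.mem) (inv_mem hr.mem)) h1
    have h3 := orderOf_dvd_of_pow_eq_one (x := r) (n := 2)
      (by rw [pow_two, ← inv_eq_one, mul_inv_rev]; exact h2)
    have := Nat.le_of_dvd two_pos h3
    rw [hr.order] at this
    have := Nat.pow_le_pow_right two_pos (show 2 ≤ n - 2 + 1 by omega)
    omega
  -- the quotient by the odd core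
  obtain ⟨n, x, y, h⟩ := Invol.exists_qd hqd
  haveI : Finite (G ⧸ (Cfsg.pPrimeCore 2 G)) := inferInstance
  set π := QuotientGroup.mk' (Cfsg.pPrimeCore 2 G) with hπ
  have hπs : Function.Surjective π := QuotientGroup.mk'_surjective (Cfsg.pPrimeCore 2 G)
  set T : Sylow 2 (G ⧸ (Cfsg.pPrimeCore 2 G)) := S.mapSurjective hπs with hT
  have hTc : (T : Subgroup (G ⧸ (Cfsg.pPrimeCore 2 G))) = (S : Subgroup G).map π := rfl
  let e : (S : Subgroup G) ≃* (T : Subgroup (G ⧸ (Cfsg.pPrimeCore 2 G))) := MulEquiv.ofBijective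
    ((π.comp (S : Subgroup G).subtype).codRestrict (T : Subgroup (G ⧸ (Cfsg.pPrimeCore 2 G)))
      fun v => ⟨(v : G), v.2, rfl⟩)
    ⟨(injective_iff_map_eq_one _).2 fun v hv => Subtype.ext (hK1 v.2
        ((QuotientGroup.eq_one_iff _).1 (congrArg Subtype.val hv))),
      fun w => by
        obtain ⟨v, hv, hvw⟩ := w.2
        exact ⟨⟨v, hv⟩, Subtype.ext hvw⟩⟩
  have hQ : Invol.QD (T : Subgroup (G ⧸ (Cfsg.pPrimeCore 2 G))) n (e x) (e y) :=
    ⟨h.hn, by rw [← Nat.card_congr e.toEquiv, h.card], by rw [MulEquiv.orderOf_eq, h.ox],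
      by rw [MulEquiv.orderOf_eq, h.oy], by rw [← map_inv, ← map_mul, ← map_mul, h.conj, map_pow]⟩
  set z : G := ((x ^ (2 * Invol.qq n) : (S : Subgroup G)) : G) with hzdef
  have hzS : z ∈ (S : Subgroup G) := SetLike.coe_mem _
  have hzA : z ∈ A := hZA ⟨_, Subgroup.mem_center_iff.2 fun v => h.z_central v, rfl⟩
  have hez : (((e x) ^ (2 * Invol.qq n) : (T : Subgroup (G ⧸ (Cfsg.pPrimeCore 2 G)))) : G ⧸ (Cfsg.pPrimeCore 2 G)) = π z := by
    rw [← map_zpow]; rfl
  have hcentral : ∀ q : G ⧸ (Cfsg.pPrimeCore 2 G), q * π z * q⁻¹ = π z := by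
    intro q
    obtain ⟨g, rfl⟩ := hπs q
    -- the image of `A` is a normal abelian 2-group
    have hAn : (A.map π).Normal := hA.map π hπs
    have hAp : IsPGroup 2 (A.map π) := by
      refine IsPGroup.of_card (n := j) ?_
      rw [← hj, ← Subgroup.relIndex_ker, QuotientGroup.ker_mk']
    have hle : A.map π ≤ (T : Subgroup (G ⧸ (Cfsg.pPrimeCore 2 G))) := hAp.le_sylow_of_normal T
    have hu : π (g * z * g⁻¹) ∈ A.map π := ⟨_, hA.conj_mem z hzA g, rfl⟩
    have hord : orderOf (π (g * z * g⁻¹)) = 2 := by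
      have hc := MulEquiv.orderOf_eq (MulAut.conj (π g)) (π z)
      rw [MulAut.conj_apply] at hc
      rw [map_mul, map_mul, map_inv, hc, ← hez, Subgroup.orderOf_coe, hQ.orderOf_z]
    rcases hQ.involution_cases (t := ⟨_, hle hu⟩) (by rw [Subgroup.orderOf_mk, hord]) with h1 | ⟨i, -, h1⟩
    · rw [← map_inv, ← map_mul, ← map_mul]
      exact (congrArg Subtype.val h1).trans hez
    · exfalso
      -- its conjugate by the rotation does not commute with it
      have hconj : ((e x : (T : Subgroup (G ⧸ (Cfsg.pPrimeCore 2 G)))) : G ⧸ (Cfsg.pPrimeCore 2 G)) * π (g * z * g⁻¹) *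
          ((e x : (T : Subgroup (G ⧸ (Cfsg.pPrimeCore 2 G)))) : G ⧸ (Cfsg.pPrimeCore 2 G))⁻¹ ∈ A.map π := hAn.conj_mem _ hu _
      have habel : ∀ a ∈ A.map π, ∀ b ∈ A.map π, a * b = b * a := by
        rintro _ ⟨a, ha, rfl⟩ _ ⟨b, hb, rfl⟩
        have h2 : π (a * b * a⁻¹ * b⁻¹) = 1 := (QuotientGroup.eq_one_iff _).2 (hcomm a ha b hb)
        rw [map_mul, map_mul, map_mul, map_inv, map_inv, mul_inv_eq_one, mul_inv_eq_iff_eq_mul] at h2
        exact h2
      have h2 := habel _ hconj _ hu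
      rw [show π (g * z * g⁻¹) = (((e x) ^ i * e y : (T : Subgroup (G ⧸ (Cfsg.pPrimeCore 2 G)))) : G ⧸ (Cfsg.pPrimeCore 2 G)) from
        congrArg Subtype.val h1] at h2
      replace h2 : e x * ((e x) ^ i * e y) * (e x)⁻¹ * ((e x) ^ i * e y) =
          (e x) ^ i * e y * (e x * ((e x) ^ i * e y) * (e x)⁻¹) := Subtype.ext h2
      have h3 : e x * ((e x) ^ i * e y) * (e x)⁻¹ = (e x) ^ (i + 2 * 1 * (1 - Invol.qq n)) * e y := by
        rw [← hQ.conj_x, zpow_one]
      rw [h3, hQ.mul_y_mul, hQ.mul_y_mul, hQ.zpow_eq] at h2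
      obtain ⟨c, hc⟩ := h2
      obtain ⟨q, hq⟩ := hQ.qq_even
      rw [hq] at hc
      have h4 : (8 : ℤ) ∣ 4 := ⟨q * c + 2 * q - 2 * q * q, by linarith⟩
      omega
  haveI : Group.IsSolvable (G ⧸ (Cfsg.pPrimeCore 2 G)) := Group.isSolvable_of_surjective hπs
  have hO : Cfsg.oddCore (G ⧸ (Cfsg.pPrimeCore 2 G)) = ⊥ := PPartDerived.pPrimeCore_quotient_eq_bot
  obtain ⟨q₀, hq₀⟩ := odd_two_classes inferInstance hO T hQ (fun q => by rw [hez]; exact hcentral q)
  obtain ⟨g₀, rfl⟩ := hπs q₀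
  refine (rank_le_card (Cfsg.pPrimeCore 2 G) hinv hover {1, g₀} fun g hg => ?_).trans Finset.card_le_two
  have hodd : Odd (orderOf (π g)) :=
    (Nat.not_even_iff_odd.1 fun he => hg he.two_dvd).of_dvd_nat (orderOf_map_dvd π g)
  rcases hq₀ (π g) hodd with h1 | h1
  · refine ⟨1, 1, by simp, ?_⟩
    simpa using (QuotientGroup.eq_one_iff _).1 h1
  · obtain ⟨w, hw⟩ := isConj_iff.1 h1.symm
    obtain ⟨v, rfl⟩ := hπs w
    refine ⟨v, g₀, by simp, (QuotientGroup.eq_one_iff _).1 ?_⟩
    show π (v * g * v⁻¹ * g₀⁻¹) = 1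
    rw [map_mul, map_mul, map_mul, map_inv, map_inv, hw, mul_inv_cancel]

/-- A 2-block of a solvable group with dihedral or semidihedral defect group has at most two
Brauer characters. -/
theorem rank_le_two (hM : IsPModular 2 M) :
    ∀ (m : ℕ) (G : Type u) [Group G] [Fintype G], Nat.card G = m → Group.IsSolvable G →
      ∀ (B : Set (IrrCharacter G)), IsPBlock M B → ∀ D : Subgroup G, IsDefectGroup 2 M B D →
        ((∃ n : ℕ, 3 ≤ n ∧ Nonempty (D ≃* DihedralGroup (2 ^ (n - 1)))) ∨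
          Cfsg.IsQuasiDihedral D) → blockRank 2 B ≤ 2 := by
  intro m
  induction m using Nat.strong_induction_on with
  | _ m ih =>
    intro G _ _ hm hsol B hB D hD hD'
    classical
    haveI : Fact (Nat.Prime 2) := ⟨Nat.prime_two⟩
    have hsolv := Fus.TransOdd.isPSolvable_of_solvable Nat.prime_two _ G rfl hsol
    haveI := Grp.pPrimeCore_isNormal (p := 2) (G := G)
    haveI := Fong.pPrimePCore_normal (p := 2) (G := G)
    set K := Cfsg.pPrimeCore 2 G with hKdef
    letI : Fintype K := Fintype.ofFinite _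
    letI : Fintype (Cfsg.pPrimePCore 2 G) := Fintype.ofFinite _
    have hcop : ¬ 2 ∣ Nat.card K := Grp.pPrimeCore_not_dvd
    obtain ⟨χ, hχ⟩ := pblock_nonempty hM hB
    obtain ⟨θ, hθ⟩ := IsChar.exists_constituent' (IsChar.res (irr_isChar χ) K)
      (show (χ : G → ℂ) ((1 : K) : G) ≠ 0 by simpa using irr_one_ne_zero χ)
    by_cases hTtop : inertia K (θ : K → ℂ) = ⊤
    · have hinv : Fong.Fixed K θ := fun g m =>
        congrFun ((mem_inertia K).mp (hTtop ▸ Subgroup.mem_top g)) m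
      obtain ⟨Q, hQp, hQL, hQ⟩ := Fong.exists_sylow_pPrimePCore (p := 2) (G := G)
      obtain ⟨j, hj⟩ := Fong.exists_relIndex_pPrimePCore (p := 2) (G := G)
      obtain ⟨B₀, hB₀, hmem, -, hdef⟩ := Fong.block_over (Cfsg.pPrimePCore 2 G) Q hM
        Fong.pPrimeCore_le_pPrimePCore hQL hQp hcop hj hinv
        fun x hx hr => Fong.mem_pPrimeCore_of_commute hsolv hQL hQ hx hr
      have hBeq : B = B₀ := by
        rw [pblock_eq_blockOf hM hB hχ, pblock_eq_blockOf hM hB₀ ((hmem χ).mpr hθ)]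
      obtain ⟨S, rfl⟩ := hdef D (hBeq ▸ hD)
      exact rank_le_inertial hM hB hsol hsolv S hD hD' K rfl hinv fun ψ hψ =>
        (hmem ψ).1 (hBeq ▸ hψ)
    · set T := inertia K (θ : K → ℂ) with hTdef
      have hKT : K ≤ T := le_inertia K (IsIrr.classFun θ.2)
      letI : Fintype T := Fintype.ofFinite _
      have hb : IsPBlock M ({θ} : Set (IrrCharacter K)) := Fong.isPBlock_singleton hM hcop θ
      have hT : FR.IsStab K ({θ} : Set (IrrCharacter K)) T := by
        intro g
        rw [hTdef, mem_inertia]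
        constructor
        · rintro hg η hη η' hη'
          obtain rfl : η = θ := hη
          exact Subtype.ext (funext fun m => (hη' m).trans (congrFun hg m))
        · intro h
          have h1 : (⟨_, IsIrr.conjN K θ.2 g⟩ : IrrCharacter K) ∈
              ({θ} : Set (IrrCharacter K)) := h θ rfl _ fun m => rfl
          exact congrArg Subtype.val (Set.mem_singleton_iff.mp h1)
      obtain ⟨η, hη, hindχ, -, -⟩ := FR.corr hM hb hT hKT rfl hθ
      have hcov : ∃ ψ ∈ blockOf M (η : T → ℂ), ∃ θ' ∈ ({θ} : Set (IrrCharacter K)),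
          classInner (fun n : K => (ψ : T → ℂ) ⟨(n : G), hKT n.2⟩) (θ' : K → ℂ) ≠ 0 :=
        ⟨η, mem_blockOf_self hM η, θ, rfl, hη⟩
      obtain ⟨-, C, hC, hmemC, -⟩ := FR.induced hM hb hT hKT (isPBlock_blockOf η) hcov
      have hχC : χ ∈ C := (hmemC χ).mpr ⟨η, mem_blockOf_self hM η, hindχ.symm⟩
      have hBC : C = B := by
        rw [pblock_eq_blockOf hM hB hχ, pblock_eq_blockOf hM hC.2.1 hχC]
      rw [hBC] at hC hmemC
      obtain ⟨hdef, -⟩ := Cfsg.Agent.S4436.result 2 M hM K _ hb T hT hKT _ (isPBlock_blockOf η)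
        hcov B hC
      obtain ⟨E, hE⟩ := exists_isDefectGroup hM (isPBlock_blockOf η)
      obtain ⟨v, hv⟩ := defectGroup_conj hM hB (hdef E hE) hD
      have hlt : Nat.card T < m := hm ▸ lt_of_le_of_ne (Subgroup.card_le_card_group T)
        (fun h => hTtop (Subgroup.eq_top_of_card_eq T h))
      let e : E ≃* D := ((E.equivMapOfInjective T.subtype Subtype.coe_injective).trans
        ((E.map T.subtype).equivMapOfInjective (MulAut.conj v).toMonoidHom
          (MulAut.conj v).injective)).trans (MulEquiv.subgroupCongr hv)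
      have hE' : ((∃ n : ℕ, 3 ≤ n ∧ Nonempty (E ≃* DihedralGroup (2 ^ (n - 1)))) ∨
          Cfsg.IsQuasiDihedral E) := by
        rcases hD' with ⟨n, hn, ⟨φ⟩⟩ | hq
        · exact Or.inl ⟨n, hn, ⟨e.trans φ⟩⟩
        · right
          obtain ⟨n, hn, hc, x, y, hx, hy, hxy⟩ := hq
          exact ⟨n, hn, by rw [Nat.card_congr e.toEquiv, hc], e.symm x, e.symm y,
            by rw [MulEquiv.orderOf_eq, hx], by rw [MulEquiv.orderOf_eq, hy],
            by rw [← map_inv, ← map_mul, ← map_mul, hxy, map_pow]⟩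
      exact (DiffOne.blockRank_le_induced T fun ξ hξ => (hmemC ξ).1 hξ).trans
        (ih _ hlt T rfl inferInstance _ (isPBlock_blockOf η) E hE hE')

end Cfsg.Agent.Char.DihBlk
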