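import Mathlib
import Cfsg.Agent.Lib.Grp.Zassenhaus.Binary

/-!
# Small facts about `SL(2,5)`
-/

set_option autoImplicit false

namespace Cfsg.Agent.Char.SL25Facts

open scoped MatrixGroups

abbrev G25 := Matrix.SpecialLinearGroup (Fin 2) (ZMod 5)

/-- An element of order five. -/
def T : G25 := ⟨!![1, 1; 0, 1], by decide⟩
/-- An element of order four. -/
def a : G25 := ⟨!![0, 1; 4, 0], by decide⟩
/-- An element of order six. -/
def b : G25 := ⟨!![0, 4; 1, 1], by decide⟩
/-- A diagonal element of order four. -/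
def i : G25 := ⟨!![2, 0; 0, 3], by decide⟩
/-- The element of order two. -/
def z : G25 := ⟨!![4, 0; 0, 4], by decide⟩

/-- Lower unipotent elements. -/
def lower (c : ZMod 5) : G25 := a * T ^ (-c).val * a⁻¹

theorem a_sq : a * a = z := by decide +kernel
theorem b_cube : b ^ 3 = z := by decide +kernel
theorem b_ne : b ≠ z := by decide +kernel
theorem ab : a * b = T := by decide +kernel
theorem T_five : T ^ 5 = 1 := by decide +kernel
theorem T_ne : T ≠ 1 := by decide +kernel
theorem z_ne : z ≠ 1 := by decide +kernel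
theorem z_sq : z * z = 1 := by decide +kernel
theorem i_sq : i * i = z := by decide +kernel
theorem ai : a * i = z * (i * a) := by decide +kernel
theorem i_word : a * T ^ 3 * a * T ^ 2 * a * T ^ 3 = i := by decide +kernel
theorem i_image : (i * a) * (T ^ 2) ^ 3 * (i * a) * (T ^ 2) ^ 2 * (i * a) * (T ^ 2) ^ 3 = i := by decide +kernel

theorem upper (x : ZMod 5) : (T ^ x.val).1 = !![1, x; 0, 1] := by
  revert x
  decide +kernel

theorem lower_val (c : ZMod 5) : (lower c).1 = !![1, 0; c, 1] := by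
  revert c
  decide +kernel

theorem bruhat : ∀ p u c d : ZMod 5, p * d - u * c = 1 → c ≠ 0 →
    p = 1 + ((p - 1) * c ^ 3) * c ∧ d = 1 + c * ((d - 1) * c ^ 3) ∧
      u = ((p - 1) * c ^ 3) + p * ((d - 1) * c ^ 3) := by
  decide +kernel

theorem eq_top {K : Subgroup G25} (hT : T ∈ K) (ha : a ∈ K) : K = ⊤ := by
  have hl : ∀ c, lower c ∈ K := fun c => mul_mem (mul_mem ha (pow_mem hT _)) (inv_mem ha)
  have hc : ∀ M : G25, M.1 1 0 ≠ 0 → M ∈ K := by
    intro M hM
    have hdet := M.2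
    rw [Matrix.det_fin_two] at hdet
    obtain ⟨h1, h2, h3⟩ := bruhat _ _ _ _ hdet hM
    set x := (M.1 0 0 - 1) * M.1 1 0 ^ 3
    set y := (M.1 1 1 - 1) * M.1 1 0 ^ 3
    have hM' : M = T ^ x.val * lower (M.1 1 0) * T ^ y.val := by
      refine Subtype.ext ?_
      rw [Matrix.SpecialLinearGroup.coe_mul, Matrix.SpecialLinearGroup.coe_mul, upper, upper, lower_val,
        Matrix.mul_fin_two, Matrix.mul_fin_two]
      ext r s
      fin_cases r <;> fin_cases s <;> simp
      · linear_combination h1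
      · linear_combination h3 + (y : ZMod 5) * h1
      · linear_combination h2
    rw [hM']
    exact mul_mem (mul_mem (pow_mem hT _) (hl _)) (pow_mem hT _)
  refine eq_top_iff.mpr fun M _ => ?_
  by_cases hM : M.1 1 0 = 0
  · have h : lower 1 * M ∈ K := by
      refine hc _ ?_
      rw [Matrix.SpecialLinearGroup.coe_mul, lower_val]
      simp only [Matrix.mul_apply, Fin.sum_univ_two]
      intro h0
      simp [hM] at h0
      have hdet := M.2
      rw [Matrix.det_fin_two, hM] at hdet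
      simp [h0] at hdet
    have := mul_mem (inv_mem (hl 1)) h
    rwa [inv_mul_cancel_left] at this
  · exact hc M hM

theorem exists_conj : ∀ x : G25, x ^ 5 = 1 → x = 1 ∨ ∃ y : G25, y * x * y⁻¹ = T ∨ y * x * y⁻¹ = T ^ 2 := by
  decide +kernel

theorem five_one : ∀ x : G25, x * x = z → (x⁻¹ * T) ^ 3 = z →
    ∃ k : Fin 5, x = T ^ k.val * a * (T ^ k.val)⁻¹ := by
  decide +kernel

theorem five_two : ∀ x : G25, x * x = z → (x⁻¹ * T ^ 2) ^ 3 = z →
    ∃ k : Fin 5, x = T ^ k.val * (i * a) * (T ^ k.val)⁻¹ := by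
  decide +kernel

theorem centre : ∀ x : G25, x * a = a * x → x * T = T * x → x = 1 ∨ x = z := by
  decide +kernel

theorem square_outer : ∀ x : G25, x * T = T ^ 4 * x → x * a = (i * (i * a)) * x →
    i * a * x * a = 1 ∨ i * a * x * a = z := by
  decide +kernel

theorem only_involution : ∀ x : G25, x * x = 1 → x = 1 ∨ x = z := by
  decide +kernel

/-- Up to an inner automorphism there are two kinds of endomorphisms. -/
theorem hom_cases (α : G25 →* G25) (hα : Function.Injective α) :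
    ∃ y : G25, (y * α T * y⁻¹ = T ∧ y * α a * y⁻¹ = a) ∨ (y * α T * y⁻¹ = T ^ 2 ∧ y * α a * y⁻¹ = i * a) := by
  have hz : α z = z := (only_involution (α z) (by rw [← map_mul, z_sq, map_one])).resolve_left fun h =>
    z_ne (hα (by rw [h, map_one]))
  obtain ⟨y, hy⟩ := (exists_conj (α T) (by rw [← map_pow, T_five, map_one])).resolve_left fun h =>
    T_ne (hα (by rw [h, map_one]))
  set β : G25 →* G25 := (MulAut.conj y).toMonoidHom.comp α with hβ
  have hβv : ∀ x, β x = y * α x * y⁻¹ := fun x => rfl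
  have hβz : β z = z := by
    rw [hβv, hz]
    have : ∀ w : G25, w * z * w⁻¹ = z := by decide +kernel
    exact this y
  have h1 : β a * β a = z := by rw [← map_mul, a_sq, hβz]
  have h2 : ((β a)⁻¹ * β T) ^ 3 = z := by
    rw [← map_inv, ← map_mul, ← map_pow, ← ab, inv_mul_cancel_left, b_cube, hβz]
  rcases hy with hy | hy
  · obtain ⟨k, hk⟩ := five_one (β a) h1 (by rw [show β T = T from hy] at h2; exact h2)
    refine ⟨(T ^ k.val)⁻¹ * y, Or.inl ⟨?_, ?_⟩⟩
    · calc (T ^ k.val)⁻¹ * y * α T * ((T ^ k.val)⁻¹ * y)⁻¹ = (T ^ k.val)⁻¹ * (y * α T * y⁻¹) * T ^ k.val := by group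
        _ = T := by rw [hy, mul_assoc, ← pow_succ', pow_succ, inv_mul_cancel_left]
    · calc (T ^ k.val)⁻¹ * y * α a * ((T ^ k.val)⁻¹ * y)⁻¹ = (T ^ k.val)⁻¹ * (y * α a * y⁻¹) * T ^ k.val := by group
        _ = a := by rw [← hβv, hk]; group
  · obtain ⟨k, hk⟩ := five_two (β a) h1 (by rw [show β T = T ^ 2 from hy] at h2; exact h2)
    refine ⟨(T ^ k.val)⁻¹ * y, Or.inr ⟨?_, ?_⟩⟩
    · calc (T ^ k.val)⁻¹ * y * α T * ((T ^ k.val)⁻¹ * y)⁻¹ = (T ^ k.val)⁻¹ * (y * α T * y⁻¹) * T ^ k.val := by group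
        _ = T ^ 2 := by rw [hy, mul_assoc, ← pow_add, add_comm, pow_add, inv_mul_cancel_left]
    · calc (T ^ k.val)⁻¹ * y * α a * ((T ^ k.val)⁻¹ * y)⁻¹ = (T ^ k.val)⁻¹ * (y * α a * y⁻¹) * T ^ k.val := by group
        _ = i * a := by rw [← hβv, hk]; group

end Cfsg.Agent.Char.SL25Facts
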