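import Mathlib

/-!
# Gauss's quadratic form for the cyclotomic polynomial

For a prime `q` congruent to `3` modulo `4` the polynomial `1 + X + ... + X^(q-1)` has the shape
`A^2 + q B^2` with rational polynomials `A`, `B`.
-/

set_option autoImplicit false

namespace Cfsg.Agent.Char.GaussForm

open Polynomial Finset

variable {q : ℕ} [Fact q.Prime] {L : Type*} [Field L]

/-- The product of `X - ψ a` over the nonzero residues `a` of quadratic character `e`. -/
noncomputable def half (ψ : AddChar (ZMod q) L) (e : ℤ) : L[X] :=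
  ∏ a ∈ univ.filter (fun a : ZMod q => quadraticChar (ZMod q) a = e), (X - C (ψ a))

theorem half_mulShift (ψ : AddChar (ZMod q) L) (e : ℤ) (t : (ZMod q)ˣ) :
    half (AddChar.mulShift ψ t) e = half ψ (quadraticChar (ZMod q) t * e) := by
  have hs : quadraticChar (ZMod q) (t : ZMod q) * quadraticChar (ZMod q) (t : ZMod q) = 1 := by
    rw [← pow_two]; exact quadraticChar_sq_one t.ne_zero
  refine Finset.prod_bij' (fun a _ => (t : ZMod q) * a) (fun a _ => (↑t⁻¹ : ZMod q) * a) ?_ ?_ ?_ ?_ ?_
  · intro a ha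
    rw [mem_filter] at ha ⊢
    exact ⟨mem_univ _, by rw [map_mul, ha.2]⟩
  · intro a ha
    rw [mem_filter] at ha ⊢
    refine ⟨mem_univ _, ?_⟩
    have h1 : quadraticChar (ZMod q) ((t : ZMod q) * ((↑t⁻¹ : ZMod q) * a)) =
        quadraticChar (ZMod q) (t : ZMod q) * e := by
      rw [Units.mul_inv_cancel_left]; exact ha.2
    rw [map_mul] at h1
    have h2 := congrArg (fun x => quadraticChar (ZMod q) (t : ZMod q) * x) h1
    simp only [← mul_assoc, hs, one_mul] at h2
    exact h2
  · intro a _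
    exact Units.inv_mul_cancel_left t a
  · intro a _
    exact Units.mul_inv_cancel_left t a
  · intro a _
    rw [AddChar.mulShift_apply]

theorem exists_mulShift [Algebra ℚ L] {ζ : L} (hζ : IsPrimitiveRoot ζ q) (σ : L ≃ₐ[ℚ] L) :
    ∃ t : (ZMod q)ˣ, ∀ a : ZMod q, σ (AddChar.zmodChar q hζ.pow_eq_one a) =
      AddChar.mulShift (AddChar.zmodChar q hζ.pow_eq_one) t a := by
  have hσ : IsPrimitiveRoot (σ ζ) q := hζ.map_of_injective σ.injective
  obtain ⟨i, hi, he⟩ := hζ.eq_pow_of_pow_eq_one hσ.pow_eq_one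
  have hi0 : (i : ZMod q) ≠ 0 := by
    intro h0
    rw [ZMod.natCast_eq_zero_iff] at h0
    have : σ ζ = 1 := by rw [← he, (hζ.pow_eq_one_iff_dvd i).mpr h0]
    exact hσ.ne_one (Fact.out : q.Prime).one_lt this
  refine ⟨Units.mk0 (i : ZMod q) hi0, fun a => ?_⟩
  rw [AddChar.mulShift_apply, Units.val_mk0, AddChar.zmodChar_apply, map_pow, ← he, ← pow_mul]
  rw [AddChar.zmodChar_apply, ZMod.val_mul, ← pow_eq_pow_mod _ hζ.pow_eq_one, ZMod.val_natCast,
    mul_comm (i % q), pow_mul', pow_mul', ← pow_eq_pow_mod _ hζ.pow_eq_one, ← pow_mul, ← pow_mul, mul_comm]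

theorem inv_two_sq (h2 : (2 : L) ≠ 0) : (1 / 2 : L) ^ 2 * 4 = 1 := by
  field_simp
  norm_num

theorem inv_two_mul_sq (h2 : (2 : L) ≠ 0) {x : L} (hx : x ≠ 0) : (1 / (2 * x)) ^ 2 * x ^ 2 * 4 = 1 := by
  field_simp
  norm_num

/-- Gauss: `1 + X + ... + X^(q-1) = A^2 + q B^2`. -/
theorem exists_gauss_form {q : ℕ} (hq : q.Prime) (h4 : q % 4 = 3) :
    ∃ A B : ℚ[X], ∑ k ∈ range q, (X : ℚ[X]) ^ k = A ^ 2 + C (q : ℚ) * B ^ 2 := by
  classical
  have := Fact.mk hq
  let L := CyclotomicField q ℚ
  have : NeZero (q : ℚ) := ⟨Nat.cast_ne_zero.mpr hq.ne_zero⟩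
  have hext : IsCyclotomicExtension {q} ℚ L := CyclotomicField.isCyclotomicExtension q ℚ
  have hgal : IsGalois ℚ L := IsCyclotomicExtension.isGalois {q} ℚ L
  have hfd : FiniteDimensional ℚ L := IsCyclotomicExtension.finiteDimensional {q} ℚ L
  let ζ := IsCyclotomicExtension.zeta q ℚ L
  have hζ : IsPrimitiveRoot ζ q := IsCyclotomicExtension.zeta_spec q ℚ L
  let ψ := AddChar.zmodChar q hζ.pow_eq_one
  have hψ : ψ.IsPrimitive := AddChar.zmodChar_primitive_of_primitive_root q hζ
  have hq2 : ringChar (ZMod q) ≠ 2 := by rw [ZMod.ringChar_zmod_n]; omega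
  let χ : MulChar (ZMod q) L := (quadraticChar (ZMod q)).ringHomComp (Int.castRingHom L)
  have hχ : χ.IsQuadratic := (quadraticChar_isQuadratic (ZMod q)).comp _
  have hχ1 : χ ≠ 1 := by
    rw [MulChar.ringHomComp_ne_one_iff (RingHom.injective_int _)]
    exact quadraticChar_ne_one hq2
  set G := gaussSum χ ψ with hG
  have hG2 : G ^ 2 = -(q : L) := by
    rw [hG, gaussSum_sq hχ1 hχ hψ, ZMod.card]
    have h1 : quadraticChar (ZMod q) (-1) = -1 := by
      rw [quadraticChar_neg_one_iff_not_isSquare, ZMod.exists_sq_eq_neg_one_iff]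
      omega
    show ((Int.castRingHom L) (quadraticChar (ZMod q) (-1))) * (q : L) = _
    rw [h1, map_neg, map_one]
    exact neg_one_mul (q : L)
  set f := half ψ 1 with hf
  set g := half ψ (-1) with hg
  -- the Galois action
  have hact : ∀ σ : L ≃ₐ[ℚ] L,
      ((f + g).map (σ : L →+* L) = f + g) ∧ (((f - g) * C G).map (σ : L →+* L) = (f - g) * C G) := by
    intro σ
    obtain ⟨t, ht⟩ := exists_mulShift hζ σ
    have hmap : ∀ e : ℤ, (half ψ e).map (σ : L →+* L) = half ψ (quadraticChar (ZMod q) (t : ZMod q) * e) := by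
      intro e
      rw [← half_mulShift, half, half, Polynomial.map_prod]
      refine Finset.prod_congr rfl fun a _ => ?_
      rw [Polynomial.map_sub, Polynomial.map_X, Polynomial.map_C]
      congr 2
      exact ht a
    have hGs : σ G = ((quadraticChar (ZMod q) (t : ZMod q) : ℤ) : L) * G := by
      have h1 : σ G = gaussSum χ (AddChar.mulShift ψ t) := by
        rw [hG, gaussSum, gaussSum, map_sum]
        refine Finset.sum_congr rfl fun a _ => ?_
        rw [map_mul, ht a]
        congr 1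
        exact map_intCast σ _
      have h2 := gaussSum_mulShift χ ψ t
      rw [← h1, ← hG] at h2
      have h3 : χ (t : ZMod q) = ((quadraticChar (ZMod q) (t : ZMod q) : ℤ) : L) := rfl
      rw [h3] at h2
      rcases quadraticChar_dichotomy (t.ne_zero) with e | e <;> rw [e] at h2 ⊢
      · simpa using h2
      · push_cast at h2 ⊢
        linear_combination -h2
    rcases quadraticChar_dichotomy (t.ne_zero) with e | e <;> rw [e] at hGs hmap
    · refine ⟨?_, ?_⟩
      · rw [Polynomial.map_add, hf, hg, hmap, hmap]; simp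
      · rw [Polynomial.map_mul, Polynomial.map_sub, Polynomial.map_C, hf, hg, hmap, hmap]
        simp [hGs]
    · refine ⟨?_, ?_⟩
      · rw [Polynomial.map_add, hf, hg, hmap, hmap]; simp [add_comm]
      · rw [Polynomial.map_mul, Polynomial.map_sub, Polynomial.map_C, hf, hg, hmap, hmap]
        simp [hGs]
        ring
  have hdesc : ∀ p : L[X], (∀ σ : L ≃ₐ[ℚ] L, p.map (σ : L →+* L) = p) →
      ∃ P : ℚ[X], P.map (algebraMap ℚ L) = p := by
    intro p hp
    have hl : p ∈ Polynomial.lifts (algebraMap ℚ L) := by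
      rw [Polynomial.lifts_iff_coeff_lifts]
      intro n
      refine (IsGalois.mem_range_algebraMap_iff_fixed _).mpr fun σ => ?_
      conv_rhs => rw [← hp σ]
      rw [Polynomial.coeff_map]
      rfl
    exact (Polynomial.mem_lifts p).mp hl
  obtain ⟨P, hP⟩ := hdesc _ fun σ => (hact σ).1
  obtain ⟨Q, hQ⟩ := hdesc _ fun σ => (hact σ).2
  -- the product of the two halves
  have hfg : f * g = ∑ k ∈ range q, (X : L[X]) ^ k := by
    have h1 : f * g = ∏ a ∈ univ.filter (fun a : ZMod q => a ≠ 0), (X - C (ψ a)) := by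
      rw [hf, hg, half, half, ← Finset.prod_union]
      · refine Finset.prod_congr ?_ fun _ _ => rfl
        ext a
        simp only [mem_union, mem_filter, mem_univ, true_and]
        constructor
        · rintro (h | h) rfl <;> simp at h
        · exact quadraticChar_dichotomy
      · rw [Finset.disjoint_filter]
        intro a _ h h'
        rw [h] at h'
        exact absurd h' (by norm_num)
    have h2 : (X - C (1 : L)) * (f * g) = X ^ q - 1 := by
      rw [h1, X_pow_sub_one_eq_prod hq.pos hζ, C_1]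
      have h3 : Polynomial.nthRootsFinset q (1 : L) = univ.image ψ := by
        refine (Finset.eq_of_subset_of_card_le ?_ ?_).symm
        · intro x hx
          obtain ⟨a, -, rfl⟩ := mem_image.mp hx
          rw [Polynomial.mem_nthRootsFinset hq.pos]
          show (ζ ^ a.val) ^ q = 1
          rw [← pow_mul, mul_comm, pow_mul, hζ.pow_eq_one, one_pow]
        · rw [hζ.card_nthRootsFinset, Finset.card_image_of_injective, Finset.card_univ, ZMod.card]
          intro a b hab
          exact ZMod.val_injective q (hζ.pow_inj (ZMod.val_lt a) (ZMod.val_lt b) hab)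
      have hinj : Set.InjOn ψ ((univ : Finset (ZMod q)) : Set (ZMod q)) := fun a _ b _ hab =>
        ZMod.val_injective q (hζ.pow_inj (ZMod.val_lt a) (ZMod.val_lt b) hab)
      rw [h3, Finset.prod_image hinj]
      have h0 : (univ : Finset (ZMod q)).filter (fun a => a ≠ 0) = univ.erase 0 := by
        ext a; simp
      rw [h0, ← Finset.mul_prod_erase univ (fun a => X - C (ψ a)) (mem_univ (0 : ZMod q)),
        AddChar.map_zero_eq_one, C_1]
    have h4 : (X - C (1 : L)) * (∑ k ∈ range q, (X : L[X]) ^ k) = X ^ q - 1 := by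
      rw [C_1, mul_comm]; exact geom_sum_mul X q
    exact mul_left_cancel₀ (X_sub_C_ne_zero 1) (h2.trans h4.symm)
  have hq0 : (q : ℚ) ≠ 0 := by exact_mod_cast hq.ne_zero
  refine ⟨C (1 / 2 : ℚ) * P, C (1 / (2 * q) : ℚ) * Q, ?_⟩
  refine Polynomial.map_injective (algebraMap ℚ L) (algebraMap ℚ L).injective ?_
  simp only [Polynomial.map_sum, Polynomial.map_pow, Polynomial.map_X, Polynomial.map_add,
    Polynomial.map_mul, Polynomial.map_C, hP, hQ]
  rw [← hfg]
  have hqL : (q : L) ≠ 0 := by
    have := IsCyclotomicExtension.neZero' q ℚ L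
    exact NeZero.ne _
  have h2L : (2 : L) ≠ 0 := by
    have : CharZero L := charZero_of_injective_algebraMap (algebraMap ℚ L).injective
    norm_num
  have hG2' : (C G : L[X]) ^ 2 = - C (q : L) := by rw [← C_pow, hG2, C_neg]
  simp only [map_div₀, map_one, map_mul, map_natCast, map_ofNat]
  have ha : (C (1 / 2 : L) : L[X]) ^ 2 * 4 = 1 := by
    rw [← C_pow, show (4 : L[X]) = C (4 : L) by rw [map_ofNat], ← C_mul, ← C_1]
    congr 1
    exact inv_two_sq h2L
  have hb : (C (1 / (2 * (q : L))) : L[X]) ^ 2 * (q : L[X]) ^ 2 * 4 = 1 := by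
    rw [show (q : L[X]) = C (q : L) by rw [map_natCast], show (4 : L[X]) = C (4 : L) by rw [map_ofNat],
      ← C_pow, ← C_pow, ← C_mul, ← C_mul, ← C_1]
    congr 1
    exact inv_two_mul_sq h2L hqL
  rw [map_natCast] at hG2'
  set a := (C (1 / 2 : L) : L[X])
  set b := (C (1 / (2 * (q : L))) : L[X])
  have hab : b ^ 2 * (q : L[X]) ^ 2 = a ^ 2 := by linear_combination (a ^ 2) * hb - (b ^ 2 * (q : L[X]) ^ 2) * ha
  linear_combination (-(f * g)) * ha + ((f - g) ^ 2) * hab + (-((q : L[X]) * b ^ 2 * (f - g) ^ 2)) * hG2'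

end Cfsg.Agent.Char.GaussForm
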