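import Mathlib
import Cfsg.Agent.Lib.Char.GaussForm

/-!
# Minus one as a sum of three squares

In a field of characteristic zero containing a square root of five and a nontrivial `r`-th root of unity
(`r ≥ 7` prime), `-1` is a sum of three squares.
-/

set_option autoImplicit false

namespace Cfsg.Agent.Char.ThreeSquares

open Finset

theorem three_ne_sq : ∀ u : ZMod 5, (3 : ZMod 5) ≠ u * u := by decide

/-- `x ^ 2 + 5 y ^ 2 = k q` with `k` two or three, when `q` is `3` modulo `20`. -/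
theorem thue {q : ℕ} (hq : q.Prime) (h20 : q % 20 = 3) :
    ∃ x y : ℤ, x ^ 2 + 5 * y ^ 2 = 2 * q ∨ x ^ 2 + 5 * y ^ 2 = 3 * q := by
  classical
  have := Fact.mk hq
  have h5 : Fact (Nat.Prime 5) := ⟨by norm_num⟩
  -- minus five is a square modulo q
  have hm1 : ¬ IsSquare (-1 : ZMod q) := by rw [ZMod.exists_sq_eq_neg_one_iff]; omega
  have hp5 : ¬ IsSquare (5 : ZMod q) := by
    have hiff : IsSquare (q : ZMod 5) ↔ IsSquare ((5 : ℕ) : ZMod q) :=
      ZMod.exists_sq_eq_prime_iff_of_mod_four_eq_one (by norm_num) (by omega)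
    intro h
    have h' : IsSquare (q : ZMod 5) := hiff.mpr (by exact_mod_cast h)
    rw [← ZMod.natCast_mod, show q % 5 = 3 by omega] at h'
    obtain ⟨u, hu⟩ := h'
    exact three_ne_sq u (by simpa using hu)
  have hsq : IsSquare (-5 : ZMod q) := by
    have h1 := (quadraticChar_neg_one_iff_not_isSquare (F := ZMod q) (a := -1)).mpr hm1
    have h2 := (quadraticChar_neg_one_iff_not_isSquare (F := ZMod q) (a := 5)).mpr hp5
    by_contra hc
    have h3 := (quadraticChar_neg_one_iff_not_isSquare (F := ZMod q) (a := -5)).mpr hc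
    rw [show (-5 : ZMod q) = -1 * 5 by ring, map_mul, h1, h2] at h3
    norm_num at h3
  obtain ⟨t, ht⟩ := hsq
  set n := Nat.sqrt q + 1 with hn
  have hcard : Fintype.card (ZMod q) < Fintype.card (Fin n × Fin n) := by
    rw [ZMod.card, Fintype.card_prod, Fintype.card_fin]
    exact Nat.lt_succ_sqrt q
  obtain ⟨a, b, hab, he⟩ := Fintype.exists_ne_map_eq_of_card_lt
    (fun p : Fin n × Fin n => ((p.1 : ℕ) : ZMod q) - t * ((p.2 : ℕ) : ZMod q)) hcard
  set x : ℤ := (a.1 : ℕ) - (b.1 : ℕ) with hx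
  set y : ℤ := (a.2 : ℕ) - (b.2 : ℕ) with hy
  have hxy : (x : ZMod q) = t * (y : ZMod q) := by
    rw [hx, hy]; push_cast
    linear_combination he
  have hdvd : (q : ℤ) ∣ x ^ 2 + 5 * y ^ 2 := by
    rw [← ZMod.intCast_zmod_eq_zero_iff_dvd]
    push_cast
    rw [hxy]
    linear_combination (-((y : ZMod q) ^ 2)) * ht
  have hne : x ≠ 0 ∨ y ≠ 0 := by
    by_contra hc
    refine hab (Prod.ext (Fin.ext ?_) (Fin.ext ?_)) <;> omega
  obtain ⟨k, hk⟩ := hdvd
  have hs : ((Nat.sqrt q : ℤ)) ^ 2 ≤ q := by exact_mod_cast Nat.sqrt_le' q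
  have hs' : ((Nat.sqrt q : ℤ)) ^ 2 ≠ q := by
    intro e
    have e' : Nat.sqrt q ^ 2 = q := by exact_mod_cast e
    exact Nat.Prime.not_prime_pow (le_refl 2) (e'.symm ▸ hq)
  have hxb : x ^ 2 ≤ ((Nat.sqrt q : ℤ)) ^ 2 := by
    have := a.1.isLt; have := b.1.isLt
    exact sq_le_sq' (by omega) (by omega)
  have hyb : y ^ 2 ≤ ((Nat.sqrt q : ℤ)) ^ 2 := by
    have := a.2.isLt; have := b.2.isLt
    exact sq_le_sq' (by omega) (by omega)
  have hqpos : (0 : ℤ) < q := by exact_mod_cast hq.pos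
  have hk0 : 0 < k := by
    have hpos : 0 < x ^ 2 + 5 * y ^ 2 := by
      rcases hne with h | h
      · have := pow_two_pos_of_ne_zero h; positivity
      · have := pow_two_pos_of_ne_zero h; positivity
    nlinarith
  have hk6 : k < 6 := by
    have hlt : ((Nat.sqrt q : ℤ)) ^ 2 < q := lt_of_le_of_ne hs hs'
    nlinarith
  have hq20 : (q : ZMod 20) = 3 := by rw [← ZMod.natCast_mod, h20]; rfl
  have hmod : (x : ZMod 20) ^ 2 + 5 * (y : ZMod 20) ^ 2 = 3 * (k : ZMod 20) := by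
    have h := congrArg (fun z : ℤ => (z : ZMod 20)) hk
    push_cast at h
    rw [h, hq20]
  interval_cases k
  · exfalso
    norm_num at hmod
    exact (by decide : ∀ u v : ZMod 20, u ^ 2 + 5 * v ^ 2 ≠ 3) _ _ hmod
  · exact ⟨x, y, Or.inl (by linarith)⟩
  · exact ⟨x, y, Or.inr (by linarith)⟩
  · exfalso
    -- halve
    have h2 : (x : ZMod 4) ^ 2 + 5 * (y : ZMod 4) ^ 2 = 0 := by
      have h := congrArg (fun z : ℤ => (z : ZMod 4)) hk
      push_cast at h
      rw [h, show (4 : ZMod 4) = 0 from rfl, mul_zero]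
    have h3 := (by decide : ∀ u v : ZMod 4, u ^ 2 + 5 * v ^ 2 = 0 → (u = 0 ∨ u = 2) ∧ (v = 0 ∨ v = 2)) _ _ h2
    have hev : ∀ z : ℤ, ((z : ZMod 4) = 0 ∨ (z : ZMod 4) = 2) → ∃ w, z = 2 * w := by
      intro z hz
      have : (2 : ℤ) ∣ z := by
        rcases hz with h | h
        · have := (ZMod.intCast_zmod_eq_zero_iff_dvd z 4).mp h
          omega
        · have h' : ((z - 2 : ℤ) : ZMod 4) = 0 := by push_cast; rw [h]; rfl
          have := (ZMod.intCast_zmod_eq_zero_iff_dvd (z - 2) 4).mp h'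
          omega
      exact this
    obtain ⟨u, hu⟩ := hev x h3.1
    obtain ⟨v, hv⟩ := hev y h3.2
    rw [hu, hv] at hk
    have hk' : u ^ 2 + 5 * v ^ 2 = q := by linarith
    have h := congrArg (fun z : ℤ => (z : ZMod 20)) hk'
    push_cast at h
    rw [hq20] at h
    exact (by decide : ∀ u v : ZMod 20, u ^ 2 + 5 * v ^ 2 ≠ 3) _ _ h
  · exfalso
    have h5x : (5 : ℤ) ∣ x := by
      have h' : (5 : ℤ) ∣ x ^ 2 := ⟨q - y ^ 2, by linarith⟩
      exact Int.Prime.dvd_pow' (by norm_num) h'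
    obtain ⟨u, hu⟩ := h5x
    rw [hu] at hk
    have hk' : 5 * u ^ 2 + y ^ 2 = q := by linarith
    have h := congrArg (fun z : ℤ => (z : ZMod 20)) hk'
    push_cast at h
    rw [hq20] at h
    exact (by decide : ∀ u v : ZMod 20, 5 * u ^ 2 + v ^ 2 ≠ 3) _ _ h

variable {F : Type*} [Field F] [CharZero F]

theorem exists_two_squares {s : F} (hs : s ^ 2 = 5) {q : ℕ} (hq : q.Prime) (h20 : q % 20 = 3) :
    ∃ c d : F, (q : F) = c ^ 2 + d ^ 2 := by
  obtain ⟨x, y, h | h⟩ := thue hq h20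
  · have h' : (x : F) ^ 2 + 5 * (y : F) ^ 2 = 2 * (q : F) := by
      have h' := congrArg (fun z : ℤ => (z : F)) h
      push_cast at h'
      exact h'
    refine ⟨((x : F) + s * y) / 2, ((x : F) - s * y) / 2, ?_⟩
    linear_combination -(1 / 2 : F) * h' - ((y : F) ^ 2 / 2) * hs
  · have h' : (x : F) ^ 2 + 5 * (y : F) ^ 2 = 3 * (q : F) := by
      have h' := congrArg (fun z : ℤ => (z : F)) h
      push_cast at h'
      exact h'
    set A := (x : F) - 5 * y with hA
    set B := s * ((x : F) + y) with hB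
    refine ⟨(A + B) / 6, (B - A) / 6, ?_⟩
    rw [hA, hB]
    linear_combination -(1 / 3 : F) * h' - (((x : F) + y) ^ 2 / 18) * hs

omit [CharZero F] in
theorem form_mul {c : F} {a b : F} (ha : ∃ X Y, a = X ^ 2 + c * Y ^ 2) (hb : ∃ X Y, b = X ^ 2 + c * Y ^ 2) :
    ∃ X Y, a * b = X ^ 2 + c * Y ^ 2 := by
  obtain ⟨X, Y, rfl⟩ := ha
  obtain ⟨U, V, rfl⟩ := hb
  exact ⟨X * U - c * (Y * V), X * V + Y * U, by ring⟩

/-- `-1` is a sum of three squares. -/
theorem exists_neg_one_eq {s ζ : F} (hs : s ^ 2 = 5) {r : ℕ} (hr : r.Prime) (hr7 : 7 ≤ r)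
    (hζ : ζ ^ r = 1) (hζ1 : ζ ≠ 1) : ∃ X Y Z : F, X ^ 2 + Y ^ 2 + Z ^ 2 = -1 := by
  classical
  have := Fact.mk hr
  -- a prime which is three modulo twenty and a non-residue modulo r
  obtain ⟨n, hn⟩ := FiniteField.exists_nonsquare (F := ZMod r) (by rw [ZMod.ringChar_zmod_n]; omega)
  have hn0 : n ≠ 0 := by rintro rfl; exact hn IsSquare.zero
  have hco : Nat.Coprime 20 r := by
    rw [Nat.coprime_comm, hr.coprime_iff_not_dvd]
    intro h
    have := Nat.le_of_dvd (by norm_num) h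
    interval_cases r <;> first | omega | norm_num at *
  obtain ⟨a, ha1, ha2⟩ := Nat.chineseRemainder hco 3 n.val
  have hac : a.Coprime (20 * r) := by
    refine Nat.Coprime.mul_right ?_ ?_
    · have h : a % 20 = 3 := ha1
      rw [Nat.coprime_comm, Nat.coprime_iff_gcd_eq_one, Nat.gcd_rec, h]
      rfl
    · rw [Nat.coprime_comm, hr.coprime_iff_not_dvd]
      intro hd
      have h0 : ((a : ℕ) : ZMod r) = 0 := (ZMod.natCast_eq_zero_iff a r).mpr hd
      rw [(ZMod.natCast_eq_natCast_iff _ _ _).mpr ha2, ZMod.natCast_zmod_val] at h0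
      exact hn0 h0
  obtain ⟨q, -, hq, hqa⟩ := Nat.forall_exists_prime_gt_and_modEq 0
    (Nat.mul_ne_zero (by norm_num) hr.ne_zero) hac
  have hq20 : q % 20 = 3 := (hqa.of_mul_right r).trans ha1
  have hqr : (q : ZMod r) = n := by
    have h : q ≡ n.val [MOD r] := (hqa.of_mul_left 20).trans ha2
    rw [(ZMod.natCast_eq_natCast_iff _ _ _).mpr h, ZMod.natCast_zmod_val]
  have hpow : (q : ZMod r) ^ (r / 2) = -1 := by
    rw [hqr]
    rcases ZMod.pow_div_two_eq_neg_one_or_one r hn0 with h | h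
    · exact absurd ((ZMod.euler_criterion r hn0).mpr h) hn
    · exact h
  -- the form
  obtain ⟨A, B, hAB⟩ := GaussForm.exists_gauss_form hq (by omega)
  have hval : ∀ u : F, ∃ X Y : F, ∑ k ∈ range q, u ^ k = X ^ 2 + (q : F) * Y ^ 2 := by
    intro u
    refine ⟨Polynomial.aeval u A, Polynomial.aeval u B, ?_⟩
    have h := congrArg (Polynomial.aeval u) hAB
    simp only [map_sum, map_pow, Polynomial.aeval_X, map_add, map_mul,
      map_natCast] at h
    exact h
  have htel : ∀ m : ℕ, ∃ X Y : F, (X ^ 2 + (q : F) * Y ^ 2) * (ζ - 1) = ζ ^ (q ^ m) - 1 := by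
    intro m
    induction m with
    | zero => exact ⟨1, 0, by simp⟩
    | succ m ih =>
      obtain ⟨X, Y, hXY⟩ := ih
      obtain ⟨U, V, hUV⟩ := hval (ζ ^ (q ^ m))
      obtain ⟨X', Y', h'⟩ := form_mul (c := (q : F)) ⟨U, V, rfl⟩ ⟨X, Y, rfl⟩
      refine ⟨X', Y', ?_⟩
      rw [← h', mul_assoc, hXY, ← hUV, geom_sum_mul, ← pow_mul, ← pow_succ]
  obtain ⟨X, Y, hXY⟩ := htel (r / 2)
  have hζr : ζ ^ (q ^ (r / 2)) * ζ = 1 := by
    have h : ((q ^ (r / 2) + 1 : ℕ) : ZMod r) = 0 := by push_cast; rw [hpow]; ring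
    obtain ⟨k, hk⟩ := (ZMod.natCast_eq_zero_iff _ _).mp h
    rw [← pow_succ, hk, pow_mul, hζ, one_pow]
  have hone : (X ^ 2 + (q : F) * Y ^ 2) * ζ = -1 := by
    refine mul_right_cancel₀ (sub_ne_zero.mpr hζ1) ?_
    linear_combination ζ * hXY + hζr
  obtain ⟨c, d, hcd⟩ := exists_two_squares hs hq hq20
  set e := ζ ^ ((r + 1) / 2) with he
  have he2 : e ^ 2 = ζ := by
    have h : (r + 1) / 2 * 2 = r + 1 := by
      have := hr.eq_two_or_odd
      omega
    rw [he, ← pow_mul, h, pow_succ, hζ, one_mul]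
  refine ⟨X * e, c * Y * e, d * Y * e, ?_⟩
  rw [hcd] at hone
  linear_combination hone + (X ^ 2 + (c ^ 2 + d ^ 2) * Y ^ 2) * he2

end Cfsg.Agent.Char.ThreeSquares
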