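import Mathlib
import Cfsg.Agent.Lib.Grp.Zassenhaus.Complement
import Cfsg.Agent.Lib.Char.SL25Facts
import Cfsg.Agent.Lib.Char.ThreeSquares

/-!
# Nonsolvable finite groups in division rings
-/

set_option autoImplicit false

namespace Cfsg.Agent.Char.DivIco

open Grp.Zas Module TensorProduct
open SL25Facts (G25)

universe u

variable {D : Type u} [DivisionRing D]

theorem charZero_of_not_solvable (H : Subgroup Dˣ) [Finite H] (hH : ¬ Group.IsSolvable H) : CharZero D := by
  rcases CharP.exists' D with h0 | ⟨p, hp, hchar⟩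
  · exact h0
  exfalso
  letI : Algebra (ZMod p) D := ZMod.algebra D p
  let S : Submonoid D := H.toSubmonoid.map (Units.coeHom D)
  have hS : (S : Set D).Finite := by
    have : (S : Set D) = Set.range fun h : H => ((h : Dˣ) : D) := by
      ext x
      simp [S, Units.coeHom]
    rw [this]
    exact Set.finite_range _
  let R : Subalgebra (ZMod p) D := Algebra.adjoin (ZMod p) (S : Set D)
  have hfin : Finite R := by
    have hspan : Subalgebra.toSubmodule R = Submodule.span (ZMod p) (S : Set D) := by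
      rw [Algebra.adjoin_eq_span, Submonoid.closure_eq]
    have : Module.Finite (ZMod p) (Submodule.span (ZMod p) (S : Set D)) := Module.Finite.span_of_finite _ hS
    have h2 : Finite (Submodule.span (ZMod p) (S : Set D)) := Module.finite_of_finite (ZMod p)
    have h3 : Finite (Subalgebra.toSubmodule R) := hspan ▸ h2
    exact h3
  have hfield := Finite.isDomain_to_isField R
  have hmem : ∀ h : H, ((h : Dˣ) : D) ∈ R := fun h => Algebra.subset_adjoin ⟨h, h.2, rfl⟩
  have hcomm : IsMulCommutative H := ⟨⟨fun g h => Subtype.ext (Units.ext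
    (congrArg Subtype.val (hfield.mul_comm ⟨_, hmem g⟩ ⟨_, hmem h⟩)))⟩⟩
  refine hH ?_
  exact Group.isSolvable_of_comm fun g h => hcomm.is_comm.comm g h

theorem hasFpf [CharZero D] (H : Subgroup Dˣ) [Finite H] : HasFpf.{u, u} H := by
  classical
  let W : Submodule ℚ D := Submodule.span ℚ (Set.range fun h : H => ((h : Dˣ) : D))
  have hWfin : Module.Finite ℚ W := Module.Finite.span_of_finite _ (Set.finite_range _)
  have hW : ∀ (g : H), ∀ w ∈ W, ((g : Dˣ) : D) * w ∈ W := by
    intro g w hw
    induction hw using Submodule.span_induction with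
    | mem x hx =>
      obtain ⟨h, rfl⟩ := hx
      exact Submodule.subset_span ⟨g * h, by simp⟩
    | zero => rw [mul_zero]; exact zero_mem _
    | add x y _ _ hx hy => rw [mul_add]; exact add_mem hx hy
    | smul c x _ hx => rw [mul_smul_comm]; exact Submodule.smul_mem _ c hx
  have h1 : (1 : D) ∈ W := Submodule.subset_span ⟨1, by simp⟩
  let ρ0 : H →* End ℚ W :=
    { toFun := fun g =>
        { toFun := fun w => ⟨((g : Dˣ) : D) * w, hW g w w.2⟩
          map_add' := fun v w => Subtype.ext (mul_add _ _ _)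
          map_smul' := fun c w => Subtype.ext (mul_smul_comm c _ _) }
      map_one' := LinearMap.ext fun w => Subtype.ext (by simp)
      map_mul' := fun g h => LinearMap.ext fun w => Subtype.ext (by simp [mul_assoc]) }
  let ρ : H →* End (AlgebraicClosure ℚ) (AlgebraicClosure ℚ ⊗[ℚ] W) :=
    (Module.End.baseChangeHom ℚ (AlgebraicClosure ℚ) W).toMonoidHom.comp ρ0
  have hnt0 : Nontrivial W := ⟨⟨⟨1, h1⟩, 0, fun e => one_ne_zero (congrArg Subtype.val e)⟩⟩
  have hrank : finrank (AlgebraicClosure ℚ) (AlgebraicClosure ℚ ⊗[ℚ] W) = finrank ℚ W :=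
    Module.finrank_baseChange
  have hnt : Nontrivial (AlgebraicClosure ℚ ⊗[ℚ] W) :=
    nontrivial_of_finrank_pos (R := AlgebraicClosure ℚ) (by rw [hrank]; exact finrank_pos)
  have hfd : FiniteDimensional (AlgebraicClosure ℚ) (AlgebraicClosure ℚ ⊗[ℚ] W) := Module.Finite.base_change _ _ _
  refine ⟨AlgebraicClosure ℚ, inferInstance, inferInstance, AlgebraicClosure ℚ ⊗[ℚ] W, inferInstance,
    inferInstance, hfd, hnt, ρ, fun g hg w hw => ?_, Nat.cast_ne_zero.mpr Nat.card_pos.ne'⟩
  have hinj : Function.Injective ((ρ0 g - 1 : End ℚ W).baseChange (AlgebraicClosure ℚ)) := by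
    rw [LinearMap.baseChange_eq_ltensor]
    refine Module.Flat.lTensor_preserves_injective_linearMap _ ?_
    rw [← LinearMap.ker_eq_bot, LinearMap.ker_eq_bot']
    intro v hv
    have hv' : ((g : Dˣ) : D) * (v : D) = (v : D) := by
      rw [LinearMap.sub_apply, End.one_apply, sub_eq_zero] at hv
      exact congrArg Subtype.val hv
    refine Subtype.ext ?_
    by_contra hv0
    exact hg (Subtype.ext (Units.ext ((mul_eq_right₀ hv0).mp hv')))
  refine hinj ?_
  rw [map_zero, LinearMap.baseChange_sub, LinearMap.sub_apply, sub_eq_zero]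
  have h1' : ((1 : End ℚ W).baseChange (AlgebraicClosure ℚ)) w = w := by
    rw [show (1 : End ℚ W) = LinearMap.id from rfl, LinearMap.baseChange_id]; rfl
  rw [h1']
  exact hw

/-- Three squares in the commutant of a quaternion pair do not sum to `-1`. -/
theorem three_squares_ne [CharZero D] {I J : D} (hI : I * I = -1) (hJ : J * J = -1) (hJI : J * I = -(I * J))
    {X Y Z : D} (hXI : Commute X I) (hXJ : Commute X J) (hYI : Commute Y I) (hYJ : Commute Y J)
    (hZI : Commute Z I) (hZJ : Commute Z J) (hXY : Commute X Y) (hXZ : Commute X Z) (hYZ : Commute Y Z) :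
    X * X + Y * Y + Z * Z ≠ -1 := by
  intro h
  have hne : ∀ {w : D}, w = -w → w = 0 := by
    intro w hw
    have : (2 : D) * w = 0 := by rw [two_mul]; nth_rewrite 2 [hw]; exact add_neg_cancel w
    exact (mul_eq_zero.mp this).resolve_left two_ne_zero
  have key : ∀ {A B U V : D}, Commute U B → (A * U) * (B * V) = (A * B) * (U * V) :=
    fun {A B U V} hc => by rw [mul_assoc, ← mul_assoc U B V, hc.eq, mul_assoc B U V, ← mul_assoc]
  set K := I * J with hKdef
  have hZK : Commute Z K := hZI.mul_right hZJ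
  have hXK : Commute X K := hXI.mul_right hXJ
  have hYK : Commute Y K := hYI.mul_right hYJ
  have hIK : I * K = -J := by rw [hKdef, ← mul_assoc, hI, neg_one_mul]
  have hKI : K * I = J := by rw [hKdef, mul_assoc, hJI, mul_neg, ← mul_assoc, hI, neg_one_mul, neg_neg]
  have hJK : J * K = I := by rw [hKdef, ← mul_assoc, hJI, neg_mul, mul_assoc, hJ, mul_neg_one, neg_neg]
  have hKJ : K * J = -I := by rw [hKdef, mul_assoc, hJ, mul_neg_one]
  have hKK : K * K = -1 := by
    calc K * K = I * (J * K) := by rw [hKdef, mul_assoc]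
      _ = -1 := by rw [hJK, hI]
  set P := X * I + Y * J + Z * K with hP
  have hPP : P * P = 1 := by
    have e1 : P * P = X * X * (I * I) + Y * Y * (J * J) + Z * Z * (K * K) + (X * Y * (I * J) + Y * X * (J * I)) +
        (X * Z * (I * K) + Z * X * (K * I)) + (Y * Z * (J * K) + Z * Y * (K * J)) := by
      rw [hP]
      simp only [add_mul, mul_add]
      rw [key hXI.symm, key hXJ.symm, key hXK.symm, key hYI.symm, key hYJ.symm, key hYK.symm, key hZI.symm,
        key hZJ.symm, key hZK.symm]
      abel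
    have e2 : -(X * X + Y * Y + Z * Z) = (1 : D) := by rw [h, neg_neg]
    refine Eq.trans ?_ e2
    rw [e1, hI, hJ, hKK, ← hKdef, (show J * I = -K from hJI), hIK, hKI, hJK, hKJ, ← hXY.eq, ← hXZ.eq, ← hYZ.eq]
    simp only [mul_neg, mul_one]
    abel
  rcases mul_self_eq_one_iff.mp hPP with hP1 | hP1
  all_goals
    have hIP : I * P = P * I := by rw [hP1]; simp
    have h3 : I * P - P * I = X * (I * I) - X * (I * I) + (Y * (I * J) - Y * (J * I)) + (Z * (I * K) - Z * (K * I)) := by
      rw [hP]
      simp only [mul_add, add_mul]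
      rw [← mul_assoc I X I, ← hXI.eq, ← mul_assoc I Y J, ← hYI.eq, ← mul_assoc I Z K, ← hZI.eq]
      simp only [mul_assoc]
      abel
    rw [hIP, sub_self, sub_self, zero_add, hJI, hIK, hKI] at h3
    have hJP : J * P = P * J := by rw [hP1]; simp
    have h4 : J * P - P * J = (X * (J * I) - X * (I * J)) + (Y * (J * J) - Y * (J * J)) + (Z * (J * K) - Z * (K * J)) := by
      rw [hP]
      simp only [mul_add, add_mul]
      rw [← mul_assoc J X I, ← hXJ.eq, ← mul_assoc J Y J, ← hYJ.eq, ← mul_assoc J Z K, ← hZJ.eq]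
      simp only [mul_assoc]
      abel
    rw [hJP, sub_self, sub_self, add_zero, hJI, hJK, hKJ] at h4
    simp only [mul_neg, sub_neg_eq_add] at h3 h4
    -- conjugating by `I` separates the components
    have h3' : Y * K - Z * J = 0 := by
      refine hne ?_
      have : (Y * K - Z * J) + (Y * K - Z * J) = 0 := by rw [h3]; abel
      exact eq_neg_of_add_eq_zero_left this
    have h4' : Z * I - X * K = 0 := by
      refine hne ?_
      have : (Z * I - X * K) + (Z * I - X * K) = 0 := by rw [h4]; abel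
      exact eq_neg_of_add_eq_zero_left this
    have hI0 : I ≠ 0 := fun e => by rw [e, zero_mul] at hI; exact neg_ne_zero.mpr one_ne_zero hI.symm
    have hJ0 : J ≠ 0 := fun e => by rw [e, zero_mul] at hJ; exact neg_ne_zero.mpr one_ne_zero hJ.symm
    -- the three components vanish
    have hI' : I = -(K * J) := by rw [hKJ, neg_neg]
    have hZ0 : Z = 0 := by
      have hZI' : Z = -(X * J) := by
        have : Z * I * I = X * K * I := by rw [sub_eq_zero.mp h4']
        rw [mul_assoc, hI, mul_assoc, hKI, mul_neg_one] at this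
        rw [← this, neg_neg]
      have h5 : Commute Z I := hZI
      rw [hZI', Commute.neg_left_iff, commute_iff_eq, mul_assoc, hJI, ← mul_assoc, ← hXI.eq, mul_neg,
        mul_assoc] at h5
      have := hne h5.symm
      rcases mul_eq_zero.mp this with e | e
      · rw [hZI', e, zero_mul, neg_zero]
      · rcases mul_eq_zero.mp e with e | e
        · exact absurd e hI0
        · exact absurd e hJ0
    have hX0 : X = 0 := by
      have := h4'
      rw [hZ0, zero_mul, zero_sub, neg_eq_zero] at this
      exact (mul_eq_zero.mp this).resolve_right fun e => (mul_eq_zero.mp e).elim hI0 hJ0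
    have hY0 : Y = 0 := by
      have := h3'
      rw [hZ0, zero_mul, sub_zero] at this
      exact (mul_eq_zero.mp this).resolve_right fun e => (mul_eq_zero.mp e).elim hI0 hJ0
    rw [hX0, hY0, hZ0] at h
    simp at h

section Embedded

variable [CharZero D] {φ : G25 →* D} (hφ : Function.Injective φ)

include hφ

theorem phi_z : φ SL25Facts.z = -1 := by
  refine (mul_self_eq_one_iff.mp ?_).resolve_left fun h => ?_
  · rw [← map_mul, SL25Facts.z_sq, map_one]
  · exact SL25Facts.z_ne (hφ (by rw [h, map_one]))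

theorem quat : φ SL25Facts.i * φ SL25Facts.i = -1 ∧ φ SL25Facts.a * φ SL25Facts.a = -1 ∧
    φ SL25Facts.a * φ SL25Facts.i = -(φ SL25Facts.i * φ SL25Facts.a) := by
  refine ⟨?_, ?_, ?_⟩
  · rw [← map_mul, SL25Facts.i_sq, phi_z hφ]
  · rw [← map_mul, SL25Facts.a_sq, phi_z hφ]
  · rw [← map_mul, SL25Facts.ai, map_mul, map_mul, phi_z hφ, neg_one_mul]

theorem sqrtFive : (2 * (φ SL25Facts.T + φ SL25Facts.T ^ 4) + 1) * (2 * (φ SL25Facts.T + φ SL25Facts.T ^ 4) + 1) = 5 ∧
    ∀ x : G25, Commute (2 * (φ SL25Facts.T + φ SL25Facts.T ^ 4) + 1) (φ x) := by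
  set A := φ SL25Facts.a with hA
  set B := φ SL25Facts.b with hB
  set T := φ SL25Facts.T with hT
  have hAA : A * A = -1 := (quat hφ).2.1
  have hT5 : T ^ 5 = 1 := by rw [hT, ← map_pow, SL25Facts.T_five, map_one]
  have hAB : A * B = T := by rw [hA, hB, ← map_mul, SL25Facts.ab]
  have hB3 : B ^ 3 = -1 := by rw [hB, ← map_pow, SL25Facts.b_cube, phi_z hφ]
  have hBB : B * B = B - 1 := by
    have hne : B + 1 ≠ 0 := fun e => SL25Facts.b_ne (hφ (by
      rw [phi_z hφ]; exact eq_neg_of_add_eq_zero_left e))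
    have h0 : (B + 1) * (B * B - B + 1) = 0 := by
      have e : (B + 1) * (B * B - B + 1) = B ^ 3 + 1 := by noncomm_ring
      rw [e, hB3]; exact neg_add_cancel 1
    have := (mul_eq_zero.mp h0).resolve_left hne
    rw [← sub_eq_zero, ← this]; abel
  set C := A * B + B * A - A with hC
  have hCA : Commute C A := by
    have e1 : C * A = A * B * A + B * (A * A) - A * A := by rw [hC]; noncomm_ring
    have e2 : A * C = (A * A) * B + A * B * A - A * A := by rw [hC]; noncomm_ring
    rw [commute_iff_eq, e1, e2, hAA]; noncomm_ring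
  have hCB : Commute C B := by
    have e1 : C * B = A * (B * B) + B * A * B - A * B := by rw [hC]; noncomm_ring
    have e2 : B * C = B * A * B + (B * B) * A - B * A := by rw [hC]; noncomm_ring
    rw [commute_iff_eq, e1, e2, hBB]; noncomm_ring
  have hinv : B * A - A = T ^ 4 := by
    have e : (B * A - A) * T = 1 := by
      rw [← hAB, show (B * A - A) * (A * B) = B * (A * A) * B - (A * A) * B by noncomm_ring, hAA]
      rw [show B * (-1) * B - (-1) * B = -(B * B) + B by noncomm_ring, hBB]
      abel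
    calc B * A - A = (B * A - A) * (T * T ^ 4) := by rw [← pow_succ', hT5, mul_one]
      _ = T ^ 4 := by rw [← mul_assoc, e, one_mul]
  have hCT : T + T ^ 4 = C := by rw [hC, ← hinv, ← hAB]; abel
  refine ⟨?_, fun x => ?_⟩
  · have hne : T - 1 ≠ 0 := fun e => SL25Facts.T_ne (hφ (by rw [map_one]; exact sub_eq_zero.mp e))
    have h0 : (T - 1) * (1 + T + T ^ 2 + T ^ 3 + T ^ 4) = 0 := by
      have e : (T - 1) * (1 + T + T ^ 2 + T ^ 3 + T ^ 4) = T ^ 5 - 1 := by noncomm_ring
      rw [e, hT5, sub_self]
    have h1 := (mul_eq_zero.mp h0).resolve_left hne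
    have e : (2 * (T + T ^ 4) + 1) * (2 * (T + T ^ 4) + 1) =
        4 * (1 + T + T ^ 2 + T ^ 3 + T ^ 4) + 4 * (T ^ 5 - 1) * (2 + T ^ 3) + (1 + 1 + 1 + 1 + 1) := by noncomm_ring
    rw [e, h1, hT5, sub_self]
    norm_num
  · let K : Subgroup G25 :=
      { carrier := {x | Commute C (φ x)}
        one_mem' := by show Commute C (φ 1); rw [map_one]; exact Commute.one_right C
        mul_mem' := fun {x y} hx hy => by show Commute C (φ (x * y)); rw [map_mul]; exact Commute.mul_right hx hy
        inv_mem' := fun {x} hx => by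
          show Commute C (φ x⁻¹)
          have h : φ x⁻¹ = (φ x)⁻¹ := eq_inv_of_mul_eq_one_left (by rw [← map_mul, inv_mul_cancel, map_one])
          rw [h]
          exact Commute.inv_right₀ hx }
    have htop : K = ⊤ := SL25Facts.eq_top (show Commute C T from hAB ▸ hCA.mul_right hCB) hCA
    have hx : Commute C (φ x) := (htop ▸ Subgroup.mem_top x : x ∈ K)
    rw [hCT]
    exact ((Commute.ofNat_left 2 _).mul_left hx).add_left (Commute.one_left _)

end Embedded

/-- No element of prime order at least seven centralizes the image of `SL(2,5)`. -/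
theorem no_large_prime [CharZero D] {φ : G25 →* D} (hφ : Function.Injective φ) {x : D} {r : ℕ} (hr : r.Prime)
    (hr7 : 7 ≤ r) (hx : x ^ r = 1) (hxc : ∀ y, Commute x (φ y)) : x = 1 := by
  by_contra hx1
  obtain ⟨hs5, hsc⟩ := sqrtFive hφ
  set s := 2 * (φ SL25Facts.T + φ SL25Facts.T ^ 4) + 1 with hs
  have hxs : Commute x s :=
    (((Commute.ofNat_right x 2).mul_right ((hxc _).add_right ((hxc _).pow_right 4)))).add_right (Commute.one_right x)
  let C1 : Set D := {y | Commute y x ∧ Commute y s}
  let K : Subfield D :=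
    { Subring.centralizer C1 with
      inv_mem' := fun y hy => Set.inv_mem_centralizer₀ hy }
  have hKmem : ∀ {y : D}, y ∈ K ↔ ∀ w ∈ C1, w * y = y * w := fun {y} => Iff.rfl
  have hxK : x ∈ K := hKmem.mpr fun w hw => hw.1.eq
  have hsK : s ∈ K := hKmem.mpr fun w hw => hw.2.eq
  have hKC : ∀ y ∈ K, y ∈ C1 := fun y hy =>
    ⟨((hKmem.mp hy) x ⟨Commute.refl x, hxs⟩).symm, ((hKmem.mp hy) s ⟨hxs.symm, Commute.refl s⟩).symm⟩
  have hcomm : ∀ u v : K, u * v = v * u := fun u v => Subtype.ext ((hKmem.mp v.2) u.1 (hKC u.1 u.2))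
  letI : Field K := { (inferInstance : DivisionRing K) with mul_comm := hcomm }
  haveI : CharZero K := ⟨fun m n h => Nat.cast_injective (R := D) (by
    have := congrArg Subtype.val h
    simpa using this)⟩
  have hs' : (⟨s, hsK⟩ : K) ^ 2 = 5 := Subtype.ext (by
    show s ^ 2 = ((5 : K) : D)
    rw [pow_two, hs5]
    rfl)
  obtain ⟨X, Y, Z, hXYZ⟩ := ThreeSquares.exists_neg_one_eq hs' hr hr7 (ζ := (⟨x, hxK⟩ : K))
    (Subtype.ext hx) (fun e => hx1 (congrArg Subtype.val e))
  obtain ⟨hI, hJ, hJI⟩ := quat hφ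
  have hc : ∀ (y : K) (g : G25), Commute (y : D) (φ g) := fun y g =>
    ((hKmem.mp y.2) (φ g) ⟨(hxc g).symm, (hsc g).symm⟩).symm
  refine three_squares_ne hI hJ hJI (hc X _) (hc X _) (hc Y _) (hc Y _) (hc Z _) (hc Z _)
    (congrArg Subtype.val (hcomm X Y)) (congrArg Subtype.val (hcomm X Z)) (congrArg Subtype.val (hcomm Y Z)) ?_
  have := congrArg Subtype.val hXYZ
  simpa [pow_two] using this

theorem main (H : Subgroup Dˣ) [Finite H] (hH : ¬ Group.IsSolvable H) :
    Nonempty (H ≃* Matrix.SpecialLinearGroup (Fin 2) (ZMod 5)) := by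
  classical
  have := charZero_of_not_solvable H hH
  obtain ⟨-, M, hM, ⟨iso⟩⟩ := (hasFpf H).structure_nonsolvable hH
  set S := threeCore H with hS
  let Φ : G25 →* H := S.subtype.comp iso.symm.toMonoidHom
  have hΦ : Function.Injective Φ := S.subtype_injective.comp iso.symm.injective
  have hΦS : ∀ y, Φ y ∈ S := fun y => (iso.symm y).2
  let ι : H →* D := (Units.coeHom D).comp H.subtype
  have hι : Function.Injective ι := Units.val_injective.comp H.subtype_injective
  set φ : G25 →* D := ι.comp Φ with hφdef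
  have hφ : Function.Injective φ := hι.comp hΦ
  -- the normal complement is trivial
  have hMbot : M = ⊥ := by
    by_contra hne
    have : Nontrivial M := M.nontrivial_iff_ne_bot.mpr hne
    obtain ⟨r, hr, hrd⟩ := Nat.exists_prime_and_dvd (Finite.one_lt_card (α := M)).ne'
    have := Fact.mk hr
    have hr7 : 7 ≤ r := by
      have h30 : ¬ r ∣ 30 := fun h => hr.ne_one (Nat.eq_one_of_dvd_coprimes hM.coprime hrd h)
      by_contra hlt
      have := hr.two_le
      interval_cases r <;> first | (norm_num at hr; done) | exact h30 (by norm_num)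
    obtain ⟨m, hm⟩ := exists_prime_orderOf_dvd_card' (G := M) r hrd
    have h1 := no_large_prime hφ hr hr7 (x := ι m) (by
        rw [← map_pow, ← Subgroup.coe_pow, ← hm, pow_orderOf_eq_one, Subgroup.coe_one, map_one])
      (fun y => ((show Commute (Φ y) (m : H) from hM.comm _ (hΦS y) _ m.2).map ι).symm)
    have h2 : m = 1 := Subtype.ext (hι (by rw [h1, Subgroup.coe_one, map_one]))
    rw [h2, orderOf_one] at hm
    exact hr.ne_one hm.symm
  rcases hM.index with h1 | h2
  · rw [hMbot, sup_bot_eq, Subgroup.index_eq_one] at h1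
    exact ⟨(Subgroup.topEquiv.symm.trans ((MulEquiv.subgroupCongr h1.symm).trans iso))⟩
  exfalso
  rw [hMbot, sup_bot_eq] at h2
  obtain ⟨g, hg⟩ : ∃ g : H, g ∉ S := by
    by_contra hc
    push Not at hc
    rw [(Subgroup.eq_top_iff' S).mpr hc, Subgroup.index_top] at h2
    exact absurd h2 (by norm_num)
  have hΦsurj : ∀ s ∈ S, ∃ y, Φ y = s := fun s hs => ⟨iso ⟨s, hs⟩, by simp [Φ]⟩
  let α : G25 →* G25 := iso.toMonoidHom.comp
    (((MulAut.conj g).toMonoidHom.comp Φ).codRestrict S fun y => hM.normal_E.conj_mem _ (hΦS y) g)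
  have hαv : ∀ y, Φ (α y) = g * Φ y * g⁻¹ := fun y => by simp [α, Φ]
  have hαinj : Function.Injective α := fun u v h => hΦ (by
    have := congrArg Φ h
    rw [hαv, hαv] at this
    simpa using this)
  obtain ⟨y, hy⟩ := SL25Facts.hom_cases α hαinj
  have hgS : ∀ {g' : H} {w : G25}, g' = Φ w * g → g' ∉ S := fun {g' w} e h => hg (by
    have := S.mul_mem (S.inv_mem (hΦS w)) h
    rwa [e, inv_mul_cancel_left] at this)
  have hconj : ∀ x, (Φ y * g) * Φ x = Φ (y * α x * y⁻¹) * (Φ y * g) := fun x => by
    rw [map_mul, map_mul, map_inv, hαv]; group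
  have hnot : ∀ {k : H}, k ∉ S → ι k * ι k ≠ 1 := by
    intro k hk e
    rcases mul_self_eq_one_iff.mp e with h | h
    · exact hk (by rw [show k = 1 from hι (by rw [h, map_one])]; exact one_mem S)
    · exact hk (by rw [show k = Φ SL25Facts.z from hι (h.trans (phi_z hφ).symm)]; exact hΦS _)
  set g' := Φ y * g with hg'
  have hg'S : g' ∉ S := hgS hg'
  rcases hy with ⟨hT, ha⟩ | ⟨hT, ha⟩
  · -- an element outside centralizing the icosahedral group
    have hcT : Commute g' (Φ SL25Facts.T) := by rw [commute_iff_eq, hconj, hT]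
    have hca : Commute g' (Φ SL25Facts.a) := by rw [commute_iff_eq, hconj, ha]
    obtain ⟨w, hw⟩ := hΦsurj _ (Subgroup.mul_self_mem_of_index_two h2 g')
    have hwa : Commute w SL25Facts.a := hΦ (by
      rw [map_mul, map_mul, hw]; exact (hca.mul_left hca).eq)
    have hwT : Commute w SL25Facts.T := hΦ (by
      rw [map_mul, map_mul, hw]; exact (hcT.mul_left hcT).eq)
    have hci : Commute g' (Φ SL25Facts.i) := by
      rw [← SL25Facts.i_word]
      simp only [map_mul, map_pow]
      exact (((((hca.mul_right (hcT.pow_right _)).mul_right hca).mul_right (hcT.pow_right _)).mul_right hca).mul_right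
        (hcT.pow_right _))
    rcases SL25Facts.centre w hwa hwT with e | e
    · exact hnot hg'S (by rw [← map_mul, ← hw, e, map_one, map_one])
    · have hGG : ι g' * ι g' = φ SL25Facts.i * φ SL25Facts.i := by
        rw [(quat hφ).1, ← map_mul, ← hw, e]; exact phi_z hφ
      rcases ((hci.map ι).mul_self_eq_mul_self_iff).mp hGG with e' | e'
      · exact hg'S (by rw [show g' = Φ SL25Facts.i from hι e']; exact hΦS _)
      · have : g' = Φ (SL25Facts.z * SL25Facts.i) := hι (by
          rw [e']
          show _ = φ _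
          rw [map_mul, phi_z hφ, neg_one_mul]; rfl)
        exact hg'S (by rw [this]; exact hΦS _)
  · -- an element of order four anticommuting with the square root of five
    have hcT : g' * Φ SL25Facts.T = Φ (SL25Facts.T ^ 2) * g' := by rw [hconj, hT]
    have hca : g' * Φ SL25Facts.a = Φ (SL25Facts.i * SL25Facts.a) * g' := by rw [hconj, ha]
    let c : G25 →* H := (MulAut.conj g').toMonoidHom.comp Φ
    have hcv : ∀ x, c x = g' * Φ x * g'⁻¹ := fun x => rfl
    have cT : c SL25Facts.T = Φ (SL25Facts.T ^ 2) := by rw [hcv, hcT, mul_inv_cancel_right]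
    have ca : c SL25Facts.a = Φ (SL25Facts.i * SL25Facts.a) := by rw [hcv, hca, mul_inv_cancel_right]
    have ci : c SL25Facts.i = Φ SL25Facts.i := by
      conv_lhs => rw [← SL25Facts.i_word]
      simp only [map_mul, map_pow, cT, ca]
      simp only [← map_mul, ← map_pow]
      rw [SL25Facts.i_image]
    obtain ⟨w, hw⟩ := hΦsurj _ (Subgroup.mul_self_mem_of_index_two h2 g')
    have hwT : w * SL25Facts.T = SL25Facts.T ^ 4 * w := hΦ (by
      have h4 : c (SL25Facts.T ^ 2) = Φ (SL25Facts.T ^ 4) := by
        rw [map_pow, cT, ← map_pow, ← pow_mul]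
      rw [map_mul, map_mul, hw, ← h4, hcv, mul_assoc g' g', hcT]
      group)
    have hwa : w * SL25Facts.a = (SL25Facts.i * (SL25Facts.i * SL25Facts.a)) * w := hΦ (by
      have h4 : c (SL25Facts.i * SL25Facts.a) = Φ (SL25Facts.i * (SL25Facts.i * SL25Facts.a)) := by
        rw [map_mul c, ci, ca, ← map_mul]
      rw [map_mul, map_mul, hw, ← h4, hcv, mul_assoc g' g', hca]
      group)
    obtain ⟨h, hh⟩ : ∃ h, h = g' * Φ SL25Facts.a := ⟨_, rfl⟩
    have hhS : h ∉ S := fun e => hg'S (by
      have := S.mul_mem e (S.inv_mem (hΦS SL25Facts.a))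
      rwa [hh, mul_inv_cancel_right] at this)
    have hhh : h * h = Φ (SL25Facts.i * SL25Facts.a * w * SL25Facts.a) := by
      rw [map_mul, map_mul _ _ w, hw, hh]
      calc g' * Φ SL25Facts.a * (g' * Φ SL25Facts.a)
          = (g' * Φ SL25Facts.a) * g' * Φ SL25Facts.a := by group
        _ = Φ (SL25Facts.i * SL25Facts.a) * g' * g' * Φ SL25Facts.a := by rw [hca]
        _ = Φ (SL25Facts.i * SL25Facts.a) * (g' * g') * Φ SL25Facts.a := by group
    have hG : ι h * ι h = -1 := by
      rcases SL25Facts.square_outer w hwT hwa with e | e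
      · exact absurd (by rw [← map_mul, hhh, e, map_one, map_one]) (hnot hhS)
      · rw [← map_mul, hhh, e]; exact phi_z hφ
    obtain ⟨hs5, hsc⟩ := sqrtFive hφ
    set τ := φ SL25Facts.T + φ SL25Facts.T ^ 4 with hτ
    set s := 2 * τ + 1 with hs
    set T := φ SL25Facts.T with hTdef
    have hsum : 1 + T + T ^ 2 + T ^ 3 + T ^ 4 = 0 := by
      have hne : T - 1 ≠ 0 := fun e => SL25Facts.T_ne (hφ (by rw [map_one]; exact sub_eq_zero.mp e))
      refine (mul_eq_zero.mp ?_).resolve_left hne
      rw [show (T - 1) * (1 + T + T ^ 2 + T ^ 3 + T ^ 4) = T ^ 5 - 1 by noncomm_ring, hTdef, ← map_pow,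
        SL25Facts.T_five, map_one, sub_self]
    have hGT : ι g' * T = T ^ 2 * ι g' := by
      calc ι g' * T = ι (g' * Φ SL25Facts.T) := (map_mul ι _ _).symm
        _ = ι (Φ (SL25Facts.T ^ 2) * g') := by rw [hcT]
        _ = φ (SL25Facts.T ^ 2) * ι g' := map_mul ι _ _
        _ = T ^ 2 * ι g' := by rw [map_pow]
    have hGs : ι g' * s = -(s * ι g') := by
      have h4 : ι g' * T ^ 4 = T ^ 8 * ι g' := by
        have hsc4 : SemiconjBy (ι g') T (T ^ 2) := hGT
        have := hsc4.pow_right 4
        rw [← pow_mul] at this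
        exact this
      have h8 : T ^ 8 = T ^ 3 := by
        rw [show 8 = 5 + 3 from rfl, pow_add, hTdef, ← map_pow, SL25Facts.T_five, map_one, one_mul]
      have e : ι g' * s = (2 * (T ^ 2 + T ^ 3) + 1) * ι g' := by
        rw [hs, hτ, mul_add, mul_one, ← mul_assoc, (Commute.ofNat_right (ι g') 2).eq, mul_assoc, mul_add, hGT,
          h4, h8]
        noncomm_ring
      have e2 : 2 * (T ^ 2 + T ^ 3) + 1 = -s := by
        rw [eq_neg_iff_add_eq_zero, hs, hτ]
        calc 2 * (T ^ 2 + T ^ 3) + 1 + (2 * (T + T ^ 4) + 1) = 2 * (1 + T + T ^ 2 + T ^ 3 + T ^ 4) := by noncomm_ring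
          _ = 0 := by rw [hsum, mul_zero]
      rw [e, e2, neg_mul]
    set G := ι h with hGdef
    have hGs' : G * s = -(s * G) := by
      rw [hGdef, hh, map_mul, mul_assoc]
      show ι g' * (φ SL25Facts.a * s) = _
      rw [← (hsc SL25Facts.a).eq, ← mul_assoc, hGs, neg_mul, mul_assoc]
      rfl
    have h25 : (s * (2 - G)) * (s * (2 - G)) = 5 * 5 := by
      have e : (2 - G) * s = s * (2 + G) := by
        rw [sub_mul, hGs', sub_neg_eq_add, mul_add s 2 G, (Commute.ofNat_right s 2).eq]
      calc (s * (2 - G)) * (s * (2 - G)) = s * ((2 - G) * s) * (2 - G) := by noncomm_ring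
        _ = (s * s) * ((2 + G) * (2 - G)) := by rw [e]; noncomm_ring
        _ = 5 * 5 := by
          have e5 : (2 + G) * (2 - G) = 2 * 2 - G * G := by noncomm_ring
          rw [hs5, e5, hG]
          norm_num
    have h5 : (2 - G) * (2 + G) = 5 := by
      have e5 : (2 - G) * (2 + G) = 2 * 2 - G * G := by noncomm_ring
      rw [e5, hG]
      norm_num
    have h5c : Commute (s * (2 - G)) (5 : D) := Commute.ofNat_right _ 5
    have h5n : (5 : D) ≠ 0 := by norm_num
    have hsG : Commute s G := by
      rcases (h5c.mul_self_eq_mul_self_iff).mp h25 with e | e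
      · have e1 : s * 5 = 5 * (2 + G) := by rw [← h5, ← mul_assoc, e]; rw [h5]
        rw [(Commute.ofNat_right s 5).eq] at e1
        rw [mul_left_cancel₀ h5n e1]
        exact (Commute.ofNat_left 2 G).add_left (Commute.refl G)
      · have e1 : s * 5 = 5 * (-(2 + G)) := by rw [← h5, ← mul_assoc, e]; rw [h5, neg_mul, mul_neg]
        rw [(Commute.ofNat_right s 5).eq] at e1
        rw [mul_left_cancel₀ h5n e1]
        exact ((Commute.ofNat_left 2 G).add_left (Commute.refl G)).neg_left
    have h0 : 2 * (s * G) = 0 := by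
      have := hGs'
      rw [← hsG.eq] at this
      rw [two_mul]; nth_rewrite 2 [this]; exact add_neg_cancel _
    rcases mul_eq_zero.mp h0 with e | e
    · exact two_ne_zero e
    rcases mul_eq_zero.mp e with e | e
    · rw [e, zero_mul] at hs5; exact h5n hs5.symm
    · rw [e, zero_mul] at hG; exact neg_ne_zero.mpr one_ne_zero hG.symm

end Cfsg.Agent.Char.DivIco
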