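import Cfsg.Agent.Lib.Char.DecompDegrees
import Cfsg.Agent.Lib.Char.PairMax

/-!
A block all of whose characters have one degree has a single class of primitive idempotents, each
character meeting it once; the corner of such an idempotent consists of central multiples of it,
so a central element vanishing on the centralizer of a defect group modulo `M` vanishes modulo `M`.
-/

open scoped ComplexConjugate

namespace Cfsg.Agent.Char.EqDeg

open Cfsg Cfsg.Agent.Block Cfsg.Agent.Char.Spec Cfsg.Agent.Char.BP Cfsg.Agent.Char.Res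
  Cfsg.Agent.Char.Decomp

set_option linter.unusedSectionVars false
set_option linter.style.haveILetI false
set_option maxHeartbeats 800000

universe u

variable {G : Type u} [Group G] [Fintype G] [DecidableEq G] {p : ℕ} {M : Ideal AlgInt}
variable {B : Set (IrrCharacter G)}

/-- The representation of the group algebra behind a character. -/
theorem exists_alg_rep (χ : IrrCharacter G) :
    ∃ (n : ℕ) (R : MonoidAlgebra ℂ G →ₐ[ℂ] Module.End ℂ (Fin n → ℂ)),
      ∀ a, ev (χ : G → ℂ) a = LinearMap.trace ℂ _ (R a) := by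
  obtain ⟨n, ρ, hρ⟩ := irr_isChar χ
  refine ⟨n, MonoidAlgebra.lift ℂ _ _ ρ, fun a => ?_⟩
  induction a using MonoidAlgebra.induction_on with
  | of g =>
    rw [MonoidAlgebra.lift_of, MonoidAlgebra.of_apply, Spec.ev_single, one_mul, ← hρ]
    rfl
  | add a b ha hb => rw [ev_add, ha, hb, map_add, map_add]
  | smul r a ha => rw [Spec.ev_smul, ha, map_smul, map_smul, smul_eq_mul]

theorem rep_idem_zero {n : ℕ} {E : Module.End ℂ (Fin n → ℂ)} (hE : E * E = E)
    (h0 : LinearMap.trace ℂ _ E = 0) : E = 0 := by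
  have hp : LinearMap.IsProj (LinearMap.range E) E :=
    ⟨fun x => LinearMap.mem_range_self E x, fun x ⟨y, hy⟩ => by rw [← hy, ← Module.End.mul_apply, hE]⟩
  rw [hp.trace, Nat.cast_eq_zero, Submodule.finrank_eq_zero, LinearMap.range_eq_bot] at h0
  exact h0

theorem rep_idem_rank_one {n : ℕ} {E : Module.End ℂ (Fin n → ℂ)} (hE : E * E = E)
    (h1 : LinearMap.trace ℂ _ E = 1) (T : Module.End ℂ (Fin n → ℂ)) :
    ∃ c : ℂ, E * T * E = c • E := by
  have hp : LinearMap.IsProj (LinearMap.range E) E :=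
    ⟨fun x => LinearMap.mem_range_self E x, fun x ⟨y, hy⟩ => by rw [← hy, ← Module.End.mul_apply, hE]⟩
  rw [hp.trace, Nat.cast_eq_one, finrank_eq_one_iff'] at h1
  obtain ⟨⟨w, hw⟩, -, hspan⟩ := h1
  obtain ⟨c, hc⟩ := hspan ⟨E (T w), LinearMap.mem_range_self E _⟩
  refine ⟨c, LinearMap.ext fun v => ?_⟩
  obtain ⟨a, ha⟩ := hspan ⟨E v, LinearMap.mem_range_self E _⟩
  have hc' : c • w = E (T w) := congrArg Subtype.val hc
  have ha' : a • w = E v := congrArg Subtype.val ha
  simp only [Module.End.mul_apply, LinearMap.smul_apply, ← ha', map_smul, ← hc', smul_smul,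
    mul_comm]

/-- An element killed by every irreducible representation is zero. -/
theorem eq_zero_of_ev {z : MonoidAlgebra ℂ G}
    (h : ∀ (χ : IrrCharacter G) (s : MonoidAlgebra ℂ G), ev (χ : G → ℂ) (z * s) = 0) : z = 0 := by
  classical
  ext g
  have key : ∑ χ : IrrCharacter G,
      (χ : G → ℂ) 1 * ev (χ : G → ℂ) (z * MonoidAlgebra.single g⁻¹ 1) = 0 :=
    Finset.sum_eq_zero fun χ _ => by rw [h, mul_zero]
  rw [← ev_sum_fun] at key
  simp only [ev, Finset.sum_apply, Pi.smul_apply, smul_eq_mul, regular_expansion,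
    MonoidAlgebra.coeff_mul_single_apply, mul_one, inv_inv] at key
  simpa [Nat.card_pos.ne'] using key

/-- The symmetry of the coefficient at the identity. -/
theorem coeff_one_comm (a b : MonoidAlgebra ℂ G) : (a * b).coeff 1 = (b * a).coeff 1 := by
  rw [coeff_mul_apply, coeff_mul_apply]
  refine Fintype.sum_equiv (Equiv.inv G) _ _ fun h => ?_
  simp [mul_comm]

/-- A block all of whose degrees are equal has one class. -/
theorem one_class [Fact p.Prime] (hM : IsPModular p M) (hB : IsPBlock M B) (D : BData p M B)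
    {d : ℕ} (hd : ∀ χ : IrrCharacter G, χ ∈ B → charDegree (χ : G → ℂ) = d) :
    D.n = 1 ∧ ∀ χ : IrrCharacter G, χ ∈ B → ∀ c, D.N χ c = 1 := by
  classical
  obtain ⟨χ₀, hχ₀⟩ := pblock_nonempty hM hB
  have hd0 : 0 < d := hd χ₀ hχ₀ ▸ charDeg_pos χ₀
  have hmd : ∀ c, d ≤ D.mult c := fun c =>
    Nat.le_of_dvd (D.mult_pos c) (D.dvd_mult (fun χ hχ => (hd χ hχ).symm ▸ dvd_rfl) c)
  have honce : ∀ χ : IrrCharacter G, χ ∈ B → ∑ c, D.N χ c = 1 := by
    intro χ hχ
    have h := D.deg χ hχ
    rw [hd χ hχ] at h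
    have hle : d * ∑ c, D.N χ c ≤ d := by
      rw [Finset.mul_sum]
      exact (Finset.sum_le_sum fun c _ => Nat.mul_le_mul_right _ (hmd c)).trans h.symm.le
    have hne : ∑ c, D.N χ c ≠ 0 := fun h0 => by
      simp only [Finset.sum_eq_zero_iff, Finset.mem_univ, true_implies] at h0
      simp [h0] at h
      omega
    exact le_antisymm (Nat.le_of_mul_le_mul_left (by simpa using hle) hd0) (Nat.pos_of_ne_zero hne)
  have hex : ∀ c, ∃ χ : IrrCharacter G, χ ∈ B ∧ D.N χ c = 1 := by
    intro c
    obtain ⟨χ, hχ⟩ : ∃ χ, D.N χ c ≠ 0 := by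
      by_contra hn
      push Not at hn
      have h2 := D.dual c c
      simp [hn] at h2
    have hχB : χ ∈ B := by_contra fun h => hχ (D.supp χ h c)
    refine ⟨χ, hχB, le_antisymm ?_ (Nat.pos_of_ne_zero hχ)⟩
    rw [← honce χ hχB]
    exact Finset.single_le_sum (fun c _ => Nat.zero_le (D.N χ c)) (Finset.mem_univ c)
  have hexcl : ∀ χ : IrrCharacter G, ∀ c c', c ≠ c' → D.N χ c = 0 ∨ D.N χ c' = 0 := by
    intro χ c c' hne
    by_cases hχ : χ ∈ B
    · have h2 : D.N χ c + D.N χ c' ≤ 1 := by
        rw [← honce χ hχ, ← Finset.sum_pair hne]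
        exact Finset.sum_le_sum_of_subset (Finset.subset_univ _)
      omega
    · exact Or.inl (D.supp χ hχ c)
  have hn : ∀ c c' : Fin D.n, c = c' := by
    intro c c'
    by_contra hne
    obtain ⟨k, f, hf, hsum⟩ := exists_decomp (G := G) (p := p) hM _ 1 le_rfl (AlgRing.one hM)
      (one_mul _)
    set s := Finset.univ.filter fun t => bz B * f t = f t with hs
    set s₁ := s.filter fun t => Eqv M (f t) (D.i c) with hs₁
    set s₂ := s.filter fun t => ¬ Eqv M (f t) (D.i c) with hs₂
    have hbz : bz B = ∑ t ∈ s, f t := by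
      conv_lhs => rw [← mul_one (bz B), ← hsum, Finset.mul_sum]
      rw [hs, Finset.sum_filter]
      refine Finset.sum_congr rfl fun t _ => ?_
      split_ifs with h
      · exact h
      · exact (bz_dichotomy hM hB (hf t)).resolve_left h
    set δ := ∑ t ∈ s₁, f t with hδ
    set δ' := ∑ t ∈ s₂, f t with hδ'
    have hsplit : bz B = δ + δ' := by
      rw [hbz, hδ, hδ', hs₁, hs₂, Finset.sum_filter_add_sum_filter_not]
    have hcl : ∀ t ∈ s₂, ∃ c'', c'' ≠ c ∧ Eqv M (f t) (D.i c'') := by
      intro t ht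
      obtain ⟨c'', hc''⟩ := D.cover _ (hf t) (Finset.mem_filter.1 (Finset.mem_filter.1 ht).1).2
      exact ⟨c'', fun e => (Finset.mem_filter.1 ht).2 (e ▸ hc''), hc''⟩
    have hevt : ∀ (χ : IrrCharacter G) t c'', Eqv M (f t) (D.i c'') →
        ev (χ : G → ℂ) (f t) = (D.N χ c'' : ℂ) := fun χ t c'' h => by
      rw [Eqv.ev_eq hM (hf t) (D.pr _) h (irr_classFun χ), D.val]
    have hzero : ∀ (a : MonoidAlgebra ℂ G) (t : Fin k), t ∈ s₁ → ∀ t' ∈ s₂,
        f t * a * f t' = 0 ∧ f t' * a * f t = 0 := by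
      intro a t ht t' ht'
      obtain ⟨c'', hne', hc''⟩ := hcl t' ht'
      have key : ∀ (χ : IrrCharacter G) (x : MonoidAlgebra ℂ G),
          ev (χ : G → ℂ) (f t * a * f t' * x) = 0 ∧ ev (χ : G → ℂ) (f t' * a * f t * x) = 0 := by
        intro χ x
        obtain ⟨n, R, hR⟩ := exists_alg_rep χ
        have hz : R (f t) = 0 ∨ R (f t') = 0 := by
          rcases hexcl χ c c'' hne'.symm with h | h
          · refine Or.inl (rep_idem_zero (by rw [← map_mul, (hf t).idem]) ?_)
            rw [← hR, hevt χ t c (Finset.mem_filter.1 ht).2, h, Nat.cast_zero]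
          · refine Or.inr (rep_idem_zero (by rw [← map_mul, (hf t').idem]) ?_)
            rw [← hR, hevt χ t' c'' hc'', h, Nat.cast_zero]
        rw [hR, hR]
        rcases hz with h | h <;> simp [map_mul, h]
      exact ⟨eq_zero_of_ev fun χ x => (key χ x).1, eq_zero_of_ev fun χ x => (key χ x).2⟩
    have hcross : ∀ a, δ * a * δ' = 0 ∧ δ' * a * δ = 0 := by
      intro a
      constructor
      · rw [hδ, hδ', Finset.sum_mul, Finset.sum_mul]
        refine Finset.sum_eq_zero fun t ht => ?_
        rw [Finset.mul_sum]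
        exact Finset.sum_eq_zero fun t' ht' => (hzero a t ht t' ht').1
      · rw [hδ, hδ', Finset.sum_mul, Finset.sum_mul]
        refine Finset.sum_eq_zero fun t ht => ?_
        rw [Finset.mul_sum]
        exact Finset.sum_eq_zero fun t' ht' => (hzero a t' ht' t ht).2
    have hbzδ : bz B * δ = δ := by
      rw [hδ, Finset.mul_sum]
      exact Finset.sum_congr rfl fun t ht => (Finset.mem_filter.1 (Finset.mem_filter.1 ht).1).2
    have hcomm : ∀ a, δ * a = a * δ := by
      intro a
      have h1 : δ * a = δ * a * δ := by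
        calc δ * a = δ * bz B * a := by rw [← (bz_comm B δ).symm.eq, hbzδ]
          _ = δ * a * bz B := by rw [mul_assoc, ← (bz_comm B a).eq, mul_assoc]
          _ = δ * a * δ := by rw [hsplit, mul_add, (hcross a).1, add_zero]
      have h2 : a * δ = δ * a * δ := by
        calc a * δ = a * (bz B * δ) := by rw [hbzδ]
          _ = bz B * a * δ := by rw [← mul_assoc, (bz_comm B a).eq]
          _ = δ * a * δ := by rw [hsplit, add_mul, add_mul, (hcross a).2, add_zero]
      rw [h1, h2]
    set F : G → ℂ := fun g => δ.coeff g with hF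
    have hFcl : IsClassFunction G F := fun g t => by
      have h := congrArg (fun y : MonoidAlgebra ℂ G => y.coeff (t * g))
        (hcomm (MonoidAlgebra.single t 1))
      simp only [MonoidAlgebra.coeff_mul_single_apply, MonoidAlgebra.coeff_single_mul_apply,
        mul_one, one_mul, inv_mul_cancel_left] at h
      exact h
    have hFr : CenInt M (fun χ : IrrCharacter G => omegaFun χ F) := fun g => by
      rw [coeffFun_omegaFun hFcl]
      exact (AlgRing.sum hM fun t _ => (hf t).ring : AlgRing M δ) g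
    obtain ⟨χ₁, hχ₁, h1⟩ := hex c
    obtain ⟨χ₂, hχ₂, h2⟩ := hex c'
    have hδ₁ : ∀ χ : IrrCharacter G, D.N χ c = 0 → ev (χ : G → ℂ) δ = 0 := fun χ hχ => by
      rw [hδ, ev_sum]
      exact Finset.sum_eq_zero fun t ht => by
        rw [hevt χ t c (Finset.mem_filter.1 ht).2, hχ, Nat.cast_zero]
    have hw₂ : omegaFun χ₂ F = 0 := by
      have := hδ₁ χ₂ ((hexcl χ₂ c c' hne).resolve_right (by omega))
      rw [omegaFun, show (∑ g, F g * (χ₂ : G → ℂ) g) = ev (χ₂ : G → ℂ) δ from rfl, this, zero_div]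
    have hw₁ : omegaFun χ₁ F = 1 := by
      have h3 : ev (χ₁ : G → ℂ) δ' = 0 := by
        rw [hδ', ev_sum]
        refine Finset.sum_eq_zero fun t ht => ?_
        obtain ⟨c'', hne', hc''⟩ := hcl t ht
        rw [hevt χ₁ t c'' hc'', (hexcl χ₁ c c'' hne'.symm).resolve_left (by omega), Nat.cast_zero]
      have h4 : ev (χ₁ : G → ℂ) δ = (χ₁ : G → ℂ) 1 := by
        have h5 := ev_bz (B := B) χ₁ 1
        rw [if_pos hχ₁, mul_one, hsplit, ev_add, h3, add_zero] at h5
        rw [h5, MonoidAlgebra.one_def, Spec.ev_single, one_mul]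
      rw [omegaFun, show (∑ g, F g * (χ₁ : G → ℂ) g) = ev (χ₁ : G → ℂ) δ from rfl, h4,
        div_self (irr_one_ne_zero χ₁)]
    have h6 := hFr.congr_block hM (pblock_sameBlock hM hB hχ₁ hχ₂)
    simp only [hw₁, hw₂, sub_zero] at h6
    exact ideal_one hM h6
  have hn1 : D.n = 1 := by
    have hne0 : D.n ≠ 0 := fun h0 => by
      have h := honce χ₀ hχ₀
      rw [Finset.sum_eq_zero fun c _ => absurd c.2 (by omega)] at h
      exact zero_ne_one h
    by_contra h
    have := hn ⟨0, by omega⟩ ⟨1, by omega⟩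
    simp [Fin.ext_iff] at this
  refine ⟨hn1, fun χ hχ c => ?_⟩
  rw [← honce χ hχ, Finset.sum_eq_single c (fun c' _ h => absurd (hn c' c) h)
    (fun h => absurd (Finset.mem_univ _) h)]

/-- The number of characters is a multiple of the order of a defect group. -/
theorem defect_dvd_card [Fact p.Prime] (hM : IsPModular p M) (hB : IsPBlock M B) (D : BData p M B)
    {d : ℕ} (hd : ∀ χ : IrrCharacter G, χ ∈ B → charDegree (χ : G → ℂ) = d) :
    p ^ blockDefect p B ∣ Nat.card B := by
  classical
  have hp : p.Prime := Fact.out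
  obtain ⟨hn, hN⟩ := one_class hM hB D hd
  obtain ⟨χ₀, hχ₀, h0⟩ := exists_height_zero hM hB
  rw [blockHeight_zero_iff hM hB hχ₀, hd χ₀ hχ₀] at h0
  have hd0 : d ≠ 0 := hd χ₀ hχ₀ ▸ (charDeg_pos χ₀).ne'
  let c : Fin D.n := ⟨0, by omega⟩
  have hk : D.pdeg c = d * Nat.card B := by
    rw [BData.pdeg, ← Finset.sum_subset (Finset.subset_univ (Finset.univ.filter (· ∈ B)))
      fun χ _ hχ => by simp [D.supp χ (by simpa using hχ) c],
      Finset.sum_congr rfl (g := fun _ => d) fun χ hχ => by
        rw [hd χ (Finset.mem_filter.1 hχ).2, hN χ (Finset.mem_filter.1 hχ).2, mul_one],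
      Finset.sum_const, smul_eq_mul, mul_comm, Nat.card_eq_fintype_card, Fintype.card_subtype]
  have hne : Nat.card B ≠ 0 := by
    haveI : Nonempty B := ⟨⟨χ₀, hχ₀⟩⟩
    exact Nat.card_pos.ne'
  refine (hp.pow_dvd_iff_le_factorization hne).2 ?_
  have h1 := (hp.pow_dvd_iff_le_factorization (D.pdeg_pos c).ne').1 (D.pow_dvd_pdeg hM c)
  rw [hk, Nat.factorization_mul hd0 hne, Finsupp.add_apply] at h1
  omega

/-- A central element of the block vanishing on the centralizer of a defect group modulo the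
ideal vanishes modulo the ideal. -/
theorem kill [Fact p.Prime] (hM : IsPModular p M) (hB : IsPBlock M B) (D : BData p M B)
    {d : ℕ} (hd : ∀ χ : IrrCharacter G, χ ∈ B → charDegree (χ : G → ℂ) = d)
    {P : Subgroup G} (hP : IsDefectGroup p M B P) {Z : MonoidAlgebra ℂ G} (hZ : AlgRing M Z)
    (hcen : ∀ a, Commute Z a) (hbZ : bz B * Z = Z) (h0 : BrEq M P Z 0) : AlgIdeal M Z := by
  classical
  obtain ⟨hn, hN⟩ := one_class hM hB D hd
  let c : Fin D.n := ⟨0, by omega⟩
  set i := D.i c with hi
  have hii : i * i = i := (D.pr c).idem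
  have hir : AlgRing M i := (D.pr c).ring
  obtain ⟨k, f, hf, hsum⟩ := exists_decomp (G := G) (p := p) hM _ 1 le_rfl (AlgRing.one hM)
    (one_mul _)
  have hex : ∀ t, ∃ A B' : MonoidAlgebra ℂ G, AlgRing M A ∧ AlgRing M B' ∧
      A * i * B' = bz B * f t := by
    intro t
    rcases bz_dichotomy hM hB (hf t) with h | h
    · obtain ⟨c', hc'⟩ := D.cover _ (hf t) h
      obtain rfl : c' = c := Fin.ext (by omega)
      obtain ⟨u, v, hu, hv, he⟩ := hc'
      refine ⟨f t * u, v * f t, (hf t).ring.mul hM hu, hv.mul hM (hf t).ring, ?_⟩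
      rw [h, ← mul_assoc (f t * u * i) v (f t)]
      exact he.symm
    · exact ⟨0, 0, AlgRing.zero hM, AlgRing.zero hM, by simp [h]⟩
  choose A B' hA hB' hAB using hex
  have hfull : ∑ t, A t * i * B' t = bz B := by
    rw [Finset.sum_congr rfl fun t _ => hAB t, ← Finset.mul_sum, hsum, mul_one]
  have hrep : ∀ χ : IrrCharacter G, χ ∈ B → ∀ x : MonoidAlgebra ℂ G,
      ∀ (n : ℕ) (R : MonoidAlgebra ℂ G →ₐ[ℂ] Module.End ℂ (Fin n → ℂ)),
      (∀ a, ev (χ : G → ℂ) a = LinearMap.trace ℂ _ (R a)) → ∃ r : ℂ, R (i * x * i) = r • R i := by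
    intro χ hχ x n R hR
    rw [map_mul, map_mul]
    exact rep_idem_rank_one (by rw [← map_mul, hii]) (by rw [← hR, D.val, hN χ hχ, Nat.cast_one]) _
  have hout : ∀ χ : IrrCharacter G, χ ∉ B →
      ∀ (n : ℕ) (R : MonoidAlgebra ℂ G →ₐ[ℂ] Module.End ℂ (Fin n → ℂ)),
      (∀ a, ev (χ : G → ℂ) a = LinearMap.trace ℂ _ (R a)) → R i = 0 := fun χ hχ n R hR =>
    rep_idem_zero (by rw [← map_mul, hii]) (by rw [← hR, D.val, D.supp χ hχ, Nat.cast_zero])
  have hcornerComm : ∀ x x', (i * x * i) * (i * x' * i) = (i * x' * i) * (i * x * i) := by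
    intro x x'
    rw [← sub_eq_zero]
    refine eq_zero_of_ev fun χ s => ?_
    obtain ⟨n, R, hR⟩ := exists_alg_rep χ
    rw [hR, map_mul, map_sub]
    suffices h : R (i * x * i * (i * x' * i)) = R (i * x' * i * (i * x * i)) by
      rw [h, sub_self, zero_mul, map_zero]
    by_cases hχ : χ ∈ B
    · obtain ⟨r, hr⟩ := hrep χ hχ x n R hR
      obtain ⟨r', hr'⟩ := hrep χ hχ x' n R hR
      rw [map_mul R (i * x * i), map_mul R (i * x' * i), hr, hr', smul_mul_smul_comm,
        smul_mul_smul_comm, mul_comm r]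
    · simp [map_mul, hout χ hχ n R hR]
  let W : MonoidAlgebra ℂ G → MonoidAlgebra ℂ G := fun y => ∑ t, A t * y * B' t
  have hbA : ∀ t y, bz B * (A t * i * y) = bz B * A t * i * y := fun t y => by simp only [mul_assoc]
  have hbW : ∀ x, bz B * W (i * x * i) = W (i * x * i) ∧ W (i * x * i) * bz B = W (i * x * i) := by
    intro x
    have hi1 : bz B * i = i := D.inB c
    have h1 : bz B * W (i * x * i) = W (i * x * i) := by
      rw [Finset.mul_sum]
      refine Finset.sum_congr rfl fun t _ => ?_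
      calc bz B * (A t * (i * x * i) * B' t) = bz B * A t * i * (x * i * B' t) := by
            simp only [mul_assoc]
        _ = A t * (bz B * i) * (x * i * B' t) := by
            rw [(bz_comm B (A t)).symm.eq, mul_assoc (A t) (bz B) i]
        _ = A t * (i * x * i) * B' t := by rw [hi1]; simp only [mul_assoc]
    exact ⟨h1, by rw [(bz_comm B (W (i * x * i))).eq]; exact h1⟩
  have hWcen : ∀ x a, W (i * x * i) * a = a * W (i * x * i) := by
    intro x a
    set y := i * x * i with hy
    have hyi : y * i = y := by rw [hy, mul_assoc, hii]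
    have hiy : i * y = y := by rw [hy, ← mul_assoc, ← mul_assoc, hii]
    have hb : bz B * W y = W y ∧ W y * bz B = W y := hbW x
    calc W y * a = W y * (a * bz B) := by
          rw [(bz_comm B a).eq, ← mul_assoc, hb.2]
      _ = ∑ t, ∑ u, A t * (y * (i * (B' t * a * A u) * i)) * B' u := by
          rw [← hfull, Finset.mul_sum, Finset.sum_mul]
          refine Finset.sum_congr rfl fun t _ => ?_
          rw [Finset.mul_sum]
          refine Finset.sum_congr rfl fun u _ => ?_
          conv_lhs => rw [← hyi]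
          simp only [mul_assoc]
      _ = ∑ t, ∑ u, A t * ((i * (B' t * a * A u) * i) * y) * B' u := by
          refine Finset.sum_congr rfl fun t _ => Finset.sum_congr rfl fun u _ => ?_
          rw [hy, hcornerComm]
      _ = bz B * a * W y := by
          rw [← hfull, Finset.sum_mul, Finset.sum_mul]
          refine Finset.sum_congr rfl fun t _ => ?_
          rw [Finset.mul_sum]
          refine Finset.sum_congr rfl fun u _ => ?_
          conv_rhs => rw [← hiy]
          simp only [mul_assoc]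
      _ = a * W y := by rw [← (bz_comm B a).eq, mul_assoc, hb.1]
  obtain ⟨χ₀, hχ₀, hh0⟩ := exists_height_zero hM hB
  obtain ⟨g, hg, -, hgu⟩ := exists_regular_unit hM hB hχ₀ hh0 hP
  set A0 := ∑ t, B' t * MonoidAlgebra.single g (1 : ℂ) * A t with hA0
  have hA0r : AlgRing M A0 :=
    AlgRing.sum hM fun t _ => ((hB' t).mul hM (AlgRing.single hM g)).mul hM (hA t)
  set α := i * A0 * i with hα
  have hαr : AlgRing M α := (hir.mul hM hA0r).mul hM hir
  have hαi : α * i = α := by rw [hα, mul_assoc, hii]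
  have hiα : i * α = α := by rw [hα, ← mul_assoc, ← mul_assoc, hii]
  have hZx : ∀ x, AlgRing M x → MemLocalIdeal M ((Z * x * α).coeff 1) := by
    intro x hx
    have hWr : AlgRing M (W (i * x * i)) := AlgRing.sum hM fun t _ =>
      ((hA t).mul hM ((hir.mul hM hx).mul hM hir)).mul hM (hB' t)
    have hWf : Fx M P (W (i * x * i)) := ⟨hWr, fun u _ => (hWcen x _).symm⟩
    have hZf : Fx M P Z := ⟨hZ, fun u _ => (hcen _).symm⟩
    have h1 := BrEq.mul_zero_left hM (IsDefectGroup.isPGroup hP) hZf hWf h0 g⁻¹ (inv_mem hg)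
    simp only [MonoidAlgebra.coeff_zero, Finsupp.zero_apply, sub_zero] at h1
    have h2 : (Z * W (i * x * i)).coeff g⁻¹ = (Z * x * α).coeff 1 := by
      calc (Z * W (i * x * i)).coeff g⁻¹
          = (Z * W (i * x * i) * MonoidAlgebra.single g 1).coeff 1 := by
            rw [MonoidAlgebra.coeff_mul_single_apply]; simp
        _ = ∑ t, (A t * (Z * (i * x * i)) * (B' t * MonoidAlgebra.single g 1)).coeff 1 := by
            simp only [W, Finset.mul_sum, Finset.sum_mul, MonoidAlgebra.coeff_sum,
              Finsupp.coe_finsetSum, Finset.sum_apply]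
            refine Finset.sum_congr rfl fun t _ => congrArg (fun y : MonoidAlgebra ℂ G => y.coeff 1) ?_
            rw [← mul_assoc (A t) Z, ← (hcen (A t)).eq]
            simp only [mul_assoc]
        _ = ∑ t, (Z * (i * x * i) * (B' t * MonoidAlgebra.single g 1 * A t)).coeff 1 := by
            refine Finset.sum_congr rfl fun t _ => ?_
            rw [mul_assoc (A t), coeff_one_comm]
            simp only [mul_assoc]
        _ = (Z * (i * x * i) * A0).coeff 1 := by
            simp only [hA0, Finset.mul_sum, MonoidAlgebra.coeff_sum, Finsupp.coe_finsetSum,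
              Finset.sum_apply]
        _ = (i * (Z * x * i * A0)).coeff 1 := by
            rw [← mul_assoc i, ← mul_assoc i, ← mul_assoc i, ← (hcen i).eq]
            simp only [mul_assoc]
        _ = (Z * x * α).coeff 1 := by
            rw [coeff_one_comm, hα]
            simp only [mul_assoc]
    rwa [h2] at h1
  obtain ⟨w, hw, hαw⟩ : ∃ w, AlgRing M w ∧ α * w * i = i := by
    rcases prim_dichotomy hM (D.pr c).1 (Res.fx_bot hαr) hiα hαi with ⟨w, hw, -, h⟩ | ⟨N, hN'⟩
    · exact ⟨w, hw.1, h⟩
    exfalso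
    obtain ⟨n, R, hR⟩ := exists_alg_rep χ₀
    obtain ⟨r, hr⟩ := hrep χ₀ hχ₀ A0 n R hR
    have htr : LinearMap.trace ℂ _ (R i) = 1 := by rw [← hR, D.val, hN χ₀ hχ₀, Nat.cast_one]
    have hrα : ev (χ₀ : G → ℂ) α = r := by rw [hR, hr, map_smul, htr, smul_eq_mul, mul_one]
    have hrg : r = (χ₀ : G → ℂ) g := by
      rw [← hrα, hα, ev_mul_comm (irr_classFun χ₀), ← mul_assoc, hii,
        ev_mul_comm (irr_classFun χ₀), hA0, Finset.sum_mul, ev_sum,
        Finset.sum_congr rfl fun t _ => (by
          rw [mul_assoc, mul_assoc, ev_mul_comm (irr_classFun χ₀), mul_assoc] :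
          ev (χ₀ : G → ℂ) (B' t * MonoidAlgebra.single g 1 * A t * i) =
            ev (χ₀ : G → ℂ) (MonoidAlgebra.single g 1 * (A t * i * B' t))),
        ← ev_sum, ← Finset.mul_sum, hfull, ev_mul_comm (irr_classFun χ₀), ev_bz, if_pos hχ₀,
        Spec.ev_single, one_mul]
    have hpow : ∀ N, R (α ^ N * i) = r ^ N • R i := by
      intro N
      induction N with
      | zero => rw [pow_zero, one_mul, pow_zero, one_smul]
      | succ N ih =>
        rw [pow_succ', mul_assoc, map_mul, ih, hr, smul_mul_smul_comm, ← map_mul, hii, pow_succ']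
    have h3 : MemLocalIdeal M (r ^ N) := by
      have : ev (χ₀ : G → ℂ) (α ^ N * i) = r ^ N := by
        rw [hR, hpow, map_smul, htr, smul_eq_mul, mul_one]
      rw [← this]
      exact ideal_sum hM fun g _ => ideal_mul_right hM (hN' g) (irr_ring hM χ₀ g)
    have hrr : MemLocalRing M r := hrg ▸ irr_ring hM χ₀ g
    rw [hrg] at h3
    clear hpow hN' hr
    induction N with
    | zero => exact ideal_one hM (by simpa using h3)
    | succ N ih =>
      rw [pow_succ] at h3
      rcases ideal_or_of_mul hM (by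
        rw [← hrg] at *
        exact (by
          clear ih h3
          induction N with
          | zero => simpa using ring_one hM
          | succ N ih => rw [pow_succ]; exact ring_mul hM ih hrr))
        (irr_ring hM χ₀ g) h3 with h | h
      · exact ih h
      · exact hgu h
  have hZi : ∀ x, AlgRing M x → MemLocalIdeal M ((Z * x * i).coeff 1) := by
    intro x hx
    have h := hZx (w * i * x) ((hw.mul hM hir).mul hM hx)
    have e : (Z * (w * i * x) * α).coeff 1 = (Z * x * i).coeff 1 := by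
      calc (Z * (w * i * x) * α).coeff 1 = ((w * i) * (Z * x * α)).coeff 1 := by
            rw [← mul_assoc Z (w * i) x, (hcen (w * i)).eq]
            simp only [mul_assoc]
        _ = (Z * x * α * (w * i)).coeff 1 := coeff_one_comm _ _
        _ = (Z * x * i).coeff 1 := by
            rw [mul_assoc (Z * x) α, ← mul_assoc α w i, hαw]
    rwa [e] at h
  have hZi' : AlgIdeal M (Z * i) := fun g => by
    have h := hZi (MonoidAlgebra.single g⁻¹ 1) (AlgRing.single hM _)
    rwa [coeff_one_comm, ← mul_assoc, ← (hcen i).eq, MonoidAlgebra.coeff_mul_single_apply,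
      inv_inv, one_mul, mul_one] at h
  rw [← hbZ, ← hfull, Finset.sum_mul]
  refine AlgIdeal.sum hM fun t _ => ?_
  rw [mul_assoc (A t * i), ← (hcen (B' t)).eq, ← mul_assoc, mul_assoc (A t) i Z, ← (hcen i).eq]
  exact AlgIdeal.mul_right hM (AlgIdeal.mul_left hM (hA t) hZi') (hB' t)

end Cfsg.Agent.Char.EqDeg
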