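import Cfsg.Agent.Lib.Char.EqualDegreeCorner
import Cfsg.Agent.Lib.Char.PairDefect
import Cfsg.Agent.Lib.Char.PairInertial
import Cfsg.Agent.Lib.Block.NilpotentBlock

/-!
A block with abelian defect group all of whose characters have one degree has trivial inertial
quotient: the central functions of the block embed, modulo `M`, into those of the block of the
centralizer fixed by the inertial group, and there are too few of the latter otherwise.
-/

open scoped ComplexConjugate

namespace Cfsg.Agent.Char.EqDeg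

open Cfsg Cfsg.Agent.Block Cfsg.Agent.Char.Spec Cfsg.Agent.Char.BP Cfsg.Agent.Char.Res
  Cfsg.Agent.Char.Decomp

set_option linter.unusedSectionVars false
set_option linter.style.haveILetI false
set_option maxHeartbeats 800000

universe u

variable {G : Type u} [Group G] [Fintype G] [DecidableEq G] {p : ℕ} {M : Ideal AlgInt}
variable {B : Set (IrrCharacter G)}

/-- The residue central functions fixed by the idempotent of a block. -/
noncomputable def cenB (hM : IsPModular p M) (B : Set (IrrCharacter G)) :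
    (letI := resInst hM; Submodule (ResField hM) (MonoidAlgebra (ResField hM) G)) :=
  letI := resInst hM
  { carrier := {y | (∀ g t : G, y.coeff (t * g * t⁻¹) = y.coeff g) ∧ redA hM (bz B) * y = y}
    zero_mem' := ⟨fun _ _ => by simp, mul_zero _⟩
    add_mem' := fun {y z} hy hz => ⟨fun g t => by
      simp only [MonoidAlgebra.coeff_add, Finsupp.add_apply, hy.1, hz.1],
      by rw [mul_add, hy.2, hz.2]⟩
    smul_mem' := fun c y hy => ⟨fun g t => by
      simp only [MonoidAlgebra.coeff_smul, Finsupp.smul_apply, hy.1],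
      by rw [mul_smul_comm, hy.2]⟩ }

theorem mem_cenB (hM : IsPModular p M) {B : Set (IrrCharacter G)} :
    letI := resInst hM
    ∀ {y : MonoidAlgebra (ResField hM) G}, y ∈ cenB hM B ↔
      (∀ g t : G, y.coeff (t * g * t⁻¹) = y.coeff g) ∧ redA hM (bz B) * y = y := by
  letI := resInst hM
  intro y
  exact Iff.rfl

/-- The transform between central functions and vectors over classes. -/
theorem redMat_mulVec (hM : IsPModular p M) (hB : IsPBlock M B) [Fintype (ConjClasses G)] :
    letI := resInst hM
    ∀ (v : ConjClasses G → ResField hM) (w : MonoidAlgebra (ResField hM) G),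
      (∀ g, w.coeff g = v (ConjClasses.mk g⁻¹)) → ∀ C,
      (redMat hM (classMat B)).mulVec v C = (redA hM (bz B) * w).coeff C.out⁻¹ := by
  classical
  letI := resInst hM
  intro v w hw C
  have hr : ∀ C', red hM (classMat B C C') = ∑ h : G,
      if ConjClasses.mk (C.out * h) = C' then red hM (blockCoeff B h) else 0 := fun C' => by
    rw [classMat, Matrix.of_apply, red_sum hM fun h _ => by
      split_ifs
      · exact (blockCoeff_idem hM hB).1 h
      · exact ring_zero hM]
    refine Finset.sum_congr rfl fun h _ => ?_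
    split_ifs
    · rfl
    · exact red_zero hM
  simp only [Matrix.mulVec, dotProduct, redMat, Matrix.map_apply, hr, Finset.sum_mul, ite_mul,
    zero_mul]
  rw [Finset.sum_comm]
  simp only [Finset.sum_ite_eq, Finset.mem_univ, if_true]
  conv_rhs => rw [← sum_coeff_single (redA hM (bz B)), Finset.sum_mul, MonoidAlgebra.coeff_sum,
    Finsupp.coe_finsetSum, Finset.sum_apply]
  refine Finset.sum_congr rfl fun h _ => ?_
  rw [smul_mul_assoc, MonoidAlgebra.coeff_smul, Finsupp.smul_apply, smul_eq_mul, redA_coeff,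
    MonoidAlgebra.coeff_single_mul_apply, one_mul, hw]
  simp [bz, algOf_coeff_id]

theorem finrank_cenB (hM : IsPModular p M) (hB : IsPBlock M B) :
    letI := resInst hM
    Module.finrank (ResField hM) (cenB hM B) = Nat.card B := by
  classical
  letI := resInst hM
  haveI : Fintype (ConjClasses G) := Fintype.ofFinite _
  set L := Matrix.toLin' (redMat hM (classMat B)) with hL
  have hidem : ∀ v, L (L v) = L v := fun v => by
    rw [hL, ← LinearMap.comp_apply, ← Matrix.toLin'_mul]
    congr 2
    have h := classMat_idem hM hB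
    rw [← redMat_mul hM (classMat_ring hM hB) (classMat_ring hM hB), h]
  let Φ : (ConjClasses G → ResField hM) →ₗ[ResField hM] MonoidAlgebra (ResField hM) G :=
    { toFun := fun v => MonoidAlgebra.ofCoeff
        (Finsupp.equivFunOnFinite.symm fun g => v (ConjClasses.mk g⁻¹))
      map_add' := fun v w => by ext g; simp
      map_smul' := fun c v => by ext g; simp }
  have hΦ : ∀ v g, (Φ v).coeff g = v (ConjClasses.mk g⁻¹) := fun v g => by simp [Φ]
  have hΦinj : Function.Injective Φ := by
    intro v w h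
    funext C
    obtain ⟨g, rfl⟩ := ConjClasses.mk_surjective C
    have := congrArg (fun y : MonoidAlgebra (ResField hM) G => y.coeff g⁻¹) h
    simpa [hΦ] using this
  have hcl : ∀ v g t, (Φ v).coeff (t * g * t⁻¹) = (Φ v).coeff g := fun v g t => by
    rw [hΦ, hΦ, show (t * g * t⁻¹)⁻¹ = t * g⁻¹ * t⁻¹ by group]
    exact congrArg v (ConjClasses.mk_eq_mk_iff_isConj.2 (isConj_iff.2 ⟨t, rfl⟩)).symm
  have hrange : (LinearMap.range L).map Φ = cenB hM B := by
    refine le_antisymm ?_ ?_
    · rintro _ ⟨_, ⟨v, rfl⟩, rfl⟩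
      refine (mem_cenB hM).2 ⟨hcl _, MonoidAlgebra.ext (Finsupp.ext fun g => ?_)⟩
      obtain ⟨s, hs⟩ := isConj_iff.1 (ConjClasses.mk_eq_mk_iff_isConj.1
        (Quotient.out_eq (ConjClasses.mk g⁻¹)).symm)
      have h1 := redMat_mulVec hM hB (L v) (Φ (L v)) (hΦ _) (ConjClasses.mk g⁻¹)
      rw [show (redMat hM (classMat B)).mulVec (L v) = L v from by
        rw [← Matrix.toLin'_apply]; exact hidem v] at h1
      rw [hΦ, h1, ← hs, conj_inv, inv_inv]
      have hc : ∀ x, (redA hM (bz B) * Φ (L v)).coeff (s * x * s⁻¹) =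
          (redA hM (bz B) * Φ (L v)).coeff x := by
        intro x
        have hcomm : ∀ z, Φ (L v) * MonoidAlgebra.single z 1 = MonoidAlgebra.single z 1 * Φ (L v) := by
          intro z
          ext y
          rw [MonoidAlgebra.coeff_mul_single_apply, MonoidAlgebra.coeff_single_mul_apply, mul_one,
            one_mul, ← hcl (L v) (z⁻¹ * y) z]
          congr 1
          group
        have hcomm' : redA hM (bz B) * MonoidAlgebra.single s 1 =
            MonoidAlgebra.single s 1 * redA hM (bz B) := by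
          rw [← redA_single hM s, ← redA_mul hM (bz_ring hM hB) (AlgRing.single hM s),
            ← redA_mul hM (AlgRing.single hM s) (bz_ring hM hB), (bz_comm B _).eq]
        have h2 : redA hM (bz B) * Φ (L v) * MonoidAlgebra.single s 1 =
            MonoidAlgebra.single s 1 * (redA hM (bz B) * Φ (L v)) := by
          rw [mul_assoc, hcomm, ← mul_assoc, hcomm', mul_assoc]
        have h3 := congrArg (fun y : MonoidAlgebra (ResField hM) G => y.coeff (s * x)) h2
        simp only [MonoidAlgebra.coeff_mul_single_apply, MonoidAlgebra.coeff_single_mul_apply,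
          mul_one, one_mul, inv_mul_cancel_left] at h3
        exact h3
      exact (hc g).symm
    · intro y hy
      obtain ⟨h1, h2⟩ := (mem_cenB hM).1 hy
      let v : ConjClasses G → ResField hM := fun C => y.coeff C.out⁻¹
      have hv : ∀ g, y.coeff g = v (ConjClasses.mk g⁻¹) := fun g => by
        obtain ⟨s, hs⟩ := isConj_iff.1 (ConjClasses.mk_eq_mk_iff_isConj.1
          (Quotient.out_eq (ConjClasses.mk g⁻¹)).symm)
        show _ = y.coeff _⁻¹
        rw [← hs, conj_inv, inv_inv, h1]
      have hLv : L v = v := funext fun C => by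
        rw [hL, Matrix.toLin'_apply, redMat_mulVec hM hB v y hv C, h2]
      refine ⟨v, ⟨v, hLv⟩, MonoidAlgebra.ext (Finsupp.ext fun g => ?_)⟩
      rw [hΦ, hv]
  rw [← hrange, ← (Submodule.equivMapOfInjective Φ hΦinj _).finrank_eq]
  have h2 := finrank_range_red_idem hM (classMat_ring hM hB) (classMat_idem hM hB)
  rw [classMat_trace, Nat.cast_inj] at h2
  rw [hL, h2, Nat.card_eq_fintype_card, Fintype.card_subtype]

/-- The part of the idempotent of a block outside its pairs. -/
theorem pz_bz_zero [Fact p.Prime] (hM : IsPModular p M) (hB : IsPBlock M B) {r : BrauerPairIdx G}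
    (hr : IsPr p M r) (h : ¬ OfB p M B r) : BrEq M r.1 (pz r * bz B) 0 := by
  classical
  letI := Fintype.ofFinite (CG r.1)
  have hI := blockCoeff_idem hM hB
  have hinv := fun W : Subgroup G => inv_of_classFun (blockCoeff_classFun B) W
  have hval := (holds_or hM hr hI (hinv _) (hinv _)).resolve_left fun hh =>
    h (ofB_of_holds hB hr hh)
  set V := val r.1 (blockCoeff B) with hV
  set F : IrrCharacter (CG r.1) → ℂ := blockInd r.2 with hF
  have hFF : F * F = F := funext fun ξ => by
    by_cases hξ : ξ ∈ r.2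
    · simp [hF, blockInd_of_mem hξ]
    · simp [hF, blockInd_of_notMem hξ]
  have hFc : CenInt M F := fun c => by
    rw [hF, ← blockCoeff_eq]
    exact blockCoeff_ring hM hr.2 c
  have hnil := nil_idem hM (hFc.mul hM (cenInt_val hI.1 (hinv _)))
    (by
      rw [show F * V * (F * V) - F * V = F * (V * V - V) + (F * F - F) * (V * V) by ring, hFF,
        sub_self, zero_mul, add_zero]
      exact CI.mul_left hM hFc (val_idem hM hr.1 hI (hinv _) (hinv _)))
    (fun ξ => by
      by_cases hξ : ξ ∈ r.2
      · simp only [hF, Pi.mul_apply, blockInd_of_mem hξ, one_mul]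
        exact hval ξ hξ
      · simp only [hF, Pi.mul_apply, blockInd_of_notMem hξ, zero_mul]
        exact ideal_zero hM)
  intro c hc
  rw [MonoidAlgebra.coeff_zero, Finsupp.zero_apply, sub_zero]
  have h1 : (pz r * bz B).coeff c = convFun (be r) (blockCoeff B) c := by
    rw [pz, bz, ← algOf_convFun, algOf_coeff_id]
  rw [h1, show convFun (be r) (blockCoeff B) c =
    convFun (be r) (blockCoeff B) ((⟨c, hc⟩ : CG r.1) : G) from rfl,
    conv_res (CG r.1) (blockCoeff B) (bc_supp _ _), bc_res, funext (blockCoeff_eq r.2),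
    ← coeff_val (hinv _), ← coeffFun_mul]
  exact hnil ⟨c, hc⟩

/-- Restriction of the group algebra to a subgroup. -/
theorem exists_restrict (W : Subgroup G) (K : Type*) [Field K] :
    ∃ R : MonoidAlgebra K G →ₗ[K] MonoidAlgebra K W, ∀ y (w : W), (R y).coeff w = y.coeff (w : G) :=
  ⟨{ toFun := fun y => MonoidAlgebra.ofCoeff (Finsupp.equivFunOnFinite.symm fun w : W => y.coeff (w : G))
     map_add' := fun y z => by ext w; simp
     map_smul' := fun c y => by ext w; simp },
   fun y w => by simp⟩

/-- Equal degrees and abelian defect group force a trivial inertial quotient. -/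
theorem inertia_trivial [Fact p.Prime] (hM : IsPModular p M) {P : Subgroup G}
    {e : Set (IrrCharacter (CG P))} (hx : IsMx p M B (⟨P, e⟩ : BrauerPairIdx G))
    (hab : ∀ v ∈ P, ∀ w ∈ P, v * w = w * v)
    {d : ℕ} (hd : ∀ χ : IrrCharacter G, χ ∈ B → charDegree (χ : G → ℂ) = d) :
    stab (⟨P, e⟩ : BrauerPairIdx G) ≤ CG P := by
  classical
  letI := resInst hM
  set x : BrauerPairIdx G := ⟨P, e⟩ with hxdef
  have hB : IsPBlock M B := hx.1.2.1
  have hpr : IsPr p M x := hx.1.1
  have he : IsPBlock M e := hpr.2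
  have hP : IsDefectGroup p M B P := defect_of_max hM hx
  have hPp : IsPGroup p P := IsDefectGroup.isPGroup hP
  have hPC : P ≤ CG P := le_cg_of_comm hab le_rfl
  obtain ⟨D⟩ := exists_bdata hM hB
  letI := Fintype.ofFinite (CG P)
  intro t ht
  by_contra hmove
  obtain ⟨u, hu, htu⟩ : ∃ u ∈ P, t * u * t⁻¹ ≠ u := by
    by_contra hn
    push Not at hn
    exact hmove (Subgroup.mem_centralizer_iff.2 fun u hu => by
      conv_lhs => rw [← hn u hu]
      group)
  have htN : t ∈ Subgroup.normalizer (P : Set G) := stab_le_normalizer x ht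
  -- the defect group of the block of the centralizer
  set P' := P.subgroupOf (CG P) with hP'
  have hP'card : Nat.card P' = Nat.card P :=
    Nat.card_congr (Subgroup.subgroupOfEquivOfLe hPC).toEquiv
  have hbD : IsDefectGroup p M e P' := by
    obtain ⟨g, hle, hD'⟩ := exists_conj_fully hM hx (Relation.ReflTransGen.refl : LE p M x x)
    have h1 : (cjI g x).1 = x.1 := Subgroup.eq_of_le_of_card_ge (le_subgroup hle)
      (card_map_conj g x.1).ge
    have h2 : cjI g x = x := eq_of_le_of_subgroup hM hle h1.ge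
    rw [h2] at hD'
    rw [hP']
    have h3 : x.1 ⊓ CG x.1 = P := inf_eq_left.2 hPC
    rwa [h3] at hD'
  have hcardb : Nat.card e ≤ Nat.card P := by
    have hG' : P' ⊔ Subgroup.centralizer (P' : Set (CG P)) = ⊤ := by
      refine top_le_iff.1 (le_trans ?_ le_sup_right)
      intro c _
      refine Subgroup.mem_centralizer_iff.2 fun v hv => Subtype.ext ?_
      exact Subgroup.mem_centralizer_iff.1 c.2 v hv
    rw [(sup_centralizer_block hM hG' he hbD).2.2, ← hP'card]
    exact Nat.card_le_card_of_surjective _ ConjClasses.mk_surjective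
  -- the map
  obtain ⟨R, hR⟩ := exists_restrict (CG P) (ResField hM)
  let L : MonoidAlgebra (ResField hM) G →ₗ[ResField hM] MonoidAlgebra (ResField hM) (CG P) :=
    R.comp (LinearMap.mulLeft (ResField hM) (redA hM (pz x)))
  have hlift : ∀ y ∈ cenB hM B, ∃ Z, AlgRing M Z ∧ (∀ a, Commute Z a) ∧ bz B * Z = Z ∧
      redA hM Z = y := by
    intro y hy
    obtain ⟨h1, h2⟩ := (mem_cenB hM).1 hy
    choose f hf hfy using fun C : ConjClasses G => red_surjective hM (y.coeff C.out)
    set Z₀ := algOf (MonoidHom.id G) (fun g => f (ConjClasses.mk g)) with hZ₀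
    have hZ₀r : AlgRing M Z₀ := AlgRing.algOf hM _ fun g => hf _
    have hZ₀c : ∀ a, Commute Z₀ a := by
      intro a
      induction a using MonoidAlgebra.induction_on with
      | of g =>
        rw [MonoidAlgebra.of_apply]
        exact algOf_comm_single (MonoidHom.id G) (fun g s => mk_classFun f g s) g
      | add a b ha hb => exact ha.add_right hb
      | smul r a ha => exact ha.smul_right r
    have hred : redA hM Z₀ = y := MonoidAlgebra.ext (Finsupp.ext fun g => by
      rw [redA_coeff, hZ₀, algOf_coeff_id, hfy]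
      obtain ⟨s, hs⟩ := isConj_iff.1 (ConjClasses.mk_eq_mk_iff_isConj.1
        (Quotient.out_eq (ConjClasses.mk g)).symm)
      rw [← hs, h1])
    refine ⟨bz B * Z₀, (bz_ring hM hB).mul hM hZ₀r, fun a => ?_,
      by rw [← mul_assoc, bz_idem hM hB], by rw [redA_mul hM (bz_ring hM hB) hZ₀r, hred, h2]⟩
    exact ((bz_comm B a).symm).mul_left (hZ₀c a)
  have hpzr : AlgRing M (pz x) := pz_ring hM hpr
  have hLval : ∀ Z, AlgRing M Z → ∀ c : CG P,
      (L (redA hM Z)).coeff c = red hM ((pz x * Z).coeff (c : G)) := fun Z hZ c => by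
    show (R (redA hM (pz x) * redA hM Z)).coeff c = _
    rw [hR, ← redA_mul hM hpzr hZ, redA_coeff]
  have hZfx : ∀ Z, AlgRing M Z → (∀ a, Commute Z a) → Fx M P Z := fun Z hZ hc =>
    ⟨hZ, fun v _ => (hc _).symm⟩
  -- injectivity
  have hinj : ∀ y ∈ cenB hM B, L y = 0 → y = 0 := by
    intro y hy h0
    obtain ⟨Z, hZ, hc, hbZ, rfl⟩ := hlift y hy
    refine (redA_eq_zero hM hZ).2 (kill hM hB D hd hP hZ hc hbZ ?_)
    have hpart : ∀ f, IsPBlock M f → BrEq M P (pz (⟨P, f⟩ : BrauerPairIdx G) * Z) 0 := by
      intro f hf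
      have hpf : IsPr p M (⟨P, f⟩ : BrauerPairIdx G) := ⟨hPp, hf⟩
      by_cases hof : OfB p M B (⟨P, f⟩ : BrauerPairIdx G)
      · obtain ⟨y', hle, hy'⟩ := exists_max_above hM hof
        obtain ⟨g₀, hg₀⟩ := max_conj hM hx hy'
        have hsub : P ≤ y'.1 := le_subgroup hle
        have hcard : Nat.card y'.1 = Nat.card P := by
          rw [card_defectGroup hM hB (defect_of_max hM hy'), card_defectGroup hM hB hP]
        have hy1 : P = y'.1 := Subgroup.eq_of_le_of_card_ge hsub hcard.le
        have hmx : IsMx p M B (⟨P, f⟩ : BrauerPairIdx G) := max_of_defect hM hof hP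
        obtain ⟨n, hn, hnx⟩ := max_conj_normalizer hM hx hmx rfl
        intro c hc'
        simp only [MonoidAlgebra.coeff_zero, Finsupp.zero_apply, sub_zero]
        have hcn : n⁻¹ * c * n ∈ CG P := by
          have := mem_normalizer_cg (inv_mem hn)
          have h2 := (Subgroup.mem_normalizer_iff.1 this c).1 hc'
          simpa using h2
        have hval : (pz (⟨P, f⟩ : BrauerPairIdx G) * Z).coeff c =
            (pz x * Z).coeff (n⁻¹ * c * n) := by
          rw [coeff_mul_apply, coeff_mul_apply]
          refine Fintype.sum_equiv (MulAut.conj n⁻¹).toEquiv _ _ fun h => ?_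
          simp only [MulEquiv.toEquiv_eq_coe, MulEquiv.coe_toEquiv, MulAut.conj_apply, inv_inv]
          congr 1
          · rw [pz_coeff, pz_coeff, hnx, be_cjI, cfun]
            congr 1
            group
          · have h3 := congrArg (fun y : MonoidAlgebra ℂ G => y.coeff (n⁻¹ * h))
              (hc (MonoidAlgebra.single n⁻¹ 1)).eq
            simp only [MonoidAlgebra.coeff_mul_single_apply, MonoidAlgebra.coeff_single_mul_apply,
              mul_one, one_mul, inv_inv] at h3
            rw [show n * (n⁻¹ * h) = h by group] at h3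
            exact h3.symm
        rw [hval, ← red_eq_zero hM ((hpzr.mul hM hZ) _)]
        have h4 := congrArg (fun y : MonoidAlgebra (ResField hM) (CG P) => y.coeff ⟨_, hcn⟩) h0
        rw [hLval Z hZ] at h4
        simpa using h4
      · conv => arg 3; rw [← hbZ, ← mul_assoc]
        exact BrEq.mul_zero_left hM hPp
          ((pz_fx_self hM hpf).mul hM ⟨bz_ring hM hB, fun v _ => bz_comm B _⟩)
          (hZfx Z hZ hc) (pz_bz_zero hM hB hpf hof)
    have h1 : ∑ f ∈ blks M (CG P), pz (⟨P, f⟩ : BrauerPairIdx G) = 1 := by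
      ext g
      rw [MonoidAlgebra.coeff_sum, Finsupp.coe_finsetSum, Finset.sum_apply, MonoidAlgebra.one_def,
        MonoidAlgebra.coeff_single, Finsupp.single_apply]
      simp only [pz_coeff]
      by_cases hg : g ∈ CG P
      · rw [sum_blks hM (CG P) hg, dlt]
        by_cases h : g = 1 <;> simp [h, eq_comm]
      · rw [Finset.sum_eq_zero fun f _ => bc_supp _ _ _ hg,
          if_neg fun h : 1 = g => hg (h ▸ one_mem _)]
    intro c hc'
    rw [← one_mul Z, ← h1, Finset.sum_mul]
    simp only [MonoidAlgebra.coeff_sum, Finsupp.coe_finsetSum, Finset.sum_apply,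
      MonoidAlgebra.coeff_zero, Finsupp.zero_apply, sub_zero]
    exact ideal_sum hM fun f hf => by simpa using hpart f (mem_blks.1 hf) c hc'
  -- the image
  have htC : ∀ c : CG P, t * (c : G) * t⁻¹ ∈ CG P := fun c =>
    (Subgroup.mem_normalizer_iff.1 (mem_normalizer_cg htN) c).1 c.2
  let V' : Submodule (ResField hM) (MonoidAlgebra (ResField hM) (CG P)) :=
    { carrier := {y | y ∈ cenB hM e ∧ ∀ c : CG P, y.coeff ⟨_, htC c⟩ = y.coeff c}
      zero_mem' := ⟨zero_mem _, fun c => by simp⟩
      add_mem' := fun {y z} hy hz => ⟨add_mem hy.1 hz.1, fun c => by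
        simp only [MonoidAlgebra.coeff_add, Finsupp.add_apply, hy.2, hz.2]⟩
      smul_mem' := fun r y hy => ⟨Submodule.smul_mem _ r hy.1, fun c => by
        simp only [MonoidAlgebra.coeff_smul, Finsupp.smul_apply, hy.2]⟩ }
  have hpzconj : ∀ z, z ∈ stab x → ∀ Z : MonoidAlgebra ℂ G, (∀ a, Commute Z a) → ∀ c,
      (pz x * Z).coeff (z * c * z⁻¹) = (pz x * Z).coeff c := by
    intro z hz Z hc c
    have hbe : cfun z (be x) = be x := (mem_stab.1 hz).2
    rw [coeff_mul_apply, coeff_mul_apply]
    refine (Fintype.sum_equiv (MulAut.conj z).toEquiv _ _ fun h => ?_).symm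
    simp only [MulEquiv.toEquiv_eq_coe, MulEquiv.coe_toEquiv, MulAut.conj_apply]
    congr 1
    · rw [pz_coeff, pz_coeff]
      conv_rhs => rw [← hbe]
      simp only [cfun]
      congr 1
      group
    · have h3 := congrArg (fun y : MonoidAlgebra ℂ G => y.coeff (z * h))
        (hc (MonoidAlgebra.single z 1)).eq
      simp only [MonoidAlgebra.coeff_mul_single_apply, MonoidAlgebra.coeff_single_mul_apply,
        mul_one, one_mul, inv_mul_cancel_left] at h3
      exact h3.symm
  have himage : (cenB hM B).map L ≤ V' := by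
    rintro _ ⟨y, hy, rfl⟩
    obtain ⟨Z, hZ, hc, hbZ, rfl⟩ := hlift y hy
    refine ⟨(mem_cenB hM).2 ⟨fun g s => ?_, MonoidAlgebra.ext (Finsupp.ext fun c => ?_)⟩,
      fun c => ?_⟩
    · rw [hLval Z hZ, hLval Z hZ, Subgroup.coe_mul, Subgroup.coe_mul, Subgroup.coe_inv,
        hpzconj _ (cg_le_stab x s.2) Z hc]
    · rw [hLval Z hZ]
      set Y := algOf (MonoidHom.id (CG P)) (fun w : CG P => (pz x * Z).coeff (w : G)) with hY
      have hYr : AlgRing M Y := AlgRing.algOf hM _ fun w => (hpzr.mul hM hZ) _
      have hredY : redA hM Y = L (redA hM Z) := MonoidAlgebra.ext (Finsupp.ext fun w => by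
        rw [redA_coeff, hY, algOf_coeff_id, hLval Z hZ])
      rw [← hredY, ← redA_mul hM (bz_ring hM he) hYr, redA_coeff]
      congr 1
      have h1 : (pz x * (pz x * Z)).coeff (c : G) =
          convFun (be x) (fun g => (pz x * Z).coeff g) (c : G) := by
        rw [coeff_conv]
        simp only [pz_coeff]
      have h2 : (pz x * (pz x * Z)).coeff (c : G) = (pz x * Z).coeff (c : G) := by
        rw [← mul_assoc, pz_idem hM hpr]
      rw [← h2, h1, conv_res (CG P) _ (bc_supp _ _), bc_res, bz, hY, ← algOf_convFun, algOf_coeff_id]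
      rfl
    · rw [hLval Z hZ, hLval Z hZ]
      show red hM ((pz x * Z).coeff (t * (c : G) * t⁻¹)) = _
      rw [hpzconj t ht Z hc]
  -- a function of the centralizer which moves
  let u' : CG P := ⟨u, hPC hu⟩
  have hcen' : ∀ c : CG P, c * u' = u' * c := fun c =>
    Subtype.ext (Subgroup.mem_centralizer_iff.1 c.2 u hu).symm
  set y₀ := redA hM (MonoidAlgebra.single u' (1 : ℂ) * bz e) with hy₀
  have hy₀c : ∀ c : CG P, y₀.coeff c = red hM (blockCoeff e (u'⁻¹ * c)) := fun c => by
    rw [hy₀, redA_coeff, MonoidAlgebra.coeff_single_mul_apply, one_mul, bz, algOf_coeff_id]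
  have hy₀V : y₀ ∈ cenB hM e := by
    refine (mem_cenB hM).2 ⟨fun g s => ?_, ?_⟩
    · rw [hy₀c, hy₀c]
      congr 1
      rw [show u'⁻¹ * (s * g * s⁻¹) = s * (u'⁻¹ * g) * s⁻¹ by
        have hh : u'⁻¹ * s = s * u'⁻¹ := by
          rw [eq_mul_inv_iff_mul_eq, mul_assoc, hcen', inv_mul_cancel_left]
        calc u'⁻¹ * (s * g * s⁻¹) = u'⁻¹ * s * (g * s⁻¹) := by group
          _ = _ := by rw [hh]; group]
      exact blockCoeff_classFun e _ _
    · rw [hy₀, ← redA_mul hM (bz_ring hM he) ((AlgRing.single hM _).mul hM (bz_ring hM he))]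
      congr 1
      rw [← mul_assoc, ← (bz_comm e _).eq, mul_assoc, bz_idem hM he]
  obtain ⟨h₀, hh₀⟩ : ∃ h₀ : CG P, IsDefectClass M e h₀ := by
    obtain ⟨g, hg, -⟩ := hbD
    exact ⟨g, hg⟩
  have hne₀ : ¬ MemLocalIdeal M (blockCoeff e h₀) := hh₀.2.1
  have hreg₀ : ¬ p ∣ orderOf h₀ := regular_of_unit hM he hne₀
  have hnot : y₀ ∉ V' := by
    intro hmem
    have h1 := hmem.2 (u' * h₀)
    rw [hy₀c, hy₀c, inv_mul_cancel_left] at h1
    set w : CG P := u'⁻¹ * ⟨_, htC (u' * h₀)⟩ with hw
    have hwsing : p ∣ orderOf w := by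
      let h1' : CG P := ⟨_, htC h₀⟩
      let u1 : CG P := ⟨t * u * t⁻¹, hPC ((Subgroup.mem_normalizer_iff.1 htN u).1 hu)⟩
      have hweq : w = (u'⁻¹ * u1) * h1' := by
        refine Subtype.ext ?_
        show u⁻¹ * (t * (u * (h₀ : G)) * t⁻¹) = u⁻¹ * (t * u * t⁻¹) * (t * (h₀ : G) * t⁻¹)
        group
      have hvP : u⁻¹ * (t * u * t⁻¹) ∈ P :=
        mul_mem (inv_mem hu) ((Subgroup.mem_normalizer_iff.1 htN u).1 hu)
      have hco : Commute (u'⁻¹ * u1) h1' :=
        Subtype.ext (Subgroup.mem_centralizer_iff.1 h1'.2 _ hvP)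
      obtain ⟨a, ha⟩ := IsPGroup.iff_orderOf.1 hPp ⟨_, hvP⟩
      rw [Subgroup.orderOf_mk] at ha
      have hov : orderOf (u'⁻¹ * u1) = p ^ a := by rw [← ha, ← Subgroup.orderOf_coe]; rfl
      have ha0 : a ≠ 0 := fun h0 => htu (by
        rw [h0, pow_zero, orderOf_eq_one_iff, inv_mul_eq_one] at ha
        exact ha.symm)
      have hoh : orderOf h1' = orderOf h₀ := by
        rw [← Subgroup.orderOf_coe, ← Subgroup.orderOf_coe]
        exact (MulAut.conj t).orderOf_eq (h₀ : G)
      rw [hweq, hco.orderOf_mul_eq_mul_orderOf_of_coprime (by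
        rw [hov, hoh]
        exact (((Fact.out : p.Prime).coprime_iff_not_dvd.2 hreg₀).pow_left a))]
      exact (hov ▸ dvd_pow_self p ha0).mul_right _
    rw [blockCoeff_singular hM he hwsing, red_zero] at h1
    exact hne₀ ((red_eq_zero hM (blockCoeff_ring hM he _)).1 h1.symm)
  -- counting
  have hlt : V' < cenB hM e := lt_of_le_of_ne (fun y hy => hy.1) fun h => hnot (h ▸ hy₀V)
  have h1 : Module.finrank (ResField hM) (cenB hM B) ≤ Module.finrank (ResField hM) V' := by
    refine LinearMap.finrank_le_finrank_of_injective (f := (L.comp (cenB hM B).subtype).codRestrict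
      V' fun y => himage ⟨y.1, y.2, rfl⟩) ?_
    rw [← LinearMap.ker_eq_bot, LinearMap.ker_eq_bot']
    intro y hy
    exact Subtype.ext (hinj y.1 y.2 (congrArg Subtype.val hy))
  have h2 := Submodule.finrank_lt_finrank_of_lt hlt
  rw [finrank_cenB hM hB] at h1
  rw [finrank_cenB hM he] at h2
  have hne : 0 < Nat.card B := by
    obtain ⟨χ, hχ⟩ := pblock_nonempty hM hB
    haveI : Nonempty B := ⟨⟨χ, hχ⟩⟩
    exact Nat.card_pos
  have h3 : Nat.card P ≤ Nat.card B := by
    rw [card_defectGroup hM hB hP]
    exact Nat.le_of_dvd hne (defect_dvd_card hM hB D hd)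
  omega

end Cfsg.Agent.Char.EqDeg
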