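import Cfsg.Agent.Lib.Char.Constituent
import Cfsg.Agent.Lib.Char.Induce

/-!
A family of generalized characters whose differences behave like differences of orthonormal
functions comes, up to a sign, from a family of irreducible characters; TI induction.
-/

namespace Cfsg.Agent.Char.Exceptional

open scoped ComplexConjugate
open Cfsg

universe u

variable {G : Type u} [Group G] [Fintype G]

theorem classInner_sub_sub {a b c d : G → ℂ} :
    classInner (a - b) (c - d) =
      classInner a c - classInner a d - classInner b c + classInner b d := by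
  rw [classInner_sub_left, classInner_sub_right, classInner_sub_right]
  ring

open scoped Classical in
theorem pair_cases {p q r s : G → ℂ} (hp : IsIrrCharacter G p) (hq : IsIrrCharacter G q)
    (hr : IsIrrCharacter G r) (hs : IsIrrCharacter G s) (hpq : p ≠ q) (hrs : r ≠ s)
    (h : classInner (p - q) (r - s) = 1) : (p = r ∧ q ≠ s) ∨ (p ≠ r ∧ q = s) := by
  rw [classInner_sub_sub, classInner_irr_eq_ite hp hr, classInner_irr_eq_ite hp hs,
    classInner_irr_eq_ite hq hr, classInner_irr_eq_ite hq hs] at h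
  by_cases h1 : p = r <;> by_cases h4 : q = s
  · exfalso
    subst h1; subst h4
    norm_num [hpq, hpq.symm] at h
  · exact Or.inl ⟨h1, h4⟩
  · exact Or.inr ⟨h1, h4⟩
  · exfalso
    simp only [h1, h4, if_false] at h
    split_ifs at h <;> norm_num at h

open scoped Classical in
/-- Differences with the inner products of orthonormal differences come from irreducibles. -/
theorem exists_family {n : ℕ} (hn : 2 ≤ n) (a : Fin n → G → ℂ)
    (hgen : ∀ i j, IsGeneralizedCharacter G (a i - a j)) (hone : ∀ i j, a i 1 = a j 1)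
    (hin : ∀ i j k l, classInner (a i - a j) (a k - a l) =
      ((if i = k then (1 : ℂ) else 0) - if i = l then 1 else 0) -
        (if j = k then 1 else 0) + if j = l then 1 else 0) :
    ∃ ε : ℂ, (ε = 1 ∨ ε = -1) ∧ ∃ θ : Fin n → (G → ℂ),
      (∀ i, IsIrrCharacter G (θ i)) ∧ Function.Injective θ ∧
      ∀ i j, a i - a j = ε • (θ i - θ j) := by
  let z : Fin n := ⟨0, by omega⟩
  have hD : ∀ j : Fin n, j ≠ z → ∃ p q : G → ℂ,
      IsIrrCharacter G p ∧ IsIrrCharacter G q ∧ p ≠ q ∧ a z - a j = p - q := fun j hj =>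
    IsGenChar.norm_two (hgen z j)
      (by rw [hin, if_pos rfl, if_neg hj.symm, if_neg hj, if_pos rfl]; norm_num)
      (by rw [Pi.sub_apply, hone z j, sub_self])
  choose p q hp hq hpq he using hD
  have hinner : ∀ {j k : Fin n} (hj : j ≠ z) (hk : k ≠ z), j ≠ k →
      classInner (p j hj - q j hj) (p k hk - q k hk) = 1 := fun {j k} hj hk hjk => by
    rw [← he, ← he, hin, if_pos rfl, if_neg hk.symm, if_neg hj, if_neg hjk]; norm_num
  -- one side is common to all
  have main : ∀ (P Q : ∀ j : Fin n, j ≠ z → G → ℂ) (ε : ℂ), (ε = 1 ∨ ε = -1) →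
      (∀ j hj, IsIrrCharacter G (P j hj)) → (∀ j hj, IsIrrCharacter G (Q j hj)) →
      (∀ j hj, P j hj ≠ Q j hj) → (∀ j hj, a z - a j = ε • (P j hj - Q j hj)) →
      ∀ (c : Fin n) (hc : c ≠ z), (∀ j hj, P j hj = P c hc) →
      ∃ ε : ℂ, (ε = 1 ∨ ε = -1) ∧ ∃ θ : Fin n → (G → ℂ),
        (∀ i, IsIrrCharacter G (θ i)) ∧ Function.Injective θ ∧
        ∀ i j, a i - a j = ε • (θ i - θ j) := by
    intro P Q ε hε hP hQ hne hPe c hc hall
    let θ : Fin n → (G → ℂ) := fun j => if h : j = z then P c hc else Q j h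
    have hz : θ z = P c hc := dif_pos rfl
    have hj : ∀ j (h : j ≠ z), θ j = Q j h := fun j h => dif_neg h
    have hkey : ∀ j, a z - a j = ε • (θ z - θ j) := by
      intro j
      by_cases h : j = z
      · rw [h, sub_self, sub_self, smul_zero]
      · rw [hz, hj j h, hPe j h, hall j h]
    refine ⟨ε, hε, θ, fun i => ?_, fun i j hij => ?_, fun i j => ?_⟩
    · by_cases h : i = z
      · rw [h, hz]; exact hP c hc
      · rw [hj i h]; exact hQ i h
    · by_contra hne'
      have e : a i - a j = 0 := by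
        rw [← sub_sub_sub_cancel_left (a j) (a i) (a z), hkey, hkey, hij, sub_self]
      have h2 := hin i j i j
      rw [e, classInner_zero_left, if_pos rfl, if_neg hne', if_neg (Ne.symm hne'), if_pos rfl] at h2
      norm_num at h2
    · rw [← sub_sub_sub_cancel_left (a j) (a i) (a z), hkey, hkey, ← smul_sub,
        sub_sub_sub_cancel_left]
  have hc : (⟨1, by omega⟩ : Fin n) ≠ z := by simp [z, Fin.ext_iff]
  set c : Fin n := ⟨1, by omega⟩
  have hshare : ∀ j (hj : j ≠ z), j ≠ c →
      (p j hj = p c hc ∧ q j hj ≠ q c hc) ∨ (p j hj ≠ p c hc ∧ q j hj = q c hc) := fun j hj hjc =>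
    pair_cases (hp _ _) (hq _ _) (hp _ _) (hq _ _) (hpq _ _) (hpq _ _) (hinner hj hc hjc)
  by_cases hall : ∀ j hj, p j hj = p c hc
  · exact main p q 1 (Or.inl rfl) hp hq hpq (fun j hj => by rw [one_smul]; exact he j hj) c hc hall
  · refine main q p (-1) (Or.inr rfl) hq hp (fun j hj => (hpq j hj).symm)
      (fun j hj => by rw [neg_one_smul, neg_sub]; exact he j hj) c hc ?_
    push Not at hall
    obtain ⟨j₀, hj₀, hne₀⟩ := hall
    intro k hk
    by_cases hkc : k = c
    · subst hkc; rfl
    have hj₀c : j₀ ≠ c := fun e => hne₀ (by subst e; rfl)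
    have h0 : q j₀ hj₀ = q c hc := ((hshare j₀ hj₀ hj₀c).resolve_left fun h => hne₀ h.1).2
    by_contra hnk
    have hk1 := (hshare k hk hkc).resolve_right fun h => hnk h.2
    have hkj : k ≠ j₀ := fun e => hne₀ (by subst e; exact hk1.1)
    rcases pair_cases (hp _ _) (hq _ _) (hp _ _) (hq _ _) (hpq _ _) (hpq _ _) (hinner hk hj₀ hkj)
      with h | h
    · exact hne₀ (h.1.symm.trans hk1.1)
    · exact hnk (h.2.trans h0)

/-- For a TI set, induction from the normalizer keeps values on the set. -/
theorem indFun_apply_ti {S : Set G} (hTI : ∀ g : G, g ∉ Subgroup.normalizer S → ∀ s ∈ S,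
      g * s * g⁻¹ ∈ S → s = 1) {β : Subgroup.normalizer S → ℂ}
    (hβ : IsClassFunction _ β) (hsupp : ∀ x : Subgroup.normalizer S, (x : G) ∉ S → β x = 0)
    (h1 : β 1 = 0) (s : Subgroup.normalizer S) (hs : (s : G) ∈ S) :
    indFun (Subgroup.normalizer S) β s = β s := by
  classical
  by_cases hs1 : s = 1
  · subst hs1
    rw [Subgroup.coe_one, indFun_one_eq, h1, mul_zero]
  have hval : ∀ x : G, extendByZero (Subgroup.normalizer S) β (x⁻¹ * s * x) =
      if x ∈ Subgroup.normalizer S then β s else 0 := by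
    intro x
    split_ifs with hx
    · rw [extendByZero_of_mem β (mul_mem (mul_mem (inv_mem hx) s.2) hx)]
      have h := hβ s (⟨x, hx⟩⁻¹)
      rw [inv_inv] at h
      exact h
    · by_cases hm : x⁻¹ * (s : G) * x ∈ Subgroup.normalizer S
      · rw [extendByZero_of_mem β hm]
        refine hsupp _ fun hmem => hs1 (Subtype.ext (hTI x⁻¹ (fun h => hx ?_) s hs (by rwa [inv_inv])))
        simpa using inv_mem h
      · exact extendByZero_not_mem β hm
  simp only [indFun, hval]
  rw [← Finset.sum_filter, Finset.sum_const, nsmul_eq_mul, ← Fintype.card_subtype,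
    ← Nat.card_eq_fintype_card, ← mul_assoc,
    inv_mul_cancel₀ (Nat.cast_ne_zero.2 Nat.card_pos.ne'), one_mul]

/-- TI induction is an isometry on functions vanishing at one and off the set. -/
theorem ti_isometry {S : Set G} [Fintype (Subgroup.normalizer S)]
    (hTI : ∀ g : G, g ∉ Subgroup.normalizer S → ∀ s ∈ S, g * s * g⁻¹ ∈ S → s = 1)
    {α β : Subgroup.normalizer S → ℂ} (hsa : ∀ x : Subgroup.normalizer S, (x : G) ∉ S → α x = 0)
    (hβ : IsClassFunction _ β) (hsb : ∀ x : Subgroup.normalizer S, (x : G) ∉ S → β x = 0)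
    (hb1 : β 1 = 0) :
    classInner (indFun (Subgroup.normalizer S) α) (indFun (Subgroup.normalizer S) β) =
      classInner α β := by
  rw [classInner_indFun _ α (indFun_classFun _ β)]
  simp only [classInner]
  congr 1
  refine Finset.sum_congr rfl fun x _ => ?_
  by_cases hx : (x : G) ∈ S
  · rw [indFun_apply_ti hTI hβ hsb hb1 x hx]
  · rw [hsa x hx, zero_mul, zero_mul]

end Cfsg.Agent.Char.Exceptional
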