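import Cfsg.Prelude.Def_Transfer
import Cfsg.Agent.Lib.Char.Induce
import Cfsg.Agent.Lib.Char.Kernel
import Mathlib.LinearAlgebra.Matrix.Trace

/-!
Characters of extraspecial groups.
-/

namespace Cfsg.Agent.Char.ESpec

open scoped ComplexConjugate
open Cfsg

universe u

variable {P : Type u} [Group P]

/-- A character of degree one is a homomorphism. -/
theorem exists_hom {H : Type u} [Group H] {χ : H → ℂ} (hχ : IsCharacter H χ) (h1 : χ 1 = 1) :
    ∃ l : H →* ℂˣ, ∀ h, (l h : ℂ) = χ h := by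
  obtain ⟨n, ρ, rfl⟩ := hχ
  have hn : n = 1 := by
    rw [Representation.char_one, Module.finrank_fin_fun] at h1
    exact_mod_cast h1
  subst hn
  have htr : ∀ g : H, ρ.character g = LinearMap.toMatrix' (ρ g) 0 0 := fun g => by
    show LinearMap.trace ℂ _ (ρ g) = _
    rw [LinearMap.trace_eq_matrix_trace ℂ (Pi.basisFun ℂ (Fin 1)), LinearMap.toMatrix_eq_toMatrix',
      Matrix.trace, Fin.sum_univ_one, Matrix.diag_apply]
  have hmul : ∀ g g' : H, ρ.character (g * g') = ρ.character g * ρ.character g' := fun g g' => by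
    rw [htr, htr, htr, map_mul, LinearMap.toMatrix'_mul, Matrix.mul_apply, Fin.sum_univ_one]
  let f : H →* ℂ := { toFun := ρ.character, map_one' := h1, map_mul' := hmul }
  exact ⟨f.toHomUnits, fun h => rfl⟩

theorem commutator_mem (hd : commutator P = Subgroup.center P) (a b : P) :
    a * b * a⁻¹ * b⁻¹ ∈ Subgroup.center P := by
  rw [← hd]
  exact Subgroup.commutator_mem_commutator (Subgroup.mem_top a) (Subgroup.mem_top b)

theorem normal_of_center_le (hd : commutator P = Subgroup.center P) {A : Subgroup P}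
    (hZA : Subgroup.center P ≤ A) : A.Normal := ⟨fun a ha g => by
  have h := A.mul_mem (hZA (commutator_mem hd g a)) ha
  simpa [mul_assoc] using h⟩

/-- A nontrivial element of the centre of order p is a generator. -/
theorem l_ne_one [Finite P] {p : ℕ} [Fact p.Prime] (hZ : Nat.card (Subgroup.center P) = p)
    {l : Subgroup.center P →* ℂˣ} (hl : ∃ z, l z ≠ 1) {z : Subgroup.center P} (hz : z ≠ 1) :
    l z ≠ 1 := fun h => by
  obtain ⟨w, hw⟩ := hl
  obtain ⟨k, hk⟩ := Subgroup.mem_zpowers_iff.1 (mem_zpowers_of_prime_card hZ hz (g' := w))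
  rw [← hk, map_zpow, h, one_zpow] at hw
  exact hw rfl

variable [Fintype P] {p : ℕ} [Fact p.Prime]

theorem indFun_values (hd : commutator P = Subgroup.center P)
    (hcard : Nat.card (Subgroup.center P) = p) (A : Subgroup P) (hZA : Subgroup.center P ≤ A)
    (l : A →* ℂˣ) (hl : ∃ a : A, (a : P) ∈ Subgroup.center P ∧ l a ≠ 1) (x : P) :
    (x ∉ Subgroup.center P → indFun A (fun a => (l a : ℂ)) x = 0) ∧
    (∀ hx : x ∈ Subgroup.center P,
      indFun A (fun a => (l a : ℂ)) x = (A.index : ℂ) * (l ⟨x, hZA hx⟩ : ℂ)) := by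
  classical
  have hAn := normal_of_center_le hd hZA
  set Z := Subgroup.center P
  let lZ : Z →* ℂˣ := l.comp (Subgroup.inclusion hZA)
  have hlZ : ∃ z, lZ z ≠ 1 := by
    obtain ⟨a, ha, hla⟩ := hl
    exact ⟨⟨a, ha⟩, hla⟩
  refine ⟨fun hx => ?_, fun hx => ?_⟩
  · by_cases hxA : x ∈ A
    · let com : P →* Z :=
        { toFun := fun c => ⟨c⁻¹ * x * c * x⁻¹, by
            have := commutator_mem hd c⁻¹ x
            simpa [Z] using this⟩
          map_one' := Subtype.ext (by simp)
          map_mul' := fun a b => Subtype.ext (by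
            show (a * b)⁻¹ * x * (a * b) * x⁻¹ = (a⁻¹ * x * a * x⁻¹) * (b⁻¹ * x * b * x⁻¹)
            have hz : a⁻¹ * x * a * x⁻¹ ∈ Z := by
              have := commutator_mem hd a⁻¹ x
              simpa [Z] using this
            have hcen := Subgroup.mem_center_iff.1 hz b⁻¹
            calc (a * b)⁻¹ * x * (a * b) * x⁻¹
                = b⁻¹ * (a⁻¹ * x * a * x⁻¹) * (x * b * x⁻¹) := by group
              _ = (a⁻¹ * x * a * x⁻¹) * b⁻¹ * (x * b * x⁻¹) := by rw [hcen]
              _ = (a⁻¹ * x * a * x⁻¹) * (b⁻¹ * x * b * x⁻¹) := by group) }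
      have hne : lZ.comp com ≠ 1 := by
        obtain ⟨c, hc⟩ : ∃ c, c * x ≠ x * c := by
          by_contra h
          push Not at h
          exact hx (Subgroup.mem_center_iff.2 h)
        intro h
        refine l_ne_one hcard hlZ (z := com c) (fun e => hc ?_) (DFunLike.congr_fun h c)
        have e' : c⁻¹ * x * c * x⁻¹ = 1 := congrArg Subtype.val e
        calc c * x = c * ((c⁻¹ * x * c * x⁻¹) * x) := by rw [e', one_mul]
          _ = x * c := by group
      have hterm : ∀ c : P, extendByZero A (fun a => (l a : ℂ)) (c⁻¹ * x * c) =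
          (l ⟨x, hxA⟩ : ℂ) * ((lZ.comp com) c : ℂ) := by
        intro c
        have hmem : c⁻¹ * x * c ∈ A := by simpa using hAn.conj_mem x hxA c⁻¹
        rw [extendByZero_of_mem _ hmem, ← Units.val_mul]
        congr 1
        have e : (⟨c⁻¹ * x * c, hmem⟩ : A) = Subgroup.inclusion hZA (com c) * ⟨x, hxA⟩ :=
          Subtype.ext (show c⁻¹ * x * c = (c⁻¹ * x * c * x⁻¹) * x by group)
        rw [e, map_mul, mul_comm]
        rfl
      rw [indFun, Finset.sum_congr rfl fun c _ => hterm c, ← Finset.mul_sum, linear_sum _ hne,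
        mul_zero, mul_zero]
    · rw [indFun, Finset.sum_eq_zero fun c _ => extendByZero_not_mem _ fun h => hxA ?_, mul_zero]
      simpa [mul_assoc] using hAn.conj_mem _ h c
  · have hterm : ∀ c : P, extendByZero A (fun a => (l a : ℂ)) (c⁻¹ * x * c) = (l ⟨x, hZA hx⟩ : ℂ) := by
      intro c
      have e : c⁻¹ * x * c = x := by rw [Subgroup.mem_center_iff.1 hx c⁻¹, inv_mul_cancel_right]
      rw [e, extendByZero_of_mem _ (hZA hx)]
    rw [indFun, Finset.sum_congr rfl fun c _ => hterm c, Finset.sum_const, Finset.card_univ,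
      nsmul_eq_mul, ← mul_assoc]
    congr 1
    rw [← Nat.card_eq_fintype_card, ← Subgroup.card_mul_index A, Nat.cast_mul, ← mul_assoc,
      inv_mul_cancel₀ (Nat.cast_ne_zero.2 Nat.card_pos.ne'), one_mul]

theorem norm_value (hd : commutator P = Subgroup.center P)
    (hcard : Nat.card (Subgroup.center P) = p) (A : Subgroup P) (hZA : Subgroup.center P ≤ A)
    (l : A →* ℂˣ) (hl : ∃ a : A, (a : P) ∈ Subgroup.center P ∧ l a ≠ 1) :
    (Nat.card P : ℂ) * classInner (indFun A (fun a => (l a : ℂ))) (indFun A (fun a => (l a : ℂ))) =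
      (p : ℂ) * (A.index : ℂ) ^ 2 := by
  classical
  set Z := Subgroup.center P with hZdef
  rw [classInner, ← mul_assoc, mul_inv_cancel₀ (Nat.cast_ne_zero.2 Nat.card_pos.ne'), one_mul]
  rw [Finset.sum_congr rfl (g := fun x => if x ∈ Z then (A.index : ℂ) ^ 2 else 0) fun x _ => ?_]
  · rw [← Finset.sum_filter, Finset.sum_const, nsmul_eq_mul, ← hcard, Nat.card_eq_fintype_card,
      Fintype.card_subtype]
  by_cases hx : x ∈ Z
  · rw [if_pos hx, (indFun_values hd hcard A hZA l hl x).2 hx, map_mul, map_natCast]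
    obtain ⟨m, hm, hpow⟩ : ∃ m, 0 < m ∧ ((l ⟨x, hZA hx⟩ : ℂˣ) : ℂ) ^ m = 1 :=
      ⟨Nat.card A, Nat.card_pos, by rw [← Units.val_pow_eq_pow_val, ← map_pow, pow_card_eq_one', map_one, Units.val_one]⟩
    have hn := Complex.norm_eq_one_of_pow_eq_one hpow hm.ne'
    rw [mul_mul_mul_comm, Complex.mul_conj', hn]
    push_cast; ring
  · rw [if_neg hx, (indFun_values hd hcard A hZA l hl x).1 hx, zero_mul]

/-- An abelian subgroup of the order of a maximal one contains the centre. -/
theorem center_le {n : ℕ} (hd : commutator P = Subgroup.center P)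
    (hcard : Nat.card (Subgroup.center P) = p) (hP : Nat.card P = p ^ (2 * n + 1)) (A : Subgroup P)
    (hab : ∀ a ∈ A, ∀ b ∈ A, a * b = b * a) (hA : Nat.card A = p ^ (n + 1)) :
    Subgroup.center P ≤ A := by
  classical
  have hp : p.Prime := Fact.out
  by_contra hle
  set Z := Subgroup.center P with hZdef
  set B := A ⊔ Z with hB
  have hBab : ∀ a b : B, a * b = b * a := by
    intro a b
    have hdec : ∀ c ∈ B, ∃ u ∈ A, ∃ v ∈ Z, u * v = c := fun c hc => Subgroup.mem_sup_of_normal_right.1 hc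
    obtain ⟨a1, ha1, a2, ha2, hae⟩ := hdec a a.2
    obtain ⟨b1, hb1, b2, hb2, hbe⟩ := hdec b b.2
    refine Subtype.ext ?_
    show (a : P) * b = b * a
    rw [← hae, ← hbe]
    calc a1 * a2 * (b1 * b2) = a1 * (a2 * b1) * b2 := by group
      _ = (a1 * b1) * (a2 * b2) := by rw [← Subgroup.mem_center_iff.1 ha2 b1]; group
      _ = (b1 * a1) * (b2 * a2) := by rw [hab a1 ha1 b1 hb1, Subgroup.mem_center_iff.1 hb2 a2]
      _ = b1 * (a1 * b2) * a2 := by group
      _ = b1 * b2 * (a1 * a2) := by rw [Subgroup.mem_center_iff.1 hb2 a1]; group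
  obtain ⟨z, hz⟩ : ∃ z : Z, z ≠ 1 := by
    have : Nontrivial Z := Finite.one_lt_card_iff_nontrivial.1 (hcard ▸ hp.one_lt)
    exact exists_ne 1
  have hzB : (z : P) ∈ B := Subgroup.mem_sup_right z.2
  obtain ⟨l, hl⟩ : ∃ l : B →* ℂˣ, l ⟨z, hzB⟩ ≠ 1 := by
    by_contra h
    push Not at h
    exact hz (Subtype.ext (congrArg Subtype.val (eq_one_of_forall_linear hBab h) :))
  have hnorm := norm_value hd hcard B le_sup_right l ⟨⟨z, hzB⟩, z.2, hl⟩
  set f := indFun B (fun a => (l a : ℂ))
  obtain ⟨m, hm⟩ := IsChar.classInner_nat (isCharacter_indFun B (IsIrr.isCharacter (isIrr_linear l)))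
    (isCharacter_indFun B (IsIrr.isCharacter (isIrr_linear l)))
  rw [hm] at hnorm
  have hnorm' : Nat.card P * m = p * B.index ^ 2 := by exact_mod_cast hnorm
  have hlt : A < B := lt_of_le_of_ne le_sup_left fun e => hle (e ▸ le_sup_right)
  obtain ⟨j, hj, hjB⟩ := (Nat.dvd_prime_pow hp).1 (hP ▸ B.card_subgroup_dvd_card)
  have hjn : n + 1 < j := by
    have : p ^ (n + 1) < p ^ j := by
      rw [← hA, ← hjB]
      exact lt_of_not_ge fun h => hlt.ne (Subgroup.eq_of_le_of_card_ge hlt.le h)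
    exact (Nat.pow_lt_pow_iff_right hp.one_lt).1 this
  have hidx : B.index = p ^ (2 * n + 1 - j) := by
    refine Nat.eq_of_mul_eq_mul_left (Nat.card_pos (α := B)) ?_
    rw [B.card_mul_index, hP, hjB, ← pow_add, Nat.add_sub_cancel' hj]
  rw [hP, hidx, ← pow_mul, ← pow_succ'] at hnorm'
  rcases Nat.eq_zero_or_pos m with h0 | hpos
  · rw [h0, mul_zero] at hnorm'
    exact (pow_pos hp.pos _).ne hnorm'
  · have : p ^ (2 * n + 1) ≤ p ^ ((2 * n + 1 - j) * 2 + 1) := hnorm' ▸ Nat.le_mul_of_pos_right _ hpos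
    have := (Nat.pow_le_pow_iff_right hp.one_lt).1 this
    omega

/-- An irreducible character nontrivial on the centre vanishes outside it. -/
theorem vanish (hd : commutator P = Subgroup.center P)
    (hcard : Nat.card (Subgroup.center P) = p) (χ : IrrCharacter P)
    (hne : ∃ z ∈ Subgroup.center P, (χ : P → ℂ) z ≠ (χ : P → ℂ) 1) (x : P)
    (hx : x ∉ Subgroup.center P) : (χ : P → ℂ) x = 0 := by
  obtain ⟨c, hc⟩ : ∃ c, c * x ≠ x * c := by
    by_contra h
    push Not at h
    exact hx (Subgroup.mem_center_iff.2 h)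
  set w := c * x * c⁻¹ * x⁻¹ with hw
  have hwZ : w ∈ Subgroup.center P := commutator_mem hd c x
  have hw1 : w ≠ 1 := fun e => hc (by
    have e' : c * x * c⁻¹ * x⁻¹ = 1 := e
    calc c * x = (c * x * c⁻¹ * x⁻¹) * (x * c) := by group
      _ = x * c := by rw [e', one_mul])
  obtain ⟨s, -, hs⟩ := IsIrr.exists_scalar χ.2 (z := w) fun g => by
    rw [← Subgroup.mem_center_iff.1 hwZ g]; group
  have hclass : (χ : P → ℂ) (w * x) = (χ : P → ℂ) x := by
    rw [show w * x = c * x * c⁻¹ by rw [hw]; group]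
    exact IsIrr.classFun χ.2 x c
  rw [hs x] at hclass
  by_contra hx0
  have hs1 : s = 1 := mul_right_cancel₀ hx0 (hclass.trans (one_mul _).symm)
  obtain ⟨z, hz, hzne⟩ := hne
  apply hzne
  obtain ⟨k, hk⟩ := (Submonoid.mem_powers_iff _ _).1 (mem_powers_of_prime_card (g := (⟨w, hwZ⟩ : Subgroup.center P))
    (g' := ⟨z, hz⟩) hcard (fun e => hw1 (congrArg Subtype.val e)))
  have hk' : w ^ k = z := congrArg Subtype.val hk
  rw [← hk']
  have : ∀ i : ℕ, (χ : P → ℂ) (w ^ i) = (χ : P → ℂ) 1 := by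
    intro i
    induction i with
    | zero => rw [pow_zero]
    | succ i ih => rw [pow_succ', hs, hs1, one_mul, ih]
  exact this k

end Cfsg.Agent.Char.ESpec
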