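import Cfsg.Agent.Lib.Char.Eigen

/-!
Field automorphisms of the complex numbers with prescribed action on roots of unity.
-/

namespace Cfsg.Agent.Char

open scoped ComplexConjugate

/-- For `k` prime to `n` some automorphism of the complex field raises all `n`-th roots of unity
to their `k`-th power. -/
theorem exists_ringAut_pow (n k : ℕ) (hn : 0 < n) (hk : k.Coprime n) :
    ∃ σ : ℂ ≃+* ℂ, ∀ ζ : ℂ, ζ ^ n = 1 → σ ζ = ζ ^ k := by
  haveI : NeZero n := ⟨hn.ne'⟩
  obtain ⟨ζ, hζ⟩ : ∃ ζ : ℂ, IsPrimitiveRoot ζ n := ⟨_, Complex.isPrimitiveRoot_exp n hn.ne'⟩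
  let K : IntermediateField ℚ ℂ := IntermediateField.adjoin ℚ {ζ}
  haveI : IsCyclotomicExtension {n} ℚ K := by
    change IsCyclotomicExtension {n} ℚ (IntermediateField.adjoin ℚ {ζ}).toSubalgebra
    rw [IntermediateField.adjoin_simple_toSubalgebra_of_isAlgebraic
      (hζ.isIntegral hn).tower_top.isAlgebraic]
    exact hζ.adjoin_isCyclotomicExtension ℚ
  let τ : K ≃ₐ[ℚ] K := (IsCyclotomicExtension.autEquivPow K
    (Polynomial.cyclotomic.irreducible_rat hn)).symm (ZMod.unitOfCoprime k hk)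
  have hτ : ∀ z : K, z ^ n = 1 → τ z = z ^ k := by
    intro z hz
    have hζK : IsPrimitiveRoot (IsCyclotomicExtension.zeta n ℚ K) n :=
      IsCyclotomicExtension.zeta_spec n ℚ K
    have h1 : (hζK.autToPow ℚ τ : ZMod n) = (k : ZMod n) := by
      have h2 : IsCyclotomicExtension.autEquivPow K (Polynomial.cyclotomic.irreducible_rat hn) τ =
          ZMod.unitOfCoprime k hk := MulEquiv.apply_symm_apply _ _
      have h3 := congrArg (fun u : (ZMod n)ˣ => (u : ZMod n)) h2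
      rw [IsCyclotomicExtension.autEquivPow_apply] at h3
      exact h3
    have h4 := hζK.autToPow_spec ℚ τ
    rw [h1, ZMod.val_natCast, ← pow_eq_pow_mod k hζK.pow_eq_one] at h4
    obtain ⟨i, -, rfl⟩ := hζK.eq_pow_of_pow_eq_one hz
    rw [map_pow, ← h4, ← pow_mul, ← pow_mul, mul_comm]
  obtain ⟨s, hs⟩ := exists_isTranscendenceBasis K ℂ
  haveI : IsAlgClosure (Algebra.adjoin K (Set.range ((↑) : s → ℂ))) ℂ :=
    IsAlgClosed.isAlgClosure_of_transcendence_basis _ hs
  let e : Algebra.adjoin K (Set.range ((↑) : s → ℂ)) ≃+* Algebra.adjoin K (Set.range ((↑) : s → ℂ)) :=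
    (hs.1.aevalEquiv.symm.toRingEquiv.trans (MvPolynomial.mapEquiv s τ.toRingEquiv)).trans
      hs.1.aevalEquiv.toRingEquiv
  refine ⟨IsAlgClosure.equivOfEquiv ℂ ℂ e, fun w hw => ?_⟩
  obtain ⟨i, -, rfl⟩ := hζ.eq_pow_of_pow_eq_one hw
  let z : K := ⟨ζ ^ i, pow_mem (IntermediateField.mem_adjoin_simple_self ℚ ζ) i⟩
  have h5 : ζ ^ i = algebraMap (Algebra.adjoin K (Set.range ((↑) : s → ℂ))) ℂ
      (algebraMap K _ z) := rfl
  have hz : z ^ n = 1 := Subtype.ext
    (show (ζ ^ i) ^ n = 1 by rw [← pow_mul, mul_comm, pow_mul, hζ.pow_eq_one, one_pow])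
  have h6 : e (algebraMap K _ z) = algebraMap K _ (τ z) := by
    show hs.1.aevalEquiv ((MvPolynomial.mapEquiv s τ.toRingEquiv)
      (hs.1.aevalEquiv.symm (algebraMap K _ z))) = _
    rw [AlgEquiv.commutes, MvPolynomial.algebraMap_eq, MvPolynomial.mapEquiv_apply,
      MvPolynomial.map_C, ← MvPolynomial.algebraMap_eq, AlgEquiv.commutes]
    rfl
  rw [h5, IsAlgClosure.equivOfEquiv_algebraMap, h6, hτ z hz]
  rfl

end Cfsg.Agent.Char
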