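import Cfsg.Agent.Lib.Char.FongCore
import Cfsg.Agent.Lib.Char.PairBlock
import Cfsg.Agent.Lib.Char.Glauberman

/-!
The block over an invariant character of a normal subgroup of order prime to `p`, in the presence of
a `p`-subgroup whose centralizer has all its regular elements in that subgroup.
-/

namespace Cfsg.Agent.Char.Fong

open scoped ComplexConjugate
open Cfsg.Agent.Block Cfsg.Agent.Char.BP

set_option linter.unusedSectionVars false
set_option linter.style.haveILetI false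

universe u

variable {G : Type u} [Group G] [Fintype G] {p : ℕ} {M : Ideal AlgInt}
variable (K : Subgroup G) [hKn : K.Normal] (θ : IrrCharacter K)

/-- Invariance of `θ`. -/
def Fixed : Prop :=
  ∀ (g : G) (n : K), (θ : K → ℂ) ⟨g * n * g⁻¹, hKn.conj_mem n n.2 g⟩ = (θ : K → ℂ) n

variable {K θ}

theorem Fixed.conj (h : Fixed K θ) (g : G) : Char.conjN K g (θ : K → ℂ) = (θ : K → ℂ) :=
  funext fun n => h g n

theorem Fixed.stable (h : Fixed K θ) : ConjStable K ({θ} : Set (IrrCharacter K)) := by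
  intro g η hη η' hη'
  obtain rfl : η = θ := hη
  exact Subtype.ext (funext fun n => (hη' n).trans (h g n))

theorem covInd_eq_one (h : Fixed K θ) [Fintype K] (χ : IrrCharacter G) :
    covInd K ({θ} : Set (IrrCharacter K)) χ = 1 ↔
      classInner (fun n : K => (χ : G → ℂ) n) (θ : K → ℂ) ≠ 0 := by
  rw [covInd_eq_one_iff K h.stable χ]
  exact ⟨fun ⟨η, hη, hc⟩ => (show η = θ from hη) ▸ hc, fun hc => ⟨θ, rfl, hc⟩⟩

theorem mem_of_regular_of_index {L : Subgroup G} [Fact p.Prime] {j : ℕ}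
    (hidx : K.relIndex L = p ^ j) {x : G} (hx : x ∈ L) (hr : ¬ p ∣ orderOf x) : x ∈ K := by
  have h1 : (⟨x, hx⟩ : L) ^ (p ^ j) ∈ K.subgroupOf L := by
    rw [← hidx]
    exact Subgroup.pow_index_mem _ _
  have hcop : (p ^ j).Coprime (orderOf x) :=
    Nat.Coprime.pow_left _ ((Fact.out : p.Prime).coprime_iff_not_dvd.2 hr)
  obtain ⟨k, hk⟩ := exists_pow_eq_self_of_coprime hcop
  rw [← hk]
  exact pow_mem (Subgroup.mem_subgroupOf.1 h1) k

theorem not_dvd_degree [Fact p.Prime] {H : Type u} [Group H] [Finite H] (hcop : ¬ p ∣ Nat.card H)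
    (η : IrrCharacter H) : ∃ d : ℕ, (η : H → ℂ) 1 = d ∧ ¬ p ∣ d := by
  obtain ⟨d, -, hd⟩ := IsIrr.one_eq_pos η.2
  exact ⟨d, hd, fun h => hcop (h.trans (IsIrr.degree_dvd_card η.2 hd))⟩

/-- An invariant extension to a normal subgroup of `p`-power index over `K`. -/
theorem exists_invariant_ext [Fact p.Prime] (L : Subgroup G) [hLn : L.Normal] (hKL : K ≤ L)
    (hcop : ¬ p ∣ Nat.card K) {j : ℕ} (hidx : K.relIndex L = p ^ j) (hinv : Fixed K θ) :
    ∃ ψ : L → ℂ, IsIrrCharacter L ψ ∧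
      (∀ (x : L) (hx : (x : G) ∈ K), ψ x = (θ : K → ℂ) ⟨x, hx⟩) ∧
      ∀ g : G, Char.conjN L g ψ = ψ := by
  classical
  set N' := K.subgroupOf L with hN'
  haveI : N'.Normal := hKn.subgroupOf L
  let e : N' ≃* K := Subgroup.subgroupOfEquivOfLe hKL
  set θ' : N' → ℂ := fun x => (θ : K → ℂ) (e x) with hθ'def
  have hθ' : IsIrrCharacter N' θ' := IsIrr.comp_mulEquiv e θ.2
  have hinv' : ∀ (g : L) (n : N'),
      θ' ⟨g * n * g⁻¹, (inferInstance : N'.Normal).conj_mem (n : L) n.2 g⟩ = θ' n :=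
    fun g n => hinv (g : G) (e n)
  obtain ⟨d, hd, hpd⟩ := not_dvd_degree hcop θ
  have hd' : θ' 1 = d := by simp only [hθ'def, map_one, hd]
  obtain ⟨δ₀, hδ₀⟩ := isCharacter_detChar hθ'
  set o := orderOf (detChar θ') with ho
  have hoK : o ∣ Nat.card N' := by
    refine orderOf_dvd_of_pow_eq_one (funext fun x => ?_)
    rw [hδ₀, Pi.pow_apply, ← Units.val_pow_eq_pow_val, ← map_pow, pow_card_eq_one', map_one]
    simp
  have hNc : Nat.card N' = Nat.card K := Nat.card_congr e.toEquiv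
  have hpo : ¬ p ∣ o := fun h => hcop (hNc ▸ h.trans hoK)
  have hI : N'.index = p ^ j := hidx
  have hcop1 : Nat.Coprime N'.index d :=
    hI ▸ Nat.Coprime.pow_left _ ((Fact.out : p.Prime).coprime_iff_not_dvd.2 hpd)
  have hcop2 : Nat.Coprime N'.index o :=
    hI ▸ Nat.Coprime.pow_left _ ((Fact.out : p.Prime).coprime_iff_not_dvd.2 hpo)
  obtain ⟨η, hη, hηr⟩ := Ext.exists_extension_of_witness hθ' hinv' hd'
    fun q hq => Ext.witness_of_coprime hθ' (hcop2.mul_right hcop1) hq
  obtain ⟨δ, hδ⟩ := isCharacter_detChar hη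
  have hδr : ∀ m : N', (δ m : ℂ) = detChar θ' m := fun m => by
    rw [detChar_comp hη N'.subtype hθ' hηr m, hδ]
    rfl
  obtain ⟨μ, hμr, hμo⟩ := Ext.exists_linear_adjust (N := N') δ (o := o)
    (congrArg orderOf (funext hδr)) hcop2
  obtain ⟨ψ, hψ, hψr, hψd⟩ := Ext.exists_ext_det hθ' hd' hcop1 hη hηr μ
    fun m => by rw [hμr, hδr]
  refine ⟨ψ, hψ, fun x hx => hψr ⟨x, Subgroup.mem_subgroupOf.2 hx⟩, fun g => ?_⟩
  have hψg : IsIrrCharacter L (Char.conjN L g ψ) := IsIrr.conjN L hψ g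
  have hres : ∀ m : N', Char.conjN L g ψ m = θ' m := fun m => by
    rw [conjN_apply]
    exact (hψr ⟨_, Subgroup.mem_subgroupOf.2 (hKn.conj_mem _ m.2 g)⟩).trans (hinv g (e m))
  set μ' : L →* ℂˣ := μ.comp (conjEquivN L g).toMonoidHom with hμ'
  have hdet : detChar (Char.conjN L g ψ) = fun x => (μ' x : ℂ) := funext fun x => by
    rw [detChar_comp hψ (conjEquivN L g).toMonoidHom hψg
      (fun y => (congrFun (conjN_eq_comp L g ψ) y).symm) x, hψd]
    rfl
  have hμμ : μ' = μ := by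
    refine Ext.linear_unique (N := N') (fun m => Units.ext ?_) ?_ (hμo.symm ▸ hcop2)
    · rw [hμr, hδr, detChar_comp hψg N'.subtype hθ' hres m, hdet]
      rfl
    · refine Nat.Coprime.coprime_dvd_right ?_ hcop2
      refine orderOf_dvd_of_pow_eq_one (MonoidHom.ext fun x => ?_)
      show μ (conjEquivN L g x) ^ o = 1
      rw [← hμo, ← MonoidHom.pow_apply, pow_orderOf_eq_one, MonoidHom.one_apply]
  exact Ext.ext_unique hθ' hd' hcop1 hψ hψg hψr hres (by rw [hdet, hμμ, hψd])

/-- Every block over `θ` has a member whose restrictions to `K` and `L` have the same norm. -/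
theorem exists_member_norm_eq [Fact p.Prime] (hM : IsPModular p M) (L : Subgroup G) [L.Normal]
    [Fintype K] [Fintype L] (hKL : K ≤ L) (hcop : ¬ p ∣ Nat.card K) {j : ℕ}
    (hidx : K.relIndex L = p ^ j) (hinv : Fixed K θ) {B : Set (IrrCharacter G)}
    (hB : IsPBlock M B)
    (hcov : ∃ χ ∈ B, classInner (fun n : K => (χ : G → ℂ) n) (θ : K → ℂ) ≠ 0) :
    ∃ χ ∈ B, classInner (fun k : K => (χ : G → ℂ) k) (fun k : K => (χ : G → ℂ) k) =
      classInner (fun l : L => (χ : G → ℂ) l) (fun l : L => (χ : G → ℂ) l) := by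
  classical
  obtain ⟨ψ, hψ, hψr, hψi⟩ := exists_invariant_ext L hKL hcop hidx hinv
  set A := Finset.univ.filter (· ∈ B) with hA
  obtain ⟨χ, hχB, hχψ⟩ : ∃ χ ∈ B, classInner (fun l : L => (χ : G → ℂ) l) ψ ≠ 0 := by
    by_contra hno
    push Not at hno
    set F : L → ℂ := fun x => ∑ χ ∈ A, (χ : G → ℂ) 1 * (χ : G → ℂ) x with hF
    have h0 : ∑ x : L, F x * conj (ψ x) = 0 := by
      simp only [hF, Finset.sum_mul]
      rw [Finset.sum_comm]
      refine Finset.sum_eq_zero fun χ hχ => ?_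
      have h := hno χ (Finset.mem_filter.1 hχ).2
      rw [classInner, mul_eq_zero] at h
      simp only [mul_assoc, ← Finset.mul_sum]
      rw [h.resolve_left (inv_ne_zero (Nat.cast_ne_zero.2 Nat.card_pos.ne')), mul_zero]
    have hsing : ∀ x : L, (x : G) ∉ K → F x = 0 := by
      intro x hx
      have hr : p ∣ orderOf (x : G) := by
        by_contra h
        exact hx (mem_of_regular_of_index hidx x.2 h)
      have h := weak_orth hM hB (x := (1 : G)) (y := ((x : G)⁻¹))
        (by simpa using (Fact.out : p.Prime).not_dvd_one) (by rwa [orderOf_inv])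
      rw [finsum_mem_block] at h
      rw [← h]
      refine Finset.sum_congr rfl fun χ _ => ?_
      rw [← irr_apply_inv, inv_inv]
    set Fk : K → ℂ := fun k => ∑ χ ∈ A, (χ : G → ℂ) 1 * (χ : G → ℂ) k with hFk
    have h1 : ∑ k : K, Fk k * conj ((θ : K → ℂ) k) = 0 := by
      rw [← h0, ← Finset.sum_filter_add_sum_filter_not Finset.univ (fun x : L => (x : G) ∈ K)
        (fun x : L => F x * conj (ψ x)), Finset.sum_eq_zero (s := Finset.univ.filter
          (fun x : L => ¬ (x : G) ∈ K)) (fun x hx => by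
            rw [hsing x (Finset.mem_filter.1 hx).2, zero_mul]), add_zero]
      refine Finset.sum_bij' (fun k _ => (⟨k, hKL k.2⟩ : L))
        (fun x hx => (⟨x, (Finset.mem_filter.1 hx).2⟩ : K)) (fun k _ => by simp)
        (fun x _ => Finset.mem_univ _) (fun k _ => rfl) (fun x _ => rfl) fun k _ => ?_
      rw [hψr ⟨k, hKL k.2⟩ k.2]
    have hnat : ∀ χ : IrrCharacter G, ∃ n : ℕ, (χ : G → ℂ) 1 *
        classInner (fun k : K => (χ : G → ℂ) k) (θ : K → ℂ) = n := fun χ => by
      obtain ⟨a, -, ha⟩ := IsIrr.one_eq_pos χ.2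
      obtain ⟨b, hb⟩ := IsChar.classInner_nat (IsChar.res (irr_isChar χ) K) (irr_isChar θ)
      exact ⟨a * b, by rw [ha, hb, Nat.cast_mul]⟩
    choose n hn using hnat
    have h2 : ((∑ χ ∈ A, n χ : ℕ) : ℂ) = 0 := by
      rw [Nat.cast_sum, Finset.sum_congr rfl fun χ _ => (hn χ).symm]
      simp only [classInner, mul_left_comm _ (Nat.card K : ℂ)⁻¹, ← Finset.mul_sum]
      simp only [hFk, Finset.sum_mul] at h1
      rw [Finset.sum_comm] at h1
      simp only [mul_assoc, ← Finset.mul_sum] at h1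
      rw [h1, mul_zero]
    obtain ⟨χ, hχ, hc⟩ := hcov
    have h3 : n χ = 0 := (Finset.sum_eq_zero_iff.1 (Nat.cast_eq_zero.1 h2)) χ (by simp [A, hχ])
    have h4 := hn χ
    rw [h3, Nat.cast_zero] at h4
    exact (mul_ne_zero (irr_one_ne_zero χ) hc) h4
  refine ⟨χ, hχB, ?_⟩
  set m := classInner (fun l : L => (χ : G → ℂ) l) ψ with hm
  have horb : conjOrbit L ψ = {ψ} := by
    ext φ
    rw [mem_conjOrbit, Finset.mem_singleton]
    exact ⟨fun ⟨g, hg⟩ => hg.symm.trans (hψi g), fun h => ⟨1, by rw [hψi, h]⟩⟩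
  have hL := clifford L χ.2 hψ hχψ
  rw [horb, Finset.sum_singleton] at hL
  have hK : (fun k : K => (χ : G → ℂ) k) = m • (θ : K → ℂ) := funext fun k => by
    rw [Pi.smul_apply, ← hψr ⟨k, hKL k.2⟩ k.2]
    exact congrFun hL ⟨k, hKL k.2⟩
  rw [hK, hL, ← hm, classInner_smul_left, classInner_smul_right, classInner_smul_left,
    classInner_smul_right, classInner_self_irr θ.2, classInner_self_irr hψ]

theorem cov_idem [Fintype K] (hM : IsPModular p M) (hinv : Fixed K θ)
    (hcop : ¬ p ∣ Nat.card K) : Idem M (covCoeff K ({θ} : Set (IrrCharacter K))) := by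
  have hb := isPBlock_singleton hM hcop θ
  have hcl := covCoeff_classFun K hinv.stable
  have e : coeffFun (covInd K ({θ} : Set (IrrCharacter K))) =
      covCoeff K ({θ} : Set (IrrCharacter K)) := coeffFun_omegaFun hcl
  refine ⟨fun g => by rw [← e]; exact cenInt_covInd K hM hb hinv.stable g, ?_⟩
  rw [← e, ← coeffFun_mul]
  congr 1
  funext χ
  rcases covInd_zero_or_one K hinv.stable χ with h | h <;> simp [h]

/-- The pairs at a `p`-subgroup carrying the idempotent of `θ` lie over one invariant character of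
the fixed points. -/
theorem pair_cover [Fintype K] [Fact p.Prime] (hM : IsPModular p M) (hcop : ¬ p ∣ Nat.card K)
    (hinv : Fixed K θ) {Q : Subgroup G} (hQ : IsPGroup p Q) [Fintype (CG Q)]
    [Fintype (K.subgroupOf (CG Q))] [(K.subgroupOf (CG Q)).Normal] :
    ∃ β : IrrCharacter (K.subgroupOf (CG Q)), Fixed (K.subgroupOf (CG Q)) β ∧
      ∀ c₀ : Set (IrrCharacter (CG Q)), IsPBlock M c₀ →
        Holds M (⟨Q, c₀⟩ : BrauerPairIdx G) (covCoeff K ({θ} : Set (IrrCharacter K))) →
        ∀ ξ ∈ c₀, covInd (K.subgroupOf (CG Q)) ({β} : Set (IrrCharacter _)) ξ = 1 := by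
  classical
  set A : Subgroup (MulAut K) := ((MulAut.conjNormal (H := K)).comp Q.subtype).range with hA
  have hAp : IsPGroup p A := hQ.of_surjective
    ((MulAut.conjNormal (H := K)).comp Q.subtype).rangeRestrict
    (MonoidHom.rangeRestrict_surjective _)
  have hθA : Glaub.Inv A (θ : K → ℂ) := by
    rintro _ ⟨u, rfl⟩ k
    rw [← hinv (u : G) k]
    exact congrArg _ (Subtype.ext (MulAut.conjNormal_apply (u : G) k))
  have hcop' : Nat.Coprime (Nat.card K) p :=
    ((Fact.out : p.Prime).coprime_iff_not_dvd.2 hcop).symm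
  letI := Fintype.ofFinite (Glaub.fix A)
  obtain ⟨β, hβ⟩ := Glaub.exists_corr hM hAp hcop' hθA
  set N' := K.subgroupOf (CG Q) with hN'
  haveI : N'.Normal := hKn.subgroupOf (CG Q)
  have hfix : ∀ k : K, k ∈ Glaub.fix A ↔ (k : G) ∈ CG Q := fun k => by
    rw [Glaub.mem_fix, Subgroup.mem_centralizer_iff]
    refine ⟨fun hk u hu => ?_, fun hk => ?_⟩
    · have e1 := congrArg Subtype.val (hk _ ⟨⟨u, hu⟩, rfl⟩)
      rw [MonoidHom.comp_apply, MulAut.conjNormal_apply] at e1
      exact mul_inv_eq_iff_eq_mul.1 e1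
    · rintro _ ⟨u, rfl⟩
      refine Subtype.ext ?_
      rw [MonoidHom.comp_apply, MulAut.conjNormal_apply]
      exact mul_inv_eq_iff_eq_mul.2 (hk u u.2)
  let e : N' ≃* Glaub.fix A :=
    { toFun := fun x => ⟨⟨((x : CG Q) : G), x.2⟩, (hfix _).2 (x : CG Q).2⟩
      invFun := fun k => ⟨⟨((k : K) : G), (hfix _).1 k.2⟩, (k : K).2⟩
      left_inv := fun x => rfl
      right_inv := fun k => rfl
      map_mul' := fun x y => rfl }
  set r : N' → ℂ := fun x => (θ : K → ℂ) (e x : K) with hr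
  have hmult : ∀ γ : IrrCharacter (Glaub.fix A),
      classInner r (irrPull e γ : N' → ℂ) =
        (Glaub.mult (Glaub.fix A) (θ : K → ℂ) (γ : Glaub.fix A → ℂ) : ℂ) := by
    intro γ
    rw [← Glaub.mult_spec _ (irr_isChar θ) (irr_isChar γ), classInner, classInner,
      Nat.card_congr e.toEquiv]
    congr 1
    exact Fintype.sum_equiv e.toEquiv _ _ fun x => rfl
  set β' := irrPull e β with hβ'
  have hb : ConjStable N' ({β'} : Set (IrrCharacter N')) := by
    intro g η hη η' hη'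
    obtain rfl : η = β' := hη
    show η' = β'
    have h1 : η' = conjPerm N' g β' := Subtype.ext (funext hη')
    set γ := irrPull e.symm η' with hγ
    have hγe : irrPull e γ = η' := Subtype.ext (funext fun x => by simp [γ])
    have h2 : classInner r (η' : N' → ℂ) = classInner r (β' : N' → ℂ) := by
      rw [h1, show ((conjPerm N' g β' : IrrCharacter N') : N' → ℂ) =
        Char.conjN N' g (β' : N' → ℂ) from rfl]
      conv_lhs => rw [show r = Char.conjN N' g r from funext fun x => by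
        rw [conjN_apply, hr]
        exact (hinv (g : G) (e x : K)).symm]
      exact classInner_conjN N' g _ _
    rw [← hγe, hmult, hmult, Nat.cast_inj] at h2
    have h3 : Glaub.Corr p θ γ := by
      show ¬ p ∣ _
      rw [h2]
      exact hβ
    rw [← hγe, Glaub.corr_unique hM hAp hcop' hθA h3 hβ]
  have hcopN : ¬ p ∣ Nat.card N' := fun hd => hcop (hd.trans
    ((Nat.card_congr e.toEquiv) ▸ Subgroup.card_subgroup_dvd_card _))
  have hbb := isPBlock_singleton hM hcopN β'
  -- congruence of values on the fixed points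
  set m := Glaub.mult (Glaub.fix A) (θ : K → ℂ) (β : Glaub.fix A → ℂ) with hm
  have hcongr : ∀ x : Glaub.fix A,
      MemLocalIdeal M ((θ : K → ℂ) x - (m : ℂ) * (β : Glaub.fix A → ℂ) x) := by
    intro x
    rw [Glaub.res_expansion _ (irr_isChar θ) x,
      ← Finset.add_sum_erase _ _ (Finset.mem_univ β), add_sub_cancel_left]
    refine ideal_sum hM fun γ hγ => ideal_mul_right hM ((ideal_natCast_iff hM _).2 ?_)
      (irr_ring hM γ x)
    by_contra hp
    exact (Finset.mem_erase.1 hγ).1 (Glaub.corr_unique hM hAp hcop' hθA hp hβ)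
  obtain ⟨b, hb1, hpb⟩ := not_dvd_degree hcopN β'
  set s : ℂ := (Nat.card K : ℂ)⁻¹ * (θ : K → ℂ) 1 * (m : ℂ) * (Nat.card N' : ℂ) *
    (b : ℂ)⁻¹ with hs
  have hinvK : MemLocalRing M (Nat.card K : ℂ)⁻¹ :=
    ring_inv hM (ring_natCast hM _) fun hd => hcop ((ideal_natCast_iff hM _).1 hd)
  have hsr : MemLocalRing M s :=
    ring_mul hM (ring_mul hM (ring_mul hM (ring_mul hM hinvK (irr_ring hM θ 1))
      (ring_natCast hM _)) (ring_natCast hM _))
      (ring_inv hM (ring_natCast hM _) fun hd => hpb ((ideal_natCast_iff hM _).1 hd))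
  have hacl := covCoeff_classFun K hinv.stable
  have hbcl := covCoeff_classFun N' hb
  have key : ∀ c₀ : Set (IrrCharacter (CG Q)), IsPBlock M c₀ →
      Holds M (⟨Q, c₀⟩ : BrauerPairIdx G) (covCoeff K ({θ} : Set (IrrCharacter K))) →
      ∀ ξ ∈ c₀, covInd N' ({β'} : Set (IrrCharacter N')) ξ = 1 := by
    intro c₀ _ hH ξ hξ
    refine (covInd_zero_or_one N' hb ξ).resolve_left fun h0 => ?_
    have h1 := hH ξ hξ
    rw [val_eq] at h1
    have h2 := omega_congr hM (res_classFun (inv_of_classFun hacl (CG Q)))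
      (classFunction_smul s hbcl) (a := res (CG Q) (covCoeff K ({θ} : Set (IrrCharacter K))))
      (b := s • covCoeff N' ({β'} : Set (IrrCharacter N'))) (fun g => ?_) ξ
    · have h3 : omegaFun ξ (s • covCoeff N' ({β'} : Set (IrrCharacter N'))) = 0 := by
        rw [omegaFun]
        simp only [Pi.smul_apply, smul_eq_mul, mul_assoc, ← Finset.mul_sum]
        rw [mul_div_assoc]
        exact mul_eq_zero_of_right _ h0
      rw [h3, sub_zero] at h2
      exact ideal_one hM (by simpa using ideal_sub hM h2 h1)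
    rw [Pi.smul_apply, smul_eq_mul, res_apply]
    by_cases hg : (g : G) ∈ K
    · obtain ⟨k, hk⟩ : ∃ k : Glaub.fix A, k = e ⟨g, Subgroup.mem_subgroupOf.2 hg⟩ :=
        ⟨_, rfl⟩
      have eK : covCoeff K ({θ} : Set (IrrCharacter K)) (g : G) =
          (Nat.card K : ℂ)⁻¹ * ((θ : K → ℂ) 1 * (θ : K → ℂ) ((k⁻¹ : Glaub.fix A) : K)) := by
        rw [show (g : G) = (((k : K) : K) : G) from by rw [hk]; rfl, covCoeff_coe, ← blockCoeff_eq, blockCoeff,
          finsum_mem_singleton, ← irr_apply_inv]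
        rfl
      have eN : covCoeff N' ({β'} : Set (IrrCharacter N')) g =
          (Nat.card N' : ℂ)⁻¹ * ((b : ℂ) * (β : Glaub.fix A → ℂ) k⁻¹) := by
        rw [show g = ((⟨g, Subgroup.mem_subgroupOf.2 hg⟩ : N') : CG Q) from rfl, covCoeff_coe, ← blockCoeff_eq,
          blockCoeff, finsum_mem_singleton, ← irr_apply_inv, hb1, hk, ← map_inv]
        rfl
      rw [eK, eN]
      have hb0 : (b : ℂ) ≠ 0 := Nat.cast_ne_zero.2 fun h0' => hpb (h0' ▸ dvd_zero p)
      have hN0 : (Nat.card N' : ℂ) ≠ 0 := Nat.cast_ne_zero.2 Nat.card_pos.ne'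
      have := ideal_mul_left hM (ring_mul hM hinvK (irr_ring hM θ 1)) (hcongr k⁻¹)
      convert this using 1
      rw [hs]
      field_simp
    · rw [covCoeff_of_notMem K _ hg, covCoeff_of_notMem N' _ fun hh => hg
        (Subgroup.mem_subgroupOf.1 hh), mul_zero, sub_zero]
      exact ideal_zero hM
  refine ⟨β', fun g n => ?_, key⟩
  exact congrArg (fun η : IrrCharacter N' => (η : N' → ℂ) n)
    (hb g β' rfl (conjPerm N' g β') fun _ => rfl : conjPerm N' g β' = β')

/-- At a `p`-subgroup whose centralizer has its regular elements in `K`, only one pair carries the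
idempotent of `θ`. -/
theorem unique_pair [Fintype K] [Fact p.Prime] (hM : IsPModular p M) (hcop : ¬ p ∣ Nat.card K)
    (hinv : Fixed K θ) {Q : Subgroup G} (hQ : IsPGroup p Q)
    (hC : ∀ x ∈ CG Q, ¬ p ∣ orderOf x → x ∈ K) {c c' : Set (IrrCharacter (CG Q))}
    (hc : IsPBlock M c) (hc' : IsPBlock M c')
    (h : Holds M (⟨Q, c⟩ : BrauerPairIdx G) (covCoeff K ({θ} : Set (IrrCharacter K))))
    (h' : Holds M (⟨Q, c'⟩ : BrauerPairIdx G) (covCoeff K ({θ} : Set (IrrCharacter K)))) :
    c = c' := by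
  classical
  letI := Fintype.ofFinite (CG Q)
  letI := Fintype.ofFinite (K.subgroupOf (CG Q))
  haveI : (K.subgroupOf (CG Q)).Normal := hKn.subgroupOf (CG Q)
  obtain ⟨β, hβ, key⟩ := pair_cover hM hcop hinv hQ
  have hcopN : ¬ p ∣ Nat.card (K.subgroupOf (CG Q)) := fun hd =>
    hcop (hd.trans (Subgroup.card_comap_dvd_of_injective K _ (Subgroup.subtype_injective _)))
  obtain ⟨ξ, hξ⟩ := pblock_nonempty hM hc
  obtain ⟨ξ', hξ'⟩ := pblock_nonempty hM hc'
  rw [pblock_eq_blockOf hM hc hξ, pblock_eq_blockOf hM hc' hξ']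
  refine unique_cover hM _ (fun g hg => Subgroup.mem_subgroupOf.2 (hC g g.2 ?_))
    (isPBlock_singleton hM hcopN β) hβ.stable (key c hc h ξ hξ) (key c' hc' h' ξ' hξ')
  rwa [Subgroup.orderOf_coe]

/-- The idempotent of a block over `θ` times that of `θ`. -/
theorem holds_cov [Fintype K] (hinv : Fixed K θ) (hcop : ¬ p ∣ Nat.card K)
    {B : Set (IrrCharacter G)} (hB : IsPBlock M B)
    (hcov : ∀ χ ∈ B, covInd K ({θ} : Set (IrrCharacter K)) χ = 1)
    {x : BrauerPairIdx G} (hM : IsPModular p M) (h : OfB p M B x) :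
    Holds M x (covCoeff K ({θ} : Set (IrrCharacter K))) := by
  have hI := cov_idem hM hinv hcop
  have hcl := covCoeff_classFun K hinv.stable
  refine (holds_or hM h.1 hI (inv_of_classFun hcl _) (inv_of_classFun hcl _)).resolve_right
    fun h0 => ?_
  obtain ⟨ξ, hξ⟩ := pblock_nonempty hM h.1.2
  have h1 := val_mul hM h.1.1 hI.1 (blockCoeff_ring hM hB) (inv_of_classFun hcl _)
    (inv_of_classFun (blockCoeff_classFun B) _) (inv_of_classFun hcl _)
    (inv_of_classFun (blockCoeff_classFun B) _) ξ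
  have h2 : convFun (covCoeff K ({θ} : Set (IrrCharacter K))) (blockCoeff B) = blockCoeff B := by
    rw [← coeffFun_omegaFun hcl, funext (blockCoeff_eq B), ← coeffFun_mul]
    congr 1
    funext χ
    by_cases hχ : χ ∈ B
    · show covInd K _ χ * _ = _
      rw [hcov χ hχ, one_mul]
    · simp [blockInd_of_notMem hχ]
  rw [h2] at h1
  have h3 := ideal_mul_right hM (h0 ξ hξ) (val_ring hM (blockCoeff_ring hM hB)
    (inv_of_classFun (blockCoeff_classFun B) _) ξ)
  have h4 := ideal_add hM h1 h3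
  rw [sub_add_cancel] at h4
  exact ideal_one hM (by simpa [val] using ideal_sub hM h4 (h.2.2 ξ hξ))

/-- The characters over `θ` form one block, with the Sylow subgroups as defect groups. -/
theorem block_over [Fact p.Prime] [Fintype K] (L Q : Subgroup G) [L.Normal] [Fintype L]
    (hM : IsPModular p M) (hKL : K ≤ L) (hQL : Q ≤ L) (hQ : IsPGroup p Q)
    (hcop : ¬ p ∣ Nat.card K) {j : ℕ} (hidx : K.relIndex L = p ^ j) (hinv : Fixed K θ)
    (hC : ∀ x ∈ CG Q, ¬ p ∣ orderOf x → x ∈ K) :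
    ∃ B : Set (IrrCharacter G), IsPBlock M B ∧
      (∀ χ : IrrCharacter G, χ ∈ B ↔ classInner (fun n : K => (χ : G → ℂ) n) (θ : K → ℂ) ≠ 0) ∧
      (∀ P : Sylow p G, IsDefectGroup p M B P) ∧
      ∀ D : Subgroup G, IsDefectGroup p M B D → ∃ P : Sylow p G, D = P := by
  classical
  cases nonempty_fintype (ConjClasses G)
  cases nonempty_fintype (ConjClasses K)
  have hb := isPBlock_singleton hM hcop θ
  have hst := hinv.stable
  -- a character over `θ`
  obtain ⟨χ₀, hχ₀⟩ : ∃ χ : IrrCharacter G,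
      classInner (fun n : K => (χ : G → ℂ) n) (θ : K → ℂ) ≠ 0 := by
    by_contra hno
    push Not at hno
    have e : ∀ χ : IrrCharacter G, covInd K ({θ} : Set (IrrCharacter K)) χ = 0 := fun χ =>
      (covInd_zero_or_one K hst χ).resolve_right fun h => (covInd_eq_one hinv χ).1 h (hno χ)
    have h1 : covCoeff K ({θ} : Set (IrrCharacter K)) ((1 : K) : G) = 0 := by
      rw [← coeffFun_omegaFun (covCoeff_classFun K hst)]
      show coeffFun (covInd K _) _ = 0
      rw [coeffFun_eq_sum, Finset.sum_eq_zero fun χ _ => by rw [e χ, zero_mul, zero_mul], mul_zero]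
    rw [covCoeff_coe, ← blockCoeff_eq, blockCoeff, finsum_mem_singleton, ← irr_apply_inv, inv_one] at h1
    simp [irr_one_ne_zero θ] at h1
  have hone : ∀ χ χ' : IrrCharacter G, classInner (fun n : K => (χ : G → ℂ) n) (θ : K → ℂ) ≠ 0 →
      χ' ∈ blockOf M (χ : G → ℂ) → classInner (fun n : K => (χ' : G → ℂ) n) (θ : K → ℂ) ≠ 0 := by
    intro χ χ' hχ hχ'
    rw [← covInd_eq_one hinv] at hχ ⊢
    rw [← hχ]
    exact (covInd_congr K hM hb hst (mem_blockOf.1 hχ')).symm
  have hpair : ∀ χ : IrrCharacter G, classInner (fun n : K => (χ : G → ℂ) n) (θ : K → ℂ) ≠ 0 →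
      ∃ c : Set (IrrCharacter (CG Q)), OfB p M (blockOf M (χ : G → ℂ)) (⟨Q, c⟩ : BrauerPairIdx G) ∧
        Holds M (⟨Q, c⟩ : BrauerPairIdx G) (covCoeff K ({θ} : Set (IrrCharacter K))) := by
    intro χ hχ
    have hB := isPBlock_blockOf (M := M) χ
    obtain ⟨χ₁, hχ₁, hn⟩ := exists_member_norm_eq hM L hKL hcop hidx hinv hB
      ⟨χ, mem_blockOf_self hM χ, hχ⟩
    have hne : ¬ BrZero M Q (blockInd (blockOf M (χ : G → ℂ))) := fun h0 => by
      have h1 := omega_ideal_of_brZero hM hKL hQL hcop hQ χ₁ hn (cenInt_blockInd hM hB) h0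
      rw [blockInd_of_mem hχ₁] at h1
      exact ideal_one hM h1
    obtain ⟨c, hcb, hH⟩ := exists_holds hM hQ (blockCoeff_idem hM hB)
      (inv_of_classFun (blockCoeff_classFun _) _) (inv_of_classFun (blockCoeff_classFun _) _) (by
        by_contra hno
        push Not at hno
        exact hne fun x hx => by rw [← blockCoeff_eq]; exact hno x hx)
    have hof := ofB_of_holds (p := p) hB ⟨hQ, hcb⟩ hH
    exact ⟨c, hof, holds_cov hinv hcop hB
      (fun χ' hχ' => (covInd_eq_one hinv χ').2 (hone χ χ' hχ hχ')) hM hof⟩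
  set B := blockOf M (χ₀ : G → ℂ) with hBdef
  have hB : IsPBlock M B := isPBlock_blockOf χ₀
  have hmem : ∀ χ : IrrCharacter G, χ ∈ B ↔
      classInner (fun n : K => (χ : G → ℂ) n) (θ : K → ℂ) ≠ 0 := by
    refine fun χ => ⟨hone χ₀ χ hχ₀, fun hχ => ?_⟩
    obtain ⟨c, hc, hcH⟩ := hpair χ hχ
    obtain ⟨c₀, hc₀, hc₀H⟩ := hpair χ₀ hχ₀
    obtain rfl := unique_pair hM hcop hinv hQ hC hc.1.2 hc₀.1.2 hcH hc₀H
    rw [hBdef, ofB_unique hM hc₀ hc]
    exact mem_blockOf_self hM χ
  have hInd : blockInd B = covInd K ({θ} : Set (IrrCharacter K)) := funext fun χ => by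
    by_cases hχ : χ ∈ B
    · rw [blockInd_of_mem hχ, (covInd_eq_one hinv χ).2 ((hmem χ).1 hχ)]
    · rw [blockInd_of_notMem hχ]
      exact ((covInd_zero_or_one K hst χ).resolve_right fun h =>
        hχ ((hmem χ).2 ((covInd_eq_one hinv χ).1 h))).symm
  obtain ⟨g, hg⟩ := exists_isDefectClass hM hB
  have hgK : g ∈ K := by
    by_contra hgK
    refine hg.2.1 ?_
    rw [blockCoeff_eq, hInd]
    show MemLocalIdeal M (coeffFun (fun χ => omegaFun χ _) g)
    rw [coeffFun_omegaFun (covCoeff_classFun K hst), covCoeff_of_notMem K _ hgK]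
    exact ideal_zero hM
  obtain ⟨t, ht, hω⟩ := centralChar_cover K hM hb hst ⟨g, hgK⟩
  have hpt : ¬ p ∣ t := fun hd => hg.2.2 χ₀ (mem_blockOf_self hM χ₀)
    ((ideal_congr hM (hω χ₀ θ rfl hχ₀)).2
      (ideal_mul_right hM ((ideal_natCast_iff hM _).2 hd) (centralChar_ring hM θ _)))
  have hidx' : ¬ p ∣ (Subgroup.centralizer ({g} : Set G)).index := fun hd => by
    rw [ht] at hd
    exact ((Fact.out : p.Prime).dvd_mul.1 hd).elim hpt
      fun h => hcop (h.trans (Subgroup.index_dvd_card _))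
  obtain ⟨S⟩ : Nonempty (Sylow p (Subgroup.centralizer ({g} : Set G))) := inferInstance
  have hD : IsDefectGroup p M B (csyl S) := ⟨g, hg, S, rfl⟩
  have hcard : Nat.card (csyl S) = p ^ (Nat.card G).factorization p := by
    rw [card_csyl, ← (Subgroup.centralizer ({g} : Set G)).card_mul_index,
      Nat.factorization_mul Nat.card_pos.ne' Subgroup.index_ne_zero_of_finite, Finsupp.add_apply,
      Nat.factorization_eq_zero_of_not_dvd hidx', add_zero]
  have hall : ∀ D : Subgroup G, IsDefectGroup p M B D → ∃ P : Sylow p G, D = P := fun D hD' => by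
    exact ⟨Sylow.ofCard D (by rw [defectGroup_card_eq hM hB hD' hD, hcard]), rfl⟩
  refine ⟨B, hB, hmem, fun P => ?_, hall⟩
  obtain ⟨P₀, hP₀⟩ := hall _ hD
  obtain ⟨x, rfl⟩ := MulAction.exists_smul_eq G P₀ P
  have h := isDefectGroup_map_conj hM hD x
  rw [hP₀] at h
  exact h

end Cfsg.Agent.Char.Fong
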