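import Cfsg.Agent.Lib.Block.Covering
import Cfsg.Agent.Lib.Block.GroupAlgebra
import Cfsg.Agent.Lib.Block.Defect
import Cfsg.Agent.Lib.Char.ExtendMain

/-!
The Brauer map under a normal subgroup of order prime to `p`: the key vanishing step, and blocks
covering a block whose subgroup holds all regular elements.
-/

namespace Cfsg.Agent.Char.Fong

open scoped ComplexConjugate
open Cfsg.Agent.Block

set_option linter.unusedSectionVars false
set_option linter.style.haveILetI false

universe u

variable {G : Type u} [Group G] [Fintype G] {p : ℕ} {M : Ideal AlgInt}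

/-- An eigenvalue of an element with coefficients in the ideal lies in the ideal. -/
theorem eig_ideal (hM : IsPModular p M) {E : Type*} [Ring E] [Algebra ℂ E] [Nontrivial E]
    (φ : MonoidAlgebra ℂ G →ₐ[ℂ] E) {y : MonoidAlgebra ℂ G}
    (hy : ∀ g, MemLocalIdeal M (y.coeff g)) {ω : ℂ} (hω : MemLocalRing M ω)
    (h : φ y = algebraMap ℂ E ω) : MemLocalIdeal M ω := by
  classical
  letI := resInst hM
  let R := localRing hM
  let f : R →+* ℂ := R.subtype
  let π : R →+* ResField hM := Ideal.Quotient.mk _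
  let A : Matrix G G R := Matrix.of fun s t => ⟨leftMat y s t, by
    rw [leftMat_apply]; exact ring_of_ideal (hy _)⟩
  have hA : f.mapMatrix A = leftMat y := rfl
  have hA0 : π.mapMatrix A = 0 := by
    ext s t
    show π (A s t) = 0
    rw [Ideal.Quotient.eq_zero_iff_mem, mem_localIdeal hM]
    show MemLocalIdeal M (leftMat y s t)
    rw [leftMat_apply]
    exact hy _
  set P := (leftMat y).charpoly with hP
  have hyP : Polynomial.aeval y P = 0 := by
    have h1 : leftMat (Polynomial.aeval y P) = 0 := by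
      rw [← Polynomial.aeval_algHom_apply, hP, Matrix.aeval_self_charpoly]
    ext g
    have h2 := congrFun (congrFun h1 g) 1
    rw [leftMat_apply, inv_one, mul_one] at h2
    simpa using h2
  have hωP : Polynomial.eval ω P = 0 := by
    have h1 : φ (Polynomial.aeval y P) = 0 := by rw [hyP, map_zero]
    rw [← Polynomial.aeval_algHom_apply, h, Polynomial.aeval_algebraMap_apply,
      map_eq_zero_iff _ (FaithfulSMul.algebraMap_injective ℂ E)] at h1
    simpa using h1
  have hω' : Polynomial.eval (⟨ω, hω⟩ : R) A.charpoly = 0 := by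
    refine Subtype.ext ?_
    show f _ = (0 : ℂ)
    rw [← Polynomial.eval_map_apply (f := f), ← Matrix.charpoly_map]
    exact hωP
  have h3 := congrArg π hω'
  rw [map_zero, ← Polynomial.eval_map_apply (f := π), ← Matrix.charpoly_map,
    show A.map π = 0 from hA0, Matrix.charpoly_zero, Polynomial.eval_pow, Polynomial.eval_X] at h3
  have h4 : π ⟨ω, hω⟩ = 0 := eq_zero_of_pow_eq_zero h3
  rwa [Ideal.Quotient.eq_zero_iff_mem, mem_localIdeal hM] at h4

/-- Equal norms on `K ≤ L`: what commutes with `K` commutes with `L`. -/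
theorem commute_of_norm_eq {n : ℕ} (ρ : Representation ℂ G (Fin n → ℂ)) {K L : Subgroup G}
    [Fintype K] [Fintype L] (hKL : K ≤ L)
    (hn : classInner (fun k : K => ρ.character k) (fun k : K => ρ.character k) =
      classInner (fun l : L => ρ.character l) (fun l : L => ρ.character l))
    {A : Module.End ℂ (Fin n → ℂ)} (hA : ∀ k ∈ K, ρ k * A = A * ρ k) :
    ∀ l ∈ L, ρ l * A = A * ρ l := by
  classical
  let σ : ∀ H : Subgroup G, Representation ℂ H ((Fin n → ℂ) →ₗ[ℂ] (Fin n → ℂ)) :=
    fun H => Representation.linHom (ρ.comp H.subtype) (ρ.comp H.subtype)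
  have hmem : ∀ (H : Subgroup G) (B : (Fin n → ℂ) →ₗ[ℂ] (Fin n → ℂ)),
      B ∈ (σ H).invariants ↔ ∀ h ∈ H, ρ h * B = B * ρ h := by
    intro H B
    rw [Representation.mem_invariants]
    refine ⟨fun hB h hh => ?_, fun hB h => ?_⟩
    · have e := hB ⟨h, hh⟩
      have e' : ρ h * (B * ρ h⁻¹) = B := e
      calc ρ h * B = ρ h * (B * ρ h⁻¹) * ρ h := by
            simp only [mul_assoc, ← map_mul, inv_mul_cancel, map_one, mul_one]
        _ = _ := by rw [e']
    · show ρ (h : G) * (B * ρ (h : G)⁻¹) = B
      rw [← mul_assoc, hB h h.2, mul_assoc, ← map_mul, mul_inv_cancel, map_one, mul_one]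
  have hdim : ∀ (H : Subgroup G) [Fintype H],
      classInner (fun h : H => ρ.character h) (fun h : H => ρ.character h) =
        (Module.finrank ℂ (σ H).invariants : ℂ) := by
    intro H _
    haveI : Invertible (Nat.card H : ℂ) :=
      invertibleOfNonzero (Nat.cast_ne_zero.2 Nat.card_pos.ne')
    rw [← Representation.card_inv_mul_sum_char_eq_finrank, classInner]
    refine congrArg _ (Finset.sum_congr rfl fun h _ => ?_)
    rw [Representation.char_linHom, mul_comm]
    congr 1
    exact (IsChar.apply_inv (isCharacter_character ρ) (h : G)).symm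
  have hle : (σ L).invariants ≤ (σ K).invariants := fun B hB =>
    (hmem K B).2 fun k hk => (hmem L B).1 hB k (hKL hk)
  have heq : (σ L).invariants = (σ K).invariants := by
    refine Submodule.eq_of_le_of_finrank_eq hle ?_
    rw [hdim K, hdim L] at hn
    exact_mod_cast hn.symm
  exact (hmem L A).1 (heq ▸ (hmem K A).2 hA)

/-- A central element killed by the Brauer map at `Q ≤ L` vanishes at a character whose
restrictions to `K` and `L` have equal norms, `K` normal of order prime to `p`. -/
theorem omega_ideal_of_brZero (hM : IsPModular p M) {K L Q : Subgroup G} [hKn : K.Normal]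
    [Fintype K] [Fintype L] (hKL : K ≤ L) (hQL : Q ≤ L) (hcop : ¬ p ∣ Nat.card K)
    (hQ : IsPGroup p Q) (χ : IrrCharacter G)
    (hn : classInner (fun k : K => (χ : G → ℂ) k) (fun k : K => (χ : G → ℂ) k) =
      classInner (fun l : L => (χ : G → ℂ) l) (fun l : L => (χ : G → ℂ) l))
    {f : IrrCharacter G → ℂ} (hf : CenInt M f) (h0 : BrZero M Q f) :
    MemLocalIdeal M (f χ) := by
  classical
  haveI := Fact.mk (pmod_prime hM)
  obtain ⟨n, ρ, hρ, hρc, hn1, -⟩ := IsIrr.exists_rep χ.2
  haveI := hρ
  haveI : NeZero n := ⟨fun h => irr_one_ne_zero χ (by rw [hn1, h, Nat.cast_zero])⟩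
  set c : G → ℂ := coeffFun f with hc
  set φ := ρ.asAlgebraHom with hφ
  have hφs : ∀ (g : G) (r : ℂ), φ (MonoidAlgebra.single g r) = r • ρ g :=
    fun g r => Representation.asAlgebraHom_single ρ g r
  set bar : G → MonoidAlgebra ℂ G := fun g =>
    ∑ k : K, MonoidAlgebra.single ((k : G) * g * (k : G)⁻¹) ((Nat.card K : ℂ)⁻¹) with hbar
  set R : G → Module.End ℂ (Fin n → ℂ) := fun g => φ (bar g) with hR
  have hRv : ∀ g, R g = (Nat.card K : ℂ)⁻¹ • ∑ k : K, ρ ((k : G) * g * (k : G)⁻¹) := fun g => by
    simp only [hR, hbar, map_sum, hφs, Finset.smul_sum]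
  have hcomK : ∀ g, ∀ k ∈ K, ρ k * R g = R g * ρ k := by
    intro g k hk
    rw [hRv, mul_smul_comm, smul_mul_assoc, Finset.mul_sum, Finset.sum_mul]
    congr 1
    refine Fintype.sum_equiv (Equiv.mulLeft (⟨k, hk⟩ : K)) _ _ fun j => ?_
    rw [← map_mul, ← map_mul]
    congr 1
    simp only [Equiv.coe_mulLeft, Subgroup.coe_mul]
    group
  have hcomL : ∀ g, ∀ l ∈ L, ρ l * R g = R g * ρ l := fun g =>
    commute_of_norm_eq ρ hKL (by rw [hρc]; exact hn) (hcomK g)
  have hRconj : ∀ g, ∀ u ∈ Q, R (u * g * u⁻¹) = R g := by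
    intro g u hu
    have h1 : R (u * g * u⁻¹) = ρ u * R g * ρ u⁻¹ := by
      rw [hRv, hRv, mul_smul_comm, smul_mul_assoc, Finset.mul_sum, Finset.sum_mul]
      congr 1
      refine Fintype.sum_equiv (conjEquivN K u⁻¹).toEquiv _ _ fun k => ?_
      rw [← map_mul, ← map_mul]
      congr 1
      simp only [MulEquiv.toEquiv_eq_coe, MulEquiv.coe_toEquiv, conjEquivN_apply, inv_inv]
      group
    rw [h1, hcomL g u (hQL hu), mul_assoc, ← map_mul, mul_inv_cancel, map_one, mul_one]
  -- the scalar
  have hsum : ∑ g : G, c g • ρ g = algebraMap ℂ (Module.End ℂ (Fin n → ℂ)) (f χ) := by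
    obtain ⟨r, hr⟩ := schur_scalar ρ (∑ g : G, c g • ρ g) fun x => by
      show _ * ρ x = ρ x * _
      rw [Finset.mul_sum, Finset.sum_mul]
      refine (Fintype.sum_equiv (MulAut.conj x).toEquiv _ _ fun g => ?_).symm
      simp only [MulEquiv.toEquiv_eq_coe, MulEquiv.coe_toEquiv, MulAut.conj_apply,
        mul_smul_comm, smul_mul_assoc, ← map_mul, inv_mul_cancel_right, hc, coeffFun_classFun f g x]
    rw [hr, Algebra.algebraMap_eq_smul_one, Module.End.one_eq_id]
    have h1 := congrArg (LinearMap.trace ℂ (Fin n → ℂ)) hr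
    rw [map_sum, map_smul, LinearMap.trace_id, Module.finrank_fin_fun, smul_eq_mul, ← hn1] at h1
    have h2 := omegaFun_coeffFun f χ
    rw [omegaFun, div_eq_iff (irr_one_ne_zero χ)] at h2
    have h3 : r * (χ : G → ℂ) 1 = f χ * (χ : G → ℂ) 1 := by
      rw [← h1, ← h2]
      refine Finset.sum_congr rfl fun g _ => ?_
      rw [map_smul, smul_eq_mul, ← hρc]
      rfl
    rw [mul_right_cancel₀ (irr_one_ne_zero χ) h3]
  have hsum' : ∑ g : G, c g • R g = ∑ g : G, c g • ρ g := by
    simp only [hRv, smul_comm _ (Nat.card K : ℂ)⁻¹, Finset.smul_sum]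
    rw [Finset.sum_comm, show ∑ g : G, c g • ρ g = ∑ _k : K, (Nat.card K : ℂ)⁻¹ • ∑ g : G, c g • ρ g by
      rw [Finset.sum_const, Finset.card_univ, ← Nat.card_eq_fintype_card, ← Nat.cast_smul_eq_nsmul ℂ,
        smul_smul, mul_inv_cancel₀ (Nat.cast_ne_zero.2 Nat.card_pos.ne'), one_smul]]
    refine Finset.sum_congr rfl fun k _ => ?_
    rw [Finset.smul_sum]
    refine Fintype.sum_equiv (MulAut.conj (k : G)).toEquiv _ _ fun g => ?_
    simp only [MulEquiv.toEquiv_eq_coe, MulEquiv.coe_toEquiv, MulAut.conj_apply, hc,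
      coeffFun_classFun f g (k : G)]
  -- grouping into orbits
  letI : MulAction Q G := MulAction.compHom G ((MulAut.conj (G := G)).comp Q.subtype)
  have hsmul : ∀ (u : Q) (g : G), u • g = (u : G) * g * (u : G)⁻¹ := fun u g => rfl
  let fib : MulAction.orbitRel.Quotient Q G → Finset G := fun q =>
    Finset.univ.filter fun g => (⟦g⟧ : MulAction.orbitRel.Quotient Q G) = q
  let y : MonoidAlgebra ℂ G :=
    ∑ q : MulAction.orbitRel.Quotient Q G, (((fib q).card : ℂ) * c q.out) • bar q.out
  have hfy : φ y = algebraMap ℂ _ (f χ) := by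
    rw [← hsum, ← hsum', ← Finset.sum_fiberwise Finset.univ
      (fun g => (⟦g⟧ : MulAction.orbitRel.Quotient Q G)) (fun g => c g • R g), map_sum]
    refine Finset.sum_congr rfl fun q _ => ?_
    rw [map_smul, mul_smul, Nat.cast_smul_eq_nsmul, ← Finset.sum_const]
    refine Finset.sum_congr rfl fun g hg => ?_
    have h1 : (⟦g⟧ : MulAction.orbitRel.Quotient Q G) = ⟦q.out⟧ := by
      rw [(Finset.mem_filter.1 hg).2, Quotient.out_eq]
    obtain ⟨u, hu⟩ := MulAction.orbitRel_apply.1 (Quotient.exact h1)
    rw [← hu]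
    simp only [hsmul]
    rw [hc, coeffFun_classFun f q.out (u : G)]
    exact congrArg _ (hRconj q.out u u.2).symm
  have hy : ∀ g, MemLocalIdeal M (y.coeff g) := by
    intro g
    simp only [y, MonoidAlgebra.coeff_sum, Finsupp.coe_finsetSum, Finset.sum_apply,
      MonoidAlgebra.coeff_smul, Finsupp.smul_apply, smul_eq_mul]
    refine ideal_sum hM fun q _ => ideal_mul_right hM ?_ ?_
    · by_cases hfix : q.out ∈ Subgroup.centralizer (Q : Set G)
      · exact ideal_mul_left hM (ring_natCast hM _) (h0 _ hfix)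
      · refine ideal_mul_right hM ((ideal_natCast_iff hM _).2 ?_) (hf _)
        obtain ⟨j, hj⟩ := hQ.card_orbit q.out
        have hcard : (fib q).card = Nat.card (MulAction.orbit Q q.out) := by
          rw [Nat.card_eq_card_finite_toFinset (Set.toFinite _)]
          congr 1
          ext x
          simp only [fib, Finset.mem_filter, Finset.mem_univ, true_and, Set.Finite.mem_toFinset]
          rw [← MulAction.orbitRel_apply]
          exact ⟨fun h => Quotient.exact (h.trans (Quotient.out_eq q).symm),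
            fun h => (Quotient.sound h).trans (Quotient.out_eq q)⟩
        rw [hcard, hj]
        rcases j with _ | j
        · refine absurd (Subgroup.mem_centralizer_iff.2 fun u hu => ?_) hfix
          rw [pow_zero, Nat.card_eq_one_iff_unique] at hj
          have h1 : (⟨_, MulAction.mem_orbit q.out (⟨u, hu⟩ : Q)⟩ : MulAction.orbit Q q.out) =
              ⟨_, MulAction.mem_orbit_self q.out⟩ := hj.1.elim _ _
          exact mul_inv_eq_iff_eq_mul.1 (congrArg Subtype.val h1)
        · exact dvd_pow_self p j.succ_ne_zero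
    · simp only [hbar, MonoidAlgebra.coeff_sum, Finsupp.coe_finsetSum, Finset.sum_apply]
      refine ring_sum hM fun k _ => ?_
      rw [MonoidAlgebra.coeff_single, Finsupp.single_apply]
      split_ifs
      · exact ring_inv hM (ring_natCast hM _) fun h => hcop ((ideal_natCast_iff hM _).1 h)
      · exact ring_zero hM
  exact eig_ideal hM φ hy (hf.ring hM χ) hfy

/-- An irreducible character of a group of order prime to `p` is a block. -/
theorem isPBlock_singleton (hM : IsPModular p M) (hcop : ¬ p ∣ Nat.card G) (θ : IrrCharacter G) :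
    IsPBlock M ({θ} : Set (IrrCharacter G)) := by
  classical
  refine ⟨θ, Set.ext fun ψ => ⟨fun h => h ▸ mem_blockOf_self hM θ, fun h => ?_⟩⟩
  by_contra hne
  have hne : ψ ≠ θ := hne
  set d : IrrCharacter G → ℂ := blockInd ({θ} : Set (IrrCharacter G)) with hd
  have hdI : CenInt M d := fun g => by
    rw [hd, ← blockCoeff_eq, blockCoeff, finsum_mem_singleton, ← irr_apply_inv]
    exact ring_mul hM
      (ring_inv hM (ring_natCast hM _) fun h => hcop ((ideal_natCast_iff hM _).1 h))
      (ring_mul hM (irr_ring hM θ 1) (irr_ring hM θ g⁻¹))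
  have h1 := hdI.congr_block hM (mem_blockOf.1 h)
  rw [hd, blockInd_of_mem (Set.mem_singleton θ), blockInd_of_notMem (by simpa using hne), sub_zero] at h1
  exact ideal_one hM h1

/-- Only one block covers a stable block of a normal subgroup holding all regular elements. -/
theorem unique_cover [Fact p.Prime] (hM : IsPModular p M) (N : Subgroup G) [N.Normal] [Fintype N]
    (hreg : ∀ g : G, ¬ p ∣ orderOf g → g ∈ N) {b : Set (IrrCharacter N)} (hbb : IsPBlock M b)
    (hb : ConjStable N b) {χ χ' : IrrCharacter G} (hχ : covInd N b χ = 1)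
    (hχ' : covInd N b χ' = 1) : blockOf M (χ : G → ℂ) = blockOf M (χ' : G → ℂ) := by
  classical
  cases nonempty_fintype (ConjClasses G)
  cases nonempty_fintype (ConjClasses N)
  set B := blockOf M (χ : G → ℂ) with hBdef
  have hB : IsPBlock M B := isPBlock_blockOf χ
  obtain ⟨θ, hθ, hc⟩ := (covInd_eq_one_iff N hb χ).1 hχ
  obtain ⟨θ', hθ', hc'⟩ := (covInd_eq_one_iff N hb χ').1 hχ'
  have hcong : MemLocalIdeal M (blockInd B χ - blockInd B χ') := by
    rw [eq_sum_centralChar (blockInd B) χ, eq_sum_centralChar (blockInd B) χ',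
      ← Finset.sum_sub_distrib]
    refine ideal_sum hM fun C _ => ?_
    rw [← mul_sub, ← blockCoeff_eq]
    by_cases hC : MemLocalIdeal M (blockCoeff B C.out)
    · exact ideal_mul_right hM hC (ring_sub hM (centralChar_ring hM _ _) (centralChar_ring hM _ _))
    · refine ideal_mul_left hM (blockCoeff_ring hM hB _) ?_
      have hN := hreg _ (regular_of_unit hM hB hC)
      obtain ⟨t, -, ht⟩ := centralChar_cover N hM hbb hb ⟨C.out, hN⟩
      have h1 := ht χ θ hθ hc
      have h2 := ht χ' θ' hθ' hc'
      have h3 := ideal_mul_left hM (ring_natCast hM t) (pblock_sameBlock hM hbb hθ hθ' ⟨C.out, hN⟩)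
      convert ideal_sub hM (ideal_add hM h1 h3) h2 using 1
      ring
  by_contra hne
  rw [blockInd_of_mem (mem_blockOf_self hM χ), blockInd_of_notMem, sub_zero] at hcong
  · exact ideal_one hM hcong
  · exact fun h => hne (pblock_eq_blockOf hM hB h)

end Cfsg.Agent.Char.Fong
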