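import Cfsg.Agent.Lib.Char.FongBlock
import Cfsg.Agent.Lib.Char.FongCores
import Cfsg.Agent.Lib.Grp.CoprimeAbelian
import Cfsg.Agent.Lib.Block.PiKernel

/-!
Brauer pairs at every `p`-subgroup for the block over an invariant character of a normal
`p'`-subgroup with a self-centralizing `p`-extension.
-/

namespace Cfsg.Agent.Char.Fong

open scoped ComplexConjugate
open Cfsg.Agent.Block Cfsg.Agent.Char.BP

set_option linter.unusedSectionVars false
set_option linter.style.haveILetI false

universe u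

variable {G : Type u} [Group G] [Fintype G] {p : ℕ} {M : Ideal AlgInt}

/-- A central element with all values in the ideal has all Brauer values in the ideal. -/
theorem val_ideal (hM : IsPModular p M) {P : Subgroup G} (hP : IsPGroup p P)
    {k : IrrCharacter G → ℂ} (hk : CenInt M k) (hval : ∀ χ, MemLocalIdeal M (k χ))
    (ξ : IrrCharacter (CG P)) : MemLocalIdeal M (val P (coeffFun k) ξ) := by
  classical
  letI := Fintype.ofFinite (CG P)
  have hinv : ∀ f : IrrCharacter G → ℂ, Inv (CG P) (coeffFun f) := fun f =>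
    inv_of_classFun (coeffFun_classFun f) _
  have hinvP : ∀ f : IrrCharacter G → ℂ, Inv P (coeffFun f) := fun f =>
    inv_of_classFun (coeffFun_classFun f) _
  have hpow : ∀ n : ℕ, MemLocalIdeal M
      (val P (coeffFun (k ^ n)) ξ - val P (coeffFun k) ξ ^ n) := by
    intro n
    induction n with
    | zero =>
      rw [pow_zero, pow_zero, show coeffFun (1 : IrrCharacter G → ℂ) = dlt from
        funext fun g => coeffFun_one g, val_dlt, sub_self]
      exact ideal_zero hM
    | succ n ih =>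
      have h1 := val_mul hM hP (hk.pow hM n) hk (hinvP (k ^ n)) (hinvP k) (hinv (k ^ n)) (hinv k) ξ
      rw [← coeffFun_mul, ← pow_succ] at h1
      have h2 := ideal_mul_right hM ih (val_ring hM hk (hinv k) ξ)
      convert ideal_add hM h1 h2 using 1
      ring
  obtain ⟨N, -, hN⟩ := exists_pow_coeff_ideal hM hk hval
  refine ideal_of_pow hM (val_ring hM hk (hinv k) ξ) N ((ideal_congr hM (hpow N)).1 ?_)
  exact ideal_of_coeffFun_ideal hM (fun c => by rw [coeff_val (hinv _)]; exact hN c) ξ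

/-- A pair of a block induces it from the centralizer. -/
theorem induced_of_ofB (hM : IsPModular p M) {B : Set (IrrCharacter G)} {x : BrauerPairIdx G}
    (h : OfB p M B x) : IsInducedBlock M (CG x.1) x.2 B := by
  classical
  letI := Fintype.ofFinite (CG x.1)
  refine ⟨h.1.2, h.2.1, fun ξ hξ χ hχ g => ?_⟩
  set f : IrrCharacter G → ℂ := fun χ => centralChar (χ : G → ℂ) g with hf
  have hfI : CenInt M f := cenInt_centralChar hM g
  have hBI := cenInt_blockInd hM h.2.1
  have e1 : inducedCentralChar (CG x.1) (ξ : CG x.1 → ℂ) g = val x.1 (coeffFun f) ξ := by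
    rw [← resCen_centralChar (CG x.1) g ξ, resCen_eq_omegaFun, val_eq]
    rfl
  rw [e1]
  set k : IrrCharacter G → ℂ := f * blockInd B - fun ψ => f χ * blockInd B ψ with hk
  have hkI : CenInt M k := (hfI.mul hM hBI).sub hM (hBI.const_mul hM (centralChar_ring hM χ g))
  have hkv : ∀ ψ, MemLocalIdeal M (k ψ) := by
    intro ψ
    by_cases hψ : ψ ∈ B
    · simpa [hk, blockInd_of_mem hψ, hf] using pblock_sameBlock hM h.2.1 hψ hχ g
    · simp [hk, blockInd_of_notMem hψ, ideal_zero hM]
  have h1 := val_ideal hM h.1.1 hkI hkv ξ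
  rw [show coeffFun k = fun c => coeffFun (f * blockInd B) c -
    f χ * coeffFun (blockInd B) c from funext fun c => by rw [hk, coeffFun_sub, coeffFun_smul]] at h1
  have e2 : val x.1 (fun c => coeffFun (f * blockInd B) c - f χ * coeffFun (blockInd B) c) ξ =
      val x.1 (coeffFun (f * blockInd B)) ξ - f χ * val x.1 (coeffFun (blockInd B)) ξ := by
    simp only [val_eq, omegaFun, res_apply, sub_mul, Finset.sum_sub_distrib, sub_div, mul_assoc,
      ← Finset.mul_sum, mul_div_assoc]
  rw [e2, ← funext (blockCoeff_eq B), coeffFun_mul, ← funext (blockCoeff_eq B)] at h1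
  have h2 := val_mul hM h.1.1 hfI (blockCoeff_ring hM h.2.1) (inv_of_classFun (coeffFun_classFun f) _)
    (inv_of_classFun (blockCoeff_classFun B) _) (inv_of_classFun (coeffFun_classFun f) _)
    (inv_of_classFun (blockCoeff_classFun B) _) ξ
  have h3 : MemLocalIdeal M ((val x.1 (coeffFun f) ξ - f χ) * (val x.1 (blockCoeff B) ξ - 1)) :=
    ideal_mul_left hM (ring_sub hM (val_ring hM hfI (inv_of_classFun (coeffFun_classFun f) _) ξ)
      (centralChar_ring hM χ g)) (h.2.2 ξ hξ)
  have := ideal_sub hM (ideal_sub hM h1 h2) h3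
  convert this using 1
  simp only [hf]
  ring

variable {K L : Subgroup G} [K.Normal] [L.Normal]

/-- Regular elements centralizing `R` and the fixed points of `R` on a Sylow subgroup of `L` lie in
`K`. -/
theorem mem_of_commute_fixed [Fact p.Prime] (hKL : K ≤ L) (hcop : ¬ p ∣ Nat.card K) {j : ℕ}
    (hidx : K.relIndex L = p ^ j) {Q R : Subgroup G} (hQL : Q ≤ L) (hQ : IsPGroup p Q)
    (hQS : ¬ p ∣ Q.relIndex L) (hCQ : Subgroup.centralizer (Q : Set G) ≤ L) (hR : IsPGroup p R)
    (hRQ : R ≤ Subgroup.normalizer (Q : Set G)) {x : G} (hxR : x ∈ CG R)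
    (hxQ : x ∈ Subgroup.centralizer ((Q ⊓ CG R : Subgroup G) : Set G))
    (hr : ¬ p ∣ orderOf x) : x ∈ K := by
  classical
  have hsup := sup_eq_of_relIndex hKL hQL hidx hQS
  have hKQ : ∀ c, c ∈ K → c ∈ Q → c = 1 := by
    intro c hcK hcQ
    obtain ⟨a, ha⟩ := hQ ⟨c, hcQ⟩
    refine orderOf_eq_one_iff.1 (Nat.eq_one_of_dvd_coprimes ?_
      (orderOf_dvd_of_pow_eq_one (show c ^ p ^ a = 1 from congrArg Subtype.val ha))
      (Subgroup.orderOf_mk c hcK ▸ orderOf_dvd_natCard (⟨c, hcK⟩ : K)))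
    exact Nat.Coprime.pow_left _ ((Fact.out : p.Prime).coprime_iff_not_dvd.2 hcop)
  set f := QuotientGroup.mk' K with hf
  have hfK : ∀ c, c ∈ K → f c = 1 := fun c hc => (QuotientGroup.eq_one_iff c).2 hc
  have himg : L.map f = Q.map f := by
    rw [← hsup, Subgroup.map_sup, QuotientGroup.map_mk'_self, bot_sup_eq]
  haveI : (L.map f).Normal := Subgroup.Normal.map inferInstance f (QuotientGroup.mk'_surjective _)
  -- the image of `x` centralizes `L / K`
  have hcen : Subgroup.zpowers (f x) ≤ Subgroup.centralizer ((Q.map f : Subgroup (G ⧸ K)) :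
      Set (G ⧸ K)) := by
    refine Grp.thompson_PQ (p := p) (R.map f) _ (hR.map f) ?_ ?_ (Q.map f) (hQ.map f) ?_ ?_ ?_
    · rw [Nat.card_zpowers]
      exact (((Fact.out : p.Prime).coprime_iff_not_dvd.2
        fun h => hr (h.trans (orderOf_map_dvd f x))).symm)
    · rintro _ ⟨r, hr', rfl⟩
      refine Subgroup.mem_centralizer_iff.2 fun w hw => ?_
      obtain ⟨n, rfl⟩ := Subgroup.mem_zpowers_iff.1 hw
      exact ((Commute.map (show Commute x r from
        ((Subgroup.mem_centralizer_iff.1 hxR r hr').symm)) f).zpow_left n).eq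
    · rw [← himg, Subgroup.normalizer_eq_top]; exact le_top
    · rw [← himg, Subgroup.normalizer_eq_top]; exact le_top
    · rintro w ⟨⟨q, hq, rfl⟩, hqR⟩
      have hqC : q ∈ Q ⊓ CG R := by
        refine ⟨hq, Subgroup.mem_centralizer_iff.2 fun r hr' => ?_⟩
        have h1 : f (r * q * r⁻¹ * q⁻¹) = 1 := by
          have := Subgroup.mem_centralizer_iff.1 hqR (f r) ⟨r, hr', rfl⟩
          simp only [map_mul, map_inv]
          rw [this]
          group
        have h2 : r * q * r⁻¹ * q⁻¹ = 1 := hKQ _ ((QuotientGroup.eq_one_iff _).1 h1)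
          (mul_mem ((Subgroup.mem_normalizer_iff.1 (hRQ hr') q).1 hq) (inv_mem hq))
        exact mul_inv_eq_iff_eq_mul.1 (mul_inv_eq_one.1 h2)
      refine Subgroup.mem_centralizer_iff.2 fun w hw => ?_
      obtain ⟨n, rfl⟩ := Subgroup.mem_zpowers_iff.1 hw
      exact ((Commute.map (show Commute x q from
        ((Subgroup.mem_centralizer_iff.1 hxQ q hqC).symm)) f).zpow_left n).eq
  -- Frattini
  have hQs : ∀ g : G, Q.map (MulAut.conj g).toMonoidHom ≤ L := fun g => by
    rintro _ ⟨q, hq, rfl⟩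
    exact (inferInstance : L.Normal).conj_mem q (hQL hq) g
  set Q' := Q.map (MulAut.conj x).toMonoidHom with hQ'
  let S : Sylow p L := (hQ.comap_subtype (K := L)).toSylow hQS
  have hcard : Nat.card (Q'.subgroupOf L) = Nat.card (Q.subgroupOf L) := by
    rw [Nat.card_congr (Subgroup.subgroupOfEquivOfLe (hQs x)).toEquiv,
      Nat.card_congr (Subgroup.subgroupOfEquivOfLe hQL).toEquiv, card_map_conj]
  have hQ'idx : ¬ p ∣ (Q'.subgroupOf L).index := by
    intro hd
    have h1 := (Q'.subgroupOf L).card_mul_index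
    rw [hcard, ← (Q.subgroupOf L).card_mul_index] at h1
    rw [Nat.eq_of_mul_eq_mul_left Nat.card_pos h1] at hd
    exact hQS hd
  let S' : Sylow p L := ((hQ.map _).comap_subtype (H := Q')).toSylow hQ'idx
  obtain ⟨l, hl⟩ := MulAction.exists_smul_eq L S S'
  obtain ⟨k, hk, q₀, hq₀, hlq⟩ := (Subgroup.mem_sup_of_normal_left).1 (hsup.symm ▸ l.2 :
    (l : G) ∈ K ⊔ Q)
  set y := k⁻¹ * x with hy
  have hyx : f y = f x := by rw [hy, map_mul, map_inv, hfK k hk, inv_one, one_mul]
  have hyn : ∀ q ∈ Q, y * q * y⁻¹ ∈ Q := by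
    intro q hq
    have h1 : x * q * x⁻¹ ∈ L := hQs x ⟨q, hq, rfl⟩
    have h2 : (⟨x * q * x⁻¹, h1⟩ : L) ∈ (S' : Subgroup L) := ⟨q, hq, rfl⟩
    rw [← hl, Sylow.coe_subgroup_smul, Subgroup.mem_pointwise_smul_iff_inv_smul_mem] at h2
    have h3 : (l : G)⁻¹ * (x * q * x⁻¹) * (l : G) ∈ Q := by
      simpa [S, Subgroup.mem_subgroupOf] using h2
    have h4 := mul_mem (mul_mem hq₀ h3) (inv_mem hq₀)
    rw [← hlq] at h4
    rw [hy]
    convert h4 using 1
    group
  have hyC : y ∈ Subgroup.centralizer (Q : Set G) := by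
    refine Subgroup.mem_centralizer_iff.2 fun q hq => ?_
    have h1 : y * q * y⁻¹ * q⁻¹ ∈ K := by
      rw [← QuotientGroup.eq_one_iff]
      show f _ = 1
      have h2 := Subgroup.mem_centralizer_iff.1 (hcen (Subgroup.mem_zpowers (f x))) (f q) ⟨q, hq, rfl⟩
      simp only [map_mul, map_inv, hyx]
      rw [← h2]
      group
    have h3 := hKQ _ h1 (mul_mem (hyn q hq) (inv_mem hq))
    exact (mul_inv_eq_iff_eq_mul.1 (mul_inv_eq_one.1 h3)).symm
  have hxL : x ∈ L := by
    rw [show x = k * y by rw [hy]; group]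
    exact mul_mem (hKL hk) (hCQ hyC)
  exact mem_of_regular_of_index hidx hxL hr

variable {θ : IrrCharacter K}

/-- Only one pair at a `p`-subgroup normalizing a Sylow subgroup of `L`. -/
theorem unique_pair_local [Fact p.Prime] [Fintype K] (hM : IsPModular p M) (hKL : K ≤ L)
    (hcop : ¬ p ∣ Nat.card K) {j : ℕ} (hidx : K.relIndex L = p ^ j) (hinv : Fixed K θ)
    {Q R : Subgroup G} (hQL : Q ≤ L) (hQ : IsPGroup p Q) (hQS : ¬ p ∣ Q.relIndex L)
    (hCQ : Subgroup.centralizer (Q : Set G) ≤ L) (hR : IsPGroup p R)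
    (hRQ : R ≤ Subgroup.normalizer (Q : Set G)) {c c' : Set (IrrCharacter (CG R))}
    (hc : IsPBlock M c) (hc' : IsPBlock M c')
    (h : Holds M (⟨R, c⟩ : BrauerPairIdx G) (covCoeff K ({θ} : Set (IrrCharacter K))))
    (h' : Holds M (⟨R, c'⟩ : BrauerPairIdx G) (covCoeff K ({θ} : Set (IrrCharacter K)))) :
    c = c' := by
  classical
  letI := Fintype.ofFinite (CG R)
  haveI : (K.subgroupOf (CG R)).Normal := Subgroup.Normal.subgroupOf inferInstance (CG R)
  haveI : (L.subgroupOf (CG R)).Normal := Subgroup.Normal.subgroupOf inferInstance (CG R)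
  letI := Fintype.ofFinite (K.subgroupOf (CG R))
  letI := Fintype.ofFinite (L.subgroupOf (CG R))
  obtain ⟨β, hβ, key⟩ := pair_cover hM hcop hinv hR
  have hcopN : ¬ p ∣ Nat.card (K.subgroupOf (CG R)) := fun hd =>
    hcop (hd.trans (Subgroup.card_comap_dvd_of_injective K _ (Subgroup.subtype_injective _)))
  obtain ⟨i, hi⟩ : ∃ i : ℕ, (K.subgroupOf (CG R)).relIndex (L.subgroupOf (CG R)) = p ^ i := by
    have h1 : (K.subgroupOf (CG R)).relIndex (L.subgroupOf (CG R)) =
        K.relIndex ((L.subgroupOf (CG R)).map (CG R).subtype) := Subgroup.relIndex_comap _ _ _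
    have h2 := Grp.relIndex_dvd_of_normal_le (M := K) inferInstance
      (show (L.subgroupOf (CG R)).map (CG R).subtype ≤ L from Subgroup.map_comap_le _ _)
    rw [hidx, ← h1] at h2
    obtain ⟨i, -, hi⟩ := (Nat.dvd_prime_pow (Fact.out : p.Prime)).1 h2
    exact ⟨i, hi⟩
  obtain ⟨B₀, hB₀, hmem, -, -⟩ := block_over (G := CG R) (θ := β) (L.subgroupOf (CG R))
    ((Q ⊓ (CG R)).subgroupOf (CG R)) hM (Subgroup.comap_mono hKL)
    (Subgroup.comap_mono (inf_le_left.trans hQL))
    ((hQ.to_le inf_le_left).comap_subtype) hcopN hi hβ (fun z hz hzr => by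
      refine Subgroup.mem_subgroupOf.2 (mem_of_commute_fixed hKL hcop hidx hQL hQ hQS hCQ hR hRQ
        z.2 (Subgroup.mem_centralizer_iff.2 fun q hq => ?_) (by rwa [Subgroup.orderOf_coe]))
      exact congrArg Subtype.val
        (Subgroup.mem_centralizer_iff.1 hz ⟨q, hq.2⟩ (Subgroup.mem_subgroupOf.2 hq)))
  obtain ⟨ξ, hξ⟩ := pblock_nonempty hM hc
  obtain ⟨ξ', hξ'⟩ := pblock_nonempty hM hc'
  rw [pblock_eq_blockOf hM hc hξ, pblock_eq_blockOf hM hc' hξ',
    ← pblock_eq_blockOf hM hB₀ ((hmem ξ).2 ((covInd_eq_one hβ ξ).1 (key c hc h ξ hξ))),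
    ← pblock_eq_blockOf hM hB₀ ((hmem ξ').2 ((covInd_eq_one hβ ξ').1 (key c' hc' h' ξ' hξ')))]

end Cfsg.Agent.Char.Fong
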