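import Mathlib
import Cfsg.Agent.Lib.Grp.Frattini

/-!
Finite 2-groups in which every element of order dividing four is central: conjugation moves an element
whose square has order dividing four only by an involution, and the Frattini index is bounded by the
number of square roots of one.
-/

set_option autoImplicit false
set_option linter.style.haveILetI false

namespace Cfsg.Agent.Char.FourGen

open scoped commutatorElement

universe u

/-- Every element of order dividing four is central. -/
def FourCentral (T : Type u) [Group T] : Prop := ∀ x : T, x ^ 4 = 1 → ∀ g : T, x * g = g * x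

theorem fourCentral_subgroup {T : Type u} [Group T] (hz : FourCentral T) (U : Subgroup T) :
    FourCentral U := fun x hx g =>
  Subtype.ext (hz x (congrArg Subtype.val hx) g)

theorem comm_sq_aux : ∀ (n : ℕ) (T : Type u) [Group T] [Finite T], Nat.card T = n → IsPGroup 2 T →
    FourCentral T → ∀ c : T, c ^ 8 = 1 → ∀ g : T, (c⁻¹ * (g * c * g⁻¹)) ^ 2 = 1 := by
  intro n
  induction n using Nat.strong_induction_on with
  | _ n ih =>
  intro T _ _ hn hp hz c hc g
  haveI : Fact (Nat.Prime 2) := ⟨Nat.prime_two⟩
  set c' := g * c * g⁻¹ with hc'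
  set U := Subgroup.closure ({c, c'} : Set T) with hU
  have hcU : c ∈ U := Subgroup.subset_closure (by simp)
  have hc'U : c' ∈ U := Subgroup.subset_closure (by simp)
  have hc2 : ∀ h : T, c ^ 2 * h = h * c ^ 2 := hz _ (by rw [← pow_mul]; exact hc)
  have hcc : c' * c = c * c' := by
    by_cases htop : U = ⊤
    · have hδ : c⁻¹ * c' ∈ frattini T := by
        refine Agent.Grp.pGroup_commutator_le_frattini hp ?_
        rw [show c⁻¹ * c' = ⁅c⁻¹, g⁆ by rw [commutatorElement_def, hc']; group]
        exact Subgroup.commutator_mem_commutator (Subgroup.mem_top _) (Subgroup.mem_top _)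
      have hle : U ≤ Subgroup.zpowers c ⊔ frattini T := by
        rw [hU, Subgroup.closure_le]
        rintro x (rfl | rfl)
        · exact Subgroup.mem_sup_left (Subgroup.mem_zpowers _)
        · rw [show c' = c * (c⁻¹ * c') by group]
          exact Subgroup.mul_mem _ (Subgroup.mem_sup_left (Subgroup.mem_zpowers _))
            (Subgroup.mem_sup_right hδ)
      have hz' : Subgroup.zpowers c = ⊤ :=
        frattini_nongenerating (le_antisymm le_top (htop.symm.le.trans hle))
      obtain ⟨i, hi⟩ := Subgroup.mem_zpowers_iff.1 (hz' ▸ Subgroup.mem_top c' : c' ∈ Subgroup.zpowers c)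
      rw [← hi]
      exact ((Commute.refl c).zpow_left i).eq
    · have hlt : Nat.card U < n := by
        rw [← hn]
        refine lt_of_le_of_ne (Subgroup.card_le_card_group U) fun h => htop ?_
        exact Subgroup.eq_top_of_card_eq U h
      have h1 := ih _ hlt U rfl (hp.to_subgroup U) (fourCentral_subgroup hz U) ⟨c, hcU⟩ (Subtype.ext hc)
        ⟨c', hc'U⟩
      have h2 : (c⁻¹ * (c' * c * c'⁻¹)) ^ 2 = 1 := congrArg Subtype.val h1
      set e := c⁻¹ * (c' * c * c'⁻¹) with he
      have hec : ∀ h : T, e * h = h * e := hz e (by rw [show 4 = 2 * 2 from rfl, pow_mul, h2, one_pow])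
      have hsw : c' * c = e * (c * c') := by
        rw [← mul_assoc, hec c, he]
        group
      have hsq : c' ^ 2 = c ^ 2 := by
        rw [hc', conj_pow, mul_inv_eq_iff_eq_mul, hc2]
      have hδ : (c⁻¹ * c') ^ 2 = e⁻¹ := by
        have h3 : c' * c⁻¹ = c⁻¹ * e⁻¹ * c' := by
          rw [mul_inv_eq_iff_eq_mul, mul_assoc _ c' c, hsw, ← mul_assoc, mul_assoc c⁻¹, inv_mul_cancel,
            mul_one, inv_mul_cancel_left]
        calc (c⁻¹ * c') ^ 2 = c⁻¹ * (c' * c⁻¹) * c' := by rw [pow_two]; group
          _ = c⁻¹ * c⁻¹ * (e⁻¹ * c' ^ 2) := by rw [h3, pow_two]; group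
          _ = e⁻¹ := by
            rw [hsq, show e⁻¹ * c ^ 2 = c ^ 2 * e⁻¹ from (hc2 _).symm, pow_two]
            group
      have hδc := hz (c⁻¹ * c') (by rw [show 4 = 2 * 2 from rfl, pow_mul, hδ, inv_pow, h2, inv_one]) c
      have h4 : c' * c = c * (c⁻¹ * c' * c) := by group
      rw [h4, hδc, mul_inv_cancel_left]
  have hsq : c' ^ 2 = c ^ 2 := by rw [hc', conj_pow, mul_inv_eq_iff_eq_mul, hc2]
  rw [(Commute.inv_left (show Commute c c' from hcc.symm)).mul_pow, inv_pow, hsq, inv_mul_cancel]

variable {T : Type u} [Group T] [Finite T]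

/-- An element with square of order dividing four is moved only by involutions. -/
theorem comm_sq (hp : IsPGroup 2 T) (hz : FourCentral T) {c : T} (hc : c ^ 8 = 1) (g : T) :
    (c⁻¹ * (g * c * g⁻¹)) ^ 2 = 1 :=
  comm_sq_aux _ T rfl hp hz c hc g

/-- The square roots of one form a subgroup. -/
def omegaOne (hz : FourCentral T) : Subgroup T where
  carrier := {x | x ^ 2 = 1}
  one_mem' := one_pow 2
  mul_mem' := fun {a b} (ha : a ^ 2 = 1) (hb : b ^ 2 = 1) => by
    show (a * b) ^ 2 = 1
    have h : Commute a b := hz a (by rw [show 4 = 2 * 2 from rfl, pow_mul, ha, one_pow]) b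
    rw [h.mul_pow, ha, hb, one_mul]
  inv_mem' := fun {a} (ha : a ^ 2 = 1) => by
    show a⁻¹ ^ 2 = 1
    rw [inv_pow, ha, inv_one]

theorem omegaOne_normal (hz : FourCentral T) : (omegaOne hz).Normal :=
  ⟨fun n (hn : n ^ 2 = 1) g => by
    show (g * n * g⁻¹) ^ 2 = 1
    rw [conj_pow, hn, mul_one, mul_inv_cancel]⟩

/-- The quotient by the square roots of one again has all elements of order dividing four central. -/
theorem fourCentral_quotient (hp : IsPGroup 2 T) (hz : FourCentral T) [(omegaOne hz).Normal] :
    FourCentral (T ⧸ omegaOne hz) := by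
  intro x hx g
  induction x using QuotientGroup.induction_on with | _ x =>
  induction g using QuotientGroup.induction_on with | _ g =>
  rw [← QuotientGroup.mk_pow, QuotientGroup.eq_one_iff] at hx
  have h8 : x ^ 8 = 1 := by rw [show 8 = 4 * 2 from rfl, pow_mul]; exact hx
  rw [← QuotientGroup.mk_mul, ← QuotientGroup.mk_mul, eq_comm, QuotientGroup.eq]
  show ((g * x)⁻¹ * (x * g)) ^ 2 = 1
  have h := comm_sq hp hz h8 g⁻¹
  rwa [show x⁻¹ * (g⁻¹ * x * g⁻¹⁻¹) = (g * x)⁻¹ * (x * g) by group] at h

/-- The quotient has no more square roots of one. -/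
theorem card_omega_quotient (hp : IsPGroup 2 T) (hz : FourCentral T) [(omegaOne hz).Normal] :
    Nat.card (omegaOne (fourCentral_quotient hp hz)) ≤ Nat.card (omegaOne hz) := by
  classical
  have hrep : ∀ q : omegaOne (fourCentral_quotient hp hz), ∃ x : T,
      (x : T ⧸ omegaOne hz) = q ∧ (x ^ 2) ^ 2 = 1 := by
    rintro ⟨q, hq⟩
    induction q using QuotientGroup.induction_on with | _ x =>
    refine ⟨x, rfl, ?_⟩
    have h1 : ((x ^ 2 : T) : T ⧸ omegaOne hz) = 1 := by rw [QuotientGroup.mk_pow]; exact hq
    exact (QuotientGroup.eq_one_iff _).1 h1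
  choose r hr hr4 using hrep
  refine Nat.card_le_card_of_injective (fun q => ⟨r q ^ 2, hr4 q⟩) fun q q' h => ?_
  have h2 : r q ^ 2 = r q' ^ 2 := congrArg Subtype.val h
  have h4 : (r q) ^ 4 = 1 := by rw [show 4 = 2 * 2 from rfl, pow_mul]; exact hr4 q
  refine Subtype.ext ?_
  rw [← hr q, ← hr q', QuotientGroup.eq]
  show ((r q)⁻¹ * r q') ^ 2 = 1
  rw [(show Commute (r q)⁻¹ (r q') from (Commute.inv_left (hz _ h4 (r q')))).mul_pow, inv_pow, ← h2,
    inv_mul_cancel]

theorem frattini_index_aux : ∀ (n : ℕ) (T : Type u) [Group T] [Finite T], Nat.card T = n →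
    IsPGroup 2 T → ∀ hz : FourCentral T, (frattini T).index ≤ Nat.card (omegaOne hz) := by
  intro n
  induction n using Nat.strong_induction_on with
  | _ n ih =>
  intro T _ _ hn hp hz
  haveI : Fact (Nat.Prime 2) := ⟨Nat.prime_two⟩
  haveI := omegaOne_normal hz
  rcases subsingleton_or_nontrivial T with hT | hT
  · rw [Subsingleton.elim (frattini T) ⊤, Subgroup.index_top]
    exact Nat.card_pos
  by_cases hle : omegaOne hz ≤ frattini T
  · have h2 : 2 ∣ Nat.card T := by
      obtain ⟨m, hm⟩ := IsPGroup.iff_card.1 hp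
      have := Finite.one_lt_card (α := T)
      rcases m with _ | m
      · omega
      · exact hm ▸ dvd_pow_self 2 m.succ_ne_zero
    obtain ⟨z, hzo⟩ := exists_prime_orderOf_dvd_card' 2 h2
    have hzΩ : z ∈ omegaOne hz := by
      show z ^ 2 = 1
      rw [← hzo, pow_orderOf_eq_one]
    have hlt : Nat.card (T ⧸ omegaOne hz) < n := by
      have h1 := Subgroup.card_eq_card_quotient_mul_card_subgroup (omegaOne hz)
      have h2' : 1 < Nat.card (omegaOne hz) := (Subgroup.one_lt_card_iff_ne_bot _).2 fun hb => by
        have : z = 1 := Subgroup.mem_bot.1 (hb ▸ hzΩ)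
        rw [this, orderOf_one] at hzo
        omega
      have h3 : 0 < Nat.card (T ⧸ omegaOne hz) := Nat.card_pos
      nlinarith
    have hq := ih _ hlt (T ⧸ omegaOne hz) rfl (hp.to_quotient _) (fourCentral_quotient hp hz)
    refine le_trans ?_ (hq.trans (card_omega_quotient hp hz))
    rw [← Subgroup.index_comap_of_surjective _ (QuotientGroup.mk'_surjective (omegaOne hz))]
    refine Nat.le_of_dvd (Nat.pos_of_ne_zero Subgroup.index_ne_zero_of_finite)
      (Subgroup.index_dvd_of_le ?_)
    rw [frattini, frattini, Order.radical, Order.radical]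
    refine le_iInf₂ fun M hM => ?_
    have hMΩ : omegaOne hz ≤ M := hle.trans (frattini_le_coatom hM)
    have hcm : (M.map (QuotientGroup.mk' (omegaOne hz))).comap (QuotientGroup.mk' (omegaOne hz)) = M := by
      rw [Subgroup.comap_map_eq, QuotientGroup.ker_mk', sup_eq_left.2 hMΩ]
    have hco : IsCoatom (M.map (QuotientGroup.mk' (omegaOne hz))) := by
      refine ⟨fun h => hM.1 ?_, fun B hB => ?_⟩
      · rw [← hcm, h, Subgroup.comap_top]
      · have h1 : M < B.comap (QuotientGroup.mk' (omegaOne hz)) := by
          rw [← hcm]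
          exact (Subgroup.comap_lt_comap_of_surjective (QuotientGroup.mk'_surjective _)).2 hB
        rw [← Subgroup.map_comap_eq_self_of_surjective (QuotientGroup.mk'_surjective _) B, hM.2 _ h1,
          Subgroup.map_top_of_surjective _ (QuotientGroup.mk'_surjective _)]
    conv_rhs => rw [← hcm]
    exact Subgroup.comap_mono (iInf₂_le (M.map (QuotientGroup.mk' (omegaOne hz))) hco)
  · obtain ⟨e, he, M, hM, heM⟩ : ∃ e ∈ omegaOne hz, ∃ M : Subgroup T, IsCoatom M ∧ e ∉ M := by
      by_contra hcon
      push Not at hcon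
      refine hle fun e he => ?_
      rw [frattini, Order.radical, Subgroup.mem_iInf]
      intro M
      rw [Subgroup.mem_iInf]
      exact fun hM => hcon e he M hM
    obtain ⟨hMn, hMi⟩ := Agent.Grp.coatom_index_eq_of_pGroup hp hM
    have hlt : Nat.card M < n := by
      have h1 := M.card_mul_index
      have h3 : 0 < Nat.card M := Nat.card_pos
      rw [hMi] at h1
      omega
    have hM' := ih _ hlt M rfl (hp.to_subgroup M) (fourCentral_subgroup hz M)
    have hcount : Nat.card (omegaOne (fourCentral_subgroup hz M)) * 2 ≤ Nat.card (omegaOne hz) := by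
      have h2 : Nat.card (omegaOne (fourCentral_subgroup hz M) × Bool) ≤ Nat.card (omegaOne hz) := by
        refine Nat.card_le_card_of_injective
          (fun q => (⟨((q.1 : M) : T), congrArg Subtype.val q.1.2⟩ : omegaOne hz) *
            bif q.2 then ⟨e, he⟩ else 1) ?_
        rintro ⟨x, b⟩ ⟨y, c⟩ h
        have h1 := congrArg (fun w : omegaOne hz => (w : T)) h
        cases b <;> cases c <;> simp only [cond_true, cond_false, Subgroup.coe_mul, Subgroup.coe_one,
          mul_one] at h1
        · exact Prod.ext (Subtype.ext (Subtype.ext h1)) rfl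
        · exact absurd ((Subgroup.mul_mem_cancel_left M (y : M).2).1 (h1 ▸ (x : M).2)) heM
        · exact absurd ((Subgroup.mul_mem_cancel_left M (x : M).2).1 (h1.symm ▸ (y : M).2)) heM
        · exact Prod.ext (Subtype.ext (Subtype.ext (mul_right_cancel h1))) rfl
      rwa [Nat.card_prod, show Nat.card Bool = 2 by simp] at h2
    have hΦ : (frattini M).map M.subtype ≤ frattini T := by
      rw [Subgroup.map_le_iff_le_comap]
      haveI : ((frattini T).comap M.subtype).Normal := Subgroup.Normal.comap inferInstance _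
      refine Agent.Grp.frattini_le_of_elementary Nat.prime_two ?_ fun x => ?_
      · rw [commutator_def, Subgroup.commutator_le]
        intro a _ b _
        rw [Subgroup.mem_comap, map_commutatorElement]
        exact Agent.Grp.pGroup_commutator_le_frattini hp
          (Subgroup.commutator_mem_commutator (Subgroup.mem_top _) (Subgroup.mem_top _))
      · rw [Subgroup.mem_comap, map_pow]
        exact Agent.Grp.pGroup_pow_mem_frattini hp _
    calc (frattini T).index ≤ ((frattini M).map M.subtype).index :=
          Nat.le_of_dvd (Nat.pos_of_ne_zero Subgroup.index_ne_zero_of_finite) (Subgroup.index_dvd_of_le hΦ)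
      _ = (frattini M).index * 2 := by rw [Subgroup.index_map_subtype, hMi]
      _ ≤ Nat.card (omegaOne (fourCentral_subgroup hz M)) * 2 := Nat.mul_le_mul_right _ hM'
      _ ≤ Nat.card (omegaOne hz) := hcount

/-- The Frattini index is at most the number of square roots of one. -/
theorem frattini_index_le (hp : IsPGroup 2 T) (hz : FourCentral T) :
    (frattini T).index ≤ Nat.card (omegaOne hz) :=
  frattini_index_aux _ T rfl hp hz

end Cfsg.Agent.Char.FourGen
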