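import Mathlib

/-!
Endomorphisms of a four-group as pairs of vectors over `ZMod 2`: nilpotent ones, the ones of order three,
conjugation by a transvection, and subgroups of index at most two.
-/

set_option autoImplicit false
set_option synthInstance.maxSize 4000
set_option synthInstance.maxHeartbeats 400000

namespace Cfsg.Agent.Char.FourGen

/-- The four-group. -/
abbrev Vec := ZMod 2 × ZMod 2

/-- An endomorphism, given by the images of the two basis vectors. -/
abbrev Mat2 := Vec × Vec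

/-- Application of an endomorphism. -/
def ap (m : Mat2) (v : Vec) : Vec := v.1 • m.1 + v.2 • m.2

/-- The identity. -/
def one2 : Mat2 := ((1, 0), (0, 1))

/-- The nilpotent with kernel `(1, 0)`. -/
def nA : Mat2 := ((0, 0), (1, 0))

/-- The nilpotent with kernel `(0, 1)`. -/
def nB : Mat2 := ((0, 1), (0, 0))

/-- The nilpotent with kernel `(1, 1)`. -/
def nC : Mat2 := ((1, 1), (1, 1))

/-- An element of order three. -/
def om : Mat2 := ((0, 1), (1, 1))

/-- The other element of order three. -/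
def om' : Mat2 := ((1, 1), (1, 0))

/-- An idempotent. -/
def idem : Mat2 := ((1, 0), (0, 0))

/-- The transvection fixing `(1, 0)`, or the identity. -/
def sg (c : ZMod 2) (v : Vec) : Vec := (v.1 + c * v.2, v.2)

/-- Conjugation by `sg c`. -/
def cj (c : ZMod 2) (m : Mat2) : Mat2 :=
  (sg c (ap m (sg c (1, 0))), sg c (ap m (sg c (0, 1))))

theorem nil_sum : nA + nB + nC = one2 ∧ om + om' = one2 ∧ cj 1 idem = idem + nA := by decide

theorem inj_good : ∀ m : Mat2, (m = nA ∨ m = nB ∨ m = nC ∨ m = om ∨ m = om') →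
    m ≠ 0 ∧ ∀ v : Vec, v + ap m v = 0 → v = 0 := by decide

theorem order_three : ∀ m : Mat2, (m = om ∨ m = om') → ∀ v : Vec, ap m v + ap m (ap m v) = v := by
  decide

theorem nil_line : ∀ m : Mat2, (m = nA ∨ m = nB ∨ m = nC) → ∀ v : Vec,
    ap m v + ap m (ap m v) = 0 → ap m v = 0 := by decide

theorem nil_fixed : ∀ m : Mat2, (m = nA ∨ m = nB ∨ m = nC) → ∀ l : Vec, l ≠ 0 → ap m l = 0 →
    ∀ c : ZMod 2, sg c l = l → cj c m = m := by decide

theorem cj_zero : ∀ m : Mat2, cj 0 m = m := by decide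

theorem cj_nA : ∀ c : ZMod 2, cj c nA = nA := by decide

theorem cj_fixed : ∀ m : Mat2, cj 1 m = m → m = 0 ∨ m = one2 ∨ m = nA ∨ m = one2 + nA := by decide

theorem kernels : ∀ v : Vec, (ap nA v = 0 → v = 0 ∨ v = (1, 0)) ∧ (ap nB v = 0 → v = 0 ∨ v = (0, 1)) ∧
    (ap nC v = 0 → v = 0 ∨ v = (1, 1)) := by decide

theorem three_lines : ∀ a b c : Vec, ap nA a = 0 → ap nB b = 0 → ap nC c = 0 → a + b + c = 0 → a ≠ 0 →
    a = (1, 0) ∧ b = (0, 1) ∧ c = (1, 1) := by decide

theorem unit_injective : ∀ m : Mat2, (m = one2 ∨ m = one2 + nA ∨ m = one2 + nB ∨ m = one2 + nC ∨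
    m = om ∨ m = om') → ∀ v : Vec, ap m v = 0 → v = 0 := by decide

theorem final_clash : ap (om + nA) (1, 0) ≠ 0 ∧ ap (om' + nA) (1, 0) ≠ 0 := by decide

/-- A subgroup of index at most two: two elements outside have their sum inside. -/
def Small2 (S : AddSubgroup Mat2) : Prop := ∀ a b : Mat2, a ∉ S → b ∉ S → a + b ∈ S

/-- Such a subgroup contains a nilpotent or an element of order three. -/
theorem exists_good {S : AddSubgroup Mat2} (hS : Small2 S) :
    ∃ m ∈ S, m = nA ∨ m = nB ∨ m = nC ∨ m = om ∨ m = om' := by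
  by_contra h
  push Not at h
  have hA : nA ∉ S := fun hm => (h _ hm).1 rfl
  have hB : nB ∉ S := fun hm => (h _ hm).2.1 rfl
  have hC : nC ∉ S := fun hm => (h _ hm).2.2.1 rfl
  have ho : om ∉ S := fun hm => (h _ hm).2.2.2.1 rfl
  have ho' : om' ∉ S := fun hm => (h _ hm).2.2.2.2 rfl
  have h1 := hS _ _ ho ho'
  rw [nil_sum.2.1, ← nil_sum.1] at h1
  exact hC ((AddSubgroup.add_mem_cancel_left S (hS _ _ hA hB)).1 h1)

/-- An invariant one contains the fixed nilpotent. -/
theorem nA_mem_of_invariant {S : AddSubgroup Mat2} (hS : Small2 S) (hinv : ∀ m ∈ S, cj 1 m ∈ S) :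
    nA ∈ S := by
  by_cases hP : idem ∈ S
  · have h1 := hinv _ hP
    rw [nil_sum.2.2] at h1
    exact (AddSubgroup.add_mem_cancel_left S hP).1 h1
  · have h2 : cj 1 idem ∉ S := fun h => hP (by
      have h3 := hinv _ h
      rwa [show cj 1 (cj 1 idem) = idem by decide] at h3)
    have h1 := hS _ _ hP h2
    rwa [show idem + cj 1 idem = nA by decide] at h1

/-- The elements that must lie in one avoiding all nilpotents. -/
theorem avoid_all {S : AddSubgroup Mat2} (hS : Small2 S) (hA : nA ∉ S) (hB : nB ∉ S) (hC : nC ∉ S) :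
    one2 + nA ∈ S ∧ one2 + nB ∈ S ∧ one2 + nC ∈ S ∧ (om ∈ S ∨ om' ∈ S) := by
  have h1 : one2 ∉ S := by
    intro h
    rw [← nil_sum.1] at h
    exact hC ((AddSubgroup.add_mem_cancel_left S (hS _ _ hA hB)).1 h)
  refine ⟨hS _ _ h1 hA, hS _ _ h1 hB, hS _ _ h1 hC, ?_⟩
  by_contra h
  push Not at h
  have h2 := hS _ _ h.1 h.2
  rw [nil_sum.2.1] at h2
  exact h1 h2

theorem small2_of_card (S : AddSubgroup Mat2) (h : 8 ≤ Nat.card S) : Small2 S := by
  have h1 := S.card_mul_index
  rw [show Nat.card Mat2 = 16 by simp] at h1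
  have h2 : S.index ≤ 2 := by nlinarith
  intro a b ha hb
  have h3 : S.index = 2 := by
    have h4 : S.index ≠ 0 := AddSubgroup.index_ne_zero_of_finite
    have h5 : S.index ≠ 1 := fun e => ha (AddSubgroup.index_eq_one.1 e ▸ AddSubgroup.mem_top a)
    omega
  exact (AddSubgroup.add_mem_iff_of_index_two h3).2 ⟨fun x => absurd x ha, fun x => absurd x hb⟩

end Cfsg.Agent.Char.FourGen
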