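import Mathlib
import Cfsg.Agent.Lib.Char.FourGenCore

/-!
A normal abelian subgroup of exponent dividing four that contains all such elements of its centralizer, in
a group without large normal elementary abelian subgroups: facts about its centralizer, and the lemma that
an element acting on it without fixed squares cannot be invariant modulo an abelian centralizer.
-/

set_option autoImplicit false
set_option linter.style.haveILetI false

namespace Cfsg.Agent.Char.FourGen

universe u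

variable {P : Type u} [Group P] {A : Subgroup P}

/-- The setting. -/
structure Max4 (A : Subgroup P) : Prop where
  normal : A.Normal
  comm : ∀ a ∈ A, ∀ b ∈ A, a * b = b * a
  exp : ∀ a ∈ A, a ^ 4 = 1
  mem : ∀ x ∈ Subgroup.centralizer (A : Set P), x ^ 4 = 1 → x ∈ A
  small : ∀ B : Subgroup P, B.Normal → IsMulCommutative B → (∀ b ∈ B, b ^ 2 = 1) → Nat.card B ≤ 4

/-- The involutions of `A`, with the identity. -/
def Max4.E (h : Max4 A) : Subgroup P where
  carrier := {a | a ∈ A ∧ a ^ 2 = 1}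
  one_mem' := ⟨A.one_mem, one_pow 2⟩
  mul_mem' := fun {a b} (ha : a ∈ A ∧ a ^ 2 = 1) (hb : b ∈ A ∧ b ^ 2 = 1) =>
    ⟨A.mul_mem ha.1 hb.1, by
      rw [(show Commute a b from h.comm a ha.1 b hb.1).mul_pow, ha.2, hb.2, one_mul]⟩
  inv_mem' := fun {a} (ha : a ∈ A ∧ a ^ 2 = 1) =>
    ⟨A.inv_mem ha.1, by rw [inv_pow, ha.2, inv_one]⟩

variable (h : Max4 A)
include h

namespace Max4

theorem mem_E {a : P} : a ∈ h.E ↔ a ∈ A ∧ a ^ 2 = 1 := Iff.rfl

theorem inv_eq_of_E {a : P} (ha : a ∈ h.E) : a⁻¹ = a :=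
  inv_eq_of_mul_eq_one_left (by rw [← pow_two]; exact ha.2)

theorem sq_mem_E {a : P} (ha : a ∈ A) : a ^ 2 ∈ h.E :=
  ⟨A.pow_mem ha 2, by rw [← pow_mul]; exact h.exp a ha⟩

theorem E_normal : h.E.Normal :=
  ⟨fun n hn g => ⟨h.normal.conj_mem n hn.1 g, by rw [conj_pow, hn.2, mul_one, mul_inv_cancel]⟩⟩

theorem card_E_le : Nat.card h.E ≤ 4 :=
  h.small h.E h.E_normal
    ⟨⟨fun a b => Subtype.ext (h.comm a a.2.1 b b.2.1)⟩⟩ fun _ hb => hb.2

theorem le_cent : A ≤ Subgroup.centralizer (A : Set P) :=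
  fun a ha => Subgroup.mem_centralizer_iff.2 fun b hb => h.comm b hb a ha

theorem cent_comm {c a : P} (hc : c ∈ Subgroup.centralizer (A : Set P)) (ha : a ∈ A) :
    a * c = c * a :=
  Subgroup.mem_centralizer_iff.1 hc a ha

theorem cent_conj {c : P} (hc : c ∈ Subgroup.centralizer (A : Set P)) (g : P) :
    g * c * g⁻¹ ∈ Subgroup.centralizer (A : Set P) := by
  refine Subgroup.mem_centralizer_iff.2 fun a ha => ?_
  have h1 := h.cent_comm hc (h.normal.conj_mem a ha g⁻¹)
  calc a * (g * c * g⁻¹) = g * ((g⁻¹ * a * g⁻¹⁻¹) * c) * g⁻¹ := by group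
    _ = g * (c * (g⁻¹ * a * g⁻¹⁻¹)) * g⁻¹ := by rw [h1]
    _ = g * c * g⁻¹ * a := by group

theorem cent_E {c : P} (hc : c ∈ Subgroup.centralizer (A : Set P)) :
    c ∈ Subgroup.centralizer (h.E : Set P) :=
  Subgroup.mem_centralizer_iff.2 fun a ha => h.cent_comm hc ha.1

theorem mem_E_of_sq {c : P} (hc : c ∈ Subgroup.centralizer (A : Set P)) (h2 : c ^ 2 = 1) :
    c ∈ h.E :=
  ⟨h.mem c hc (by rw [show 4 = 2 * 2 from rfl, pow_mul, h2, one_pow]), h2⟩

theorem fourCentral_le {U : Subgroup P} (hU : U ≤ Subgroup.centralizer (A : Set P)) : FourCentral U :=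
  fun x hx g => Subtype.ext (h.cent_comm (hU g.2) (h.mem x (hU x.2) (congrArg Subtype.val hx)))

theorem card_omega_le [Finite P] {U : Subgroup P} (hU : U ≤ Subgroup.centralizer (A : Set P))
    (hz : FourCentral U) : Nat.card (omegaOne hz) ≤ Nat.card h.E := by
  refine Nat.card_le_card_of_injective
    (fun x => (⟨((x : U) : P), h.mem_E_of_sq (hU (x : U).2) (congrArg Subtype.val x.2)⟩ : h.E))
    fun x y hxy => ?_
  exact Subtype.ext (Subtype.ext (congrArg (fun e : h.E => (e : P)) hxy))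

/-- An element centralizing the involutions moves `A` by involutions. -/
theorem comm_mem_E {x a : P} (hx : x ∈ Subgroup.centralizer (h.E : Set P)) (ha : a ∈ A) :
    a⁻¹ * (x * a * x⁻¹) ∈ h.E := by
  have hb := h.normal.conj_mem a ha x
  refine ⟨A.mul_mem (A.inv_mem ha) hb, ?_⟩
  rw [(show Commute a⁻¹ (x * a * x⁻¹) from h.comm _ (A.inv_mem ha) _ hb).mul_pow, conj_pow, inv_pow,
    ← Subgroup.mem_centralizer_iff.1 hx _ (h.sq_mem_E ha), mul_inv_cancel_right, inv_mul_cancel]

/-- No element outside an abelian centralizer is invariant modulo it, has a square there that is a square,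
and inverts only involutions of `A`. -/
theorem key [Finite P] (hP : IsPGroup 2 P) (hE : Nat.card h.E = 4)
    (hsq : ∀ e ∈ h.E, ∃ a ∈ A, a ^ 2 = e)
    (hC : ∀ c ∈ Subgroup.centralizer (A : Set P), ∀ d ∈ Subgroup.centralizer (A : Set P),
      c * d = d * c)
    {y : P} (hy : y ∈ Subgroup.centralizer (h.E : Set P))
    (hyC : y ∉ Subgroup.centralizer (A : Set P))
    (hg : ∀ g : P, g * y * g⁻¹ * y⁻¹ ∈ Subgroup.centralizer (A : Set P))
    (hA : ∀ d ∈ A, d * (y * d * y⁻¹) = 1 → d ^ 2 = 1)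
    {d0 : P} (hd0 : d0 ∈ Subgroup.centralizer (A : Set P)) (hy2 : y ^ 2 = d0 ^ 2) : False := by
  set C := Subgroup.centralizer (A : Set P) with hCdef
  have hy2C : y ^ 2 ∈ C := hy2 ▸ C.pow_mem hd0 2
  -- conjugation by the square is trivial on the centralizer
  have htwice : ∀ c ∈ C, y * (y * c * y⁻¹) * y⁻¹ = c := fun c hc => by
    rw [show y * (y * c * y⁻¹) * y⁻¹ = y ^ 2 * c * (y ^ 2)⁻¹ by rw [pow_two]; group,
      hC _ hy2C c hc, mul_inv_cancel_right]
  have hδ : ∀ k : ℕ, ∀ c ∈ C, c ^ 2 ^ k = 1 → c⁻¹ * (y * c * y⁻¹) ∈ h.E := by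
    intro k
    induction k with
    | zero =>
      intro c _ hc1
      rw [pow_zero, pow_one] at hc1
      simp [hc1, h.E.one_mem]
    | succ k ih =>
      intro c hc hc1
      have hc' : y * c * y⁻¹ ∈ C := h.cent_conj hc y
      set δ := c⁻¹ * (y * c * y⁻¹) with hδdef
      have hδC : δ ∈ C := C.mul_mem (C.inv_mem hc) hc'
      have h2 : δ ^ 2 = (c ^ 2)⁻¹ * (y * c ^ 2 * y⁻¹) := by
        rw [(show Commute c⁻¹ (y * c * y⁻¹) from hC _ (C.inv_mem hc) _ hc').mul_pow, conj_pow,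
          inv_pow]
      have h4 : (δ ^ 2) ^ 2 = 1 := by
        rw [h2]
        exact (ih (c ^ 2) (C.pow_mem hc 2) (by rw [← pow_mul, ← pow_succ']; exact hc1)).2
      have hδA : δ ∈ A := h.mem δ hδC (by rw [show 4 = 2 * 2 from rfl, pow_mul]; exact h4)
      refine ⟨hδA, hA δ hδA ?_⟩
      have h3 : y * δ * y⁻¹ = (y * c * y⁻¹)⁻¹ * c := by
        calc y * δ * y⁻¹ = (y * c * y⁻¹)⁻¹ * (y * (y * c * y⁻¹) * y⁻¹) := by rw [hδdef]; group
          _ = (y * c * y⁻¹)⁻¹ * c := by rw [htwice c hc]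
      rw [h3, hδdef]
      group
  have hδ' : ∀ c ∈ C, c⁻¹ * (y * c * y⁻¹) ∈ h.E := by
    intro c hc
    obtain ⟨k, hk⟩ := hP c
    exact hδ k c hc hk
  -- the squaring map and the norm of `y`
  letI : CommGroup C := { (inferInstance : Group C) with
    mul_comm := fun a b => Subtype.ext (hC a a.2 b b.2) }
  let ψ : C →* C := MonoidHom.mk' (fun d => d * ⟨y * d * y⁻¹, h.cent_conj d.2 y⟩) fun a b => by
    refine Subtype.ext ?_
    show (a : P) * b * (y * ((a : P) * b) * y⁻¹) = a * (y * a * y⁻¹) * (b * (y * b * y⁻¹))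
    rw [show y * ((a : P) * b) * y⁻¹ = (y * a * y⁻¹) * (y * b * y⁻¹) by group, mul_assoc (a : P),
      ← mul_assoc (b : P), hC _ b.2 _ (h.cent_conj a.2 y)]
    group
  let s : C →* C := powMonoidHom 2
  have hψker : ∀ d ∈ C, d * (y * d * y⁻¹) = 1 → d ∈ h.E := by
    intro d hd h1
    have h2 : d ^ 2 ∈ h.E := by
      have h3 : d ^ 2 * (d⁻¹ * (y * d * y⁻¹)) = 1 := by
        rw [pow_two, mul_assoc, mul_inv_cancel_left]; exact h1
      rw [eq_inv_of_mul_eq_one_left h3]
      exact h.E.inv_mem (hδ' d hd)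
    have hdA : d ∈ A := h.mem d hd (by rw [show 4 = 2 * 2 from rfl, pow_mul]; exact h2.2)
    exact ⟨hdA, hA d hdA h1⟩
  have hkerψ : ψ.ker = h.E.subgroupOf C := by
    ext d
    rw [MonoidHom.mem_ker, Subgroup.mem_subgroupOf]
    refine ⟨fun hd => hψker d d.2 (congrArg Subtype.val hd), fun hd => Subtype.ext ?_⟩
    show (d : P) * (y * d * y⁻¹) = 1
    rw [← Subgroup.mem_centralizer_iff.1 hy _ hd, mul_inv_cancel_right, ← pow_two]
    exact hd.2
  have hkers : s.ker = h.E.subgroupOf C := by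
    ext d
    rw [MonoidHom.mem_ker, Subgroup.mem_subgroupOf]
    refine ⟨fun hd => h.mem_E_of_sq d.2 (congrArg Subtype.val hd), fun hd => Subtype.ext ?_⟩
    show (d : P) ^ 2 = 1
    exact hd.2
  have hle : ψ.range ≤ s.range := by
    rintro z ⟨d, rfl⟩
    obtain ⟨a, ha, ha2⟩ := hsq _ (hδ' d d.2)
    refine ⟨d * ⟨a, h.le_cent ha⟩, Subtype.ext ?_⟩
    show ((d : P) * a) ^ 2 = d * (y * d * y⁻¹)
    rw [(show Commute (d : P) a from (h.cent_comm d.2 ha).symm).mul_pow, ha2, pow_two, mul_assoc,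
      mul_inv_cancel_left]
  have hrange : s.range ≤ ψ.range := by
    refine (Subgroup.eq_of_le_of_card_ge hle ?_).ge
    rw [← Subgroup.index_ker, ← Subgroup.index_ker, hkerψ, hkers]
  obtain ⟨d, hd⟩ := hrange ⟨(⟨d0, hd0⟩⁻¹ : C), rfl⟩
  have hdv : (d : P) * (y * d * y⁻¹) = d0⁻¹ ^ 2 := congrArg Subtype.val hd
  set t := (d : P) * y with ht
  have ht2 : t * t = 1 := by
    rw [ht, show (d : P) * y * (d * y) = d * (y * d * y⁻¹) * y ^ 2 by rw [pow_two]; group, hdv, hy2,
      inv_pow, inv_mul_cancel]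
  have htW : t ∈ Subgroup.centralizer (h.E : Set P) := Subgroup.mul_mem _ (h.cent_E d.2) hy
  have htC : t ∉ C := fun ht' => hyC ((Subgroup.mul_mem_cancel_left C d.2).1 ht')
  have htz : ∀ g : P, g * t * g⁻¹ * t⁻¹ ∈ h.E := by
    intro g
    set z := g * t * g⁻¹ * t⁻¹ with hz
    have hzC : z ∈ C := by
      rw [hz, ht, show g * ((d : P) * y) * g⁻¹ * ((d : P) * y)⁻¹
        = (g * d * g⁻¹) * (g * y * g⁻¹ * y⁻¹) * (d : P)⁻¹ by group]
      exact C.mul_mem (C.mul_mem (h.cent_conj d.2 g) (hg g)) (C.inv_mem d.2)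
    have hconj : t * z * t⁻¹ = y * z * y⁻¹ := by
      rw [ht, show (d : P) * y * z * ((d : P) * y)⁻¹ = d * (y * z * y⁻¹) * (d : P)⁻¹ by group,
        hC _ d.2 _ (h.cent_conj hzC y), mul_inv_cancel_right]
    refine hψker z hzC ?_
    have hzt : (z * t) * (z * t) = 1 := by
      rw [show z * t = g * t * g⁻¹ by rw [hz]; group,
        show g * t * g⁻¹ * (g * t * g⁻¹) = g * (t * t) * g⁻¹ by group, ht2, mul_one, mul_inv_cancel]
    rw [← hconj]
    calc z * (t * z * t⁻¹) = (z * t) * (z * t) * (t * t)⁻¹ := by group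
      _ = 1 := by rw [hzt, ht2]; simp
  have hte : ∀ e ∈ h.E, e * t = t * e := fun e he => Subgroup.mem_centralizer_iff.1 htW e he
  let B : Subgroup P :=
    { carrier := {x | x ∈ h.E ∨ x * t ∈ h.E}
      one_mem' := Or.inl h.E.one_mem
      mul_mem' := by
        rintro a b (ha | ha) (hb | hb)
        · exact Or.inl (h.E.mul_mem ha hb)
        · exact Or.inr (by rw [mul_assoc]; exact h.E.mul_mem ha hb)
        · refine Or.inr ?_
          rw [mul_assoc, hte b hb, ← mul_assoc]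
          exact h.E.mul_mem ha hb
        · refine Or.inl ?_
          have h1 : a * b = (a * t) * (t * (b * t) * t) := by
            calc a * b = a * (t * t) * b * (t * t) := by rw [ht2, mul_one, mul_one]
              _ = (a * t) * (t * (b * t) * t) := by group
          rw [h1, ← hte _ hb, mul_assoc (b * t), ht2, mul_one]
          exact h.E.mul_mem ha hb
      inv_mem' := by
        rintro a (ha | ha)
        · exact Or.inl (h.E.inv_mem ha)
        · refine Or.inr ?_
          have h1 : a⁻¹ * t = t * (a * t)⁻¹ * t := by group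
          rw [h1, ← hte _ (h.E.inv_mem ha), mul_assoc, ht2, mul_one]
          exact h.E.inv_mem ha }
  have hBn : B.Normal := by
    refine ⟨fun a ha g => ?_⟩
    rcases ha with ha | ha
    · exact Or.inl (h.E_normal.conj_mem a ha g)
    · refine Or.inr ?_
      rw [show g * a * g⁻¹ * t = g * (a * t) * g⁻¹ * (g * t⁻¹ * g⁻¹ * t⁻¹⁻¹) by group,
        show t⁻¹ = t from inv_eq_of_mul_eq_one_left ht2, inv_eq_of_mul_eq_one_left ht2]
      exact h.E.mul_mem (h.E_normal.conj_mem _ ha g) (by simpa [inv_eq_of_mul_eq_one_left ht2] using htz g)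
  have hform : ∀ a ∈ B, ∃ e ∈ h.E, a = e ∨ a = e * t := by
    rintro a (ha | ha)
    · exact ⟨a, ha, Or.inl rfl⟩
    · exact ⟨a * t, ha, Or.inr (by rw [mul_assoc, ht2, mul_one])⟩
  have hcE : ∀ e ∈ h.E, ∀ f ∈ h.E, Commute e f := fun e he f hf => h.comm e he.1 f hf.1
  have hBc : IsMulCommutative B := by
    refine ⟨⟨fun a b => Subtype.ext ?_⟩⟩
    show Commute (a : P) b
    obtain ⟨e, he, ha⟩ := hform a a.2
    obtain ⟨f, hf, hb⟩ := hform b b.2
    have cet : Commute e t := hte e he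
    have cft : Commute f t := hte f hf
    rcases ha with ha | ha <;> rcases hb with hb | hb <;> rw [ha, hb]
    · exact hcE e he f hf
    · exact (hcE e he f hf).mul_right cet
    · exact (hcE e he f hf).mul_left cft.symm
    · exact ((hcE e he f hf).mul_right cet).mul_left (cft.symm.mul_right (Commute.refl t))
  have hBe : ∀ b ∈ B, b ^ 2 = 1 := by
    intro b hb
    obtain ⟨e, he, rfl | rfl⟩ := hform b hb
    · exact he.2
    · rw [(show Commute e t from hte e he).mul_pow, he.2, pow_two, ht2, one_mul]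
  have hEB : h.E ≤ B := fun e he => Or.inl he
  have heq := Subgroup.eq_of_le_of_card_ge hEB (hE.symm ▸ h.small B hBn hBc hBe)
  have htB : t ∈ B := Or.inr (by rw [ht2]; exact h.E.one_mem)
  exact htC (h.le_cent (heq ▸ htB : t ∈ h.E).1)

end Max4

end Cfsg.Agent.Char.FourGen
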