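import Mathlib
import Cfsg.Prelude.Def_CaseTheorems
import Cfsg.Agent.Lib.Char.FourGenNormal
import Cfsg.Agent.Lib.Char.FourGenMat

/-!
Sectional rank through Frattini indices; the split of the Frattini index of a subgroup along the
centralizer of `A`; coordinates on the four-group of involutions; the case where `A` has at most one
nontrivial square.
-/

set_option autoImplicit false
set_option linter.style.haveILetI false

namespace Cfsg.Agent.Char.FourGen

open scoped commutatorElement

universe u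

theorem sectional_of_frattini {P : Type u} [Group P] [Finite P]
    (hk : ∀ H : Subgroup P, (frattini H).index ≤ 16) : Cfsg.SectionalPRankLE 2 4 P := by
  intro H N _ A' hA' hA2
  set B := A'.comap (QuotientGroup.mk' N) with hB
  set K := B.map H.subtype with hK
  have hle : K ≤ H := Subgroup.map_subtype_le B
  let π : K →* H ⧸ N := (QuotientGroup.mk' N).comp (Subgroup.inclusion hle)
  have hrange : π.range = A' := by
    ext q
    refine ⟨?_, fun hq => ?_⟩
    · rintro ⟨k, rfl⟩
      obtain ⟨b, hb, hbk⟩ := Subgroup.mem_map.1 k.2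
      have : Subgroup.inclusion hle k = b := Subtype.ext hbk.symm
      show QuotientGroup.mk' N (Subgroup.inclusion hle k) ∈ A'
      rw [this]
      exact hb
    · induction q using QuotientGroup.induction_on with | _ b =>
      exact ⟨⟨b, Subgroup.mem_map.2 ⟨b, hq, rfl⟩⟩, rfl⟩
  haveI := π.normal_ker
  have hker : frattini K ≤ π.ker := by
    refine Agent.Grp.frattini_le_of_elementary Nat.prime_two ?_ fun k => ?_
    · rw [commutator_def, Subgroup.commutator_le]
      intro a _ b _
      rw [MonoidHom.mem_ker, map_commutatorElement, commutatorElement_eq_one_iff_mul_comm]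
      exact congrArg Subtype.val (hA'.1.1 ⟨π a, hrange ▸ ⟨a, rfl⟩⟩ ⟨π b, hrange ▸ ⟨b, rfl⟩⟩)
    · rw [MonoidHom.mem_ker, map_pow]
      exact hA2 _ (hrange ▸ ⟨k, rfl⟩)
  rw [← hrange, ← Subgroup.index_ker, show (2 : ℕ) ^ 4 = 16 by norm_num]
  exact le_trans (Nat.le_of_dvd (Nat.pos_of_ne_zero Subgroup.index_ne_zero_of_finite)
    (Subgroup.index_dvd_of_le hker)) (hk K)

theorem two_pow_of_dvd {G : Type u} [Group G] [Finite G] (hG : IsPGroup 2 G) {n : ℕ}
    (hn : n ∣ Nat.card G) : ∃ j, n = 2 ^ j := by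
  obtain ⟨m, hm⟩ := IsPGroup.iff_card.1 hG
  obtain ⟨j, _, hj⟩ := (Nat.dvd_prime_pow Nat.prime_two).1 (hm ▸ hn)
  exact ⟨j, hj⟩

variable {P : Type u} [Group P] [Finite P] {A : Subgroup P}

/-- The part of `H` centralizing `A`. -/
abbrev cenPart (A H : Subgroup P) : Subgroup H := (Subgroup.centralizer (A : Set P)).subgroupOf H

/-- The part of `H` centralizing the involutions of `A`. -/
abbrev Max4.fixPart (h : Max4 A) (H : Subgroup P) : Subgroup H :=
  (Subgroup.centralizer (h.E : Set P)).subgroupOf H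

namespace Max4

variable (h : Max4 A)
include h

theorem cenPart_normal (H : Subgroup P) : (cenPart A H).Normal :=
  ⟨fun n hn g => Subgroup.mem_subgroupOf.2 (h.cent_conj (Subgroup.mem_subgroupOf.1 hn) g)⟩

theorem index_split (H : Subgroup P) : (frattini H).index =
    (frattini H).relIndex (cenPart A H) * (cenPart A H ⊔ frattini H).index := by
  rw [← Subgroup.relIndex_sup_right (H := cenPart A H) (K := frattini H),
    Subgroup.relIndex_mul_index le_sup_right]

theorem fourCentral_part (H : Subgroup P) : FourCentral (cenPart A H) := fun x hx g =>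
  Subtype.ext (Subtype.ext (h.cent_comm (Subgroup.mem_subgroupOf.1 g.2)
    (h.mem _ (Subgroup.mem_subgroupOf.1 x.2)
      (congrArg (fun z : cenPart A H => ((z : H) : P)) hx))))

theorem frattini_part_le (hP : IsPGroup 2 P) (H : Subgroup P) :
    frattini (cenPart A H) ≤ (frattini H).subgroupOf (cenPart A H) := by
  haveI : Fact (Nat.Prime 2) := ⟨Nat.prime_two⟩
  refine Agent.Grp.frattini_le_of_elementary Nat.prime_two ?_ fun x => ?_
  · rw [commutator_def, Subgroup.commutator_le]
    intro a _ b _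
    show ((⁅a, b⁆ : cenPart A H) : H) ∈ frattini H
    exact Agent.Grp.pGroup_commutator_le_frattini (hP.to_subgroup H)
      (Subgroup.commutator_mem_commutator (Subgroup.mem_top _) (Subgroup.mem_top _))
  · show ((x : H)) ^ 2 ∈ frattini H
    exact Agent.Grp.pGroup_pow_mem_frattini (hP.to_subgroup H) _

theorem frattini_part_index_le (hP : IsPGroup 2 P) (H : Subgroup P) :
    (frattini (cenPart A H)).index ≤ Nat.card h.E := by
  refine (frattini_index_le ((hP.to_subgroup H).to_subgroup _) (h.fourCentral_part H)).trans ?_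
  refine Nat.card_le_card_of_injective (fun x => (⟨((x : cenPart A H) : H),
    h.mem_E_of_sq (Subgroup.mem_subgroupOf.1 (x : cenPart A H).2)
      (congrArg (fun z : cenPart A H => ((z : H) : P)) x.2)⟩ : h.E)) fun x y hxy => ?_
  exact Subtype.ext (Subtype.ext (Subtype.ext (congrArg (fun e : h.E => (e : P)) hxy)))

theorem relIndex_le (hP : IsPGroup 2 P) (H : Subgroup P) :
    (frattini H).relIndex (cenPart A H) ≤ Nat.card h.E :=
  le_trans (Nat.le_of_dvd (Nat.pos_of_ne_zero Subgroup.index_ne_zero_of_finite)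
    (Subgroup.index_dvd_of_le (h.frattini_part_le hP H))) (h.frattini_part_index_le hP H)

/-- If the relative index exceeds two then the Frattini subgroup of the part is the trace of that of `H`. -/
theorem mem_frattini_part (hP : IsPGroup 2 P) (H : Subgroup P)
    (hp : 2 < (frattini H).relIndex (cenPart A H)) {x : cenPart A H}
    (hx : (x : H) ∈ frattini H) : x ∈ frattini (cenPart A H) := by
  have hle := h.frattini_part_le hP H
  have h1 := h.frattini_part_index_le hP H
  have h2 := h.card_E_le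
  have h3 : ((frattini H).subgroupOf (cenPart A H)).index ∣ (frattini (cenPart A H)).index :=
    Subgroup.index_dvd_of_le hle
  have h4 := Subgroup.relIndex_mul_index hle
  have hpos : 0 < (frattini (cenPart A H)).index :=
    Nat.pos_of_ne_zero Subgroup.index_ne_zero_of_finite
  have hp' : 2 < ((frattini H).subgroupOf (cenPart A H)).index := hp
  have h5 : ((frattini (cenPart A H))).relIndex ((frattini H).subgroupOf (cenPart A H)) = 1 := by
    obtain ⟨k, hk⟩ := h3
    have hk1 : k = 1 := by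
      rcases k with _ | _ | k
      · omega
      · rfl
      · nlinarith
    rw [hk, hk1, mul_one] at h4
    exact (Nat.mul_eq_right (by omega)).1 h4
  exact Subgroup.relIndex_eq_one.1 h5 hx

/-- An element of the centralizer with square in `A` commutes with the Frattini subgroup of the part. -/
theorem comm_frattini_part (hP : IsPGroup 2 P) (H : Subgroup P) {c : P}
    (hc : c ∈ Subgroup.centralizer (A : Set P)) (hc2 : c ^ 2 ∈ A) {x : cenPart A H}
    (hx : x ∈ frattini (cenPart A H)) : c * ((x : H) : P) = ((x : H) : P) * c := by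
  set C := Subgroup.centralizer (A : Set P) with hCdef
  have hc8 : (⟨c, hc⟩ : C) ^ 8 = 1 := Subtype.ext (by
    show c ^ 8 = 1
    rw [show 8 = 2 * 4 from rfl, pow_mul]
    exact h.exp _ hc2)
  have hmem : ∀ d ∈ C, c⁻¹ * (d * c * d⁻¹) ∈ h.E := fun d hd =>
    h.mem_E_of_sq (C.mul_mem (C.inv_mem hc) (h.cent_conj hc d))
      (congrArg Subtype.val (comm_sq (hP.to_subgroup C) (h.fourCentral_le le_rfl) hc8 ⟨d, hd⟩))
  let f : cenPart A H →* P :=
    MonoidHom.mk' (fun d => c⁻¹ * (((d : H) : P) * c * ((d : H) : P)⁻¹)) fun a b => by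
      set a' := ((a : H) : P)
      set b' := ((b : H) : P)
      have ha : a' ∈ C := Subgroup.mem_subgroupOf.1 a.2
      have hb : b' ∈ C := Subgroup.mem_subgroupOf.1 b.2
      show c⁻¹ * (a' * b' * c * (a' * b')⁻¹) = c⁻¹ * (a' * c * a'⁻¹) * (c⁻¹ * (b' * c * b'⁻¹))
      have h1 := h.cent_comm (C.inv_mem ha) (hmem b' hb).1
      calc c⁻¹ * (a' * b' * c * (a' * b')⁻¹)
          = c⁻¹ * (a' * c * ((c⁻¹ * (b' * c * b'⁻¹)) * a'⁻¹)) := by group
        _ = c⁻¹ * (a' * c * (a'⁻¹ * (c⁻¹ * (b' * c * b'⁻¹)))) := by rw [h1]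
        _ = _ := by group
  haveI := f.normal_ker
  have hle : frattini (cenPart A H) ≤ f.ker := by
    refine Agent.Grp.frattini_le_of_elementary Nat.prime_two ?_ fun d => ?_
    · rw [commutator_def, Subgroup.commutator_le]
      intro a _ b _
      rw [MonoidHom.mem_ker, map_commutatorElement, commutatorElement_eq_one_iff_mul_comm]
      exact h.comm _ (hmem _ (Subgroup.mem_subgroupOf.1 a.2)).1 _
        (hmem _ (Subgroup.mem_subgroupOf.1 b.2)).1
    · rw [MonoidHom.mem_ker, map_pow]
      exact (hmem _ (Subgroup.mem_subgroupOf.1 d.2)).2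
  have h2 : ((x : H) : P) * c * ((x : H) : P)⁻¹ = c := by
    rw [← inv_mul_eq_one.1 (MonoidHom.mem_ker.1 (hle hx))]
  exact (mul_inv_eq_iff_eq_mul.1 h2).symm

end Max4

/-- Coordinates on the involutions of `A`, with the first basis vector central. -/
structure Coord (h : Max4 A) where
  /-- The map. -/
  em : Vec → P
  em_add : ∀ v w, em (v + w) = em v * em w
  em_mem : ∀ v, em v ∈ h.E
  em_inj : Function.Injective em
  em_surj : ∀ e ∈ h.E, ∃ v, em v = e
  fixed : ∀ g : P, g * em (1, 0) * g⁻¹ = em (1, 0)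

theorem z2_cases : ∀ x : ZMod 2, x = 0 ∨ x = 1 := by decide

theorem z2_flip : ∀ c : ZMod 2, ¬(c + 1 = 0 ↔ c = 0) := by decide

theorem z2_one_add : (1 : ZMod 2) + 1 = 0 := by decide

theorem vec_eq_of_add : ∀ v w : Vec, v + w = 0 → v = w := by decide

theorem vec_cases : ∀ v : Vec, v = 0 ∨ v = (1, 0) ∨ v = (0, 1) ∨ v = (1, 1) := by decide

/-- The map defined by two values. -/
def pr (a b : P) (v : Vec) : P := (if v.1 = 0 then 1 else a) * (if v.2 = 0 then 1 else b)

theorem exists_coord (hP : IsPGroup 2 P) (h : Max4 A) (hE : Nat.card h.E = 4) : Nonempty (Coord h) := by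
  haveI : Fact (Nat.Prime 2) := ⟨Nat.prime_two⟩
  haveI := hP.isNilpotent
  haveI := h.E_normal
  have hne : h.E ≠ ⊥ := fun hb => by rw [hb, Subgroup.card_bot] at hE; omega
  have hint := Agent.Grp.inf_center_ne_bot h.E hne
  obtain ⟨e, ⟨he, hez⟩, he1⟩ : ∃ e, e ∈ h.E ⊓ Subgroup.center P ∧ e ≠ 1 :=
    (Subgroup.ne_bot_iff_exists_ne_one).1 hint |>.elim fun x hx =>
      ⟨x, x.2, fun hh => hx (Subtype.ext hh)⟩
  obtain ⟨f, hf, hf1, hfe⟩ : ∃ f ∈ h.E, f ≠ 1 ∧ f ≠ e := by
    by_contra hcon
    push Not at hcon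
    have hle : Nat.card h.E ≤ Nat.card Bool := by
      classical
      refine Nat.card_le_card_of_injective (fun x : h.E => decide ((x : P) = 1)) fun x y hxy => ?_
      have hxy' : ((x : P) = 1 ↔ (y : P) = 1) := by simpa using hxy
      by_cases hx : (x : P) = 1
      · exact Subtype.ext (hx.trans (hxy'.1 hx).symm)
      · exact Subtype.ext ((hcon x x.2 hx).trans
          (hcon y y.2 fun hy => hx (hxy'.2 hy)).symm)
    rw [show Nat.card Bool = 2 by simp, hE] at hle
    omega
  have hee : e * e = 1 := by rw [← pow_two]; exact he.2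
  have hff : f * f = 1 := by rw [← pow_two]; exact hf.2
  have hfe' : f * e = e * f := h.comm f hf.1 e he.1
  have hmem : ∀ v, pr e f v ∈ h.E := fun v => by
    refine h.E.mul_mem ?_ ?_ <;> split_ifs <;> first | exact h.E.one_mem | assumption
  have hadd : ∀ v w, pr e f (v + w) = pr e f v * pr e f w := by
    rintro ⟨a, b⟩ ⟨c, d⟩
    have hcm : ∀ z, f * (e * z) = e * (f * z) := fun z => by rw [← mul_assoc, hfe', mul_assoc]
    have hfn : ∀ z, f * (f * z) = z := fun z => by rw [← mul_assoc, hff, one_mul]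
    have hen : ∀ z, e * (e * z) = z := fun z => by rw [← mul_assoc, hee, one_mul]
    rcases z2_cases a with rfl | rfl <;> rcases z2_cases b with rfl | rfl <;>
      rcases z2_cases c with rfl | rfl <;> rcases z2_cases d with rfl | rfl <;>
      simp [pr, z2_one_add, mul_assoc, hee, hff, hfe', hcm, hfn, hen]
  have hinj : Function.Injective (pr e f) := by
    intro v w hvw
    have h0 : pr e f (v + w) = 1 := by
      rw [hadd, hvw, ← pow_two]
      exact (hmem w).2
    have hvw0 : v + w = 0 := by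
      rcases vec_cases (v + w) with hh | hh | hh | hh
      · exact hh
      all_goals rw [hh] at h0; simp [pr] at h0
      · exact absurd h0 he1
      · exact absurd h0 hf1
      · exact absurd (eq_inv_of_mul_eq_one_left h0) (by rw [h.inv_eq_of_E hf]; exact Ne.symm hfe)
    exact vec_eq_of_add v w hvw0
  refine ⟨⟨pr e f, hadd, hmem, hinj, fun z hzE => ?_, fun g => ?_⟩⟩
  · have hbij : Function.Bijective (fun v => (⟨pr e f v, hmem v⟩ : h.E)) := by
      refine (Nat.bijective_iff_injective_and_card _).2 ⟨fun v w hvw => hinj (congrArg Subtype.val hvw), ?_⟩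
      rw [hE]
      simp
    obtain ⟨v, hv⟩ := hbij.2 ⟨z, hzE⟩
    exact ⟨v, congrArg Subtype.val hv⟩
  · rw [show pr e f (1, 0) = e by simp [pr], (Subgroup.mem_center_iff.1 hez g), mul_inv_cancel_right]

namespace Coord

variable {h : Max4 A} (K : Coord h)
include K

theorem em_zero : K.em 0 = 1 := by
  have h1 := K.em_add 0 0
  rw [add_zero] at h1
  exact left_eq_mul.1 h1

theorem em_eq_one {v : Vec} : K.em v = 1 ↔ v = 0 :=
  ⟨fun hv => K.em_inj (hv.trans K.em_zero.symm), fun hv => by rw [hv, K.em_zero]⟩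

theorem exists_sigma (g : P) : ∃ c : ZMod 2, ∀ v, g * K.em v * g⁻¹ = K.em (sg c v) := by
  obtain ⟨w, hw⟩ := K.em_surj _ (h.E_normal.conj_mem _ (K.em_mem (0, 1)) g)
  have hw2 : w.2 = 1 := by
    have hcl : ∀ w : Vec, w.2 = 1 ∨ w = 0 ∨ w = (1, 0) := by decide
    rcases hcl w with hh | rfl | rfl
    · exact hh
    · rw [K.em_zero, eq_comm, mul_inv_eq_one, mul_eq_left] at hw
      exact absurd (K.em_eq_one.1 hw) (by decide)
    · rw [← K.fixed g] at hw
      exact absurd (K.em_inj (mul_left_cancel (mul_right_cancel hw))) (by decide)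
  refine ⟨w.1, fun v => ?_⟩
  have hwf : w = (w.1, 1) := Prod.ext rfl hw2
  rcases vec_cases v with rfl | rfl | rfl | rfl
  · rw [K.em_zero]; simp [sg, K.em_zero, show ((0 : ZMod 2), (0 : ZMod 2)) = 0 from rfl]
  · rw [K.fixed]; simp [sg]
  · rw [← hw]; simp [sg, ← hwf]
  · have h11 : ((1 : ZMod 2), (1 : ZMod 2)) = (1, 0) + (0, 1) := by simp
    rw [h11, K.em_add, show g * (K.em (1, 0) * K.em (0, 1)) * g⁻¹ =
      (g * K.em (1, 0) * g⁻¹) * (g * K.em (0, 1) * g⁻¹) by group, K.fixed, ← hw, ← K.em_add]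
    congr 1
    rw [hwf]
    simp [sg]

theorem mem_fix_iff {g : P} {c : ZMod 2} (hc : ∀ v, g * K.em v * g⁻¹ = K.em (sg c v)) :
    g ∈ Subgroup.centralizer (h.E : Set P) ↔ c = 0 := by
  refine ⟨fun hg => ?_, fun hc0 => Subgroup.mem_centralizer_iff.2 fun e he => ?_⟩
  · have h1 := hc (0, 1)
    rw [← Subgroup.mem_centralizer_iff.1 hg _ (K.em_mem _), mul_inv_cancel_right] at h1
    have : ∀ c : ZMod 2, sg c (0, 1) = (0, 1) → c = 0 := by decide
    exact this c (K.em_inj h1.symm)
  · obtain ⟨v, rfl⟩ := K.em_surj e he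
    have h1 := hc v
    rw [hc0, show sg 0 v = v by simp [sg], mul_inv_eq_iff_eq_mul] at h1
    exact h1.symm

theorem fixPart_index_le (H : Subgroup P) : (h.fixPart H).index ≤ 2 := by
  by_cases hall : h.fixPart H = ⊤
  · rw [hall, Subgroup.index_top]; omega
  obtain ⟨g0, hg0⟩ : ∃ g0, g0 ∉ h.fixPart H := by
    by_contra hcon
    push Not at hcon
    exact hall (eq_top_iff.2 fun x _ => hcon x)
  refine le_of_eq (Subgroup.index_eq_two_iff.2 ⟨g0, fun b => ?_⟩)
  obtain ⟨c, hc⟩ := K.exists_sigma (b : P)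
  obtain ⟨c0, hc0⟩ := K.exists_sigma (g0 : P)
  have hmul : ∀ v, ((b * g0 : H) : P) * K.em v * ((b * g0 : H) : P)⁻¹ = K.em (sg (c + c0) v) := by
    intro v
    rw [Subgroup.coe_mul, show (b : P) * g0 * K.em v * ((b : P) * g0)⁻¹ =
      (b : P) * ((g0 : P) * K.em v * (g0 : P)⁻¹) * (b : P)⁻¹ by group, hc0, hc]
    simp [sg]; ring_nf
  have hc1 : c0 = 1 := by
    have : c0 ≠ 0 := fun h0 => hg0 (Subgroup.mem_subgroupOf.2 ((K.mem_fix_iff hc0).2 h0))
    have h2 : ∀ x : ZMod 2, x ≠ 0 → x = 1 := by decide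
    exact h2 c0 this
  have e1 : b ∈ h.fixPart H ↔ c = 0 := Subgroup.mem_subgroupOf.trans (K.mem_fix_iff hc)
  have e2 : b * g0 ∈ h.fixPart H ↔ c + 1 = 0 := by
    rw [← hc1]; exact Subgroup.mem_subgroupOf.trans (K.mem_fix_iff hmul)
  rw [xor_iff_not_iff, e1, e2]
  exact z2_flip c

end Coord

namespace Max4

variable (h : Max4 A)
include h

/-- The case of at most one nontrivial square in `A`. -/
theorem frattini_index_le_of_one_square (hP : IsPGroup 2 P)
    (hone : ∀ a ∈ A, ∀ b ∈ A, a ^ 2 ≠ 1 → b ^ 2 ≠ 1 → a ^ 2 = b ^ 2) (H : Subgroup P) :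
    (frattini H).index ≤ 16 := by
  classical
  rw [h.index_split H]
  have hp1 := h.relIndex_le hP H
  have hE4 := h.card_E_le
  set D := cenPart A H with hD
  set WH := h.fixPart H with hWH
  have hDW : D ≤ WH := fun x hx => Subgroup.mem_subgroupOf.2 (h.cent_E (Subgroup.mem_subgroupOf.1 hx))
  have hrD : (D ⊔ frattini H).index ∣ D.index := Subgroup.index_dvd_of_le le_sup_left
  have hDpos : 0 < D.index := Nat.pos_of_ne_zero Subgroup.index_ne_zero_of_finite
  have hDsplit : D.relIndex WH * WH.index = D.index := Subgroup.relIndex_mul_index hDW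
  have hWHtop : Nat.card h.E ≤ 2 → WH.index = 1 := by
    intro hE2
    rw [Subgroup.index_eq_one, eq_top_iff]
    intro g _
    refine Subgroup.mem_subgroupOf.2 (Subgroup.mem_centralizer_iff.2 fun e he => ?_)
    by_contra hne
    have hg : (g : P) * e * (g : P)⁻¹ ∈ h.E := h.E_normal.conj_mem e he g
    let T : Fin 3 → h.E := ![1, ⟨e, he⟩, ⟨_, hg⟩]
    have h1 : e ≠ 1 := fun h1 => hne (by rw [h1, one_mul, mul_one])
    have h2 : (g : P) * e * (g : P)⁻¹ ≠ 1 := fun h2 => h1 (conj_eq_one_iff.1 h2)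
    have h3 : (g : P) * e * (g : P)⁻¹ ≠ e := fun h3 => hne (mul_inv_eq_iff_eq_mul.1 h3).symm
    have hTi : Function.Injective T := by
      intro i j hij
      have := congrArg (fun z : h.E => (z : P)) hij
      fin_cases i <;> fin_cases j <;> simp [T] at this ⊢ <;>
        first | exact absurd this h1 | exact absurd this.symm h1 | exact absurd this h2 |
          exact absurd this.symm h2 | exact absurd this h3 | exact absurd this.symm h3
    have h3' := Nat.card_le_card_of_injective T hTi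
    simp at h3'
    omega
  have hWH2 : WH.index ≤ 2 := by
    rcases le_or_gt (Nat.card h.E) 2 with hE2 | hE2
    · rw [hWHtop hE2]; omega
    · have hdvd : Nat.card h.E ∣ Nat.card P := Subgroup.card_subgroup_dvd_card _
      obtain ⟨j, hj⟩ := two_pow_of_dvd hP hdvd
      have hj2 : j = 2 := by
        rcases j with _ | _ | _ | j
        · omega
        · omega
        · rfl
        · rw [pow_succ, pow_succ, pow_succ] at hj
          nlinarith [Nat.one_le_two_pow (n := j)]
      exact (exists_coord hP h (by rw [hj, hj2]; norm_num)).some.fixPart_index_le H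
  by_cases hA2 : ∀ a ∈ A, a ^ 2 = 1
  · have hWD : WH ≤ D := fun x hx => Subgroup.mem_subgroupOf.2 (Subgroup.mem_centralizer_iff.2
      fun a ha => Subgroup.mem_centralizer_iff.1 (Subgroup.mem_subgroupOf.1 hx) a ⟨ha, hA2 a ha⟩)
    have h1 : D.index ≤ 2 := by rwa [le_antisymm hDW hWD]
    have h2 := Nat.le_of_dvd hDpos hrD
    nlinarith
  push Not at hA2
  obtain ⟨a, ha, ha2⟩ := hA2
  have hgen : ∀ b ∈ A, b ^ 2 ≠ 1 → a⁻¹ * b ∈ h.E := fun b hb hb2 =>
    ⟨A.mul_mem (A.inv_mem ha) hb, by
      rw [(show Commute a⁻¹ b from h.comm _ (A.inv_mem ha) _ hb).mul_pow, inv_pow, hone a ha b hb ha2 hb2,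
        inv_mul_cancel]⟩
  have hWfix : ∀ x : WH, ((x : H) : P) ∈ Subgroup.centralizer (h.E : Set P) := fun x =>
    Subgroup.mem_subgroupOf.1 x.2
  let μ : WH →* h.E :=
    MonoidHom.mk' (fun x => ⟨a⁻¹ * (((x : H) : P) * a * ((x : H) : P)⁻¹), h.comm_mem_E (hWfix x) ha⟩)
      fun x y => Subtype.ext (by
        set x' := ((x : H) : P)
        set y' := ((y : H) : P)
        show a⁻¹ * (x' * y' * a * (x' * y')⁻¹) =
          a⁻¹ * (x' * a * x'⁻¹) * (a⁻¹ * (y' * a * y'⁻¹))
        have h1 : (a⁻¹ * (y' * a * y'⁻¹)) * x'⁻¹ = x'⁻¹ * (a⁻¹ * (y' * a * y'⁻¹)) :=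
          Subgroup.mem_centralizer_iff.1 (Subgroup.inv_mem _ (hWfix x)) _ (h.comm_mem_E (hWfix y) ha)
        calc a⁻¹ * (x' * y' * a * (x' * y')⁻¹)
            = a⁻¹ * (x' * a * ((a⁻¹ * (y' * a * y'⁻¹)) * x'⁻¹)) := by group
          _ = a⁻¹ * (x' * a * (x'⁻¹ * (a⁻¹ * (y' * a * y'⁻¹)))) := by rw [h1]
          _ = _ := by group)
  have hμker : μ.ker = D.subgroupOf WH := by
    ext x
    rw [MonoidHom.mem_ker, Subgroup.mem_subgroupOf]
    refine ⟨fun hx => Subgroup.mem_subgroupOf.2 (Subgroup.mem_centralizer_iff.2 fun b hb => ?_),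
      fun hx => Subtype.ext ?_⟩
    · have hxa : ((x : H) : P) * a * ((x : H) : P)⁻¹ = a :=
        (inv_mul_eq_one.1 (congrArg Subtype.val hx : a⁻¹ * (((x : H) : P) * a * ((x : H) : P)⁻¹) = 1)).symm
      have hfe : ∀ e ∈ h.E, ((x : H) : P) * e * ((x : H) : P)⁻¹ = e := fun e he => by
        rw [← Subgroup.mem_centralizer_iff.1 (hWfix x) e he, mul_inv_cancel_right]
      have hxb : ((x : H) : P) * b * ((x : H) : P)⁻¹ = b := by
        by_cases hb2 : b ^ 2 = 1
        · exact hfe b ⟨hb, hb2⟩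
        · calc ((x : H) : P) * b * ((x : H) : P)⁻¹
              = (((x : H) : P) * a * ((x : H) : P)⁻¹) *
                (((x : H) : P) * (a⁻¹ * b) * ((x : H) : P)⁻¹) := by group
            _ = b := by rw [hxa, hfe _ (hgen b hb hb2), mul_inv_cancel_left]
      exact (mul_inv_eq_iff_eq_mul.1 hxb).symm
    · show a⁻¹ * (((x : H) : P) * a * ((x : H) : P)⁻¹) = 1
      rw [← h.cent_comm (Subgroup.mem_subgroupOf.1 hx) ha, mul_inv_cancel_right, inv_mul_cancel]
  have hrel : D.relIndex WH = Nat.card μ.range := by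
    rw [Subgroup.relIndex, ← hμker, Subgroup.index_ker]
  have hrange : Nat.card μ.range ≤ Nat.card h.E := Subgroup.card_le_card_group _
  have hr1 : (D ⊔ frattini H).index ≤ D.index := Nat.le_of_dvd hDpos hrD
  rcases le_or_gt (Nat.card h.E) 2 with hE2 | hE2
  · rw [hWHtop hE2, mul_one] at hDsplit
    nlinarith
  rcases le_or_gt D.index 4 with hD4 | hD4
  · nlinarith
  have hμrange : μ.range = ⊤ := by
    obtain ⟨j, hj⟩ := two_pow_of_dvd hP (Subgroup.card_subgroup_dvd_card h.E)
    have hdiv : Nat.card μ.range ∣ Nat.card h.E := Subgroup.card_subgroup_dvd_card _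
    refine Subgroup.eq_top_of_card_eq _ ?_
    obtain ⟨k, hk⟩ := hdiv
    rcases k with _ | _ | k
    · omega
    · omega
    · exfalso; nlinarith
  obtain ⟨g0, hg0⟩ : ∃ g0, g0 ∉ WH := by
    by_contra hcon
    push Not at hcon
    have h1 : WH.index = 1 := Subgroup.index_eq_one.2 (eq_top_iff.2 fun x _ => hcon x)
    rw [h1, mul_one, hrel] at hDsplit
    omega
  obtain ⟨f, hf, hfne⟩ : ∃ f ∈ h.E, (g0 : P) * f * (g0 : P)⁻¹ ≠ f := by
    by_contra hcon
    push Not at hcon
    exact hg0 (Subgroup.mem_subgroupOf.2 (Subgroup.mem_centralizer_iff.2 fun e he =>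
      (mul_inv_eq_iff_eq_mul.1 (hcon e he)).symm))
  obtain ⟨x, hx⟩ : (⟨f, hf⟩ : h.E) ∈ μ.range := hμrange ▸ Subgroup.mem_top _
  have hxf : a⁻¹ * (((x : H) : P) * a * ((x : H) : P)⁻¹) = f := congrArg Subtype.val hx
  haveI := h.cenPart_normal H
  have hne : D ⊔ frattini H ≠ D := by
    intro heq
    have hk : g0 * (x : H) * g0⁻¹ * (x : H)⁻¹ ∈ D := by
      rw [← heq, ← commutatorElement_def]
      exact Subgroup.mem_sup_right (Agent.Grp.pGroup_commutator_le_frattini (hP.to_subgroup H)
        (Subgroup.commutator_mem_commutator (Subgroup.mem_top _) (Subgroup.mem_top _)))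
    have hkC : (g0 : P) * ((x : H) : P) * (g0 : P)⁻¹ * ((x : H) : P)⁻¹ ∈
        Subgroup.centralizer (A : Set P) := Subgroup.mem_subgroupOf.1 hk
    set g := (g0 : P)
    set y := ((x : H) : P)
    set b := g * a * g⁻¹ with hb
    have hbA : b ∈ A := h.normal.conj_mem a ha g
    have hb2 : b ^ 2 ≠ 1 := by
      rw [hb, conj_pow]
      exact fun hh => ha2 (conj_eq_one_iff.1 hh)
    have hε := hgen b hbA hb2
    have h1 : y * b * y⁻¹ = b * f := by
      calc y * b * y⁻¹ = (y * a * y⁻¹) * (y * (a⁻¹ * b) * y⁻¹) := by group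
        _ = (a * f) * (a⁻¹ * b) := by
          rw [← Subgroup.mem_centralizer_iff.1 (hWfix x) _ hε, mul_inv_cancel_right, ← hxf]
          group
        _ = b * f := by
          rw [mul_assoc, h.comm f hf.1 _ hε.1, ← mul_assoc, mul_inv_cancel_left]
    have h2 : g * y * g⁻¹ * b * (g * y * g⁻¹)⁻¹ = b * (g * f * g⁻¹) := by
      rw [hb, ← hxf]; group
    have h3 : g * y * g⁻¹ * b * (g * y * g⁻¹)⁻¹ = y * b * y⁻¹ := by
      have h4 := h.cent_comm hkC (h.normal.conj_mem b hbA y)
      calc g * y * g⁻¹ * b * (g * y * g⁻¹)⁻¹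
          = (g * y * g⁻¹ * y⁻¹) * (y * b * y⁻¹) * (g * y * g⁻¹ * y⁻¹)⁻¹ := by group
        _ = y * b * y⁻¹ := by rw [← h4, mul_inv_cancel_right]
    rw [h2, h1] at h3
    exact hfne (mul_left_cancel h3)
  have hlt : (D ⊔ frattini H).index * 2 ≤ D.index := by
    obtain ⟨k, hk⟩ := hrD
    rcases k with _ | _ | k
    · omega
    · exfalso
      rw [zero_add, mul_one] at hk
      have hm := Subgroup.relIndex_mul_index (le_sup_left : D ≤ D ⊔ frattini H)
      rw [← hk] at hm
      exact hne (le_antisymm (Subgroup.relIndex_eq_one.1 ((Nat.mul_eq_right (by omega)).1 hm)) le_sup_left)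
    · nlinarith
  nlinarith

end Max4

end Cfsg.Agent.Char.FourGen
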