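import Mathlib
import Cfsg.Agent.Lib.Char.FourGenCount

/-!
The case where every involution of `A` is a square: the action of the stabilizer of the involutions as
endomorphisms of the four-group, squares of the centralizer, and the invariants of squares of elements.
-/

set_option autoImplicit false
set_option linter.style.haveILetI false
set_option linter.unusedSectionVars false

namespace Cfsg.Agent.Char.FourGen

open scoped commutatorElement

universe u

theorem ap_zero : ∀ v : Vec, ap 0 v = 0 := by decide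

theorem ap_add_left (m n : Mat2) (v : Vec) : ap (m + n) v = ap m v + ap n v := by
  simp only [ap, Prod.fst_add, Prod.snd_add, smul_add]
  abel

theorem ap_add_right (m : Mat2) (v w : Vec) : ap m (v + w) = ap m v + ap m w := by
  simp only [ap, Prod.fst_add, Prod.snd_add, add_smul]
  abel

theorem ap_basis : ∀ m : Mat2, ap m (1, 0) = m.1 ∧ ap m (0, 1) = m.2 := by decide

theorem mat_add_self : ∀ m : Mat2, m + m = 0 := by decide

theorem ap_one2 : ∀ v : Vec, ap one2 v = v := by decide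

theorem mat_eq_of_add : ∀ m n : Mat2, m + n = 0 → n = m := by decide

theorem sg_sg : ∀ (c : ZMod 2) (v : Vec), sg c (sg c v) = v := by decide

theorem ap_cj_zero : ∀ (c : ZMod 2) (v : Vec), sg c v = sg c 0 → v = 0 := by decide

theorem sg_add (c : ZMod 2) (v w : Vec) : sg c (v + w) = sg c v + sg c w := by
  simp only [sg, Prod.fst_add, Prod.snd_add, Prod.mk_add_mk]
  refine Prod.ext ?_ rfl
  simp only
  ring

theorem cj_eq (c : ZMod 2) (m : Mat2) (v : Vec) : ap (cj c m) v = sg c (ap m (sg c v)) := by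
  have h0 : ∀ c : ZMod 2, sg c 0 = 0 := by decide
  rcases vec_cases v with rfl | rfl | rfl | rfl
  · rw [h0, show ap m 0 = 0 by simp [ap], h0]; simp [ap]
  · exact (ap_basis _).1
  · exact (ap_basis _).2
  · rw [show ((1 : ZMod 2), (1 : ZMod 2)) = ((1, 0) : Vec) + (0, 1) by simp, ap_add_right, sg_add,
      ap_add_right, sg_add, (ap_basis _).1, (ap_basis _).2]
    rfl

variable {P : Type u} [Group P] [Finite P] {A : Subgroup P} {h : Max4 A} (K : Coord h)

/-- `x` fixes the involutions and moves `a` by the image of its square under `m`. -/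
def Rel (x : P) (m : Mat2) : Prop :=
  x ∈ Subgroup.centralizer (h.E : Set P) ∧
    ∀ a ∈ A, ∀ v, a ^ 2 = K.em v → x * a * x⁻¹ = a * K.em (ap m v)

/-- The involutions are all squares in `A`. -/
def Sq : Prop := ∀ v, ∃ a ∈ A, a ^ 2 = K.em v

variable {K}

theorem Sq.hsq (hS : Sq K) : ∀ e ∈ h.E, ∃ a ∈ A, a ^ 2 = e := fun e he => by
  obtain ⟨v, rfl⟩ := K.em_surj e he
  exact hS v

theorem Rel.unique (hS : Sq K) {x : P} {m n : Mat2} (hm : Rel K x m) (hn : Rel K x n) : m = n := by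
  have key : ∀ v, ap m v = ap n v := fun v => by
    obtain ⟨a, ha, ha2⟩ := hS v
    exact K.em_inj (mul_left_cancel ((hm.2 a ha v ha2).symm.trans (hn.2 a ha v ha2)))
  have h1 := key (1, 0)
  have h2 := key (0, 1)
  rw [(ap_basis m).1, (ap_basis n).1] at h1
  rw [(ap_basis m).2, (ap_basis n).2] at h2
  exact Prod.ext h1 h2

theorem exists_rel (hS : Sq K) {x : P} (hx : x ∈ Subgroup.centralizer (h.E : Set P)) :
    ∃ m, Rel K x m := by
  choose am ham ham2 using hS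
  have hμ' : ∀ v, ∃ w, K.em w = (am v)⁻¹ * (x * am v * x⁻¹) :=
    fun v => K.em_surj _ (h.comm_mem_E hx (ham v))
  choose μ hμ using hμ'
  have hfe : ∀ e ∈ h.E, x * e * x⁻¹ = e := fun e he => by
    rw [← Subgroup.mem_centralizer_iff.1 hx e he, mul_inv_cancel_right]
  have hgen : ∀ a ∈ A, ∀ v, a ^ 2 = K.em v → x * a * x⁻¹ = a * K.em (μ v) := by
    intro a ha v ha2
    have hε : (am v)⁻¹ * a ∈ h.E := ⟨A.mul_mem (A.inv_mem (ham v)) ha, by
      rw [(show Commute (am v)⁻¹ a from h.comm _ (A.inv_mem (ham v)) _ ha).mul_pow, inv_pow, ham2, ha2,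
        inv_mul_cancel]⟩
    calc x * a * x⁻¹ = (x * am v * x⁻¹) * (x * ((am v)⁻¹ * a) * x⁻¹) := by group
      _ = am v * (K.em (μ v) * ((am v)⁻¹ * a)) := by rw [hfe _ hε, hμ]; group
      _ = a * K.em (μ v) := by rw [h.comm _ (K.em_mem _).1 _ hε.1, ← mul_assoc, mul_inv_cancel_left]
  have hadd : ∀ v w, μ (v + w) = μ v + μ w := by
    intro v w
    have h2 : (am v * am w) ^ 2 = K.em (v + w) := by
      rw [(show Commute (am v) (am w) from h.comm _ (ham v) _ (ham w)).mul_pow, ham2, ham2, K.em_add]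
    have h3 := hgen _ (A.mul_mem (ham v) (ham w)) _ h2
    refine K.em_inj (mul_left_cancel (a := am v * am w) (h3.symm.trans ?_))
    calc x * (am v * am w) * x⁻¹ = (x * am v * x⁻¹) * (x * am w * x⁻¹) := by group
      _ = am v * (K.em (μ v) * am w) * K.em (μ w) := by
        rw [hgen _ (ham v) _ (ham2 v), hgen _ (ham w) _ (ham2 w)]; group
      _ = am v * am w * K.em (μ v + μ w) := by
        rw [h.comm _ (K.em_mem _).1 _ (ham w), K.em_add]; group
  refine ⟨(μ (1, 0), μ (0, 1)), hx, fun a ha v hv => ?_⟩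
  rw [hgen a ha v hv]
  congr 2
  have h0 : μ 0 = 0 := by
    have := hadd 0 0
    rw [add_zero] at this
    exact left_eq_add.1 this
  rcases vec_cases v with rfl | rfl | rfl | rfl
  · rw [h0]; simp [ap]
  · exact ((ap_basis (μ (1, 0), μ (0, 1))).1).symm
  · exact ((ap_basis (μ (1, 0), μ (0, 1))).2).symm
  · rw [show ((1 : ZMod 2), (1 : ZMod 2)) = ((1, 0) : Vec) + (0, 1) by simp, hadd, ap_add_right,
      (ap_basis _).1, (ap_basis _).2]

theorem rel_of_cent {x : P} (hx : x ∈ Subgroup.centralizer (A : Set P)) : Rel K x 0 :=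
  ⟨h.cent_E hx, fun a ha v _ => by
    rw [← h.cent_comm hx ha, mul_inv_cancel_right, ap_zero, K.em_zero, mul_one]⟩

theorem Rel.mem_cent {x : P} (hx : Rel K x 0) : x ∈ Subgroup.centralizer (A : Set P) := by
  refine Subgroup.mem_centralizer_iff.2 fun a ha => ?_
  obtain ⟨v, hv⟩ := K.em_surj _ (h.sq_mem_E ha)
  have h1 := hx.2 a ha v hv.symm
  rw [ap_zero, K.em_zero, mul_one, mul_inv_eq_iff_eq_mul] at h1
  exact h1.symm

theorem Rel.mul {x y : P} {m n : Mat2} (hx : Rel K x m) (hy : Rel K y n) : Rel K (x * y) (m + n) := by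
  refine ⟨Subgroup.mul_mem _ hx.1 hy.1, fun a ha v hv => ?_⟩
  have hfe : x * K.em (ap n v) * x⁻¹ = K.em (ap n v) := by
    rw [← Subgroup.mem_centralizer_iff.1 hx.1 _ (K.em_mem _), mul_inv_cancel_right]
  calc x * y * a * (x * y)⁻¹ = x * (y * a * y⁻¹) * x⁻¹ := by group
    _ = (x * a * x⁻¹) * (x * K.em (ap n v) * x⁻¹) := by rw [hy.2 a ha v hv]; group
    _ = a * K.em (ap (m + n) v) := by rw [hfe, hx.2 a ha v hv, mul_assoc, ← K.em_add, ap_add_left]

theorem Rel.inv (hS : Sq K) {x : P} {m : Mat2} (hx : Rel K x m) : Rel K x⁻¹ m := by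
  obtain ⟨n, hn⟩ := exists_rel hS (Subgroup.inv_mem _ hx.1)
  have h1 := hn.mul hx
  rw [inv_mul_cancel] at h1
  rwa [mat_eq_of_add n m (h1.unique hS (rel_of_cent (Subgroup.one_mem _)))]

theorem Rel.sq_mem_cent {x : P} {m : Mat2} (hx : Rel K x m) :
    x ^ 2 ∈ Subgroup.centralizer (A : Set P) := by
  have h1 := hx.mul hx
  rw [mat_add_self, ← pow_two] at h1
  exact h1.mem_cent

theorem Rel.conj {x : P} {m : Mat2} (hx : Rel K x m) {g : P} {c : ZMod 2}
    (hc : ∀ v, g * K.em v * g⁻¹ = K.em (sg c v)) : Rel K (g * x * g⁻¹) (cj c m) := by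
  haveI := h.E_normal
  refine ⟨Subgroup.mem_centralizer_iff.2 fun e he => ?_, fun a ha v hv => ?_⟩
  · have h1 := Subgroup.mem_centralizer_iff.1 hx.1 _ (h.E_normal.conj_mem e he g⁻¹)
    calc e * (g * x * g⁻¹) = g * ((g⁻¹ * e * g⁻¹⁻¹) * x) * g⁻¹ := by group
      _ = g * (x * (g⁻¹ * e * g⁻¹⁻¹)) * g⁻¹ := by rw [h1]
      _ = g * x * g⁻¹ * e := by group
  · have hb2 : (g⁻¹ * a * g⁻¹⁻¹) ^ 2 = K.em (sg c v) := by
      rw [conj_pow, hv, show g⁻¹ * K.em v * g⁻¹⁻¹ = g⁻¹ * K.em (sg c (sg c v)) * g by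
        rw [sg_sg, inv_inv], ← hc]
      group
    have h1 := hx.2 _ (h.normal.conj_mem a ha g⁻¹) _ hb2
    calc g * x * g⁻¹ * a * (g * x * g⁻¹)⁻¹ = g * (x * (g⁻¹ * a * g⁻¹⁻¹) * x⁻¹) * g⁻¹ := by group
      _ = g * ((g⁻¹ * a * g⁻¹⁻¹) * K.em (ap m (sg c v))) * g⁻¹ := by rw [h1]
      _ = a * (g * K.em (ap m (sg c v)) * g⁻¹) := by group
      _ = a * K.em (ap (cj c m) v) := by rw [hc, cj_eq]

/-- The image in the endomorphisms of the part of `H` fixing the involutions. -/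
def img (hS : Sq K) (H : Subgroup P) : AddSubgroup Mat2 where
  carrier := {m | ∃ x ∈ H, Rel K x m}
  zero_mem' := ⟨1, H.one_mem, rel_of_cent (Subgroup.one_mem _)⟩
  add_mem' := fun ⟨x, hx, hm⟩ ⟨y, hy, hn⟩ => ⟨x * y, H.mul_mem hx hy, hm.mul hn⟩
  neg_mem' := fun {m} ⟨x, hx, hm⟩ => ⟨x⁻¹, H.inv_mem hx, by
    rw [neg_eq_of_add_eq_zero_right (mat_add_self m)]
    exact hm.inv hS⟩

theorem Rel.square_action {x c : P} {m : Mat2} (hP : IsPGroup 2 P) (hx : Rel K x m)
    (hc : c ∈ Subgroup.centralizer (A : Set P)) (hc2 : c ^ 2 ∈ A) {l : Vec} (hl : c ^ 4 = K.em l) :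
    x ^ 2 * c * (x ^ 2)⁻¹ = c * K.em (ap m l + ap m (ap m l)) := by
  set C := Subgroup.centralizer (A : Set P)
  set c' := x * c * x⁻¹ with hc'
  have hc'C : c' ∈ C := h.cent_conj hc x
  have hsq : c' ^ 2 = c ^ 2 * K.em (ap m l) := by
    rw [hc', conj_pow]
    exact hx.2 _ hc2 _ (by rw [← pow_mul]; exact hl)
  have hc8 : (⟨c, hc⟩ : C) ^ 8 = 1 := Subtype.ext (by
    show c ^ 8 = 1
    rw [show 8 = 2 * 4 from rfl, pow_mul]
    exact h.exp _ hc2)
  have hε : c⁻¹ * (c' * c * c'⁻¹) ∈ h.E :=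
    h.mem_E_of_sq (C.mul_mem (C.inv_mem hc) (h.cent_conj hc c'))
      (congrArg Subtype.val (comm_sq (hP.to_subgroup C) (h.fourCentral_le le_rfl) hc8 ⟨c', hc'C⟩))
  set ε := c⁻¹ * (c' * c * c'⁻¹) with hεdef
  have hεc := h.cent_comm hc'C hε.1
  have hswap : c' * c = c * c' * ε := by
    rw [mul_assoc c, ← hεc, hεdef]; group
  set δ := c⁻¹ * c' with hδ
  have hδC : δ ∈ C := C.mul_mem (C.inv_mem hc) hc'C
  have hδ2 : δ ^ 2 = K.em (ap m l) * ε⁻¹ := by
    have h2 : c' * c⁻¹ = c⁻¹ * c' * ε⁻¹ := by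
      have h3 : c' * c * ε⁻¹ = c * c' := by rw [hswap, mul_inv_cancel_right]
      calc c' * c⁻¹ = c⁻¹ * (c * c') * c⁻¹ := by group
        _ = c⁻¹ * (c' * c * ε⁻¹) * c⁻¹ := by rw [h3]
        _ = c⁻¹ * c' * (c * ε⁻¹ * c⁻¹) := by group
        _ = c⁻¹ * c' * ε⁻¹ := by rw [← h.cent_comm hc (A.inv_mem hε.1), mul_inv_cancel_right]
    calc δ ^ 2 = c⁻¹ * (c' * c⁻¹) * c' := by rw [hδ, pow_two]; group
      _ = (c⁻¹ * c⁻¹) * c' * (ε⁻¹ * c') := by rw [h2]; group
      _ = (c ^ 2)⁻¹ * c' ^ 2 * ε⁻¹ := by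
        rw [h.cent_comm hc'C (A.inv_mem hε.1), pow_two, pow_two]; group
      _ = _ := by rw [hsq, ← mul_assoc, inv_mul_cancel, one_mul]
  have hδA : δ ∈ A := h.mem δ hδC (by
    rw [show 4 = 2 * 2 from rfl, pow_mul, hδ2]
    exact (h.E.mul_mem (K.em_mem _) (h.E.inv_mem hε)).2)
  have hε1 : ε = 1 := by
    have h4 : c' * c = c * c' := by
      have h5 := h.cent_comm hc hδA
      rw [hδ] at h5
      calc c' * c = c * ((c⁻¹ * c') * c) := by group
        _ = c * c' := by rw [h5]; group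
    rw [hswap] at h4
    exact mul_eq_left.1 h4
  rw [hε1, inv_one, mul_one] at hδ2
  have h6 := hx.2 δ hδA _ hδ2
  calc x ^ 2 * c * (x ^ 2)⁻¹ = x * c' * x⁻¹ := by rw [hc', pow_two]; group
    _ = (x * c * x⁻¹) * (x * δ * x⁻¹) := by rw [hδ]; group
    _ = c * (δ * δ) * K.em (ap m (ap m l)) := by rw [h6, ← hc', hδ]; group
    _ = _ := by rw [← pow_two, hδ2, K.em_add]; group

/-- A nonidentity element of the centralizer outside `A` with square in `A`. -/
theorem exists_outside (hP : IsPGroup 2 P) {c : P} (hc : c ∈ Subgroup.centralizer (A : Set P))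
    (hcA : c ∉ A) : ∃ i : ℕ, c ^ 2 ^ i ∉ A ∧ (c ^ 2 ^ i) ^ 2 ∈ A := by
  classical
  obtain ⟨k, hk⟩ := hP c
  have hex : ∃ i, c ^ 2 ^ i ∈ A := ⟨k, hk ▸ A.one_mem⟩
  have h0 : Nat.find hex ≠ 0 := fun h0 => hcA (by
    have := Nat.find_spec hex
    rwa [h0, pow_zero, pow_one] at this)
  obtain ⟨i, hi⟩ := Nat.exists_eq_succ_of_ne_zero h0
  refine ⟨i, Nat.find_min hex (by omega), ?_⟩
  rw [← pow_mul, ← pow_succ, ← Nat.succ_eq_add_one, ← hi]
  exact Nat.find_spec hex

theorem em_outside {c : P} (hc : c ∈ Subgroup.centralizer (A : Set P)) (hcA : c ∉ A) (hc2 : c ^ 2 ∈ A) :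
    ∃ l : Vec, c ^ 4 = K.em l ∧ l ≠ 0 := by
  obtain ⟨l, hl⟩ := K.em_surj _ (h.sq_mem_E hc2)
  have hl4 : c ^ 4 = K.em l := by rw [show 4 = 2 * 2 from rfl, pow_mul, hl]
  exact ⟨l, hl4, fun h0 => hcA (h.mem c hc (by rw [hl4, h0, K.em_zero]))⟩

/-- An action of order three forces `A` to be its own centralizer. -/
theorem cent_le_of_order_three (hP : IsPGroup 2 P) {x : P} {m : Mat2} (hx : Rel K x m)
    (hm : m = om ∨ m = om') : Subgroup.centralizer (A : Set P) ≤ A := by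
  intro c hc
  by_contra hcA
  obtain ⟨i, hiA, hi2⟩ := exists_outside hP hc hcA
  have hiC : c ^ 2 ^ i ∈ Subgroup.centralizer (A : Set P) := Subgroup.pow_mem _ hc _
  set u := c ^ 2 ^ i
  have hz : x ^ 2 ∈ Subgroup.centralizer (A : Set P) := hx.sq_mem_cent
  obtain ⟨l, hl, hl0⟩ := em_outside (K := K) hiC hiA hi2
  have h1 := hx.square_action hP hiC hi2 hl
  rw [order_three m hm l] at h1
  -- the square lies outside `A`
  have hzA : x ^ 2 ∉ A := fun hh => by
    rw [h.cent_comm hiC hh, mul_inv_cancel_right, left_eq_mul, K.em_eq_one] at h1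
    exact hl0 h1
  obtain ⟨j, hjA, hj2⟩ := exists_outside hP hz hzA
  have hjC : (x ^ 2) ^ 2 ^ j ∈ Subgroup.centralizer (A : Set P) := Subgroup.pow_mem _ hz _
  obtain ⟨l', hl', hl0'⟩ := em_outside (K := K) hjC hjA hj2
  have h2 := hx.square_action hP hjC hj2 hl'
  rw [order_three m hm l', ((Commute.refl (x ^ 2)).pow_right _).eq, mul_inv_cancel_right, left_eq_mul,
    K.em_eq_one] at h2
  exact hl0' h2

/-- The squares' invariant. -/
theorem exists_Q (hS : Sq K) (hCA : Subgroup.centralizer (A : Set P) ≤ A) :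
    ∃ Q : Mat2 → Vec, ∀ (x : P) (m : Mat2), Rel K x m → (x ^ 2) ^ 2 = K.em (Q m) := by
  classical
  have hone : ∀ m : Mat2, ∃ w : Vec, ∀ x : P, Rel K x m → (x ^ 2) ^ 2 = K.em w := by
    intro m
    by_cases hm : ∃ x, Rel K x m
    · obtain ⟨x, hx⟩ := hm
      have hx2 := hCA hx.sq_mem_cent
      obtain ⟨w, hw⟩ := K.em_surj _ (h.sq_mem_E hx2)
      refine ⟨w, fun y hy => ?_⟩
      have hd := (hy.mul (hx.inv hS))
      rw [mat_add_self] at hd
      set a := y * x⁻¹ with ha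
      have haA : a ∈ A := hCA hd.mem_cent
      obtain ⟨v, hv⟩ := K.em_surj _ (h.sq_mem_E haA)
      have h1 := hx.2 a haA v hv.symm
      have hya : y = a * x := by rw [ha, inv_mul_cancel_right]
      have h2 : y ^ 2 = a ^ 2 * (K.em (ap m v) * x ^ 2) := by
        rw [hya, pow_two]
        calc a * x * (a * x) = a * (x * a * x⁻¹) * x ^ 2 := by rw [pow_two]; group
          _ = _ := by rw [h1, pow_two, pow_two]; group
      have hA2 : a ^ 2 ∈ A := A.pow_mem haA 2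
      have hem : K.em (ap m v) ∈ A := (K.em_mem _).1
      rw [h2, (show Commute (a ^ 2) (K.em (ap m v) * x ^ 2) from
          h.comm _ hA2 _ (A.mul_mem hem hx2)).mul_pow,
        (show Commute (K.em (ap m v)) (x ^ 2) from h.comm _ hem _ hx2).mul_pow,
        (h.sq_mem_E haA).2, (K.em_mem _).2, one_mul, one_mul, hw]
    · exact ⟨0, fun x hx => absurd ⟨x, hx⟩ hm⟩
  choose Q hQ using hone
  exact ⟨Q, fun x m hx => hQ m x hx⟩

theorem Q_kill (hCA : Subgroup.centralizer (A : Set P) ≤ A) {Q : Mat2 → Vec}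
    (hQ : ∀ (x : P) (m : Mat2), Rel K x m → (x ^ 2) ^ 2 = K.em (Q m)) {x : P} {m : Mat2}
    (hx : Rel K x m) : ap m (Q m) = 0 := by
  have h1 := hx.2 _ (hCA hx.sq_mem_cent) _ (hQ x m hx)
  rw [((Commute.refl x).pow_right 2).eq, mul_inv_cancel_right, left_eq_mul, K.em_eq_one] at h1
  exact h1

end Cfsg.Agent.Char.FourGen
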