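import Mathlib
import Cfsg.Agent.Lib.Char.FourGenRel
import Cfsg.Agent.Lib.Transfer.MaxAbelianExponent

/-!
Two-groups without a normal elementary abelian subgroup of order eight have sectional rank at most four:
the Frattini index of every subgroup is at most sixteen.
-/

set_option autoImplicit false
set_option linter.style.haveILetI false
set_option linter.unusedSectionVars false
set_option synthInstance.maxSize 4000

namespace Cfsg.Agent.Char.FourGen

open scoped commutatorElement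

universe u

theorem sum_nil : ∀ a b : Mat2, a + b = nA → a = one2 → b = one2 + nA := by decide

theorem good_mem_fixed : ∀ c : ZMod 2, c = 0 ∨ c = 1 := z2_cases

theorem unit_one : one2 + om = om' ∧ one2 + om' = om ∧ one2 + nA + nA = one2 ∧ one2 + one2 = 0 ∧
    om + (one2 + nA) + one2 = om + nA ∧ om' + (one2 + nA) + one2 = om' + nA := by decide

variable {P : Type u} [Group P] [Finite P] {A : Subgroup P} {h : Max4 A} {K : Coord h}

theorem key_fixed (hP : IsPGroup 2 P) (hE : Nat.card h.E = 4) (hS : Sq K)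
    (hC : ∀ c ∈ Subgroup.centralizer (A : Set P), ∀ d ∈ Subgroup.centralizer (A : Set P),
      c * d = d * c)
    {y : P} {m : Mat2} (hy : Rel K y m) (hm : m = nA ∨ m = nB ∨ m = nC ∨ m = om ∨ m = om')
    (hfix : ∀ (g : P) (c : ZMod 2), (∀ v, g * K.em v * g⁻¹ = K.em (sg c v)) → cj c m = m)
    {d0 : P} (hd0 : d0 ∈ Subgroup.centralizer (A : Set P)) (hy2 : y ^ 2 = d0 ^ 2) : False := by
  refine h.key hP hE hS.hsq hC hy.1 (fun hyC => (inj_good m hm).1 (hy.unique hS (rel_of_cent hyC)))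
    (fun g => ?_) (fun d hd hd1 => ?_) hd0 hy2
  · obtain ⟨c, hc⟩ := K.exists_sigma g
    have h1 := (hy.conj hc).mul (hy.inv hS)
    rw [hfix g c hc, mat_add_self] at h1
    exact h1.mem_cent
  · obtain ⟨v, hv⟩ := K.em_surj _ (h.sq_mem_E hd)
    rw [hy.2 d hd v hv.symm, ← mul_assoc, ← pow_two, ← hv, ← K.em_add, K.em_eq_one] at hd1
    rw [← hv, (inj_good m hm).2 v hd1, K.em_zero]

/-- The centralizer is abelian if it has only one line of fourth powers over `A`. -/
theorem cent_abelian (h : Max4 A) (hP : IsPGroup 2 P)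
    (hone : ∀ c ∈ Subgroup.centralizer (A : Set P), ∀ d ∈ Subgroup.centralizer (A : Set P),
      c ∉ A → d ∉ A → c ^ 2 ∈ A → d ^ 2 ∈ A → c ^ 4 = d ^ 4) :
    ∀ c ∈ Subgroup.centralizer (A : Set P), ∀ d ∈ Subgroup.centralizer (A : Set P),
      c * d = d * c := by
  classical
  set C := Subgroup.centralizer (A : Set P) with hCdef
  have hz : FourCentral C := h.fourCentral_le le_rfl
  have hpC := hP.to_subgroup C
  haveI := omegaOne_normal hz
  have hcomm : ∀ x : C, ∀ g : C, x ^ 16 = 1 → ((x : P))⁻¹ * ((g : P) * x * (g : P)⁻¹) ∈ A := by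
    intro x g hx
    have h8 : (x : C ⧸ omegaOne hz) ^ 8 = 1 := by
      rw [← QuotientGroup.mk_pow, QuotientGroup.eq_one_iff]
      show (x ^ 8) ^ 2 = 1
      rw [← pow_mul]; exact hx
    have h1 := comm_sq (hpC.to_quotient _) (fourCentral_quotient hpC hz) h8 (g : C ⧸ omegaOne hz)
    have h2 : ((x⁻¹ * (g * x * g⁻¹)) ^ 2) ^ 2 = 1 := (QuotientGroup.eq_one_iff _).1
      (show (((x⁻¹ * (g * x * g⁻¹)) ^ 2 : C) : C ⧸ omegaOne hz) = 1 from h1)
    refine h.mem _ (C.mul_mem (C.inv_mem x.2) (h.cent_conj x.2 _)) ?_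
    rw [show 4 = 2 * 2 from rfl, pow_mul]
    exact congrArg Subtype.val h2
  set N := A.subgroupOf C with hN
  haveI : N.Normal := ⟨fun n hn g => Subgroup.mem_subgroupOf.2
    (h.normal.conj_mem _ (Subgroup.mem_subgroupOf.1 hn) _)⟩
  have hq : FourCentral (C ⧸ N) := by
    intro x hx g
    induction x using QuotientGroup.induction_on with | _ x =>
    induction g using QuotientGroup.induction_on with | _ g =>
    rw [← QuotientGroup.mk_pow, QuotientGroup.eq_one_iff] at hx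
    rw [← QuotientGroup.mk_mul, ← QuotientGroup.mk_mul, eq_comm, QuotientGroup.eq,
      Subgroup.mem_subgroupOf]
    have h16 : x ^ 16 = 1 := Subtype.ext (by
      show (x : P) ^ 16 = 1
      rw [show 16 = 4 * 4 from rfl, pow_mul]
      exact h.exp _ (Subgroup.mem_subgroupOf.1 hx))
    have h1 := hcomm x g⁻¹ h16
    simp only [Subgroup.coe_inv, Subgroup.coe_mul, inv_inv] at h1 ⊢
    convert h1 using 1
    group
  have homega : Nat.card (omegaOne hq) ≤ 2 := by
    rw [show (2 : ℕ) = Nat.card Bool by simp]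
    refine Nat.card_le_card_of_injective (fun q => decide ((q : C ⧸ N) = 1)) fun q q' hqq => ?_
    have hiff : ((q : C ⧸ N) = 1 ↔ (q' : C ⧸ N) = 1) := by simpa using hqq
    by_cases h1 : (q : C ⧸ N) = 1
    · exact Subtype.ext (h1.trans (hiff.1 h1).symm)
    have h1' : (q' : C ⧸ N) ≠ 1 := fun hh => h1 (hiff.2 hh)
    obtain ⟨q, hq2⟩ := q
    obtain ⟨q', hq2'⟩ := q'
    simp only at h1 h1'
    refine Subtype.ext ?_
    show q = q'
    induction q using QuotientGroup.induction_on with | _ x =>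
    induction q' using QuotientGroup.induction_on with | _ y =>
    rw [ne_eq, QuotientGroup.eq_one_iff, Subgroup.mem_subgroupOf] at h1'
    rw [QuotientGroup.eq_one_iff, Subgroup.mem_subgroupOf] at h1
    have hx2 : (x : P) ^ 2 ∈ A := by
      have : ((x ^ 2 : C) : C ⧸ N) = 1 := by rw [QuotientGroup.mk_pow]; exact hq2
      exact Subgroup.mem_subgroupOf.1 ((QuotientGroup.eq_one_iff _).1 this)
    have hy2 : (y : P) ^ 2 ∈ A := by
      have : ((y ^ 2 : C) : C ⧸ N) = 1 := by rw [QuotientGroup.mk_pow]; exact hq2'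
      exact Subgroup.mem_subgroupOf.1 ((QuotientGroup.eq_one_iff _).1 this)
    have h4 := hone _ x.2 _ y.2 h1 h1' hx2 hy2
    rw [QuotientGroup.eq, Subgroup.mem_subgroupOf]
    show (x : P)⁻¹ * y ∈ A
    set c := (x : P)
    set d := (y : P)
    have hc8 : x ^ 8 = 1 := Subtype.ext (by
      show c ^ 8 = 1
      rw [show 8 = 2 * 4 from rfl, pow_mul]
      exact h.exp _ hx2)
    have hε : c⁻¹ * (d * c * d⁻¹) ∈ h.E :=
      h.mem_E_of_sq (C.mul_mem (C.inv_mem x.2) (h.cent_conj x.2 _))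
        (congrArg Subtype.val (comm_sq hpC hz hc8 y))
    set ε := c⁻¹ * (d * c * d⁻¹) with hεdef
    have hdc : d * c⁻¹ = ε⁻¹ * c⁻¹ * d := by rw [hεdef]; group
    have hsq : (c⁻¹ * d) ^ 2 = ε⁻¹ * ((c ^ 2)⁻¹ * d ^ 2) := by
      calc (c⁻¹ * d) ^ 2 = c⁻¹ * (d * c⁻¹) * d := by rw [pow_two]; group
        _ = (c⁻¹ * ε⁻¹) * (c⁻¹ * d ^ 2) := by rw [hdc, pow_two]; group
        _ = _ := by
          have hcε : ε⁻¹ * c⁻¹ = c⁻¹ * ε⁻¹ := h.cent_comm (C.inv_mem x.2) (A.inv_mem hε.1)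
          rw [← hcε, pow_two c]; group
    refine h.mem _ (C.mul_mem (C.inv_mem x.2) y.2) ?_
    rw [show 4 = 2 * 2 from rfl, pow_mul, hsq, (show Commute ε⁻¹ ((c ^ 2)⁻¹ * d ^ 2) from
      h.comm _ (A.inv_mem hε.1) _ (A.mul_mem (A.inv_mem hx2) hy2)).mul_pow,
      (h.E.inv_mem hε).2, one_mul, (show Commute (c ^ 2)⁻¹ (d ^ 2) from
      h.comm _ (A.inv_mem hx2) _ hy2).mul_pow, inv_pow, ← pow_mul, ← pow_mul, h4, inv_mul_cancel]
  have hidx := (frattini_index_le (hpC.to_quotient N) hq).trans homega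
  obtain ⟨g, hg⟩ : ∃ g : C, Subgroup.zpowers (g : C ⧸ N) = ⊤ := by
    have hpos : (frattini (C ⧸ N)).index ≠ 0 := Subgroup.index_ne_zero_of_finite
    have hcases : (frattini (C ⧸ N)).index = 1 ∨ (frattini (C ⧸ N)).index = 2 := by omega
    rcases hcases with h1 | h2
    · refine ⟨1, frattini_nongenerating ?_⟩
      rw [Subgroup.index_eq_one.1 h1, sup_top_eq]
    · obtain ⟨q, hq'⟩ : ∃ q, q ∉ frattini (C ⧸ N) := by
        by_contra hcon
        push Not at hcon
        rw [show frattini (C ⧸ N) = ⊤ from eq_top_iff.2 fun x _ => hcon x, Subgroup.index_top] at h2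
        omega
      induction q using QuotientGroup.induction_on with | _ g =>
      refine ⟨g, frattini_nongenerating (eq_top_iff.2 fun b _ => ?_)⟩
      by_cases hb : b ∈ frattini (C ⧸ N)
      · exact Subgroup.mem_sup_right hb
      · have hbg : b * (g : C ⧸ N) ∈ frattini (C ⧸ N) :=
          (Subgroup.mul_mem_iff_of_index_two h2).2 ⟨fun x => absurd x hb, fun x => absurd x hq'⟩
        rw [show b = b * (g : C ⧸ N) * (g : C ⧸ N)⁻¹ by group]
        exact Subgroup.mul_mem _ (Subgroup.mem_sup_right hbg)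
          (Subgroup.mem_sup_left (Subgroup.inv_mem _ (Subgroup.mem_zpowers _)))
  have hform : ∀ c : C, ∃ (i : ℤ) (a : P), a ∈ A ∧ (c : P) = (g : P) ^ i * a := by
    intro c
    obtain ⟨i, hi⟩ := Subgroup.mem_zpowers_iff.1 (hg ▸ Subgroup.mem_top (c : C ⧸ N) :
      (c : C ⧸ N) ∈ Subgroup.zpowers (g : C ⧸ N))
    rw [← QuotientGroup.mk_zpow, QuotientGroup.eq, Subgroup.mem_subgroupOf] at hi
    refine ⟨i, _, hi, ?_⟩
    push_cast
    rw [mul_inv_cancel_left]
  intro c hc d hd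
  obtain ⟨i, a, ha, rfl⟩ : ∃ (i : ℤ) (a : P), a ∈ A ∧ c = (g : P) ^ i * a := hform ⟨c, hc⟩
  obtain ⟨j, b, hb, rfl⟩ : ∃ (i : ℤ) (a : P), a ∈ A ∧ d = (g : P) ^ i * a := hform ⟨d, hd⟩
  have h1 : Commute a ((g : P) ^ j) := h.cent_comm (C.zpow_mem g.2 j) ha
  have h2 : Commute b ((g : P) ^ i) := h.cent_comm (C.zpow_mem g.2 i) hb
  have h3 : Commute a b := h.comm a ha b hb
  exact ((((Commute.refl (g : P)).zpow_zpow i j).mul_right h2.symm).mul_left (h1.mul_right h3)).eq

/-- The facts about `Q` when `A` is its own centralizer. -/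
theorem Q_ne_zero (hP : IsPGroup 2 P) (hE : Nat.card h.E = 4) (hS : Sq K)
    (hCA : Subgroup.centralizer (A : Set P) ≤ A) {Q : Mat2 → Vec}
    (hQ : ∀ (x : P) (m : Mat2), Rel K x m → (x ^ 2) ^ 2 = K.em (Q m)) {y : P} {m : Mat2}
    (hy : Rel K y m) (hm : m = nA ∨ m = nB ∨ m = nC ∨ m = om ∨ m = om')
    (hfix : ∀ (g : P) (c : ZMod 2), (∀ v, g * K.em v * g⁻¹ = K.em (sg c v)) → cj c m = m) :
    Q m ≠ 0 := by
  intro h0
  have hy2 : y ^ 2 ∈ h.E := ⟨hCA hy.sq_mem_cent, by rw [hQ y m hy, h0, K.em_zero]⟩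
  obtain ⟨d0, hd0, hd2⟩ := hS.hsq _ hy2
  exact key_fixed hP hE hS (fun c hc d hd => h.comm c (hCA hc) d (hCA hd)) hy hm hfix
    (h.le_cent hd0) hd2.symm

/-- The values of `Q` on the nilpotents and its behaviour under adding the identity. -/
theorem Q_values (hP : IsPGroup 2 P) (hE : Nat.card h.E = 4) (hS : Sq K)
    (hCA : Subgroup.centralizer (A : Set P) ≤ A) {Q : Mat2 → Vec}
    (hQ : ∀ (x : P) (m : Mat2), Rel K x m → (x ^ 2) ^ 2 = K.em (Q m))
    (hall : ∀ m : Mat2, ∃ x, Rel K x m) :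
    Q nA = (1, 0) ∧ Q nB = (0, 1) ∧ Q nC = (1, 1) ∧
    (∀ m n : Mat2, Q (one2 + (m + n)) + Q (m + n) = (Q (one2 + m) + Q m) + (Q (one2 + n) + Q n)) ∧
    (∀ m : Mat2, (m = one2 ∨ m = one2 + nA ∨ m = one2 + nB ∨ m = one2 + nC ∨ m = om ∨ m = om') →
      Q m = 0) := by
  obtain ⟨x1, hx1⟩ := hall one2
  have hinv : ∀ a ∈ A, x1 * a * x1⁻¹ = a⁻¹ := by
    intro a ha
    obtain ⟨v, hv⟩ := K.em_surj _ (h.sq_mem_E ha)
    rw [hx1.2 a ha v hv.symm, ap_one2, hv]
    refine eq_inv_of_mul_eq_one_left ?_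
    rw [← pow_succ', ← pow_succ]
    exact h.exp a ha
  have hq1 := hQ x1 one2 hx1
  have hunit : ∀ m : Mat2, (m = one2 ∨ m = one2 + nA ∨ m = one2 + nB ∨ m = one2 + nC ∨ m = om ∨
      m = om') → Q m = 0 := fun m hm => by
    obtain ⟨x, hx⟩ := hall m
    exact unit_injective m hm _ (Q_kill hCA hQ hx)
  have hbeta : ∀ (y : P) (m : Mat2), Rel K y m → (x1 * y * x1⁻¹ * y⁻¹) ∈ A ∧
      (x1 * y * x1⁻¹ * y⁻¹) ^ 2 = K.em (Q (one2 + m) + Q m) := by
    intro y m hy
    obtain ⟨c, hc⟩ := K.exists_sigma x1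
    have hc0 := (K.mem_fix_iff hc).1 hx1.1
    have h1 := (hy.conj hc).mul (hy.inv hS)
    rw [hc0, cj_zero, mat_add_self] at h1
    set k := x1 * y * x1⁻¹ * y⁻¹ with hk
    have hkA : k ∈ A := hCA h1.mem_cent
    refine ⟨hkA, ?_⟩
    have h2 := hQ _ _ (hx1.mul hy)
    have hx12 : x1 ^ 2 ∈ A := hCA hx1.sq_mem_cent
    have hy2 : y ^ 2 ∈ A := hCA hy.sq_mem_cent
    have h3 : (x1 * y) ^ 2 = k * (x1 ^ 2 * y ^ 2) := by
      calc (x1 * y) ^ 2 = (x1 * k⁻¹ * x1⁻¹) * (x1 ^ 2 * y ^ 2) := by rw [hk, pow_two, pow_two, pow_two]; group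
        _ = k * (x1 ^ 2 * y ^ 2) := by rw [hinv _ (A.inv_mem hkA), inv_inv]
    rw [h3, (show Commute k (x1 ^ 2 * y ^ 2) from
      h.comm _ hkA _ (A.mul_mem hx12 hy2)).mul_pow,
      (show Commute (x1 ^ 2) (y ^ 2) from h.comm _ hx12 _ hy2).mul_pow, hq1, hQ y m hy,
      hunit one2 (Or.inl rfl), K.em_zero, one_mul] at h2
    rw [K.em_add, ← h2, mul_assoc, ← pow_two, (K.em_mem _).2, mul_one]
  have hadd : ∀ m n : Mat2, Q (one2 + (m + n)) + Q (m + n) =
      (Q (one2 + m) + Q m) + (Q (one2 + n) + Q n) := by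
    intro m n
    obtain ⟨y, hy⟩ := hall m
    obtain ⟨z, hz⟩ := hall n
    obtain ⟨hkA, hk2⟩ := hbeta y m hy
    obtain ⟨hlA, hl2⟩ := hbeta z n hz
    obtain ⟨_, hm2⟩ := hbeta _ _ (hy.mul hz)
    refine K.em_inj (hm2.symm.trans ?_)
    rw [show x1 * (y * z) * x1⁻¹ * (y * z)⁻¹ =
      (x1 * y * x1⁻¹ * y⁻¹) * (y * (x1 * z * x1⁻¹ * z⁻¹) * y⁻¹) by group,
      (show Commute _ _ from h.comm _ hkA _ (h.normal.conj_mem _ hlA y)).mul_pow, conj_pow, hl2,
      ← Subgroup.mem_centralizer_iff.1 hy.1 _ (K.em_mem _), mul_inv_cancel_right, hk2]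
    exact (K.em_add _ _).symm
  have hQ0 : Q 0 = 0 := by
    have h1 := hQ 1 0 (rel_of_cent (Subgroup.one_mem _))
    rw [one_pow, one_pow] at h1
    exact K.em_eq_one.1 h1.symm
  have hb1 : Q (one2 + one2) + Q one2 = 0 := by
    rw [mat_add_self, hQ0, hunit one2 (Or.inl rfl), add_zero]
  have hsum : Q nA + Q nB + Q nC = 0 := by
    have h1 := hadd (nA + nB) nC
    rw [hadd nA nB, nil_sum.1, hb1, hunit (one2 + nA) (Or.inr (Or.inl rfl)), hunit (one2 + nB) (Or.inr (Or.inr (Or.inl rfl))),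
      hunit (one2 + nC) (Or.inr (Or.inr (Or.inr (Or.inl rfl)))), zero_add, zero_add, zero_add] at h1
    exact h1.symm
  have hkill : ∀ m, ap m (Q m) = 0 := fun m => Q_kill hCA hQ (hall m).choose_spec
  have hA0 : Q nA ≠ 0 := Q_ne_zero hP hE hS hCA hQ (hall nA).choose_spec (Or.inl rfl)
    fun _ c _ => cj_nA c
  obtain ⟨e1, e2, e3⟩ := three_lines _ _ _ (hkill nA) (hkill nB) (hkill nC) hsum hA0
  exact ⟨e1, e2, e3, hadd, hunit⟩

theorem vec_ne : ((0, 1) : Vec) ≠ 0 ∧ ((1, 1) : Vec) ≠ 0 := by decide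

theorem shift_one : ∀ o : Mat2, one2 + (o + (one2 + nA)) = o + nA := by decide

theorem fix_of_cases : ∀ m : Mat2, cj 1 m + m = 0 → cj 1 m = m := by decide

theorem nA_of_two : (one2 + (one2 + nA) : Mat2) = nA := by decide

theorem exists_of_small_kernel {S : AddSubgroup Mat2} (hA : nA ∉ S) (hT : ∀ m ∈ S, cj 1 m = m) :
    Nat.card S ≤ 2 := by
  classical
  refine le_trans ?_ (le_of_eq (show Nat.card Bool = 2 by simp))
  refine Nat.card_le_card_of_injective (fun m : S => decide ((m : Mat2) = 0)) fun m n hmn => ?_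
  have hiff : ((m : Mat2) = 0 ↔ (n : Mat2) = 0) := by simpa using hmn
  by_cases h0 : (m : Mat2) = 0
  · exact Subtype.ext (h0.trans (hiff.1 h0).symm)
  have h0' : (n : Mat2) ≠ 0 := fun hh => h0 (hiff.2 hh)
  have hcl : ∀ x : Mat2, x ∈ S → x ≠ 0 → x = one2 ∨ x = one2 + nA := fun x hx hx0 => by
    rcases cj_fixed x (hT x hx) with hh | hh | hh | hh
    · exact absurd hh hx0
    · exact Or.inl hh
    · exact absurd (hh ▸ hx) hA
    · exact Or.inr hh
  refine Subtype.ext ?_
  rcases hcl _ m.2 h0 with hm | hm <;> rcases hcl _ n.2 h0' with hn | hn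
  · exact hm.trans hn.symm
  · have h1 := S.add_mem m.2 n.2
    rw [hm, hn, nA_of_two] at h1
    exact absurd h1 hA
  · have h1 := S.add_mem n.2 m.2
    rw [hm, hn, nA_of_two] at h1
    exact absurd h1 hA
  · exact hm.trans hn.symm

/-- The conjugation difference. -/
def cjDiff : Mat2 →+ Mat2 :=
  AddMonoidHom.mk' (fun m => cj 1 m + m) fun a b => by
    have hcj : ∀ a b : Mat2, cj 1 (a + b) = cj 1 a + cj 1 b := by decide
    show cj 1 (a + b) + (a + b) = cj 1 a + a + (cj 1 b + b)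
    rw [hcj]; abel

/-- The index of `D ⊔ Φ` against the image. -/
theorem sup_index_bound (hP : IsPGroup 2 P) (hS : Sq K) (H : Subgroup P) :
    (h.fixPart H = ⊤ → (cenPart A H ⊔ frattini H).index ≤ Nat.card (img hS H)) ∧
    (h.fixPart H ≠ ⊤ → (cenPart A H ⊔ frattini H).index ≤ 8 ∧
      (4 < (cenPart A H ⊔ frattini H).index → nA ∈ img hS H)) := by
  classical
  haveI := h.cenPart_normal H
  set D := cenPart A H with hD
  set L := D ⊔ frattini H with hL
  set WH := h.fixPart H with hWH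
  have hWmem : ∀ x : WH, ((x : H) : P) ∈ Subgroup.centralizer (h.E : Set P) := fun x =>
    Subgroup.mem_subgroupOf.1 x.2
  choose M hM using fun x : WH => exists_rel hS (hWmem x)
  let f : WH →* Multiplicative Mat2 :=
    MonoidHom.mk' (fun x => Multiplicative.ofAdd (M x)) fun x y => by
      show Multiplicative.ofAdd (M (x * y)) = Multiplicative.ofAdd (M x + M y)
      rw [(hM (x * y)).unique hS ((hM x).mul (hM y))]
  have hrange : Nat.card f.range = Nat.card (img hS H) := by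
    refine Nat.card_congr (Equiv.subtypeEquiv Multiplicative.toAdd fun m => ⟨?_, ?_⟩)
    · rintro ⟨x, rfl⟩
      exact ⟨_, (x : H).2, hM x⟩
    · rintro ⟨x, hxH, hx⟩
      exact ⟨⟨⟨x, hxH⟩, Subgroup.mem_subgroupOf.2 hx.1⟩, congrArg Multiplicative.ofAdd
        ((hM ⟨⟨x, hxH⟩, Subgroup.mem_subgroupOf.2 hx.1⟩).unique hS hx)⟩
  have hker : f.ker ≤ L.subgroupOf WH := by
    intro x hx
    have h1 : M x = 0 := congrArg Multiplicative.toAdd (MonoidHom.mem_ker.1 hx)
    exact Subgroup.mem_subgroupOf.2 (Subgroup.mem_sup_left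
      (Subgroup.mem_subgroupOf.2 ((h1 ▸ hM x : Rel K _ 0).mem_cent)))
  have hprod : Nat.card ((L.subgroupOf WH).map f) * (L.subgroupOf WH).index = Nat.card f.range := by
    have h1 := Subgroup.index_map (L.subgroupOf WH) f
    rw [sup_eq_left.2 hker] at h1
    have h2 := ((L.subgroupOf WH).map f).card_mul_index
    have h3 := f.range.card_mul_index
    have h4 : f.range.index ≠ 0 := Subgroup.index_ne_zero_of_finite
    rw [h1, ← mul_assoc] at h2
    exact mul_right_cancel₀ h4 (h2.trans h3.symm)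
  have hidx : L.index ≤ (L.subgroupOf WH).index * WH.index := by
    refine Nat.le_of_dvd (Nat.pos_of_ne_zero (mul_ne_zero Subgroup.index_ne_zero_of_finite
      Subgroup.index_ne_zero_of_finite)) ?_
    have h1 : (L ⊓ WH).relIndex WH * WH.index = (L ⊓ WH).index :=
      Subgroup.relIndex_mul_index inf_le_right
    rw [Subgroup.relIndex, Subgroup.inf_subgroupOf_right] at h1
    rw [h1]
    exact Subgroup.index_dvd_of_le inf_le_left
  refine ⟨fun htop => ?_, fun hne => ?_⟩
  · rw [← hrange, ← hprod]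
    rw [Subgroup.index_eq_one.2 htop, mul_one] at hidx
    exact hidx.trans (Nat.le_mul_of_pos_left _ Nat.card_pos)
  obtain ⟨g0, hg0⟩ : ∃ g0, g0 ∉ WH := by
    by_contra hcon
    push Not at hcon
    exact hne (eq_top_iff.2 fun x _ => hcon x)
  obtain ⟨c, hc⟩ := K.exists_sigma (g0 : P)
  have hc1 : c = 1 := (z2_cases c).resolve_left fun h0 =>
    hg0 (Subgroup.mem_subgroupOf.2 ((K.mem_fix_iff hc).2 h0))
  rw [hc1] at hc
  let φ : img hS H →+ Mat2 := cjDiff.comp (img hS H).subtype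
  have hT : Nat.card φ.range ≤ Nat.card ((L.subgroupOf WH).map f) := by
    refine Nat.card_le_card_of_injective
      (fun m : φ.range => (⟨Multiplicative.ofAdd (m : Mat2), ?_⟩ : (L.subgroupOf WH).map f))
      fun m n hmn => by
        simp only [Subtype.mk.injEq, EmbeddingLike.apply_eq_iff_eq] at hmn
        exact Subtype.ext hmn
    obtain ⟨⟨m', ⟨x, hxH, hx⟩⟩, hm⟩ := m.2
    have hk : Rel K ((g0 : P) * x * (g0 : P)⁻¹ * x⁻¹) (cj 1 m' + m') := (hx.conj hc).mul (hx.inv hS)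
    refine Subgroup.mem_map.2 ⟨⟨g0 * ⟨x, hxH⟩ * g0⁻¹ * (⟨x, hxH⟩ : H)⁻¹,
      Subgroup.mem_subgroupOf.2 hk.1⟩, Subgroup.mem_subgroupOf.2 (Subgroup.mem_sup_right ?_), ?_⟩
    · show g0 * (⟨x, hxH⟩ : H) * g0⁻¹ * (⟨x, hxH⟩ : H)⁻¹ ∈ frattini H
      rw [← commutatorElement_def]
      exact Agent.Grp.pGroup_commutator_le_frattini (hP.to_subgroup H)
        (Subgroup.commutator_mem_commutator (Subgroup.mem_top _) (Subgroup.mem_top _))
    · exact congrArg Multiplicative.ofAdd (((hM _).unique hS hk).trans hm)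
  have hWH2 := K.fixPart_index_le H
  have hS' : Nat.card φ.ker * Nat.card φ.range = Nat.card (img hS H) := by
    rw [← AddSubgroup.index_ker]
    exact φ.ker.card_mul_index
  have hbound : L.index ≤ 2 * Nat.card φ.ker := by
    have hpos : 0 < Nat.card φ.range := Nat.card_pos
    have h1 : Nat.card φ.range * (L.subgroupOf WH).index ≤ Nat.card φ.range * Nat.card φ.ker := by
      calc Nat.card φ.range * (L.subgroupOf WH).index
          ≤ Nat.card ((L.subgroupOf WH).map f) * (L.subgroupOf WH).index := Nat.mul_le_mul_right _ hT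
        _ = _ := by rw [hprod, hrange, ← hS', mul_comm]
    have h2 := Nat.le_of_mul_le_mul_left h1 hpos
    have h3 : (L.subgroupOf WH).index * WH.index ≤ Nat.card φ.ker * 2 := Nat.mul_le_mul h2 hWH2
    linarith
  have hfix : ∀ m : φ.ker, cj 1 ((m : img hS H) : Mat2) = ((m : img hS H) : Mat2) := fun m =>
    fix_of_cases _ m.2
  refine ⟨hbound.trans ?_, fun hgt => ?_⟩
  · have hcard : Nat.card φ.ker ≤ Nat.card ({0, one2, nA, one2 + nA} : Finset Mat2) := by
      refine Nat.card_le_card_of_injective (fun m => ⟨((m : img hS H) : Mat2), ?_⟩)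
        fun m n hmn => by
          simp only [Subtype.mk.injEq] at hmn
          exact Subtype.ext (Subtype.ext hmn)
      simp only [Finset.mem_insert, Finset.mem_singleton]
      exact cj_fixed _ (hfix m)
    rw [Nat.card_eq_fintype_card (α := ({0, one2, nA, one2 + nA} : Finset Mat2)),
      Fintype.card_coe] at hcard
    have := hcard.trans Finset.card_le_four
    omega
  · by_contra hA
    have hle : Nat.card φ.ker ≤ 2 := by
      have hcard : Nat.card φ.ker = Nat.card (φ.ker.map (img hS H).subtype) :=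
        Nat.card_congr (φ.ker.equivMapOfInjective _ Subtype.val_injective).toEquiv
      rw [hcard]
      refine exists_of_small_kernel (fun hmem => ?_) fun m hm => ?_
      · obtain ⟨z, _, hz⟩ := AddSubgroup.mem_map.1 hmem
        exact hA (hz ▸ z.2)
      · obtain ⟨z, hz, rfl⟩ := AddSubgroup.mem_map.1 hm
        exact hfix ⟨z, hz⟩
    omega

/-- The main case. -/
theorem frattini_index_le_of_sq (hP : IsPGroup 2 P) (hE : Nat.card h.E = 4) (hS : Sq K)
    (H : Subgroup P) : (frattini H).index ≤ 16 := by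
  classical
  obtain ⟨htop, hproper⟩ := sup_index_bound hP hS H
  rw [h.index_split H]
  have hp := h.relIndex_le hP H
  rw [hE] at hp
  set D := cenPart A H with hD
  obtain ⟨i, hi⟩ := two_pow_of_dvd (hP.to_subgroup H)
    (Subgroup.index_dvd_card (D ⊔ frattini H))
  obtain ⟨j, hj⟩ := two_pow_of_dvd (hP.to_subgroup H) (show (frattini H).relIndex D ∣ Nat.card H from
    dvd_trans (Dvd.intro _ (h.index_split H).symm) (Subgroup.index_dvd_card _))
  rw [hi] at htop hproper ⊢
  rw [hj] at hp ⊢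
  have hj2 : j ≤ 2 := (Nat.pow_le_pow_iff_right (a := 2) (by norm_num)).1 (show 2 ^ j ≤ 2 ^ 2 by simpa using hp)
  by_contra hbig
  rw [← pow_add] at hbig
  have hij : 4 < j + i := by
    by_contra hh
    exact hbig (le_trans (Nat.pow_le_pow_right (by norm_num) (not_lt.1 hh)) (by norm_num))
  have hi3 : 3 ≤ i := by omega
  have hsize : h.fixPart H = ⊤ → 8 ≤ Nat.card (img hS H) := fun ht =>
    le_trans (show 2 ^ 3 ≤ 2 ^ i from Nat.pow_le_pow_right (by norm_num) hi3) (htop ht)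
  have hnA : h.fixPart H ≠ ⊤ → nA ∈ img hS H ∧ i = 3 := fun ht => by
    obtain ⟨h8, hmem⟩ := hproper ht
    refine ⟨hmem (lt_of_lt_of_le (by norm_num : 4 < 2 ^ 3) (Nat.pow_le_pow_right (by norm_num) hi3)), ?_⟩
    have : i ≤ 3 := (Nat.pow_le_pow_iff_right (a := 2) (by norm_num)).1 (show 2 ^ i ≤ 2 ^ 3 by simpa using h8)
    omega
  have hsqΦ : ∀ (x : P), x ∈ H → ∀ m, Rel K x m → ∃ z : D, ((z : H) : P) = x ^ 2 ∧ (z : H) ∈ frattini H :=
    fun x hx m hm => ⟨⟨⟨x, hx⟩ ^ 2, Subgroup.mem_subgroupOf.2 hm.sq_mem_cent⟩, rfl,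
      Agent.Grp.pGroup_pow_mem_frattini (hP.to_subgroup H) _⟩
  by_cases hi4 : 4 ≤ i
  · -- the image is everything and the centralizer part lies in the Frattini subgroup
    have ht : h.fixPart H = ⊤ := by
      by_contra hh
      have := (hnA hh).2
      omega
    have h16 : 16 ≤ Nat.card (img hS H) :=
      le_trans (show 2 ^ 4 ≤ 2 ^ i from Nat.pow_le_pow_right (by norm_num) hi4) (htop ht)
    have hi5 : i ≤ 4 := by
      have h1 : Nat.card (img hS H) ≤ 16 := (Nat.card_le_card_of_injective _ Subtype.val_injective).trans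
        (le_of_eq (by simp))
      exact (Nat.pow_le_pow_iff_right (a := 2) (by norm_num)).1
        (show 2 ^ i ≤ 2 ^ 4 from (htop ht).trans (by simpa using h1))
    have hStop : img hS H = ⊤ := AddSubgroup.eq_top_of_card_eq _ (le_antisymm
      (Nat.card_le_card_of_injective _ Subtype.val_injective) (le_trans (le_of_eq (by simp)) h16))
    have hall : ∀ m : Mat2, ∃ x ∈ H, Rel K x m := fun m =>
      (hStop ▸ AddSubgroup.mem_top m : m ∈ img hS H)
    obtain ⟨xo, _, hxo⟩ := hall om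
    have hCA := cent_le_of_order_three hP hxo (Or.inl rfl)
    obtain ⟨Q, hQ⟩ := exists_Q hS hCA
    obtain ⟨eA, eB, _, _, _⟩ := Q_values hP hE hS hCA hQ fun m => (hall m).imp fun x hx => hx.2
    have hone : (frattini H).relIndex D = 1 := by
      rw [Subgroup.relIndex_eq_one]
      intro d hd
      have hdA : (d : P) ∈ A := hCA (Subgroup.mem_subgroupOf.1 hd)
      obtain ⟨xA, hxAH, hxA⟩ := hall nA
      obtain ⟨xB, hxBH, hxB⟩ := hall nB
      obtain ⟨zA, hzA, hzAΦ⟩ := hsqΦ xA hxAH _ hxA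
      obtain ⟨zB, hzB, hzBΦ⟩ := hsqΦ xB hxBH _ hxB
      -- the squares of elements of `A ∩ Φ` give all involutions
      have hval : ∀ v : Vec, ∃ z : H, z ∈ frattini H ∧ (z : P) ∈ A ∧ (z : P) ^ 2 = K.em v := by
        have hzAA : ((zA : H) : P) ∈ A := hzA ▸ hCA hxA.sq_mem_cent
        have hzBA : ((zB : H) : P) ∈ A := hzB ▸ hCA hxB.sq_mem_cent
        have hA2 : ((zA : H) : P) ^ 2 = K.em (1, 0) := by rw [hzA, hQ _ _ hxA, eA]
        have hB2 : ((zB : H) : P) ^ 2 = K.em (0, 1) := by rw [hzB, hQ _ _ hxB, eB]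
        intro v
        rcases vec_cases v with rfl | rfl | rfl | rfl
        · exact ⟨1, Subgroup.one_mem _, A.one_mem, by rw [OneMemClass.coe_one, one_pow, K.em_zero]⟩
        · exact ⟨zA, hzAΦ, hzAA, hA2⟩
        · exact ⟨zB, hzBΦ, hzBA, hB2⟩
        · refine ⟨zA * zB, Subgroup.mul_mem _ hzAΦ hzBΦ, A.mul_mem hzAA hzBA, ?_⟩
          rw [Subgroup.coe_mul, (show Commute ((zA : H) : P) ((zB : H) : P) from
            h.comm _ hzAA _ hzBA).mul_pow, hA2, hB2, ← K.em_add]
          simp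
      obtain ⟨v, hv⟩ := K.em_surj _ (h.sq_mem_E hdA)
      obtain ⟨z, hzΦ, hzA', hz2⟩ := hval v
      have hdz : (d : P) * (z : P)⁻¹ ∈ h.E := ⟨A.mul_mem hdA (A.inv_mem hzA'), by
        rw [(show Commute (d : P) (z : P)⁻¹ from h.comm _ hdA _ (A.inv_mem hzA')).mul_pow, inv_pow, hz2,
          hv, mul_inv_cancel]⟩
      obtain ⟨w, hw⟩ := K.em_surj _ hdz
      obtain ⟨z', hz'Φ, _, hz'2⟩ := hval w
      rw [show d = z' ^ 2 * z from Subtype.ext (by
        push_cast
        rw [hz'2, hw, inv_mul_cancel_right])]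
      exact Subgroup.mul_mem _ (Subgroup.pow_mem _ hz'Φ 2) hzΦ
    rw [hj] at hone
    have hj0 : j = 0 := (Nat.pow_eq_one.1 hone).resolve_left (by norm_num)
    omega
  -- now the index over the centralizer part is eight and the other is four
  have hj' : j = 2 := by omega
  have hrel : 2 < (frattini H).relIndex D := by rw [hj, hj']; norm_num
  have hcommsq : ∀ (x : P), x ∈ H → ∀ m, Rel K x m → ∀ c ∈ Subgroup.centralizer (A : Set P),
      c ^ 2 ∈ A → c * x ^ 2 = x ^ 2 * c := by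
    intro x hx m hm c hc hc2
    obtain ⟨z, hz, hzΦ⟩ := hsqΦ x hx m hm
    rw [← hz]
    exact h.comm_frattini_part hP H hc hc2 (h.mem_frattini_part hP H hrel hzΦ)
  have hgood : h.fixPart H = ⊤ → ∃ m ∈ img hS H, m = nA ∨ m = nB ∨ m = nC ∨ m = om ∨ m = om' :=
    fun ht => exists_good (small2_of_card _ (hsize ht))
  have hsquares : (∀ c ∈ Subgroup.centralizer (A : Set P), ∀ d ∈ Subgroup.centralizer (A : Set P),
      c * d = d * c) → ∀ (x : P), x ∈ H → ∀ m, Rel K x m →
        ∃ d0 ∈ Subgroup.centralizer (A : Set P), x ^ 2 = d0 ^ 2 := by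
    intro hC x hx m hm
    obtain ⟨z, hz, hzΦ⟩ := hsqΦ x hx m hm
    letI : CommGroup D := { (inferInstance : Group D) with
      mul_comm := fun a b => Subtype.ext (Subtype.ext
        (hC _ (Subgroup.mem_subgroupOf.1 a.2) _ (Subgroup.mem_subgroupOf.1 b.2))) }
    haveI : (powMonoidHom 2 : D →* D).range.Normal := ⟨fun n hn g => by
      rwa [mul_comm g n, mul_inv_cancel_right]⟩
    have hle : frattini D ≤ (powMonoidHom 2 : D →* D).range :=
      Agent.Grp.frattini_le_of_elementary Nat.prime_two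
        (by
          rw [commutator_def, Subgroup.commutator_le]
          intro a _ b _
          rw [commutatorElement_eq_one_iff_mul_comm.2 (mul_comm a b)]
          exact Subgroup.one_mem _)
        fun d => ⟨d, rfl⟩
    obtain ⟨d, hd⟩ := hle (h.mem_frattini_part hP H hrel hzΦ)
    refine ⟨((d : H) : P), Subgroup.mem_subgroupOf.1 d.2, ?_⟩
    rw [← hz, ← hd]
    rfl
  by_cases hCA : Subgroup.centralizer (A : Set P) ≤ A
  · -- the centralizer is `A`
    obtain ⟨Q, hQ⟩ := exists_Q hS hCA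
    have hq0 : ∀ m ∈ img hS H, Q m = 0 := by
      rintro m ⟨x, hx, hm⟩
      obtain ⟨d0, hd0, hd2⟩ := hsquares (fun c hc d hd => h.comm c (hCA hc) d (hCA hd)) x hx m hm
      have h1 := hQ x m hm
      rw [hd2, ← pow_mul, h.exp _ (hCA hd0)] at h1
      exact K.em_eq_one.1 h1.symm
    have hAnot : nA ∉ img hS H := fun hmem => by
      obtain ⟨x, hx, hm⟩ := hmem
      exact Q_ne_zero hP hE hS hCA hQ hm (Or.inl rfl) (fun _ c _ => cj_nA c) (hq0 _ ⟨x, hx, hm⟩)
    have ht : h.fixPart H = ⊤ := by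
      by_contra hh
      exact hAnot (hnA hh).1
    have hsm := small2_of_card _ (hsize ht)
    -- some conjugation moves the image
    obtain ⟨g, hg⟩ : ∃ g : P, ∀ v, g * K.em v * g⁻¹ = K.em (sg 1 v) := by
      by_contra hcon
      push Not at hcon
      obtain ⟨m, hmS, hm⟩ := hgood ht
      obtain ⟨x, hx, hxm⟩ := hmS
      refine Q_ne_zero hP hE hS hCA hQ hxm hm (fun g c hc => ?_) (hq0 _ ⟨x, hx, hxm⟩)
      rcases z2_cases c with rfl | rfl
      · exact cj_zero m
      · obtain ⟨v, hv⟩ := hcon g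
        exact absurd (hc v) hv
    obtain ⟨m0, hm0, hm0'⟩ : ∃ m ∈ img hS H, cj 1 m ∉ img hS H := by
      by_contra hcon
      push Not at hcon
      exact hAnot (nA_mem_of_invariant hsm hcon)
    have hall : ∀ m : Mat2, ∃ x, Rel K x m := by
      intro m
      by_cases hm : m ∈ img hS H
      · obtain ⟨x, _, hx⟩ := hm
        exact ⟨x, hx⟩
      obtain ⟨x, _, hx⟩ := hm0
      obtain ⟨y, _, hy⟩ := hsm m (cj 1 m0) hm hm0'
      refine ⟨y * (g * x * g⁻¹), ?_⟩
      have h1 := hy.mul (hx.conj hg)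
      rwa [add_assoc, mat_add_self, add_zero] at h1
    obtain ⟨eA, eB, eC, hadd, hunit⟩ := Q_values hP hE hS hCA hQ hall
    obtain ⟨hA', -, -, ho⟩ := avoid_all hsm hAnot
      (fun hh => vec_ne.1 (eB.symm.trans (hq0 _ hh)))
      (fun hh => vec_ne.2 (eC.symm.trans (hq0 _ hh)))
    have hfinal : ∀ o : Mat2, (o = om ∨ o = om') → o ∈ img hS H → False := by
      intro o ho hoS
      have hM0 := hq0 _ ((img hS H).add_mem hoS hA')
      have hQo := hunit o (Or.inr (Or.inr (Or.inr (Or.inr ho))))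
      have hQo' : Q (one2 + o) = 0 := by
        rcases ho with rfl | rfl
        · rw [unit_one.1]; exact hunit om' (Or.inr (Or.inr (Or.inr (Or.inr (Or.inr rfl)))))
        · rw [unit_one.2.1]; exact hunit om (Or.inr (Or.inr (Or.inr (Or.inr (Or.inl rfl)))))
      have h1 := hadd o (one2 + nA)
      rw [hQo', hQo, hunit (one2 + nA) (Or.inr (Or.inl rfl)), hM0,
        nA_of_two, eA, shift_one, add_zero, add_zero, zero_add] at h1
      obtain ⟨y, hy⟩ := hall (o + nA)
      have h2 := Q_kill hCA hQ hy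
      rw [h1] at h2
      rcases ho with rfl | rfl
      · exact final_clash.1 h2
      · exact final_clash.2 h2
    rcases ho with ho | ho
    · exact hfinal om (Or.inl rfl) ho
    · exact hfinal om' (Or.inr rfl) ho
  · -- the centralizer is larger
    obtain ⟨c, hc, hcA⟩ := SetLike.not_le_iff_exists.1 hCA
    obtain ⟨e, heA, he2⟩ := exists_outside hP hc hcA
    set u := c ^ 2 ^ e
    have huC : u ∈ Subgroup.centralizer (A : Set P) := Subgroup.pow_mem _ hc _
    have hrelation : ∀ m ∈ img hS H, ∀ (b : P), b ∈ Subgroup.centralizer (A : Set P) → b ^ 2 ∈ A →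
        ∀ l, b ^ 4 = K.em l → ap m l + ap m (ap m l) = 0 := by
      rintro m ⟨x, hx, hm⟩ b hb hb2 l hl
      have h1 := hm.square_action hP hb hb2 hl
      rw [← hcommsq x hx m hm b hb hb2, mul_inv_cancel_right, left_eq_mul, K.em_eq_one] at h1
      exact h1
    obtain ⟨m, hmS, hm3, hHn⟩ : ∃ m ∈ img hS H, (m = nA ∨ m = nB ∨ m = nC) ∧
        (h.fixPart H = ⊤ ∨ m = nA) := by
      by_cases ht : h.fixPart H = ⊤
      · obtain ⟨m, hmS, hm⟩ := hgood ht
        have hno : ¬ (m = om ∨ m = om') := fun ho => by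
          obtain ⟨x, _, hx⟩ := hmS
          exact hCA (cent_le_of_order_three hP hx ho)
        refine ⟨m, hmS, ?_, Or.inl ht⟩
        rcases hm with hm | hm | hm | hm | hm
        · exact Or.inl hm
        · exact Or.inr (Or.inl hm)
        · exact Or.inr (Or.inr hm)
        · exact absurd (Or.inl hm) hno
        · exact absurd (Or.inr hm) hno
      · exact ⟨nA, (hnA ht).1, Or.inl rfl, Or.inr rfl⟩
    have hker : ∀ (b : P), b ∈ Subgroup.centralizer (A : Set P) → b ^ 2 ∈ A →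
        ∀ l, b ^ 4 = K.em l → ap m l = 0 := fun b hb hb2 l hl =>
      nil_line m hm3 l (hrelation m hmS b hb hb2 l hl)
    have hline : ∀ l l' : Vec, l ≠ 0 → l' ≠ 0 → ap m l = 0 → ap m l' = 0 → l = l' := by
      intro l l' h0 h0' hl hl'
      rcases hm3 with rfl | rfl | rfl
      · exact (((kernels l).1 hl).resolve_left h0).trans (((kernels l').1 hl').resolve_left h0').symm
      · exact (((kernels l).2.1 hl).resolve_left h0).trans (((kernels l').2.1 hl').resolve_left h0').symm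
      · exact (((kernels l).2.2 hl).resolve_left h0).trans (((kernels l').2.2 hl').resolve_left h0').symm
    have hC := cent_abelian h hP (fun b hb d hd hbA hdA hb2 hd2 => by
      obtain ⟨l, hl, hl0⟩ := em_outside (K := K) hb hbA hb2
      obtain ⟨l', hl', hl0'⟩ := em_outside (K := K) hd hdA hd2
      rw [hl, hl', hline l l' hl0 hl0' (hker b hb hb2 l hl) (hker d hd hd2 l' hl')])
    obtain ⟨l, hl, hl0⟩ := em_outside (K := K) huC heA he2
    have hfix : ∀ (g : P) (z : ZMod 2), (∀ v, g * K.em v * g⁻¹ = K.em (sg z v)) → cj z m = m := by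
      intro g z hz
      have hconj : (g * u * g⁻¹) ^ 4 = K.em (sg z l) := by rw [conj_pow, hl, hz]
      have hc2 : (g * u * g⁻¹) ^ 2 ∈ A := by rw [conj_pow]; exact h.normal.conj_mem _ he2 g
      have h1 := hker _ (h.cent_conj huC g) hc2 _ hconj
      have hne : sg z l ≠ 0 := fun hh => hl0 (by
        have := congrArg (sg z) hh
        rwa [sg_sg, show sg z 0 = 0 by simp [sg]] at this)
      exact nil_fixed m hm3 l hl0 (hker u huC he2 l hl) z
        (hline _ _ hne hl0 h1 (hker u huC he2 l hl))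
    obtain ⟨x, hx, hxm⟩ := hmS
    obtain ⟨d0, hd0, hd2⟩ := hsquares hC x hx m hxm
    exact key_fixed hP hE hS hC hxm (hm3.imp_right fun hh => hh.imp_right Or.inl) hfix hd0 hd2

theorem exists_max4 (hP : IsPGroup 2 P)
    (hsmall : ∀ B : Subgroup P, B.Normal → IsMulCommutative B → (∀ b ∈ B, b ^ 2 = 1) → Nat.card B ≤ 4) :
    ∃ A : Subgroup P, Max4 A := by
  have hbot : (⊥ : Subgroup P).Normal ∧ IsMulCommutative (⊥ : Subgroup P) ∧
      ∀ b ∈ (⊥ : Subgroup P), b ^ 2 ^ 2 = 1 :=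
    ⟨inferInstance, ⟨⟨fun a b => Subsingleton.elim _ _⟩⟩, fun b hb => by
      rw [Subgroup.mem_bot.1 hb, one_pow]⟩
  obtain ⟨A, -, ⟨hn, hc, he⟩, hmax⟩ := Finite.exists_le_maximal
    (p := fun B : Subgroup P => B.Normal ∧ IsMulCommutative B ∧ ∀ b ∈ B, b ^ 2 ^ 2 = 1)
    (a := ⊥) hbot
  haveI := hn
  exact ⟨A, hn, fun a ha b hb => congrArg Subtype.val (hc.1.1 ⟨a, ha⟩ ⟨b, hb⟩), fun a ha => he a ha,
    fun x hx hx4 => Transfer.MaxAbelianExponent.mem_of_max hP 2 (by norm_num) A hc he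
      (fun B hBn hBc hBe hle => le_antisymm (hmax ⟨hBn, hBc, hBe⟩ hle) hle) x hx hx4, hsmall⟩

theorem pair_spans : ∀ v w : Vec, v ≠ 0 → w ≠ 0 → v ≠ w → ∀ u : Vec,
    u = 0 ∨ u = v ∨ u = w ∨ u = v + w := by decide

theorem sectional_rank (hP : IsPGroup 2 P)
    (hsmall : ∀ B : Subgroup P, B.Normal → IsMulCommutative B → (∀ b ∈ B, b ^ 2 = 1) → Nat.card B ≤ 4) :
    Cfsg.SectionalPRankLE 2 4 P := by
  obtain ⟨A, h⟩ := exists_max4 hP hsmall
  refine sectional_of_frattini fun H => ?_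
  by_cases hone : ∀ a ∈ A, ∀ b ∈ A, a ^ 2 ≠ 1 → b ^ 2 ≠ 1 → a ^ 2 = b ^ 2
  · exact h.frattini_index_le_of_one_square hP hone H
  push Not at hone
  obtain ⟨a, ha, b, hb, ha1, hb1, hab⟩ := hone
  have hE : Nat.card h.E = 4 := by
    have h2 : 3 ≤ Nat.card h.E := by
      let T : Fin 3 → h.E := ![1, ⟨_, h.sq_mem_E ha⟩, ⟨_, h.sq_mem_E hb⟩]
      have hT : Function.Injective T := by
        intro i j hij
        have := congrArg (fun z : h.E => (z : P)) hij
        fin_cases i <;> fin_cases j <;> simp [T] at this ⊢ <;>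
          first | exact absurd this ha1 | exact absurd this.symm ha1 | exact absurd this hb1 |
            exact absurd this.symm hb1 | exact absurd this hab | exact absurd this.symm hab
      simpa using Nat.card_le_card_of_injective T hT
    obtain ⟨k, hk⟩ := two_pow_of_dvd hP (Subgroup.card_subgroup_dvd_card h.E)
    have h4 := h.card_E_le
    rcases k with _ | _ | _ | k
    · omega
    · omega
    · exact hk
    · have : 2 ^ 3 ≤ 2 ^ (k + 3) := Nat.pow_le_pow_right (by norm_num) (by omega)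
      omega
  obtain ⟨K⟩ := exists_coord hP h hE
  obtain ⟨v, hv⟩ := K.em_surj _ (h.sq_mem_E ha)
  obtain ⟨w, hw⟩ := K.em_surj _ (h.sq_mem_E hb)
  have hv0 : v ≠ 0 := fun h0 => ha1 (by rw [← hv, h0, K.em_zero])
  have hw0 : w ≠ 0 := fun h0 => hb1 (by rw [← hw, h0, K.em_zero])
  have hvw : v ≠ w := fun h0 => hab (by rw [← hv, ← hw, h0])
  refine frattini_index_le_of_sq (K := K) hP hE (fun u => ?_) H
  rcases pair_spans v w hv0 hw0 hvw u with rfl | rfl | rfl | rfl
  · exact ⟨1, A.one_mem, by rw [one_pow, K.em_zero]⟩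
  · exact ⟨a, ha, hv.symm⟩
  · exact ⟨b, hb, hw.symm⟩
  · exact ⟨a * b, A.mul_mem ha hb, by
      rw [(show Commute a b from h.comm a ha b hb).mul_pow, K.em_add, hv, hw]⟩

end Cfsg.Agent.Char.FourGen
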