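import Cfsg.Agent.Lib.Char.FourInvolutions
import Cfsg.Agent.Lib.Grp.CocyclicGeneration
import Cfsg.Agent.Lib.Fus.CaminaPairBasic
import Cfsg.Agent.Lib.Transfer.Elements

/-!
Generation of the fixed points of a subgroup of an abelian 2-group of operators on a group of odd
order, without any solvability assumption.
-/

namespace Cfsg.Agent.Char.FourInv

open scoped commutatorElement
open Cfsg Cfsg.Agent.Grp

set_option linter.unusedSectionVars false
set_option linter.style.haveILetI false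

universe u

/-- The homomorphism from the Klein four group given by two commuting involutions. -/
def kleinHom {M : Type*} [Monoid M] {x y : M} (hx : x * x = 1) (hy : y * y = 1)
    (hxy : x * y = y * x) : Multiplicative (ZMod 2 × ZMod 2) →* M where
  toFun u := x ^ (Multiplicative.toAdd u).1.val * y ^ (Multiplicative.toAdd u).2.val
  map_one' := by simp
  map_mul' u v := by
    simp only [toAdd_mul, Prod.fst_add, Prod.snd_add, ZMod.val_add]
    rw [← pow_eq_pow_mod _ (by rw [pow_two]; exact hx : x ^ 2 = 1),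
      ← pow_eq_pow_mod _ (by rw [pow_two]; exact hy : y ^ 2 = 1), pow_add, pow_add,
      mul_assoc (x ^ _) (x ^ _), ← mul_assoc (x ^ (Multiplicative.toAdd v).1.val),
      ((show Commute x y from hxy).pow_pow _ _).eq]
    simp only [mul_assoc]

theorem inr_mul_inl {N K : Type*} [Group N] [Group K] {φ : K →* MulAut N} (u : K) (y : N) :
    SemidirectProduct.inr u * SemidirectProduct.inl y * (SemidirectProduct.inr u)⁻¹ =
      (SemidirectProduct.inl (φ u y) : N ⋊[φ] K) := by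
  rw [SemidirectProduct.inl_aut]
  simp

variable {G : Type u} [Group G]

/-- The four involution lemma for two commuting operators whose squares act trivially. -/
theorem le_sup_inf' [Finite G] {Y : Subgroup G} (hodd : Odd (Nat.card Y)) {e f : G}
    (heN : e ∈ Subgroup.normalizer (Y : Set G)) (hfN : f ∈ Subgroup.normalizer (Y : Set G))
    (hef : e * f = f * e) (he2 : ∀ y ∈ Y, e * e * y = y * (e * e))
    (hf2 : ∀ y ∈ Y, f * f * y = y * (f * f)) {C Na Nb Nc : Subgroup G}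
    (hC : ∀ x, x ∈ C ↔ x ∈ Y ∧ x * e = e * x ∧ x * f = f * x)
    (Ga : Good Y e f C Na) (Gb : Good Y f (e * f) C Nb) (Gc : Good Y (e * f) e C Nc)
    (hgen : Y ≤ Na ⊔ Nb ⊔ Nc) : C ≤ Na ⊓ C ⊔ Nb ⊓ C ⊔ Nc ⊓ C := by
  classical
  have hCY : C ≤ Y := fun x hx => ((hC x).1 hx).1
  have hYa : Na ≤ Y := Ga.le.trans inf_le_left
  have hYb : Nb ≤ Y := Gb.le.trans inf_le_left
  have hYc : Nc ≤ Y := Gc.le.trans inf_le_left
  let ν := Subgroup.normalizerMonoidHom Y
  set α : MulAut Y := ν ⟨e, heN⟩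
  set β : MulAut Y := ν ⟨f, hfN⟩
  have hα : ∀ y : Y, ((α y : Y) : G) = e * y * e⁻¹ := fun y => rfl
  have hβ : ∀ y : Y, ((β y : Y) : G) = f * y * f⁻¹ := fun y => rfl
  have hαα : α * α = 1 := MulEquiv.ext fun y => Subtype.ext (by
    show e * (e * (y : G) * e⁻¹) * e⁻¹ = y
    calc e * (e * (y : G) * e⁻¹) * e⁻¹ = e * e * y * (e * e)⁻¹ := by group
      _ = _ := by rw [he2 y y.2, mul_inv_cancel_right])
  have hββ : β * β = 1 := MulEquiv.ext fun y => Subtype.ext (by
    show f * (f * (y : G) * f⁻¹) * f⁻¹ = y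
    calc f * (f * (y : G) * f⁻¹) * f⁻¹ = f * f * y * (f * f)⁻¹ := by group
      _ = _ := by rw [hf2 y y.2, mul_inv_cancel_right])
  have hαβ : α * β = β * α := by
    rw [← map_mul, ← map_mul]
    exact congrArg ν (Subtype.ext hef)
  set φ := kleinHom hαα hββ hαβ
  let Γ := Y ⋊[φ] Multiplicative (ZMod 2 × ZMod 2)
  let ua : Multiplicative (ZMod 2 × ZMod 2) := Multiplicative.ofAdd (1, 0)
  let ub : Multiplicative (ZMod 2 × ZMod 2) := Multiplicative.ofAdd (0, 1)
  have hua : ∀ y : Y, ((φ ua y : Y) : G) = e * y * e⁻¹ := fun y => by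
    have h : φ ua = α := by simp [φ, kleinHom, ua, ZMod.val_one]
    rw [h]; exact hα y
  have hub : ∀ y : Y, ((φ ub y : Y) : G) = f * y * f⁻¹ := fun y => by
    have h : φ ub = β := by simp [φ, kleinHom, ub, ZMod.val_one]
    rw [h]; exact hβ y
  have huc : ∀ y : Y, ((φ (ua * ub) y : Y) : G) = (e * f) * y * (e * f)⁻¹ := fun y => by
    rw [map_mul]
    show ((φ ua (φ ub y) : Y) : G) = _
    rw [hua, hub]; group
  haveI : Finite Γ := Finite.of_equiv _ SemidirectProduct.equivProd.symm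
  let ι : Y →* Γ := SemidirectProduct.inl
  let Y' : Subgroup Γ := ι.range
  haveI : Y'.Normal := by
    rw [show Y' = _ from SemidirectProduct.range_inl_eq_ker_rightHom]
    infer_instance
  have hidx : Y'.index = 4 := by
    rw [show Y' = _ from SemidirectProduct.range_inl_eq_ker_rightHom, Subgroup.index_ker,
      MonoidHom.range_eq_top.2 SemidirectProduct.rightHom_surjective, Subgroup.card_top]
    simp [Nat.card_eq_fintype_card]
  have hodd' : Odd (Nat.card Y') := by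
    rw [← Nat.card_congr (MonoidHom.ofInjective SemidirectProduct.inl_injective).toEquiv]
    exact hodd
  have hnot : ∀ u : Multiplicative (ZMod 2 × ZMod 2), u ≠ 1 →
      (SemidirectProduct.inr u : Γ) ∉ Y' := fun u hu h => by
    obtain ⟨y, hy⟩ := h
    exact hu (congrArg SemidirectProduct.right hy).symm
  let tr : Subgroup G → Subgroup Γ := fun P => (P.subgroupOf Y).map ι
  have hmem : ∀ (P : Subgroup G) (y : Y), ι y ∈ tr P ↔ (y : G) ∈ P := fun P y => by
    rw [show tr P = (P.subgroupOf Y).map ι from rfl,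
      Subgroup.mem_map_iff_mem SemidirectProduct.inl_injective]
    rfl
  have hex : ∀ {P : Subgroup G} {x : Γ}, x ∈ tr P → ∃ y : Y, (y : G) ∈ P ∧ x = ι y := by
    rintro P x ⟨y, hy, rfl⟩
    exact ⟨y, hy, rfl⟩
  have hcomm : ∀ (u : Multiplicative (ZMod 2 × ZMod 2)) (g : G),
      (∀ y : Y, ((φ u y : Y) : G) = g * y * g⁻¹) → ∀ y : Y,
      (ι y * SemidirectProduct.inr u = SemidirectProduct.inr u * ι y ↔ (y : G) * g = g * y) := by
    intro u g hu y
    have h1 : (SemidirectProduct.inr u : Γ) * ι y = ι (φ u y) * SemidirectProduct.inr u := by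
      rw [show ι (φ u y) = SemidirectProduct.inr u * ι y * (SemidirectProduct.inr u)⁻¹ from
        (inr_mul_inl u y).symm, inv_mul_cancel_right]
    rw [h1, mul_left_inj, (SemidirectProduct.inl_injective (φ := φ)).eq_iff, Subtype.ext_iff, hu,
      eq_mul_inv_iff_mul_eq]
  have hgood : ∀ (u v : Multiplicative (ZMod 2 × ZMod 2)) (g k : G) (N : Subgroup G),
      (∀ y : Y, ((φ u y : Y) : G) = g * y * g⁻¹) → (∀ y : Y, ((φ v y : Y) : G) = k * y * k⁻¹) →
      Good Y g k C N → N ≤ Y →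
      Good Y' (SemidirectProduct.inr u) (SemidirectProduct.inr v) (tr C) (tr N) := by
    intro u v g k N hu hv hG hNY
    have hcy : ∀ y : Y, ι y ∈ cY Y' (SemidirectProduct.inr u) ↔ (y : G) ∈ cY Y g := fun y => by
      rw [mem_cY, mem_cY, hcomm u g hu]
      exact ⟨fun h => ⟨y.2, h.2⟩, fun h => ⟨⟨y, rfl⟩, h.2⟩⟩
    refine ⟨fun x hx => ?_, fun x hx n hn => ?_, fun n hn => ?_, fun x hx => ?_, fun x hx h => ?_⟩
    · obtain ⟨y, hy, rfl⟩ := hex hx
      exact (hcy y).2 (hG.le hy)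
    · obtain ⟨y, rfl⟩ := (mem_cY.1 hx).1
      obtain ⟨z, hz, rfl⟩ := hex hn
      rw [← map_mul, ← map_inv, ← map_mul, hmem]
      exact hG.norm _ ((hcy y).1 hx) _ hz
    · obtain ⟨z, hz, rfl⟩ := hex hn
      rw [show (SemidirectProduct.inr v : Γ) * ι z * (SemidirectProduct.inr v)⁻¹ = ι (φ v z) from
        inr_mul_inl v z, hmem, hv]
      exact hG.stable _ hz
    · obtain ⟨y, rfl⟩ := (mem_cY.1 hx).1
      obtain ⟨n, hn, c, hc, hync⟩ := hG.cover _ ((hcy y).1 hx)
      refine ⟨ι ⟨n, hNY hn⟩, (hmem _ _).2 hn, ι ⟨c, hCY hc⟩, (hmem _ _).2 hc, ?_⟩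
      rw [← map_mul]
      exact congrArg ι (Subtype.ext hync)
    · obtain ⟨y, rfl⟩ := (mem_cY.1 hx).1
      rw [show (SemidirectProduct.inr v : Γ) * ι y * (SemidirectProduct.inr v)⁻¹ = ι (φ v y) from
        inr_mul_inl v y, ← map_inv, (SemidirectProduct.inl_injective (φ := φ)).eq_iff,
        Subtype.ext_iff, hv] at h
      exact (hmem _ _).2 (hG.inverted _ ((hcy y).1 hx) h)
  have hC' : ∀ x, x ∈ tr C ↔ x ∈ Y' ∧
      x * SemidirectProduct.inr ua = SemidirectProduct.inr ua * x ∧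
      x * SemidirectProduct.inr ub = SemidirectProduct.inr ub * x := by
    intro x
    constructor
    · intro hx
      obtain ⟨y, hy, rfl⟩ := hex hx
      exact ⟨⟨y, rfl⟩, (hcomm ua e hua y).2 ((hC _).1 hy).2.1,
        (hcomm ub f hub y).2 ((hC _).1 hy).2.2⟩
    · rintro ⟨⟨y, rfl⟩, h1, h2⟩
      exact (hmem C y).2 ((hC _).2 ⟨y.2, (hcomm ua e hua y).1 h1, (hcomm ub f hub y).1 h2⟩)
  have hne1 : ua ≠ 1 := by decide
  have hne2 : ub ≠ 1 := by decide
  have hne3 : ua * ub ≠ 1 := by decide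
  have hsq : ∀ u : Multiplicative (ZMod 2 × ZMod 2),
      (SemidirectProduct.inr u : Γ) * SemidirectProduct.inr u = 1 := fun u => by
    rw [← map_mul, show u * u = 1 by revert u; decide, map_one]
  have key := le_sup_inf hodd' hidx (hsq ua) (hsq ub)
    ((Commute.all ua ub).map SemidirectProduct.inr).eq (hnot _ hne1) (hnot _ hne2)
    (by rw [← map_mul (SemidirectProduct.inr : _ →* Γ) ua ub]; exact hnot _ hne3) hC'
    (hgood ua ub e f Na hua hub Ga hYa)
    (by rw [← map_mul (SemidirectProduct.inr : _ →* Γ) ua ub]; exact hgood ub (ua * ub) f (e * f) Nb hub huc Gb hYb)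
    (by rw [← map_mul (SemidirectProduct.inr : _ →* Γ) ua ub]; exact hgood (ua * ub) ua (e * f) e Nc huc hua Gc hYc)
    (by
      rintro _ ⟨y, rfl⟩
      have h : y ∈ (Na ⊔ Nb ⊔ Nc).subgroupOf Y := hgen y.2
      rw [Subgroup.subgroupOf_sup (sup_le hYa hYb) hYc, Subgroup.subgroupOf_sup hYa hYb] at h
      have h2 := Subgroup.mem_map_of_mem ι h
      rwa [Subgroup.map_sup, Subgroup.map_sup] at h2)
  intro x hx
  have hle : ∀ N : Subgroup G, tr N ⊓ tr C ≤ tr (N ⊓ C) := by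
    rintro N z ⟨hzN, hzC⟩
    obtain ⟨y, hy, rfl⟩ := hex hzN
    exact (hmem _ _).2 ⟨hy, (hmem C y).1 hzC⟩
  have h1 := key ((hmem C ⟨x, hCY hx⟩).2 hx)
  have h2 : ι ⟨x, hCY hx⟩ ∈ tr (Na ⊓ C) ⊔ tr (Nb ⊓ C) ⊔ tr (Nc ⊓ C) :=
    sup_le_sup (sup_le_sup (hle _) (hle _)) (hle _) h1
  simp only [tr, ← Subgroup.map_sup, ← Subgroup.subgroupOf_sup (inf_le_left.trans hYa)
    (inf_le_left.trans hYb), ← Subgroup.subgroupOf_sup
    (sup_le (inf_le_left.trans hYa) (inf_le_left.trans hYb)) (inf_le_left.trans hYc)] at h2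
  exact Subgroup.mem_subgroupOf.1 ((Subgroup.mem_map_iff_mem SemidirectProduct.inl_injective).1 h2)

/-- Fixed points in a product of two invariant subgroups. -/
theorem fixed_sup_le [Finite G] (B P Q : Subgroup G) (hsolv : Group.IsSolvable B)
    (hBP : B ≤ Subgroup.normalizer (P : Set G)) (hBQ : B ≤ Subgroup.normalizer (Q : Set G))
    (hPQ : P ≤ Subgroup.normalizer (Q : Set G)) (hcop : (Nat.card B).Coprime (Nat.card P)) :
    (P ⊔ Q) ⊓ Subgroup.centralizer (B : Set G) ≤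
      P ⊓ Subgroup.centralizer (B : Set G) ⊔ Q ⊓ Subgroup.centralizer (B : Set G) := by
  rintro x ⟨hx, hxB⟩
  have hx' : x ∈ ((P ⊔ Q : Subgroup G) : Set G) := hx
  rw [Subgroup.coe_mul_of_left_le_normalizer_right P Q hPQ] at hx'
  obtain ⟨p, hp, q, hq, rfl⟩ := hx'
  simp only at hxB ⊢
  set N := P ⊓ Q
  have hN : ∀ {H : Subgroup G}, H ≤ Subgroup.normalizer (P : Set G) →
      H ≤ Subgroup.normalizer (Q : Set G) → H ≤ Subgroup.normalizer (N : Set G) :=
    fun hP hQ a ha => by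
      rw [mem_normalizer_iff_smul, Subgroup.smul_inf, normalizer_le_smul hP ha,
        normalizer_le_smul hQ ha]
  have hPN := hN Subgroup.le_normalizer hPQ
  obtain ⟨c, hc, hpc⟩ := exists_fixed_rep B P N hBP (inf_eq_bot_of_coprime hcop)
    (hcop.coprime_dvd_right (Subgroup.card_dvd_of_le inf_le_left)) (Or.inl hsolv) inf_le_left
    hPN (hN hBP hBQ) hp (fun b hb => by
      have h1 := Subgroup.mem_centralizer_iff.1 hxB b hb
      have h2 : p⁻¹ * (b * p * b⁻¹) = q * (b * q * b⁻¹)⁻¹ := by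
        calc p⁻¹ * (b * p * b⁻¹) = p⁻¹ * (b * (p * q) * b⁻¹) * (b * q * b⁻¹)⁻¹ := by group
          _ = _ := by rw [h1, mul_inv_cancel_right, inv_mul_cancel_left]
      have h3 : p⁻¹ * (b * p * b⁻¹) ∈ N :=
        ⟨P.mul_mem (P.inv_mem hp) (mem_conj_normalizer (hBP hb) hp),
          h2 ▸ Q.mul_mem hq (Q.inv_mem (mem_conj_normalizer (hBQ hb) hq))⟩
      have h4 := mem_conj_normalizer (hPN hp) h3
      convert h4 using 1
      group)
  have hq2 : c⁻¹ * (p * q) ∈ Q ⊓ Subgroup.centralizer (B : Set G) := by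
    refine ⟨?_, Subgroup.mul_mem _ (Subgroup.inv_mem _ hc.2) hxB⟩
    rw [show c⁻¹ * (p * q) = (p⁻¹ * c)⁻¹ * q by group]
    exact Q.mul_mem (Q.inv_mem hpc.2) hq
  rw [show p * q = c * (c⁻¹ * (p * q)) by group]
  exact Subgroup.mul_mem_sup hc hq2

/-- In a cyclic group there is at most one involution. -/
theorem eq_of_involutions {Q : Type*} [Group Q] [Finite Q] [IsCyclic Q] {x y : Q}
    (hx : x * x = 1) (hy : y * y = 1) (hx1 : x ≠ 1) (hy1 : y ≠ 1) : x = y := by
  classical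
  haveI := Fintype.ofFinite Q
  by_contra hne
  have h := IsCyclic.card_pow_eq_one_le (α := Q) (n := 2) two_pos
  have hsub : ({1, x, y} : Finset Q) ⊆ Finset.univ.filter fun a : Q => a ^ 2 = 1 := by
    intro a ha
    simp only [Finset.mem_insert, Finset.mem_singleton] at ha
    rcases ha with rfl | rfl | rfl <;> simp [pow_two, hx, hy]
  have h3 : ({1, x, y} : Finset Q).card = 3 :=
    Finset.card_eq_three.2 ⟨1, x, y, Ne.symm hx1, Ne.symm hy1, hne, rfl⟩
  have := Finset.card_le_card hsub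
  omega

/-- The subgroups of `B` with cyclic factor group carry the fixed points. -/
def cocRhs (A B Y : Subgroup G) : Subgroup G :=
  ⨆ B₀ : {B₀ : Subgroup G // B₀ ≤ B ∧ ∀ [(B₀.subgroupOf B).Normal],
    IsCyclic (↥B ⧸ B₀.subgroupOf B)},
    Y ⊓ Subgroup.centralizer (B : Set G) ⊓
      ⁅Y ⊓ Subgroup.centralizer ((B₀ : Subgroup G) : Set G), A⁆

theorem cocRhs_mono {A B Y Y' : Subgroup G} (h : Y ≤ Y') : cocRhs A B Y ≤ cocRhs A B Y' :=
  iSup_mono fun _ => inf_le_inf (inf_le_inf_right _ h)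
    (Subgroup.commutator_mono (inf_le_inf_right _ h) le_rfl)

theorem fixed_le_cocRhs [Finite G] {A B : Subgroup G} (hA2 : IsPGroup 2 A)
    (hAc : IsMulCommutative A) (hB : B ≤ A) (k : ℕ) :
    ∀ Y : Subgroup G, Nat.card Y = k → Odd (Nat.card Y) →
      A ≤ Subgroup.normalizer (Y : Set G) → Y ≤ ⁅Y, A⁆ →
      Y ⊓ Subgroup.centralizer (B : Set G) ≤ cocRhs A B Y := by
  induction k using Nat.strong_induction_on with
  | _ k ih =>
  intro Y hk hodd hAY hYA
  classical
  have hcomm : ∀ a ∈ A, ∀ b ∈ A, a * b = b * a := fun a ha b hb =>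
    congrArg Subtype.val (mul_comm' (⟨a, ha⟩ : A) ⟨b, hb⟩)
  have hsolvA : Group.IsSolvable A := Group.isSolvable_of_comm mul_comm'
  obtain ⟨nA, hnA⟩ := IsPGroup.iff_card.1 hA2
  have hcop : ∀ H : Subgroup G, H ≤ Y → (Nat.card A).Coprime (Nat.card H) := fun H hH => by
    rw [hnA]
    exact Nat.Coprime.pow_left _ (hodd.of_dvd_nat (Subgroup.card_dvd_of_le hH)).coprime_two_left
  set K := B ⊓ Subgroup.centralizer (Y : Set G)
  have hKn : (K.subgroupOf B).Normal := ⟨fun n hn g => by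
    have : g * n * g⁻¹ = n := by
      rw [show g * n = n * g from Subtype.ext (hcomm _ (hB g.2) _ (hB n.2)), mul_inv_cancel_right]
    rwa [this]⟩
  by_cases hcyc : IsCyclic (↥B ⧸ K.subgroupOf B)
  · refine le_trans ?_ (le_iSup (fun B₀ : {B₀ : Subgroup G // B₀ ≤ B ∧
      ∀ [(B₀.subgroupOf B).Normal], IsCyclic (↥B ⧸ B₀.subgroupOf B)} =>
        Y ⊓ Subgroup.centralizer (B : Set G) ⊓
          ⁅Y ⊓ Subgroup.centralizer ((B₀ : Subgroup G) : Set G), A⁆) ⟨K, inf_le_left, hcyc⟩)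
    refine le_inf le_rfl (inf_le_left.trans (hYA.trans (Subgroup.commutator_mono ?_ le_rfl)))
    exact le_inf le_rfl (Subgroup.le_centralizer_iff.1 inf_le_right)
  obtain ⟨e, f, he, hf, he2, hf2, he1, hf1, hef1⟩ : ∃ e f : G, e ∈ B ∧ f ∈ B ∧ e * e ∈ K ∧
      f * f ∈ K ∧ e ∉ K ∧ f ∉ K ∧ e * f ∉ K := by
    haveI := hKn
    letI : CommGroup (↥B ⧸ K.subgroupOf B) :=
      { (inferInstance : Group (↥B ⧸ K.subgroupOf B)) with
        mul_comm := fun a b => by
          obtain ⟨a, rfl⟩ := QuotientGroup.mk_surjective a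
          obtain ⟨b, rfl⟩ := QuotientGroup.mk_surjective b
          rw [← QuotientGroup.mk_mul, ← QuotientGroup.mk_mul,
            show a * b = b * a from Subtype.ext (hcomm _ (hB a.2) _ (hB b.2))] }
    haveI : Fact (Nat.Prime 2) := ⟨Nat.prime_two⟩
    by_contra hno
    push Not at hno
    refine hcyc (Cfsg.Agent.Fus.isCyclic_of_unique_order_prime ((hA2.to_le hB).to_quotient _) fun a b ha hb ha1 =>
      ?_)
    obtain ⟨a, rfl⟩ := QuotientGroup.mk_surjective a
    obtain ⟨b, rfl⟩ := QuotientGroup.mk_surjective b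
    have hK : ∀ x : B, (x : ↥B ⧸ K.subgroupOf B) = 1 ↔ (x : G) ∈ K := fun x => by
      rw [QuotientGroup.eq_one_iff, Subgroup.mem_subgroupOf]
    by_contra hb1
    have h1 : (b : ↥B ⧸ K.subgroupOf B) ≠ 1 := fun h => hb1 (h ▸ one_mem _)
    rw [pow_two, ← QuotientGroup.mk_mul, hK] at ha hb
    rw [Ne, hK] at ha1 h1
    have hab := hno a b a.2 b.2 ha hb ha1 h1
    rw [← Subgroup.coe_mul, ← hK, QuotientGroup.mk_mul, mul_eq_one_iff_eq_inv'] at hab
    exact hb1 (hab ▸ inv_mem (Subgroup.mem_zpowers _))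
  have hcen : ∀ x : G, x ∈ B → x ∉ K → ¬ Y ≤ Subgroup.centralizer {x} := fun x hxB hxK h => hxK
    ⟨hxB, Subgroup.mem_centralizer_iff.2 fun y hy =>
      (Subgroup.mem_centralizer_singleton_iff.1 (h hy))⟩
  have hfix : ∀ x ∈ A, A ≤ Subgroup.normalizer ((Y ⊓ Subgroup.centralizer {x} : Subgroup G) : Set G) :=
    fun x hx a ha => by
      rw [mem_normalizer_iff_smul, Subgroup.smul_inf, normalizer_le_smul hAY ha,
        conj_smul_eq_self_of_mem (Subgroup.mem_centralizer_singleton_iff.2 (hcomm a ha x hx))]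
  let Yx : G → Subgroup G := fun x => ⁅Y ⊓ Subgroup.centralizer {x}, A⁆
  have hYxle : ∀ x ∈ A, Yx x ≤ Y ⊓ Subgroup.centralizer {x} := fun x hx =>
    commutator_le_left_of_le_normalizer (hfix x hx)
  have hYxIH : ∀ x ∈ B, x ∉ K →
      Yx x ⊓ Subgroup.centralizer (B : Set G) ≤ cocRhs A B Y := fun x hxB hxK => by
    have hxA := hB hxB
    have hle := (hYxle x hxA).trans inf_le_left
    refine le_trans (ih (Nat.card (Yx x)) ?_ (Yx x) rfl
      (hodd.of_dvd_nat (Subgroup.card_dvd_of_le hle)) (right_le_normalizer_commutator A _)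
      (commutator_commutator_eq A _ (hfix x hxA) (hcop _ inf_le_left) (Or.inl hsolvA)).ge)
      (cocRhs_mono hle)
    rw [← hk]
    refine lt_of_le_of_ne (Subgroup.card_le_of_le hle) fun he' => hcen x hxB hxK ?_
    rw [← Subgroup.eq_of_le_of_card_ge hle he'.ge]
    exact (hYxle x hxA).trans inf_le_right
  set C := Y ⊓ Subgroup.centralizer {e} ⊓ Subgroup.centralizer {f}
  have hmemC : ∀ x, x ∈ C ↔ x ∈ Y ∧ x * e = e * x ∧ x * f = f * x := fun x => by
    simp [C, Subgroup.mem_inf, Subgroup.mem_centralizer_singleton_iff, and_assoc]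
  have hefA : e * f ∈ B := B.mul_mem he hf
  have hgood : ∀ x z : G, x ∈ B → z ∈ B → Good Y x z C (Yx x) := by
    intro x z hx hz
    refine ⟨hYxle x (hB hx), fun k hk n hn => mem_conj_normalizer
      (left_le_normalizer_commutator A _ hk) hn, fun n hn => mem_conj_normalizer
      (right_le_normalizer_commutator A _ (hB hz)) hn, fun k hk => ?_, fun k hk hki => ?_⟩
    · obtain ⟨m, hm, c, hc, hkmc⟩ := exists_commutator_mul_fixed A _ (hfix x (hB hx))
        (hcop _ inf_le_left) (Or.inl hsolvA) hk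
      exact ⟨m, hm, c, (hmemC c).2 ⟨hc.1.1, (Subgroup.mem_centralizer_iff.1 hc.2 e (hB he)).symm,
        (Subgroup.mem_centralizer_iff.1 hc.2 f (hB hf)).symm⟩, hkmc⟩
    · have h1 : ⁅k, z⁆ = k ^ 2 := by
        rw [commutatorElement_def, pow_two,
          show k * z * k⁻¹ * z⁻¹ = k * (z * k * z⁻¹)⁻¹ by group, hki, inv_inv]
      have h2 : k ^ 2 ∈ Yx x := h1 ▸ Subgroup.commutator_mem_commutator hk (hB hz)
      refine Cfsg.Agent.Transfer.mem_of_pow_mem h2 ?_
      refine Nat.Coprime.coprime_dvd_left ?_ hodd.coprime_two_right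
      rw [← Subgroup.orderOf_mk k hk.1]
      exact orderOf_dvd_natCard _
  have hgen : Y ≤ Yx e ⊔ Yx f ⊔ Yx (e * f) := by
    refine hYA.trans ?_
    rw [← Cocyclic.commutator_generation A Y hAY (hcop _ le_rfl)]
    refine iSup₂_le fun A' hA' => ?_
    obtain ⟨-, hA'A, a₀, ha₀, hA'a⟩ := hA'
    set D := A' ⊔ A ⊓ Subgroup.centralizer (Y : Set G)
    have hDA : D ≤ A := sup_le hA'A inf_le_left
    haveI : (D.subgroupOf A).Normal := ⟨fun n hn g => by
      rw [show g * n * g⁻¹ = n by rw [mul_comm' g n, mul_inv_cancel_right]]; exact hn⟩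
    haveI : IsCyclic (↥A ⧸ D.subgroupOf A) := by
      refine ⟨⟨((⟨a₀, ha₀⟩ : A) : ↥A ⧸ D.subgroupOf A), fun z => ?_⟩⟩
      obtain ⟨⟨z, hz⟩, rfl⟩ := QuotientGroup.mk_surjective z
      have hz' : z ∈ ((A' ⊔ Subgroup.zpowers a₀ : Subgroup G) : Set G) := by rwa [hA'a]
      rw [Subgroup.coe_mul_of_right_le_normalizer_left A' _ (Subgroup.zpowers_le.2
        (Subgroup.centralizer_le_normalizer _ (Subgroup.mem_centralizer_iff.2
          fun a ha => hcomm a (hA'A ha) a₀ ha₀)))] at hz'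
      obtain ⟨d, hd, w, hw, hdw⟩ := hz'
      obtain ⟨i, rfl⟩ := Subgroup.mem_zpowers_iff.1 hw
      refine ⟨i, ?_⟩
      show ((⟨a₀, ha₀⟩ : A) : ↥A ⧸ D.subgroupOf A) ^ i = _
      rw [← QuotientGroup.mk_zpow, QuotientGroup.eq, Subgroup.mem_subgroupOf]
      simp only [Subgroup.coe_mul, Subgroup.coe_inv, SubgroupClass.coe_zpow]
      rw [← hdw, show (a₀ ^ i)⁻¹ * (d * a₀ ^ i) = (a₀ ^ i)⁻¹ * d * ((a₀ ^ i)⁻¹)⁻¹ by group,
        hcomm _ (A.inv_mem (A.zpow_mem ha₀ i)) d (hA'A hd), mul_inv_cancel_right]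
      exact Subgroup.mem_sup_left hd
    obtain ⟨x, hxD, hx⟩ : ∃ x, x ∈ D ∧ (x = e ∨ x = f ∨ x = e * f) := by
      by_cases h1 : e ∈ D
      · exact ⟨e, h1, Or.inl rfl⟩
      by_cases h2 : f ∈ D
      · exact ⟨f, h2, Or.inr (Or.inl rfl)⟩
      refine ⟨e * f, ?_, Or.inr (Or.inr rfl)⟩
      have hmk : ∀ (z : G) (hz : z ∈ A),
          ((⟨z, hz⟩ : A) : ↥A ⧸ D.subgroupOf A) = 1 ↔ z ∈ D := fun z hz => by
        rw [QuotientGroup.eq_one_iff, Subgroup.mem_subgroupOf]
      have hKD : ∀ {z : G}, z ∈ K → z ∈ D := fun hz =>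
        Subgroup.mem_sup_right ⟨hB hz.1, hz.2⟩
      have h := eq_of_involutions (x := ((⟨e, hB he⟩ : A) : ↥A ⧸ D.subgroupOf A))
        (y := ((⟨f, hB hf⟩ : A) : ↥A ⧸ D.subgroupOf A))
        ((QuotientGroup.mk_mul _ _ _).symm.trans ((hmk _ (A.mul_mem (hB he) (hB he))).2 (hKD he2)))
        ((QuotientGroup.mk_mul _ _ _).symm.trans ((hmk _ (A.mul_mem (hB hf) (hB hf))).2 (hKD hf2)))
        (fun h => h1 ((hmk _ _).1 h)) (fun h => h2 ((hmk _ _).1 h))
      refine (hmk _ (A.mul_mem (hB he) (hB hf))).1 ?_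
      show (((⟨e, hB he⟩ * ⟨f, hB hf⟩ : A)) : ↥A ⧸ D.subgroupOf A) = 1
      rw [QuotientGroup.mk_mul, h, ← QuotientGroup.mk_mul]
      exact (hmk _ (A.mul_mem (hB hf) (hB hf))).2 (hKD hf2)
    have hsub : Y ⊓ Subgroup.centralizer (A' : Set G) ≤ Y ⊓ Subgroup.centralizer {x} := by
      refine le_inf inf_le_left ?_
      intro y hy
      have : D ≤ Subgroup.centralizer {y} := by
        refine sup_le (fun a ha => ?_) fun a ha => ?_
        · exact Subgroup.mem_centralizer_singleton_iff.2 (Subgroup.mem_centralizer_iff.1 hy.2 a ha)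
        · exact Subgroup.mem_centralizer_singleton_iff.2
            (Subgroup.mem_centralizer_iff.1 ha.2 y hy.1).symm
      exact Subgroup.mem_centralizer_singleton_iff.2
        (Subgroup.mem_centralizer_singleton_iff.1 (this hxD)).symm
    refine (Subgroup.commutator_mono hsub le_rfl).trans ?_
    rcases hx with rfl | rfl | rfl
    · exact le_sup_of_le_left le_sup_left
    · exact le_sup_of_le_left le_sup_right
    · exact le_sup_right
  have hsq : ∀ z ∈ K, ∀ y ∈ Y, z * y = y * z := fun z hz y hy =>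
    (Subgroup.mem_centralizer_iff.1 hz.2 y hy).symm
  have hmain := le_sup_inf' hodd (hAY (hB he)) (hAY (hB hf)) (hcomm _ (hB he) _ (hB hf))
    (hsq _ he2) (hsq _ hf2) hmemC (hgood e f he hf) (hgood f (e * f) hf hefA)
    (hgood (e * f) e hefA he) hgen
  set P := Yx e ⊓ C
  set Q := Yx f ⊓ C
  set S := Yx (e * f) ⊓ C
  have hAC : A ≤ Subgroup.normalizer (C : Set G) := fun a ha => by
    rw [mem_normalizer_iff_smul, Subgroup.smul_inf, Subgroup.smul_inf, normalizer_le_smul hAY ha,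
      conj_smul_eq_self_of_mem (Subgroup.mem_centralizer_singleton_iff.2 (hcomm a ha e (hB he))),
      conj_smul_eq_self_of_mem (Subgroup.mem_centralizer_singleton_iff.2 (hcomm a ha f (hB hf)))]
  have hinf : ∀ {H N : Subgroup G}, H ≤ Subgroup.normalizer (N : Set G) →
      H ≤ Subgroup.normalizer (C : Set G) → H ≤ Subgroup.normalizer ((N ⊓ C : Subgroup G) : Set G) :=
    fun hN hC' a ha => by
      rw [mem_normalizer_iff_smul, Subgroup.smul_inf, normalizer_le_smul hN ha,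
        normalizer_le_smul hC' ha]
  have hBn : ∀ x, B ≤ Subgroup.normalizer ((Yx x ⊓ C : Subgroup G) : Set G) := fun x =>
    hB.trans (hinf (right_le_normalizer_commutator A _) hAC)
  have hCcent : ∀ x : G, (x = e ∨ x = f ∨ x = e * f) →
      C ≤ Y ⊓ Subgroup.centralizer {x} := by
    intro x hx z hz
    obtain ⟨h0, h1, h2⟩ := (hmemC z).1 hz
    refine ⟨h0, Subgroup.mem_centralizer_singleton_iff.2 ?_⟩
    rcases hx with rfl | rfl | rfl
    exacts [h1, h2, ((show Commute z e from h1).mul_right h2).eq]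
  have hCn : ∀ x : G, (x = e ∨ x = f ∨ x = e * f) →
      C ≤ Subgroup.normalizer ((Yx x ⊓ C : Subgroup G) : Set G) := fun x hx =>
    hinf ((hCcent x hx).trans (left_le_normalizer_commutator A _)) Subgroup.le_normalizer
  have hsolvB : Group.IsSolvable B := Group.isSolvable_of_comm fun a b =>
    Subtype.ext (hcomm _ (hB a.2) _ (hB b.2))
  have hcopB : ∀ H : Subgroup G, H ≤ C → (Nat.card B).Coprime (Nat.card H) := fun H hH =>
    (hcop H (hH.trans (inf_le_left.trans inf_le_left))).coprime_dvd_left (Subgroup.card_dvd_of_le hB)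
  have hPQn : B ≤ Subgroup.normalizer ((P ⊔ Q : Subgroup G) : Set G) := fun a ha => by
    rw [mem_normalizer_iff_smul, Subgroup.smul_sup, normalizer_le_smul (hBn e) ha,
      normalizer_le_smul (hBn f) ha]
  intro z hz
  have hzC : z ∈ C := (hmemC z).2 ⟨hz.1, (Subgroup.mem_centralizer_iff.1 hz.2 e he).symm,
    (Subgroup.mem_centralizer_iff.1 hz.2 f hf).symm⟩
  have h1 := fixed_sup_le B (P ⊔ Q) S hsolvB hPQn (hBn (e * f))
    ((sup_le inf_le_right inf_le_right : P ⊔ Q ≤ C).trans (hCn _ (Or.inr (Or.inr rfl))))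
    (hcopB _ (sup_le inf_le_right inf_le_right)) ⟨hmain hzC, hz.2⟩
  refine sup_le ((fixed_sup_le B P Q hsolvB (hBn e) (hBn f)
    ((inf_le_right : P ≤ C).trans (hCn f (Or.inr (Or.inl rfl)))) (hcopB _ inf_le_right)).trans
    (sup_le ?_ ?_)) ?_ h1
  · exact (inf_le_inf_right _ inf_le_left).trans (hYxIH e he he1)
  · exact (inf_le_inf_right _ inf_le_left).trans (hYxIH f hf hf1)
  · exact (inf_le_inf_right _ inf_le_left).trans (hYxIH _ hefA hef1)

end Cfsg.Agent.Char.FourInv
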