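import Cfsg.Agent.Lib.Char.CyclicGlauberman
import Cfsg.Agent.Lib.Char.Glauberman
import Cfsg.Agent.Lib.Char.ModP
import Cfsg.Agent.Lib.Char.AlperinBlocks
import Cfsg.Agent.Lib.Char.SourceIdem

/-!
A four group of automorphisms of a group of odd order: the common fixed points lie in the join of
the intersections with suitable subgroups of the fixed points of the three involutions.  The proof
is character theoretic and needs no solvability: the canonical extension of the correspondent of a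
character of the common fixed points takes, up to sign, linked values on the three cosets, and the
product of two classes of involutions forces the common fixed points to see the full degree.
-/

namespace Cfsg.Agent.Char.FourInv

open scoped ComplexConjugate
open Cfsg Cfsg.Agent.Block Cfsg.Agent.Char.Spec

set_option linter.unusedSectionVars false
set_option linter.style.haveILetI false

universe u

variable {Γ : Type u} [Group Γ]

/-- The fixed points of an element inside `Y`. -/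
def cY (Y : Subgroup Γ) (e : Γ) : Subgroup Γ := Y ⊓ Subgroup.centralizer {e}

theorem mem_cY {Y : Subgroup Γ} {e x : Γ} : x ∈ cY Y e ↔ x ∈ Y ∧ x * e = e * x := by
  simp [cY, Subgroup.mem_centralizer_singleton_iff]

/-- A subgroup of the fixed points of `e` supplemented by `C` and containing the elements inverted
by `f`. -/
structure Good (Y : Subgroup Γ) (e f : Γ) (C N : Subgroup Γ) : Prop where
  le : N ≤ cY Y e
  norm : ∀ k ∈ cY Y e, ∀ n ∈ N, k * n * k⁻¹ ∈ N
  stable : ∀ n ∈ N, f * n * f⁻¹ ∈ N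
  cover : ∀ k ∈ cY Y e, ∃ n ∈ N, ∃ c ∈ C, k = n * c
  inverted : ∀ k ∈ cY Y e, f * k * f⁻¹ = k⁻¹ → k ∈ N

/-- The group generated by two commuting involutions is a 2-group. -/
theorem klein_pgroup {M : Type*} [Group M] {x y : M} (hx : x * x = 1) (hy : y * y = 1)
    (hxy : x * y = y * x) : IsPGroup 2 (Subgroup.closure ({x, y} : Set M)) := by
  have hset : ∀ g ∈ Subgroup.closure ({x, y} : Set M),
      g = 1 ∨ g = x ∨ g = y ∨ g = x * y := by
    have hxx : ∀ z : M, x * (x * z) = z := fun z => by rw [← mul_assoc, hx, one_mul]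
    have hyy : ∀ z : M, y * (y * z) = z := fun z => by rw [← mul_assoc, hy, one_mul]
    have hyx : ∀ z : M, y * (x * z) = x * (y * z) := fun z => by
      rw [← mul_assoc, ← hxy, mul_assoc]
    intro g hg
    induction hg using Subgroup.closure_induction with
    | mem g hg => rcases hg with rfl | rfl <;> simp
    | one => simp
    | mul g h _ _ ihg ihh =>
      rcases ihg with rfl | rfl | rfl | rfl <;> rcases ihh with rfl | rfl | rfl | rfl <;>
        simp [mul_assoc, hx, hy, hxx, hyy, hyx, ← hxy]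
    | inv g _ ihg =>
      have hxi : x⁻¹ = x := inv_eq_of_mul_eq_one_right hx
      have hyi : y⁻¹ = y := inv_eq_of_mul_eq_one_right hy
      rcases ihg with rfl | rfl | rfl | rfl <;> simp [hxi, hyi, ← hxy]
  intro g
  refine ⟨1, Subtype.ext ?_⟩
  rw [pow_one, pow_two, Subgroup.coe_mul, Subgroup.coe_one]
  rcases hset g g.2 with h | h | h | h <;> rw [h]
  · exact mul_one 1
  · exact hx
  · exact hy
  · rw [mul_assoc x y, ← mul_assoc y x y, ← hxy, mul_assoc x y y, hy, mul_one, hx]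

theorem inv_closure {K : Type u} [Group K] {S : Set (MulAut K)} {F : K → ℂ}
    (h : ∀ a ∈ S, ∀ g, F (a g) = F g) : Glaub.Inv (Subgroup.closure S) F := by
  intro a ha
  induction ha using Subgroup.closure_induction with
  | mem a ha => exact h a ha
  | one => exact fun g => rfl
  | mul a b _ _ iha ihb => exact fun g => (iha (b g)).trans (ihb g)
  | inv a _ iha => exact fun g => by rw [← iha (a⁻¹ g)]; simp

theorem mem_fix_closure {K : Type u} [Group K] {S : Set (MulAut K)} {g : K} :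
    g ∈ Glaub.fix (Subgroup.closure S) ↔ ∀ a ∈ S, a g = g := by
  refine ⟨fun h a ha => h a (Subgroup.subset_closure ha), fun h a ha => ?_⟩
  induction ha using Subgroup.closure_induction with
  | mem a ha => exact h a ha
  | one => rfl
  | mul a b _ _ iha ihb => show a (b g) = g; rw [ihb, iha]
  | inv a _ iha => conv_lhs => rw [← iha]; simp

/-- The cyclic setup inside the extension of `Y` by a single involution. -/
theorem setup_mk [Fintype Γ] {Y : Subgroup Γ} [Y.Normal] (hodd : Odd (Nat.card Y)) {e : Γ}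
    (he : e * e = 1) (heY : e ∉ Y) :
    CycGlaub.Setup (Y.subgroupOf (Y ⊔ Subgroup.zpowers e))
      ⟨e, Subgroup.mem_sup_right (Subgroup.mem_zpowers e)⟩
      ((cY Y e).subgroupOf (Y ⊔ Subgroup.zpowers e)) := by
  set H := Y ⊔ Subgroup.zpowers e
  set s : H := ⟨e, Subgroup.mem_sup_right (Subgroup.mem_zpowers e)⟩
  have hord : orderOf s = 2 := by
    refine orderOf_eq_prime (Subtype.ext ?_) fun h => heY ?_
    · rw [pow_two]; exact he
    · rw [show e = (s : Γ) from rfl, h]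
      exact Y.one_mem
  have hdec : ∀ x : H, x ∈ Y.subgroupOf H ∨ x * s⁻¹ ∈ Y.subgroupOf H := by
    intro x
    obtain ⟨y, hy, z, hz, hyz⟩ := Subgroup.mem_sup_of_normal_left.1 x.2
    obtain ⟨i, rfl⟩ := Subgroup.mem_zpowers_iff.1 hz
    simp only [Subgroup.mem_subgroupOf, Subgroup.coe_mul, Subgroup.coe_inv]
    rcases Int.even_or_odd' i with ⟨j, rfl | rfl⟩
    · left
      rw [← hyz, zpow_mul, show e ^ (2 : ℤ) = 1 by rw [zpow_two, he], one_zpow, mul_one]
      exact hy
    · right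
      rw [← hyz, zpow_add_one, zpow_mul, show e ^ (2 : ℤ) = 1 by rw [zpow_two, he], one_zpow,
        one_mul]
      show y * e * e⁻¹ ∈ Y
      rwa [mul_inv_cancel_right]
  refine ⟨?_, ?_, fun x => ?_, fun x => ?_⟩
  · rw [hord, Nat.card_congr (Subgroup.subgroupOfEquivOfLe (le_sup_left : Y ≤ H)).toEquiv]
    exact hodd.coprime_two_right
  · rw [hord, Subgroup.index_eq_two_iff]
    refine ⟨s⁻¹, fun b => ?_⟩
    rcases hdec b with hb | hb
    · refine Or.inr ⟨hb, fun h => heY ?_⟩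
      have := Subgroup.mul_mem _ (Subgroup.inv_mem _ h) hb
      rw [mul_inv_rev, inv_inv, mul_assoc, inv_mul_cancel, mul_one] at this
      exact this
    · refine Or.inl ⟨hb, fun h => heY ?_⟩
      have := Subgroup.mul_mem _ (Subgroup.inv_mem _ hb) h
      rw [mul_inv_rev, inv_inv, mul_assoc, inv_mul_cancel, mul_one] at this
      exact this
  · rcases hdec x with hx | hx
    · exact ⟨0, by simpa using hx⟩
    · exact ⟨1, by simpa using hx⟩
  · simp only [Subgroup.mem_subgroupOf, mem_cY, Subtype.ext_iff, Subgroup.coe_mul]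
    rfl

/-- The values of an extension on the coset of an involution are given by the correspondent. -/
theorem coset_value [Fintype Γ] {Y : Subgroup Γ} [Y.Normal] [Fintype Y]
    (hodd : Odd (Nat.card Y)) {e f : Γ}
    (he : e * e = 1) (hf : f * f = 1) (hef : e * f = f * e) (heY : e ∉ Y) {C N : Subgroup Γ}
    [Fintype C] (hC : ∀ x, x ∈ C ↔ x ∈ Y ∧ x * e = e * x ∧ x * f = f * x)
    (hG : Good Y e f C N) {Q : Type u} [Group Q] [Fintype Q] (q : C →* Q)
    (hq : Function.Surjective q) (hker : ∀ (x : Γ) (hxC : x ∈ C), x ∈ N → q ⟨x, hxC⟩ = 1)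
    (l : IrrCharacter Q) (χ : IrrCharacter Γ)
    (hres : IsIrrCharacter Y (fun y : Y => (χ : Γ → ℂ) y)) {m : ℕ}
    (hm : classInner (fun c : C => (χ : Γ → ℂ) c) (fun c : C => (l : Q → ℂ) (q c)) = m)
    (hmodd : Odd m) :
    ∃ ε : ℤ, (ε = 1 ∨ ε = -1) ∧ (∀ n ∈ N, (χ : Γ → ℂ) (n * e) = ε * (l : Q → ℂ) 1) ∧
      ∀ c : C, (χ : Γ → ℂ) ((c : Γ) * e) = ε * (l : Q → ℂ) (q c) := by
  classical
  set K := cY Y e with hKdef
  haveI : Fintype K := Fintype.ofFinite K
  have hCK : ∀ x ∈ C, x ∈ K := fun x hx => mem_cY.2 ⟨((hC x).1 hx).1, ((hC x).1 hx).2.1⟩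
  have hfi : f⁻¹ = f := inv_eq_of_mul_eq_one_right hf
  have hfK : ∀ x ∈ K, f * x * f⁻¹ ∈ K := fun x hx => by
    obtain ⟨hxY, hxe⟩ := mem_cY.1 hx
    refine mem_cY.2 ⟨(inferInstance : Y.Normal).conj_mem x hxY f, ?_⟩
    rw [hfi]
    calc f * x * f * e = f * (x * e) * f := by rw [mul_assoc _ f e, ← hef]; group
      _ = f * e * (x * f) := by rw [hxe]; group
      _ = _ := by rw [← hef]; group
  -- the homomorphism onto `Q`
  choose nn hnn cc hcc hk using fun k : K => hG.cover k k.2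
  let πf : K → Q := fun k => q ⟨cc k, hcc k⟩
  have key : ∀ (k : K), ∀ n ∈ N, ∀ (c : Γ) (hc : c ∈ C), (k : Γ) = n * c →
      πf k = q ⟨c, hc⟩ := by
    intro k n hn c hc hkc
    have h1 : cc k * c⁻¹ = (nn k)⁻¹ * n := by
      rw [eq_inv_mul_iff_mul_eq, ← mul_assoc, ← hk k, hkc, mul_inv_cancel_right]
    have h2 : q ⟨cc k * c⁻¹, mul_mem (hcc k) (inv_mem hc)⟩ = 1 :=
      hker _ _ (h1 ▸ mul_mem (inv_mem (hnn k)) hn)
    rw [show (⟨cc k * c⁻¹, mul_mem (hcc k) (inv_mem hc)⟩ : C) = ⟨cc k, hcc k⟩ * ⟨c, hc⟩⁻¹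
      from rfl, map_mul, map_inv, mul_inv_eq_one] at h2
    exact h2
  have hmul : ∀ k k' : K, πf (k * k') = πf k * πf k' := by
    intro k k'
    rw [key (k * k') (nn k * (cc k * nn k' * (cc k)⁻¹))
      (mul_mem (hnn k) (hG.norm _ (hCK _ (hcc k)) _ (hnn k'))) (cc k * cc k')
      (mul_mem (hcc k) (hcc k')) (by rw [Subgroup.coe_mul, hk k, hk k']; group)]
    exact map_mul q ⟨cc k, hcc k⟩ ⟨cc k', hcc k'⟩
  let π : K →* Q := MonoidHom.mk' πf hmul
  have hπC : ∀ (c : C), π ⟨c, hCK c c.2⟩ = q c := fun c =>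
    key _ 1 N.one_mem c c.2 (one_mul _).symm
  have hπsurj : Function.Surjective π := fun z => by
    obtain ⟨c, rfl⟩ := hq z
    exact ⟨_, hπC c⟩
  let L : IrrCharacter K := ⟨fun k => (l : Q → ℂ) (π k), IsIrr.comp_surjective π hπsurj l.2⟩
  -- the function on the coset
  haveI hH : Fintype ↥(Y ⊔ Subgroup.zpowers e) := Fintype.ofFinite _
  set H := Y ⊔ Subgroup.zpowers e with hHdef
  have hS := setup_mk hodd he heY
  haveI : Fintype (Y.subgroupOf H) := Fintype.ofFinite _
  haveI : Fintype ((cY Y e).subgroupOf H) := Fintype.ofFinite _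
  have hKH : K ≤ H := inf_le_left.trans le_sup_left
  have hresH : IsIrrCharacter (Y.subgroupOf H)
      (fun y : Y.subgroupOf H => (χ : Γ → ℂ) ((y : H) : Γ)) :=
    IsIrr.comp_mulEquiv (Subgroup.subgroupOfEquivOfLe (le_sup_left : Y ≤ H)) hres
  let ψ : IrrCharacter H := ⟨fun x => (χ : Γ → ℂ) x,
    Alperin.isIrr_of_res (IsChar.res (irr_isChar χ) H) (Y.subgroupOf H).subtype hresH⟩
  set F : K → ℂ := fun k => (χ : Γ → ℂ) ((k : Γ) * e)
  have hF1 : classInner F F = 1 := by
    rw [← classInner_comp_surjective (Subgroup.subgroupOfEquivOfLe hKH).toMonoidHom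
      (Subgroup.subgroupOfEquivOfLe hKH).surjective F F]
    exact hS.inner_self ψ hresH
  let i : MonoidAlgebra ℂ Γ := (2 : ℂ)⁻¹ • (1 + MonoidAlgebra.single e 1)
  have hi : i * i = i := by
    have h2 : (1 + MonoidAlgebra.single e (1 : ℂ)) * (1 + MonoidAlgebra.single e (1 : ℂ)) =
        (2 : ℂ) • (1 + MonoidAlgebra.single e (1 : ℂ)) := by
      rw [two_smul, add_mul, one_mul, mul_add, mul_one, MonoidAlgebra.single_mul_single, he,
        one_mul, ← MonoidAlgebra.one_def]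
      abel
    simp only [i, smul_mul_assoc, mul_smul_comm, h2, smul_smul]
    norm_num
  set qc : K → ℂ := fun u => ev (χ : Γ → ℂ) (MonoidAlgebra.single (u : Γ) (1 : ℂ) * i)
  have hqc : IsCharacter K qc := isCharacter_cut (irr_isChar χ) hi fun u hu => by
    refine Commute.smul_right (Commute.add_right (Commute.one_right _) ?_) _
    show _ * _ = _ * _
    simp only [MonoidAlgebra.single_mul_single, (mem_cY.1 hu).2]
  have hqval : ∀ u : K, 2 * qc u = (χ : Γ → ℂ) u + F u := fun u => by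
    simp only [qc, i, F, mul_smul_comm, mul_add, mul_one, MonoidAlgebra.single_mul_single,
      ev_smul, ev_add, ev_single, one_mul]
    ring
  have hgen : IsGeneralizedCharacter K F := by
    have := IsGenChar.sub (IsGenChar.of_isCharacter (IsChar.nsmul hqc 2))
      (IsGenChar.of_isCharacter (IsChar.res (irr_isChar χ) K))
    convert this using 1
    funext u
    simp only [Pi.sub_apply, Pi.smul_apply, smul_eq_mul, Nat.cast_ofNat, hqval]
    ring
  obtain ⟨β, ε, hε, hβ⟩ : ∃ (β : IrrCharacter K) (ε : ℤ), (ε = 1 ∨ ε = -1) ∧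
      ∀ k : K, F k = ε * (β : K → ℂ) k := by
    rcases IsGenChar.norm_one hgen hF1 with h | h
    · exact ⟨⟨F, h⟩, 1, Or.inl rfl, fun k => by simp⟩
    · exact ⟨⟨-F, h⟩, -1, Or.inr rfl, fun k => by simp⟩
  have hεne : (ε : ℂ) ≠ 0 := by rcases hε with rfl | rfl <;> simp
  -- the action of `f`
  have hfn : f ∈ Subgroup.normalizer (K : Set Γ) := Subgroup.mem_normalizer_iff.2 fun x => by
    refine ⟨hfK x, fun hx => ?_⟩
    have := hfK _ hx
    rwa [hfi, show f * (f * x * f) * f = f * f * x * (f * f) by group, hf, one_mul, mul_one] at this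
  set φ : MulAut K := Subgroup.normalizerMonoidHom K ⟨f, hfn⟩
  have hφ : ∀ k : K, ((φ k : K) : Γ) = f * k * f⁻¹ := fun k => rfl
  set A := Subgroup.closure ({φ} : Set (MulAut K))
  have hφ2 : φ * φ = 1 := by
    rw [← map_mul, show (⟨f, hfn⟩ : Subgroup.normalizer (K : Set Γ)) * ⟨f, hfn⟩ = 1 from
      Subtype.ext hf, map_one]
  have hA : IsPGroup 2 A := by
    have h := klein_pgroup hφ2 hφ2 rfl
    rwa [Set.pair_eq_singleton] at h
  have hfix : ∀ k : K, k ∈ Glaub.fix A ↔ (k : Γ) ∈ C := fun k => by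
    rw [mem_fix_closure]
    simp only [Set.mem_singleton_iff, forall_eq, Subtype.ext_iff, hφ, mul_inv_eq_iff_eq_mul, hC]
    exact ⟨fun h => ⟨(mem_cY.1 k.2).1, (mem_cY.1 k.2).2, h.symm⟩, fun h => h.2.2.symm⟩
  let ι : Glaub.fix A →* C :=
    { toFun := fun x => ⟨((x : K) : Γ), (hfix x).1 x.2⟩
      map_one' := rfl
      map_mul' := fun _ _ => rfl }
  have hι : Function.Surjective ι := fun c => ⟨⟨⟨c, hCK c c.2⟩, (hfix _).2 c.2⟩, rfl⟩
  haveI : Fintype (Glaub.fix A) := Fintype.ofFinite _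
  let lam : IrrCharacter (Glaub.fix A) := ⟨fun x => (l : Q → ℂ) (q (ι x)),
    IsIrr.comp_surjective (q.comp ι) (hq.comp hι) l.2⟩
  have hInvβ : Glaub.Inv A (β : K → ℂ) := inv_closure fun a ha g => by
    rw [Set.mem_singleton_iff] at ha
    subst ha
    refine mul_left_cancel₀ hεne ?_
    rw [← hβ, ← hβ]
    show (χ : Γ → ℂ) (f * g * f⁻¹ * e) = (χ : Γ → ℂ) (g * e)
    rw [show f * (g : Γ) * f⁻¹ * e = f * (g * e) * f⁻¹ by
      rw [mul_assoc (f * (g : Γ)), hfi, ← hef]; group]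
    exact IsIrr.classFun χ.2 _ _
  have hInvL : Glaub.Inv A (L : K → ℂ) := inv_closure fun a ha g => by
    rw [Set.mem_singleton_iff] at ha
    subst ha
    show (l : Q → ℂ) (πf (φ g)) = (l : Q → ℂ) (πf g)
    refine congrArg _ (key (φ g) (f * nn g * f⁻¹) (hG.stable _ (hnn g)) (cc g) (hcc g) ?_)
    have h2 := ((hC _).1 (hcc g)).2.2
    rw [hφ, hk g, hfi, mul_assoc (f * nn g) f (cc g), ← h2]
    group
  have hL1 : classInner (fun x : Glaub.fix A => (L : K → ℂ) x) (lam : Glaub.fix A → ℂ) = 1 := by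
    rw [show (fun x : Glaub.fix A => (L : K → ℂ) x) = (lam : Glaub.fix A → ℂ) from
      funext fun x => congrArg (l : Q → ℂ) (hπC (ι x))]
    exact classInner_self_irr lam.2
  have hcorrL : Glaub.Corr 2 L lam := by
    unfold Glaub.Corr
    rw [Glaub.mult_spec _ (irr_isChar L) (IsIrr.isCharacter lam.2), Nat.cast_eq_one] at hL1
    omega
  have hcorrβ : Glaub.Corr 2 β lam := by
    unfold Glaub.Corr
    intro hdvd
    have hmχ : classInner (fun x : Glaub.fix A => (χ : Γ → ℂ) ((x : K) : Γ))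
        (lam : Glaub.fix A → ℂ) = m := by
      rw [← hm]
      exact classInner_comp_surjective ι hι (fun c : C => (χ : Γ → ℂ) c)
        (fun c : C => (l : Q → ℂ) (q c))
    have e1 : (fun x : Glaub.fix A => (χ : Γ → ℂ) ((x : K) : Γ)) =
        (2 : ℂ) • (fun x : Glaub.fix A => qc x) -
          (ε : ℂ) • (fun x : Glaub.fix A => (β : K → ℂ) x) := funext fun x => by
      simp only [Pi.sub_apply, Pi.smul_apply, smul_eq_mul, hqval, hβ]
      ring
    rw [e1, classInner_sub_left, classInner_smul_left, classInner_smul_left,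
      Glaub.mult_spec _ hqc (IsIrr.isCharacter lam.2),
      Glaub.mult_spec _ (irr_isChar β) (IsIrr.isCharacter lam.2)] at hmχ
    have e2 : 2 * (Glaub.mult (Glaub.fix A) qc (lam : Glaub.fix A → ℂ) : ℤ) -
        ε * (Glaub.mult (Glaub.fix A) (β : K → ℂ) (lam : Glaub.fix A → ℂ) : ℤ) = (m : ℤ) := by
      exact_mod_cast hmχ
    obtain ⟨j, hj⟩ := hdvd
    obtain ⟨i, rfl⟩ := hmodd
    rw [hj] at e2
    push_cast at e2
    rcases hε with rfl | rfl <;> omega
  obtain ⟨M, hM⟩ := exists_isPModular 2 Nat.prime_two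
  have hKodd : Odd (Nat.card K) :=
    hodd.of_dvd_nat (Subgroup.card_dvd_of_le inf_le_left)
  have hβL : β = L := Glaub.corr_inj hM hA hKodd.coprime_two_right hInvβ hInvL hcorrβ hcorrL
  subst hβL
  refine ⟨ε, hε, fun n hn => ?_, fun c => ?_⟩
  · refine (hβ ⟨n, hG.le hn⟩).trans ?_
    show (ε : ℂ) * (l : Q → ℂ) (πf ⟨n, hG.le hn⟩) = _
    rw [key ⟨n, hG.le hn⟩ n hn 1 C.one_mem (mul_one n).symm]
    rw [show (⟨1, C.one_mem⟩ : C) = 1 from rfl, map_one]
  · refine (hβ ⟨c, hCK c c.2⟩).trans ?_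
    show (ε : ℂ) * (l : Q → ℂ) (π ⟨c, hCK c c.2⟩) = _
    rw [hπC]

/-- An element at which an irreducible character has full absolute value acts as a scalar. -/
theorem mul_scalar [Fintype Γ] (χ : IrrCharacter Γ) {a : Γ}
    (h : ‖(χ : Γ → ℂ) a‖ = ‖(χ : Γ → ℂ) 1‖) (k : Γ) :
    (χ : Γ → ℂ) (k * a) * (χ : Γ → ℂ) 1 = (χ : Γ → ℂ) a * (χ : Γ → ℂ) k := by
  obtain ⟨n, ρ, hρ, hc⟩ := χ.2
  rw [← hc] at h ⊢
  rw [Representation.char_one, Complex.norm_natCast, norm_character_eq_iff] at h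
  obtain ⟨ω, hω⟩ := h
  have hka : ρ.character (k * a) = ω * ρ.character k := by
    simp only [Representation.character, map_mul, hω]
    rw [show ρ k * (ω • LinearMap.id) = ω • ρ k from LinearMap.ext fun v => by simp, map_smul,
      smul_eq_mul]
  have ha : ρ.character a = ω * ρ.character 1 := by
    rw [Representation.char_one]
    simp only [Representation.character, hω, map_smul, LinearMap.trace_id, smul_eq_mul]
  rw [hka, ha]
  ring

/-- The product of a conjugate of `a` and of `b` reduces to the fixed points of `ab`. -/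
theorem product_mem [Fintype Γ] {Y : Subgroup Γ} [Y.Normal] (hodd : Odd (Nat.card Y)) {a b : Γ}
    (ha : a * a = 1) (hb : b * b = 1) (hab : a * b = b * a) (habY : a * b ∉ Y) {C N : Subgroup Γ}
    (hG : Good Y (a * b) a C N) {x : Γ} (hx : x * x = 1) (hxY : x * a ∈ Y) :
    ∃ g ∈ Y, ∃ k ∈ N, g * (x * b) * g⁻¹ = k * (a * b) := by
  classical
  obtain ⟨c, hc⟩ : ∃ c, c = a * b := ⟨_, rfl⟩
  rw [← hc] at habY hG ⊢
  have hai : a⁻¹ = a := inv_eq_of_mul_eq_one_right ha
  have hbi : b⁻¹ = b := inv_eq_of_mul_eq_one_right hb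
  have hci : c⁻¹ = c := by rw [hc, mul_inv_rev, hai, hbi, ← hab]
  have hc2 : c * c = 1 := mul_eq_one_iff_eq_inv.2 hci.symm
  have hac : a * c = b := by rw [hc, ← mul_assoc, ha, one_mul]
  have hcb : c * b = a := by rw [hc, mul_assoc, hb, mul_one]
  have hca : c * a = a * c := by rw [hac, hc, hab, mul_assoc, ha, mul_one]
  set H := Y ⊔ Subgroup.zpowers c with hHdef
  have hS := setup_mk hodd hc2 habY
  haveI : Fintype H := Fintype.ofFinite _
  haveI : Fintype (Y.subgroupOf H) := Fintype.ofFinite _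
  haveI : Fintype ((cY Y c).subgroupOf H) := Fintype.ofFinite _
  have ht : x * b * c⁻¹ ∈ Y := by
    rw [hci, mul_assoc, hc, hab, ← mul_assoc b b a, hb, one_mul]
    exact hxY
  have htH : x * b ∈ H := by
    rw [show x * b = x * b * c⁻¹ * c by group]
    exact mul_mem (Subgroup.mem_sup_left ht) (Subgroup.mem_sup_right (Subgroup.mem_zpowers c))
  obtain ⟨g, hg, k, hgk⟩ := hS.exists_conj (x := ⟨x * b, htH⟩) (by
    rw [Subgroup.mem_subgroupOf]; exact ht)
  refine ⟨g, hg, (k : H), ?_, congrArg Subtype.val hgk⟩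
  have hkY : ((k : H) : Γ) ∈ cY Y c := k.2
  set g' : Γ := (g : Γ)
  set k' : Γ := ((k : H) : Γ)
  have hg' : g' ∈ Y := hg
  have he : g' * (x * b) * g'⁻¹ = k' * c := congrArg Subtype.val hgk
  obtain ⟨hk'Y, hk'c⟩ := mem_cY.1 hkY
  obtain ⟨x', hx'def⟩ : ∃ x', x' = g' * x * g'⁻¹ := ⟨_, rfl⟩
  obtain ⟨y', hy'def⟩ : ∃ y', y' = g' * b * g'⁻¹ := ⟨_, rfl⟩
  have hx' : x' * x' = 1 := by
    rw [show x' * x' = g' * (x * x) * g'⁻¹ by rw [hx'def]; group, hx]; group
  have hy' : y' * y' = 1 := by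
    rw [show y' * y' = g' * (b * b) * g'⁻¹ by rw [hy'def]; group, hb]; group
  have hxy : x' * y' = k' * c := by rw [← he]; rw [hx'def, hy'def]; group
  have hpow : (k' * c) ^ Nat.card Y = c := by
    rw [(show Commute k' c from hk'c).mul_pow,
      orderOf_dvd_iff_pow_eq_one.1 (by
        rw [← Subgroup.orderOf_mk k' hk'Y]; exact orderOf_dvd_natCard _ : orderOf k' ∣ Nat.card Y),
      one_mul]
    obtain ⟨j, hj⟩ := hodd
    rw [hj, pow_succ, pow_mul, pow_two, hc2, one_pow, one_mul]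
  have hxi : x'⁻¹ = x' := inv_eq_of_mul_eq_one_right hx'
  have hyi : y'⁻¹ = y' := inv_eq_of_mul_eq_one_right hy'
  have hxc : x' * c = c * x' := by
    have h1 : x' * (k' * c) * x'⁻¹ = (k' * c)⁻¹ := by
      rw [← hxy, mul_inv_rev, hxi, hyi, ← mul_assoc x' x' y', hx', one_mul]
    have h2 := congrArg (fun z => z ^ Nat.card Y) h1
    simp only [conj_pow, inv_pow, hpow, hci] at h2
    exact mul_inv_eq_iff_eq_mul.1 h2
  have hyc : y' * c = c * y' := by
    rw [show y' = x' * (k' * c) by rw [← hxy, ← mul_assoc, hx', one_mul]]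
    exact ((show Commute x' c from hxc).mul_left
      ((show Commute k' c from hk'c).mul_left (Commute.refl c))).eq
  have hwY : x' * a ∈ Y := by
    have h1 : x' * a = g' * (x * a) * (a * g'⁻¹ * a⁻¹) := by
      rw [hai, show g' * (x * a) * (a * g'⁻¹ * a) = g' * x * (a * a) * g'⁻¹ * a by group, ha,
        mul_one, hx'def]
    rw [h1]
    exact mul_mem (mul_mem hg' hxY) ((inferInstance : Y.Normal).conj_mem _ (inv_mem hg') a)
  have hvY : y' * b ∈ Y := by
    rw [show y' * b = g' * (b * g'⁻¹ * b⁻¹) by rw [hbi, hy'def]; group]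
    exact mul_mem hg' ((inferInstance : Y.Normal).conj_mem _ (inv_mem hg') b)
  have hbc : b * c = c * b := by
    rw [hcb, hc, ← mul_assoc, ← hab, mul_assoc, hb, mul_one]
  have hwc : x' * a ∈ cY Y c := mem_cY.2 ⟨hwY,
    ((show Commute x' c from hxc).mul_left (show Commute a c from hca.symm)).eq⟩
  have hvc : y' * b ∈ cY Y c := mem_cY.2 ⟨hvY,
    ((show Commute y' c from hyc).mul_left (show Commute b c from hbc)).eq⟩
  have hw : x' * a ∈ N := hG.inverted _ hwc (by
    rw [mul_inv_rev, hai, hxi, mul_assoc, mul_assoc, ha, mul_one])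
  have hv : y' * b ∈ N := hG.inverted _ hvc (by
    have h1 := (mem_cY.1 hvc).2
    calc a * (y' * b) * a⁻¹ = b * c * (y' * b) * a := by rw [hbc, hcb, hai]
      _ = b * ((y' * b) * c) * a := by rw [h1]; group
      _ = b * (y' * b) * (c * a) := by group
      _ = _ := by
        rw [hca, hac, mul_inv_rev, hyi, hbi, mul_assoc, mul_assoc, hb, mul_one])
  have hk : k' = (x' * a) * (y' * b)⁻¹ := by
    apply mul_right_cancel (b := c)
    rw [← hxy, mul_inv_rev, hyi, hbi]
    calc x' * y' = x' * ((y' * b) * b) := by rw [mul_assoc y', hb, mul_one]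
      _ = x' * ((y' * b) * (a * c)) := by rw [hac]
      _ = x' * ((y' * b) * a) * c := by group
      _ = _ := by
        have h1 : a * (y' * b) * a⁻¹ = (y' * b)⁻¹ := by
          have h1 := (mem_cY.1 hvc).2
          calc a * (y' * b) * a⁻¹ = b * c * (y' * b) * a := by rw [hbc, hcb, hai]
            _ = b * ((y' * b) * c) * a := by rw [h1]; group
            _ = b * (y' * b) * (c * a) := by group
            _ = _ := by
              rw [hca, hac, mul_inv_rev, hyi, hbi, mul_assoc, mul_assoc, hb, mul_one]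
        rw [mul_inv_rev, hyi, hbi, hai] at h1
        have h2 : y' * b * a = a * (b * y') := by
          rw [← h1, ← mul_assoc a (a * (y' * b)) a, ← mul_assoc a a, ha, one_mul]
        rw [h2]
        group
  rw [hk]
  exact N.mul_mem hw (N.inv_mem hv)

/-- Four involution fixed points: the common fixed points lie in the join of the intersections. -/
theorem le_sup_inf [Finite Γ] {Y : Subgroup Γ} [Y.Normal] (hodd : Odd (Nat.card Y))
    (hidx : Y.index = 4) {a b : Γ} (ha : a * a = 1) (hb : b * b = 1) (hab : a * b = b * a)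
    (haY : a ∉ Y) (hbY : b ∉ Y) (habY : a * b ∉ Y) {C Na Nb Nc : Subgroup Γ}
    (hC : ∀ x, x ∈ C ↔ x ∈ Y ∧ x * a = a * x ∧ x * b = b * x)
    (Ga : Good Y a b C Na) (Gb : Good Y b (a * b) C Nb) (Gc : Good Y (a * b) a C Nc)
    (hgen : Y ≤ Na ⊔ Nb ⊔ Nc) : C ≤ Na ⊓ C ⊔ Nb ⊓ C ⊔ Nc ⊓ C := by
  classical
  haveI := Fintype.ofFinite Γ
  haveI : Fintype Y := Fintype.ofFinite Y
  haveI : Fintype C := Fintype.ofFinite C
  set R := Na ⊓ C ⊔ Nb ⊓ C ⊔ Nc ⊓ C with hR
  have hai : a⁻¹ = a := inv_eq_of_mul_eq_one_right ha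
  have hbi : b⁻¹ = b := inv_eq_of_mul_eq_one_right hb
  have hab2 : (a * b) * (a * b) = 1 := by
    rw [mul_assoc, ← mul_assoc b a b, ← hab, mul_assoc a b b, hb, mul_one, ha]
  have hCb : ∀ x, x ∈ C ↔ x ∈ Y ∧ x * b = b * x ∧ x * (a * b) = (a * b) * x := fun x => by
    rw [hC]
    refine ⟨fun h => ⟨h.1, h.2.2, ((show Commute x a from h.2.1).mul_right h.2.2).eq⟩,
      fun h => ⟨h.1, ?_, h.2.1⟩⟩
    have h2 := ((show Commute x (a * b) from h.2.2).mul_right (show Commute x b from h.2.1)).eq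
    rwa [mul_assoc a b b, hb, mul_one] at h2
  have hCc : ∀ x, x ∈ C ↔ x ∈ Y ∧ x * (a * b) = (a * b) * x ∧ x * a = a * x := fun x => by
    rw [hC]
    refine ⟨fun h => ⟨h.1, ((show Commute x a from h.2.1).mul_right h.2.2).eq, h.2.1⟩,
      fun h => ⟨h.1, h.2.2, ?_⟩⟩
    have h2 := ((show Commute x a from h.2.2).mul_right (show Commute x (a * b) from h.2.1)).eq
    rwa [show a * (a * b) = b by rw [← mul_assoc, ha, one_mul]] at h2
  have hCle : ∀ {e f : Γ} {N : Subgroup Γ}, (∀ x ∈ C, x ∈ cY Y e) → Good Y e f C N →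
      ((N ⊓ C).subgroupOf C).Normal := by
    intro e f N hsub hG
    refine ⟨fun n hn g => ?_⟩
    simp only [Subgroup.mem_subgroupOf, Subgroup.coe_mul, Subgroup.coe_inv, Subgroup.mem_inf] at hn ⊢
    exact ⟨hG.norm _ (hsub g g.2) _ hn.1, mul_mem (mul_mem g.2 hn.2) (inv_mem g.2)⟩
  haveI := hCle (fun x hx => mem_cY.2 ⟨((hC x).1 hx).1, ((hC x).1 hx).2.1⟩) Ga
  haveI := hCle (fun x hx => mem_cY.2 ⟨((hC x).1 hx).1, ((hC x).1 hx).2.2⟩) Gb
  haveI := hCle (fun x hx => mem_cY.2 ⟨((hCc x).1 hx).1, ((hCc x).1 hx).2.1⟩) Gc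
  haveI hRn : (R.subgroupOf C).Normal := by
    rw [hR, Subgroup.subgroupOf_sup (sup_le inf_le_right inf_le_right) inf_le_right,
      Subgroup.subgroupOf_sup inf_le_right inf_le_right]
    infer_instance
  intro c₀ hc₀
  by_contra hcR
  set q := QuotientGroup.mk' (R.subgroupOf C)
  haveI : Fintype (C ⧸ R.subgroupOf C) := Fintype.ofFinite _
  obtain ⟨l, hl⟩ : ∃ l : IrrCharacter (C ⧸ R.subgroupOf C),
      (l : C ⧸ R.subgroupOf C → ℂ) (q ⟨c₀, hc₀⟩) ≠ (l : C ⧸ R.subgroupOf C → ℂ) 1 := by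
    by_contra hn
    push Not at hn
    have h1 := isConj_one_right.1 ((isConj_iff_irr _ _).2 hn).symm
    exact hcR (by simpa [q, Subgroup.mem_subgroupOf] using h1)
  refine hl ?_
  have hq : Function.Surjective q := QuotientGroup.mk'_surjective _
  have hker : ∀ {N : Subgroup Γ}, N ⊓ C ≤ R → ∀ (x : Γ) (hxC : x ∈ C), x ∈ N →
      q ⟨x, hxC⟩ = 1 := fun hle x hxC hxN =>
    (QuotientGroup.eq_one_iff _).2 (Subgroup.mem_subgroupOf.2 (hle ⟨hxN, hxC⟩))
  -- the invariant character of `Y`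
  set φ : Γ →* MulAut Y := MulAut.conjNormal
  set A := Subgroup.closure ({φ a, φ b} : Set (MulAut Y))
  have hA : IsPGroup 2 A := klein_pgroup (by rw [← map_mul, ha, map_one])
    (by rw [← map_mul, hb, map_one]) (by rw [← map_mul, ← map_mul, hab])
  have hfix : ∀ y : Y, y ∈ Glaub.fix A ↔ (y : Γ) ∈ C := fun y => by
    rw [mem_fix_closure]
    simp only [Set.mem_insert_iff, Set.mem_singleton_iff, forall_eq_or_imp, forall_eq,
      Subtype.ext_iff, φ, MulAut.conjNormal_apply, mul_inv_eq_iff_eq_mul, hC]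
    exact ⟨fun h => ⟨y.2, h.1.symm, h.2.symm⟩, fun h => ⟨h.2.1.symm, h.2.2.symm⟩⟩
  have hCY : C ≤ Y := fun x hx => ((hC x).1 hx).1
  let ι : Glaub.fix A →* C :=
    { toFun := fun x => ⟨((x : Y) : Γ), (hfix x).1 x.2⟩
      map_one' := rfl
      map_mul' := fun _ _ => rfl }
  have hι : Function.Surjective ι := fun c => ⟨⟨⟨c, hCY c.2⟩, (hfix _).2 c.2⟩, rfl⟩
  haveI : Fintype (Glaub.fix A) := Fintype.ofFinite _
  let lam : IrrCharacter (Glaub.fix A) := ⟨fun x => (l : _ → ℂ) (q (ι x)),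
    IsIrr.comp_surjective (q.comp ι) (hq.comp hι) l.2⟩
  obtain ⟨M, hM⟩ := exists_isPModular 2 Nat.prime_two
  obtain ⟨θ, hθinv, hθcorr⟩ := Glaub.surj_corr hM hA hodd.coprime_two_right lam
  -- every coset is met by the four group
  have hcos : ∀ g : Γ, ∃ u : Γ, (u = 1 ∨ u = a ∨ u = b ∨ u = a * b) ∧ g * u⁻¹ ∈ Y := by
    let r : Fin 4 → Γ ⧸ Y := ![((1 : Γ) : Γ ⧸ Y), (a : Γ ⧸ Y), (b : Γ ⧸ Y), ((a * b : Γ) : Γ ⧸ Y)]
    haveI : Fintype (Γ ⧸ Y) := Fintype.ofFinite _
    have hne : ∀ u v : Γ, u * v⁻¹ ∉ Y → (u : Γ ⧸ Y) ≠ v := fun u v h h' => h (by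
      rwa [QuotientGroup.eq_iff_div_mem, div_eq_mul_inv] at h')
    have hinj : Function.Injective r := by
      have e1 := hne a 1 (by simpa using haY)
      have e2 := hne b 1 (by simpa using hbY)
      have e3 := hne (a * b) 1 (by simpa using habY)
      have e4 := hne a b (by rwa [hbi])
      have e5 := hne (a * b) b (by rwa [mul_inv_cancel_right])
      have e6 := hne (a * b) a (by rwa [hai, hab, mul_assoc, ha, mul_one])
      intro i j hij
      fin_cases i <;> fin_cases j <;>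
        first
        | rfl
        | exact (e1 hij).elim | exact (e1 hij.symm).elim | exact (e2 hij).elim
        | exact (e2 hij.symm).elim | exact (e3 hij).elim | exact (e3 hij.symm).elim
        | exact (e4 hij).elim | exact (e4 hij.symm).elim | exact (e5 hij).elim
        | exact (e5 hij.symm).elim | exact (e6 hij).elim | exact (e6 hij.symm).elim
    have hbij := (Fintype.bijective_iff_injective_and_card r).2 ⟨hinj, by
      rw [Fintype.card_fin, ← Nat.card_eq_fintype_card, ← Subgroup.index, hidx]⟩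
    intro g
    obtain ⟨i, hi⟩ := hbij.2 (g : Γ ⧸ Y)
    have key : ∀ u : Γ, (u : Γ ⧸ Y) = g → g * u⁻¹ ∈ Y := fun u hu => by
      rw [← div_eq_mul_inv, ← QuotientGroup.eq_iff_div_mem, hu]
    fin_cases i
    · exact ⟨1, Or.inl rfl, key _ hi⟩
    · exact ⟨a, Or.inr (Or.inl rfl), key _ hi⟩
    · exact ⟨b, Or.inr (Or.inr (Or.inl rfl)), key _ hi⟩
    · exact ⟨a * b, Or.inr (Or.inr (Or.inr rfl)), key _ hi⟩
  have hinvθ : ∀ (g : Γ) (y : Y), (θ : Y → ℂ)
      ⟨g * y * g⁻¹, (inferInstance : Y.Normal).conj_mem _ y.2 g⟩ = (θ : Y → ℂ) y := by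
    intro g y
    show (θ : Y → ℂ) (φ g y) = _
    obtain ⟨u, hu, hgu⟩ := hcos g
    have h1 : ∀ z : Y, (θ : Y → ℂ) (φ u z) = (θ : Y → ℂ) z := by
      intro z
      rcases hu with rfl | rfl | rfl | rfl
      · rw [map_one]; rfl
      · exact hθinv _ (Subgroup.subset_closure (by simp)) z
      · exact hθinv _ (Subgroup.subset_closure (by simp)) z
      · rw [map_mul]
        exact hθinv _ (mul_mem (Subgroup.subset_closure (by simp))
          (Subgroup.subset_closure (by simp))) z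
    have h2 : φ g y = (⟨g * u⁻¹, hgu⟩ : Y) * φ u y * (⟨g * u⁻¹, hgu⟩ : Y)⁻¹ := Subtype.ext (by
      simp only [φ, Subgroup.coe_mul, Subgroup.coe_inv, MulAut.conjNormal_apply]
      group)
    rw [h2, IsIrr.classFun θ.2, h1]
  obtain ⟨d, hd0, hd⟩ := IsIrr.one_eq_pos θ.2
  have hoθ : detOrder (θ : Y → ℂ) ∣ Nat.card Y := by
    obtain ⟨μ, hμ⟩ := isCharacter_detChar θ.2
    rw [detOrder, hμ, orderOf_unitsFun]
    exact orderOf_dvd_of_pow_eq_one (MonoidHom.ext fun g => by
      rw [MonoidHom.pow_apply, ← map_pow, pow_card_eq_one', map_one, MonoidHom.one_apply])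
  have hcopI : Nat.Coprime Y.index (detOrder (θ : Y → ℂ) * d) := by
    rw [hidx, show (4 : ℕ) = 2 ^ 2 from rfl]
    refine Nat.Coprime.pow_left _ (Nat.Coprime.mul_right ?_ ?_)
    · exact (hodd.of_dvd_nat hoθ).coprime_two_left
    · exact (hodd.of_dvd_nat (IsIrr.degree_dvd_card θ.2 hd)).coprime_two_left
  obtain ⟨χ₀, ⟨hχ₀, hχres, -⟩, -⟩ := Cfsg.Agent.S0867.result Y (θ : Y → ℂ) θ.2 hinvθ d hd hcopI
  let χ : IrrCharacter Γ := ⟨χ₀, hχ₀⟩
  have hres : IsIrrCharacter Y (fun y : Y => (χ : Γ → ℂ) y) := by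
    rw [show (fun y : Y => (χ : Γ → ℂ) y) = (θ : Y → ℂ) from funext hχres]
    exact θ.2
  set m := Glaub.mult (Glaub.fix A) (θ : Y → ℂ) (lam : Glaub.fix A → ℂ)
  have hm : classInner (fun c : C => (χ : Γ → ℂ) c)
      (fun c : C => (l : _ → ℂ) (q c)) = (m : ℂ) := by
    rw [← classInner_comp_surjective ι hι, ← Glaub.mult_spec _ (irr_isChar θ)
      (IsIrr.isCharacter lam.2)]
    congr 1
    funext x
    exact hχres (x : Y)
  have hmodd : Odd m := by
    unfold Glaub.Corr at hθcorr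
    exact Nat.odd_iff.2 (Nat.two_dvd_ne_zero.1 hθcorr)
  obtain ⟨εa, hεa, hNa, hCa⟩ := coset_value hodd ha hb hab haY hC Ga q hq
    (hker (le_sup_left.trans' le_sup_left)) l χ hres hm hmodd
  obtain ⟨εb, hεb, hNb, hCb'⟩ := coset_value hodd hb hab2
    ((show Commute b a from hab.symm).mul_right (Commute.refl b)).eq hbY hCb Gb q hq
    (hker (le_sup_left.trans' le_sup_right)) l χ hres hm hmodd
  obtain ⟨εc, hεc, hNc, hCc'⟩ := coset_value hodd hab2 ha
    ((Commute.refl a).mul_left (show Commute b a from hab.symm)).eq habY hCc Gc q hq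
    (hker le_sup_right) l χ hres hm hmodd
  set l0 := (l : C ⧸ R.subgroupOf C → ℂ) 1 with hl0
  obtain ⟨n0, hn0, hn0'⟩ := IsIrr.one_eq_pos l.2
  have hxa : (χ : Γ → ℂ) a = εa * l0 := by simpa using hNa 1 (one_mem _)
  have hxb : (χ : Γ → ℂ) b = εb * l0 := by simpa using hNb 1 (one_mem _)
  have hxc : (χ : Γ → ℂ) (a * b) = εc * l0 := by simpa using hNc 1 (one_mem _)
  obtain ⟨D, hD0, hD⟩ := IsIrr.one_eq_pos χ.2
  have hprod : ∀ g : Γ, (χ : Γ → ℂ) (g * a * g⁻¹ * b) = εc * l0 := by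
    intro g
    obtain ⟨u, hu, hgu⟩ := hcos g
    have hua : u * a * u⁻¹ = a := by
      rcases hu with rfl | rfl | rfl | rfl
      · group
      · group
      · rw [← hab, mul_assoc, mul_inv_cancel, mul_one]
      · rw [mul_inv_rev, show a * b * a * (b⁻¹ * a⁻¹) = a * (b * a) * b⁻¹ * a⁻¹ by group, ← hab]
        group
    have hx : g * a * g⁻¹ = g * u⁻¹ * a * (g * u⁻¹)⁻¹ := by
      conv_rhs => rw [← hua]
      group
    obtain ⟨g', hg', k, hk, he⟩ := product_mem hodd ha hb hab habY Gc (x := g * a * g⁻¹)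
      (by rw [show g * a * g⁻¹ * (g * a * g⁻¹) = g * (a * a) * g⁻¹ by group, ha]; group) (by
        rw [hx, show g * u⁻¹ * a * (g * u⁻¹)⁻¹ * a = g * u⁻¹ * (a * (g * u⁻¹)⁻¹ * a) by group]
        refine mul_mem hgu ?_
        conv => arg 2; arg 2; rw [← hai]
        exact (inferInstance : Y.Normal).conj_mem _ (inv_mem hgu) a)
    rw [← hNc k hk, ← he, IsIrr.classFun χ.2]
  have hdeg : n0 = D := by
    have h1 := sum_conj_apply χ.2 a b
    simp only [hprod, Finset.sum_const, Finset.card_univ, nsmul_eq_mul,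
      ← Nat.card_eq_fintype_card, hxa, hxb, hD, hl0, hn0'] at h1
    have hDne : (D : ℂ) ≠ 0 := Nat.cast_ne_zero.2 hD0.ne'
    have hGne : (Nat.card Γ : ℂ) ≠ 0 := Nat.cast_ne_zero.2 Nat.card_pos.ne'
    have hn0ne : (n0 : ℂ) ≠ 0 := Nat.cast_ne_zero.2 hn0.ne'
    field_simp at h1
    have h2 : (((εc * D : ℤ)) : ℂ) = ((εa * εb * n0 : ℤ) : ℂ) := by
      push_cast
      linear_combination h1
    have h3 := Int.cast_injective h2
    rcases hεa with rfl | rfl <;> rcases hεb with rfl | rfl <;> rcases hεc with rfl | rfl <;>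
      omega
  have hl0D : l0 = (χ : Γ → ℂ) 1 := by rw [hl0, hn0', hD, hdeg]
  have hDne : (χ : Γ → ℂ) 1 ≠ 0 := IsIrr.one_ne_zero χ.2
  have hscal : ∀ {e : Γ} {ε : ℤ}, (ε = 1 ∨ ε = -1) → (χ : Γ → ℂ) e = ε * l0 →
      ∀ k, (χ : Γ → ℂ) (k * e) = ε * (χ : Γ → ℂ) k := by
    intro e ε hε he k
    have hn : ‖(χ : Γ → ℂ) e‖ = ‖(χ : Γ → ℂ) 1‖ := by
      rw [he, hl0D, norm_mul]
      rcases hε with rfl | rfl <;> simp
    have := mul_scalar χ hn k
    rw [he, hl0D] at this
    exact mul_right_cancel₀ hDne (by rw [this]; ring)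
  have hone : ∀ {e : Γ} {ε : ℤ} {N : Subgroup Γ}, (ε = 1 ∨ ε = -1) → (χ : Γ → ℂ) e = ε * l0 →
      (∀ n ∈ N, (χ : Γ → ℂ) (n * e) = ε * l0) → N ≤ charKer (irr_isChar χ) := by
    intro e ε N hε he hN n hn
    rw [mem_charKer]
    have h1 := (hscal hε he n).symm.trans (hN n hn)
    rw [hl0D] at h1
    exact mul_left_cancel₀ (by rcases hε with rfl | rfl <;> simp) h1
  have hYker : Y ≤ charKer (irr_isChar χ) := hgen.trans
    (sup_le (sup_le (hone hεa hxa hNa) (hone hεb hxb hNb)) (hone hεc hxc hNc))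
  have h2 := (hscal hεa hxa c₀).symm.trans (hCa ⟨c₀, hc₀⟩)
  rw [(mem_charKer _).1 (hYker (hCY hc₀)), ← hl0D] at h2
  exact (mul_left_cancel₀ (by rcases hεa with rfl | rfl <;> simp) h2).symm

end Cfsg.Agent.Char.FourInv
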