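import Cfsg.Agent.Lib.Char.FreeDefectFun

/-!
Making a phase invariant under a group of automorphisms of order prime to `p`.
-/

open scoped ComplexConjugate

namespace Cfsg.Agent.Char.FreeDef

open Cfsg Cfsg.Agent.Block Cfsg.Agent.Char.BP Cfsg.Agent.Char.Spec

set_option linter.unusedSectionVars false
set_option linter.style.haveILetI false
set_option maxHeartbeats 1000000

universe u

variable {P : Type u} [CommGroup P] [Fintype P] {p : ℕ} [hp : Fact p.Prime] {M : Ideal AlgInt}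

/-- If the invariant function `t` divided by the phase `ω` has unit values and coordinates in the
local ring, then `ω` becomes invariant after multiplying by a suitable function with such
coordinates. -/
theorem exists_phase (hM : IsPModular p M) (hP : IsPGroup p P) (R : Subgroup (MulAut P)) [Fintype R]
    (hR : ¬ p ∣ Nat.card R) {F₀ t ω : P → ℂ} (hF : InR M F₀) (hFu : ∀ v, ¬ MemLocalIdeal M (F₀ v))
    (hFval : ∀ v ≠ 1, F₀ v = t v * (ω v)⁻¹)
    (ht : ∀ r : R, ∀ v ≠ 1, t ((r : MulAut P) v) = t v)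
    (hω : Adapted ω) (hω1 : ∀ v, ‖ω v‖ = 1) :
    ∃ K U : P → ℂ, InR M K ∧ Adapted U ∧ (∀ v, ‖U v‖ = 1) ∧ (∀ v ≠ 1, K v = ω v * U v) ∧
      ∀ r : R, ∀ v ≠ 1, U ((r : MulAut P) v) = U v := by
  classical
  have hω0 : ∀ v, ω v ≠ 0 := fun v h => by simpa [h] using hω1 v
  have hF0 : ∀ v, F₀ v ≠ 0 := fun v h => hFu v (h ▸ ideal_zero hM)
  set K : R → P → ℂ := fun r v => F₀ ((r : MulAut P) v) * (F₀ v)⁻¹ with hK
  have hKR : ∀ r, InR M (K r) := fun r =>
    (hF.comp hM (r : MulAut P)).mul hM (hF.inv hM hFu)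
  have hKval : ∀ (r : R) (v : P), v ≠ 1 → K r v = ω v * (ω ((r : MulAut P) v))⁻¹ := by
    intro r v hv
    have hrv : (r : MulAut P) v ≠ 1 := by simpa using hv
    show F₀ _ * (F₀ v)⁻¹ = _
    have h0 := hF0 v
    rw [hFval v hv] at h0 ⊢
    rw [hFval _ hrv, ht r v hv, mul_inv, inv_inv]
    have := left_ne_zero_of_mul h0
    field_simp
  have hKcongr : ∀ (r : R) (v : P), MemLocalIdeal M (K r v - 1) := by
    intro r v
    have h : K r v - 1 = (F₀ v)⁻¹ * (F₀ ((r : MulAut P) v) - F₀ v) := by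
      have h0 := hF0 v
      show F₀ _ * (F₀ v)⁻¹ - 1 = _
      field_simp
    rw [h]
    exact ideal_mul_left hM (ring_inv hM (hF.ring hM v) (hFu v)) (hF.congr hM hP _ _)
  obtain ⟨N₀, hN₀, hωN⟩ := hω.exists_pow_eq_one fun v _ => hω1 v
  obtain ⟨A, m, hm, hN₀eq⟩ := Nat.exists_eq_pow_mul_and_not_dvd hN₀.ne' p hp.out.ne_one
  have hωinv : ∀ (r : R) (v : P), v ≠ 1 → ω ((r : MulAut P) v) ^ p ^ A = ω v ^ p ^ A := by
    intro r v hv
    have hrv : (r : MulAut P) v ≠ 1 := by simpa using hv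
    set y := K r v ^ p ^ A with hy
    have hyR : MemLocalRing M (K r v) := (hKR r).ring hM v
    have hym : y ^ m = 1 := by
      rw [hy, ← pow_mul, ← hN₀eq, hKval r v hv, mul_pow, inv_pow, hωN v hv, hωN _ hrv, inv_one,
        one_mul]
    have hpow : ∀ k : ℕ, MemLocalIdeal M (K r v ^ k - 1) := fun k => by
      rw [← geom_sum_mul]
      exact ideal_mul_left hM (ring_sum hM fun i _ => ring_pow hM hyR i) (hKcongr r v)
    have hsum : ¬ MemLocalIdeal M (∑ i ∈ Finset.range m, y ^ i) := by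
      intro h
      refine hm ((ideal_natCast_iff hM m).1 ?_)
      have h1 : MemLocalIdeal M (∑ i ∈ Finset.range m, (y ^ i - 1)) :=
        ideal_sum hM fun i _ => by rw [hy, ← pow_mul]; exact hpow _
      have h2 := ideal_sub hM h h1
      simpa [Finset.sum_sub_distrib] using h2
    have hy1 : y = 1 := by
      have h := geom_sum_mul y m
      rw [hym, sub_self, mul_eq_zero] at h
      exact sub_eq_zero.1 (h.resolve_left fun h => hsum (h ▸ ideal_zero hM))
    rw [hy, hKval r v hv, mul_pow, inv_pow, mul_inv_eq_one₀ (pow_ne_zero _ (hω0 _))] at hy1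
    exact hy1.symm
  set e := Nat.card R with he
  have hco : Nat.Coprime e (p ^ A) :=
    Nat.Coprime.pow_right _ (hp.out.coprime_iff_not_dvd.2 hR).symm
  have hepos : 0 < e := Nat.card_pos
  have htot : 0 < Nat.totient (p ^ A) := Nat.totient_pos.2 (pow_pos hp.out.pos A)
  obtain ⟨c, hc⟩ : p ^ A ∣ e ^ Nat.totient (p ^ A) - 1 :=
    (Nat.modEq_iff_dvd' (Nat.one_le_pow _ _ hepos)).1 (Nat.ModEq.pow_totient hco).symm
  set e' := e ^ (Nat.totient (p ^ A) - 1) with he'
  have hee : e * e' = 1 + p ^ A * c := by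
    rw [he', ← pow_succ', Nat.sub_add_cancel htot, ← hc,
      Nat.add_sub_cancel' (Nat.one_le_pow _ _ hepos)]
  set Ω : P → ℂ := fun v => ∏ r : R, ω ((r : MulAut P) v) with hΩ
  have hΩ1 : ∀ v, ‖Ω v‖ = 1 := fun v => by
    rw [hΩ, norm_prod]; exact Finset.prod_eq_one fun r _ => hω1 _
  refine ⟨(∏ r : R, K r) ^ e', fun v => (ω v ^ p ^ A) ^ c * (Ω v ^ e') ^ (-1 : ℤ),
    (InR.prod hM _ fun r _ => hKR r).pow hM e',
    ((hω.pow (p ^ A)).pow c).mul (((Adapted.prod Finset.univ fun r _ =>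
      hω.comp ((r : R) : MulAut P)).pow e').zpow (fun v _ => ?_) (-1)) |>.congr fun v hv => ?_,
    fun v => ?_, fun v hv => ?_, fun r v hv => ?_⟩
  · rw [Pi.pow_apply, Finset.prod_apply, norm_pow]
    exact (congrArg (· ^ e') (hΩ1 v)).trans (one_pow _)
  · simp only [hΩ, Pi.mul_apply, Pi.pow_apply, Finset.prod_apply]
  · rw [norm_mul, norm_zpow, norm_pow, norm_pow, norm_pow, hω1, hΩ1, one_pow, one_pow, one_pow,
      one_zpow, one_mul]
  · rw [Pi.pow_apply, Finset.prod_apply, Finset.prod_congr rfl fun r _ => hKval r v hv,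
      Finset.prod_mul_distrib, Finset.prod_const, Finset.card_univ, ← Nat.card_eq_fintype_card,
      ← he, Finset.prod_inv_distrib, mul_pow, inv_pow, ← pow_mul, hee, pow_add, pow_one, pow_mul]
    show ω v * _ * (Ω v ^ e')⁻¹ = ω v * (_ * (Ω v ^ e') ^ (-1 : ℤ))
    rw [zpow_neg_one]
    ring
  · show (_ ^ p ^ A) ^ c * _ = (_ ^ p ^ A) ^ c * _
    rw [hωinv r v hv]
    congr 3
    exact Fintype.prod_equiv (Equiv.mulRight r) _ _ fun s => rfl

end Cfsg.Agent.Char.FreeDef
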