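import Cfsg.Agent.Lib.Char.FreeDefectLocal
import Cfsg.Agent.Lib.Char.FreeDefectPhase

/-!
Abelian defect group with free inertial action: units for the sections in which all characters of
the block have integral coordinates on the linear characters of the defect group.
-/

open scoped ComplexConjugate Classical

namespace Cfsg.Agent.Char.FreeDef

open Cfsg Cfsg.Agent.Block Cfsg.Agent.Char.BP Cfsg.Agent.Char.Spec
open Cfsg.Agent.Char.Star (order_pow)

set_option linter.unusedSectionVars false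
set_option linter.style.haveILetI false
set_option maxHeartbeats 3200000

universe u

variable {G : Type u} [Group G] [Fintype G] {p : ℕ} [hp : Fact p.Prime] {M : Ideal AlgInt}
variable {B : Set (IrrCharacter G)} {x : BrauerPairIdx G}

/-- The action of the inertial group on the defect group. -/
noncomputable def act (x : BrauerPairIdx G) : stab x →* MulAut x.1 :=
  MonoidHom.mk'
    (fun t =>
      { toFun := fun v => ⟨(t : G) * v * (t : G)⁻¹,
          (Subgroup.mem_normalizer_iff.1 (stab_le_normalizer x t.2) v).1 v.2⟩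
        invFun := fun v => ⟨(t : G)⁻¹ * v * (t : G)⁻¹⁻¹,
          (Subgroup.mem_normalizer_iff.1 (stab_le_normalizer x (inv_mem t.2)) v).1 v.2⟩
        left_inv := fun v => Subtype.ext (by group)
        right_inv := fun v => Subtype.ext (by group)
        map_mul' := fun v w => Subtype.ext (by simp [mul_assoc]) })
    fun t t' => MulEquiv.ext fun v => Subtype.ext (by
      show ((t : G) * (t' : G)) * (v : G) * ((t : G) * (t' : G))⁻¹ =
        (t : G) * ((t' : G) * (v : G) * (t' : G)⁻¹) * (t : G)⁻¹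
      group)

theorem act_apply (t : stab x) (v : x.1) : ((act x t v : x.1) : G) = (t : G) * v * (t : G)⁻¹ := rfl

theorem card_act_range : Nat.card (act x).range = (CG x.1).relIndex (stab x) := by
  have hker : (act x).ker = (CG x.1).subgroupOf (stab x) := by
    ext t
    rw [MonoidHom.mem_ker, Subgroup.mem_subgroupOf, Subgroup.mem_centralizer_iff]
    constructor
    · intro h v hv
      have h1 := congrArg (fun (r : MulAut x.1) => ((r ⟨v, hv⟩ : x.1) : G)) h
      simp only [act_apply, MulAut.one_apply] at h1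
      exact (mul_inv_eq_iff_eq_mul.1 h1).symm
    · intro h
      refine MulEquiv.ext fun v => Subtype.ext ?_
      rw [act_apply, MulAut.one_apply, ← h v v.2, mul_inv_cancel_right]
  rw [← Subgroup.index_ker, hker]
  rfl

/-- A source idempotent for a given maximal pair. -/
theorem exists_source_at (hM : IsPModular p M) (hB : IsPBlock M B) (hx : IsMx p M B x) :
    ∃ (i : MonoidAlgebra ℂ G) (χ : IrrCharacter G), χ ∈ B ∧ Fx M x.1 i ∧ i * i = i ∧
      ¬ MemLocalIdeal M (ev (χ : G → ℂ) i) ∧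
      ∀ r : BrauerPairIdx G, LE p M r x → BrEq M r.1 (i * pz r) i := by
  obtain ⟨χ, hχ, h0⟩ := exists_height_zero hM hB
  obtain ⟨i, e, hi, hx', hu, htop⟩ := exists_source hM hB hχ h0 (defect_of_max hM hx)
  set x' : BrauerPairIdx G := ⟨x.1, e⟩ with hx'def
  have hloc : ∀ r : BrauerPairIdx G, LE p M r x' → BrEq M r.1 (i * pz r) i := fun r hr =>
    source_local hM hx'.1.1 hi (not_brEq_zero hM hx.1.1.1 (irr_isChar χ) hi.1 hu) htop hr
  obtain ⟨n, hn, hxn⟩ := max_conj_normalizer hM hx' hx rfl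
  refine ⟨Star.cjA n i, χ, hχ, ?_, by rw [← Star.cjA_mul, hi.2.1], ?_, fun r hr => ?_⟩
  · have h := Star.cjA_fx hM n hi.1
    rwa [show x'.1.map (MulAut.conj n).toMonoidHom = x.1 from map_conj_eq_of_normalizer hn] at h
  · rwa [Star.ev_cjA (irr_classFun χ)]
  · have h1 : LE p M (cjI n⁻¹ r) x' := by
      have h2 := le_cjI hM n⁻¹ hr
      rwa [hxn, cjI_inv_cancel] at h2
    have h3 := Star.cjA_brEq n (hloc _ h1)
    rw [Star.cjA_mul, ← Star.pz_cjI, cjI_cancel_inv] at h3
    rwa [show (cjI n⁻¹ r).1.map (MulAut.conj n).toMonoidHom = r.1 from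
      congrArg Sigma.fst (cjI_cancel_inv n r)] at h3

theorem gc_ring (hM : IsPModular p M) {P : Type u} [CommGroup P] [Fintype P] {ψ : P → ℂ}
    (h : ψ ∈ gc P) (v : P) : MemLocalRing M (ψ v) := by
  induction h using Subring.closure_induction with
  | mem y hy =>
    obtain ⟨l, rfl⟩ := hy
    refine ring_of_integral hM (Block.isIntegral_of_pow_eq_one (Nat.card_pos (α := P)) ?_)
    rw [lin, ← Units.val_pow_eq_pow_val, ← map_pow, pow_card_eq_one', map_one, Units.val_one]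
  | zero => exact ring_zero hM
  | one => exact ring_one hM
  | add y z _ _ hy hz => exact ring_add hM hy hz
  | neg y _ hy => exact ring_neg hy
  | mul y z _ _ hy hz => exact ring_mul hM hy hz

/-- The degree of the chosen character is invariant. -/
theorem dg_invariant (hM : IsPModular p M) (hB : IsPBlock M B) (hx : IsMx p M B x)
    (hab : ∀ v ∈ x.1, ∀ w ∈ x.1, v * w = w * v) (hfree : Free x) {v w : x.1} (hv : v ≠ 1)
    (hw : w ≠ 1) {t : G} (ht : t ∈ stab x) (htv : t * v * t⁻¹ = w) :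
    dg p M x (Subgroup.zpowers w) = dg p M x (Subgroup.zpowers v) := by
  obtain ⟨-, -, h1, -⟩ := eta_spec hM hx hab hfree fun h => hv (Subgroup.zpowers_eq_bot.1 h)
  obtain ⟨-, -, h2, -⟩ := eta_spec hM hx hab hfree fun h => hw (Subgroup.zpowers_eq_bot.1 h)
  rw [← dg, pr_zpowers] at h1 h2
  have e1 := CycDef.sum_sct_mul (B := B) hM hx hab v.2 w.2
  have e2 := CycDef.sum_sct_mul (B := B) hM hx hab w.2 v.2
  rw [if_pos ⟨t, ht, htv⟩] at e1
  rw [if_pos ⟨t⁻¹, inv_mem ht, by rw [← htv]; group⟩] at e2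
  have e3 : conj (CycDef.wgt (CycDef.av p M x (v : G))) = CycDef.wgt (CycDef.av p M x (w : G)) := by
    rw [← e1, ← e2, map_sum]
    exact Finset.sum_congr rfl fun χ _ => by rw [map_mul, Complex.conj_conj, mul_comm]
  rw [h1, h2, map_mul, map_mul, conj_dg, Complex.conj_natCast] at e3
  have e4 := mul_left_cancel₀ (Nat.cast_ne_zero.2 Nat.card_pos.ne') e3
  rw [dg, dg, charDeg_spec', charDeg_spec', ← Nat.cast_mul, ← Nat.cast_mul, Nat.cast_inj] at e4
  rw [dg, dg, charDeg_spec', charDeg_spec', Nat.mul_self_inj.1 e4.symm]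

/-- The functions with coordinates in the local ring that give the sections up to a phase. -/
theorem exists_base (hM : IsPModular p M) (hB : IsPBlock M B) (hx : IsMx p M B x)
    (hab : ∀ v ∈ x.1, ∀ w ∈ x.1, v * w = w * v) (hfree : Free x) :
    letI : CommGroup x.1 :=
      { (inferInstance : Group x.1) with mul_comm := fun a b => Subtype.ext (hab _ a.2 _ b.2) }
    ∃ (F₀ : IrrCharacter G → x.1 → ℂ) (ω : x.1 → ℂ) (χ₀ : IrrCharacter G),
      (∀ χ, InR M (F₀ χ)) ∧ (∀ v, ¬ MemLocalIdeal M (F₀ χ₀ v)) ∧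
      Adapted ω ∧ (∀ v, ‖ω v‖ = 1) ∧
      ∀ (χ : IrrCharacter G) (v : x.1), v ≠ 1 →
        F₀ χ v = th p M x (Subgroup.zpowers v) (χ : G → ℂ) v * (ω v)⁻¹ := by
  letI : CommGroup x.1 :=
    { (inferInstance : Group x.1) with mul_comm := fun a b => Subtype.ext (hab _ a.2 _ b.2) }
  letI : ∀ S : Subgroup x.1, Fintype (CG (pr p M x S).1) := fun S => Fintype.ofFinite _
  letI : Fintype (Subgroup x.1) := Fintype.ofFinite _
  obtain ⟨i, χ₀, hχ₀, hi, hii, hu, hloc⟩ := exists_source_at hM hB hx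
  have hP : IsPGroup p x.1 := hx.1.1.1
  choose j hjR hjj hzj hjcomm hij using fun S : Subgroup x.1 =>
    exists_idem hM hx hab (pr_spec hM hx S).2 hi hii (hloc _ (pr_spec hM hx S).2)
  set n : Subgroup x.1 → ℂ := fun S => ev (eta p M x S : CG (pr p M x S).1 → ℂ) (j S) with hn
  have hord : ∀ v : x.1, ∃ k, orderOf (v : G) = p ^ k := fun v => order_pow hx.1.1.1 v
  have hne : ∀ {v : x.1}, v ≠ 1 → Subgroup.zpowers v ≠ ⊥ :=
    fun hv h => hv (Subgroup.zpowers_eq_bot.1 h)
  have hsup : ∀ {Q : Subgroup x.1} (v : x.1), Q ≠ ⊥ → Q ⊔ Subgroup.zpowers v ≠ ⊥ :=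
    fun v hQ h => hQ (le_bot_iff.1 (h ▸ le_sup_left))
  -- the characters cut out in the group
  set g : IrrCharacter G → x.1 → ℂ := fun χ v =>
    ev (χ : G → ℂ) (MonoidAlgebra.single (v : G) (1 : ℂ) * i) with hg
  have hgR : ∀ χ, InR M (g χ) := fun χ =>
    InR.of_char hM (isCharacter_cut (irr_isChar χ) hii hi.2)
  set tc : IrrCharacter G → x.1 → ℂ := fun χ v =>
    th p M x (Subgroup.zpowers v) (χ : G → ℂ) v with htc
  have hgval : ∀ χ (v : x.1), v ≠ 1 → g χ v = tc χ v * n (Subgroup.zpowers v) := by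
    intro χ v hv
    obtain ⟨k, hk⟩ := hord v
    obtain ⟨h1, hle⟩ := pr_spec hM hx (Subgroup.zpowers v)
    rw [MonoidHom.map_zpowers, Subgroup.subtype_apply] at h1
    show ev _ _ = _
    rw [ev_centralizer hM (le_isPr hle hx.1.1) h1 hk (hi.mono (le_subgroup hle)) hii
      (hjR _) (hjj _) (hij _) (irr_classFun χ)]
    exact sum_idem hM hx hab hfree (hne hv) (hjR _) (hjj _) (hzj _) (χ : G → ℂ)
      (IsChar.res (irr_isChar χ) _) (Subgroup.mem_zpowers v)
  -- the characters cut out in the centralizers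
  set N : Subgroup x.1 → x.1 → ℂ := fun Q v => ev (eta p M x Q : CG (pr p M x Q).1 → ℂ)
    (MonoidAlgebra.single (⟨(v : G), coe_mem_cg hM hx hab Q v⟩ : CG (pr p M x Q).1) (1 : ℂ) * j Q)
    with hN
  set tN : Subgroup x.1 → x.1 → ℂ := fun Q v => th p M x (Q ⊔ Subgroup.zpowers v)
    (CycDef.up (CG (pr p M x Q).1) (eta p M x Q : CG (pr p M x Q).1 → ℂ)) v with htN
  have hNR : ∀ Q, InR M (N Q) := by
    intro Q
    have h := isCharacter_cut (irr_isChar (eta p M x Q)) (P := x.1.subgroupOf (CG (pr p M x Q).1))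
      (hjj Q) (fun u hu => hjcomm Q ⟨(u : G), Subgroup.mem_subgroupOf.1 hu⟩)
    exact InR.of_char hM (IsChar.comp (MonoidHom.mk'
      (fun v : x.1 => (⟨⟨(v : G), coe_mem_cg hM hx hab Q v⟩, Subgroup.mem_subgroupOf.2 v.2⟩ :
        x.1.subgroupOf (CG (pr p M x Q).1))) fun _ _ => rfl) h)
  have hN1 : ∀ Q, N Q 1 = n Q := fun Q => by
    show ev _ (MonoidAlgebra.single (1 : CG (pr p M x Q).1) (1 : ℂ) * j Q) = _
    rw [← MonoidAlgebra.one_def, one_mul]
  have hupch : ∀ {Q S : Subgroup x.1}, Q ≤ S → IsCharacter (CG (pr p M x S).1)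
      (fun c => CycDef.up (CG (pr p M x Q).1) (eta p M x Q : CG (pr p M x Q).1 → ℂ) (c : G)) := by
    intro Q S hQS
    convert IsChar.comp (Subgroup.inclusion (cg_pr_le hM hx hQS)) (irr_isChar (eta p M x Q)) using 1
    funext c
    exact CycDef.up_coe _ _ (Subgroup.inclusion (cg_pr_le hM hx hQS) c)
  have hNval : ∀ Q, Q ≠ ⊥ → ∀ v : x.1, N Q v = tN Q v * n (Q ⊔ Subgroup.zpowers v) := by
    intro Q hQ v
    obtain ⟨k, hk⟩ := hord v
    set S := Q ⊔ Subgroup.zpowers v with hS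
    have hle : CG (pr p M x S).1 ≤ CG (pr p M x Q).1 := cg_pr_le hM hx le_sup_left
    show ev _ _ = _
    rw [ev_push hM (Subgroup.inclusion hle) (Subgroup.inclusion_injective hle) (k := k)
      (by rw [← Subgroup.orderOf_coe]; exact hk)
      (fun y hy => ⟨⟨(y : G), (mem_cg_pr_sup hM hx Q v _).2 ⟨y.2, by
        have h : (v : G) * y = y * v := congrArg Subtype.val hy.eq
        rw [← h, mul_inv_cancel_right]⟩⟩,
        Subtype.ext rfl⟩)
      (fun c => Subtype.ext ((mul_inv_eq_iff_eq_mul.1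
        ((mem_cg_pr_sup hM hx Q v _).1 c.2).2).symm))
      (hjR Q) (hjj Q) (hjcomm Q v) (hjR S) (hjj S)
      (fun c => by
        simpa using ideal_sub hM (hij Q (Subgroup.inclusion hle c)) (hij S c))
      (irr_classFun (eta p M x Q)),
      ← sum_idem hM hx hab hfree (hsup v hQ) (hjR S) (hjj S) (hzj S) _ (hupch le_sup_left)
        (Subgroup.mem_sup_right (Subgroup.mem_zpowers v))]
    refine Finset.sum_congr rfl fun c _ => congrArg _ ?_
    exact (CycDef.up_coe (CG (pr p M x Q).1) _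
      (⟨(v : G), coe_mem_cg hM hx hab Q v⟩ * Subgroup.inclusion hle c)).symm
  -- adaptedness
  have htcA : ∀ χ, Adapted (tc χ) := fun χ v hv => by
    obtain ⟨-, -, ψ, hψ, e⟩ := th_expand hM hx hab hfree (hne hv) (χ : G → ℂ)
      (IsChar.res (irr_isChar χ) _)
    refine ⟨ψ, hψ, fun w hw => ?_⟩
    show th p M x _ _ w = _
    rw [hw]
    exact e w (hw ▸ Subgroup.mem_zpowers w)
  have htNA : ∀ Q, Q ≠ ⊥ → Adapted (tN Q) := fun Q hQ v _ => by
    obtain ⟨-, -, ψ, hψ, e⟩ := th_expand hM hx hab hfree (hsup v hQ) _ (hupch (Q := Q) le_sup_left)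
    refine ⟨ψ, hψ, fun w hw => ?_⟩
    show th p M x _ _ w = _
    rw [hw]
    exact e w (hw ▸ Subgroup.mem_sup_right (Subgroup.mem_zpowers w))
  have htcR : ∀ χ (v : x.1), v ≠ 1 → MemLocalRing M (tc χ v) := fun χ v hv => by
    obtain ⟨ψ, hψ, e⟩ := htcA χ v hv
    rw [e v rfl]
    exact gc_ring hM hψ v
  have htN1 : ∀ Q, Q ≠ ⊥ → ∀ v, ‖tN Q v‖ = 1 := fun Q hQ v => norm_th_up hM hx hab hfree hQ v
  have htNR : ∀ Q, Q ≠ ⊥ → ∀ v, MemLocalRing M (tN Q v) := fun Q hQ v => by
    obtain ⟨-, -, ψ, hψ, e⟩ := th_expand hM hx hab hfree (hsup v hQ) _ (hupch (Q := Q) le_sup_left)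
    show MemLocalRing M (th p M x _ _ v)
    rw [e v (Subgroup.mem_sup_right (Subgroup.mem_zpowers v))]
    exact gc_ring hM hψ v
  -- the numbers are units
  have hg1 : g χ₀ 1 = ev (χ₀ : G → ℂ) i := by
    show ev _ (MonoidAlgebra.single ((1 : x.1) : G) (1 : ℂ) * i) = _
    rw [OneMemClass.coe_one, ← MonoidAlgebra.one_def, one_mul]
  have hgu : ∀ v, ¬ MemLocalIdeal M (g χ₀ v) := fun v h => hu (hg1 ▸
    (ideal_congr hM ((hgR χ₀).congr hM hP v 1)).1 h)
  have hcyc : ∀ v : x.1, v ≠ 1 → ¬ MemLocalIdeal M (n (Subgroup.zpowers v)) := fun v hv h =>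
    hgu v (by rw [hgval χ₀ v hv]; exact ideal_mul_left hM (htcR χ₀ v hv) h)
  have hclos : ∀ s : Finset x.1, Subgroup.closure (s : Set x.1) ≠ ⊥ →
      ¬ MemLocalIdeal M (n (Subgroup.closure (s : Set x.1))) := by
    intro s
    induction s using Finset.induction with
    | empty => intro h; exact absurd (by simp) h
    | insert v s _ ih =>
      rw [Finset.coe_insert, Set.insert_eq, Subgroup.closure_union, ← Subgroup.zpowers_eq_closure,
        sup_comm]
      intro hne'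
      by_cases hQ : Subgroup.closure (s : Set x.1) = ⊥
      · rw [hQ, bot_sup_eq] at hne' ⊢
        exact hcyc v fun h => hne' (Subgroup.zpowers_eq_bot.2 h)
      · intro h
        refine ih hQ ?_
        rw [← hN1]
        refine (ideal_congr hM ((hNR _).congr hM hP 1 v)).2 ?_
        rw [hNval _ hQ v]
        exact ideal_mul_left hM (htNR _ hQ v) h
  have hnu : ∀ S : Subgroup x.1, S ≠ ⊥ → ¬ MemLocalIdeal M (n S) := fun S hS => by
    have h := hclos (Set.toFinite (S : Set x.1)).toFinset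
    rw [Set.Finite.coe_toFinset, Subgroup.closure_eq] at h
    exact h hS
  have hn0 : ∀ S : Subgroup x.1, S ≠ ⊥ → n S ≠ 0 := fun S hS h =>
    hnu S hS (h ▸ ideal_zero hM)
  have hNu : ∀ Q, Q ≠ ⊥ → ∀ v, ¬ MemLocalIdeal M (N Q v) := fun Q hQ v h => hnu Q hQ (hN1 Q ▸
    (ideal_congr hM ((hNR Q).congr hM hP v 1)).1 h)
  -- the phase
  set Φ : x.1 → ℂ := fun v => ∏ Q ∈ Finset.univ.erase (⊥ : Subgroup x.1), N Q v ^ (-mu Q) with hΦ
  set ω : x.1 → ℂ := fun v => ∏ Q ∈ Finset.univ.erase (⊥ : Subgroup x.1), tN Q v ^ (-mu Q) with hω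
  have hΦR : InR M Φ := by
    have : Φ = ∏ Q ∈ Finset.univ.erase (⊥ : Subgroup x.1), (fun v => N Q v ^ (-mu Q)) :=
      funext fun v => by rw [Finset.prod_apply]
    rw [this]
    exact InR.prod hM _ fun Q hQ => (hNR Q).zpow hM (hNu Q (Finset.ne_of_mem_erase hQ)) _
  have hΦu : ∀ v, ¬ MemLocalIdeal M (Φ v) := fun v =>
    ideal_notMem_prod hM fun Q hQ => by
      have hQ' := Finset.ne_of_mem_erase hQ
      refine ⟨((hNR Q).zpow hM (hNu Q hQ') _).ring hM v, ?_⟩
      rcases Int.eq_nat_or_neg (-mu Q) with ⟨m, h | h⟩ <;> rw [h]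
      · rw [zpow_natCast]
        exact fun h' => hNu Q hQ' v (ideal_of_pow hM ((hNR Q).ring hM v) m h')
      · rw [zpow_neg, zpow_natCast]
        exact ideal_inv hM (ring_pow hM ((hNR Q).ring hM v) m)
          fun h' => hNu Q hQ' v (ideal_of_pow hM ((hNR Q).ring hM v) m h')
  have hω1 : ∀ v, ‖ω v‖ = 1 := fun v => by
    rw [hω, norm_prod]
    exact Finset.prod_eq_one fun Q hQ => by
      rw [norm_zpow, htN1 Q (Finset.ne_of_mem_erase hQ), one_zpow]
  have hω0 : ∀ v, ω v ≠ 0 := fun v h => by simpa [h] using hω1 v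
  have hωA : Adapted ω := by
    have : ω = ∏ Q ∈ Finset.univ.erase (⊥ : Subgroup x.1), (fun v => tN Q v ^ (-mu Q)) :=
      funext fun v => by rw [Finset.prod_apply]
    rw [this]
    exact Adapted.prod _ fun Q hQ => (htNA Q (Finset.ne_of_mem_erase hQ)).zpow
      (fun v _ => htN1 Q (Finset.ne_of_mem_erase hQ) v) _
  have hΦval : ∀ v : x.1, v ≠ 1 → Φ v = ω v * n (Subgroup.zpowers v) := by
    intro v hv
    let f : Subgroup x.1 → ℂˣ := fun S => if h : n S ≠ 0 then Units.mk0 (n S) h else 1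
    have hf : ∀ S : Subgroup x.1, S ≠ ⊥ → (f S : ℂ) = n S := fun S hS => by
      simp [f, hn0 S hS]
    have hrec := congrArg Units.val (recover f (hne hv))
    rw [Units.coe_prod, hf _ (hne hv)] at hrec
    rw [← hrec, hΦ, hω, ← Finset.prod_mul_distrib]
    refine Finset.prod_congr rfl fun Q hQ => ?_
    rw [hNval Q (Finset.ne_of_mem_erase hQ) v, mul_zpow, Units.val_zpow_eq_zpow_val,
      hf _ (hsup v (Finset.ne_of_mem_erase hQ))]
  -- the functions without the numbers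
  set F₀ : IrrCharacter G → x.1 → ℂ := fun χ v => g χ v * (Φ v)⁻¹ with hF₀
  have hF₀R : ∀ χ, InR M (F₀ χ) := fun χ => (hgR χ).mul hM (hΦR.inv hM hΦu)
  have hF₀val : ∀ χ (v : x.1), v ≠ 1 → F₀ χ v = tc χ v * (ω v)⁻¹ := fun χ v hv => by
    show g χ v * (Φ v)⁻¹ = _
    rw [hgval χ v hv, hΦval v hv, mul_inv]
    field_simp [hn0 _ (hne hv)]
  have hF₀u : ∀ v, ¬ MemLocalIdeal M (F₀ χ₀ v) := fun v =>
    ideal_notMem_mul hM ((hgR χ₀).ring hM v) (ring_inv hM (hΦR.ring hM v) (hΦu v)) (hgu v)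
      (ideal_inv hM (hΦR.ring hM v) (hΦu v))
  exact ⟨F₀, ω, χ₀, hF₀R, hF₀u, hωA, hω1, hF₀val⟩

/-- The section at an element is a virtual character on the generators. -/
theorem th_adapted (hM : IsPModular p M) (hx : IsMx p M B x)
    (hab : ∀ v ∈ x.1, ∀ w ∈ x.1, v * w = w * v) (hfree : Free x) (χ : IrrCharacter G) :
    letI : CommGroup x.1 :=
      { (inferInstance : Group x.1) with mul_comm := fun a b => Subtype.ext (hab _ a.2 _ b.2) }
    Adapted (fun v : x.1 => th p M x (Subgroup.zpowers v) (χ : G → ℂ) v) := by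
  intro v hv
  obtain ⟨-, -, ψ, hψ, e⟩ := th_expand hM hx hab hfree
    (fun h => hv (Subgroup.zpowers_eq_bot.1 h)) (χ : G → ℂ) (IsChar.res (irr_isChar χ) _)
  refine ⟨ψ, hψ, fun w hw => ?_⟩
  show th p M x _ _ w = _
  rw [hw]
  exact e w (hw ▸ Subgroup.mem_zpowers w)

/-- The section at an element is invariant. -/
theorem th_invariant (hM : IsPModular p M) (hB : IsPBlock M B) (hx : IsMx p M B x)
    (hab : ∀ v ∈ x.1, ∀ w ∈ x.1, v * w = w * v) (hfree : Free x) (χ : IrrCharacter G)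
    {v w : x.1} (hv : v ≠ 1) (hw : w ≠ 1) {t : G} (ht : t ∈ stab x) (htv : t * v * t⁻¹ = w) :
    th p M x (Subgroup.zpowers w) (χ : G → ℂ) w = th p M x (Subgroup.zpowers v) (χ : G → ℂ) v := by
  have h := sct_conj (irr_classFun χ) (CycDef.av p M x (v : G)) t (v : G) 1
  rw [CycDef.av_conj hM hx ht v.2, mul_one, mul_inv_cancel, htv] at h
  rw [th, th, pr_zpowers, pr_zpowers, h, dg_invariant hM hB hx hab hfree hv hw ht htv]

/-- The units of the sections. -/
theorem exists_units (hM : IsPModular p M) (hB : IsPBlock M B) (hx : IsMx p M B x)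
    (hab : ∀ v ∈ x.1, ∀ w ∈ x.1, v * w = w * v) (hfree : Free x) :
    ∃ (F : IrrCharacter G → x.1 → ℂ) (β : x.1 → ℂ),
      (∀ (χ : IrrCharacter G) (v : x.1), v ≠ 1 →
        sct (χ : G → ℂ) (CycDef.av p M x (v : G)) (v : G) 1 = F χ v * β v) ∧
      (∀ (χ : IrrCharacter G) (v : x.1), v ≠ 1 → F χ v = 0 →
        ∀ w ∈ CG (Subgroup.zpowers (v : G)), ¬ p ∣ orderOf w →
          sct (χ : G → ℂ) (CycDef.av p M x (v : G)) (v : G) w = 0) ∧
      (∀ v : x.1, v ≠ 1 →
        (Nat.card x.1 : ℂ) * (β v * conj (β v)) = CycDef.wgt (CycDef.av p M x (v : G))) ∧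
      (∀ v w : x.1, v ≠ 1 → w ≠ 1 → (∃ t ∈ stab x, t * (v : G) * t⁻¹ = w) → β w = β v) ∧
      ∀ χ (l : x.1 →* ℂˣ), ∃ z : ℤ,
        ∑ v : x.1, (if v = 1 then 0 else F χ v * ((l v : ℂ) - 1)) =
          (Nat.card x.1 : ℂ) * (z : ℂ) := by
  letI : CommGroup x.1 :=
    { (inferInstance : Group x.1) with mul_comm := fun a b => Subtype.ext (hab _ a.2 _ b.2) }
  have hP : IsPGroup p x.1 := hx.1.1.1
  obtain ⟨F₀, ω, χ₀, hF₀R, hF₀u, hωA, hω1, hF₀val⟩ := exists_base hM hB hx hab hfree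
  have hω0 : ∀ v, ω v ≠ 0 := fun v h => by simpa [h] using hω1 v
  letI : Fintype (act x).range := Fintype.ofFinite _
  obtain ⟨K, U, hKR, hUA, hU1, hKval, hUinv⟩ := exists_phase hM hP (act x).range
    (by rw [card_act_range]; exact not_dvd_relIndex hM (P := x.1) (e := x.2) hx hab)
    (hF₀R χ₀) hF₀u (hF₀val χ₀) (fun r v hv => by
      obtain ⟨t, ht⟩ := r.2
      rw [← ht]
      exact th_invariant hM hB hx hab hfree χ₀ hv (by simpa using hv) t.2 (act_apply t v).symm)
    hωA hω1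
  set F : IrrCharacter G → x.1 → ℂ := fun χ v => F₀ χ v * K v with hF
  have hFval : ∀ (χ : IrrCharacter G) (v : x.1), v ≠ 1 →
      F χ v = th p M x (Subgroup.zpowers v) (χ : G → ℂ) v * U v := by
    intro χ v hv
    show F₀ χ v * K v = _
    rw [hF₀val χ v hv, hKval v hv]
    have := hω0 v
    field_simp
  have hU0 : ∀ v, U v ≠ 0 := fun v h => by simpa [h] using hU1 v
  have hne : ∀ {v : x.1}, v ≠ 1 → Subgroup.zpowers v ≠ ⊥ :=
    fun hv h => hv (Subgroup.zpowers_eq_bot.1 h)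
  refine ⟨F, fun v => dg p M x (Subgroup.zpowers v) * (U v)⁻¹, fun χ v hv => ?_,
    fun χ v hv h0 w hw hwr => ?_, fun v hv => ?_, ?_, fun χ l => ?_⟩
  · rw [← pr_zpowers, sct_one, hFval χ v hv]
    have := hU0 v
    field_simp
  · rw [hFval χ v hv, mul_eq_zero, or_iff_left (hU0 v)] at h0
    rw [← pr_zpowers]
    obtain ⟨-, hreg, -⟩ := th_expand hM hx hab hfree (hne hv) (χ : G → ℂ)
      (IsChar.res (irr_isChar χ) _)
    have hw' : w ∈ CG (pr p M x (Subgroup.zpowers v)).1 := by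
      rwa [(pr_spec hM hx _).1, MonoidHom.map_zpowers]
    have h := hreg v (Subgroup.mem_zpowers v) ⟨w, hw'⟩ (by rwa [← Subgroup.orderOf_coe])
    rw [h]
    exact mul_eq_zero_of_left h0 _
  · obtain ⟨-, -, h1, -⟩ := eta_spec hM hx hab hfree (hne hv)
    rw [← dg, pr_zpowers] at h1
    have h2 : (U v)⁻¹ * conj (U v)⁻¹ = 1 := by
      rw [Complex.mul_conj', norm_inv, hU1]
      simp
    rw [h1, map_mul, conj_dg]
    linear_combination ((Nat.card x.1 : ℂ) *
      (dg p M x (Subgroup.zpowers v) * dg p M x (Subgroup.zpowers v))) * h2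
  · rintro v w hv hw ⟨t, ht, htv⟩
    show dg p M x (Subgroup.zpowers w) * (U w)⁻¹ = _
    rw [dg_invariant hM hB hx hab hfree hv hw ht htv,
      show w = act x ⟨t, ht⟩ v from Subtype.ext htv.symm,
      hUinv ⟨act x ⟨t, ht⟩, ⟨t, ht⟩, rfl⟩ v hv]
  · have hFA : Adapted (F χ) := ((th_adapted hM hx hab hfree χ).mul hUA).congr fun v hv => hFval χ v hv
    obtain ⟨z₁, hz₁⟩ := (hFA.mul (Adapted.of_lin l)).sum_int
    obtain ⟨z₂, hz₂⟩ := hFA.sum_int
    obtain ⟨a, ha⟩ := IsPGroup.iff_card.1 hP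
    have hsum : ∑ v : x.1, (if v = 1 then 0 else F χ v * ((l v : ℂ) - 1)) =
        ((z₁ - z₂ : ℤ) : ℂ) := by
      rw [Finset.sum_ite, Finset.sum_const_zero, zero_add, Finset.filter_ne', Int.cast_sub,
        ← hz₁, ← hz₂, ← Finset.sum_sub_distrib]
      exact Finset.sum_congr rfl fun v _ => by rw [Pi.mul_apply, lin]; ring
    have hall : ∑ v : x.1, (if v = 1 then 0 else F χ v * ((l v : ℂ) - 1)) =
        ∑ v : x.1, F χ v * (l v : ℂ) - ∑ v : x.1, F χ v := by
      rw [← Finset.sum_sub_distrib]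
      refine Finset.sum_congr rfl fun v _ => ?_
      split_ifs with h
      · simp [h]
      · ring
    have hFR : InR M (F χ) := (hF₀R χ).mul hM hKR
    have hring : MemLocalRing M (((p ^ a : ℕ) : ℂ)⁻¹ * ((z₁ - z₂ : ℤ) : ℂ)) := by
      rw [← hsum, hall, mul_sub, ← ha]
      refine ring_sub hM (hFR l) ?_
      simpa using hFR 1
    obtain ⟨z, hz⟩ := dvd_of_ring hM hring
    refine ⟨z, ?_⟩
    rw [hsum, hz, ha]
    push_cast
    ring

end Cfsg.Agent.Char.FreeDef
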