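import Mathlib.Algebra.Order.BigOperators.Group.Finset
import Mathlib.Algebra.Order.Ring.Int
import Mathlib.Algebra.BigOperators.Ring.Finset
import Mathlib.Data.Fintype.BigOperators
import Mathlib.Tactic.Choose
import Mathlib.Tactic.Push
import Mathlib.Tactic.Linarith
import Mathlib.Tactic.LinearCombination
import Mathlib.Tactic.Ring
import Mathlib.Tactic.NormNum

/-!
Integral columns with Gram matrix `1 + e` and no zero row: the number of rows.
-/

namespace Cfsg.Agent.Char.FreeDef

set_option linter.unusedSectionVars false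

universe u v

variable {ι : Type u} {A : Finset ι}

theorem one_le_sq {z : ℤ} (h : z ≠ 0) : 1 ≤ z * z := by
  have := mul_self_pos.2 h
  omega

/-- An integral vector of norm two. -/
theorem two_sq [DecidableEq ι] {v : ι → ℤ} (h : ∑ x ∈ A, v x * v x = 2) :
    ∃ i ∈ A, ∃ j ∈ A, i ≠ j ∧ v i * v i = 1 ∧ v j * v j = 1 ∧
      ∀ x ∈ A, x ≠ i → x ≠ j → v x = 0 := by
  have hle : ∀ x ∈ A, v x * v x ≤ 1 := by
    intro x hx
    have h1 : v x * v x ≤ 2 := h ▸ Finset.single_le_sum (f := fun y => v y * v y)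
      (fun y _ => mul_self_nonneg _) hx
    have h2 : -1 ≤ v x ∧ v x ≤ 1 := ⟨by nlinarith, by nlinarith⟩
    rcases (show v x = -1 ∨ v x = 0 ∨ v x = 1 by omega) with e | e | e <;> rw [e] <;> norm_num
  set S := A.filter fun x => v x ≠ 0 with hS
  have hone : ∀ x ∈ S, v x * v x = 1 := fun x hx =>
    le_antisymm (hle x (Finset.mem_filter.1 hx).1) (one_le_sq (Finset.mem_filter.1 hx).2)
  have hcard : S.card = 2 := by
    have h1 : ∑ x ∈ S, v x * v x = 2 := by
      rw [← h]
      exact Finset.sum_subset (Finset.filter_subset _ _) fun x hx hxS => by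
        have : v x = 0 := by
          by_contra h0
          exact hxS (Finset.mem_filter.2 ⟨hx, h0⟩)
        simp [this]
    rw [Finset.sum_congr rfl hone, Finset.sum_const, nsmul_one] at h1
    exact_mod_cast h1
  obtain ⟨i, j, hij, hSe⟩ := Finset.card_eq_two.1 hcard
  have hi : i ∈ S := hSe ▸ Finset.mem_insert_self _ _
  have hj : j ∈ S := hSe ▸ Finset.mem_insert_of_mem (Finset.mem_singleton_self _)
  refine ⟨i, (Finset.mem_filter.1 hi).1, j, (Finset.mem_filter.1 hj).1, hij, hone i hi, hone j hj,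
    fun x hx h1 h2 => ?_⟩
  by_contra h0
  have : x ∈ ({i, j} : Finset ι) := hSe ▸ Finset.mem_filter.2 ⟨hx, h0⟩
  simp [h1, h2] at this

theorem sum_two [DecidableEq ι] {v : ι → ℤ} (f : ι → ℤ) {i j : ι} (hi : i ∈ A) (hj : j ∈ A)
    (hij : i ≠ j) (h : ∀ x ∈ A, x ≠ i → x ≠ j → v x = 0) :
    ∑ x ∈ A, v x * f x = v i * f i + v j * f j :=
  Finset.sum_eq_add_of_mem i j hi hj hij fun x hx hne => by rw [h x hx hne.1 hne.2, zero_mul]

/-- The star: differences of norm two with inner products one share one coordinate. -/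
theorem exists_center [DecidableEq ι] {κ : Type v} {K : Finset κ} (hK : K.Nonempty)
    (v : κ → ι → ℤ) (X : ι → ℤ)
    (hn : ∀ o ∈ K, ∑ x ∈ A, v o x * v o x = 2)
    (hp : ∀ o ∈ K, ∀ o' ∈ K, o ≠ o' → ∑ x ∈ A, v o x * v o' x = 1)
    (hX : ∀ o ∈ K, ∑ x ∈ A, v o x * X x = 1) :
    ∃ c ∈ A, ∃ s : ℤ, s * s = 1 ∧ ∀ o ∈ K, ∃ w ∈ A, w ≠ c ∧ v o c = s ∧ v o w * v o w = 1 ∧
      ∀ x ∈ A, x ≠ c → x ≠ w → v o x = 0 := by
  obtain ⟨o₁, ho₁⟩ := hK
  obtain ⟨i, hi, j, hj, hij, hvi, hvj, h1⟩ := two_sq (hn o₁ ho₁)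
  by_cases hone : ∀ o ∈ K, o = o₁
  · exact ⟨i, hi, v o₁ i, hvi, fun o ho => by
      rw [hone o ho]; exact ⟨j, hj, hij.symm, rfl, hvj, h1⟩⟩
  push Not at hone
  obtain ⟨o₂, ho₂, h12⟩ := hone
  -- the coordinate of the first two
  have hp12 : v o₁ i * v o₂ i + v o₁ j * v o₂ j = 1 := by
    rw [← sum_two (fun x => v o₂ x) hi hj hij h1]; exact hp _ ho₁ _ ho₂ (Ne.symm h12)
  have key : ∀ c b, c ∈ A → b ∈ A → c ≠ b → v o₁ c * v o₁ c = 1 → v o₁ b * v o₁ b = 1 →
      (∀ x ∈ A, x ≠ c → x ≠ b → v o₁ x = 0) → v o₂ c ≠ 0 →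
      ∃ c' ∈ A, ∃ s : ℤ, s * s = 1 ∧ ∀ o ∈ K, ∃ w ∈ A, w ≠ c' ∧ v o c' = s ∧
        v o w * v o w = 1 ∧ ∀ x ∈ A, x ≠ c' → x ≠ w → v o x = 0 := by
    intro c b hc hb hcb hvc hvb h1' hc2
    have hfill : ∀ o ∈ K, v o c ≠ 0 → ∃ w ∈ A, w ≠ c ∧ v o w * v o w = 1 ∧
        (∀ x ∈ A, x ≠ c → x ≠ w → v o x = 0) ∧ v o c * v o c = 1 := by
      intro o ho hne
      obtain ⟨i', hi', j', hj', hij', e1, e2, h0⟩ := two_sq (hn o ho)
      by_cases hci : c = i'
      · subst hci
        exact ⟨j', hj', hij'.symm, e2, h0, e1⟩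
      · by_cases hcj : c = j'
        · subst hcj
          exact ⟨i', hi', hij', e1, fun x hx a b => h0 x hx b a, e2⟩
        · exact absurd (h0 c hc hci hcj) hne
    have hsame : ∀ o ∈ K, o ≠ o₁ → v o c ≠ 0 → v o c = v o₁ c ∧ v o b = 0 := by
      intro o ho hne hoc
      obtain ⟨w, hw, hwc, hw1, h0, hoc1⟩ := hfill o ho hoc
      have h := hp _ ho₁ _ ho (Ne.symm hne)
      rw [sum_two (fun x => v o x) hc hb hcb h1'] at h
      have ha : v o₁ c * v o c = 1 ∨ v o₁ c * v o c = -1 :=
        mul_self_eq_one_iff.1 (by linear_combination (v o c * v o c) * hvc + hoc1)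
      have hb0 : v o b = 0 := by
        by_contra hb0
        obtain rfl : w = b := by
          by_contra hwb
          exact hb0 (h0 b hb hcb.symm (Ne.symm hwb))
        have hb' : v o₁ w * v o w = 1 ∨ v o₁ w * v o w = -1 :=
          mul_self_eq_one_iff.1 (by linear_combination (v o w * v o w) * hvb + hw1)
        omega
      refine ⟨?_, hb0⟩
      rw [hb0, mul_zero, add_zero] at h
      linear_combination (v o₁ c) * h - (v o c) * hvc
    obtain ⟨e2c, e2b⟩ := hsame o₂ ho₂ h12 hc2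
    obtain ⟨b₂, hb₂, hb₂c, hb₂1, h2', -⟩ := hfill o₂ ho₂ hc2
    refine ⟨c, hc, v o₁ c, hvc, fun o ho => ?_⟩
    by_cases ho1 : o = o₁
    · subst ho1
      exact ⟨b, hb, hcb.symm, rfl, hvb, h1'⟩
    by_cases hoc : v o c = 0
    · exfalso
      have ho2 : o ≠ o₂ := fun h => hc2 (h ▸ hoc)
      have ha := hp _ ho₁ _ ho (Ne.symm ho1)
      have hb' := hp _ ho₂ _ ho (Ne.symm ho2)
      rw [sum_two (fun x => v o x) hc hb hcb h1', hoc, mul_zero, zero_add] at ha
      rw [sum_two (fun x => v o x) hc hb₂ hb₂c.symm h2', hoc, mul_zero, zero_add] at hb'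
      obtain ⟨i', hi', j', hj', hij', e1, e2, h0⟩ := two_sq (hn o ho)
      have hob : v o b ≠ 0 := fun h => by rw [h, mul_zero] at ha; omega
      have hob₂ : v o b₂ ≠ 0 := fun h => by rw [h, mul_zero] at hb'; omega
      have hbb : b ≠ b₂ := fun h => by
        subst h
        rw [e2b] at hb₂1
        norm_num at hb₂1
      have hsupp : ∀ x ∈ A, x ≠ b → x ≠ b₂ → v o x = 0 := by
        intro x hx hxb hxb₂
        by_contra hne
        have hm : ∀ y ∈ A, v o y ≠ 0 → y = i' ∨ y = j' := fun y hy h => by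
          by_contra hh
          push Not at hh
          exact h (h0 y hy hh.1 hh.2)
        rcases hm x hx hne with rfl | rfl <;> rcases hm b hb hob with rfl | rfl <;>
          rcases hm b₂ hb₂ hob₂ with rfl | rfl <;> simp_all
      have hX1 := hX o₁ ho₁
      have hX2 := hX o₂ ho₂
      have hX3 := hX o ho
      rw [sum_two X hc hb hcb h1'] at hX1
      rw [sum_two X hc hb₂ hb₂c.symm h2', e2c] at hX2
      rw [sum_two X hb hb₂ hbb hsupp] at hX3
      have eb : v o b = v o₁ b := by linear_combination (v o₁ b) * ha - (v o b) * hvb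
      have eb₂ : v o b₂ = v o₂ b₂ := by linear_combination (v o₂ b₂) * hb' - (v o b₂) * hb₂1
      rw [eb, eb₂] at hX3
      omega
    · obtain ⟨w, hw, hwc, hw1, h0, -⟩ := hfill o ho hoc
      exact ⟨w, hw, hwc, (hsame o ho ho1 hoc).1, hw1, h0⟩
  by_cases h2i : v o₂ i = 0
  · refine key j i hj hi hij.symm hvj hvi (fun x hx a b => h1 x hx b a) fun h2j => ?_
    rw [h2i, h2j] at hp12
    norm_num at hp12
  · exact key i j hi hj hij hvi hvj h1 h2i

/-- The number of rows. -/
theorem rows_bound {O : Type v} [Fintype O] [DecidableEq O] [Nonempty O] (a : ι → O → ℤ) (e : ℕ)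
    (hg : ∀ o o', ∑ x ∈ A, a x o * a x o' = (if o = o' then 1 else 0) + (e : ℤ))
    (hnz : ∀ x ∈ A, ∃ o, a x o ≠ 0) :
    A.card ≤ e + Fintype.card O ∧
      (e ≤ 3 → Fintype.card O + 1 ≤ A.card → A.card = e + Fintype.card O ∨
        (e = 2 ∧ Fintype.card O = 3) ∨ (e = 3 ∧ Fintype.card O = 3) ∨
          (e = 3 ∧ Fintype.card O = 4)) := by
  classical
  obtain ⟨o₀⟩ : Nonempty O := inferInstance
  set X : ι → ℤ := fun x => a x o₀ with hX
  set K := Finset.univ.erase o₀ with hK
  have hKcard : K.card + 1 = Fintype.card O := by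
    rw [hK, Finset.card_erase_add_one (Finset.mem_univ _), Finset.card_univ]
  have hXn : ∑ x ∈ A, X x * X x = (e : ℤ) + 1 := by
    rw [hg, if_pos rfl]; ring
  by_cases hKe : K = ∅
  · have hone : ∀ o, o = o₀ := fun o => by
      by_contra h
      exact Finset.eq_empty_iff_forall_notMem.1 hKe o (Finset.mem_erase.2 ⟨h, Finset.mem_univ _⟩)
    have hcard : Fintype.card O = 1 := by rw [← hKcard, hKe, Finset.card_empty]
    have h1 : ∀ x ∈ A, 1 ≤ X x * X x := fun x hx => by
      obtain ⟨o, ho⟩ := hnz x hx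
      refine one_le_sq ?_
      rw [hone o] at ho
      exact ho
    have hle : (A.card : ℤ) ≤ (e : ℤ) + 1 := by
      rw [← hXn, ← nsmul_one A.card, ← Finset.sum_const]
      exact Finset.sum_le_sum h1
    refine ⟨by rw [hcard]; omega, fun he h2 => Or.inl ?_⟩
    rw [hcard] at h2 ⊢
    have hsq : ∀ x ∈ A, X x * X x = 1 := by
      intro x hx
      by_contra hne
      obtain ⟨y, hy, hyx⟩ := Finset.exists_mem_ne (s := A) (by omega) x
      have h3 : X x * X x + X y * X y ≤ (e : ℤ) + 1 := by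
        rw [← hXn, ← Finset.sum_pair hyx.symm (f := fun z => X z * X z)]
        exact Finset.sum_le_sum_of_subset_of_nonneg
          (Finset.insert_subset hx (Finset.singleton_subset_iff.2 hy))
          fun z _ _ => mul_self_nonneg _
      have h4 := h1 y hy
      have h5 : 4 ≤ X x * X x := by
        have h6 : 1 < X x * X x := lt_of_le_of_ne (h1 x hx) (Ne.symm hne)
        have h7 : X x ≤ -2 ∨ 2 ≤ X x := by
          by_contra h8
          push Not at h8
          rcases (show X x = -1 ∨ X x = 0 ∨ X x = 1 by omega) with e | e | e <;>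
            rw [e] at h6 <;> norm_num at h6
        rcases h7 with h7 | h7 <;> nlinarith
      omega
    rw [Finset.sum_congr rfl hsq, Finset.sum_const, nsmul_one] at hXn
    omega
  -- the differences
  obtain ⟨c, hc, s, hs, hw⟩ := exists_center (A := A) (Finset.nonempty_iff_ne_empty.2 hKe)
    (fun o x => a x o₀ - a x o) X
    (fun o ho => by
      have hne : o ≠ o₀ := Finset.ne_of_mem_erase ho
      simp only [sub_mul, mul_sub, Finset.sum_sub_distrib, hg, if_true, if_neg hne,
        if_neg hne.symm]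
      ring)
    (fun o ho o' ho' hoo => by
      simp only [sub_mul, mul_sub, Finset.sum_sub_distrib, hg, if_true,
        if_neg (Finset.ne_of_mem_erase ho), if_neg (Finset.ne_of_mem_erase ho').symm, if_neg hoo]
      ring)
    (fun o ho => by
      simp only [X, sub_mul, Finset.sum_sub_distrib, hg, if_true,
        if_neg (Finset.ne_of_mem_erase ho)]
      ring)
  haveI : Nonempty ι := ⟨c⟩
  choose! w hwA hwc hvc hw1 hw0 using hw
  set u := s * X c with hu
  have hwX : ∀ o ∈ K, (a (w o) o₀ - a (w o) o) * X (w o) = 1 - u := by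
    intro o ho
    have h : ∑ x ∈ A, (a x o₀ - a x o) * X x = 1 := by
      simp only [X, sub_mul, Finset.sum_sub_distrib, hg, if_true,
        if_neg (Finset.ne_of_mem_erase ho)]
      ring
    rw [sum_two (v := fun x => a x o₀ - a x o) X hc (hwA o ho) (hwc o ho).symm (hw0 o ho),
      hvc o ho] at h
    linear_combination h
  have hwinj : ∀ o ∈ K, ∀ o' ∈ K, w o = w o' → o = o' := by
    intro o ho o' ho' h
    by_contra hne
    have hp : ∑ x ∈ A, (a x o₀ - a x o) * (a x o₀ - a x o') = 1 := by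
      simp only [sub_mul, mul_sub, Finset.sum_sub_distrib, hg, if_true,
        if_neg (Finset.ne_of_mem_erase ho), if_neg (Finset.ne_of_mem_erase ho').symm, if_neg hne]
      ring
    rw [sum_two (v := fun x => a x o₀ - a x o) (fun x => a x o₀ - a x o') hc (hwA o ho)
      (hwc o ho).symm (hw0 o ho), hvc o ho, hvc o' ho', hs] at hp
    have h1 : (a (w o) o₀ - a (w o) o') * (a (w o) o₀ - a (w o) o') = 1 := h ▸ hw1 o' ho'
    have h2 : (a (w o) o₀ - a (w o) o) * (a (w o) o₀ - a (w o) o') = 0 := by linear_combination hp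
    rcases mul_eq_zero.1 h2 with h3 | h3
    · have := hw1 o ho
      rw [h3] at this
      norm_num at this
    · rw [h3] at h1
      norm_num at h1
  set W := K.image w with hW
  set R := A \ insert c W with hR
  have hcW : c ∉ W := fun h => by
    obtain ⟨o, ho, h'⟩ := Finset.mem_image.1 h
    exact hwc o ho h'
  have hsub : insert c W ⊆ A := Finset.insert_subset hc fun x hx => by
    obtain ⟨o, ho, rfl⟩ := Finset.mem_image.1 hx
    exact hwA o ho
  have hk : A.card = R.card + Fintype.card O := by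
    rw [← hKcard, hR, ← Finset.card_image_of_injOn (s := K) hwinj, ← hW,
      ← Finset.card_insert_of_notMem hcW]
    exact (Finset.card_sdiff_add_card_eq_card hsub).symm
  have hR1 : ∀ x ∈ R, 1 ≤ X x * X x := by
    intro x hx
    obtain ⟨hxA, hxn⟩ := Finset.mem_sdiff.1 hx
    obtain ⟨o, ho⟩ := hnz x hxA
    refine one_le_sq ?_
    show a x o₀ ≠ 0
    by_cases hoo : o = o₀
    · exact hoo ▸ ho
    · have hoK : o ∈ K := Finset.mem_erase.2 ⟨hoo, Finset.mem_univ _⟩
      have hxc : x ≠ c := fun h => hxn (h ▸ Finset.mem_insert_self _ _)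
      have hxw : x ≠ w o := fun h =>
        hxn (Finset.mem_insert_of_mem (h ▸ Finset.mem_image_of_mem _ hoK))
      have := hw0 o hoK x hxA hxc hxw
      intro h0
      exact ho (by omega)
  have hnorm : u * u + (K.card : ℤ) * ((1 - u) * (1 - u)) + ∑ x ∈ R, X x * X x = (e : ℤ) + 1 := by
    rw [← hXn, ← Finset.sum_sdiff hsub (f := fun x => X x * X x), Finset.sum_insert hcW,
      hW, Finset.sum_image hwinj,
      Finset.sum_congr rfl (s₁ := K) (g := fun _ => (1 - u) * (1 - u)) fun o ho => by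
        linear_combination ((a (w o) o₀ - a (w o) o) * X (w o) + (1 - u)) * hwX o ho -
          (X (w o) * X (w o)) * hw1 o ho,
      Finset.sum_const, nsmul_eq_mul, ← hR, hu]
    linear_combination (X c * X c) * hs
  have hKpos : 1 ≤ (K.card : ℤ) := by
    have := (Finset.nonempty_iff_ne_empty.2 hKe).card_pos
    omega
  have hlow : 1 ≤ u * u + (K.card : ℤ) * ((1 - u) * (1 - u)) := by
    by_cases h : u = 0
    · rw [h]; linarith
    · have := one_le_sq h
      have : (0 : ℤ) ≤ (K.card : ℤ) * ((1 - u) * (1 - u)) :=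
        mul_nonneg (by omega) (mul_self_nonneg _)
      omega
  have hsum : (R.card : ℤ) ≤ ∑ x ∈ R, X x * X x := by
    rw [← nsmul_one R.card, ← Finset.sum_const]
    exact Finset.sum_le_sum hR1
  refine ⟨by omega, fun he h2 => ?_⟩
  have hsq : ∀ x ∈ R, X x * X x = 1 := by
    intro x hx
    have h3 : X x * X x ≤ 3 := by
      have := Finset.single_le_sum (f := fun y => X y * X y) (fun y _ => mul_self_nonneg _) hx
      omega
    have h4 : -1 ≤ X x ∧ X x ≤ 1 := ⟨by nlinarith, by nlinarith⟩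
    have h5 := hR1 x hx
    rcases (show X x = -1 ∨ X x = 0 ∨ X x = 1 by omega) with e | e | e <;>
      simp [e] at h5 ⊢
  rw [Finset.sum_congr rfl hsq, Finset.sum_const, nsmul_one] at hnorm
  by_cases hre : R.card = e
  · exact Or.inl (by omega)
  have hu2 : u * u + (K.card : ℤ) * ((1 - u) * (1 - u)) ≤ 3 := by omega
  have h4 : -1 ≤ u ∧ u ≤ 1 := by
    have h5 : 0 ≤ (K.card : ℤ) * ((1 - u) * (1 - u)) := mul_nonneg (by omega) (mul_self_nonneg _)
    exact ⟨by nlinarith, by nlinarith⟩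
  rcases (show u = -1 ∨ u = 0 ∨ u = 1 by omega) with e1 | e1 | e1 <;> rw [e1] at hnorm
  · norm_num at hnorm
    omega
  · norm_num at hnorm
    right
    omega
  · norm_num at hnorm
    omega

end Cfsg.Agent.Char.FreeDef
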