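import Cfsg.Agent.Lib.Char.FreeDefectCoords
import Cfsg.Agent.Lib.Char.FreeDefectRows
import Cfsg.Agent.Lib.Char.CycDefRows
import Cfsg.Agent.Lib.Char.RankOneBasic

/-!
The numbers of ordinary and modular characters of a block with abelian defect group and freely
acting inertial group.
-/

open scoped ComplexConjugate Classical

namespace Cfsg.Agent.Char.FreeDef

open Cfsg Cfsg.Agent.Block Cfsg.Agent.Char.BP Cfsg.Agent.Char.Spec

set_option linter.unusedSectionVars false
set_option linter.style.haveILetI false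
set_option maxHeartbeats 1600000

universe u

variable {G : Type u} [Group G] [Fintype G] {p : ℕ} [hp : Fact p.Prime] {M : Ideal AlgInt}
variable {B : Set (IrrCharacter G)} {x : BrauerPairIdx G}

/-- The count of the characters from those of the nilpotent blocks of the centralizers. -/
theorem card_split (hM : IsPModular p M) (hB : IsPBlock M B) (hx : IsMx p M B x)
    (hab : ∀ v ∈ x.1, ∀ w ∈ x.1, v * w = w * v) (hfree : Free x) :
    (CG x.1).relIndex (stab x) * Nat.card B =
      (CG x.1).relIndex (stab x) * blockRank p B + (Nat.card x.1 - 1) := by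
  have h := Wat.card_formula hM hB hx hab
  have hT : Nat.card (stab x) = (CG x.1).relIndex (stab x) * Nat.card (CG x.1) := by
    rw [← Nat.card_congr (Subgroup.subgroupOfEquivOfLe (cg_le_stab x)).toEquiv,
      Subgroup.relIndex, mul_comm, Subgroup.card_mul_index]
  have hwt : ∀ v : x.1, Wat.wt p M x (v : G) =
      if v = 1 then Nat.card (stab x) * blockRank p B else Nat.card (CG x.1) := by
    intro v
    split_ifs with hv
    · subst hv
      rw [Wat.wt, OneMemClass.coe_one, Subgroup.zpowers_one_eq_bot, Wat.rk_bot hM hB hx, Wat.cg_bot,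
        inf_top_eq]
    · obtain ⟨e1, l1, -⟩ := CycDef.av_spec hM hx v.2
      have hv1 : (v : G) ≠ 1 := fun h => hv (Subtype.ext h)
      have hinter : stab x ⊓ CG (Subgroup.zpowers (v : G)) = CG x.1 := by
        refine le_antisymm (fun t ht => hfree t ht.1 v v.2 hv1 (Wat.mem_cg_zpowers.1 ht.2))
          (le_inf (cg_le_stab x) (Subgroup.centralizer_le ?_))
        exact SetLike.coe_subset_coe.2 (Subgroup.zpowers_le.2 v.2)
      letI := Fintype.ofFinite (CG (CycDef.av p M x (v : G)).1)
      have hnil : IsNilpotentBlock p M (CycDef.av p M x (v : G)).2 :=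
        (nilpotent_local_iff hM (P := x.1) (e := x.2) hx hab
          (Wat.step_of_le hM hx.1.1 hab l1)).2 (by rw [e1]; exact hinter.le)
      rw [Wat.wt, hinter, show Wat.rk p M x (Subgroup.zpowers (v : G)) =
        blockRank p (CycDef.av p M x (v : G)).2 from rfl, (rank_of_nilpotent hM hnil).1, mul_one]
  rw [Finset.sum_congr rfl fun v _ => by rw [hwt v],
    ← Finset.add_sum_erase _ _ (Finset.mem_univ (1 : x.1)), if_pos rfl,
    Finset.sum_congr rfl (g := fun _ => (Nat.card (CG x.1) : ℂ)) fun v hv => by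
      rw [if_neg (Finset.ne_of_mem_erase hv)],
    Finset.sum_const, Finset.card_erase_of_mem (Finset.mem_univ _), Finset.card_univ,
    ← Nat.card_eq_fintype_card, nsmul_eq_mul, ← Nat.cast_mul, ← Nat.cast_mul, ← Nat.cast_add,
    Nat.cast_inj, hT] at h
  refine Nat.eq_of_mul_eq_mul_left (Nat.card_pos (α := CG x.1)) ?_
  linarith

/-- The orbits on the nontrivial linear characters carry integral coordinates of the block. -/
theorem exists_rows (hM : IsPModular p M) (hB : IsPBlock M B) (hx : IsMx p M B x)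
    (hab : ∀ v ∈ x.1, ∀ w ∈ x.1, v * w = w * v) (hfree : Free x) (hP1 : x.1 ≠ ⊥) :
    ∃ (O : Type u) (_ : Fintype O) (_ : Nonempty O) (a : IrrCharacter G → O → ℤ),
      Fintype.card O * (CG x.1).relIndex (stab x) + 1 = Nat.card x.1 ∧
      (∀ o o', ∑ χ ∈ Finset.univ.filter (· ∈ B), a χ o * a χ o' =
        (if o = o' then 1 else 0) + ((CG x.1).relIndex (stab x) : ℤ)) ∧
      ∀ χ ∈ Finset.univ.filter (· ∈ B), ∃ o, a χ o ≠ 0 := by
  obtain ⟨F, β, hsct, hvan, hnorm, hinv, hint⟩ := exists_units hM hB hx hab hfree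
  letI : CommGroup x.1 :=
    { (inferInstance : Group x.1) with mul_comm := fun a b => Subtype.ext (hab _ a.2 _ b.2) }
  letI : Fintype (x.1 →* ℂˣ) := Fintype.ofFinite _
  letI : Fintype (act x).range := Fintype.ofFinite _
  set R := (act x).range with hR
  set q : ℂ := (Nat.card x.1 : ℂ) with hq
  have hq0 : q ≠ 0 := Nat.cast_ne_zero.2 Nat.card_pos.ne'
  set A := Finset.univ.filter (· ∈ B) with hA
  -- freeness
  have hfr : ∀ (r : R) (v : x.1), v ≠ 1 → (r : MulAut x.1) v = v → r = 1 := by
    intro r v hv hrv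
    obtain ⟨t, ht⟩ := r.2
    rw [← ht] at hrv
    have hc := hfree t t.2 v v.2 (fun h => hv (Subtype.ext h)) (congrArg Subtype.val hrv)
    refine Subtype.ext ?_
    rw [← ht]
    refine MulEquiv.ext fun w => Subtype.ext ?_
    show (t : G) * w * (t : G)⁻¹ = w
    rw [← Subgroup.mem_centralizer_iff.1 hc w w.2, mul_inv_cancel_right]
  have hfrd : ∀ (r : R) (m : x.1 →* ℂˣ), m ≠ 1 →
      m.comp (r : MulAut x.1).toMonoidHom = m → r = 1 := by
    intro r m hm hrm
    by_contra hr
    have hinj : Function.Injective fun v : x.1 => (r : MulAut x.1) v * v⁻¹ := by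
      intro v w h
      have h1 : (r : MulAut x.1) (v * w⁻¹) = v * w⁻¹ := by
        rw [map_mul, map_inv]
        have h2 : (r : MulAut x.1) v = (r : MulAut x.1) w * w⁻¹ * v := by
          rw [← show (r : MulAut x.1) v * v⁻¹ = (r : MulAut x.1) w * w⁻¹ from h,
            inv_mul_cancel_right]
        rw [h2, mul_comm ((r : MulAut x.1) w) w⁻¹, mul_right_comm, mul_inv_cancel_right,
          mul_comm]
      by_contra hne
      exact hr (hfr r _ (fun h' => hne (mul_inv_eq_one.1 h')) h1)
    refine hm (MonoidHom.ext fun u => ?_)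
    obtain ⟨v, rfl⟩ := (Finite.injective_iff_surjective.1 hinj) u
    show m ((r : MulAut x.1) v * v⁻¹) = 1
    rw [map_mul, map_inv]
    exact mul_inv_eq_one.2 (DFunLike.congr_fun hrm v)
  have hreg1 : ¬ p ∣ orderOf (1 : G) := by rw [orderOf_one]; exact hp.out.not_dvd_one
  set D : IrrCharacter G → x.1 → ℂ := fun χ v => if v = 1 then 0 else F χ v with hD
  have hβ0 : ∀ v : x.1, v ≠ 1 → β v ≠ 0 := fun v hv h => by
    have hh := hnorm v hv
    rw [h, zero_mul, mul_zero] at hh
    exact CycDef.wgt_ne_zero hM (CycDef.av_spec hM hx v.2).2.2.1.2 hh.symm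
  have hG : ∀ v w : x.1, v ≠ 1 → w ≠ 1 →
      ∑ χ ∈ A, D χ v * conj (D χ w) =
        q * ∑ r : R, (if w = (r : MulAut x.1) v then (1 : ℂ) else 0) := by
    intro v w hv hw
    have h := CycDef.sum_sct_mul (B := B) hM hx hab v.2 w.2
    have h1 : ∑ χ ∈ A, sct (χ : G → ℂ) (CycDef.av p M x (v : G)) (v : G) 1 *
        conj (sct (χ : G → ℂ) (CycDef.av p M x (w : G)) (w : G) 1) =
        (∑ χ ∈ A, D χ v * conj (D χ w)) * (β v * conj (β w)) := by
      rw [Finset.sum_mul]
      refine Finset.sum_congr rfl fun χ _ => ?_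
      rw [hsct χ v hv, hsct χ w hw, map_mul (starRingEnd ℂ)]
      simp only [hD, if_neg hv, if_neg hw]
      ring
    have hne : β v * conj (β w) ≠ 0 :=
      mul_ne_zero (hβ0 v hv) fun h' => hβ0 w hw (by simpa using h')
    refine mul_right_cancel₀ hne (h1.symm.trans (h.trans ?_))
    by_cases hex : ∃ r : R, w = (r : MulAut x.1) v
    · obtain ⟨r, rfl⟩ := hex
      obtain ⟨t, ht⟩ := r.2
      have htv : (t : G) * v * (t : G)⁻¹ = (((r : MulAut x.1) v : x.1) : G) := by rw [← ht]; rfl
      rw [if_pos ⟨t, t.2, htv⟩, hinv v _ hv hw ⟨t, t.2, htv⟩, Finset.sum_eq_single r,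
        if_pos rfl, mul_one, ← hnorm v hv]
      · intro s _ hs
        refine if_neg fun he => hs ?_
        have h' := hfr (s⁻¹ * r) v hv (by
          show (s : MulAut x.1)⁻¹ ((r : MulAut x.1) v) = v
          rw [he, MulAut.inv_apply_self])
        exact (inv_mul_eq_one.1 h')
      · exact fun h' => absurd (Finset.mem_univ _) h'
    · rw [if_neg, Finset.sum_eq_zero fun (r : R) _ => if_neg fun h' => hex ⟨r, h'⟩, mul_zero,
        zero_mul]
      rintro ⟨t, ht, htv⟩
      exact hex ⟨⟨act x ⟨t, ht⟩, ⟨t, ht⟩, rfl⟩, Subtype.ext htv.symm⟩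
  choose a ha using hint
  have hsumlin : ∀ l : x.1 →* ℂˣ, ∑ v : x.1, (l v : ℂ) = if l = 1 then q else 0 := by
    intro l
    split_ifs with hl
    · subst hl
      simp [hq, Nat.card_eq_fintype_card]
    · obtain ⟨y, hy⟩ : ∃ y, l y ≠ 1 := by
        by_contra h
        push Not at h
        exact hl (MonoidHom.ext h)
      have h : ∑ v : x.1, (l v : ℂ) = (l y : ℂ) * ∑ v : x.1, (l v : ℂ) := by
        rw [Finset.mul_sum]
        exact (Fintype.sum_equiv (Equiv.mulLeft y) _ _ fun v => by simp).symm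
      have h2 : ((l y : ℂ) - 1) * ∑ v : x.1, (l v : ℂ) = 0 := by rw [sub_mul, one_mul, ← h, sub_self]
      exact (mul_eq_zero.1 h2).resolve_left (sub_ne_zero.2 fun e => hy (Units.ext e))
  have hinvF : ∀ χ (l : x.1 →* ℂˣ), q * (a χ l : ℂ) = ∑ v : x.1, D χ v * ((l v : ℂ) - 1) := by
    intro χ l
    rw [← ha χ l]
    exact Finset.sum_congr rfl fun v _ => by simp only [hD]; split_ifs <;> simp
  have hgram : ∀ l m : x.1 →* ℂˣ, l ≠ 1 → m ≠ 1 → ∑ χ ∈ A, a χ l * a χ m =
      (if ∃ r : R, l = m.comp (r : MulAut x.1).toMonoidHom then 1 else 0) +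
        (Nat.card R : ℤ) := by
    intro l m hl hm
    have key : q * q * ∑ χ ∈ A, ((a χ l : ℂ) * (a χ m : ℂ)) = q * q *
        ((if ∃ r : R, l = m.comp (r : MulAut x.1).toMonoidHom then 1 else 0) +
          (Nat.card R : ℂ)) := by
      have h1 : ∀ χ, q * q * ((a χ l : ℂ) * (a χ m : ℂ)) = ∑ v : x.1, ∑ w : x.1,
          D χ v * conj (D χ w) * (((l v : ℂ) - 1) * conj ((m w : ℂ) - 1)) := by
        intro χ
        calc q * q * ((a χ l : ℂ) * (a χ m : ℂ)) = (q * (a χ l : ℂ)) * conj (q * (a χ m : ℂ)) := by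
              rw [map_mul, hq, Complex.conj_natCast, map_intCast]; ring
          _ = _ := by
              rw [hinvF χ l, hinvF χ m, map_sum, Finset.sum_mul]
              refine Finset.sum_congr rfl fun v _ => ?_
              rw [Finset.mul_sum]
              exact Finset.sum_congr rfl fun w _ => by rw [map_mul]; ring
      rw [Finset.mul_sum, Finset.sum_congr rfl fun χ _ => h1 χ, Finset.sum_comm]
      have h2 : ∀ v : x.1, ∑ χ ∈ A, ∑ w : x.1,
          D χ v * conj (D χ w) * (((l v : ℂ) - 1) * conj ((m w : ℂ) - 1)) =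
          q * ∑ r : R, ((l v : ℂ) - 1) * conj ((m ((r : MulAut x.1) v) : ℂ) - 1) := by
        intro v
        by_cases hv : v = 1
        · subst hv; simp
        rw [Finset.sum_comm, Finset.sum_congr rfl (g := fun w => q * ∑ r : R,
          (if w = (r : MulAut x.1) v then ((l v : ℂ) - 1) * conj ((m w : ℂ) - 1) else 0))
          fun w _ => ?_]
        · rw [← Finset.mul_sum, Finset.sum_comm]
          simp
        · by_cases hw : w = 1
          · subst hw
            simp
          · rw [← Finset.sum_mul, hG v w hv hw, mul_assoc, Finset.sum_mul]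
            exact congrArg _ (Finset.sum_congr rfl fun r _ => by rw [ite_mul, one_mul, zero_mul])
      rw [Finset.sum_congr rfl fun v _ => h2 v, ← Finset.mul_sum, Finset.sum_comm]
      have h3 : ∀ r : R, ∑ v : x.1, ((l v : ℂ) - 1) * conj ((m ((r : MulAut x.1) v) : ℂ) - 1) =
          q * ((if l = m.comp (r : MulAut x.1).toMonoidHom then 1 else 0) + 1) := by
        intro r
        set c := m.comp (r : MulAut x.1).toMonoidHom with hc
        have hc1 : c ≠ 1 := fun h => hm (MonoidHom.ext fun v => by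
          have := DFunLike.congr_fun h ((r : MulAut x.1).symm v)
          simpa [hc] using this)
        have e : ∀ v : x.1, ((l v : ℂ) - 1) * conj ((m ((r : MulAut x.1) v) : ℂ) - 1) =
            ((l * c⁻¹) v : ℂ) - (l v : ℂ) - ((c⁻¹ v : ℂˣ) : ℂ) + 1 := by
          intro v
          rw [map_sub, map_one, MonoidHom.mul_apply, Units.val_mul, MonoidHom.inv_apply,
            ← map_inv c, lin_inv_conj c v]
          show _ * (conj (c v : ℂ) - 1) = _
          ring
        rw [Finset.sum_congr rfl fun v _ => e v, Finset.sum_add_distrib, Finset.sum_sub_distrib,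
          Finset.sum_sub_distrib, hsumlin, hsumlin, hsumlin, if_neg hl,
          if_neg (fun h : c⁻¹ = 1 => hc1 (MonoidHom.ext fun v =>
            inv_eq_one.1 (DFunLike.congr_fun h v))), Finset.sum_const, Finset.card_univ,
          ← Nat.card_eq_fintype_card, nsmul_one, ← hq]
        have hiff : l * c⁻¹ = 1 ↔ l = c :=
          ⟨fun h => MonoidHom.ext fun v => mul_inv_eq_one.1 (DFunLike.congr_fun h v),
            fun h => MonoidHom.ext fun v => mul_inv_eq_one.2 (DFunLike.congr_fun h v)⟩
        rw [if_congr hiff rfl rfl]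
        split <;> ring
      rw [Finset.sum_congr rfl fun r _ => h3 r, ← Finset.mul_sum, Finset.sum_add_distrib,
        Finset.sum_const, Finset.card_univ, ← Nat.card_eq_fintype_card, nsmul_one, mul_assoc]
      congr 3
      by_cases hlm : ∃ r : R, l = m.comp (r : MulAut x.1).toMonoidHom
      · obtain ⟨r, hlr⟩ := hlm
        rw [if_pos ⟨r, hlr⟩, Finset.sum_eq_single r, if_pos hlr]
        · intro s _ hs
          refine if_neg fun he => hs ?_
          have h' := hfrd (s * r⁻¹) m hm (MonoidHom.ext fun v => by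
            have h'' := DFunLike.congr_fun (he.symm.trans hlr) ((r : MulAut x.1)⁻¹ v)
            simpa using h'')
          exact mul_inv_eq_one.1 h'
        · exact fun h' => absurd (Finset.mem_univ _) h'
      · rw [if_neg hlm, Finset.sum_eq_zero fun (r : R) _ => if_neg fun h => hlm ⟨r, h⟩]
    have h4 := mul_left_cancel₀ (mul_ne_zero hq0 hq0) key
    apply Int.cast_injective (α := ℂ)
    push_cast
    exact h4
  have hconst : ∀ (r : R) (l : x.1 →* ℂˣ), l ≠ 1 → ∀ χ ∈ A,
      a χ (l.comp (r : MulAut x.1).toMonoidHom) = a χ l := by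
    intro r l hl χ hχ
    set l' := l.comp (r : MulAut x.1).toMonoidHom with hl'
    have hl1 : l' ≠ 1 := fun h => hl (MonoidHom.ext fun v => by
      have := DFunLike.congr_fun h ((r : MulAut x.1).symm v)
      simpa [hl'] using this)
    have h : ∑ χ ∈ A, (a χ l' - a χ l) * (a χ l' - a χ l) = 0 := by
      have e1 : ∀ χ, (a χ l' - a χ l) * (a χ l' - a χ l) =
          a χ l' * a χ l' - a χ l' * a χ l - a χ l * a χ l' + a χ l * a χ l := fun χ => by ring
      rw [Finset.sum_congr rfl fun χ _ => e1 χ, Finset.sum_add_distrib, Finset.sum_sub_distrib,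
        Finset.sum_sub_distrib, hgram _ _ hl1 hl1, hgram _ _ hl1 hl, hgram _ _ hl hl1,
        hgram _ _ hl hl, if_pos ⟨1, MonoidHom.ext fun v => rfl⟩, if_pos ⟨r, rfl⟩,
        if_pos ⟨r⁻¹, MonoidHom.ext fun v => by
          show l v = l ((r : MulAut x.1) ((r : MulAut x.1)⁻¹ v))
          rw [MulAut.apply_inv_self]⟩,
        if_pos ⟨1, MonoidHom.ext fun v => rfl⟩]
      ring
    have := (Finset.sum_eq_zero_iff_of_nonneg fun χ _ => mul_self_nonneg _).1 h χ hχ
    exact sub_eq_zero.1 (mul_self_eq_zero.1 this)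
  -- the orbits
  let rel : Setoid {l : x.1 →* ℂˣ // l ≠ 1} :=
    { r := fun l l' => ∃ r : R, (l' : x.1 →* ℂˣ) =
        (l : x.1 →* ℂˣ).comp (r : MulAut x.1).toMonoidHom
      iseqv :=
        { refl := fun l => ⟨1, MonoidHom.ext fun v => rfl⟩
          symm := fun {l l'} ⟨r, h⟩ => ⟨r⁻¹, MonoidHom.ext fun v => by
            rw [h]
            show (l : x.1 →* ℂˣ) v = (l : x.1 →* ℂˣ) ((r : MulAut x.1) ((r : MulAut x.1)⁻¹ v))
            rw [MulAut.apply_inv_self]⟩
          trans := fun {l l' l''} ⟨r, h⟩ ⟨s, h'⟩ =>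
            ⟨r * s, by rw [h', h]; rfl⟩ } }
  letI : Fintype (Quotient rel) := Fintype.ofFinite _
  have hcardd : Fintype.card (x.1 →* ℂˣ) = Nat.card x.1 := by
    haveI : NeZero (Monoid.exponent x.1) := ⟨Monoid.exponent_ne_zero_of_finite⟩
    rw [← Nat.card_eq_fintype_card, CommGroup.card_monoidHom_of_hasEnoughRootsOfUnity]
  have hcardl : Fintype.card {l : x.1 →* ℂˣ // l ≠ 1} + 1 = Nat.card x.1 := by
    rw [Fintype.card_subtype_compl, Fintype.card_subtype_eq, Nat.sub_add_cancel Fintype.card_pos,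
      hcardd]
  haveI : Nonempty (Quotient rel) := by
    haveI : Nonempty {l : x.1 →* ℂˣ // l ≠ 1} := by
      rw [← Fintype.card_pos_iff]
      have : 1 < Nat.card x.1 := (Subgroup.one_lt_card_iff_ne_bot _).2 hP1
      omega
    exact Nonempty.map (Quotient.mk rel) this
  let a' : IrrCharacter G → Quotient rel → ℤ := fun χ o => a χ (o.out : x.1 →* ℂˣ)
  have hbij : Function.Bijective fun or : Quotient rel × R =>
      (⟨(or.1.out : x.1 →* ℂˣ).comp (or.2 : MulAut x.1).toMonoidHom, fun h => or.1.out.2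
        (MonoidHom.ext fun v => by
          have := DFunLike.congr_fun h ((or.2 : MulAut x.1).symm v)
          simpa using this)⟩ : {l : x.1 →* ℂˣ // l ≠ 1}) := by
    constructor
    · rintro ⟨o, r⟩ ⟨o', r'⟩ h
      have h' : (o.out : x.1 →* ℂˣ).comp (r : MulAut x.1).toMonoidHom =
          (o'.out : x.1 →* ℂˣ).comp (r' : MulAut x.1).toMonoidHom := congrArg Subtype.val h
      have hoo : o = o' := by
        rw [← Quotient.out_eq o, ← Quotient.out_eq o']
        refine Quotient.sound (show rel.r o.out o'.out from ⟨r * r'⁻¹, MonoidHom.ext fun v => ?_⟩)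
        have := DFunLike.congr_fun h' ((r' : MulAut x.1)⁻¹ v)
        simpa using this.symm
      subst hoo
      have h1 := hfrd (r * r'⁻¹) (o.out : x.1 →* ℂˣ) o.out.2 (MonoidHom.ext fun v => by
        have := DFunLike.congr_fun h' ((r' : MulAut x.1)⁻¹ v)
        simpa using this)
      rw [mul_inv_eq_one.1 h1]
    · intro l
      obtain ⟨r, h⟩ := Quotient.exact (Quotient.out_eq (Quotient.mk rel l))
      exact ⟨⟨Quotient.mk rel l, r⟩, Subtype.ext h.symm⟩
  refine ⟨Quotient rel, inferInstance, inferInstance, a', ?_, fun o o' => ?_, fun χ hχ => ?_⟩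
  · rw [← card_act_range, Nat.card_eq_fintype_card (α := R), ← Fintype.card_prod,
      Fintype.card_of_bijective hbij, hcardl]
  · rw [hgram _ _ o.out.2 o'.out.2, ← card_act_range]
    congr 1
    have hiff : (∃ r : R, (o.out : x.1 →* ℂˣ) =
        (o'.out : x.1 →* ℂˣ).comp (r : MulAut x.1).toMonoidHom) ↔ o = o' := by
      constructor
      · rintro ⟨r, h⟩
        have hs : Quotient.mk rel o'.out = Quotient.mk rel o.out := Quotient.sound ⟨r, h⟩
        rw [Quotient.out_eq, Quotient.out_eq] at hs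
        exact hs.symm
      · rintro rfl
        exact ⟨1, MonoidHom.ext fun v => rfl⟩
    by_cases hoo : o = o'
    · rw [if_pos (hiff.2 hoo), if_pos hoo]
    · rw [if_neg (fun h => hoo (hiff.1 h)), if_neg hoo]
  · have hχB : χ ∈ B := (Finset.mem_filter.1 hχ).2
    by_contra hall
    push Not at hall
    have hal : ∀ l : x.1 →* ℂˣ, (a χ l : ℂ) = 0 := by
      intro l
      by_cases hl : l = 1
      · subst hl
        refine (mul_eq_zero.1 ((hinvF χ 1).trans ?_)).resolve_left hq0
        simp
      · obtain ⟨r, h⟩ := Quotient.exact (Quotient.out_eq (Quotient.mk rel ⟨l, hl⟩))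
        have h1 := hconst r _ (Quotient.mk rel ⟨l, hl⟩).out.2 χ hχ
        rw [← h] at h1
        have h2 : a χ l = 0 := h1.trans (hall (Quotient.mk rel ⟨l, hl⟩))
        rw [h2, Int.cast_zero]
    have hF0 : ∀ v : x.1, v ≠ 1 → F χ v = 0 := by
      intro v hv
      have h : ∑ l : x.1 →* ℂˣ, (q * (a χ l : ℂ)) * (l v⁻¹ : ℂ) = q * F χ v := by
        have hv' : ∀ w : x.1, ∑ l : x.1 →* ℂˣ, ((l w : ℂ) - 1) * (l v⁻¹ : ℂ) =
            if w = v then q else 0 := by
          intro w
          simp only [sub_mul, Finset.sum_sub_distrib, one_mul]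
          rw [sum_dual w v, show ∑ l : x.1 →* ℂˣ, (l v⁻¹ : ℂ) = 0 from
            Wat.dual_sum (fun a b => mul_comm a b) (inv_ne_one.2 hv), sub_zero]
        rw [Finset.sum_congr rfl fun l _ => by rw [hinvF, Finset.sum_mul], Finset.sum_comm]
        simp only [mul_assoc, ← Finset.mul_sum, hv']
        rw [Finset.sum_eq_single v (fun w _ hw => by rw [if_neg hw, mul_zero])
          (fun h => absurd (Finset.mem_univ _) h), if_pos rfl, hD]
        simp only [if_neg hv]
        ring
      simp only [hal, mul_zero, zero_mul, Finset.sum_const_zero] at h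
      exact (mul_eq_zero.1 h.symm).resolve_left hq0
    have hz : ∀ v ∈ x.1, v ≠ 1 → ∀ w ∈ CG (Subgroup.zpowers v), ¬ p ∣ orderOf w →
        sct (χ : G → ℂ) (CycDef.av p M x v) v w = 0 := fun v hv hv1 w hw hwr =>
      hvan χ ⟨v, hv⟩ (fun h => hv1 (congrArg Subtype.val h))
        (hF0 ⟨v, hv⟩ fun h => hv1 (congrArg Subtype.val h)) w hw hwr
    have hvan' : ∀ g : G, p ∣ orderOf g → (χ : G → ℂ) g = 0 := fun g hg => by
      simpa using CycDef.vanish_of_sections hM hB hx {χ} (fun _ => 1) (by simpa using hχB)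
        (fun v hv hv1 w hw hwr => by simp [hz v hv hv1 w hw hwr]) hg
    obtain ⟨η, hη, hη0⟩ := exists_height_zero hM hB
    by_cases hne : η = χ
    · subst hne
      obtain ⟨⟨v, hv⟩, hv1⟩ := Subgroup.ne_bot_iff_exists_ne_one.1 hP1
      have hv1' : v ≠ 1 := fun h => hv1 (Subtype.ext h)
      obtain ⟨e1, -, e3⟩ := CycDef.av_spec hM hx hv
      obtain ⟨w, hw, hwr, hne⟩ := exists_sct_ne_zero (x := v) hM hχB hη0 e1 e3
      exact hne (hz v hv hv1' w (e1 ▸ hw) hwr)
    · obtain ⟨z, hz0, hzeq⟩ := Contrib.exists_int_regSum hM hB hη hχB hη0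
      have h0 : regSum p (χ : G → ℂ) (η : G → ℂ) = 0 := by
        rw [regSum_eq_sum, Finset.sum_subset (Finset.filter_subset _ _) fun g _ hg => by
          rw [hvan' g (by simpa using hg), zero_mul]]
        have h1 := Cfsg.Agent.Char.classInner_irr_ne χ.2 η.2 (fun e => hne (Subtype.ext e).symm)
        rw [classInner, mul_eq_zero] at h1
        exact h1.resolve_left (inv_ne_zero (Nat.cast_ne_zero.2 Nat.card_pos.ne'))
      rw [h0, zero_mul, eq_comm, mul_eq_zero, mul_eq_zero] at hzeq
      rcases hzeq with (h | h) | h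
      · exact Nat.card_pos.ne' (Nat.cast_eq_zero.1 h)
      · exact pow_ne_zero _ (Nat.cast_ne_zero.2 hp.out.ne_zero) h
      · exact hz0 (Int.cast_eq_zero.1 h)

/-- The rank when the defect group is cyclic. -/
theorem cyclic_rank (hM : IsPModular p M) (hB : IsPBlock M B) (hx : IsMx p M B x)
    (hcyc : IsCyclic x.1) (hP1 : x.1 ≠ ⊥) {e : ℕ} (he : (CG x.1).relIndex (stab x) = e) :
    blockRank p B = e := by
  haveI : NeZero (Nat.card x.1) := ⟨Nat.card_pos.ne'⟩
  obtain ⟨u₀, hgen⟩ := CycDef.exists_gen (x := x) hcyc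
  obtain ⟨R, β, X, y, c, ε, hD⟩ := CycDef.exists_data (N := Nat.card x.1) hM hB hx hcyc hP1 hgen
    (by rw [← Nat.card_zpowers, hgen])
  exact hD.rank.trans he

/-- The counts. -/
theorem counts (hM : IsPModular p M) (hB : IsPBlock M B) (hx : IsMx p M B x)
    (hab : ∀ v ∈ x.1, ∀ w ∈ x.1, v * w = w * v) (hfree : Free x) (hP1 : x.1 ≠ ⊥) {e : ℕ}
    (he : (CG x.1).relIndex (stab x) = e) :
    Nat.card B = blockRank p B + (Nat.card x.1 - 1) / e ∧ blockRank p B ≤ e ∧
      (e ≤ 3 → blockRank p B = e) := by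
  obtain ⟨O, hO, hOne, a, hcard, hg, hnz⟩ := exists_rows hM hB hx hab hfree hP1
  have hsplit := card_split hM hB hx hab hfree
  rw [he] at hcard hg hsplit
  have hA : (Finset.univ.filter (· ∈ B)).card = Nat.card B := by
    rw [Nat.card_eq_fintype_card, Fintype.card_subtype]
  have hq1 : Nat.card x.1 - 1 = Fintype.card O * e := by omega
  have he0 : 0 < e := Nat.pos_of_ne_zero fun h => by
    rw [h, mul_zero, zero_add] at hcard
    exact ((Subgroup.one_lt_card_iff_ne_bot _).2 hP1).ne hcard
  have hk : Nat.card B = blockRank p B + Fintype.card O := by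
    rw [hq1] at hsplit
    refine Nat.eq_of_mul_eq_mul_left he0 ?_
    rw [hsplit]
    ring
  have ht : (Nat.card x.1 - 1) / e = Fintype.card O := by
    rw [hq1, Nat.mul_div_cancel _ he0]
  obtain ⟨hle, heq⟩ := rows_bound a e hg hnz
  rw [hA] at hle heq
  refine ⟨by rw [ht]; exact hk, by omega, fun he3 => ?_⟩
  have hpos := Res.blockRank_pos hM hB
  rcases heq he3 (by omega) with h | h | h | h
  · omega
  all_goals
    obtain ⟨rfl, hO'⟩ := h
    rw [hO'] at hcard
  · -- order 7
    haveI : IsCyclic x.1 := by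
      haveI : Fact (Nat.Prime 7) := ⟨by norm_num⟩
      exact isCyclic_of_prime_card (p := 7) (by omega)
    exact cyclic_rank hM hB hx ‹_› hP1 he
  · obtain ⟨k, hk'⟩ := IsPGroup.iff_card.1 hx.1.1.1
    exfalso
    rw [← hcard] at hk'
    norm_num at hk'
    have h2 : 2 ∣ p ^ k := ⟨5, by omega⟩
    have h5 : 5 ∣ p ^ k := ⟨2, by omega⟩
    have h2' := (Nat.prime_dvd_prime_iff_eq Nat.prime_two hp.out).1 (Nat.prime_two.dvd_of_dvd_pow h2)
    have h5' := (Nat.prime_dvd_prime_iff_eq Nat.prime_five hp.out).1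
      (Nat.prime_five.dvd_of_dvd_pow h5)
    omega
  · haveI : IsCyclic x.1 := by
      haveI : Fact (Nat.Prime 13) := ⟨by norm_num⟩
      exact isCyclic_of_prime_card (p := 13) (by omega)
    exact cyclic_rank hM hB hx ‹_› hP1 he

end Cfsg.Agent.Char.FreeDef
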