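import Cfsg.Agent.Lib.Char.CycDefLocal
import Mathlib.GroupTheory.FiniteAbelian.Duality
import Mathlib.RingTheory.RootsOfUnity.AlgebraicallyClosed

/-!
Functions on a finite abelian group: the ones with coordinates in the local ring, the ones which are
virtual characters on the generators of each cyclic subgroup, and the Moebius function of subgroups.
-/

open scoped ComplexConjugate

namespace Cfsg.Agent.Char.FreeDef

open Cfsg Cfsg.Agent.Block Cfsg.Agent.Char.BP Cfsg.Agent.Char.Spec

set_option linter.unusedSectionVars false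
set_option linter.style.haveILetI false
set_option maxHeartbeats 1000000

universe u

variable {P : Type u} [CommGroup P] [Fintype P] {p : ℕ} [hp : Fact p.Prime] {M : Ideal AlgInt}

/-- A linear character as a function. -/
def lin (l : P →* ℂˣ) : P → ℂ := fun v => (l v : ℂ)

theorem lin_mul (l m : P →* ℂˣ) : lin (l * m) = lin l * lin m := funext fun v => by simp [lin]

theorem lin_one : lin (1 : P →* ℂˣ) = 1 := funext fun v => by simp [lin]

theorem lin_inv_conj (l : P →* ℂˣ) (v : P) : (l v⁻¹ : ℂ) = conj (l v : ℂ) :=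
  IsIrr.apply_inv (isIrr_linear l) v

theorem lin_conj (l : P →* ℂˣ) : (fun v => conj (lin l v)) = lin l⁻¹ := funext fun v => by
  show conj (l v : ℂ) = ((l⁻¹ v : ℂˣ) : ℂ)
  rw [MonoidHom.inv_apply, ← map_inv, lin_inv_conj]

theorem norm_lin (l : P →* ℂˣ) (v : P) : ‖(l v : ℂ)‖ = 1 := by
  refine Complex.norm_eq_one_of_pow_eq_one ?_ (n := Nat.card P) Nat.card_pos.ne'
  rw [← Units.val_pow_eq_pow_val, ← map_pow, pow_card_eq_one', map_one, Units.val_one]

theorem sum_dual [Fintype (P →* ℂˣ)] [DecidableEq P] (v w : P) :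
    ∑ l : P →* ℂˣ, (l v : ℂ) * (l w⁻¹ : ℂ) = if v = w then (Nat.card P : ℂ) else 0 := by
  have h : ∀ l : P →* ℂˣ, (l v : ℂ) * (l w⁻¹ : ℂ) = (l (v * w⁻¹) : ℂ) := fun l => by simp
  simp only [h]
  split_ifs with hvw
  · subst hvw
    simp only [mul_inv_cancel, map_one, Units.val_one, Finset.sum_const, Finset.card_univ,
      nsmul_one]
    haveI : NeZero (Monoid.exponent P) := ⟨Monoid.exponent_ne_zero_of_finite⟩
    rw [← Nat.card_eq_fintype_card, CommGroup.card_monoidHom_of_hasEnoughRootsOfUnity]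
  · exact Wat.dual_sum mul_comm fun h' => hvw (mul_inv_eq_one.1 h')

/-! ### Coordinates in the local ring -/

/-- The coordinates in the linear characters lie in the local ring. -/
def InR (M : Ideal AlgInt) (F : P → ℂ) : Prop :=
  ∀ l : P →* ℂˣ, MemLocalRing M ((Nat.card P : ℂ)⁻¹ * ∑ v, F v * (l v : ℂ))

theorem card_ne_zero : (Nat.card P : ℂ) ≠ 0 := Nat.cast_ne_zero.2 Nat.card_pos.ne'

theorem inR_expand [Fintype (P →* ℂˣ)] (F : P → ℂ) (w : P) :
    F w = ∑ l : P →* ℂˣ, ((Nat.card P : ℂ)⁻¹ * ∑ v, F v * (l v : ℂ)) * (l w⁻¹ : ℂ) := by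
  classical
  simp only [mul_assoc, ← Finset.mul_sum, Finset.sum_mul]
  rw [Finset.sum_comm, Finset.sum_congr rfl fun v _ => (Finset.mul_sum _ _ _).symm,
    Finset.sum_congr rfl fun v _ => by rw [sum_dual v w],
    Finset.sum_eq_single w (fun v _ hv => by rw [if_neg hv, mul_zero])
      (fun h => absurd (Finset.mem_univ _) h), if_pos rfl, mul_comm (F w), ← mul_assoc,
    inv_mul_cancel₀ card_ne_zero, one_mul]

theorem InR.mul (hM : IsPModular p M) {F G : P → ℂ} (hF : InR M F) (hG : InR M G) :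
    InR M (F * G) := by
  classical
  letI := Fintype.ofFinite (P →* ℂˣ)
  intro l
  have h : ((Nat.card P : ℂ)⁻¹ * ∑ v, (F * G) v * (l v : ℂ)) =
      ∑ m : P →* ℂˣ, ((Nat.card P : ℂ)⁻¹ * ∑ v, F v * (m v : ℂ)) *
        ((Nat.card P : ℂ)⁻¹ * ∑ v, G v * ((l * m⁻¹) v : ℂ)) := by
    rw [Finset.mul_sum]
    have e : ∀ v, (Nat.card P : ℂ)⁻¹ * ((F * G) v * (l v : ℂ)) = ∑ m : P →* ℂˣ,
        ((Nat.card P : ℂ)⁻¹ * ∑ w, F w * (m w : ℂ)) *
          ((Nat.card P : ℂ)⁻¹ * (G v * ((l * m⁻¹) v : ℂ))) := fun v => by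
      rw [Pi.mul_apply]
      conv_lhs => rw [inR_expand F v]
      rw [Finset.sum_mul, Finset.sum_mul, Finset.mul_sum]
      refine Finset.sum_congr rfl fun m _ => ?_
      rw [MonoidHom.mul_apply, MonoidHom.inv_apply, ← map_inv, Units.val_mul]
      ring
    rw [Finset.sum_congr rfl fun v _ => e v, Finset.sum_comm]
    exact Finset.sum_congr rfl fun m _ => by
      rw [← Finset.mul_sum, ← Finset.mul_sum]
  rw [h]
  exact ring_sum hM fun m _ => ring_mul hM (hF m) (hG _)

theorem InR.const (hM : IsPModular p M) {c : ℂ} (hc : MemLocalRing M c) :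
    InR M (fun _ : P => c) := by
  classical
  intro l
  rw [← Finset.mul_sum]
  by_cases hl : l = 1
  · subst hl
    simp only [MonoidHom.one_apply, Units.val_one, Finset.sum_const, Finset.card_univ, nsmul_one,
      ← Nat.card_eq_fintype_card]
    rw [mul_left_comm, inv_mul_cancel₀ card_ne_zero, mul_one]
    exact hc
  · obtain ⟨y, hy⟩ : ∃ y, l y ≠ 1 := by
      by_contra h
      push Not at h
      exact hl (MonoidHom.ext h)
    have h : ∑ v, (l v : ℂ) = (l y : ℂ) * ∑ v, (l v : ℂ) := by
      rw [Finset.mul_sum]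
      exact (Fintype.sum_equiv (Equiv.mulLeft y) _ _ fun v => by simp).symm
    have h2 : ((l y : ℂ) - 1) * ∑ v, (l v : ℂ) = 0 := by rw [sub_mul, one_mul, ← h, sub_self]
    rw [(mul_eq_zero.1 h2).resolve_left (sub_ne_zero.2 fun e => hy (Units.ext e)), mul_zero,
      mul_zero]
    exact ring_zero hM

theorem InR.sum (hM : IsPModular p M) {ι : Type*} (s : Finset ι) {F : ι → P → ℂ}
    (h : ∀ i ∈ s, InR M (F i)) : InR M (fun v => ∑ i ∈ s, F i v) := by
  intro l
  simp only [Finset.sum_mul]
  rw [Finset.sum_comm, Finset.mul_sum]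
  exact ring_sum hM fun i hi => h i hi l

theorem InR.prod (hM : IsPModular p M) {ι : Type*} (s : Finset ι) {F : ι → P → ℂ}
    (h : ∀ i ∈ s, InR M (F i)) : InR M (∏ i ∈ s, F i) :=
  Finset.prod_induction _ _ (fun _ _ => InR.mul hM) (InR.const hM (ring_one hM)) h

theorem InR.pow (hM : IsPModular p M) {F : P → ℂ} (hF : InR M F) : ∀ n : ℕ, InR M (F ^ n)
  | 0 => by rw [pow_zero]; exact InR.const hM (ring_one hM)
  | n + 1 => by rw [pow_succ]; exact (InR.pow hM hF n).mul hM hF

theorem InR.ring (hM : IsPModular p M) {F : P → ℂ} (hF : InR M F) (w : P) :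
    MemLocalRing M (F w) := by
  classical
  letI := Fintype.ofFinite (P →* ℂˣ)
  rw [inR_expand F w]
  refine ring_sum hM fun l _ => ring_mul hM (hF l) (ring_of_integral hM ?_)
  refine Block.isIntegral_of_pow_eq_one (Nat.card_pos (α := P)) ?_
  rw [← Units.val_pow_eq_pow_val, ← map_pow, pow_card_eq_one', map_one, Units.val_one]

theorem InR.congr (hM : IsPModular p M) (hP : IsPGroup p P) {F : P → ℂ} (hF : InR M F) (v w : P) :
    MemLocalIdeal M (F v - F w) := by
  classical
  letI := Fintype.ofFinite (P →* ℂˣ)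
  have hone : ∀ u : P, MemLocalIdeal M (F u - F 1) := by
    intro u
    rw [inR_expand F u, inR_expand F 1, ← Finset.sum_sub_distrib]
    refine ideal_sum hM fun l _ => ?_
    rw [← mul_sub, inv_one, map_one, Units.val_one]
    refine ideal_mul_left hM (hF l) ?_
    obtain ⟨k, hk⟩ := hP u⁻¹
    refine ideal_root_sub_one hM (k := k) ?_
    rw [← Units.val_pow_eq_pow_val, ← map_pow, hk, map_one, Units.val_one]
  have := ideal_sub hM (hone v) (hone w)
  simpa using this

theorem InR.inv (hM : IsPModular p M) {F : P → ℂ} (hF : InR M F)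
    (hu : ∀ v, ¬ MemLocalIdeal M (F v)) : InR M (fun v => (F v)⁻¹) := by
  classical
  set g : Polynomial (localRing hM) :=
    ∏ v : P, (Polynomial.X - Polynomial.C ⟨F v, hF.ring hM v⟩) with hg
  set f : Polynomial ℂ := g.map (localRing hM).subtype with hf
  have hf' : f = ∏ v : P, (Polynomial.X - Polynomial.C (F v)) := by
    simp [hf, hg, Polynomial.map_prod]
  have hcoef : ∀ i, MemLocalRing M (f.coeff i) := fun i => by
    rw [hf, Polynomial.coeff_map]; exact (g.coeff i).2
  have hroot : ∀ v, f.eval (F v) = 0 := fun v => by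
    rw [hf', Polynomial.eval_prod]
    exact Finset.prod_eq_zero (Finset.mem_univ v) (by simp)
  have hc0 : ¬ MemLocalIdeal M (f.coeff 0) := by
    rw [Polynomial.coeff_zero_eq_eval_zero, hf', Polynomial.eval_prod]
    refine ideal_notMem_prod hM fun v _ => ⟨?_, ?_⟩
    · simpa using ring_neg (hF.ring hM v)
    · intro h
      apply hu v
      simpa using ideal_neg h
  have hc00 : f.coeff 0 ≠ 0 := fun h => hc0 (h ▸ ideal_zero hM)
  have key : (fun v => (F v)⁻¹) =
      fun v => ∑ i ∈ Finset.range (f.divX.natDegree + 1),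
        (-(f.coeff 0)⁻¹ * f.divX.coeff i) * F v ^ i := by
    funext v
    rw [Finset.sum_congr rfl fun i _ => mul_assoc _ _ _, ← Finset.mul_sum,
      ← Polynomial.eval_eq_sum_range]
    have h := hroot v
    rw [← Polynomial.X_mul_divX_add f, Polynomial.eval_add, Polynomial.eval_mul, Polynomial.eval_X,
      Polynomial.eval_C] at h
    refine inv_eq_of_mul_eq_one_right ?_
    linear_combination (-(f.coeff 0)⁻¹) * h + (inv_mul_cancel₀ hc00)
  rw [key]
  refine InR.sum hM _ fun i _ => (InR.const hM ?_).mul hM (hF.pow hM i)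
  rw [Polynomial.coeff_divX]
  exact ring_mul hM (ring_neg (ring_inv hM (hcoef 0) hc0)) (hcoef _)

theorem InR.zpow (hM : IsPModular p M) {F : P → ℂ} (hF : InR M F)
    (hu : ∀ v, ¬ MemLocalIdeal M (F v)) : ∀ z : ℤ, InR M (fun v => F v ^ z) := by
  intro z
  cases z with
  | ofNat n => simp only [Int.ofNat_eq_natCast, zpow_natCast]; exact hF.pow hM n
  | negSucc n =>
    simp only [zpow_negSucc, ← inv_pow]
    exact (hF.inv hM hu).pow hM (n + 1)

theorem InR.comp (hM : IsPModular p M) {F : P → ℂ} (hF : InR M F) (r : P ≃* P) :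
    InR M (fun v => F (r v)) := by
  intro l
  have h := hF (l.comp r.symm.toMonoidHom)
  rwa [← Fintype.sum_equiv r.toEquiv (fun v => F (r v) * (l v : ℂ)) _ fun v => by simp] at h

theorem InR.of_char (hM : IsPModular p M) {ψ : P → ℂ} (hψ : IsCharacter P ψ) : InR M ψ := by
  intro l
  obtain ⟨n, hn⟩ := IsChar.classInner_nat hψ (IsIrr.isCharacter (isIrr_linear l⁻¹))
  have e : classInner ψ (fun v => ((l⁻¹ v : ℂˣ) : ℂ)) =
      (Nat.card P : ℂ)⁻¹ * ∑ v, ψ v * (l v : ℂ) := by
    simp only [classInner]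
    congr 1
    refine Finset.sum_congr rfl fun v _ => ?_
    rw [MonoidHom.inv_apply, ← map_inv, lin_inv_conj, Complex.conj_conj]
  rw [← e, hn]
  exact ring_natCast hM n

/-- An integer which the order of a `p`-group divides in the local ring is divisible by it. -/
theorem dvd_of_ring (hM : IsPModular p M) {n : ℕ} {z : ℤ}
    (h : MemLocalRing M (((p ^ n : ℕ) : ℂ)⁻¹ * (z : ℂ))) : ((p ^ n : ℕ) : ℤ) ∣ z := by
  induction n generalizing z with
  | zero => simp
  | succ n ih =>
    have hp0 : (p : ℂ) ≠ 0 := Nat.cast_ne_zero.2 hp.out.ne_zero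
    have h1 : MemLocalIdeal M (z : ℂ) := by
      have e : (z : ℂ) = (p : ℂ) * (((p ^ n : ℕ) : ℂ) * (((p ^ (n + 1) : ℕ) : ℂ)⁻¹ * (z : ℂ))) := by
        push_cast
        rw [pow_succ]
        field_simp
      rw [e]
      exact ideal_mul_right hM (ideal_p hM) (ring_mul hM (ring_natCast hM _) h)
    obtain ⟨y, rfl⟩ := (ideal_intCast_iff hM z).1 h1
    have h2 : MemLocalRing M (((p ^ n : ℕ) : ℂ)⁻¹ * (y : ℂ)) := by
      convert h using 1
      push_cast
      rw [pow_succ]
      field_simp
    rw [pow_succ', Nat.cast_mul]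
    exact mul_dvd_mul_left _ (ih h2)

/-! ### Virtual characters on the generators -/

/-- The virtual characters. -/
def gc (P : Type u) [CommGroup P] : Subring (P → ℂ) := Subring.closure (Set.range (lin (P := P)))

theorem lin_mem_gc (l : P →* ℂˣ) : lin l ∈ gc P := Subring.subset_closure ⟨l, rfl⟩

theorem gc_conj {ψ : P → ℂ} (h : ψ ∈ gc P) : (fun v => conj (ψ v)) ∈ gc P := by
  induction h using Subring.closure_induction with
  | mem x hx =>
    obtain ⟨l, rfl⟩ := hx
    rw [lin_conj]
    exact lin_mem_gc _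
  | zero =>
    convert (gc P).zero_mem using 1
    funext v
    simp
  | one =>
    convert (gc P).one_mem using 1
    funext v
    simp
  | add x y _ _ hx hy =>
    convert (gc P).add_mem hx hy using 1
    funext v
    simp
  | neg x _ hx =>
    convert (gc P).neg_mem hx using 1
    funext v
    simp
  | mul x y _ _ hx hy =>
    convert (gc P).mul_mem hx hy using 1
    funext v
    simp

theorem gc_comp {ψ : P → ℂ} (h : ψ ∈ gc P) (r : P →* P) : (fun v => ψ (r v)) ∈ gc P := by
  induction h using Subring.closure_induction with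
  | mem x hx =>
    obtain ⟨l, rfl⟩ := hx
    exact lin_mem_gc (l.comp r)
  | zero => exact (gc P).zero_mem
  | one => exact (gc P).one_mem
  | add x y _ _ hx hy => exact (gc P).add_mem hx hy
  | neg x _ hx => exact (gc P).neg_mem hx
  | mul x y _ _ hx hy => exact (gc P).mul_mem hx hy

/-- The sum of a virtual character over a subgroup is an integer. -/
theorem gc_sum {ψ : P → ℂ} (h : ψ ∈ gc P) (C : Subgroup P) [Fintype C] :
    ∃ z : ℤ, ∑ v : C, ψ v = z := by
  rw [gc, Subring.mem_closure_iff] at h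
  induction h using AddSubgroup.closure_induction with
  | mem x hx =>
    obtain ⟨l, rfl⟩ : ∃ l : P →* ℂˣ, lin l = x := by
      induction hx using Submonoid.closure_induction with
      | mem y hy => exact hy
      | one => exact ⟨1, lin_one⟩
      | mul y w _ _ hy hw =>
        obtain ⟨l, rfl⟩ := hy
        obtain ⟨m, rfl⟩ := hw
        exact ⟨l * m, lin_mul l m⟩
    by_cases hl : ∀ v : C, l v = 1
    · exact ⟨(Fintype.card C : ℤ), by simp [lin, hl]⟩
    · push Not at hl
      obtain ⟨y, hy⟩ := hl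
      refine ⟨0, ?_⟩
      have h1 : ∑ v : C, (l v : ℂ) = (l y : ℂ) * ∑ v : C, (l v : ℂ) := by
        rw [Finset.mul_sum]
        exact (Fintype.sum_equiv (Equiv.mulLeft y) _ _ fun v => by simp).symm
      have h2 : ((l y : ℂ) - 1) * ∑ v : C, (l v : ℂ) = 0 := by rw [sub_mul, one_mul, ← h1, sub_self]
      rw [Int.cast_zero]
      exact (mul_eq_zero.1 h2).resolve_left (sub_ne_zero.2 fun e => hy (Units.ext e))
  | zero => exact ⟨0, by simp⟩
  | add x y _ _ hx hy =>
    obtain ⟨a, ha⟩ := hx
    obtain ⟨b, hb⟩ := hy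
    exact ⟨a + b, by simp [Finset.sum_add_distrib, ha, hb]⟩
  | neg x _ hx =>
    obtain ⟨a, ha⟩ := hx
    exact ⟨-a, by simp [ha]⟩

/-- A virtual character on the generators of each nontrivial cyclic subgroup. -/
def Adapted (F : P → ℂ) : Prop :=
  ∀ v : P, v ≠ 1 → ∃ ψ ∈ gc P, ∀ w, Subgroup.zpowers w = Subgroup.zpowers v → F w = ψ w

theorem ne_one_of_zpowers {v w : P} (hv : v ≠ 1)
    (h : Subgroup.zpowers w = Subgroup.zpowers v) : w ≠ 1 := fun h1 => hv <| by
  subst h1
  rw [Subgroup.zpowers_one_eq_bot, eq_comm, Subgroup.zpowers_eq_bot] at h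
  exact h

theorem Adapted.congr {F G : P → ℂ} (hF : Adapted F) (h : ∀ v ≠ 1, G v = F v) : Adapted G :=
  fun v hv => by
    obtain ⟨ψ, hψ, e⟩ := hF v hv
    exact ⟨ψ, hψ, fun w hw => (h w (ne_one_of_zpowers hv hw)).trans (e w hw)⟩

theorem Adapted.of_lin (l : P →* ℂˣ) : Adapted (lin l) :=
  fun _ _ => ⟨lin l, lin_mem_gc l, fun _ _ => rfl⟩

theorem Adapted.one : Adapted (1 : P → ℂ) :=
  fun _ _ => ⟨1, (gc P).one_mem, fun _ _ => rfl⟩

theorem Adapted.mul {F G : P → ℂ} (hF : Adapted F) (hG : Adapted G) : Adapted (F * G) :=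
  fun v hv => by
    obtain ⟨ψ, hψ, e⟩ := hF v hv
    obtain ⟨φ, hφ, e'⟩ := hG v hv
    exact ⟨ψ * φ, (gc P).mul_mem hψ hφ, fun w hw => by simp [e w hw, e' w hw]⟩

theorem Adapted.prod {ι : Type*} (s : Finset ι) {F : ι → P → ℂ} (h : ∀ i ∈ s, Adapted (F i)) :
    Adapted (∏ i ∈ s, F i) :=
  Finset.prod_induction _ _ (fun _ _ => Adapted.mul) Adapted.one h

theorem Adapted.pow {F : P → ℂ} (hF : Adapted F) : ∀ n : ℕ, Adapted (F ^ n)
  | 0 => by rw [pow_zero]; exact Adapted.one
  | n + 1 => by rw [pow_succ]; exact (Adapted.pow hF n).mul hF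

theorem Adapted.star {F : P → ℂ} (hF : Adapted F) : Adapted (fun v => conj (F v)) :=
  fun v hv => by
    obtain ⟨ψ, hψ, e⟩ := hF v hv
    exact ⟨_, gc_conj hψ, fun w hw => congrArg conj (e w hw)⟩

theorem Adapted.zpow {F : P → ℂ} (hF : Adapted F) (h1 : ∀ v ≠ 1, ‖F v‖ = 1) :
    ∀ z : ℤ, Adapted (fun v => F v ^ z) := by
  intro z
  cases z with
  | ofNat n => simp only [Int.ofNat_eq_natCast, zpow_natCast]; exact hF.pow n
  | negSucc n =>
    refine (hF.star.pow (n + 1)).congr fun v hv => ?_
    rw [zpow_negSucc, ← inv_pow, Pi.pow_apply]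
    congr 1
    refine inv_eq_of_mul_eq_one_right ?_
    rw [Complex.mul_conj', h1 v hv]
    simp

theorem Adapted.comp {F : P → ℂ} (hF : Adapted F) (r : P ≃* P) : Adapted (fun v => F (r v)) :=
  fun v hv => by
    obtain ⟨ψ, hψ, e⟩ := hF (r v) (by simpa using hv)
    refine ⟨_, gc_comp hψ r.toMonoidHom, fun w hw => e (r w) ?_⟩
    have := congrArg (Subgroup.map r.toMonoidHom) hw
    simpa [MonoidHom.map_zpowers] using this

/-- The sum away from one is an integer. -/
theorem Adapted.sum_int {F : P → ℂ} (hF : Adapted F) [DecidableEq P] :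
    ∃ z : ℤ, ∑ v ∈ Finset.univ.erase 1, F v = z := by
  classical
  suffices h : ∀ C ∈ (Finset.univ.erase (1 : P)).image Subgroup.zpowers,
      ∃ z : ℤ, ∑ v ∈ (Finset.univ.erase (1 : P)).filter (fun v => Subgroup.zpowers v = C),
        F v = z by
    choose! z hz using h
    refine ⟨∑ C ∈ (Finset.univ.erase (1 : P)).image Subgroup.zpowers, z C, ?_⟩
    rw [Int.cast_sum, ← Finset.sum_fiberwise_of_maps_to (g := Subgroup.zpowers)
      fun v hv => Finset.mem_image_of_mem _ hv]
    exact Finset.sum_congr rfl hz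
  intro C hC
  obtain ⟨v, hv, rfl⟩ := Finset.mem_image.1 hC
  obtain ⟨ψ, hψ, e⟩ := hF v (Finset.ne_of_mem_erase hv)
  rw [Finset.sum_congr rfl fun w hw => e w (Finset.mem_filter.1 hw).2]
  -- generators are the elements in no proper subgroup
  have hgen : ∀ C : Subgroup P, ∃ z : ℤ,
      ∑ w ∈ Finset.univ.filter (fun w => Subgroup.zpowers w = C), ψ w = z := by
    intro C
    induction C using WellFoundedLT.induction with
    | _ C ih =>
      choose z hz using ih
      obtain ⟨n, hn⟩ := gc_sum hψ C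
      refine ⟨n - ∑ D ∈ (Finset.univ.filter (· < C)).attach,
        z D.1 (Finset.mem_filter.1 D.2).2, ?_⟩
      have hsplit : ∑ w : C, ψ w = ∑ w ∈ Finset.univ.filter (fun w => Subgroup.zpowers w = C), ψ w +
          ∑ D ∈ Finset.univ.filter (· < C),
            ∑ w ∈ Finset.univ.filter (fun w => Subgroup.zpowers w = D), ψ w := by
        rw [← Finset.sum_insert (f := fun D => ∑ w ∈ Finset.univ.filter
              (fun w => Subgroup.zpowers w = D), ψ w) (by simp),
          ← Finset.sum_subtype (p := fun w => w ∈ C) (Finset.univ.filter (· ∈ C)) (fun w => by simp),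
          ← Finset.sum_fiberwise_of_maps_to (g := Subgroup.zpowers)
            (t := insert C (Finset.univ.filter (· < C))) fun w hw => ?_]
        · refine Finset.sum_congr rfl fun D hD => Finset.sum_congr ?_ fun _ _ => rfl
          rw [Finset.filter_filter]
          refine Finset.filter_congr fun w _ => and_iff_right_of_imp fun h => ?_
          subst h
          rcases Finset.mem_insert.1 hD with h | h
          · exact h ▸ Subgroup.mem_zpowers w
          · exact (Finset.mem_filter.1 h).2.le (Subgroup.mem_zpowers w)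
        · rcases eq_or_lt_of_le (Subgroup.zpowers_le.2 (Finset.mem_filter.1 hw).2) with h | h
          · exact Finset.mem_insert.2 (Or.inl h)
          · exact Finset.mem_insert.2 (Or.inr (Finset.mem_filter.2 ⟨Finset.mem_univ _, h⟩))
      rw [Int.cast_sub, Int.cast_sum, ← hn, hsplit, ← Finset.sum_attach (Finset.univ.filter (· < C))
          (fun D => ∑ w ∈ Finset.univ.filter (fun w => Subgroup.zpowers w = D), ψ w),
        Finset.sum_congr rfl (g := fun D : {D // D ∈ Finset.univ.filter (· < C)} =>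
          (z D.1 (Finset.mem_filter.1 D.2).2 : ℂ)) fun D _ => hz D.1 (Finset.mem_filter.1 D.2).2]
      ring
  obtain ⟨z, hz⟩ := hgen (Subgroup.zpowers v)
  refine ⟨z, ?_⟩
  rw [← hz]
  refine Finset.sum_congr ?_ fun _ _ => rfl
  ext w
  simp only [Finset.mem_filter, Finset.mem_erase, Finset.mem_univ, and_true, true_and,
    and_iff_right_iff_imp]
  exact ne_one_of_zpowers (Finset.ne_of_mem_erase hv)

/-- An adapted function of modulus one has values roots of unity. -/
theorem Adapted.exists_pow_eq_one {F : P → ℂ} (hF : Adapted F) (h1 : ∀ v ≠ 1, ‖F v‖ = 1) :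
    ∃ N : ℕ, 0 < N ∧ ∀ v ≠ 1, F v ^ N = 1 := by
  classical
  letI := Fintype.ofFinite (P →* ℂˣ)
  set q : ℤ := (Fintype.card P : ℤ)
  choose z hz using fun (n : ℕ) (l : P →* ℂˣ) => ((hF.pow n).mul (Adapted.of_lin l)).sum_int
  have hb : ∀ n l, z n l ∈ Finset.Icc (-q) q := by
    intro n l
    have h : ‖(z n l : ℂ)‖ ≤ (Fintype.card P : ℝ) := by
      rw [← hz]
      refine (norm_sum_le _ _).trans ?_
      rw [Finset.sum_congr rfl (g := fun _ => (1 : ℝ)) fun v hv => ?_, Finset.sum_const, nsmul_one]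
      · exact_mod_cast Finset.card_le_univ _
      · rw [Pi.mul_apply, Pi.pow_apply, norm_mul, norm_pow, h1 v (Finset.ne_of_mem_erase hv),
          one_pow, one_mul, lin, norm_lin]
    rw [Complex.norm_intCast] at h
    have h' : |z n l| ≤ q := by
      rw [← Int.cast_le (R := ℝ), Int.cast_abs]
      simpa [q] using h
    exact Finset.mem_Icc.2 ⟨(abs_le.1 h').1, (abs_le.1 h').2⟩
  obtain ⟨m, n, hmn, he⟩ := Finite.exists_ne_map_eq_of_infinite
    (fun n : ℕ => fun l : P →* ℂˣ => (⟨z n l, hb n l⟩ : Finset.Icc (-q) q))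
  wlog hlt : m < n generalizing m n
  · exact this n m (Ne.symm hmn) he.symm (lt_of_le_of_ne (not_lt.1 hlt) (Ne.symm hmn))
  refine ⟨n - m, by omega, fun w hw => ?_⟩
  have key : ∀ k : ℕ, (Nat.card P : ℂ) * F w ^ k = ∑ l : P →* ℂˣ, (z k l : ℂ) * (l w⁻¹ : ℂ) := by
    intro k
    simp only [← hz, Finset.sum_mul, Pi.mul_apply, Pi.pow_apply, lin, mul_assoc]
    rw [Finset.sum_comm, Finset.sum_congr rfl fun v _ => by
      rw [← Finset.mul_sum, sum_dual v w]]
    rw [Finset.sum_eq_single w (fun v _ hv => by rw [if_neg hv, mul_zero])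
      (fun h => absurd (Finset.mem_erase.2 ⟨hw, Finset.mem_univ _⟩) h), if_pos rfl, mul_comm]
  have heq : F w ^ m = F w ^ n := by
    refine mul_left_cancel₀ (card_ne_zero (P := P)) ?_
    rw [key, key]
    refine Finset.sum_congr rfl fun l _ => ?_
    rw [show z m l = z n l from congrArg Subtype.val (congrFun he l)]
  have hne : F w ^ m ≠ 0 := pow_ne_zero _ fun h => by
    simpa [h] using h1 w hw
  refine mul_left_cancel₀ hne ?_
  rw [← pow_add, Nat.add_sub_cancel' hlt.le, mul_one, heq]

/-! ### The Moebius function -/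

open Classical in
/-- The Moebius function from the trivial subgroup. -/
noncomputable def mu : Subgroup P → ℤ :=
  letI := Fintype.ofFinite (Subgroup P)
  wellFounded_lt.fix (C := fun _ => ℤ) fun S rec => if S = ⊥ then 1 else
    -∑ Q ∈ (Finset.univ.filter fun Q : Subgroup P => Q < S).attach,
      rec Q.1 (Finset.mem_filter.1 Q.2).2

theorem mu_eq (S : Subgroup P) [Fintype (Subgroup P)] [DecidablePred (· < S)] [Decidable (S = ⊥)] :
    mu S = if S = ⊥ then 1 else -∑ Q ∈ Finset.univ.filter (· < S), mu Q := by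
  classical
  unfold mu
  rw [WellFounded.fix_eq]
  split_ifs with h
  · rfl
  · rw [Finset.sum_attach _ (fun Q => WellFounded.fix (C := fun _ => ℤ) _ _ Q)]
    refine congrArg _ (Finset.sum_congr ?_ fun _ _ => rfl)
    ext Q
    simp

theorem mu_bot : mu (⊥ : Subgroup P) = 1 := by
  classical
  letI := Fintype.ofFinite (Subgroup P)
  rw [mu_eq, if_pos rfl]

theorem sum_mu [Fintype (Subgroup P)] (S : Subgroup P) (hS : S ≠ ⊥) [DecidablePred (· ≤ S)] :
    ∑ Q ∈ Finset.univ.filter (· ≤ S), mu Q = 0 := by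
  classical
  rw [show Finset.univ.filter (· ≤ S) = insert S (Finset.univ.filter (· < S)) by
      ext Q
      simp [le_iff_lt_or_eq, or_comm],
    Finset.sum_insert (by simp), mu_eq S, if_neg hS, neg_add_cancel]

theorem weisner [Fintype (Subgroup P)] [DecidableEq (Subgroup P)] {A : Subgroup P} (hA : A ≠ ⊥)
    (S : Subgroup P) : ∑ Q ∈ Finset.univ.filter (fun Q => Q ⊔ A = S), mu Q = 0 := by
  classical
  induction S using WellFoundedLT.induction with
  | _ S ih =>
    by_cases hAS : A ≤ S
    · have hS : S ≠ ⊥ := fun h => hA (le_bot_iff.1 (h ▸ hAS))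
      have h := sum_mu S hS
      rw [← Finset.sum_fiberwise_of_maps_to (g := fun Q => Q ⊔ A)
        (t := insert S (Finset.univ.filter (· < S))) fun Q hQ => ?_,
        Finset.sum_insert (by simp),
        Finset.sum_eq_zero (s := Finset.univ.filter (· < S)) fun T hT => ?_, add_zero] at h
      · rw [← h]
        refine Finset.sum_congr ?_ fun _ _ => rfl
        ext Q
        simp only [Finset.mem_filter, Finset.mem_univ, true_and, iff_and_self]
        exact fun e => e ▸ le_sup_left
      · rw [← ih T (Finset.mem_filter.1 hT).2]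
        refine Finset.sum_congr ?_ fun _ _ => rfl
        ext Q
        simp only [Finset.mem_filter, Finset.mem_univ, true_and, and_iff_right_iff_imp]
        exact fun e => le_sup_left.trans (e ▸ (Finset.mem_filter.1 hT).2.le)
      · rcases eq_or_lt_of_le (sup_le (Finset.mem_filter.1 hQ).2 hAS) with h' | h'
        · exact Finset.mem_insert.2 (Or.inl h')
        · exact Finset.mem_insert.2 (Or.inr (Finset.mem_filter.2 ⟨Finset.mem_univ _, h'⟩))
    · refine Finset.sum_eq_zero fun Q hQ => absurd ?_ hAS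
      exact (Finset.mem_filter.1 hQ).2 ▸ le_sup_right

theorem prod_zpow {α ι : Type*} [CommGroup α] (a : α) (s : Finset ι) (f : ι → ℤ) :
    ∏ i ∈ s, a ^ f i = a ^ ∑ i ∈ s, f i := by
  classical
  induction s using Finset.induction with
  | empty => simp
  | insert i s hi ih => rw [Finset.prod_insert hi, Finset.sum_insert hi, ih, zpow_add]

/-- The value at `A` recovered from the values at the joins. -/
theorem recover [Fintype (Subgroup P)] [DecidableEq (Subgroup P)] (f : Subgroup P → ℂˣ)
    {A : Subgroup P} (hA : A ≠ ⊥) :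
    ∏ Q ∈ Finset.univ.erase (⊥ : Subgroup P), f (Q ⊔ A) ^ (-mu Q) = f A := by
  classical
  have h : ∏ Q : Subgroup P, f (Q ⊔ A) ^ (mu Q) = 1 := by
    rw [← Finset.prod_fiberwise Finset.univ (fun Q => Q ⊔ A)]
    refine Finset.prod_eq_one fun S _ => ?_
    rw [Finset.prod_congr rfl fun Q hQ => by rw [(Finset.mem_filter.1 hQ).2]]
    have := weisner hA S
    rw [prod_zpow, this, zpow_zero]
  rw [← Finset.mul_prod_erase _ _ (Finset.mem_univ (⊥ : Subgroup P)), bot_sup_eq, mu_bot,
    zpow_one] at h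
  simp only [zpow_neg, Finset.prod_inv_distrib]
  exact (eq_inv_of_mul_eq_one_left h).symm

end Cfsg.Agent.Char.FreeDef
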