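import Cfsg.Agent.Lib.Char.FreeDefectFun
import Cfsg.Agent.Lib.Char.CycDefCoords
import Cfsg.Agent.Lib.Char.CycDefDiv
import Cfsg.Agent.Lib.Char.DadeExtend
import Cfsg.Agent.Lib.Char.ModularRank

/-!
Abelian defect group with the inertial group acting freely: the blocks of the centralizers of the
nontrivial subgroups, their characters and the sections read in units of those.
-/

open scoped ComplexConjugate Classical

namespace Cfsg.Agent.Char.FreeDef

open Cfsg Cfsg.Agent.Block Cfsg.Agent.Char.BP Cfsg.Agent.Char.Spec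

set_option linter.unusedSectionVars false
set_option linter.style.haveILetI false
set_option maxHeartbeats 1600000

universe u

variable {G : Type u} [Group G] [Fintype G] {p : ℕ} [hp : Fact p.Prime] {M : Ideal AlgInt}
variable {B : Set (IrrCharacter G)} {x : BrauerPairIdx G}

/-- The inertial group acts freely. -/
def Free (x : BrauerPairIdx G) : Prop :=
  ∀ t ∈ stab x, ∀ v ∈ x.1, v ≠ 1 → t * v * t⁻¹ = v → t ∈ CG x.1

theorem be_same_cg (hM : IsPModular p M) (hxp : IsPr p M x)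
    (hab : ∀ v ∈ x.1, ∀ w ∈ x.1, v * w = w * v) {a b : BrauerPairIdx G} (ha : LE p M a x)
    (hb : LE p M b x) (h : CG a.1 = CG b.1) : be a = be b := by
  obtain ⟨h1, h2, h3, -, h5, h6⟩ := (step_iff hM).1 (Wat.step_of_le hM hxp hab ha)
  obtain ⟨f, hf, hbe, -⟩ := Wat.exists_same_cg (p := p) a.2 h1.2 h
  have hst : Step p M (⟨b.1, f⟩ : BrauerPairIdx G) x := by
    refine (step_iff hM).2 ⟨⟨(le_isPr hb hxp).1, hf⟩, h2, le_subgroup (a := b) (b := x) hb,
      (le_cg_of_comm hab (le_subgroup hb)).trans (cg_le_normalizer b.1), ?_, ?_⟩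
    · show Inv x.1 (bc (CG b.1) f)
      rw [hbe]; exact h5
    · show Holds M x (bc (CG b.1) f)
      rw [hbe]; exact h6
  have he : (⟨b.1, f⟩ : BrauerPairIdx G) = b :=
    le_unique hM (Relation.ReflTransGen.single hst) hb rfl
  exact hbe.symm.trans (congrArg (fun c : BrauerPairIdx G => be c) he)

/-- A section read inside a subgroup. -/
theorem sct_up {H : Subgroup G} [Fintype H] (η : H → ℂ) (a : BrauerPairIdx G) (a' : BrauerPairIdx H)
    (hbe : ∀ k : H, be a' k = be a (k : G)) (hC : CG a.1 ≤ H) (v w : H) :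
    sct η a' v w = sct (CycDef.up H η) a (v : G) (w : G) := by
  show ∑ k : H, _ = ∑ k : G, _
  rw [← Finset.sum_subset (Finset.subset_univ (Finset.univ.filter (· ∈ H))) fun k _ hk => by
      rw [show be a k = 0 from bc_supp _ _ _ fun h => hk (by simpa using hC h), zero_mul],
    Finset.sum_subtype (p := fun k => k ∈ H) _ (fun k => by simp)]
  refine Finset.sum_congr rfl fun k _ => ?_
  rw [hbe, show (v : G) * (k : G) * (w : G) = ((v * k * w : H) : G) from rfl, CycDef.up_coe]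

/-- The pair below `x` at a subgroup of its defect group. -/
noncomputable def pr (p : ℕ) [Fact p.Prime] (M : Ideal AlgInt) (x : BrauerPairIdx G)
    (S : Subgroup x.1) : BrauerPairIdx G :=
  Wat.bl p M x (S.map x.1.subtype)

theorem pr_spec (hM : IsPModular p M) (hx : IsMx p M B x) (S : Subgroup x.1) :
    (pr p M x S).1 = S.map x.1.subtype ∧ LE p M (pr p M x S) x :=
  Wat.bl_spec hM hx.1.1 (by rintro _ ⟨v, -, rfl⟩; exact v.2)

theorem pr_zpowers (v : x.1) : pr p M x (Subgroup.zpowers v) = CycDef.av p M x (v : G) := by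
  rw [pr, MonoidHom.map_zpowers]
  rfl

theorem coe_mem_pr (hM : IsPModular p M) (hx : IsMx p M B x) {S : Subgroup x.1} {v : x.1}
    (hv : v ∈ S) : (v : G) ∈ (pr p M x S).1 := by
  rw [(pr_spec hM hx S).1]
  exact ⟨v, hv, rfl⟩

theorem coe_mem_cg (hM : IsPModular p M) (hx : IsMx p M B x)
    (hab : ∀ v ∈ x.1, ∀ w ∈ x.1, v * w = w * v) (S : Subgroup x.1) (v : x.1) :
    (v : G) ∈ CG (pr p M x S).1 :=
  le_cg_of_comm hab (le_subgroup (pr_spec hM hx S).2) v.2

theorem pr_le (hM : IsPModular p M) (hx : IsMx p M B x) {Q S : Subgroup x.1} (h : Q ≤ S) :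
    (pr p M x Q).1 ≤ (pr p M x S).1 := by
  rw [(pr_spec hM hx Q).1, (pr_spec hM hx S).1]
  exact Subgroup.map_mono h

theorem cg_pr_le (hM : IsPModular p M) (hx : IsMx p M B x) {Q S : Subgroup x.1} (h : Q ≤ S) :
    CG (pr p M x S).1 ≤ CG (pr p M x Q).1 :=
  Subgroup.centralizer_le (SetLike.coe_subset_coe.2 (pr_le hM hx h))

/-- The elements of the centralizer of `Q` fixing `v`. -/
theorem mem_cg_pr_sup (hM : IsPModular p M) (hx : IsMx p M B x) (Q : Subgroup x.1) (v : x.1)
    (c : G) : c ∈ CG (pr p M x (Q ⊔ Subgroup.zpowers v)).1 ↔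
      c ∈ CG (pr p M x Q).1 ∧ c * v * c⁻¹ = v := by
  refine ⟨fun hc => ⟨cg_pr_le hM hx le_sup_left hc, ?_⟩, fun hc => ?_⟩
  · rw [← Subgroup.mem_centralizer_iff.1 hc v
      (coe_mem_pr hM hx (Subgroup.mem_sup_right (Subgroup.mem_zpowers v))), mul_inv_cancel_right]
  · rw [(pr_spec hM hx _).1, Subgroup.map_sup, MonoidHom.map_zpowers, ← (pr_spec hM hx Q).1]
    have hle : (pr p M x Q).1 ⊔ Subgroup.zpowers (v : G) ≤ CG (Subgroup.zpowers c) := sup_le
      (fun w hw => Wat.mem_cg_zpowers.2 (by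
        rw [Subgroup.mem_centralizer_iff.1 hc.1 w hw, mul_inv_cancel_right]))
      (Subgroup.zpowers_le.2 (Wat.mem_cg_zpowers.2 (by
        rw [← mul_inv_eq_iff_eq_mul.1 hc.2, mul_inv_cancel_right])))
    exact Subgroup.mem_centralizer_iff.2 fun w hw =>
      (Subgroup.mem_centralizer_iff.1 (hle hw) c (Subgroup.mem_zpowers _)).symm

/-- What is asked of the chosen character of a pair. -/
def IsEta (p : ℕ) [Fact p.Prime] (M : Ideal AlgInt) (x : BrauerPairIdx G) (S : Subgroup x.1)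
    (η : IrrCharacter (CG (pr p M x S).1)) : Prop :=
  η ∈ (pr p M x S).2 ∧
  (∀ ξ ∈ (pr p M x S).2, ∀ c : CG (pr p M x S).1, ¬ p ∣ orderOf c →
    (ξ : CG (pr p M x S).1 → ℂ) c = (η : CG (pr p M x S).1 → ℂ) c) ∧
  CycDef.wgt (pr p M x S) = (Nat.card x.1 : ℂ) *
    ((η : CG (pr p M x S).1 → ℂ) 1 * (η : CG (pr p M x S).1 → ℂ) 1) ∧
  ∀ v : x.1, (Nat.card x.1 : ℂ) *
      (sct (CycDef.up (CG (pr p M x S).1) (η : CG (pr p M x S).1 → ℂ))
          (pr p M x (S ⊔ Subgroup.zpowers v)) (v : G) 1 *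
        conj (sct (CycDef.up (CG (pr p M x S).1) (η : CG (pr p M x S).1 → ℂ))
          (pr p M x (S ⊔ Subgroup.zpowers v)) (v : G) 1)) =
    CycDef.wgt (pr p M x (S ⊔ Subgroup.zpowers v))

theorem exists_eta (hM : IsPModular p M) (hx : IsMx p M B x)
    (hab : ∀ v ∈ x.1, ∀ w ∈ x.1, v * w = w * v) (hfree : Free x) {S : Subgroup x.1}
    (hS : S ≠ ⊥) : ∃ η, IsEta p M x S η := by
  obtain ⟨ha1, hle⟩ := pr_spec hM hx S
  set a := pr p M x S with ha
  letI := Fintype.ofFinite (CG a.1)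
  obtain ⟨h1, h2⟩ := Wat.cg_subgroupOf_le hab (le_subgroup hle)
  set x' := dn (CG a.1) x h1 h2 with hx'def
  have hx' : IsMx p M a.2 x' := Wat.isMx_dn hM hx hab hle h1 h2
  have hab' := Wat.comm_dn hab h1 h2
  obtain ⟨⟨s, hsS⟩, hs1⟩ := Subgroup.ne_bot_iff_exists_ne_one.1 hS
  have hs : (s : G) ≠ 1 := fun h => hs1 (Subtype.ext (Subtype.ext h))
  have hinter : ∀ t ∈ stab x, t ∈ CG a.1 → t ∈ CG x.1 := fun t ht hta =>
    hfree t ht s s.2 hs (by
      rw [← Subgroup.mem_centralizer_iff.1 hta s (coe_mem_pr hM hx hsS), mul_inv_cancel_right])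
  have hnil : IsNilpotentBlock p M a.2 :=
    (nilpotent_local_iff hM (P := x.1) (e := x.2) hx hab
      (Wat.step_of_le hM hx.1.1 hab hle)).2 fun t ht => hinter t ht.1 ht.2
  have hst : stab x' ≤ CG x'.1 := fun y hy =>
    (mem_cg_subgroupOf h1 y).2 (hinter _ ((Wat.mem_stab_dn h1 h2 y).1 hy) y.2)
  obtain ⟨η, hη, hloc, hnorm⟩ := CycDef.exists_local hM hnil hx' hab' hst
  have hq : Nat.card x'.1 = Nat.card x.1 := by
    rw [hx'def, dn_fst, Nat.card_congr (Subgroup.subgroupOfEquivOfLe h1).toEquiv]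
  have hagree : ∀ ξ ∈ a.2, ∀ c : CG a.1, ¬ p ∣ orderOf c →
      (ξ : CG a.1 → ℂ) c = (η : CG a.1 → ℂ) c := by
    intro ξ hξ c hc
    obtain ⟨l, hl⟩ := hloc ξ hξ
    obtain ⟨e1, e2, -⟩ := CycDef.av_spec hM hx' (one_mem x'.1)
    have hval : ∀ ζ ∈ a.2, sct (ζ : CG a.1 → ℂ) (CycDef.av p M x' 1) 1 c =
        (ζ : CG a.1 → ℂ) c := by
      intro ζ hζ
      have hz : (1 : CG a.1) ∈ Subgroup.center (CG a.1) := one_mem _
      have h3 := sct_center hM hx'.1.2.1 (P := x'.1) (e := x'.2) hx' (u := (1 : x'.1)) hz e1 e2 hζ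
        (v := c) hc
      have h4 := centralChar_of_center (η := ζ) hz (1 : CG a.1)
      rw [mul_one] at h4
      rw [OneMemClass.coe_one] at h3
      rw [h3, show centralChar (ζ : CG a.1 → ℂ) 1 = 1 from
        mul_right_cancel₀ (irr_one_ne_zero ζ) (h4.symm.trans (one_mul _).symm), one_mul]
    have h5 := hl 1 c (by
      rw [OneMemClass.coe_one, Subgroup.zpowers_one_eq_bot, Wat.cg_bot]; exact Subgroup.mem_top c) hc
    rw [OneMemClass.coe_one, map_one, Units.val_one, one_mul, hval ξ hξ, hval η hη] at h5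
    exact h5
  refine ⟨η, hη, hagree, ?_, fun v => ?_⟩
  · have hcard := CycDef.card_eq_of_nilpotent hM hnil hx' hab'
    rw [hq] at hcard
    have hC0 : (Nat.card (CG a.1) : ℂ) ≠ 0 := Nat.cast_ne_zero.2 Nat.card_pos.ne'
    show CycDef.wgt a = _
    rw [CycDef.wgt, ← Finset.sum_subset (Finset.subset_univ (Finset.univ.filter (· ∈ CG a.1)))
        fun k _ hk => by
          rw [show be a k = 0 from bc_supp _ _ _ (by simpa using hk), zero_mul],
      Finset.sum_subtype (p := fun k => k ∈ CG a.1) _ (fun k => by simp),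
      Finset.sum_congr rfl (g := fun k : CG a.1 => blockCoeff a.2 k * conj (blockCoeff a.2 k))
        fun k _ => by rw [show be a k = blockCoeff a.2 k from bc_coe _ _ k],
      DefectOne.sum_blockCoeff_conj, ← mul_assoc, mul_inv_cancel₀ hC0, one_mul,
      Finset.sum_congr rfl (g := fun _ => (η : CG a.1 → ℂ) 1 * (η : CG a.1 → ℂ) 1) fun ξ hξ => by
        rw [hagree ξ (Finset.mem_filter.1 hξ).2.1 1
          (by rw [orderOf_one]; exact hp.out.not_dvd_one)],
      Finset.sum_const, nsmul_eq_mul, ← hcard, Nat.card_eq_fintype_card, Fintype.card_subtype]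
    simp only [and_self]
  · set S' := S ⊔ Subgroup.zpowers v with hS'
    obtain ⟨hb1, hble⟩ := pr_spec hM hx S'
    set b := pr p M x S' with hb
    have k1 : b.1 ≤ CG a.1 := (le_subgroup hble).trans h1
    have k2 : CG b.1 ≤ CG a.1 := cg_pr_le hM hx le_sup_left
    have hl := le_dn hM hble k2 h1
    set v' : CG a.1 := ⟨(v : G), h1 v.2⟩ with hv'
    have hv'x : v' ∈ x'.1 := Subgroup.mem_subgroupOf.2 v.2
    obtain ⟨e1, e2, -⟩ := CycDef.av_spec hM hx' hv'x
    have hcg : CG (CycDef.av p M x' v').1 = CG (dn (CG a.1) b k1 k2).1 := by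
      rw [e1, dn_fst]
      ext c
      rw [Wat.mem_cg_zpowers, mem_cg_subgroupOf k1, hb, mem_cg_pr_sup hM hx S v]
      exact ⟨fun h => ⟨c.2, congrArg Subtype.val h⟩, fun h => Subtype.ext h.2⟩
    have hbe := be_same_cg hM hx'.1.1 hab' e2 hl hcg
    have hbe' : ∀ k : CG a.1, be (CycDef.av p M x' v') k = be b (k : G) := fun k => by
      rw [hbe, be_dn b k1 k2]; rfl
    have hn := hnorm v' hv'x
    rw [hq, sct_up (η : CG a.1 → ℂ) b _ hbe' k2 v' 1, OneMemClass.coe_one] at hn
    rw [hn, CycDef.wgt, hcg, hbe, ← CycDef.wgt, CycDef.wgt_dn b k1 k2]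

/-- The chosen character. -/
noncomputable def eta (p : ℕ) [Fact p.Prime] (M : Ideal AlgInt) (x : BrauerPairIdx G)
    (S : Subgroup x.1) : IrrCharacter (CG (pr p M x S).1) :=
  if h : ∃ η, IsEta p M x S η then h.choose else trivialIrr _

theorem eta_spec (hM : IsPModular p M) (hx : IsMx p M B x)
    (hab : ∀ v ∈ x.1, ∀ w ∈ x.1, v * w = w * v) (hfree : Free x) {S : Subgroup x.1}
    (hS : S ≠ ⊥) : IsEta p M x S (eta p M x S) := by
  have h := exists_eta hM hx hab hfree hS
  rw [eta, dif_pos h]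
  exact h.choose_spec

/-- The degree of the chosen character. -/
noncomputable def dg (p : ℕ) [Fact p.Prime] (M : Ideal AlgInt) (x : BrauerPairIdx G)
    (S : Subgroup x.1) : ℂ :=
  (eta p M x S : CG (pr p M x S).1 → ℂ) 1

theorem dg_ne_zero (S : Subgroup x.1) : dg p M x S ≠ 0 := irr_one_ne_zero _

theorem conj_dg (S : Subgroup x.1) : conj (dg p M x S) = dg p M x S := by
  rw [dg, charDeg_spec', Complex.conj_natCast]

/-- The section in the unit of the chosen character. -/
noncomputable def th (p : ℕ) [Fact p.Prime] (M : Ideal AlgInt) (x : BrauerPairIdx G)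
    (S : Subgroup x.1) (f : G → ℂ) (v : x.1) : ℂ :=
  sct f (pr p M x S) (v : G) 1 / dg p M x S

theorem sct_one (S : Subgroup x.1) (f : G → ℂ) (v : x.1) :
    sct f (pr p M x S) (v : G) 1 = th p M x S f v * dg p M x S :=
  (div_mul_cancel₀ _ (dg_ne_zero S)).symm

/-- The expansion of a section. -/
theorem th_expand (hM : IsPModular p M) (hx : IsMx p M B x)
    (hab : ∀ v ∈ x.1, ∀ w ∈ x.1, v * w = w * v) (hfree : Free x) {S : Subgroup x.1}
    (hS : S ≠ ⊥) (f : G → ℂ)
    (hf : IsCharacter (CG (pr p M x S).1) (fun c => f (c : G))) :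
    (∀ v : x.1, v ∈ S →
      IsClassFunction (CG (pr p M x S).1) (fun c => sct f (pr p M x S) (v : G) (c : G))) ∧
    (∀ v : x.1, v ∈ S → ∀ c : CG (pr p M x S).1, ¬ p ∣ orderOf c →
      sct f (pr p M x S) (v : G) (c : G) =
        th p M x S f v * (eta p M x S : CG (pr p M x S).1 → ℂ) c) ∧
    (letI : CommGroup x.1 :=
      { (inferInstance : Group x.1) with mul_comm := fun a b => Subtype.ext (hab _ a.2 _ b.2) }
    ∃ ψ ∈ gc x.1, ∀ v : x.1, v ∈ S → th p M x S f v = ψ v) := by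
  letI : CommGroup x.1 :=
    { (inferInstance : Group x.1) with mul_comm := fun a b => Subtype.ext (hab _ a.2 _ b.2) }
  obtain ⟨hη, hagree, -, -⟩ := eta_spec hM hx hab hfree hS
  have hreg1 : ¬ p ∣ orderOf (1 : CG (pr p M x S).1) := by
    rw [orderOf_one]; exact hp.out.not_dvd_one
  set a := pr p M x S with ha
  letI := Fintype.ofFinite (CG a.1)
  set m : IrrCharacter (CG a.1) → ℂ := fun ξ =>
    classInner (fun c : CG a.1 => f (c : G)) (ξ : CG a.1 → ℂ) with hm
  have hexp : ∀ c : CG a.1, f (c : G) = ∑ ξ : IrrCharacter (CG a.1),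
      m ξ * (ξ : CG a.1 → ℂ) c := fun c => by
    have h := congrFun (classFunction_expansion (IsChar.classFun hf)) c
    rw [sum_irr_apply] at h
    exact h
  -- the central characters
  have hcen : ∀ v : S, (⟨((v : x.1) : G), coe_mem_cg hM hx hab S v⟩ : CG a.1) ∈
      Subgroup.center (CG a.1) := fun v => Subgroup.mem_center_iff.2 fun g => Subtype.ext
    (Subgroup.mem_centralizer_iff.1 g.2 _ (coe_mem_pr hM hx v.2)).symm
  have hscal : ∀ (ξ : IrrCharacter (CG a.1)) (v : S), ∃ s : ℂˣ, ∀ g : CG a.1,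
      (ξ : CG a.1 → ℂ) (⟨((v : x.1) : G), coe_mem_cg hM hx hab S v⟩ * g) =
        (s : ℂ) * (ξ : CG a.1 → ℂ) g := fun ξ v => by
    obtain ⟨s, hs1, hs⟩ := IsIrr.scalar_of_center ξ.2 (hcen v)
    exact ⟨Units.mk0 s (fun h => by rw [h, norm_zero] at hs1; exact zero_ne_one hs1), hs⟩
  choose sc hsc using hscal
  let l : IrrCharacter (CG a.1) → S →* ℂˣ := fun ξ => MonoidHom.mk' (sc ξ) fun v w => by
    refine Units.ext (mul_right_cancel₀ (irr_one_ne_zero ξ) ?_)
    rw [Units.val_mul, mul_assoc, ← hsc ξ (v * w) 1, ← hsc ξ w 1, ← hsc ξ v, ← mul_assoc]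
    rfl
  have hL : ∀ ξ, ∃ L : x.1 →* ℂˣ, ∀ v : S, L v = l ξ v := fun ξ =>
    DadeExt.exists_lift S.subtype (l ξ) fun v hv => by
      rw [show v = 1 from Subtype.ext hv, map_one]
  choose L hL using hL
  have hblock : ∀ (ξ : IrrCharacter (CG a.1)) (c : CG a.1),
      ∑ k : CG a.1, blockCoeff a.2 k * (ξ : CG a.1 → ℂ) (k * c) =
        if ξ ∈ a.2 then (ξ : CG a.1 → ℂ) c else 0 := fun ξ c => CycMod.sum_blockCoeff_mul_irr a.2 ξ c
  have key : ∀ (v : S) (c : CG a.1), sct f a ((v : x.1) : G) (c : G) =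
      ∑ ξ ∈ Finset.univ.filter (· ∈ a.2),
        m ξ * ((L ξ v : ℂˣ) : ℂ) * (ξ : CG a.1 → ℂ) c := by
    intro v c
    rw [sct_eq_sub, Finset.sum_congr rfl fun k _ => by
      rw [show ((v : x.1) : G) * (k : G) * (c : G) =
        ((⟨((v : x.1) : G), coe_mem_cg hM hx hab S v⟩ * (k * c) : CG a.1) : G) from mul_assoc _ _ _,
        hexp, Finset.mul_sum]]
    rw [Finset.sum_comm, Finset.sum_filter]
    refine Finset.sum_congr rfl fun ξ _ => ?_
    rw [hL ξ v, show (l ξ v : ℂ) = (sc ξ v : ℂ) from rfl,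
      Finset.sum_congr rfl (g := fun k => m ξ * (sc ξ v : ℂ) *
        (blockCoeff a.2 k * (ξ : CG a.1 → ℂ) (k * c))) fun k _ => by rw [hsc]; ring,
      ← Finset.mul_sum, hblock, mul_ite, mul_zero]
  refine ⟨fun v hv g t => ?_, ?_⟩
  · show sct f a (v : G) _ = sct f a (v : G) _
    rw [key ⟨v, hv⟩, key ⟨v, hv⟩]
    exact Finset.sum_congr rfl fun ξ _ => by rw [irr_classFun ξ g t]
  have hth : ∀ v : S, th p M x S f v =
      ∑ ξ ∈ Finset.univ.filter (· ∈ a.2), m ξ * ((L ξ v : ℂˣ) : ℂ) := by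
    intro v
    refine mul_right_cancel₀ (dg_ne_zero (p := p) (M := M) S) ?_
    rw [← sct_one, ← ha, show (1 : G) = ((1 : CG a.1) : G) from rfl, key v 1, Finset.sum_mul]
    exact Finset.sum_congr rfl fun ξ hξ => by
      rw [dg, hagree ξ (Finset.mem_filter.1 hξ).2 1 hreg1]
  refine ⟨fun v hv c hc => ?_, ?_⟩
  · rw [key ⟨v, hv⟩, hth ⟨v, hv⟩, Finset.sum_mul]
    exact Finset.sum_congr rfl fun ξ hξ => by rw [hagree ξ (Finset.mem_filter.1 hξ).2 c hc]
  · choose n hn using fun ξ : IrrCharacter (CG a.1) =>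
      IsChar.classInner_nat hf (IsIrr.isCharacter ξ.2)
    refine ⟨∑ ξ ∈ Finset.univ.filter (· ∈ a.2), (n ξ : x.1 → ℂ) * lin (L ξ),
      Subring.sum_mem _ fun ξ _ => (gc x.1).mul_mem (natCast_mem (gc x.1) _) (lin_mem_gc _),
      fun v hv => ?_⟩
    rw [hth ⟨v, hv⟩, Finset.sum_apply]
    refine Finset.sum_congr rfl fun ξ _ => ?_
    simp only [hm, hn, Pi.mul_apply, Pi.natCast_apply, lin]

/-- The chosen characters have sections of modulus one. -/
theorem norm_th_up (hM : IsPModular p M) (hx : IsMx p M B x)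
    (hab : ∀ v ∈ x.1, ∀ w ∈ x.1, v * w = w * v) (hfree : Free x) {Q : Subgroup x.1}
    (hQ : Q ≠ ⊥) (v : x.1) :
    ‖th p M x (Q ⊔ Subgroup.zpowers v)
      (CycDef.up (CG (pr p M x Q).1) (eta p M x Q : CG (pr p M x Q).1 → ℂ)) v‖ = 1 := by
  obtain ⟨-, -, -, hn⟩ := eta_spec hM hx hab hfree hQ
  have hS : Q ⊔ Subgroup.zpowers v ≠ ⊥ := fun h => hQ (le_bot_iff.1 (h ▸ le_sup_left))
  obtain ⟨-, -, hw, -⟩ := eta_spec hM hx hab hfree hS
  have h := (hn v).trans hw
  rw [sct_one, map_mul, conj_dg] at h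
  have hq : (Nat.card x.1 : ℂ) ≠ 0 := Nat.cast_ne_zero.2 Nat.card_pos.ne'
  set z := th p M x (Q ⊔ Subgroup.zpowers v)
    (CycDef.up (CG (pr p M x Q).1) (eta p M x Q : CG (pr p M x Q).1 → ℂ)) v with hz
  have h1 : z * conj z = 1 := by
    refine mul_right_cancel₀ (mul_ne_zero (dg_ne_zero (p := p) (M := M) (Q ⊔ Subgroup.zpowers v))
      (dg_ne_zero (p := p) (M := M) (Q ⊔ Subgroup.zpowers v))) ?_
    rw [one_mul]
    refine Eq.trans ?_ (mul_left_cancel₀ hq h)
    ring
  rw [Complex.mul_conj'] at h1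
  have h2 : ‖z‖ ^ 2 = 1 := by exact_mod_cast h1
  exact (sq_eq_one_iff.1 h2).resolve_right fun h3 => by
    have := norm_nonneg z
    linarith

/-- An idempotent of the centralizer, fixed by the defect group, with a given Brauer image. -/
theorem exists_idem (hM : IsPModular p M) (hx : IsMx p M B x)
    (hab : ∀ v ∈ x.1, ∀ w ∈ x.1, v * w = w * v) {r : BrauerPairIdx G} (hle : LE p M r x)
    [Fintype (CG r.1)]
    {i : MonoidAlgebra ℂ G} (hi : Fx M x.1 i) (hii : i * i = i)
    (hloc : BrEq M r.1 (i * pz r) i) :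
    ∃ j : MonoidAlgebra ℂ (CG r.1), AlgRing M j ∧ j * j = j ∧
      algOf (MonoidHom.id (CG r.1)) (blockCoeff r.2) * j = j ∧
      (∀ v : x.1, Commute (MonoidAlgebra.single
        (⟨(v : G), le_cg_of_comm hab (le_subgroup hle) v.2⟩ : CG r.1) (1 : ℂ)) j) ∧
      ∀ c : CG r.1, MemLocalIdeal M (j.coeff c - i.coeff c) := by
  have hr : IsPr p M r := le_isPr hle hx.1.1
  have hiS : Fx M r.1 i := hi.mono (le_subgroup hle)
  set zC := algOf (MonoidHom.id (CG r.1)) (blockCoeff r.2) with hzC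
  set iC := algOf (MonoidHom.id (CG r.1)) (fun c => i.coeff (c : G)) with hiC
  have hzr : AlgRing M zC := AlgRing.algOf hM _ (blockCoeff_ring hM hr.2)
  have hir : AlgRing M iC := AlgRing.algOf hM _ fun c => hi.1 _
  have hzz : zC * zC = zC := by rw [hzC, ← algOf_convFun, convFun_blockCoeff]
  have hcen : ∀ a, Commute a zC := fun a => by
    induction a using MonoidAlgebra.induction_on with
    | of g => exact (algOf_comm_single (MonoidHom.id (CG r.1)) (blockCoeff_classFun r.2) g).symm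
    | add a b ha hb => exact ha.add_left hb
    | smul s a ha => exact ha.smul_left s
  set y := iC * zC with hy
  have hyi : ∀ c : CG r.1, MemLocalIdeal M (y.coeff c - i.coeff c) := by
    intro c
    have h1 := coeff_mul_centralizer hM hr.1 hiS (pz_fx_self hM hr) c
    have e : y.coeff c =
        convFun (fun h : CG r.1 => i.coeff h) (fun h : CG r.1 => (pz r).coeff h) c := by
      rw [hy, coeff_conv]
      simp only [hiC, hzC, algOf_coeff_id, pz_coeff]
      congr 1
      funext h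
      exact (bc_coe _ _ h).symm
    rw [e]
    simpa using ideal_sub hM (hloc c c.2) h1
  have hii' : AlgIdeal M (iC * iC - iC) := by
    intro c
    rw [MonoidAlgebra.coeff_sub, Finsupp.sub_apply, coeff_conv]
    simp only [hiC, algOf_coeff_id]
    have h1 := coeff_mul_centralizer hM hr.1 hiS hiS c
    rw [hii] at h1
    exact ideal_sub_comm h1
  have hyy : AlgIdeal M (y * y - y) := by
    have : y * y - y = (iC * iC - iC) * zC := by
      rw [hy, sub_mul, mul_assoc iC zC, ← mul_assoc zC iC, ← (hcen iC).eq, mul_assoc iC zC zC,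
        hzz, ← mul_assoc]
    rw [this]
    exact AlgIdeal.mul_right hM hii' hzr
  set P' : Subgroup (CG r.1) := x.1.subgroupOf (CG r.1) with hP'
  have hyf : Fx M P' y := ⟨hir.mul hM hzr, fun u hu => by
    refine Commute.mul_right (comm_single_iff.2 fun c => ?_) (hcen _)
    simp only [hiC, algOf_coeff_id]
    exact (fx_iff.1 hi).2 (u : G) (Subgroup.mem_subgroupOf.1 hu) (c : G)⟩
  obtain ⟨δ, t, hδ, -, hδδ, hδy, hyt, -⟩ := Star.exists_lift hM (R := (⊥ : Subgroup (CG r.1)))
    IsPGroup.of_bot bot_le hyf fun c _ => by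
      simpa using hyy c
  refine ⟨δ, hδ.1, hδδ, ?_, fun v => hδ.2 _ (Subgroup.mem_subgroupOf.2 v.2), fun c => ?_⟩
  · conv_rhs => rw [← hyt]
    conv_lhs => rw [← hyt]
    rw [← mul_assoc, ← mul_assoc, hy, ← mul_assoc zC iC, ← (hcen iC).eq, mul_assoc iC zC zC, hzz]
  · have h3 := hδy c (by rw [Wat.cg_bot]; exact Subgroup.mem_top c)
    simpa using ideal_add hM h3 (hyi c)

/-- The evaluation of a section against an idempotent inside the block. -/
theorem sum_idem (hM : IsPModular p M) (hx : IsMx p M B x)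
    (hab : ∀ v ∈ x.1, ∀ w ∈ x.1, v * w = w * v) (hfree : Free x) {S : Subgroup x.1}
    (hS : S ≠ ⊥) [Fintype (CG (pr p M x S).1)]
    {j : MonoidAlgebra ℂ (CG (pr p M x S).1)} (hj : AlgRing M j) (hjj : j * j = j)
    (hzj : algOf (MonoidHom.id (CG (pr p M x S).1)) (blockCoeff (pr p M x S).2) * j = j)
    (f : G → ℂ) (hf : IsCharacter (CG (pr p M x S).1) (fun c => f (c : G))) {v : x.1}
    (hv : v ∈ S) :
    ∑ c : CG (pr p M x S).1, j.coeff c * f ((v : G) * (c : G)) =
      th p M x S f v * ev (eta p M x S : CG (pr p M x S).1 → ℂ) j := by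
  obtain ⟨hcf, hreg, -⟩ := th_expand hM hx hab hfree hS f hf
  show ev (fun c : CG (pr p M x S).1 => f ((v : G) * (c : G))) j = _
  conv_lhs => rw [← hzj, ev_algOf_mul]
  have hs : (fun c : CG (pr p M x S).1 => ∑ k : CG (pr p M x S).1,
      blockCoeff (pr p M x S).2 k * f ((v : G) * ((k * c : CG (pr p M x S).1) : G))) =
      fun c : CG (pr p M x S).1 => sct f (pr p M x S) (v : G) (c : G) := funext fun c => by
    rw [sct_eq_sub]
    simp only [Subgroup.coe_mul, mul_assoc]
  rw [hs, ev_eq_of_regular hM hj hjj (f' := fun c => th p M x S f v *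
    (eta p M x S : CG (pr p M x S).1 → ℂ) c) (hcf v hv)
    (fun g t => congrArg (th p M x S f v * ·) (irr_classFun (eta p M x S) g t))
    (fun c hc => hreg v hv c hc), ev_const_mul]

/-- Against `v`, an idempotent may be replaced by one of the centralizer of `v`. -/
theorem ev_push (hM : IsPModular p M) {K : Type u} [Group K] [Fintype K] {C : Type u} [Group C]
    [Fintype C] (ι : C →* K) (hι : Function.Injective ι) {v : K} {k : ℕ} (hk : orderOf v = p ^ k)
    (hrange : ∀ y : K, Commute v y → ∃ c, ι c = y) (hcomm : ∀ c, Commute v (ι c))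
    {a : MonoidAlgebra ℂ K} (ha : AlgRing M a) (haa : a * a = a)
    (hav : Commute (MonoidAlgebra.single v (1 : ℂ)) a)
    {j : MonoidAlgebra ℂ C} (hj : AlgRing M j) (hjj : j * j = j)
    (hcongr : ∀ c, MemLocalIdeal M (a.coeff (ι c) - j.coeff c)) {f : K → ℂ}
    (hf : IsClassFunction K f) :
    ev f (MonoidAlgebra.single v (1 : ℂ) * a) = ∑ c : C, j.coeff c * f (v * ι c) := by
  set b := algOf ι (fun c => j.coeff c) with hb
  have hcoef : ∀ c, b.coeff (ι c) = j.coeff c := by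
    intro c
    rw [hb, algOf, MonoidAlgebra.coeff_sum, Finsupp.coe_finsetSum, Finset.sum_apply,
      Finset.sum_eq_single c]
    · simp
    · intro d _ hd
      rw [MonoidAlgebra.coeff_single, Finsupp.single_apply, if_neg fun h => hd (hι h)]
    · exact fun h => absurd (Finset.mem_univ _) h
  have hbb : b * b = b := by
    rw [hb, ← algOf_convFun]
    congr 1
    funext c
    rw [← coeff_conv j j c, hjj]
  have hvb : Commute (MonoidAlgebra.single v (1 : ℂ)) b := by
    rw [hb, algOf]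
    refine Commute.sum_right _ _ _ fun c _ => ?_
    simp only [Commute, SemiconjBy, MonoidAlgebra.single_mul_single, one_mul, mul_one,
      (hcomm c).eq]
  have hbr : AlgRing M b := AlgRing.algOf hM _ fun c => hj c
  have h := ev_congr hM hk ha hbr haa hbb hav hvb (fun y hy => by
    obtain ⟨c, rfl⟩ := hrange y hy
    rw [hcoef]
    exact hcongr c) hf
  refine h.trans ?_
  rw [hb, algOf, Finset.mul_sum, ev_sum]
  refine Finset.sum_congr rfl fun c _ => ?_
  rw [MonoidAlgebra.single_mul_single, one_mul, ev_single]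

end Cfsg.Agent.Char.FreeDef
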