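import Cfsg.Agent.S0850
import Cfsg.Agent.Lib.Char.Average
import Cfsg.Agent.Lib.Char.Constituent
import Cfsg.Agent.Lib.Char.Integral
import Cfsg.Prelude.Def_OddOrderChar

/-!
Trivial intersection subgroups with Frobenius normalizer: the characters of the normalizer that
are not trivial on the kernel, and the values of their images on the kernel.
-/

set_option autoImplicit false

namespace Cfsg.Agent.Char.FrobTI

open scoped ComplexConjugate
open Cfsg

universe u

section Kernel

variable {L : Type u} [Group L] [Fintype L] (K : Subgroup L) [K.Normal]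

/-- The character is not constant on `K`. -/
def NonTriv (χ : L → ℂ) : Prop := ∃ k ∈ K, χ k ≠ χ 1

theorem avg_of_nonTriv [Fintype K] {χ : L → ℂ} (hχ : IsIrrCharacter L χ) (h : NonTriv K χ) :
    avgN K χ = 0 := by
  rcases avgN_irr K hχ with ⟨-, he⟩ | ⟨hk, -⟩
  · exact he
  · obtain ⟨k, hk', hne⟩ := h
    exact absurd (hk ⟨k, hk'⟩) hne

theorem avg_one_of_not_nonTriv [Fintype K] {χ : L → ℂ} (h : ¬ NonTriv K χ) :
    avgN K χ 1 = χ 1 := by
  simp only [NonTriv, not_exists, not_and, not_not] at h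
  simp only [avgN, mul_one]
  rw [Finset.sum_congr rfl fun (n : K) _ => h n n.2, Finset.sum_const, Finset.card_univ, nsmul_eq_mul,
    ← Nat.card_eq_fintype_card, inv_mul_cancel_left₀ (Nat.cast_ne_zero.mpr Nat.card_pos.ne')]

/-- Off the kernel the nontrivial characters vanish. -/
theorem vanish (hfix : ∀ k ∈ K, k ≠ 1 → ∀ x : L, x * k = k * x → x ∈ K) {χ : L → ℂ}
    (hχ : IsIrrCharacter L χ) (h : NonTriv K χ) {x : L} (hx : x ∉ K) : χ x = 0 := by
  classical
  cases nonempty_fintype K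
  let φ : K → K := fun k => ⟨(k : L) * (x * (k : L)⁻¹ * x⁻¹), K.mul_mem k.2
    (‹K.Normal›.conj_mem _ (K.inv_mem k.2) x)⟩
  have hinj : Function.Injective φ := by
    intro a b hab
    have h1 : (a : L) * x * (a : L)⁻¹ = (b : L) * x * (b : L)⁻¹ := by
      have := congrArg (fun y : K => (y : L) * x) hab
      simpa [φ, mul_assoc] using this
    have h2 : x * ((a : L)⁻¹ * b) = (a : L)⁻¹ * b * x := by
      calc x * ((a : L)⁻¹ * b) = (a : L)⁻¹ * ((a : L) * x * (a : L)⁻¹) * b := by group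
        _ = (a : L)⁻¹ * ((b : L) * x * (b : L)⁻¹) * b := by rw [h1]
        _ = (a : L)⁻¹ * b * x := by group
    by_contra hne
    refine hx (hfix _ (K.mul_mem (K.inv_mem a.2) b.2) (fun he => hne ?_) x h2)
    exact Subtype.ext (inv_mul_eq_one.1 he)
  have hconst : ∀ n : K, χ ((n : L) * x) = χ x := fun n => by
    obtain ⟨k, hk⟩ := (Finite.injective_iff_surjective.1 hinj) n
    rw [← hk]
    show χ ((k : L) * (x * (k : L)⁻¹ * x⁻¹) * x) = χ x
    rw [show (k : L) * (x * (k : L)⁻¹ * x⁻¹) * x = (k : L) * x * (k : L)⁻¹ by group]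
    exact IsIrr.classFun hχ x k
  have h0 := congrFun (avg_of_nonTriv K hχ h) x
  simp only [avgN, hconst, Finset.sum_const, Finset.card_univ, nsmul_eq_mul,
    ← Nat.card_eq_fintype_card] at h0
  rwa [inv_mul_cancel_left₀ (Nat.cast_ne_zero.mpr Nat.card_pos.ne')] at h0

theorem sum_sq_triv [DecidablePred fun χ : IrrCharacter L => NonTriv K (χ : L → ℂ)] :
    ∑ χ ∈ Finset.univ.filter (fun χ : IrrCharacter L => ¬ NonTriv K (χ : L → ℂ)),
      (χ : L → ℂ) 1 * (χ : L → ℂ) 1 = (K.index : ℂ) := by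
  classical
  cases nonempty_fintype K
  have h : ∑ χ : IrrCharacter L, (χ : L → ℂ) 1 * avgN K (χ : L → ℂ) 1 = (K.index : ℂ) := by
    simp only [avgN, mul_one, Finset.mul_sum]
    rw [Finset.sum_comm]
    have h1 : ∀ n : K, ∑ χ : IrrCharacter L,
        (χ : L → ℂ) 1 * ((Nat.card K : ℂ)⁻¹ * (χ : L → ℂ) n) =
        (Nat.card K : ℂ)⁻¹ * if (n : L) = 1 then (Nat.card L : ℂ) else 0 := fun n => by
      rw [← regular_expansion, Finset.mul_sum]
      exact Finset.sum_congr rfl fun χ _ => by ring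
    have h2 : ∑ n : K, (if (n : L) = 1 then (Nat.card L : ℂ) else 0) = (Nat.card L : ℂ) := by
      rw [Finset.sum_eq_single (1 : K)]
      · simp
      · exact fun n _ hn => if_neg fun h => hn (Subtype.ext (by simpa using h))
      · simp
    rw [Finset.sum_congr rfl fun n _ => h1 n, ← Finset.mul_sum, h2,
      ← K.card_mul_index, Nat.cast_mul,
      inv_mul_cancel_left₀ (Nat.cast_ne_zero.mpr Nat.card_pos.ne')]
  rw [← h, Finset.sum_filter]
  refine Finset.sum_congr rfl fun χ _ => ?_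
  by_cases hn : NonTriv K (χ : L → ℂ)
  · rw [if_neg (not_not.2 hn), avg_of_nonTriv K χ.2 hn, Pi.zero_apply, mul_zero]
  · rw [if_pos hn, avg_one_of_not_nonTriv K hn]

theorem sum_sq_nonTriv [DecidablePred fun χ : IrrCharacter L => NonTriv K (χ : L → ℂ)] :
    ∑ χ ∈ Finset.univ.filter (fun χ : IrrCharacter L => NonTriv K (χ : L → ℂ)),
      (χ : L → ℂ) 1 * (χ : L → ℂ) 1 = (Nat.card L : ℂ) - (K.index : ℂ) := by
  classical
  rw [← sum_sq_triv K, ← sum_degree_sq (G := L), eq_sub_iff_add_eq,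
    Finset.sum_filter_add_sum_filter_not]
  exact Finset.sum_congr rfl fun χ _ => by ring

/-- A function whose nontrivial coefficients are proportional to the degrees is constant on
the nontrivial elements of the kernel. -/
theorem value_of_proportional {F : L → ℂ} (hF : IsClassFunction L F) {t : ℂ}
    (h : ∀ χ : IrrCharacter L, NonTriv K (χ : L → ℂ) →
      classInner F (χ : L → ℂ) = t * (χ : L → ℂ) 1)
    [DecidablePred fun χ : IrrCharacter L => NonTriv K (χ : L → ℂ)]
    {k : L} (hk : k ∈ K) (hk1 : k ≠ 1) :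
    F k = (∑ χ ∈ Finset.univ.filter (fun χ : IrrCharacter L => ¬ NonTriv K (χ : L → ℂ)),
      classInner F (χ : L → ℂ) * (χ : L → ℂ) 1) - t * (K.index : ℂ) := by
  classical
  have e : F k = ∑ χ : IrrCharacter L, classInner F (χ : L → ℂ) * (χ : L → ℂ) k := by
    have := congrFun (classFunction_expansion hF) k
    simpa using this
  have hreg := regular_expansion (G := L) k
  rw [if_neg hk1] at hreg
  have htriv : ∀ χ : IrrCharacter L, ¬ NonTriv K (χ : L → ℂ) →
      (χ : L → ℂ) k = (χ : L → ℂ) 1 := fun χ hn => by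
    simp only [NonTriv, not_exists, not_and, not_not] at hn
    exact hn k hk
  rw [← Finset.sum_filter_add_sum_filter_not Finset.univ
    (fun χ : IrrCharacter L => NonTriv K (χ : L → ℂ))] at e hreg
  rw [e, ← sum_sq_triv K, Finset.mul_sum,
    Finset.sum_congr rfl (g := fun χ : IrrCharacter L => t * ((χ : L → ℂ) 1 * (χ : L → ℂ) k))
      (fun χ hχ => by rw [h χ (Finset.mem_filter.1 hχ).2, mul_assoc]),
    ← Finset.mul_sum,
    Finset.sum_congr rfl (s₁ := Finset.univ.filter fun χ : IrrCharacter L => ¬ NonTriv K (χ : L → ℂ))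
      (g := fun χ : IrrCharacter L => classInner F (χ : L → ℂ) * (χ : L → ℂ) 1)
      (fun χ hχ => by rw [htriv χ (Finset.mem_filter.1 hχ).2])]
  rw [Finset.sum_congr rfl (s₁ := Finset.univ.filter fun χ : IrrCharacter L => ¬ NonTriv K (χ : L → ℂ))
      (g := fun χ : IrrCharacter L => (χ : L → ℂ) 1 * (χ : L → ℂ) 1)
      (fun χ hχ => by rw [htriv χ (Finset.mem_filter.1 hχ).2])] at hreg
  rw [← Finset.mul_sum]
  linear_combination t * hreg

/-- A coefficient integral against all nontrivial degrees is integral against the index. -/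
theorem int_of_int {t : ℂ} {χ₀ : IrrCharacter L} (h0 : NonTriv K (χ₀ : L → ℂ))
    (h : ∀ χ : IrrCharacter L, NonTriv K (χ : L → ℂ) → ∃ z : ℤ, t * (χ : L → ℂ) 1 = z) :
    ∃ z : ℤ, t * (K.index : ℂ) = z := by
  classical
  have hint : t * (K.index : ℂ) ∈ (Int.castRingHom ℂ).range := by
    have h1 : t * (Nat.card L : ℂ) ∈ (Int.castRingHom ℂ).range := by
      obtain ⟨d, ρ, hρ, hρc⟩ := id χ₀.2
      haveI := hρ
      have hd : (χ₀ : L → ℂ) 1 = (d : ℂ) := by
        rw [← hρc, Representation.char_one, Module.finrank_fin_fun]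
      obtain ⟨c, hc⟩ := degree_dvd_card ρ
      rw [Module.finrank_fin_fun] at hc
      obtain ⟨z, hz⟩ := h χ₀ h0
      rw [hc, Nat.cast_mul, ← mul_assoc, ← hd, hz]
      exact mul_mem ⟨z, rfl⟩ ⟨(c : ℤ), by simp⟩
    have h2 : t * ((Nat.card L : ℂ) - (K.index : ℂ)) ∈ (Int.castRingHom ℂ).range := by
      rw [← sum_sq_nonTriv K, Finset.mul_sum]
      refine sum_mem fun χ hχ => ?_
      obtain ⟨z, hz⟩ := h χ (Finset.mem_filter.1 hχ).2
      obtain ⟨n, -, hn⟩ := IsIrr.one_eq_pos χ.2
      rw [← mul_assoc, hz, hn]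
      exact mul_mem ⟨z, rfl⟩ ⟨(n : ℤ), by simp⟩
    have h3 := sub_mem h1 h2
    rwa [← mul_sub, sub_sub_cancel] at h3
  obtain ⟨z, hz⟩ := hint
  exact ⟨z, hz.symm⟩

/-- With two nontrivial characters none of them is constant on the nontrivial kernel elements. -/
theorem not_const (hfix : ∀ k ∈ K, k ≠ 1 → ∀ x : L, x * k = k * x → x ∈ K)
    {χ ξ : IrrCharacter L} (hχ : NonTriv K (χ : L → ℂ)) (hξ : NonTriv K (ξ : L → ℂ))
    (hne : χ ≠ ξ) :
    ∃ a ∈ K, ∃ b ∈ K, a ≠ 1 ∧ b ≠ 1 ∧ (χ : L → ℂ) a ≠ (χ : L → ℂ) b := by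
  classical
  cases nonempty_fintype K
  by_contra hcon
  push Not at hcon
  obtain ⟨k₀, hk₀, hk₀ne⟩ := id hχ
  have hk₀1 : k₀ ≠ 1 := fun h => hk₀ne (by rw [h])
  set c := (χ : L → ℂ) k₀ with hc
  have hKc : ∀ k : K, k ≠ 1 → (χ : L → ℂ) k = c := fun k hk =>
    hcon k k.2 k₀ hk₀ (fun h => hk (Subtype.ext h)) hk₀1
  obtain ⟨d, -, hd⟩ := IsIrr.one_eq_pos χ.2
  -- the sum over the kernel vanishes
  have hsum : ((Nat.card K : ℂ) - 1) * c + (χ : L → ℂ) 1 = 0 := by
    have h := congrFun (avg_of_nonTriv K χ.2 hχ) 1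
    simp only [avgN, mul_one, Pi.zero_apply] at h
    have h' := (mul_eq_zero.1 h).resolve_left
      (inv_ne_zero (Nat.cast_ne_zero.mpr Nat.card_pos.ne'))
    rw [← Finset.add_sum_erase _ _ (Finset.mem_univ (1 : K)), Finset.sum_congr rfl
      (fun k hk => hKc k (Finset.mem_erase.1 hk).1), Finset.sum_const,
      Finset.card_erase_of_mem (Finset.mem_univ _), Finset.card_univ, nsmul_eq_mul,
      ← Nat.card_eq_fintype_card, Nat.cast_sub Nat.card_pos, OneMemClass.coe_one] at h'
    push_cast at h'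
    linear_combination h'
  -- the norm
  have hnorm : ((Nat.card K : ℂ) - 1) * (c * conj c) + (χ : L → ℂ) 1 * (χ : L → ℂ) 1 =
      (Nat.card L : ℂ) := by
    have h := classInner_self_irr χ.2
    rw [classInner, inv_mul_eq_iff_eq_mul₀ (Nat.cast_ne_zero.mpr Nat.card_pos.ne'), mul_one] at h
    rw [← h, ← Finset.sum_subset (Finset.subset_univ
      (Finset.univ.map (Function.Embedding.subtype fun x : L => x ∈ K))) (fun x _ hx => by
        rw [vanish K hfix χ.2 hχ fun hm =>
          hx (Finset.mem_map.mpr ⟨⟨x, hm⟩, Finset.mem_univ _, rfl⟩), zero_mul]),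
      Finset.sum_map, ← Finset.add_sum_erase _ _ (Finset.mem_univ (1 : K)), Finset.sum_congr rfl
      (g := fun _ => c * conj c) (fun k hk => by
        show (χ : L → ℂ) k * conj ((χ : L → ℂ) k) = _
        rw [hKc k (Finset.mem_erase.1 hk).1]), Finset.sum_const,
      Finset.card_erase_of_mem (Finset.mem_univ _), Finset.card_univ, nsmul_eq_mul,
      ← Nat.card_eq_fintype_card, Nat.cast_sub Nat.card_pos]
    show _ = (χ : L → ℂ) ((1 : K) : L) * conj ((χ : L → ℂ) ((1 : K) : L)) + _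
    rw [OneMemClass.coe_one, hd, map_natCast]
    push_cast
    ring
  have hS := sum_sq_nonTriv K
  have hle : (χ : L → ℂ) 1 * (χ : L → ℂ) 1 = (Nat.card L : ℂ) - (K.index : ℂ) := by
    have hK1 : (Nat.card K : ℂ) - 1 ≠ 0 := fun h => by
      rw [h, zero_mul, zero_add] at hsum
      exact IsIrr.one_ne_zero χ.2 hsum
    have hL : (Nat.card L : ℂ) = (Nat.card K : ℂ) * (K.index : ℂ) := by
      exact_mod_cast K.card_mul_index.symm
    have hcv : c = -(χ : L → ℂ) 1 / ((Nat.card K : ℂ) - 1) := by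
      rw [eq_div_iff hK1]; linear_combination hsum
    have hcc : conj c = c := by
      rw [hcv, hd]
      simp [map_div₀]
    rw [hcc] at hnorm
    have hK0 : (Nat.card K : ℂ) ≠ 0 := Nat.cast_ne_zero.mpr Nat.card_pos.ne'
    refine mul_left_cancel₀ hK0 ?_
    linear_combination ((Nat.card K : ℂ) - 1) * hnorm
      - (((Nat.card K : ℂ) - 1) * c - (χ : L → ℂ) 1) * hsum - hL
  rw [← hS] at hle
  have hsub : ({χ, ξ} : Finset (IrrCharacter L)) ⊆
      Finset.univ.filter (fun ρ : IrrCharacter L => NonTriv K (ρ : L → ℂ)) := by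
    intro x hx
    simp only [Finset.mem_insert, Finset.mem_singleton] at hx
    rcases hx with rfl | rfl <;> simp [*]
  choose D hD0 hD using fun ρ : IrrCharacter L => IsIrr.one_eq_pos ρ.2
  simp only [hD] at hle
  have hle' : D χ * D χ = ∑ ρ ∈ Finset.univ.filter
      (fun ρ : IrrCharacter L => NonTriv K (ρ : L → ℂ)), D ρ * D ρ := by exact_mod_cast hle
  have h3 := Finset.sum_le_sum_of_subset (f := fun ρ => D ρ * D ρ) hsub
  rw [Finset.sum_pair hne] at h3
  have := Nat.mul_pos (hD0 ξ) (hD0 ξ)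
  omega

end Kernel

variable {G : Type u} [Group G] [Fintype G] (K : Subgroup G)

/-- The kernel inside the normalizer. -/
abbrev KN : Subgroup (Subgroup.normalizer (K : Set G)) :=
  K.subgroupOf (Subgroup.normalizer (K : Set G))

instance : (KN K).Normal := Subgroup.normal_in_normalizer

variable (hC : ∀ k ∈ K, k ≠ 1 → Subgroup.centralizer ({k} : Set G) ≤ K)

include hC in
omit [Fintype G] in
theorem fix_of_centralizer : ∀ k ∈ KN K, k ≠ 1 →
    ∀ x : Subgroup.normalizer (K : Set G), x * k = k * x → x ∈ KN K := fun k hk hk1 x hx =>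
  hC k hk (fun h => hk1 (Subtype.ext h))
    (Subgroup.mem_centralizer_singleton_iff.mpr (congrArg Subtype.val hx))

variable (hTI : ∀ g : G, g ∉ Subgroup.normalizer (K : Set G) → ∀ k ∈ K, g * k * g⁻¹ ∈ K → k = 1)
  (hlt : K < Subgroup.normalizer (K : Set G)) [Fintype ↥(Subgroup.normalizer (K : Set G))]

include hC hTI hlt in
theorem res_ind {α : Subgroup.normalizer (K : Set G) → ℂ}
    (hα : IsClassFunction (Subgroup.normalizer (K : Set G)) α)
    (hsupp : ∀ x, x ∉ KN K → α x = 0) (h1 : α 1 = 0) (x : Subgroup.normalizer (K : Set G)) :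
    indFun (Subgroup.normalizer (K : Set G)) α x = α x :=
  (Cfsg.Agent.S0850.result K hTI hlt hC).2 α hα (fun y hy => hsupp y hy) h1 x

end Cfsg.Agent.Char.FrobTI
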