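import Cfsg.Agent.Lib.Char.Galois
import Cfsg.Agent.Lib.Char.ModP
import Cfsg.Agent.Lib.Block.Height
import Cfsg.Agent.Lib.Block.SecondMain
import Cfsg.Agent.Lib.Block.ClassMul
import Mathlib.RingTheory.RootsOfUnity.Complex
import Mathlib.Data.ZMod.Units

/-!
The orbit of an irreducible character under the automorphisms fixing the roots of unity of order
prime to `p`.
-/

namespace Cfsg.Agent.Char.GaloisOrbit

open Cfsg Cfsg.Agent.Block
open scoped ComplexConjugate

set_option linter.unusedSectionVars false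
set_option linter.style.haveILetI false

universe u

variable {G : Type u} [Group G] [Finite G] {p : ℕ}

theorem pow_congr_modEq {z : ℂ} {N k l : ℕ} (hz : z ^ N = 1) (h : k ≡ l [MOD N]) :
    z ^ k = z ^ l := by
  rw [pow_eq_pow_mod k hz, pow_eq_pow_mod l hz, show k % N = l % N from h]

theorem sum_units_pow (p a : ℕ) (hp : p.Prime) (ha : 0 < a) [NeZero (p ^ a)] (w : ℂ)
    (hw : w ^ p ^ a = 1) :
    ∃ z : ℤ, ∑ j : (ZMod (p ^ a))ˣ, w ^ (j : ZMod (p ^ a)).val = (p : ℂ) ^ (a - 1) * z := by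
  classical
  obtain ⟨b, rfl⟩ : ∃ b, a = b + 1 := ⟨a - 1, by omega⟩
  simp only [Nat.add_sub_cancel]
  set P := p ^ (b + 1) with hP
  have e1 : ∑ j : (ZMod P)ˣ, w ^ (j : ZMod P).val =
      ∑ i ∈ (Finset.range P).filter (fun i => ¬ p ∣ i), w ^ i := by
    refine Finset.sum_bij (fun j _ => (j : ZMod P).val) (fun j _ => ?_)
      (fun i _ j _ h => Units.ext (ZMod.val_injective _ h)) (fun i hi => ?_) (fun _ _ => rfl)
    · rw [Finset.mem_filter, Finset.mem_range]
      refine ⟨ZMod.val_lt _, ?_⟩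
      have h := ZMod.val_coe_unit_coprime j
      rw [Nat.coprime_pow_right_iff (Nat.succ_pos b), Nat.coprime_comm] at h
      exact hp.coprime_iff_not_dvd.1 h
    · rw [Finset.mem_filter, Finset.mem_range] at hi
      refine ⟨ZMod.unitOfCoprime i ?_, Finset.mem_univ _, ?_⟩
      · exact Nat.Coprime.pow_right _ (Nat.coprime_comm.1 (hp.coprime_iff_not_dvd.2 hi.2))
      · rw [ZMod.coe_unitOfCoprime]
        exact ZMod.val_natCast_of_lt hi.1
  have e2 : ∑ i ∈ (Finset.range P).filter (fun i => p ∣ i), w ^ i =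
      ∑ i ∈ Finset.range (p ^ b), (w ^ p) ^ i := by
    symm
    refine Finset.sum_bij (fun i _ => p * i) (fun i hi => ?_)
      (fun i _ j _ h => Nat.eq_of_mul_eq_mul_left hp.pos h) (fun i hi => ?_)
      (fun i _ => (pow_mul _ _ _).symm)
    · rw [Finset.mem_filter, Finset.mem_range, hP, pow_succ']
      exact ⟨Nat.mul_lt_mul_of_pos_left (Finset.mem_range.1 hi) hp.pos, dvd_mul_right _ _⟩
    · rw [Finset.mem_filter, Finset.mem_range, hP, pow_succ'] at hi
      obtain ⟨k, rfl⟩ := hi.2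
      exact ⟨k, Finset.mem_range.2 (Nat.lt_of_mul_lt_mul_left hi.1), rfl⟩
  have e3 : ∀ (m : ℕ) (v : ℂ), v ^ m = 1 → ∑ i ∈ Finset.range m, v ^ i =
      if v = 1 then (m : ℂ) else 0 := by
    intro m v hv
    split_ifs with h
    · simp [h]
    · rw [geom_sum_eq h, hv, sub_self, zero_div]
  have e4 := Finset.sum_filter_add_sum_filter_not (Finset.range P) (fun i => p ∣ i) (fun i => w ^ i)
  rw [e2, ← e1, e3 _ _ hw, e3 _ (w ^ p) (by rw [← pow_mul, ← pow_succ']; exact hw)] at e4
  refine ⟨(if w = 1 then (p : ℤ) else 0) - (if w ^ p = 1 then 1 else 0), ?_⟩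
  rw [eq_sub_of_add_eq' e4, hP]
  push_cast
  split_ifs <;> ring

variable (G)

/-- The order of the group without its `p`-part. -/
noncomputable def cop (p : ℕ) : ℕ := Nat.card G / p ^ (Nat.card G).factorization p

theorem cop_mul (p : ℕ) : p ^ (Nat.card G).factorization p * cop G p = Nat.card G :=
  Nat.ordProj_mul_ordCompl_eq_self _ _

theorem coprime_cop (hp : p.Prime) :
    (cop G p).Coprime (p ^ (Nat.card G).factorization p) :=
  (Nat.Coprime.pow_left _ (Nat.coprime_ordCompl hp Nat.card_pos.ne')).symm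

variable {G}

/-- The Galois orbit over the roots of unity of order prime to `p`. -/
def orbit (p : ℕ) (χ : IrrCharacter G) : Set (IrrCharacter G) :=
  {ψ | ∃ σ : ℂ ≃+* ℂ, σ (Complex.exp (2 * Real.pi * Complex.I /
      ((Nat.card G / p ^ (Nat.card G).factorization p) : ℕ))) =
      Complex.exp (2 * Real.pi * Complex.I /
        ((Nat.card G / p ^ (Nat.card G).factorization p) : ℕ)) ∧
    (ψ : G → ℂ) = fun g => σ ((χ : G → ℂ) g)}

variable [hp : Fact p.Prime]

theorem neZero_pp : NeZero (p ^ (Nat.card G).factorization p) :=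
  ⟨pow_ne_zero _ hp.out.ne_zero⟩

theorem exists_exponent (j : (ZMod (p ^ (Nat.card G).factorization p))ˣ) :
    ∃ k : ℕ, k.Coprime (Nat.card G) ∧ k ≡ 1 [MOD cop G p] ∧ (k : ZMod (p ^ (Nat.card G).factorization p)) = j := by
  haveI := neZero_pp (G := G) (p := p)
  obtain ⟨k, hk1, hk2⟩ := Nat.chineseRemainder (coprime_cop G hp.out) 1 ((j : ZMod (p ^ (Nat.card G).factorization p)).val)
  refine ⟨k, ?_, hk1, ?_⟩
  · rw [← cop_mul G p]
    refine Nat.Coprime.mul_right ?_ ?_
    · rw [Nat.Coprime, hk2.gcd_eq]; exact ZMod.val_coe_unit_coprime j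
    · rw [Nat.Coprime, hk1.gcd_eq]; exact Nat.gcd_one_left _
  · rw [(ZMod.natCast_eq_natCast_iff _ _ _).2 hk2, ZMod.natCast_zmod_val]

/-- The exponent of a unit. -/
noncomputable def ex (j : (ZMod (p ^ (Nat.card G).factorization p))ˣ) : ℕ := (exists_exponent j).choose

theorem ex_coprime (j : (ZMod (p ^ (Nat.card G).factorization p))ˣ) : (ex j).Coprime (Nat.card G) :=
  (exists_exponent j).choose_spec.1

theorem ex_modEq (j : (ZMod (p ^ (Nat.card G).factorization p))ˣ) : ex j ≡ 1 [MOD cop G p] :=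
  (exists_exponent j).choose_spec.2.1

theorem ex_cast (j : (ZMod (p ^ (Nat.card G).factorization p))ˣ) : (ex j : ZMod (p ^ (Nat.card G).factorization p)) = j := (exists_exponent j).choose_spec.2.2

theorem modEq_of (k l : ℕ) (h1 : k ≡ l [MOD cop G p]) (h2 : (k : ZMod (p ^ (Nat.card G).factorization p)) = (l : ZMod (p ^ (Nat.card G).factorization p))) :
    k ≡ l [MOD Nat.card G] := by
  have h := (Nat.modEq_and_modEq_iff_modEq_mul (coprime_cop G hp.out)).1
    ⟨h1, (ZMod.natCast_eq_natCast_iff _ _ _).1 h2⟩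
  rwa [mul_comm, cop_mul] at h

/-- The twist of a character by a unit. -/
noncomputable def tw (χ : IrrCharacter G) (j : (ZMod (p ^ (Nat.card G).factorization p))ˣ) : IrrCharacter G :=
  ⟨fun g => (χ : G → ℂ) (g ^ ex j), IsIrr.pow_map χ.2 (ex_coprime j)⟩

theorem tw_apply (χ : IrrCharacter G) (j : (ZMod (p ^ (Nat.card G).factorization p))ˣ) (g : G) :
    (tw χ j : G → ℂ) g = (χ : G → ℂ) (g ^ ex j) := rfl

theorem pow_eq {k l : ℕ} (h : k ≡ l [MOD Nat.card G]) (g : G) : g ^ k = g ^ l :=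
  pow_eq_pow_iff_modEq.2 (h.of_dvd (orderOf_dvd_natCard g))

theorem tw_mul (χ : IrrCharacter G) (i j : (ZMod (p ^ (Nat.card G).factorization p))ˣ) : tw (tw χ i) j = tw χ (i * j) := by
  refine Subtype.ext (funext fun g => ?_)
  rw [tw_apply, tw_apply, tw_apply, ← pow_mul]
  apply congrArg (χ : G → ℂ)
  refine pow_eq (modEq_of (p := p) _ _ ?_ ?_) g
  · exact ((ex_modEq j).mul (ex_modEq i)).trans (ex_modEq (i * j)).symm
  · rw [Nat.cast_mul, ex_cast, ex_cast, ex_cast, Units.val_mul, mul_comm]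

theorem tw_one (χ : IrrCharacter G) : tw χ (1 : (ZMod (p ^ (Nat.card G).factorization p))ˣ) = χ := by
  refine Subtype.ext (funext fun g => ?_)
  rw [tw_apply, pow_eq (modEq_of (ex (1 : (ZMod (p ^ (Nat.card G).factorization p))ˣ)) 1 (ex_modEq _) (by rw [ex_cast]; simp)) g,
    pow_one]

theorem mem_orbit_iff (χ ψ : IrrCharacter G) :
    ψ ∈ orbit p χ ↔ ∃ j : (ZMod (p ^ (Nat.card G).factorization p))ˣ, tw χ j = ψ := by
  have hn : 0 < Nat.card G := Nat.card_pos
  haveI := neZero_pp (G := G) (p := p)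
  have hm : cop G p ≠ 0 := fun h => by
    have := cop_mul G p
    rw [h, mul_zero] at this
    omega
  constructor
  · rintro ⟨σ, hσ, hψ⟩
    set ζ := Complex.exp (2 * Real.pi * Complex.I / (Nat.card G : ℕ))
    have hζ : IsPrimitiveRoot ζ (Nat.card G) := Complex.isPrimitiveRoot_exp _ hn.ne'
    haveI : NeZero (Nat.card G) := ⟨hn.ne'⟩
    obtain ⟨k, -, hk⟩ := hζ.eq_pow_of_pow_eq_one
      (show σ ζ ^ Nat.card G = 1 by rw [← map_pow, hζ.pow_eq_one, map_one])
    have hpow : ∀ z : ℂ, z ^ Nat.card G = 1 → σ z = z ^ k := by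
      intro z hz
      obtain ⟨i, -, rfl⟩ := hζ.eq_pow_of_pow_eq_one hz
      rw [map_pow, ← hk, ← pow_mul, ← pow_mul, mul_comm]
    have hkc : k.Coprime (Nat.card G) :=
      (hζ.pow_iff_coprime hn k).1 (hk.symm ▸ hζ.map_of_injective σ.injective)
    have hk1 : k ≡ 1 [MOD cop G p] := by
      set z := Complex.exp (2 * Real.pi * Complex.I / (cop G p : ℕ))
      have hz : IsPrimitiveRoot z (cop G p) := Complex.isPrimitiveRoot_exp _ hm
      have h1 : z ^ k = z ^ 1 := by
        rw [← hpow z (by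
          rw [← cop_mul G p, mul_comm, pow_mul, hz.pow_eq_one, one_pow]), pow_one]
        exact hσ
      rw [pow_eq_pow_mod k hz.pow_eq_one, pow_eq_pow_mod 1 hz.pow_eq_one] at h1
      exact hz.pow_inj (Nat.mod_lt _ (Nat.pos_of_ne_zero hm)) (Nat.mod_lt _ (Nat.pos_of_ne_zero hm)) h1
    have hkP : k.Coprime (p ^ (Nat.card G).factorization p) :=
      hkc.coprime_dvd_right ⟨_, (cop_mul G p).symm⟩
    refine ⟨ZMod.unitOfCoprime k hkP, Subtype.ext (funext fun g => ?_)⟩
    rw [tw_apply, hψ, pow_eq (modEq_of _ k ((ex_modEq _).trans hk1.symm)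
      (by rw [ex_cast, ZMod.coe_unitOfCoprime])) g]
    exact (ringAut_character_eq_pow (IsIrr.isCharacter χ.2) σ hpow (orderOf_dvd_natCard g)).symm
  · rintro ⟨j, rfl⟩
    obtain ⟨σ, hσ⟩ := exists_ringAut_pow (Nat.card G) (ex j) hn (ex_coprime j)
    refine ⟨σ, ?_, funext fun g => (ringAut_character_eq_pow (IsIrr.isCharacter χ.2) σ hσ
      (orderOf_dvd_natCard g)).symm⟩
    set z := Complex.exp (2 * Real.pi * Complex.I / (cop G p : ℕ))
    have hz : IsPrimitiveRoot z (cop G p) := Complex.isPrimitiveRoot_exp _ hm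
    show σ z = z
    rw [hσ z (by rw [← cop_mul G p, mul_comm, pow_mul, hz.pow_eq_one, one_pow])]
    conv_rhs => rw [← pow_one z]
    exact pow_congr_modEq hz.pow_eq_one (ex_modEq j)

theorem tw_value (hpos : 0 < (Nat.card G).factorization p) (χ : IrrCharacter G) (g : G) :
    ∃ z : ℂ, IsIntegral ℤ z ∧
      haveI := neZero_pp (G := G) (p := p)
      ∑ j : (ZMod (p ^ (Nat.card G).factorization p))ˣ, (tw χ j : G → ℂ) g =
        (p : ℂ) ^ ((Nat.card G).factorization p - 1) * z := by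
  classical
  haveI := neZero_pp (G := G) (p := p)
  obtain ⟨n, ρ, hρ⟩ := IsIrr.isCharacter χ.2
  obtain ⟨b, c, -, hc, hk⟩ := exists_rep_eigenbasis ρ g
  obtain ⟨t, ht1, ht2⟩ := Nat.chineseRemainder (coprime_cop G hp.out) 1 0
  obtain ⟨s, hs1, hs2⟩ := Nat.chineseRemainder (coprime_cop G hp.out) 0 1
  have hcN : ∀ i, c i ^ Nat.card G = 1 := fun i => by
    obtain ⟨e, he⟩ := orderOf_dvd_natCard g
    rw [he, pow_mul, hc i, one_pow]
  have hroot : ∀ i, ∀ k l : ℕ, k ≡ l [MOD Nat.card G] → c i ^ k = c i ^ l := fun i k l h =>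
    pow_congr_modEq (hcN i) h
  have hsplit : ∀ (i) (j : (ZMod (p ^ (Nat.card G).factorization p))ˣ),
      c i ^ ex j = c i ^ t * (c i ^ s) ^ (j : ZMod (p ^ (Nat.card G).factorization p)).val := by
    intro i j
    rw [← pow_mul, ← pow_add]
    refine hroot i _ _ (modEq_of (p := p) _ _ ?_ ?_)
    · refine (ex_modEq j).trans ?_
      simpa using (ht1.add (hs1.mul_right (j : ZMod (p ^ (Nat.card G).factorization p)).val)).symm
    · rw [ex_cast, Nat.cast_add, Nat.cast_mul, (ZMod.natCast_eq_natCast_iff _ _ _).2 ht2,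
        (ZMod.natCast_eq_natCast_iff _ _ _).2 hs2, ZMod.natCast_zmod_val]
      simp
  have hw : ∀ i, (c i ^ s) ^ (p ^ (Nat.card G).factorization p) = 1 := fun i => by
    rw [← pow_mul, ← pow_zero (c i)]
    refine hroot i _ _ ?_
    have h1 : cop G p * (p ^ (Nat.card G).factorization p) ∣ s * (p ^ (Nat.card G).factorization p) := Nat.mul_dvd_mul_right (Nat.modEq_zero_iff_dvd.1 hs1) _
    rw [mul_comm (cop G p), cop_mul] at h1
    exact Nat.modEq_zero_iff_dvd.2 h1
  choose z hz using fun i => sum_units_pow p _ hp.out hpos (c i ^ s) (hw i)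
  refine ⟨∑ i, c i ^ t * (z i : ℂ), IsIntegral.sum _ fun i _ =>
    ((isIntegral_of_pow_eq_one Nat.card_pos (hcN i)).pow _).mul (isIntegral_algebraMap (x := z i)),
    ?_⟩
  simp only [tw_apply, ← hρ, hk, hsplit]
  rw [Finset.sum_comm, Finset.mul_sum]
  refine Finset.sum_congr rfl fun i _ => ?_
  rw [← Finset.mul_sum, hz i]
  ring

section main

variable [Fintype G]

/-- The orbit as a finite set. -/
noncomputable def oset (p : ℕ) [Fact p.Prime] (χ : IrrCharacter G) : Finset (IrrCharacter G) :=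
  open Classical in Finset.univ.filter (· ∈ orbit p χ)

theorem sum_orbit_ring {M : Ideal AlgInt} (hM : IsPModular p M)
    (hpos : 0 < (Nat.card G).factorization p) (χ : IrrCharacter G) (g : G) :
    MemLocalRing M ((((oset p χ).card : ℂ))⁻¹ * ∑ ψ ∈ oset p χ, (ψ : G → ℂ) g) := by
  classical
  haveI := neZero_pp (G := G) (p := p)
  set O := oset p χ
  set n := (Finset.univ.filter fun j : (ZMod (p ^ (Nat.card G).factorization p))ˣ => tw χ j = χ).card with hn
  have hfib : ∀ ψ ∈ O, (Finset.univ.filter fun j : (ZMod (p ^ (Nat.card G).factorization p))ˣ => tw χ j = ψ).card = n := by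
    intro ψ hψ
    obtain ⟨i, rfl⟩ := (mem_orbit_iff χ ψ).1 (Finset.mem_filter.1 hψ).2
    refine (Finset.card_bij (fun j _ => j * i) (fun j hj => ?_) (fun a _ b _ h => mul_right_cancel h)
      fun j hj => ⟨j * i⁻¹, ?_, inv_mul_cancel_right j i⟩).symm
    · simp only [Finset.mem_filter, Finset.mem_univ, true_and] at hj ⊢
      rw [← tw_mul, hj]
    · simp only [Finset.mem_filter, Finset.mem_univ, true_and] at hj ⊢
      rw [← tw_mul, hj, tw_mul, mul_inv_cancel, tw_one]
  have hmaps : ∀ j ∈ (Finset.univ : Finset (ZMod (p ^ (Nat.card G).factorization p))ˣ), tw χ j ∈ O := fun j _ =>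
    Finset.mem_filter.2 ⟨Finset.mem_univ _, (mem_orbit_iff χ _).2 ⟨j, rfl⟩⟩
  have hcard : Fintype.card (ZMod (p ^ (Nat.card G).factorization p))ˣ = O.card * n := by
    rw [← Finset.card_univ, Finset.card_eq_sum_card_fiberwise hmaps, Finset.sum_congr rfl hfib,
      Finset.sum_const, smul_eq_mul]
  have hΦ : ∑ j : (ZMod (p ^ (Nat.card G).factorization p))ˣ, (tw χ j : G → ℂ) g = (n : ℂ) * ∑ ψ ∈ O, (ψ : G → ℂ) g := by
    rw [← Finset.sum_fiberwise_of_maps_to hmaps, Finset.mul_sum]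
    refine Finset.sum_congr rfl fun ψ hψ => ?_
    rw [Finset.sum_congr rfl (g := fun _ => (ψ : G → ℂ) g) fun j hj => by
      rw [(Finset.mem_filter.1 hj).2], Finset.sum_const, nsmul_eq_mul, hfib ψ hψ]
  have htot : (O.card * n : ℕ) = p ^ ((Nat.card G).factorization p - 1) * (p - 1) := by
    rw [← hcard, ZMod.card_units_eq_totient, Nat.totient_prime_pow hp.out hpos]
  have hO : (O.card : ℂ) ≠ 0 := Nat.cast_ne_zero.2 (Finset.card_ne_zero.2
    ⟨χ, Finset.mem_filter.2 ⟨Finset.mem_univ _, (mem_orbit_iff χ χ).2 ⟨1, tw_one χ⟩⟩⟩)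
  have hn0 : (n : ℂ) ≠ 0 := Nat.cast_ne_zero.2 (Finset.card_ne_zero.2
    ⟨1, by simp [tw_one]⟩)
  obtain ⟨z, hz, he⟩ := tw_value hpos χ g
  have hp1 : ((p - 1 : ℕ) : ℂ) ≠ 0 :=
    Nat.cast_ne_zero.2 (Nat.sub_ne_zero_of_lt hp.out.one_lt)
  have key : (O.card : ℂ)⁻¹ * ∑ ψ ∈ O, (ψ : G → ℂ) g = ((p - 1 : ℕ) : ℂ)⁻¹ * z := by
    have h1 : (O.card : ℂ) * n = (p : ℂ) ^ ((Nat.card G).factorization p - 1) * ((p - 1 : ℕ) : ℂ) := by
      exact_mod_cast htot
    rw [hΦ] at he
    field_simp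
    have h2 : (n : ℂ) * ((∑ ψ ∈ O, (ψ : G → ℂ) g) * ((p - 1 : ℕ) : ℂ)) = n * ((O.card : ℂ) * z) := by
      linear_combination ((p - 1 : ℕ) : ℂ) * he - z * h1
    have h3 := mul_left_cancel₀ hn0 h2
    linear_combination h3
  rw [key]
  refine ring_mul hM (ring_inv_natCast hM fun h => ?_) (ring_of_integral hM hz)
  have := Nat.le_of_dvd (Nat.sub_pos_of_lt hp.out.one_lt) h
  have := hp.out.one_lt
  omega

theorem charDeg_tw (χ : IrrCharacter G) (j : (ZMod (p ^ (Nat.card G).factorization p))ˣ) :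
    charDegree (tw χ j : G → ℂ) = charDegree (χ : G → ℂ) := by
  rw [charDegree, charDegree, tw_apply, one_pow]

theorem main (χ : IrrCharacter G) :
    ((oset p χ).card * charDegree (χ : G → ℂ)).factorization p ≤ (Nat.card G).factorization p ∧
    (p ^ (Nat.card G).factorization p ∣ (oset p χ).card * charDegree (χ : G → ℂ) →
      p ^ (Nat.card G).factorization p ∣ charDegree (χ : G → ℂ)) := by
  classical
  haveI := neZero_pp (G := G) (p := p)
  obtain ⟨M, hM⟩ := exists_isPModular p hp.out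
  set a := (Nat.card G).factorization p with ha
  set O := oset p χ with hOdef
  set f := charDegree (χ : G → ℂ) with hf
  have hself : χ ∈ O := Finset.mem_filter.2 ⟨Finset.mem_univ _, (mem_orbit_iff χ χ).2 ⟨1, tw_one χ⟩⟩
  rcases Nat.eq_zero_or_pos a with h0 | hpos
  · refine ⟨?_, fun _ => by rw [h0, pow_zero]; exact one_dvd _⟩
    have hO1 : O.card = 1 := by
      refine Finset.card_eq_one.2 ⟨χ, Finset.eq_singleton_iff_unique_mem.2 ⟨hself, fun ψ hψ => ?_⟩⟩
      obtain ⟨j, rfl⟩ := (mem_orbit_iff χ ψ).1 (Finset.mem_filter.1 hψ).2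
      have : Subsingleton (ZMod (p ^ (Nat.card G).factorization p))ˣ := by
        rw [← ha, h0, pow_zero]
        infer_instance
      rw [Subsingleton.elim j 1, tw_one]
    have hdvd : ¬ p ∣ f := fun h => by
      have h2 := le_defect_add (χ := χ) hM (isPBlock_blockOf χ) (mem_blockOf_self hM χ)
      have h3 := charDeg_dvd χ
      have h4 := h.trans h3
      have h5 := hp.out.dvd_iff_one_le_factorization Nat.card_pos.ne' |>.1 h4
      omega
    rw [hO1, one_mul, h0, Nat.factorization_eq_zero_of_not_dvd hdvd]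
  have hOc : O.card ≠ 0 := Finset.card_ne_zero.2 ⟨χ, hself⟩
  have hf0 : f ≠ 0 := (charDeg_pos χ).ne'
  set Ψ : G → ℂ := fun g => ((O.card : ℂ))⁻¹ * ∑ ψ ∈ O, (ψ : G → ℂ) g with hΨ
  have hring : ∀ g, MemLocalRing M (Ψ g) := fun g => sum_orbit_ring hM hpos χ g
  have hq : MemLocalRing M ((Nat.card G : ℂ) / ((O.card * f : ℕ) : ℂ)) := by
    cases nonempty_fintype (ConjClasses G)
    have hcls : IsClassFunction G fun g => Ψ g⁻¹ := fun g h => by
      simp only [hΨ]
      congr 1
      refine Finset.sum_congr rfl fun ψ _ => ?_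
      rw [show (h * g * h⁻¹)⁻¹ = h * g⁻¹ * h⁻¹ by group, irr_classFun ψ g⁻¹ h]
    have e : omegaFun χ (fun g => Ψ g⁻¹) = (Nat.card G : ℂ) / ((O.card * f : ℕ) : ℂ) := by
      have hG : (Nat.card G : ℂ) ≠ 0 := Nat.cast_ne_zero.2 Nat.card_pos.ne'
      have hO' : (O.card : ℂ) ≠ 0 := Nat.cast_ne_zero.2 hOc
      have hf' : (f : ℂ) ≠ 0 := Nat.cast_ne_zero.2 hf0
      have e1 : ∑ g : G, (∑ ψ ∈ O, (ψ : G → ℂ) g⁻¹) * (χ : G → ℂ) g = (Nat.card G : ℂ) := by
        simp only [Finset.sum_mul]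
        rw [Finset.sum_comm, Finset.sum_eq_single χ]
        · have h := classInner_self_irr χ.2
          rw [classInner, inv_mul_eq_one₀ hG] at h
          rw [h]
          exact Finset.sum_congr rfl fun g _ => by rw [irr_apply_inv, mul_comm]
        · intro ψ _ hne
          have h := classInner_irr_ne χ.2 ψ.2 (fun h => hne (Subtype.ext h.symm))
          rw [classInner, mul_eq_zero, or_iff_right (inv_ne_zero hG)] at h
          rw [← h]
          exact Finset.sum_congr rfl fun g _ => by rw [irr_apply_inv, mul_comm]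
        · exact fun h => absurd hself h
      simp only [omegaFun, hΨ]
      simp only [mul_assoc, ← Finset.mul_sum]
      rw [e1, charDeg_spec' χ, ← hf, Nat.cast_mul]
      field_simp
    rw [← e, omegaFun_eq_sum_classes _ hcls]
    exact ring_sum hM fun C _ => ring_mul hM (hring _) (centralChar_ring hM χ _)
  have hle : (O.card * f).factorization p ≤ a := by
    by_contra hlt
    have h1 := ideal_natDiv hM Nat.card_pos.ne' (Nat.mul_ne_zero hOc hf0) (not_le.1 hlt)
    have h2 := ideal_mul_right hM h1 hq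
    rw [div_mul_div_cancel₀ (Nat.cast_ne_zero.2 Nat.card_pos.ne'),
      div_self (Nat.cast_ne_zero.2 (Nat.mul_ne_zero hOc hf0))] at h2
    exact ideal_one hM h2
  refine ⟨hle, fun hdvd => ?_⟩
  have hge : a ≤ (O.card * f).factorization p :=
    (hp.out.pow_dvd_iff_le_factorization (Nat.mul_ne_zero hOc hf0)).1 hdvd
  have hdeg : ∀ ψ ∈ O, charDegree (ψ : G → ℂ) = f := fun ψ hψ => by
    obtain ⟨j, rfl⟩ := (mem_orbit_iff χ ψ).1 (Finset.mem_filter.1 hψ).2
    exact charDeg_tw χ j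
  -- the orbit is a union of blocks
  have hI : CenInt M (blockInd (O : Set (IrrCharacter G))) := fun g => by
    rw [← blockCoeff_eq, blockCoeff, finsum_mem_coe_finset]
    have e : (Nat.card G : ℂ)⁻¹ * ∑ ψ ∈ O, (ψ : G → ℂ) 1 * conj ((ψ : G → ℂ) g) =
        ((O.card * f : ℕ) : ℂ) / (Nat.card G : ℂ) * Ψ g⁻¹ := by
      have hO' : (O.card : ℂ) ≠ 0 := Nat.cast_ne_zero.2 hOc
      simp only [hΨ, Finset.mul_sum]
      refine Finset.sum_congr rfl fun ψ hψ => ?_
      rw [charDeg_spec' ψ, hdeg ψ hψ, irr_apply_inv, Nat.cast_mul]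
      field_simp
    rw [e]
    exact ring_mul hM (ring_natDiv hM Nat.card_pos.ne' (Nat.mul_ne_zero hOc hf0) hge) (hring _)
  set B := blockOf M (χ : G → ℂ)
  have hB : IsPBlock M B := isPBlock_blockOf χ
  have hχB : χ ∈ B := mem_blockOf_self hM χ
  have hsub : ∀ ψ ∈ B, ψ ∈ O := fun ψ hψ => by
    by_contra hno
    have h := hI.congr_block hM (χ := χ) (ψ := ψ) hψ
    rw [blockInd_of_mem (Finset.mem_coe.2 hself),
      blockInd_of_notMem (fun h => hno (Finset.mem_coe.1 h)), sub_zero] at h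
    exact ideal_one hM h
  obtain ⟨ψ₀, hψ₀, hh0⟩ := exists_height_zero hM hB
  have hd := (blockHeight_zero_iff hM hB hψ₀).1 hh0
  rw [hdeg ψ₀ (hsub ψ₀ hψ₀)] at hd
  rw [hp.out.pow_dvd_iff_le_factorization hf0]
  by_contra hlt
  set d := blockDefect p B with hddef
  have hd0 : 0 < d := by omega
  have hdr : d ≤ O.card.factorization p := by
    rw [Nat.factorization_mul hOc hf0, Finsupp.add_apply] at hge
    omega
  have hpr : p ^ d ≤ O.card := Nat.le_of_dvd (Nat.pos_of_ne_zero hOc)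
    ((hp.out.pow_dvd_iff_le_factorization hOc).2 hdr)
  -- the twist depends only on the unit modulo `p ^ d`
  have hda : p ^ d ∣ (p ^ (Nat.card G).factorization p) := pow_dvd_pow p (blockDefect_le B)
  haveI : NeZero (p ^ d) := ⟨pow_ne_zero _ hp.out.ne_zero⟩
  have hdep : ∀ i j : (ZMod (p ^ (Nat.card G).factorization p))ˣ, ZMod.unitsMap hda i = ZMod.unitsMap hda j →
      tw χ i = tw χ j := by
    intro i j hij
    refine Subtype.ext (funext fun g => ?_)
    rw [tw_apply, tw_apply]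
    by_cases hg : (χ : G → ℂ) g = 0
    · obtain ⟨σ, hσ⟩ := exists_galois (G := G) (ex i) (ex_coprime i)
      obtain ⟨τ, hτ⟩ := exists_galois (G := G) (ex j) (ex_coprime j)
      rw [← hσ _ (IsIrr.isCharacter χ.2), ← hτ _ (IsIrr.isCharacter χ.2), hg, map_zero, map_zero]
    obtain ⟨x, v, huv, hcomm, hx, hv, -, -⟩ := exists_pPart_zpowers (p := p) g
    have hxD : ∃ D : Subgroup G, IsDefectGroup p M B D ∧ x ∈ D := by
      by_contra hD
      push Not at hD
      exact hg (value_eq_zero_of_pPart_notMem hM χ ⟨v, huv, hcomm, hx, hv⟩ hD)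
    obtain ⟨D, hD, hxD⟩ := hxD
    have hxo : orderOf x ∣ p ^ d := by
      rw [← card_defectGroup hM hB hD, ← Subgroup.orderOf_mk x hxD]
      exact orderOf_dvd_natCard _
    have hvo : orderOf v ∣ cop G p := by
      refine Nat.Coprime.dvd_of_dvd_mul_left ?_ (show orderOf v ∣ (p ^ (Nat.card G).factorization p) * cop G p by
        rw [cop_mul]; exact orderOf_dvd_natCard v)
      exact Nat.Coprime.pow_right _ (hp.out.coprime_iff_not_dvd.2 hv).symm
    have hij' : ex i ≡ ex j [MOD p ^ d] := by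
      rw [← ZMod.natCast_eq_natCast_iff]
      have h := congrArg (fun y : (ZMod (p ^ d))ˣ => (y : ZMod (p ^ d))) hij
      simp only [ZMod.unitsMap_def, Units.coe_map, ← ex_cast] at h
      simpa using h
    apply congrArg (χ : G → ℂ)
    rw [← huv, hcomm.mul_pow, hcomm.mul_pow,
      pow_eq_pow_iff_modEq.2 (hij'.of_dvd hxo),
      pow_eq_pow_iff_modEq.2 ((((ex_modEq i).trans (ex_modEq j).symm)).of_dvd hvo)]
  have hle2 : O.card ≤ Fintype.card (ZMod (p ^ d))ˣ := by
    rw [← Finset.card_univ]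
    choose F hF using fun u : (ZMod (p ^ d))ˣ => ZMod.unitsMap_surjective hda u
    refine le_trans (Finset.card_le_card (t := Finset.univ.image fun u => tw χ (F u)) ?_)
      Finset.card_image_le
    intro ψ hψ
    obtain ⟨j, rfl⟩ := (mem_orbit_iff χ ψ).1 (Finset.mem_filter.1 hψ).2
    exact Finset.mem_image.2 ⟨ZMod.unitsMap hda j, Finset.mem_univ _, hdep _ _ (hF _)⟩
  rw [ZMod.card_units_eq_totient] at hle2
  have := Nat.totient_lt (p ^ d) (Nat.one_lt_pow hd0.ne' hp.out.one_lt)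
  omega

end main

end Cfsg.Agent.Char.GaloisOrbit
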