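import Cfsg.Agent.Lib.Char.FourInvolutionGen
import Cfsg.Agent.Lib.Grp.ComponentBalance
import Cfsg.Agent.Lib.Grp.BalanceReduction

/-!
Goldschmidt's signalizer functor of a core-separated pair of four-groups: an element of the functor
fixed by `b` centralizes every component of `C(b)/O(C(b))`, as each factor handles the components
centralized by its four-group.
-/

namespace Cfsg.Agent.Char.Gold

open scoped commutatorElement
open Cfsg Cfsg.Agent.Grp

set_option linter.unusedSectionVars false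
set_option linter.style.haveILetI false

universe u

variable {G : Type u} [Group G]

/-- The quotient of the centralizer of `b` by its core. -/
abbrev CQ (b : G) : Type u :=
  ↥(Subgroup.centralizer ({b} : Set G)) ⧸
    Cfsg.pPrimeCore 2 ↥(Subgroup.centralizer ({b} : Set G))

/-- The core of the centralizer of a subgroup, inside `G`. -/
def coreC (P : Subgroup G) : Subgroup G :=
  (Cfsg.oddCore ↥(Subgroup.centralizer (P : Set G))).map
    (Subgroup.centralizer (P : Set G)).subtype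

/-- One factor of the functor. -/
def phi (P : Subgroup G) (a : G) : Subgroup G :=
  ⁅Cfsg.centralizerPPrimeCore 2 a, P⁆ ⊔ (Cfsg.centralizerPPrimeCore 2 a ⊓ coreC P)

/-- `g` centralizes the image of `L`. -/
def Cz (b : G) (L : Subgroup (CQ b)) : Subgroup G :=
  ((Subgroup.centralizer (L : Set (CQ b))).comap
    (QuotientGroup.mk' (Cfsg.pPrimeCore 2 ↥(Subgroup.centralizer ({b} : Set G))))).map
      (Subgroup.centralizer ({b} : Set G)).subtype

/-- The hypotheses on a pair of four-groups. -/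
structure Pair (A P P' : Subgroup G) : Prop where
  le : P ≤ A
  le' : P' ≤ A
  eq : A = P ⊔ P'
  comm : ∀ a ∈ A, ∀ c ∈ A, a * c = c * a
  sq : ∀ a ∈ A, a * a = 1
  card : Nat.card P = 4
  sep : ∀ b ∈ A, b ≠ 1 → ∀ L : Subgroup (CQ b), Cfsg.IsComponent L → P ≤ Cz b L ∨ P' ≤ Cz b L

variable {A P P' : Subgroup G}

theorem comm_le_normalizer {H K : Subgroup G} (h : ∀ a ∈ H, ∀ c ∈ K, a * c = c * a) :
    H ≤ Subgroup.normalizer (K : Set G) := fun a ha =>
  Subgroup.centralizer_le_normalizer _ (Subgroup.mem_centralizer_iff.2 fun c hc => (h a ha c hc).symm)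

theorem le_coreC [Finite G] {N : Subgroup G} {P : Subgroup G}
    (hle : N ≤ Subgroup.centralizer (P : Set G))
    (hn : Subgroup.centralizer (P : Set G) ≤ Subgroup.normalizer (N : Set G))
    (hodd : (Nat.card N).Coprime 2) : N ≤ coreC P := fun y hy => by
  refine ⟨⟨y, hle hy⟩, le_pPrimeCore
    ((Subgroup.normal_subgroupOf_iff_le_normalizer hle).2 hn) ?_ (Subgroup.mem_subgroupOf.2 hy), rfl⟩
  rwa [Nat.card_congr (Subgroup.subgroupOfEquivOfLe hle).toEquiv]

theorem le_normalizer_coreC (P : Subgroup G) :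
    Subgroup.centralizer (P : Set G) ≤ Subgroup.normalizer (coreC P : Set G) := by
  set U := Subgroup.centralizer (P : Set G)
  haveI : (Cfsg.oddCore ↥U).Normal := pPrimeCore_isNormal
  have key : ∀ g ∈ U, ∀ y ∈ coreC P, g * y * g⁻¹ ∈ coreC P := by
    rintro g hg y ⟨w, hw, rfl⟩
    exact ⟨_, (inferInstance : (Cfsg.oddCore ↥U).Normal).conj_mem w hw ⟨g, hg⟩, rfl⟩
  intro g hg
  refine Subgroup.mem_normalizer_iff.2 fun y => ⟨key g hg y, fun h => ?_⟩
  have := key g⁻¹ (U.inv_mem hg) _ h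
  rwa [show g⁻¹ * (g * y * g⁻¹) * g⁻¹⁻¹ = y by group] at this

theorem core_coprime [Finite G] (a : G) : (Nat.card ↥(Cfsg.centralizerPPrimeCore 2 a)).Coprime 2 :=
  haveI : Fact (Nat.Prime 2) := ⟨Nat.prime_two⟩
  centralizerPPrimeCore_coprime a

theorem core_odd [Finite G] (a : G) : Odd (Nat.card ↥(Cfsg.centralizerPPrimeCore 2 a)) :=
  Nat.coprime_two_right.1 (core_coprime a)

theorem centralizer_le_normalizer_core (a : G) :
    Subgroup.centralizer ({a} : Set G) ≤
      Subgroup.normalizer (Cfsg.centralizerPPrimeCore 2 a : Set G) := by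
  intro g hg
  have hga := Subgroup.mem_centralizer_singleton_iff.1 hg
  refine Subgroup.mem_normalizer_iff.2 fun y => ⟨centralizerPPrimeCore_conj hga, fun h => ?_⟩
  have := centralizerPPrimeCore_conj (Commute.inv_left (show Commute g a from hga)).eq h
  rwa [show g⁻¹ * (g * y * g⁻¹) * g⁻¹⁻¹ = y by group] at this

theorem mem_Cz {b g : G} {L : Subgroup (CQ b)} (hg : g ∈ Subgroup.centralizer ({b} : Set G)) :
    g ∈ Cz b L ↔ ∀ l ∈ L, ((⟨g, hg⟩ : ↥(Subgroup.centralizer ({b} : Set G))) : CQ b) * l =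
      l * ((⟨g, hg⟩ : ↥(Subgroup.centralizer ({b} : Set G))) : CQ b) := by
  constructor
  · rintro ⟨⟨g', hg'⟩, hw, rfl⟩ l hl
    exact (Subgroup.mem_centralizer_iff.1 hw l hl).symm
  · intro h
    exact ⟨⟨g, hg⟩, Subgroup.mem_centralizer_iff.2 fun l hl => (h l hl).symm, rfl⟩

theorem Cz_le (b : G) (L : Subgroup (CQ b)) : Cz b L ≤ Subgroup.centralizer ({b} : Set G) :=
  Subgroup.map_subtype_le _

/-- Elements normalizing `L` normalize its centralizer. -/
theorem conj_mem_Cz {b g z : G} {L : Subgroup (CQ b)}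
    (hg : g ∈ Subgroup.centralizer ({b} : Set G))
    (hgL : ((⟨g, hg⟩ : ↥(Subgroup.centralizer ({b} : Set G))) : CQ b) ∈
      Subgroup.normalizer (L : Set (CQ b))) (hz : z ∈ Cz b L) : g * z * g⁻¹ ∈ Cz b L := by
  obtain ⟨⟨z', hz'⟩, hw, rfl⟩ := hz
  refine (mem_Cz (Subgroup.mul_mem _ (Subgroup.mul_mem _ hg hz') (Subgroup.inv_mem _ hg))).2
    fun l hl => ?_
  set u : CQ b := ((⟨g, hg⟩ : ↥(Subgroup.centralizer ({b} : Set G))) : CQ b) with hu
  set v : CQ b := ((⟨z', hz'⟩ : ↥(Subgroup.centralizer ({b} : Set G))) : CQ b) with hv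
  show u * v * u⁻¹ * l = l * (u * v * u⁻¹)
  have h1 := mem_conj_normalizer' hgL hl
  have h2 : (u⁻¹ * l * u) * v = v * (u⁻¹ * l * u) := Subgroup.mem_centralizer_iff.1 hw _ h1
  calc u * v * u⁻¹ * l = u * (v * (u⁻¹ * l * u)) * u⁻¹ := by group
    _ = u * ((u⁻¹ * l * u) * v) * u⁻¹ := by rw [h2]
    _ = _ := by group

/-- An element of `A` acts as core data on the quotient of `C(b)`. -/
theorem exists_coreData [Finite G] (hP : Pair A P P') {a b : G} (ha : a ∈ A) (hb : b ∈ A) :
    ∃ d : CoreData 2 (CQ b), d.x = ((⟨a, Subgroup.mem_centralizer_singleton_iff.2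
        (hP.comm a ha b hb)⟩ : ↥(Subgroup.centralizer ({b} : Set G))) : CQ b) ∧
      ∀ (y : G) (hy : y ∈ Subgroup.centralizer ({b} : Set G)),
        y ∈ Cfsg.centralizerPPrimeCore 2 a →
          ((⟨y, hy⟩ : ↥(Subgroup.centralizer ({b} : Set G))) : CQ b) ∈ d.O := by
  haveI : Fact (Nat.Prime 2) := ⟨Nat.prime_two⟩
  set C := Subgroup.centralizer ({b} : Set G)
  haveI hCn : (Cfsg.pPrimeCore 2 ↥C).Normal := pPrimeCore_isNormal
  set π := QuotientGroup.mk' (Cfsg.pPrimeCore 2 ↥C)
  set a' : ↥C := ⟨a, Subgroup.mem_centralizer_singleton_iff.2 (hP.comm a ha b hb)⟩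
  have ha2 : a' ^ 2 = 1 := by rw [pow_two]; exact Subtype.ext (hP.sq a ha)
  have hp : IsPGroup 2 ↥(Subgroup.zpowers a') := by
    intro g
    obtain ⟨i, hi⟩ := Subgroup.mem_zpowers_iff.1 g.2
    refine ⟨1, Subtype.ext ?_⟩
    rw [pow_one, SubmonoidClass.coe_pow, ← hi, ← zpow_natCast, ← zpow_mul, mul_comm, zpow_mul,
      zpow_natCast, ha2, one_zpow]
    rfl
  have hCa : (Subgroup.centralizer ({a'} : Set ↥C)).map π =
      Subgroup.centralizer ({π a'} : Set (CQ b)) := by
    rw [centralizer_singleton_eq_zpowers, centralizer_singleton_eq_zpowers (π a'),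
      ← MonoidHom.map_zpowers]
    exact map_centralizer_pGroup hp
  refine ⟨
    { x := π a'
      O := ((Cfsg.centralizerPPrimeCore 2 a).subgroupOf C).map π
      hx := by rw [← map_pow, ha2, map_one]
      hO := pPrimeCore_quotient_bot
      hOC := ?_
      hOn := ?_
      hOp := ?_ }, rfl, fun y hy h => ⟨⟨y, hy⟩, h, rfl⟩⟩
  · rintro _ ⟨w, hw, rfl⟩
    rw [← map_mul, ← map_mul]
    exact congrArg π (Subtype.ext (centralizerPPrimeCore_commute (Subgroup.mem_subgroupOf.1 hw)))
  · rintro c hc _ ⟨w, hw, rfl⟩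
    have hc' : c ∈ Subgroup.centralizer ({π a'} : Set (CQ b)) :=
      Subgroup.mem_centralizer_singleton_iff.2 hc
    rw [← hCa] at hc'
    obtain ⟨c', hc'', rfl⟩ := hc'
    refine ⟨c' * w * c'⁻¹, Subgroup.mem_subgroupOf.2 ?_, by simp⟩
    exact centralizerPPrimeCore_conj
      (congrArg Subtype.val (Subgroup.mem_centralizer_singleton_iff.1 hc''))
      (Subgroup.mem_subgroupOf.1 hw)
  · refine (core_coprime a).coprime_dvd_left ((Subgroup.card_map_dvd (f := π) _).trans ?_)
    rw [← Subgroup.card_map_of_injective C.subtype_injective]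
    refine Subgroup.card_dvd_of_le ?_
    rintro _ ⟨w, hw, rfl⟩
    exact hw

/-- Elements of the core of `C(a)` fixed by `b` normalize the components. -/
theorem mem_normalizer_component [Finite G] (hP : Pair A P P') {a b y : G} (ha : a ∈ A)
    (hb : b ∈ A) {L : Subgroup (CQ b)} (hL : Cfsg.IsComponent L)
    (hyO : y ∈ Cfsg.centralizerPPrimeCore 2 a) (hyb : y ∈ Subgroup.centralizer ({b} : Set G)) :
    ((⟨y, hyb⟩ : ↥(Subgroup.centralizer ({b} : Set G))) : CQ b) ∈
      Subgroup.normalizer (L : Set (CQ b)) := by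
  haveI : Fact (Nat.Prime 2) := ⟨Nat.prime_two⟩
  obtain ⟨d, -, hd⟩ := exists_coreData hP ha hb
  exact d.le_normalizer_component hL (hd y hyb hyO)

/-- If `a` centralizes a component then so does the core of its centralizer. -/
theorem mem_Cz_of_fixed [Finite G] (hP : Pair A P P') {a b y : G} (ha : a ∈ A) (hb : b ∈ A)
    {L : Subgroup (CQ b)} (hL : Cfsg.IsComponent L) (haL : a ∈ Cz b L)
    (hyO : y ∈ Cfsg.centralizerPPrimeCore 2 a) (hyb : y ∈ Subgroup.centralizer ({b} : Set G)) :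
    y ∈ Cz b L := by
  haveI : Fact (Nat.Prime 2) := ⟨Nat.prime_two⟩
  obtain ⟨d, hdx, hd⟩ := exists_coreData hP ha hb
  refine (mem_Cz hyb).2 fun l hl => d.centralizes_of_fixed hL (fun l' hl' => ?_) _ (hd y hyb hyO) l hl
  rw [hdx]
  exact (mem_Cz _).1 haL l' hl'

theorem commutator_mem_Cz [Finite G] (hP : Pair A P P') {a b y t : G} (ha : a ∈ A) (hb : b ∈ A)
    {L : Subgroup (CQ b)} (hL : Cfsg.IsComponent L) (htL : t ∈ Cz b L)
    (hyO : y ∈ Cfsg.centralizerPPrimeCore 2 a) (hyb : y ∈ Subgroup.centralizer ({b} : Set G)) :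
    ⁅y, t⁆ ∈ Cz b L := by
  rw [commutatorElement_def]
  exact mul_mem (conj_mem_Cz hyb (mem_normalizer_component hP ha hb hL hyO hyb) htL) (inv_mem htL)

theorem conj_core [Finite G] (hP : Pair A P P') {a t y : G} (ha : a ∈ A) (ht : t ∈ A)
    (hy : y ∈ Cfsg.centralizerPPrimeCore 2 a) :
    ⁅y, t⁆ ∈ Cfsg.centralizerPPrimeCore 2 a := by
  rw [commutatorElement_def, show y * t * y⁻¹ * t⁻¹ = y * (t * y⁻¹ * t⁻¹) by group]
  exact mul_mem hy (centralizerPPrimeCore_conj (hP.comm t ht a ha) (inv_mem hy))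

/-- An element centralizing the Fitting subgroup and the components lies in the core. -/
theorem mem_core [Finite G] (hP : Pair A P P') {a b w : G} (ha : a ∈ A) (hb : b ∈ A)
    (hwO : w ∈ Cfsg.centralizerPPrimeCore 2 a) (hwb : w ∈ Subgroup.centralizer ({b} : Set G))
    (hcomp : ∀ L : Subgroup (CQ b), Cfsg.IsComponent L → w ∈ Cz b L) :
    w ∈ Cfsg.centralizerPPrimeCore 2 b := by
  haveI : Fact (Nat.Prime 2) := ⟨Nat.prime_two⟩
  haveI : (Cfsg.pPrimeCore 2 ↥(Subgroup.centralizer ({b} : Set G))).Normal := pPrimeCore_isNormal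
  obtain ⟨d, -, hd⟩ := exists_coreData hP ha hb
  set z : CQ b := ((⟨w, hwb⟩ : ↥(Subgroup.centralizer ({b} : Set G))) : CQ b) with hz
  have hzO : z ∈ d.O := hd w hwb hwO
  have hc : z ∈ Subgroup.centralizer (Cfsg.generalizedFittingSubgroup (CQ b) : Set (CQ b)) := by
    have hle : Cfsg.generalizedFittingSubgroup (CQ b) ≤ Subgroup.centralizer {z} := by
      refine sup_le (sSup_le fun L hL => ?_) ?_
      · intro l hl
        rw [Subgroup.mem_centralizer_singleton_iff]
        exact ((mem_Cz hwb).1 (hcomp L hL) l hl).symm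
      · intro f hf
        rw [Subgroup.mem_centralizer_singleton_iff]
        exact (d.centralizes_fitting z hzO f hf).symm
    exact Subgroup.mem_centralizer_iff.2 fun q hq =>
      Subgroup.mem_centralizer_singleton_iff.1 (hle hq)
  have hzF := centralizer_gfitting_le_fitting hc
  rw [fitting_eq_pCore (p := 2) d.hO] at hzF
  obtain ⟨k, hk⟩ := pCore_isPGroup (p := 2) ⟨z, hzF⟩
  have hz1 : z = 1 := pow_eq_one_coprime (p := 2) (k := k)
    (by simpa using congrArg Subtype.val hk) (d.coprime_of_mem hzO)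
  exact ⟨⟨w, hwb⟩, (QuotientGroup.eq_one_iff _).1 hz1, rfl⟩

theorem four_cases {H : Subgroup G} (hcard : Nat.card H = 4) (hcomm : ∀ a ∈ H, ∀ c ∈ H, a * c = c * a)
    (hsq : ∀ a ∈ H, a * a = 1) {b s t : G} (hb : b ∈ H) (hs : s ∈ H) (ht : t ∈ H) (hb1 : b ≠ 1)
    (hs1 : s ≠ 1) (hsb : s ≠ b) : t = 1 ∨ t = b ∨ t = s ∨ t = s * b := by
  classical
  by_contra hne
  push Not at hne
  obtain ⟨h1, h2, h3, h4⟩ := hne
  haveI : Finite H := Nat.finite_of_card_ne_zero (by omega)
  haveI := Fintype.ofFinite H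
  have hsb1 : s * b ≠ 1 := fun h => hsb (mul_right_cancel (h.trans (hsq b hb).symm))
  have hsbs : s * b ≠ s := fun h => hb1 (mul_eq_left.1 h)
  have hsbb : s * b ≠ b := fun h => hs1 (mul_eq_right.1 h)
  let S : Finset H := {1, ⟨b, hb⟩, ⟨s, hs⟩, ⟨s * b, H.mul_mem hs hb⟩, ⟨t, ht⟩}
  have hS : S.card = 5 := by
    simp [S, Subtype.ext_iff, Ne.symm hb1, Ne.symm hs1, Ne.symm hsb, Ne.symm hsb1, Ne.symm hsbs,
      Ne.symm hsbb, Ne.symm h1, Ne.symm h2, Ne.symm h3, Ne.symm h4]
  have := Finset.card_le_univ S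
  rw [hS, ← Nat.card_eq_fintype_card, hcard] at this
  omega

/-- The commutators with `P` of the core of `C(a)` fixed by an element of `P` lie in its core. -/
theorem commutator_le_core [Finite G] (hP : Pair A P P') {a b : G} (ha : a ∈ A) (hb : b ∈ P)
    (hb1 : b ≠ 1) :
    ⁅Cfsg.centralizerPPrimeCore 2 a ⊓ Subgroup.centralizer ({b} : Set G), P⁆ ≤
      Cfsg.centralizerPPrimeCore 2 b := by
  haveI : Fact (Nat.Prime 2) := ⟨Nat.prime_two⟩
  have hbA := hP.le hb
  rw [Subgroup.commutator_le]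
  rintro y ⟨hyO, hyb⟩ t ht
  have htA := hP.le ht
  have htb : t ∈ Subgroup.centralizer ({b} : Set G) :=
    Subgroup.mem_centralizer_singleton_iff.2 (hP.comm t htA b hbA)
  refine mem_core hP ha hbA (conj_core hP ha htA hyO) (by
    rw [commutatorElement_def]
    exact mul_mem (mul_mem (mul_mem hyb htb) (inv_mem hyb)) (inv_mem htb)) fun L hL => ?_
  rcases hP.sep b hbA hb1 L hL with h | h
  · exact commutator_mem_Cz hP ha hbA hL (h ht) hyO hyb
  have hbL : b ∈ Cz b L := by
    refine (mem_Cz (Subgroup.mem_centralizer_singleton_iff.2 rfl)).2 fun l _ => ?_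
    obtain ⟨⟨c, hc⟩, rfl⟩ := QuotientGroup.mk_surjective l
    rw [← QuotientGroup.mk_mul, ← QuotientGroup.mk_mul]
    exact congrArg _ (Subtype.ext (Subgroup.mem_centralizer_singleton_iff.1 hc).symm)
  by_cases haL : a ∈ Cz b L
  · rw [commutatorElement_def, show y * t * y⁻¹ * t⁻¹ = y * (t * y⁻¹ * t⁻¹) by group]
    refine mul_mem (mem_Cz_of_fixed hP ha hbA hL haL hyO hyb)
      (mem_Cz_of_fixed hP ha hbA hL haL (centralizerPPrimeCore_conj (hP.comm t htA a ha) (inv_mem hyO))
        (mul_mem (mul_mem htb (inv_mem hyb)) (inv_mem htb)))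
  obtain ⟨s, hs, s', hs', hss⟩ : ∃ s ∈ P, ∃ s' ∈ P', a = s * s' := by
    have : a ∈ ((P ⊔ P' : Subgroup G) : Set G) := by rw [← hP.eq]; exact ha
    rw [Subgroup.coe_mul_of_left_le_normalizer_right P P'
      (comm_le_normalizer fun x hx z hz => hP.comm x (hP.le hx) z (hP.le' hz))] at this
    obtain ⟨s, hs, s', hs', h⟩ := this
    exact ⟨s, hs, s', hs', h.symm⟩
  have hs1 : s ≠ 1 := fun e => haL (by rw [hss, e, one_mul]; exact h hs')
  have hsb : s ≠ b := fun e => haL (by rw [hss, e]; exact mul_mem hbL (h hs'))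
  -- `t` or `t * a` centralizes `L`
  have key : t ∈ Cz b L ∨ t * a ∈ Cz b L := by
    rcases four_cases hP.card (fun x hx z hz => hP.comm x (hP.le hx) z (hP.le hz))
      (fun x hx => hP.sq x (hP.le hx)) hb hs ht hb1 hs1 hsb with rfl | rfl | rfl | rfl
    · exact Or.inl (one_mem _)
    · exact Or.inl hbL
    · right
      rw [hss, ← mul_assoc, hP.sq _ (hP.le hs), one_mul]
      exact h hs'
    · right
      rw [hss, hP.comm s (hP.le hs) b hbA, mul_assoc, ← mul_assoc s s, hP.sq _ (hP.le hs), one_mul]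
      exact mul_mem hbL (h hs')
  rcases key with hk | hk
  · exact commutator_mem_Cz hP ha hbA hL hk hyO hyb
  · have hya := centralizerPPrimeCore_commute hyO
    have e : ⁅y, t⁆ = ⁅y, t * a⁆ := by
      rw [commutatorElement_def, commutatorElement_def, mul_inv_rev,
        show y * (t * a) * y⁻¹ * (a⁻¹ * t⁻¹) = y * t * (a * y⁻¹ * a⁻¹) * t⁻¹ by group,
        ((show Commute y a from hya).symm.inv_right).eq, mul_inv_cancel_right]
    rw [e]
    exact commutator_mem_Cz hP ha hbA hL hk hyO hyb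

theorem le_normalizer_commutator_core [Finite G] (hP : Pair A P P') {a : G} (ha : a ∈ A) :
    A ≤ Subgroup.normalizer ((⁅Cfsg.centralizerPPrimeCore 2 a, P⁆ : Subgroup G) : Set G) := by
  intro c hc
  have h1 : c ∈ Subgroup.normalizer (Cfsg.centralizerPPrimeCore 2 a : Set G) :=
    centralizer_le_normalizer_core a (Subgroup.mem_centralizer_singleton_iff.2 (hP.comm c hc a ha))
  have h2 : c ∈ Subgroup.normalizer (P : Set G) :=
    comm_le_normalizer (H := A) (fun x hx z hz => hP.comm x hx z (hP.le hz)) hc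
  rw [mem_normalizer_iff_smul, ← map_conj_eq_smul, Subgroup.map_commutator, map_conj_eq_smul,
    map_conj_eq_smul, mem_normalizer_iff_smul.1 h1, mem_normalizer_iff_smul.1 h2]

theorem le_normalizer_phi [Finite G] (hP : Pair A P P') {a : G} (ha : a ∈ A) :
    A ≤ Subgroup.normalizer (phi P a : Set G) := by
  intro c hc
  have hU : c ∈ Subgroup.centralizer (P : Set G) :=
    Subgroup.mem_centralizer_iff.2 fun z hz => (hP.comm c hc z (hP.le hz)).symm
  rw [phi, mem_normalizer_iff_smul, Subgroup.smul_sup,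
    normalizer_le_smul (le_normalizer_commutator_core hP ha) hc, Subgroup.smul_inf,
    normalizer_le_smul (centralizer_le_normalizer_core a)
      (Subgroup.mem_centralizer_singleton_iff.2 (hP.comm c hc a ha)),
    normalizer_le_smul (le_normalizer_coreC P) hU]

theorem A_le_normalizer_core [Finite G] (hP : Pair A P P') {a : G} (ha : a ∈ A) :
    A ≤ Subgroup.normalizer (Cfsg.centralizerPPrimeCore 2 a : Set G) := fun c hc =>
  centralizer_le_normalizer_core a (Subgroup.mem_centralizer_singleton_iff.2 (hP.comm c hc a ha))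

theorem phi_le [Finite G] (hP : Pair A P P') {a : G} (ha : a ∈ A) :
    phi P a ≤ Cfsg.centralizerPPrimeCore 2 a :=
  sup_le (commutator_le_left_of_le_normalizer (hP.le.trans (A_le_normalizer_core hP ha))) inf_le_left

theorem isPGroup_four (hP : Pair A P P') : IsPGroup 2 P :=
  IsPGroup.of_card (n := 2) (by rw [hP.card]; norm_num)

theorem coprime_four [Finite G] (hP : Pair A P P') {H : Subgroup G} {a : G}
    (hH : H ≤ Cfsg.centralizerPPrimeCore 2 a) : (Nat.card P).Coprime (Nat.card H) := by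
  rw [hP.card, show 4 = 2 ^ 2 from rfl]
  exact Nat.Coprime.pow_left _
    ((core_coprime a).coprime_dvd_left (Subgroup.card_dvd_of_le hH)).symm

/-- The fixed points of `P` in a factor lie in the core of the centralizer of `P`. -/
theorem phi_fixed_le [Finite G] (hP : Pair A P P') {a : G} (ha : a ∈ A) :
    phi P a ⊓ Subgroup.centralizer (P : Set G) ≤ coreC P := by
  set D := Cfsg.centralizerPPrimeCore 2 a
  set Y := ⁅D, P⁆
  have hPD : P ≤ Subgroup.normalizer (D : Set G) := hP.le.trans (A_le_normalizer_core hP ha)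
  have hYD : Y ≤ D := commutator_le_left_of_le_normalizer hPD
  have hPc : IsMulCommutative P := ⟨⟨fun x z => Subtype.ext (hP.comm x (hP.le x.2) z (hP.le z.2))⟩⟩
  have hsolv : Group.IsSolvable P := Group.isSolvable_of_comm fun x z =>
    Subtype.ext (hP.comm x (hP.le x.2) z (hP.le z.2))
  have hY : Y ⊓ Subgroup.centralizer (P : Set G) ≤ coreC P := by
    refine (FourInv.fixed_le_cocRhs (isPGroup_four hP) hPc le_rfl (Nat.card Y) Y rfl
      ((core_odd a).of_dvd_nat (Subgroup.card_dvd_of_le hYD)) (right_le_normalizer_commutator P D)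
      (commutator_commutator_eq P D hPD (coprime_four hP le_rfl) (Or.inl hsolv)).ge).trans
      (iSup_le ?_)
    rintro ⟨B₀, hB₀, hcyc⟩
    haveI : (B₀.subgroupOf P).Normal := ⟨fun n hn g => by
      rwa [show g * n * g⁻¹ = n by
        rw [show g * n = n * g from Subtype.ext (hP.comm _ (hP.le g.2) _ (hP.le n.2)),
          mul_inv_cancel_right]]⟩
    obtain ⟨b, hb, hb1⟩ : ∃ b ∈ B₀, b ≠ 1 := by
      by_contra hne
      push Not at hne
      haveI := @hcyc inferInstance
      have hbot : B₀.subgroupOf P = ⊥ := (Subgroup.eq_bot_iff_forall _).2 fun z hz =>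
        Subtype.ext (hne z hz)
      haveI : IsCyclic P := isCyclic_of_surjective
        ((QuotientGroup.quotientMulEquivOfEq hbot).trans QuotientGroup.quotientBot)
        (MulEquiv.surjective _)
      obtain ⟨g, hg⟩ := IsCyclic.exists_generator (α := P)
      have h4 : orderOf g = 4 := by rw [orderOf_eq_card_of_forall_mem_zpowers hg, hP.card]
      have h2 : orderOf g ∣ 2 := orderOf_dvd_of_pow_eq_one (by
        rw [pow_two]; exact Subtype.ext (hP.sq _ (hP.le g.2)))
      rw [h4] at h2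
      norm_num at h2
    have hbP := hB₀ hb
    set U := Subgroup.centralizer (P : Set G)
    have hUb : U ≤ Subgroup.centralizer ({b} : Set G) := fun g hg =>
      Subgroup.mem_centralizer_singleton_iff.2 (Subgroup.mem_centralizer_iff.1 hg b hbP).symm
    have hcore : Cfsg.centralizerPPrimeCore 2 b ⊓ U ≤ coreC P := by
      refine le_coreC inf_le_right (fun g hg => ?_)
        ((core_coprime b).coprime_dvd_left (Subgroup.card_dvd_of_le inf_le_left))
      rw [mem_normalizer_iff_smul, Subgroup.smul_inf,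
        normalizer_le_smul (centralizer_le_normalizer_core b) (hUb hg), conj_smul_eq_self_of_mem hg]
    refine le_trans (le_inf ?_ (inf_le_left.trans inf_le_right)) hcore
    refine inf_le_right.trans ((Subgroup.commutator_mono ?_ le_rfl).trans
      (commutator_le_core hP ha hbP hb1))
    exact inf_le_inf hYD (Subgroup.centralizer_le (Set.singleton_subset_iff.2 hb))
  have hn : D ⊓ coreC P ≤ Subgroup.normalizer (Y : Set G) :=
    inf_le_left.trans (left_le_normalizer_commutator P D)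
  rintro x ⟨hx, hxU⟩
  have hx' : x ∈ ((Y ⊔ D ⊓ coreC P : Subgroup G) : Set G) := hx
  rw [Subgroup.coe_mul_of_right_le_normalizer_left Y _ hn] at hx'
  obtain ⟨y, hy, z, hz, rfl⟩ := hx'
  have hzU : z ∈ Subgroup.centralizer (P : Set G) := Subgroup.map_subtype_le _ hz.2
  have hyU : y ∈ Subgroup.centralizer (P : Set G) := by
    have := Subgroup.mul_mem _ hxU (Subgroup.inv_mem _ hzU)
    simp only [mul_inv_cancel_right] at this
    exact this
  exact mul_mem (hY ⟨hy, hyU⟩) hz.2

/-- A factor fixed by `b` centralizes the components centralized by its four-group. -/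
theorem le_Cz [Finite G] (hP : Pair A P P') {a b : G} (ha : a ∈ A) (hb : b ∈ A) {X : Subgroup G}
    (hXa : X ≤ phi P a) (hXb : X ≤ Subgroup.centralizer ({b} : Set G))
    (hXn : P ≤ Subgroup.normalizer (X : Set G)) {L : Subgroup (CQ b)} (hL : Cfsg.IsComponent L)
    (hPL : P ≤ Cz b L) : X ≤ Cz b L := by
  haveI : Fact (Nat.Prime 2) := ⟨Nat.prime_two⟩
  set C := Subgroup.centralizer ({b} : Set G) with hC
  haveI hCn : (Cfsg.pPrimeCore 2 ↥C).Normal := pPrimeCore_isNormal
  have hXD := hXa.trans (phi_le hP ha)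
  have hsolv : Group.IsSolvable P := Group.isSolvable_of_comm fun x z =>
    Subtype.ext (hP.comm x (hP.le x.2) z (hP.le z.2))
  rw [← commutator_sup_fixed P X hXn (coprime_four hP hXD) (Or.inl hsolv)]
  refine sup_le ?_ ?_
  · rw [Subgroup.commutator_le]
    exact fun y hy t ht => commutator_mem_Cz hP ha hb hL (hPL ht) (hXD hy) (hXb hy)
  rintro w ⟨hw, hwU⟩
  have hwb := hXb hw
  set π := QuotientGroup.mk' (Cfsg.pPrimeCore 2 ↥C)
  have hwN := mem_normalizer_component hP ha hb hL (hXD hw) hwb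
  have hwK : w ∈ coreC P := phi_fixed_le hP ha ⟨hXa hw, hwU⟩
  -- the image of the core of the centralizer of `P` is normalized by `L`
  set W := ((coreC P).subgroupOf C).map π
  have hWodd : (Nat.card W).Coprime 2 := by
    have h0 : (Nat.card ↥(coreC P)).Coprime 2 := by
      rw [coreC, Subgroup.card_map_of_injective (Subgroup.subtype_injective _)]
      exact pPrimeCore_coprime
    refine h0.coprime_dvd_left ((Subgroup.card_map_dvd (f := π) _).trans ?_)
    rw [← Subgroup.card_map_of_injective C.subtype_injective]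
    refine Subgroup.card_dvd_of_le ?_
    rintro _ ⟨v, hv, rfl⟩
    exact hv
  have hPC : P ≤ C := fun t ht => Subgroup.mem_centralizer_singleton_iff.2 (hP.comm t (hP.le ht) b hb)
  have hPp : IsPGroup 2 ↥(P.subgroupOf C) :=
    (isPGroup_four hP).of_equiv (Subgroup.subgroupOfEquivOfLe hPC).symm
  have hLW : L ≤ Subgroup.normalizer (W : Set (CQ b)) := by
    intro l hl
    have hl' : l ∈ Subgroup.centralizer ((P.subgroupOf C).map π : Set (CQ b)) := by
      refine Subgroup.mem_centralizer_iff.2 ?_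
      rintro _ ⟨⟨t, htC⟩, ht, rfl⟩
      exact (mem_Cz htC).1 (hPL ht) l hl
    rw [← map_centralizer_pGroup hPp] at hl'
    obtain ⟨c, hc, rfl⟩ := hl'
    have hcU : (c : G) ∈ Subgroup.centralizer (P : Set G) := Subgroup.mem_centralizer_iff.2
      fun t ht => congrArg Subtype.val
        (Subgroup.mem_centralizer_iff.1 hc ⟨t, hPC ht⟩ ht)
    have hcn : c ∈ Subgroup.normalizer ((coreC P).subgroupOf C : Set ↥C) := by
      rw [Subgroup.mem_normalizer_iff]
      intro v
      exact Subgroup.mem_normalizer_iff.1 (le_normalizer_coreC P hcU) (v : G)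
    exact Subgroup.le_normalizer_map π ⟨c, hcn, rfl⟩
  set z : CQ b := ((⟨w, hwb⟩ : ↥C) : CQ b)
  have hzW : z ∈ W := ⟨⟨w, hwb⟩, hwK, rfl⟩
  set N := L ⊓ W
  have hLN : L ≤ Subgroup.normalizer (N : Set (CQ b)) := fun l hl => by
    rw [mem_normalizer_iff_smul, Subgroup.smul_inf, conj_smul_eq_self_of_mem hl,
      normalizer_le_smul hLW hl]
  haveI : (N.subgroupOf L).Normal :=
    (Subgroup.normal_subgroupOf_iff_le_normalizer inf_le_left).2 hLN
  have hNZ : N.subgroupOf L ≤ Subgroup.center ↥L := by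
    refine (IsQuasisimple.eq_top_or_le_center hL.2 _).resolve_left fun h => ?_
    have hLW' : L ≤ W := (Subgroup.subgroupOf_eq_top.1 h).trans inf_le_right
    exact (Fact.out : (2 : ℕ).Prime).coprime_iff_not_dvd.1
      (hWodd.coprime_dvd_left (Subgroup.card_dvd_of_le hLW')).symm
      (component_dvd pPrimeCore_quotient_bot hL)
  refine (mem_Cz hwb).2 fun l hl => ?_
  have h1 : z * l * z⁻¹ * l⁻¹ ∈ N := by
    refine ⟨L.mul_mem (mem_conj_normalizer hwN hl) (L.inv_mem hl), ?_⟩
    rw [show z * l * z⁻¹ * l⁻¹ = z * (l * z⁻¹ * l⁻¹) by group]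
    exact W.mul_mem hzW (mem_conj_normalizer (hLW hl) (W.inv_mem hzW))
  have h2 := component_central_mem_fitting hL h1.1 fun l' hl' =>
    congrArg Subtype.val (Subgroup.mem_center_iff.1
      (hNZ (show (⟨_, h1.1⟩ : ↥L) ∈ N.subgroupOf L from h1)) ⟨l', hl'⟩)
  rw [fitting_eq_pCore (p := 2) pPrimeCore_quotient_bot] at h2
  obtain ⟨k, hk⟩ := pCore_isPGroup (p := 2) ⟨_, h2⟩
  have h3 := pow_eq_one_coprime (p := 2) (k := k) (by simpa using congrArg Subtype.val hk)
    (hWodd.coprime_dvd_left (W.orderOf_dvd_natCard h1.2))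
  exact mul_inv_eq_iff_eq_mul.1 (mul_inv_eq_one.1 h3)

theorem Pair.symm (hP : Pair A P P') (hcard : Nat.card P' = 4) : Pair A P' P :=
  ⟨hP.le', hP.le, by rw [hP.eq, sup_comm], hP.comm, hP.sq, hcard,
    fun b hb hb1 L hL => (hP.sep b hb hb1 L hL).symm⟩

/-- The balance condition. -/
theorem inf_centralizer_le [Finite G] (hP : Pair A P P') (hP' : Pair A P' P) {a b : G} (ha : a ∈ A)
    (hb : b ∈ A) (hb1 : b ≠ 1) :
    phi P a ⊓ phi P' a ⊓ Subgroup.centralizer ({b} : Set G) ≤ phi P b ⊓ phi P' b := by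
  set X := phi P a ⊓ phi P' a ⊓ Subgroup.centralizer ({b} : Set G) with hX
  have hAX : A ≤ Subgroup.normalizer (X : Set G) := fun c hc => by
    rw [mem_normalizer_iff_smul, hX, Subgroup.smul_inf, Subgroup.smul_inf,
      normalizer_le_smul (le_normalizer_phi hP ha) hc, normalizer_le_smul (le_normalizer_phi hP' ha) hc,
      conj_smul_eq_self_of_mem (Subgroup.mem_centralizer_singleton_iff.2 (hP.comm c hc b hb))]
  have hXD : X ≤ Cfsg.centralizerPPrimeCore 2 a := (inf_le_left.trans inf_le_left).trans (phi_le hP ha)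
  have hXcore : X ≤ Cfsg.centralizerPPrimeCore 2 b := fun x hx =>
    mem_core hP ha hb (hXD hx) hx.2 fun L hL => by
      rcases hP.sep b hb hb1 L hL with h | h
      · exact le_Cz hP ha hb (inf_le_left.trans inf_le_left) inf_le_right (hP.le.trans hAX) hL h hx
      · exact le_Cz hP' ha hb (inf_le_left.trans inf_le_right) inf_le_right (hP'.le.trans hAX) hL h hx
  have key : ∀ R R' : Subgroup G, Pair A R R' → X ≤ phi R a → X ≤ phi R b := by
    intro R R' hR hXR
    have hsolv : Group.IsSolvable R := Group.isSolvable_of_comm fun x z =>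
      Subtype.ext (hR.comm x (hR.le x.2) z (hR.le z.2))
    rw [← commutator_sup_fixed R X (hR.le.trans hAX) (coprime_four hR hXD) (Or.inl hsolv)]
    exact sup_le_sup (Subgroup.commutator_mono hXcore le_rfl)
      (le_inf (inf_le_left.trans hXcore) ((inf_le_inf_right _ hXR).trans (phi_fixed_le hR ha)))
  exact le_inf (key P P' hP (inf_le_left.trans inf_le_left))
    (key P' P hP' (inf_le_left.trans inf_le_right))

/-- Core separation gives a pair. -/
theorem pair_of_coreSeparated [Finite G] {A₁ A₂ : Subgroup G} (h : Cfsg.IsCoreSeparated A₁ A₂) :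
    Pair (A₁ ⊔ A₂) A₁ A₂ := by
  haveI : Fact (Nat.Prime 2) := ⟨Nat.prime_two⟩
  obtain ⟨h1, h2, hc1, -, -, -, hcomm, hsep⟩ := h
  have hc : ∀ (H : Subgroup G), Cfsg.IsElementaryAbelian 2 H → ∀ x ∈ H, ∀ z ∈ H, x * z = z * x :=
    fun H hH x hx z hz => congrArg Subtype.val (hH.1.is_comm.comm (⟨x, hx⟩ : H) ⟨z, hz⟩)
  have hdec : ∀ x ∈ A₁ ⊔ A₂, ∃ s ∈ A₁, ∃ s' ∈ A₂, x = s * s' := by
    intro x hx
    have : x ∈ ((A₁ ⊔ A₂ : Subgroup G) : Set G) := hx
    rw [Subgroup.coe_mul_of_left_le_normalizer_right A₁ A₂ (comm_le_normalizer hcomm)] at this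
    obtain ⟨s, hs, s', hs', e⟩ := this
    exact ⟨s, hs, s', hs', e.symm⟩
  have hcA : ∀ x ∈ A₁ ⊔ A₂, ∀ z ∈ A₁ ⊔ A₂, x * z = z * x := by
    intro x hx z hz
    obtain ⟨s, hs, s', hs', rfl⟩ := hdec x hx
    obtain ⟨r, hr, r', hr', rfl⟩ := hdec z hz
    refine (Commute.mul_left (Commute.mul_right (hc A₁ h1 s hs r hr) (hcomm s hs r' hr'))
      (Commute.mul_right (hcomm r hr s' hs').symm (hc A₂ h2 s' hs' r' hr'))).eq
  refine ⟨le_sup_left, le_sup_right, rfl, hcA, fun x hx => ?_, hc1, fun b hb hb1 L hL => ?_⟩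
  · obtain ⟨s, hs, s', hs', rfl⟩ := hdec x hx
    have e1 := h1.2 s hs
    have e2 := h2.2 s' hs'
    rw [pow_two] at e1 e2
    rw [mul_assoc, ← mul_assoc s' s s', ← hcomm s hs s' hs', mul_assoc s s' s', e2, mul_one, e1]
  set C := Subgroup.centralizer ({b} : Set G) with hC
  haveI : (Cfsg.pPrimeCore 2 ↥C).Normal := pPrimeCore_isNormal
  obtain ⟨hmap, hE⟩ := lift_pRes_isPComponent (p := 2) hL
  set E := pRes 2 (L.comap (QuotientGroup.mk' (Cfsg.pPrimeCore 2 ↥C)))
  have key : ∀ R : Subgroup G, R ≤ A₁ ⊔ A₂ →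
      ⁅E.map C.subtype, R⁆ ≤ Cfsg.centralizerPPrimeCore 2 b → R ≤ Cz b L := by
    intro R hR hle t ht
    have htC : t ∈ C := Subgroup.mem_centralizer_singleton_iff.2 (hcA t (hR ht) b hb)
    refine (mem_Cz htC).2 fun l hl => ?_
    rw [← hmap] at hl
    obtain ⟨e, he, rfl⟩ := hl
    obtain ⟨v, hv, hv'⟩ := hle (Subgroup.commutator_mem_commutator ⟨e, he, rfl⟩ ht)
    have hev : ⁅e, (⟨t, htC⟩ : ↥C)⁆ ∈ Cfsg.pPrimeCore 2 ↥C := by
      rwa [show ⁅e, (⟨t, htC⟩ : ↥C)⁆ = v from Subtype.ext hv'.symm]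
    rw [← QuotientGroup.eq_one_iff] at hev
    have h3 : ⁅(e : CQ b), ((⟨t, htC⟩ : ↥C) : CQ b)⁆ = 1 := by
      rw [← hev]; exact (map_commutatorElement (QuotientGroup.mk' _) _ _).symm
    exact (commutatorElement_eq_one_iff_mul_comm.1 h3).symm
  exact (hsep b hb hb1 E hE).imp (key A₁ le_sup_left) (key A₂ le_sup_right)

theorem isSignalizerFunctor [Finite G] {A₁ A₂ : Subgroup G} (h : Cfsg.IsCoreSeparated A₁ A₂) :
    Cfsg.IsSignalizerFunctor 2 (A₁ ⊔ A₂) fun a => phi A₁ a ⊓ phi A₂ a := by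
  have hP := pair_of_coreSeparated h
  have hP' := hP.symm h.2.2.2.1
  refine ⟨fun a ha _ => (inf_le_left.trans (phi_le hP ha)).trans (Subgroup.map_subtype_le _),
    fun a ha _ => ?_, fun a ha _ b hb x hx => ?_, fun a ha _ b hb hb1 => inf_centralizer_le hP hP' ha hb hb1⟩
  · exact (Nat.prime_two.coprime_iff_not_dvd).1 ((core_coprime a).coprime_dvd_left
      (Subgroup.card_dvd_of_le (inf_le_left.trans (phi_le hP ha)))).symm
  · exact ⟨mem_conj_normalizer (le_normalizer_phi hP ha hb) hx.1,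
      mem_conj_normalizer (le_normalizer_phi hP' ha hb) hx.2⟩

end Cfsg.Agent.Char.Gold
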