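import Mathlib
import Cfsg.Agent.Lib.Grp.Frattini
import Cfsg.Agent.Lib.Transfer.MaxClass

/-!
A normal elementary abelian subgroup `E` of order eight of a 2-group and an involution `a` acting on it
whose centralizer, inside the centralizer of its fixed plane `(plane E a)`, is `(plane E a) ∪ Wa`: the structure of the
centralizers of `(plane E a)` and of `E` modulo `E`.
-/

set_option autoImplicit false
set_option linter.style.haveILetI false
set_option linter.unusedSectionVars false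

namespace Cfsg.Agent.Char.HaradaEight

universe u

variable {S : Type u} [Group S]

/-- The fixed plane of `a` on `E`. -/
abbrev plane (E : Subgroup S) (a : S) : Subgroup S := E ⊓ Subgroup.centralizer {a}

/-- The setting. -/
structure Pt (E : Subgroup S) (a : S) : Prop where
  normal : E.Normal
  comm : ∀ x ∈ E, ∀ y ∈ E, x * y = y * x
  sq : ∀ x ∈ E, x * x = 1
  cardE : Nat.card E = 8
  a_sq : a * a = 1
  cardW : Nat.card (E ⊓ Subgroup.centralizer {a} : Subgroup S) = 4
  self : ∀ x ∈ Subgroup.centralizer ((E ⊓ Subgroup.centralizer {a} : Subgroup S) : Set S),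
    x * a = a * x → x ∈ E ⊓ Subgroup.centralizer {a} ∨ x * a ∈ E ⊓ Subgroup.centralizer {a}

/-- Cyclic modulo `E`. -/
def CycMod (E K : Subgroup S) : Prop := ∃ k ∈ K, ∀ x ∈ K, ∃ i : ℤ, (k ^ i)⁻¹ * x ∈ E

theorem mem_sup_zpowers {E : Subgroup S} [E.Normal] {r x : S} :
    x ∈ Subgroup.zpowers r ⊔ E ↔ ∃ i : ℤ, (r ^ i)⁻¹ * x ∈ E := by
  rw [Subgroup.mem_sup_of_normal_right]
  constructor
  · rintro ⟨y, hy, e, he, rfl⟩
    obtain ⟨i, rfl⟩ := Subgroup.mem_zpowers_iff.1 hy
    exact ⟨i, by rwa [inv_mul_cancel_left]⟩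
  · rintro ⟨i, hi⟩
    exact ⟨r ^ i, Subgroup.zpow_mem _ (Subgroup.mem_zpowers r) i, _, hi, mul_inv_cancel_left _ _⟩

/-- Subgroups of subgroups cyclic modulo `E` are cyclic modulo `E`. -/
theorem cycMod_of_le {E : Subgroup S} [E.Normal] {r : S} {K : Subgroup S}
    (hK : K ≤ Subgroup.zpowers r ⊔ E) : CycMod E K := by
  let I : AddSubgroup ℤ :=
    { carrier := {i | ∃ x ∈ K, (r ^ i)⁻¹ * x ∈ E}
      zero_mem' := ⟨1, K.one_mem, by simp [E.one_mem]⟩
      add_mem' := by
        rintro i j ⟨x, hx, hxe⟩ ⟨y, hy, hye⟩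
        refine ⟨x * y, K.mul_mem hx hy, ?_⟩
        rw [show (r ^ (i + j))⁻¹ * (x * y) =
          ((r ^ j)⁻¹ * ((r ^ i)⁻¹ * x) * (r ^ j)⁻¹⁻¹) * ((r ^ j)⁻¹ * y) by rw [zpow_add]; group]
        exact E.mul_mem (Subgroup.Normal.conj_mem inferInstance _ hxe _) hye
      neg_mem' := by
        rintro i ⟨x, hx, hxe⟩
        refine ⟨x⁻¹, K.inv_mem hx, ?_⟩
        rw [show (r ^ (-i))⁻¹ * x⁻¹ = r ^ i * ((r ^ i)⁻¹ * x)⁻¹ * (r ^ i)⁻¹ by group]
        exact Subgroup.Normal.conj_mem inferInstance _ (E.inv_mem hxe) _ }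
  obtain ⟨g, hg⟩ := Int.subgroup_cyclic I
  obtain ⟨k, hk, hke⟩ : g ∈ I := hg ▸ AddSubgroup.subset_closure (Set.mem_singleton g)
  refine ⟨k, hk, fun x hx => ?_⟩
  obtain ⟨i, hi⟩ := mem_sup_zpowers.1 (hK hx)
  have hiI : i ∈ I := ⟨x, hx, hi⟩
  rw [hg, AddSubgroup.mem_closure_singleton] at hiI
  obtain ⟨n, rfl⟩ := hiI
  refine ⟨n, ?_⟩
  rw [← QuotientGroup.eq, QuotientGroup.mk_zpow, ← QuotientGroup.eq.2 hke, ← QuotientGroup.mk_zpow,
    QuotientGroup.eq, ← zpow_mul, mul_comm g n]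
  rwa [smul_eq_mul] at hi

namespace Pt

variable {E : Subgroup S} {a : S} (h : Pt E a)
include h

theorem inv_a : a⁻¹ = a := inv_eq_of_mul_eq_one_left h.a_sq

theorem inv_E {x : S} (hx : x ∈ E) : x⁻¹ = x := inv_eq_of_mul_eq_one_left (h.sq x hx)

theorem mem_W {w : S} : w ∈ (plane E a) ↔ w ∈ E ∧ a * w * a = w := by
  rw [Subgroup.mem_inf, Subgroup.mem_centralizer_singleton_iff]
  refine and_congr_right fun _ => ?_
  constructor
  · intro hw
    rw [← hw, mul_assoc, h.a_sq, mul_one]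
  · intro hw
    conv_lhs => rw [← hw]
    rw [mul_assoc, h.a_sq, mul_one]

theorem exists_notMem : ∃ e ∈ E, e ∉ (plane E a) := by
  by_contra hc
  push Not at hc
  haveI : Finite (plane E a : Subgroup S) := Nat.finite_of_card_ne_zero (by rw [h.cardW]; omega)
  have h1 := Subgroup.card_le_of_le (hc : E ≤ (plane E a))
  rw [h.cardE, h.cardW] at h1
  omega

theorem mul_mem_W {e e' : S} (he : e ∈ E) (he' : e' ∈ E) (hn : e ∉ (plane E a)) (hn' : e' ∉ (plane E a)) : e * e' ∈ (plane E a) := by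
  have hle : (plane E a) ≤ E := inf_le_left
  have hidx : ((plane E a).subgroupOf E).index = 2 := by
    have h1 := ((plane E a).subgroupOf E).card_mul_index
    rw [Nat.card_congr (Subgroup.subgroupOfEquivOfLe hle).toEquiv, h.cardW, h.cardE] at h1
    omega
  have h2 : (⟨e, he⟩ * ⟨e', he'⟩ : E) ∈ (plane E a).subgroupOf E :=
    (Subgroup.mul_mem_iff_of_index_two hidx).2
      ⟨fun x => absurd (Subgroup.mem_subgroupOf.1 x) hn, fun x => absurd (Subgroup.mem_subgroupOf.1 x) hn'⟩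
  exact Subgroup.mem_subgroupOf.1 h2

theorem a_not_cent : a ∉ Subgroup.centralizer (E : Set S) := by
  intro ha
  obtain ⟨e, he, hn⟩ := h.exists_notMem
  refine hn (h.mem_W.2 ⟨he, ?_⟩)
  rw [← Subgroup.mem_centralizer_iff.1 ha e he, mul_assoc, h.a_sq, mul_one]

theorem exists_z : ∃ z ∈ (plane E a), z ≠ 1 ∧ ∀ e ∈ E, e ∉ (plane E a) → a * e * a = e * z := by
  obtain ⟨e0, he0, hn0⟩ := h.exists_notMem
  have hconj : ∀ e ∈ E, a * e * a ∈ E := fun e he => by
    have := h.normal.conj_mem e he a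
    rwa [h.inv_a] at this
  refine ⟨e0 * (a * e0 * a), h.mem_W.2 ⟨E.mul_mem he0 (hconj e0 he0), ?_⟩, fun h1 => hn0 ?_, ?_⟩
  · calc a * (e0 * (a * e0 * a)) * a = (a * e0 * a) * e0 * (a * a) := by
          group
      _ = e0 * (a * e0 * a) := by rw [h.a_sq, mul_one, h.comm _ (hconj e0 he0) _ he0]
  · exact h.mem_W.2 ⟨he0, by rw [eq_inv_of_mul_eq_one_right h1, h.inv_E he0]⟩
  · intro e he hn
    obtain ⟨-, hw⟩ := h.mem_W.1 (h.mul_mem_W he he0 hn hn0)
    have h2 : (a * e * a) * (a * e0 * a) = e * e0 := by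
      rw [← hw]
      calc (a * e * a) * (a * e0 * a) = a * e * (a * a) * e0 * a := by group
        _ = a * (e * e0) * a := by rw [h.a_sq]; group
    rw [← mul_assoc, ← h2, mul_assoc (a * e * a), ← pow_two, pow_two, h.sq _ (hconj e0 he0), mul_one]

/-- The centre of the action of `a`. -/
noncomputable def z : S := h.exists_z.choose

theorem z_mem : h.z ∈ (plane E a) := h.exists_z.choose_spec.1

theorem z_ne : h.z ≠ 1 := h.exists_z.choose_spec.2.1

theorem a_move {e : S} (he : e ∈ E) (hn : e ∉ (plane E a)) : a * e * a = e * h.z :=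
  h.exists_z.choose_spec.2.2 e he hn

theorem z_sq : h.z * h.z = 1 := h.sq _ (Subgroup.mem_inf.1 h.z_mem).1

theorem W_pair {v w : S} (hv : v ∈ (plane E a)) (hw : w ∈ (plane E a)) (hv1 : v ≠ 1) (hvz : v ≠ h.z) (hw1 : w ≠ 1)
    (hwz : w ≠ h.z) : v * w = 1 ∨ v * w = h.z := by
  haveI : Finite ((plane E a) : Subgroup S) := Nat.finite_of_card_ne_zero (by rw [h.cardW]; omega)
  by_contra hc
  push Not at hc
  let f : Fin 5 → ((plane E a) : Subgroup S) :=
    ![1, ⟨h.z, h.z_mem⟩, ⟨v, hv⟩, ⟨w, hw⟩, ⟨v * w, Subgroup.mul_mem _ hv hw⟩]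
  have hvv : v * v = 1 := h.sq _ (Subgroup.mem_inf.1 hv).1
  have hne : v ≠ w := fun e => hc.1 (by rw [← e, hvv])
  have hf : Function.Injective f := by
    intro i j hij
    have h' := congrArg Subtype.val hij
    fin_cases i <;> fin_cases j <;> simp [f] at h' ⊢ <;> first
      | exact h.z_ne h' | exact h.z_ne h'.symm | exact hv1 h' | exact hv1 h'.symm | exact hvz h'
      | exact hvz h'.symm | exact hw1 h' | exact hw1 h'.symm | exact hwz h' | exact hwz h'.symm
      | exact hc.1 h' | exact hc.1 h'.symm | exact hc.2 h' | exact hc.2 h'.symm | exact hne h'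
      | exact hne h'.symm
  have := Nat.card_le_card_of_injective f hf
  rw [h.cardW] at this
  simp at this

theorem cent_le_centW : Subgroup.centralizer (E : Set S) ≤ Subgroup.centralizer ((plane E a) : Set S) :=
  Subgroup.centralizer_le fun _ hx => (Subgroup.mem_inf.1 hx).1

theorem E_le_cent : E ≤ Subgroup.centralizer (E : Set S) := fun x hx =>
  Subgroup.mem_centralizer_iff.2 fun y hy => h.comm y hy x hx

theorem a_mem_centW : a ∈ Subgroup.centralizer ((plane E a) : Set S) :=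
  Subgroup.mem_centralizer_iff.2 fun w hw =>
    Subgroup.mem_centralizer_singleton_iff.1 (Subgroup.mem_inf.1 hw).2

theorem cent_comm {c e : S} (hc : c ∈ Subgroup.centralizer (E : Set S)) (he : e ∈ E) :
    e * c = c * e :=
  Subgroup.mem_centralizer_iff.1 hc e he

theorem cent_conj {c : S} (hc : c ∈ Subgroup.centralizer (E : Set S)) (g : S) :
    g * c * g⁻¹ ∈ Subgroup.centralizer (E : Set S) := by
  refine Subgroup.mem_centralizer_iff.2 fun e he => ?_
  have h1 := h.cent_comm hc (h.normal.conj_mem e he g⁻¹)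
  calc e * (g * c * g⁻¹) = g * ((g⁻¹ * e * g⁻¹⁻¹) * c) * g⁻¹ := by group
    _ = g * (c * (g⁻¹ * e * g⁻¹⁻¹)) * g⁻¹ := by rw [h1]
    _ = g * c * g⁻¹ * e := by group

theorem a_mul_cent {c : S} (hc : c ∈ Subgroup.centralizer (E : Set S)) :
    a * c * a ∈ Subgroup.centralizer (E : Set S) := by
  have := h.cent_conj hc a
  rwa [h.inv_a] at this

theorem fix_mem_W {x : S} (hx : x⁻¹ * (a * x * a) ∈ E) : x⁻¹ * (a * x * a) ∈ (plane E a) := by
  refine h.mem_W.2 ⟨hx, ?_⟩
  calc a * (x⁻¹ * (a * x * a)) * a = a * x⁻¹ * a * x * (a * a) := by group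
    _ = a⁻¹ * x⁻¹ * a⁻¹ * x := by rw [h.a_sq, h.inv_a, mul_one]
    _ = (x⁻¹ * (a * x * a))⁻¹ := by group
    _ = _ := h.inv_E hx

theorem fixed_small {x : S} (hx : x ∈ Subgroup.centralizer ((plane E a) : Set S))
    (hδ : x⁻¹ * (a * x * a) = 1 ∨ x⁻¹ * (a * x * a) = h.z) : x ∈ E ∨ x * a ∈ E := by
  have key : ∀ y ∈ Subgroup.centralizer ((plane E a) : Set S), a * y * a = y → y ∈ E ∨ y * a ∈ E := by
    intro y hy hy1
    have hc : y * a = a * y := by
      conv_lhs => rw [← hy1]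
      rw [mul_assoc, h.a_sq, mul_one]
    exact (h.self y hy hc).imp (fun hh => (Subgroup.mem_inf.1 hh).1) fun hh => (Subgroup.mem_inf.1 hh).1
  rcases hδ with hδ | hδ
  · exact key x hx (by rw [inv_mul_eq_one] at hδ; exact hδ.symm)
  · obtain ⟨e, he, hn⟩ := h.exists_notMem
    have hxa : a * x * a = x * h.z := by rw [← hδ, mul_inv_cancel_left]
    have hze : h.z * e = e * h.z := h.comm _ (Subgroup.mem_inf.1 h.z_mem).1 _ he
    have hfix : a * (x * e) * a = x * e := by
      calc a * (x * e) * a = (a * x * a) * (a * e * a) := by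
            rw [show a * x * a * (a * e * a) = a * x * (a * a) * e * a by group, h.a_sq]; group
        _ = x * (h.z * e) * h.z := by rw [hxa, h.a_move he hn]; group
        _ = x * e * (h.z * h.z) := by rw [hze]; group
        _ = x * e := by rw [h.z_sq, mul_one]
    have hxe : x * e ∈ Subgroup.centralizer ((plane E a) : Set S) :=
      Subgroup.mul_mem _ hx (h.cent_le_centW (h.E_le_cent he))
    rcases key _ hxe hfix with hh | hh
    · exact Or.inl ((Subgroup.mul_mem_cancel_right E he).1 hh)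
    · refine Or.inr ?_
      have h1 : x * a = x * e * a * (a * e⁻¹ * a) := by
        calc x * a = x * e * (e⁻¹ * a) := by group
          _ = x * e * ((a * a) * e⁻¹ * a) := by rw [h.a_sq, one_mul]
          _ = _ := by group
      have h2 : a * e⁻¹ * a ∈ E := by
        have := h.normal.conj_mem _ (E.inv_mem he) a
        rwa [h.inv_a] at this
      rw [h1]
      exact E.mul_mem hh h2

theorem fixed_two {x y : S} (hx : x ∈ Subgroup.centralizer ((plane E a) : Set S))
    (hy : y ∈ Subgroup.centralizer ((plane E a) : Set S)) (hxδ : x⁻¹ * (a * x * a) ∈ E)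
    (hyδ : y⁻¹ * (a * y * a) ∈ E) (hx' : ¬ (x ∈ E ∨ x * a ∈ E)) (hy' : ¬ (y ∈ E ∨ y * a ∈ E)) :
    x⁻¹ * y ∈ E ∨ x⁻¹ * y * a ∈ E := by
  set δ := x⁻¹ * (a * x * a) with hδ
  set δ' := y⁻¹ * (a * y * a) with hδ'
  have hd := h.fix_mem_W hxδ
  have hd' := h.fix_mem_W hyδ
  have h0 : ∀ {w : S}, w = 1 ∨ w = h.z ↔ ¬ (w ≠ 1 ∧ w ≠ h.z) := fun {w} => by tauto
  have hdn : δ ≠ 1 ∧ δ ≠ h.z := by
    by_contra hh; exact hx' (h.fixed_small hx (h0.2 hh))
  have hdn' : δ' ≠ 1 ∧ δ' ≠ h.z := by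
    by_contra hh; exact hy' (h.fixed_small hy (h0.2 hh))
  have hxy : x⁻¹ * y ∈ Subgroup.centralizer ((plane E a) : Set S) := Subgroup.mul_mem _ (Subgroup.inv_mem _ hx) hy
  refine h.fixed_small hxy ?_
  have hm : (x⁻¹ * y)⁻¹ * (a * (x⁻¹ * y) * a) = δ⁻¹ * δ' := by
    have hcx := Subgroup.mem_centralizer_iff.1 hxy _ (Subgroup.inv_mem _ hd)
    calc (x⁻¹ * y)⁻¹ * (a * (x⁻¹ * y) * a) = (x⁻¹ * y)⁻¹ * ((a * x⁻¹ * a) * (a * y * a)) := by
          rw [show a * x⁻¹ * a * (a * y * a) = a * x⁻¹ * (a * a) * y * a by group, h.a_sq]; group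
      _ = (x⁻¹ * y)⁻¹ * ((a⁻¹ * x⁻¹ * a⁻¹) * (y * δ')) := by
          rw [h.inv_a, hδ', mul_inv_cancel_left]
      _ = (x⁻¹ * y)⁻¹ * (δ⁻¹ * (x⁻¹ * y)) * δ' := by rw [hδ]; group
      _ = δ⁻¹ * δ' := by rw [hcx, inv_mul_cancel_left]
  rw [hm, h.inv_E hxδ]
  exact h.W_pair hd hd' hdn.1 hdn.2 hdn'.1 hdn'.2

theorem cent_not_a {c : S} (hc : c ∈ Subgroup.centralizer (E : Set S)) : c * a ∉ E := fun hh =>
  h.a_not_cent ((Subgroup.mul_mem_cancel_left _ hc).1 (h.E_le_cent hh))

/-- At most one nontrivial coset of `E` in its centralizer is fixed by `a`. -/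
theorem cent_fixed_unique {c d : S} (hc : c ∈ Subgroup.centralizer (E : Set S))
    (hd : d ∈ Subgroup.centralizer (E : Set S)) (hcδ : c⁻¹ * (a * c * a) ∈ E)
    (hdδ : d⁻¹ * (a * d * a) ∈ E) (hc' : c ∉ E) (hd' : d ∉ E) : c⁻¹ * d ∈ E :=
  (h.fixed_two (h.cent_le_centW hc) (h.cent_le_centW hd) hcδ hdδ
    (fun hh => hh.elim hc' (h.cent_not_a hc)) (fun hh => hh.elim hd' (h.cent_not_a hd))).resolve_right
    (h.cent_not_a (Subgroup.mul_mem _ (Subgroup.inv_mem _ hc) hd))

theorem cent_delta_ne {c : S} (hc : c ∈ Subgroup.centralizer (E : Set S)) (hc' : c ∉ E) :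
    c⁻¹ * (a * c * a) ≠ 1 ∧ c⁻¹ * (a * c * a) ≠ h.z := by
  constructor <;> intro hh
  · exact (h.fixed_small (h.cent_le_centW hc) (Or.inl hh)).elim hc' (h.cent_not_a hc)
  · exact (h.fixed_small (h.cent_le_centW hc) (Or.inr hh)).elim hc' (h.cent_not_a hc)

theorem sq_mem_cent {x : S} (hx : x ∈ Subgroup.centralizer ((plane E a) : Set S)) :
    x * x ∈ Subgroup.centralizer (E : Set S) := by
  obtain ⟨e0, he0, hn0⟩ := h.exists_notMem
  haveI := h.normal
  have hfixW : ∀ w ∈ (plane E a), x * w * x⁻¹ = w := fun w hw => by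
    rw [← Subgroup.mem_centralizer_iff.1 hx w hw, mul_inv_cancel_right]
  refine Subgroup.mem_centralizer_iff.2 fun e he => ?_
  by_cases hn : e ∈ (plane E a)
  · exact Subgroup.mem_centralizer_iff.1 (Subgroup.mul_mem _ hx hx) e hn
  have he' : x * e * x⁻¹ ∈ E := h.normal.conj_mem e he x
  have hn' : x * e * x⁻¹ ∉ (plane E a) := fun hh => hn (by
    have h1 := hfixW _ hh
    rwa [show x * e * x⁻¹ = e from mul_left_cancel (mul_right_cancel h1)] at hh)
  have hw := hfixW _ (h.mul_mem_W he he' hn hn')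
  set e' := x * e * x⁻¹ with he'def
  have h2 : x * e' * x⁻¹ = e := by
    have h3 : e' * (x * e' * x⁻¹) = e * e' := by
      rw [← hw, he'def]; group
    rw [h.comm e he e' he'] at h3
    exact mul_left_cancel h3
  rw [he'def] at h2
  have h4 : x * x * e * (x * x)⁻¹ = e := by
    calc x * x * e * (x * x)⁻¹ = x * (x * e * x⁻¹) * x⁻¹ := by group
      _ = e := h2
  exact (mul_inv_eq_iff_eq_mul.1 h4).symm

/-- A cyclic subgroup modulo `E` of index at most two in the centralizer of `(plane E a)`. -/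
theorem exists_gen [Finite S] (hS : IsPGroup 2 S) : ∃ r ∈ Subgroup.centralizer ((plane E a) : Set S),
    ∀ x ∈ Subgroup.centralizer ((plane E a) : Set S), ∀ y ∈ Subgroup.centralizer ((plane E a) : Set S),
      x ∉ Subgroup.zpowers r ⊔ E → y ∉ Subgroup.zpowers r ⊔ E → x * y ∈ Subgroup.zpowers r ⊔ E := by
  classical
  haveI := h.normal
  haveI : Fact (Nat.Prime 2) := ⟨Nat.prime_two⟩
  set T := Subgroup.centralizer ((plane E a) : Set S)
  have hET : E ≤ T := h.E_le_cent.trans h.cent_le_centW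
  haveI : (E.subgroupOf T).Normal := Subgroup.Normal.comap h.normal _
  set Q := T ⧸ E.subgroupOf T
  set a' : Q := ((⟨a, h.a_mem_centW⟩ : T) : Q)
  have hsmall : Nat.card (Subgroup.centralizer {a'}) ≤ 4 := by
    by_contra hbig
    have hmem : ∀ q : Subgroup.centralizer {a'}, ∃ x : T, (x : Q) = q ∧
        ((x : S))⁻¹ * (a * x * a) ∈ E := by
      rintro ⟨q, hq⟩
      induction q using QuotientGroup.induction_on with | _ x =>
      refine ⟨x, rfl, ?_⟩
      rw [Subgroup.mem_centralizer_singleton_iff, ← QuotientGroup.mk_mul, ← QuotientGroup.mk_mul,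
        QuotientGroup.eq, Subgroup.mem_subgroupOf] at hq
      have h1 : ((x : S) * a)⁻¹ * (a * (x : S)) ∈ E := by simpa using hq
      have h2 := h.normal.conj_mem _ h1 a
      rwa [show a * (((x : S) * a)⁻¹ * (a * (x : S))) * a⁻¹ = a * a⁻¹ * (x : S)⁻¹ * (a * (x : S) * a⁻¹) by
        group, mul_inv_cancel, one_mul, h.inv_a] at h2
    choose f hf hfδ using hmem
    -- classify by membership in `E ∪ Ea` and in `E`
    obtain ⟨q0, hq0⟩ : ∃ q0, ¬ ((f q0 : S) ∈ E ∨ (f q0 : S) * a ∈ E) := by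
      by_contra hc
      push Not at hc
      refine hbig (le_trans (Nat.card_le_card_of_injective (fun q => decide ((f q : S) ∈ E))
        fun p q hpq => ?_) (by simp))
      have hiff : (f p : S) ∈ E ↔ (f q : S) ∈ E := by simpa using hpq
      refine Subtype.ext ?_
      rw [← hf p, ← hf q, QuotientGroup.eq, Subgroup.mem_subgroupOf]
      show (f p : S)⁻¹ * (f q : S) ∈ E
      by_cases hp : (f p : S) ∈ E
      · exact E.mul_mem (E.inv_mem hp) (hiff.1 hp)
      · have h1 := (hc p).resolve_left hp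
        have h2 := (hc q).resolve_left fun hh => hp (hiff.2 hh)
        have h3 := h.normal.conj_mem _ (E.mul_mem (E.inv_mem h1) h2) a
        rwa [show a * (((f p : S) * a)⁻¹ * ((f q : S) * a)) * a⁻¹ = (f p : S)⁻¹ * (f q : S) by group] at h3
    refine hbig (le_trans (Nat.card_le_card_of_injective (fun q =>
        (decide ((f q : S) ∈ E ∨ (f q : S) * a ∈ E),
          if (f q : S) ∈ E ∨ (f q : S) * a ∈ E then decide ((f q : S) ∈ E)
            else decide ((f q0 : S)⁻¹ * (f q : S) ∈ E))) fun p q hpq => ?_) (by simp))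
    obtain ⟨hP1, hP2⟩ := Prod.ext_iff.1 hpq
    have hiff : ((f p : S) ∈ E ∨ (f p : S) * a ∈ E) ↔ ((f q : S) ∈ E ∨ (f q : S) * a ∈ E) :=
      decide_eq_decide.1 hP1
    refine Subtype.ext ?_
    rw [← hf p, ← hf q, QuotientGroup.eq, Subgroup.mem_subgroupOf]
    show (f p : S)⁻¹ * (f q : S) ∈ E
    by_cases hp : (f p : S) ∈ E ∨ (f p : S) * a ∈ E
    · simp only at hP2
      rw [if_pos hp, if_pos (hiff.1 hp)] at hP2
      have hiff2 : (f p : S) ∈ E ↔ (f q : S) ∈ E := by simpa using hP2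
      by_cases hpE : (f p : S) ∈ E
      · exact E.mul_mem (E.inv_mem hpE) (hiff2.1 hpE)
      · have h1 := hp.resolve_left hpE
        have h2 := (hiff.1 hp).resolve_left fun hh => hpE (hiff2.2 hh)
        have h3 := h.normal.conj_mem _ (E.mul_mem (E.inv_mem h1) h2) a
        rwa [show a * (((f p : S) * a)⁻¹ * ((f q : S) * a)) * a⁻¹ = (f p : S)⁻¹ * (f q : S) by group] at h3
    · have hq : ¬ ((f q : S) ∈ E ∨ (f q : S) * a ∈ E) := fun hh => hp (hiff.2 hh)
      simp only at hP2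
      rw [if_neg hp, if_neg hq] at hP2
      have hiff2 : (f q0 : S)⁻¹ * (f p : S) ∈ E ↔ (f q0 : S)⁻¹ * (f q : S) ∈ E := by simpa using hP2
      have hp0 := h.fixed_two (f q0).2 (f p).2 (hfδ q0) (hfδ p) hq0 hp
      have hq0' := h.fixed_two (f q0).2 (f q).2 (hfδ q0) (hfδ q) hq0 hq
      rw [show (f p : S)⁻¹ * (f q : S) = ((f q0 : S)⁻¹ * (f p : S))⁻¹ * ((f q0 : S)⁻¹ * (f q : S)) by group]
      by_cases hpE : (f q0 : S)⁻¹ * (f p : S) ∈ E
      · exact E.mul_mem (E.inv_mem hpE) (hiff2.1 hpE)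
      · have h1 := hp0.resolve_left hpE
        have h2 := hq0'.resolve_left fun hh => hpE (hiff2.2 hh)
        have h3 := h.normal.conj_mem _ (E.mul_mem (E.inv_mem h1) h2) a
        rwa [show a * (((f q0 : S)⁻¹ * (f p : S) * a)⁻¹ * ((f q0 : S)⁻¹ * (f q : S) * a)) * a⁻¹ =
          ((f q0 : S)⁻¹ * (f p : S))⁻¹ * ((f q0 : S)⁻¹ * (f q : S)) by group] at h3
  have hQp : IsPGroup 2 Q := (hS.to_subgroup T).to_quotient _
  obtain ⟨n, hn⟩ := IsPGroup.iff_card.1 hQp
  obtain ⟨r, hr⟩ : ∃ r : Q, ∀ x y : Q, x ∉ Subgroup.zpowers r → y ∉ Subgroup.zpowers r →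
      x * y ∈ Subgroup.zpowers r := by
    have fromIdx : ∀ r : Q, (Subgroup.zpowers r).index = 2 → ∀ x y : Q, x ∉ Subgroup.zpowers r →
        y ∉ Subgroup.zpowers r → x * y ∈ Subgroup.zpowers r := fun r hr x y hx hy =>
      (Subgroup.mul_mem_iff_of_index_two hr).2 ⟨fun h => absurd h hx, fun h => absurd h hy⟩
    by_cases hn3 : n ≤ 2
    · by_cases hs : ∀ x : Q, x = 1
      · exact ⟨1, fun x y hx _ => absurd (by rw [hs x]; exact Subgroup.one_mem _) hx⟩
      push Not at hs
      obtain ⟨x, hx⟩ := hs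
      have h2 : 2 ≤ orderOf x := by
        have h0 : 0 < orderOf x := orderOf_pos x
        have h1 : orderOf x ≠ 1 := fun hh => hx (orderOf_eq_one_iff.1 hh)
        omega
      have hidx := (Subgroup.zpowers x).card_mul_index
      rw [Nat.card_zpowers, hn] at hidx
      have h4 : 2 ^ n ≤ 2 ^ 2 := Nat.pow_le_pow_right (by norm_num) hn3
      have hi0 : (Subgroup.zpowers x).index ≠ 0 := Subgroup.index_ne_zero_of_finite
      rcases (show (Subgroup.zpowers x).index = 1 ∨ (Subgroup.zpowers x).index = 2 by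
        have : (Subgroup.zpowers x).index ≤ 2 := by nlinarith
        omega) with h1 | h1
      · exact ⟨x, fun y _ hy _ => absurd (Subgroup.index_eq_one.1 h1 ▸ Subgroup.mem_top y) hy⟩
      · exact ⟨x, fromIdx x h1⟩
    set K := Subgroup.centralizer {a'} with hK
    have ha'1 : a' ≠ 1 := fun hh => h.a_not_cent (h.E_le_cent
      (Subgroup.mem_subgroupOf.1 ((QuotientGroup.eq_one_iff _).1 hh)))
    have ha'K : a' ∈ K := Subgroup.mem_centralizer_singleton_iff.2 rfl
    have hlt : Nat.card K ≠ Nat.card Q := fun hh => by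
      have : 2 ^ 3 ≤ 2 ^ n := Nat.pow_le_pow_right (by norm_num) (by omega)
      omega
    have hK4 : Nat.card K = 4 := by
      obtain ⟨j, hj⟩ := IsPGroup.iff_card.1 (hQp.to_subgroup K)
      rcases j with _ | _ | _ | j
      · exfalso
        exact ha'1 (Subgroup.mem_bot.1 (Subgroup.card_eq_one.1 hj ▸ ha'K))
      · exfalso
        -- a centralizer of order two is the whole group
        haveI : Nontrivial Q := ⟨⟨a', 1, ha'1⟩⟩
        haveI := hQp.center_nontrivial (G := Q)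
        obtain ⟨⟨z', hz'⟩, hne⟩ := exists_ne (1 : Subgroup.center Q)
        have hz1 : z' ≠ 1 := fun hh => hne (Subtype.ext hh)
        have hzK : z' ∈ K := Subgroup.mem_centralizer_singleton_iff.2 (Subgroup.mem_center_iff.1 hz' a').symm
        haveI : Fact (Nat.Prime 2) := ⟨Nat.prime_two⟩
        have hsub : ∀ y : K, y = 1 ∨ y = ⟨a', ha'K⟩ := by
          intro y
          by_contra hy
          push Not at hy
          let g : Fin 3 → K := ![1, ⟨a', ha'K⟩, y]
          have hg : Function.Injective g := by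
            intro u v huv
            fin_cases u <;> fin_cases v <;> simp [g] at huv ⊢ <;> first
              | exact ha'1 huv | exact ha'1 huv.symm | exact hy.1 huv | exact hy.1 huv.symm
              | exact hy.2 huv | exact hy.2 huv.symm
              | exact ha'1 (congrArg Subtype.val huv) | exact ha'1 (congrArg Subtype.val huv).symm
          have := Nat.card_le_card_of_injective g hg
          rw [hj] at this
          simp at this
        have hza : z' = a' := congrArg Subtype.val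
          ((hsub ⟨z', hzK⟩).resolve_left fun hh => hz1 (congrArg Subtype.val hh))
        refine hlt ?_
        rw [show K = ⊤ from eq_top_iff.2 fun y _ => Subgroup.mem_centralizer_singleton_iff.2
          (Subgroup.mem_center_iff.1 (hza ▸ hz') y), Subgroup.card_top]
      · simpa using hj
      · exfalso
        rw [hj] at hsmall
        have h3 : 2 ^ 3 ≤ 2 ^ (j + 1 + 1 + 1) := Nat.pow_le_pow_right (by norm_num) (by omega)
        omega
    have hKcomm : ∀ x ∈ K, ∀ y ∈ K, x * y = y * x := by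
      haveI : Fact (Nat.Prime 2) := ⟨Nat.prime_two⟩
      exact fun x hx y hy => congrArg Subtype.val (IsPGroup.commutative_of_card_eq_prime_sq (G := K)
        (p := 2) (by rw [hK4]; norm_num) (⟨x, hx⟩ : K) ⟨y, hy⟩)
    have hKC : Subgroup.centralizer (K : Set Q) = K := le_antisymm
      (fun x hx => Subgroup.mem_centralizer_singleton_iff.2 (Subgroup.mem_centralizer_iff.1 hx a' ha'K).symm)
      fun x hx => Subgroup.mem_centralizer_iff.2 fun y hy => hKcomm y hy x hx
    have hc := Transfer.MaxClass.class_of_selfCentralizing (p := 2) n hn K (by rw [hK4]; norm_num) hKC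
    obtain ⟨r, hr⟩ := Transfer.MaxClass.exists_cyclic_index_two _ rfl hQp
      (Transfer.MaxClass.index_four_of_class (by omega) hn hc).1
    exact ⟨r, fromIdx r hr⟩
  induction r using QuotientGroup.induction_on with | _ r =>
  have hmemR : ∀ x : T, (x : Q) ∈ Subgroup.zpowers (r : Q) ↔ (x : S) ∈ Subgroup.zpowers (r : S) ⊔ E := by
    intro x
    rw [mem_sup_zpowers, Subgroup.mem_zpowers_iff]
    refine exists_congr fun i => ?_
    rw [← QuotientGroup.mk_zpow, QuotientGroup.eq, Subgroup.mem_subgroupOf]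
    push_cast
    exact Iff.rfl
  refine ⟨r, r.2, fun x hx y hy hx' hy' => ?_⟩
  exact (hmemR ⟨x * y, Subgroup.mul_mem _ hx hy⟩).1
    (hr (⟨x, hx⟩ : T) (⟨y, hy⟩ : T) (fun hh => hx' ((hmemR _).1 hh)) fun hh => hy' ((hmemR _).1 hh))

end Pt

end Cfsg.Agent.Char.HaradaEight
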