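import Mathlib
import Cfsg.Agent.Lib.Char.HaradaEightBase

/-!
If the centralizer of `E` is not cyclic modulo `E`: a normal involution in the plane lies in every
noncyclic part, and the whole group is generated by that centralizer and `a`.
-/

set_option autoImplicit false
set_option linter.style.haveILetI false
set_option linter.unusedSectionVars false

namespace Cfsg.Agent.Char.HaradaEight

open scoped commutatorElement

universe u

variable {S : Type u} [Group S]

theorem quot_comm_of_mem {E : Subgroup S} [E.Normal] {r u v : S} (hu : u ∈ Subgroup.zpowers r ⊔ E)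
    (hv : v ∈ Subgroup.zpowers r ⊔ E) : (u : S ⧸ E) * v = (v : S ⧸ E) * u := by
  obtain ⟨i, hi⟩ := mem_sup_zpowers.1 hu
  obtain ⟨j, hj⟩ := mem_sup_zpowers.1 hv
  rw [← QuotientGroup.eq.2 hi, ← QuotientGroup.eq.2 hj, ← QuotientGroup.mk_mul, ← QuotientGroup.mk_mul,
    ← zpow_add, ← zpow_add, add_comm]

/-- Involutions modulo `E` in a cyclic part are congruent. -/
theorem invol_congr {E : Subgroup S} [E.Normal] {r u v : S} (hu : u ∈ Subgroup.zpowers r ⊔ E)
    (hv : v ∈ Subgroup.zpowers r ⊔ E) (hu2 : u * u ∈ E) (hv2 : v * v ∈ E) (huE : u ∉ E) (hvE : v ∉ E) :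
    u⁻¹ * v ∈ E := by
  obtain ⟨i, hi⟩ := mem_sup_zpowers.1 hu
  obtain ⟨j, hj⟩ := mem_sup_zpowers.1 hv
  let I : AddSubgroup ℤ :=
    { carrier := {i | r ^ i ∈ E}
      zero_mem' := by simp [E.one_mem]
      add_mem' := fun {a b} (ha : r ^ a ∈ E) (hb : r ^ b ∈ E) => by
        show r ^ (a + b) ∈ E
        rw [zpow_add]; exact E.mul_mem ha hb
      neg_mem' := fun {a} (ha : r ^ a ∈ E) => by
        show r ^ (-a) ∈ E
        rw [zpow_neg]; exact E.inv_mem ha }
  have hsq : ∀ (w : S) (k : ℤ), (r ^ k)⁻¹ * w ∈ E → w * w ∈ E → r ^ (k + k) ∈ E := fun w k hk hw => by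
    have h1 : ((r ^ (k + k) : S) : S ⧸ E) = 1 := by
      rw [zpow_add, QuotientGroup.mk_mul, QuotientGroup.eq.2 hk, ← QuotientGroup.mk_mul]
      exact (QuotientGroup.eq_one_iff _).2 hw
    exact (QuotientGroup.eq_one_iff _).1 h1
  have hi2 : i + i ∈ I := hsq u i hi hu2
  have hj2 : j + j ∈ I := hsq v j hj hv2
  have hiI : i ∉ I := fun hh => huE (by
    have := E.mul_mem (hh : r ^ i ∈ E) hi
    rwa [mul_inv_cancel_left] at this)
  have hjI : j ∉ I := fun hh => hvE (by
    have := E.mul_mem (hh : r ^ j ∈ E) hj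
    rwa [mul_inv_cancel_left] at this)
  obtain ⟨n, hn⟩ := Int.subgroup_cyclic I
  rw [hn, AddSubgroup.mem_closure_singleton] at hiI hjI hi2 hj2
  obtain ⟨s, hs⟩ := hi2
  obtain ⟨t, ht⟩ := hj2
  simp only [smul_eq_mul] at hiI hjI hs ht
  have hodd : ∀ {i s : ℤ}, s * n = i + i → (¬ ∃ k : ℤ, k * n = i) → Odd s := by
    intro i s h1 h2
    rcases Int.even_or_odd s with ⟨m, rfl⟩ | h
    · exact absurd ⟨m, by linarith⟩ h2
    · exact h
  obtain ⟨m, hm⟩ := (hodd ht hjI).sub_odd (hodd hs hiI)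
  have hd : j - i ∈ I := by
    rw [hn, AddSubgroup.mem_closure_singleton]
    refine ⟨m, ?_⟩
    rw [smul_eq_mul]
    have h3 : (t - s) * n = (j - i) + (j - i) := by linarith
    rw [hm] at h3
    linarith
  have h4 : (r ^ i)⁻¹ * r ^ j ∈ E := by
    have hh : r ^ (j - i) ∈ E := hd
    rwa [show j - i = -i + j by ring, zpow_add, zpow_neg] at hh
  rw [← QuotientGroup.eq, ← QuotientGroup.eq.2 hi, ← QuotientGroup.eq.2 hj]
  exact QuotientGroup.eq.2 h4

theorem exists_pow_invol [Finite S] (hS : IsPGroup 2 S) (K : Subgroup S) {x : S} (hx : x ∉ K) :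
    ∃ i : ℕ, x ^ 2 ^ i ∉ K ∧ x ^ 2 ^ (i + 1) ∈ K := by
  classical
  obtain ⟨k, hk⟩ := hS x
  have hex : ∃ i, x ^ 2 ^ i ∈ K := ⟨k, hk ▸ K.one_mem⟩
  have h0 : Nat.find hex ≠ 0 := fun h0 => hx (by
    have := Nat.find_spec hex
    rwa [h0, pow_zero, pow_one] at this)
  obtain ⟨i, hi⟩ := Nat.exists_eq_succ_of_ne_zero h0
  refine ⟨i, Nat.find_min hex (by omega), ?_⟩
  rw [← Nat.succ_eq_add_one, ← hi]
  exact Nat.find_spec hex

namespace Pt

variable {E : Subgroup S} {a : S} (h : Pt E a) [Finite S] (hS : IsPGroup 2 S)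
include h hS

/-- A nontrivial coset of `E` in its centralizer fixed by `a`. -/
theorem exists_fixed {d : S} (hd : d ∈ Subgroup.centralizer (E : Set S)) (hdE : d ∉ E) :
    ∃ c ∈ Subgroup.centralizer (E : Set S), c ∉ E ∧ c⁻¹ * (a * c * a) ∈ E := by
  haveI := h.normal
  haveI : Fact (Nat.Prime 2) := ⟨Nat.prime_two⟩
  haveI := (hS.to_quotient E).isNilpotent
  set C := Subgroup.centralizer (E : Set S) with hC
  haveI : C.Normal := ⟨fun c hc g => h.cent_conj hc g⟩
  set N := C.map (QuotientGroup.mk' E) with hN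
  haveI : N.Normal := Subgroup.Normal.map inferInstance _ (QuotientGroup.mk'_surjective _)
  have hne : N ≠ ⊥ := fun hb => hdE ((QuotientGroup.eq_one_iff d).1
    (Subgroup.mem_bot.1 (hb ▸ Subgroup.mem_map_of_mem (QuotientGroup.mk' E) hd)))
  obtain ⟨⟨q, hqN, hqz⟩, hq1⟩ := (Subgroup.ne_bot_iff_exists_ne_one).1 (Agent.Grp.inf_center_ne_bot N hne)
  obtain ⟨c, hc, rfl⟩ := Subgroup.mem_map.1 hqN
  refine ⟨c, hc, fun hh => hq1 (Subtype.ext ((QuotientGroup.eq_one_iff c).2 hh)), ?_⟩
  have h1 : (a : S ⧸ E) * c = (c : S ⧸ E) * a := Subgroup.mem_center_iff.1 hqz (a : S ⧸ E)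
  rw [← QuotientGroup.eq, QuotientGroup.mk_mul, QuotientGroup.mk_mul, h1, mul_assoc, ← QuotientGroup.mk_mul,
    h.a_sq, QuotientGroup.mk_one, mul_one]

/-- An element moving like another transvection with the same axis forces a cyclic centralizer. -/
theorem cycMod_of_extra {x : S} (hx : x ∈ Subgroup.centralizer (plane E a : Set S))
    (hxC : x ∉ Subgroup.centralizer (E : Set S)) (hxa : x * a ∉ Subgroup.centralizer (E : Set S)) :
    CycMod E (Subgroup.centralizer (E : Set S)) := by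
  haveI := h.normal
  set C := Subgroup.centralizer (E : Set S) with hC
  obtain ⟨r, hrT, hR⟩ := h.exists_gen hS
  refine cycMod_of_le (r := r) fun y hy => ?_
  by_contra hyR
  have hyT := h.cent_le_centW hy
  -- every element lies in `C` or in `rC`
  have hRC : ∀ t ∈ Subgroup.zpowers r ⊔ E, t ∈ C ∨ r⁻¹ * t ∈ C := by
    intro t ht
    obtain ⟨i, hi⟩ := mem_sup_zpowers.1 ht
    have hr2 : ∀ m : ℤ, r ^ (2 * m) ∈ C := fun m => by
      rw [zpow_mul]
      exact Subgroup.zpow_mem _ (by rw [zpow_two]; exact h.sq_mem_cent hrT) m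
    rcases Int.even_or_odd i with ⟨m, rfl⟩ | ⟨m, rfl⟩
    · left
      rw [show t = r ^ (2 * m) * ((r ^ (m + m))⁻¹ * t) by rw [two_mul, mul_inv_cancel_left]]
      exact C.mul_mem (hr2 m) (h.E_le_cent hi)
    · right
      rw [show r⁻¹ * t = r ^ (2 * m) * ((r ^ (2 * m + 1))⁻¹ * t) by
        rw [zpow_add_one, mul_inv_rev, ← mul_assoc, ← mul_assoc]; group]
      exact C.mul_mem (hr2 m) (h.E_le_cent hi)
  have hall : ∀ t ∈ Subgroup.centralizer (plane E a : Set S), t ∈ C ∨ r⁻¹ * t ∈ C := by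
    intro t ht
    by_cases htR : t ∈ Subgroup.zpowers r ⊔ E
    · exact hRC t htR
    · rcases hRC _ (hR t ht y hyT htR hyR) with hh | hh
      · exact Or.inl ((Subgroup.mul_mem_cancel_right _ hy).1 hh)
      · rw [← mul_assoc] at hh
        exact Or.inr ((Subgroup.mul_mem_cancel_right _ hy).1 hh)
  have h1 := (hall x hx).resolve_left hxC
  have h2 := (hall a h.a_mem_centW).resolve_left h.a_not_cent
  have h3 : x⁻¹ * a ∈ C := by
    rw [show x⁻¹ * a = (r⁻¹ * x)⁻¹ * (r⁻¹ * a) by group]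
    exact C.mul_mem (C.inv_mem h1) h2
  refine hxa ?_
  rw [show x * a = x * x * (x⁻¹ * a) by group]
  exact C.mul_mem (h.sq_mem_cent hx) h3

/-- The consequences of a noncyclic centralizer. -/
theorem noncyclic (hnc : ¬ CycMod E (Subgroup.centralizer (E : Set S))) :
    ∃ ε ∈ plane E a, ε ≠ 1 ∧ ε ≠ h.z ∧ (∀ s : S, s * ε * s⁻¹ = ε) ∧
      ∀ D : Subgroup S, D ≤ Subgroup.centralizer (E : Set S) → ¬ CycMod E D →
        (∃ d ∈ D, d * d = ε) ∨ ∃ d ∈ D, ∃ d' ∈ D, ⁅d, d'⁆ = ε := by
  classical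
  haveI := h.normal
  set C := Subgroup.centralizer (E : Set S) with hC
  obtain ⟨r, hrT, hR⟩ := h.exists_gen hS
  set R := Subgroup.zpowers r ⊔ E with hRdef
  have hER : E ≤ R := le_sup_right
  have hRT : R ≤ Subgroup.centralizer (plane E a : Set S) :=
    sup_le (Subgroup.zpowers_le.2 hrT) (h.E_le_cent.trans h.cent_le_centW)
  have hCT : C ≤ Subgroup.centralizer (plane E a : Set S) := h.cent_le_centW
  obtain ⟨y0, hy0, hy0R⟩ : ∃ y ∈ C, y ∉ R := by
    by_contra hc
    push Not at hc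
    exact hnc (cycMod_of_le (r := r) hc)
  have hnormR : ∀ g ∈ Subgroup.centralizer (plane E a : Set S), ∀ u ∈ R, g * u * g⁻¹ ∈ R := by
    intro g hg u hu
    by_cases hgR : g ∈ R
    · exact R.mul_mem (R.mul_mem hgR hu) (R.inv_mem hgR)
    by_contra hout
    have h1 := hR _ (Subgroup.mul_mem _ (Subgroup.mul_mem _ hg (hRT hu)) (Subgroup.inv_mem _ hg)) g hg
      hout hgR
    rw [inv_mul_cancel_right] at h1
    exact hgR ((Subgroup.mul_mem_cancel_right _ hu).1 h1)
  have haR : a ∉ R := by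
    intro ha
    obtain ⟨i, hi⟩ := mem_sup_zpowers.1 ha
    have hri : r ^ i ∉ C := fun hh => h.a_not_cent (by
      have := C.mul_mem hh (h.E_le_cent hi)
      rwa [mul_inv_cancel_left] at this)
    have hr2 : r * r ∈ C := h.sq_mem_cent hrT
    obtain ⟨m, hm⟩ : Odd i := by
      rcases Int.even_or_odd i with ⟨m, rfl⟩ | hodd
      · exact absurd (by
          rw [zpow_add, ← (Commute.refl r).mul_zpow]
          exact C.zpow_mem hr2 m) hri
      · exact hodd
    -- the square of `r` lies in `E`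
    have hr2E : r * r ∈ E := by
      obtain ⟨j, hj⟩ := hS r
      have hqi : ((r : S ⧸ E) ^ i) * ((r : S ⧸ E) ^ i) = 1 := by
        rw [← QuotientGroup.mk_zpow, QuotientGroup.eq.2 hi, ← QuotientGroup.mk_mul, h.a_sq,
          QuotientGroup.mk_one]
      have hcop : IsCoprime ((2 : ℤ) ^ j) i := by
        refine IsCoprime.pow_left ?_
        exact ⟨-m, 1, by rw [hm]; ring⟩
      obtain ⟨p, q, hpq⟩ := hcop
      rw [← QuotientGroup.eq_one_iff, QuotientGroup.mk_mul]
      have hj' : (r : S ⧸ E) ^ ((2 : ℤ) ^ j) = 1 := by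
        rw [← QuotientGroup.mk_zpow, show ((2 : ℤ) ^ j) = ((2 ^ j : ℕ) : ℤ) by push_cast; rfl, zpow_natCast,
          hj, QuotientGroup.mk_one]
      have h1 : (r : S ⧸ E) = ((r : S ⧸ E) ^ i) ^ q := by
        conv_lhs => rw [← zpow_one (r : S ⧸ E), ← hpq, zpow_add, mul_comm p, zpow_mul, hj', one_zpow,
          one_mul, mul_comm q, zpow_mul]
      rw [h1, ← (Commute.refl _).mul_zpow, hqi, one_zpow]
    refine hnc ⟨y0, hy0, fun x hx => ?_⟩
    have hRE : ∀ u ∈ R, u ∈ C → u ∈ E := by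
      intro u hu huC
      obtain ⟨k, hk⟩ := mem_sup_zpowers.1 hu
      rcases Int.even_or_odd k with ⟨t, rfl⟩ | ⟨t, rfl⟩
      · have h2 : r ^ (t + t) ∈ E := by
          rw [zpow_add, ← (Commute.refl r).mul_zpow]
          exact E.zpow_mem hr2E t
        have := E.mul_mem h2 hk
        rwa [mul_inv_cancel_left] at this
      · exfalso
        have h2 : r ^ (2 * t + 1) ∈ C := by
          have := C.mul_mem huC (C.inv_mem (h.E_le_cent hk))
          rwa [mul_inv_rev, inv_inv, ← mul_assoc, mul_inv_cancel, one_mul] at this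
        refine hri ?_
        rw [show i = (2 * t + 1) + (m + m - (t + t)) by rw [hm]; ring, zpow_add]
        refine C.mul_mem h2 ?_
        rw [show m + m - (t + t) = (m - t) + (m - t) by ring, zpow_add, ← (Commute.refl r).mul_zpow]
        exact C.zpow_mem hr2 _
    by_cases hxR : x ∈ R
    · exact ⟨0, by rw [zpow_zero, inv_one, one_mul]; exact hRE x hxR hx⟩
    · refine ⟨1, ?_⟩
      rw [zpow_one]
      refine hRE _ (hR _ (Subgroup.inv_mem _ (hCT hy0)) x (hCT hx) (fun hh => hy0R ?_) hxR)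
        (C.mul_mem (C.inv_mem hy0) hx)
      exact (Subgroup.inv_mem_iff R).1 hh
  obtain ⟨c, hc, hcE, hcδ⟩ : ∃ c ∈ C, c ∉ E ∧ c⁻¹ * (a * c * a) ∈ E :=
    h.exists_fixed hS hy0 fun hh => hy0R (hER hh)
  have hcong : ∀ w ∈ C, w ∉ E → w⁻¹ * (a * w * a) ∈ E → c⁻¹ * w ∈ E := fun w hw hwE hwδ =>
    h.cent_fixed_unique hc hw hcδ hwδ hcE hwE
  have hstar : ∀ x ∈ C, x * x ∉ E → x * x * (x * x) ∈ E → c⁻¹ * (x * x) ∈ E := by
    intro x hx hx2 hx4
    have hx2C := C.mul_mem hx hx
    refine hcong _ hx2C hx2 ?_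
    by_cases hxR : x ∈ R
    · have hy' : a * x * a ∈ R := by
        have := hnormR a h.a_mem_centW x hxR
        rwa [h.inv_a] at this
      have h1 : a * (x * x) * a = (a * x * a) * (a * x * a) := by
        rw [show (a * x * a) * (a * x * a) = a * x * (a * a) * x * a by group, h.a_sq]; group
      rw [h1]
      refine invol_congr (R.mul_mem hxR hxR) (R.mul_mem hy' hy') hx4 ?_ hx2 ?_
      · have h2 : (a * x * a) * (a * x * a) * ((a * x * a) * (a * x * a)) = a * (x * x * (x * x)) * a⁻¹ := by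
          rw [← h1, h.inv_a, show a * (x * x) * a * (a * (x * x) * a) = a * (x * x) * (a * a) * (x * x) * a by
            group, h.a_sq]
          group
        rw [h2]; exact h.normal.conj_mem _ hx4 a
      · intro hh
        rw [← h1] at hh
        refine hx2 ?_
        have := h.normal.conj_mem _ hh a
        rwa [show a * (a * (x * x) * a) * a⁻¹ = a * a * (x * x) * (a * a⁻¹) by group, h.a_sq,
          mul_inv_cancel, one_mul, mul_one] at this
    · have hxa : x * a ∈ R := hR x (hCT hx) a h.a_mem_centW hxR haR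
      have hx2R : x * x ∈ R := hR x (hCT hx) x (hCT hx) hxR hxR
      rw [← QuotientGroup.eq]
      have h1 := quot_comm_of_mem hxa hx2R
      rw [QuotientGroup.mk_mul E x a] at h1
      have h2 : (x : S ⧸ E) * ((a : S ⧸ E) * ((x * x : S) : S ⧸ E)) =
          (x : S ⧸ E) * (((x * x : S) : S ⧸ E) * a) := by
        rw [← mul_assoc, h1, QuotientGroup.mk_mul E x x]; group
      have h3 := mul_left_cancel h2
      rw [QuotientGroup.mk_mul E (a * (x * x)) a, QuotientGroup.mk_mul E a (x * x), h3,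
        mul_assoc _ (a : S ⧸ E), ← QuotientGroup.mk_mul E a a, h.a_sq, QuotientGroup.mk_one, mul_one]
  have hEc : ∀ {u e : S}, u ∈ C → e ∈ E → u * e * (u * e) = u * u := fun {u e} hu he => by
    rw [mul_assoc u e, ← mul_assoc e u e, h.cent_comm hu he, mul_assoc u e e, h.sq e he, mul_one]
  by_cases hbig : ∃ x ∈ C, x * x ∉ E ∧ x * x * (x * x) ∈ E
  · obtain ⟨x0, hx0, hx02, hx04⟩ := hbig
    obtain ⟨x1, hx1R, hx1C, hx12, hx14⟩ : ∃ x ∈ R, x ∈ C ∧ x * x ∉ E ∧ x * x * (x * x) ∈ E := by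
      by_contra hno
      push Not at hno
      have hexp : ∀ u ∈ R, u ∈ C → u * u ∈ E := by
        intro u hu huC
        by_contra hu2
        obtain ⟨i, hi, hi'⟩ := exists_pow_invol hS E hu2
        refine hno _ (R.pow_mem hu (2 ^ i)) (C.pow_mem huC _) ?_ ?_
        · rwa [← (Commute.refl u).mul_pow]
        · rw [← (Commute.refl u).mul_pow, ← pow_two, ← pow_mul, ← pow_succ]; exact hi'
      have hx0R : x0 ∉ R := fun hh => hx02 (hexp x0 hh hx0)
      have hx0RR : x0 * x0 ∈ R := hR x0 (hCT hx0) x0 (hCT hx0) hx0R hx0R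
      refine hnc ⟨x0, hx0, fun x hx => ?_⟩
      have hRC : ∀ u ∈ R, u ∈ C → u ∈ E ∨ (x0 * x0)⁻¹ * u ∈ E := fun u hu huC => by
        by_cases huE : u ∈ E
        · exact Or.inl huE
        · exact Or.inr (invol_congr hx0RR hu hx04 (hexp u hu huC) hx02 huE)
      by_cases hxR : x ∈ R
      · rcases hRC x hxR hx with hh | hh
        · exact ⟨0, by rwa [zpow_zero, inv_one, one_mul]⟩
        · exact ⟨2, by rwa [zpow_two]⟩
      · have h1 := hR _ (Subgroup.inv_mem _ (hCT hx0)) x (hCT hx) (fun hh => hx0R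
          ((Subgroup.inv_mem_iff R).1 hh)) hxR
        rcases hRC _ h1 (C.mul_mem (C.inv_mem hx0) hx) with hh | hh
        · exact ⟨1, by rwa [zpow_one]⟩
        · refine ⟨3, ?_⟩
          rwa [show (x0 ^ (3 : ℤ))⁻¹ * x = (x0 * x0)⁻¹ * (x0⁻¹ * x) by group]
    set c' := x1 * x1 with hc'
    have hc'C : c' ∈ C := C.mul_mem hx1C hx1C
    have hx'R : a * x1 * a ∈ R := by
      have := hnormR a h.a_mem_centW x1 hx1R
      rwa [h.inv_a] at this
    set x' := a * x1 * a with hx'
    have hx'C : x' ∈ C := h.a_mul_cent hx1C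
    have hx'2 : x' * x' = a * c' * a := by
      rw [hx', hc', show a * x1 * a * (a * x1 * a) = a * x1 * (a * a) * x1 * a by group, h.a_sq]; group
    have hflip : x1 * x' ∈ E := by
      have hq : (x1 : S ⧸ E) * x' = (x' : S ⧸ E) * x1 := quot_comm_of_mem hx1R hx'R
      have hδc' : c'⁻¹ * (a * c' * a) ∈ E := by
        have h1 := hstar x1 hx1C hx12 hx14
        have h2 := h.normal.conj_mem _ h1 a
        rw [show a * (c⁻¹ * c') * a⁻¹ = (a * c * a⁻¹)⁻¹ * (a * c' * a⁻¹) by group, h.inv_a] at h2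
        rw [show c'⁻¹ * (a * c' * a) = (c⁻¹ * c')⁻¹ * (c⁻¹ * (a * c * a)) * ((a * c * a)⁻¹ * (a * c' * a)) by
          group]
        exact E.mul_mem (E.mul_mem (E.inv_mem h1) hcδ) h2
      have hne : x1⁻¹ * x' ∉ E := fun hh => hx12 (by
        have hxE : x1 ∉ E := fun h0 => hx12 (E.mul_mem h0 h0)
        have h1 := hcong x1 hx1C hxE hh
        have h2 : c * c ∈ E := by
          -- the fixed coset has order two
          by_contra h0
          have hx2 := hcong (c * c) (C.mul_mem hc hc) h0 (by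
            rw [← QuotientGroup.eq] at hcδ ⊢
            rw [show a * (c * c) * a = (a * c * a) * (a * c * a) by
              rw [show a * c * a * (a * c * a) = a * c * (a * a) * c * a by group, h.a_sq]; group,
              QuotientGroup.mk_mul, QuotientGroup.mk_mul E (a * c * a), ← hcδ])
          rw [inv_mul_cancel_left] at hx2
          exact hcE hx2
        rw [← QuotientGroup.eq_one_iff, QuotientGroup.mk_mul, ← QuotientGroup.eq.2 h1,
          ← QuotientGroup.mk_mul, QuotientGroup.eq_one_iff]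
        exact h2)
      have hinv : (x1⁻¹ * x') * (x1⁻¹ * x') ∈ E := by
        rw [← QuotientGroup.eq_one_iff, QuotientGroup.mk_mul, QuotientGroup.mk_mul, QuotientGroup.mk_inv]
        have hcm : Commute (x1 : S ⧸ E)⁻¹ (x' : S ⧸ E) := (show Commute (x1 : S ⧸ E) x' from hq).inv_left
        rw [hcm.symm.mul_mul_mul_comm, ← mul_inv_rev, ← QuotientGroup.mk_mul, ← QuotientGroup.mk_mul,
          ← QuotientGroup.mk_inv, ← QuotientGroup.mk_mul, hx'2, QuotientGroup.eq_one_iff]
        exact hδc'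
      have h1 := invol_congr (R.mul_mem hx1R hx1R) (R.mul_mem (R.inv_mem hx1R) hx'R) hx14 hinv hx12 hne
      rw [← QuotientGroup.eq, QuotientGroup.mk_mul, QuotientGroup.mk_mul, QuotientGroup.mk_inv,
        eq_inv_mul_iff_mul_eq] at h1
      rw [← QuotientGroup.eq_one_iff, QuotientGroup.mk_mul, ← h1, ← QuotientGroup.mk_mul,
        ← QuotientGroup.mk_mul, ← QuotientGroup.mk_mul, QuotientGroup.eq_one_iff]
      simpa [hc', mul_assoc] using hx14
    have hac' : a * c' * a = c'⁻¹ := by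
      have h1 : x' = x1⁻¹ * (x1 * x') := by group
      rw [← hx'2, h1, hEc (C.inv_mem hx1C) hflip, hc']
      group
    have hc'E : c' ∉ E := hx12
    have hδ : c'⁻¹ * (a * c' * a) = (c' * c')⁻¹ := by rw [hac']; group
    have hε : c' * c' ∈ E := hx14
    have hδW := h.fix_mem_W (x := c') (by rw [hδ]; exact E.inv_mem hε)
    have hδne := h.cent_delta_ne hc'C hc'E
    rw [hδ, h.inv_E hε] at hδW hδne
    refine ⟨c' * c', hδW, hδne.1, hδne.2, fun s => ?_, ?_⟩
    · have hy : s * x1 * s⁻¹ ∈ C := h.cent_conj hx1C s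
      have h4 : (s * x1 * s⁻¹) * (s * x1 * s⁻¹) = s * c' * s⁻¹ := by rw [hc']; group
      have h1 := hstar _ hy (fun hh => hc'E (by
          have := h.normal.conj_mem _ (h4 ▸ hh) s⁻¹
          rwa [show s⁻¹ * (s * c' * s⁻¹) * s⁻¹⁻¹ = c' by group] at this))
        (by rw [h4, show s * c' * s⁻¹ * (s * c' * s⁻¹) = s * (c' * c') * s⁻¹ by group]
            exact h.normal.conj_mem _ hε s)
      have h2 := hstar x1 hx1C hx12 hx14
      rw [h4] at h1
      have h5 : c'⁻¹ * (s * c' * s⁻¹) ∈ E := by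
        rw [show c'⁻¹ * (s * c' * s⁻¹) = (c⁻¹ * c')⁻¹ * (c⁻¹ * (s * c' * s⁻¹)) by group]
        exact E.mul_mem (E.inv_mem h2) h1
      calc s * (c' * c') * s⁻¹ = (s * c' * s⁻¹) * (s * c' * s⁻¹) := by group
        _ = c' * (c'⁻¹ * (s * c' * s⁻¹)) * (c' * (c'⁻¹ * (s * c' * s⁻¹))) := by group
        _ = c' * c' := hEc hc'C h5
    · intro D hD hDnc
      left
      obtain ⟨u, huD, huR, huE⟩ : ∃ u ∈ D, u ∈ R ∧ u ∉ E := by
        by_contra hno
        push Not at hno
        refine hDnc ?_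
        by_cases hall : ∀ x ∈ D, x ∈ E
        · exact ⟨1, D.one_mem, fun x hx => ⟨0, by rw [zpow_zero, inv_one, one_mul]; exact hall x hx⟩⟩
        push Not at hall
        obtain ⟨y, hy, hyE⟩ := hall
        have hyR : y ∉ R := fun hh => hyE (hno y hy hh)
        refine ⟨y, hy, fun x hx => ?_⟩
        by_cases hxE : x ∈ E
        · exact ⟨0, by rw [zpow_zero, inv_one, one_mul]; exact hxE⟩
        · refine ⟨1, ?_⟩
          rw [zpow_one]
          exact hno _ (D.mul_mem (D.inv_mem hy) hx) (hR _ (Subgroup.inv_mem _ (hCT (hD hy))) x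
            (hCT (hD hx)) (fun hh => hyR ((Subgroup.inv_mem_iff R).1 hh)) fun hh => hxE (hno x hx hh))
      obtain ⟨i, hi, hi'⟩ := exists_pow_invol hS E huE
      refine ⟨u ^ 2 ^ i, D.pow_mem huD _, ?_⟩
      have h1 := invol_congr (R.mul_mem hx1R hx1R) (R.pow_mem huR (2 ^ i)) hε
        (by rw [← pow_two, ← pow_mul, ← pow_succ]; exact hi') hc'E hi
      rw [show u ^ 2 ^ i = c' * (c'⁻¹ * u ^ 2 ^ i) by group]
      exact hEc hc'C h1
  · have hall2 : ∀ x ∈ C, x * x ∈ E := by
      intro x hx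
      by_contra hx2
      obtain ⟨i, hi, hi'⟩ := exists_pow_invol hS E hx2
      refine hbig ⟨x ^ 2 ^ i, C.pow_mem hx _, ?_, ?_⟩
      · rwa [← (Commute.refl x).mul_pow]
      · rw [← (Commute.refl x).mul_pow, ← pow_two, ← pow_mul, ← pow_succ]; exact hi'
    obtain ⟨y, hy, hyE, hyc⟩ : ∃ y ∈ C, y ∉ E ∧ c⁻¹ * y ∉ E := by
      by_contra hno
      push Not at hno
      refine hnc ⟨c, hc, fun x hx => ?_⟩
      by_cases hxE : x ∈ E
      · exact ⟨0, by rw [zpow_zero, inv_one, one_mul]; exact hxE⟩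
      · exact ⟨1, by rw [zpow_one]; exact hno x hx hxE⟩
    set y' := a * y * a with hy'
    have hy'C : y' ∈ C := h.a_mul_cent hy
    set c' := y⁻¹ * y' with hc'
    have hc'C : c' ∈ C := C.mul_mem (C.inv_mem hy) hy'C
    have hc'E : c' ∉ E := fun hh => hyc (hcong y hy hyE hh)
    have hc'2 := hall2 c' hc'C
    have hac' : a * c' * a = c'⁻¹ := by
      rw [hc', hy', show a * (y⁻¹ * (a * y * a)) * a = a * y⁻¹ * a * y * (a * a) by group, h.a_sq, mul_one,
        mul_inv_rev, inv_inv, mul_inv_rev, mul_inv_rev, h.inv_a]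
      group
    have hδ : c'⁻¹ * (a * c' * a) = (c' * c')⁻¹ := by rw [hac']; group
    have hδE : c'⁻¹ * (a * c' * a) ∈ E := by rw [hδ]; exact E.inv_mem hc'2
    have hδne := h.cent_delta_ne hc'C hc'E
    have hδW := h.fix_mem_W hδE
    rw [hδ, h.inv_E hc'2] at hδne hδW
    have hy2 := hall2 y hy
    -- the commutator
    have hcm : ⁅y, c'⁆ ∈ E ∧ c' * c' = ⁅y, c'⁆ * ((y * y)⁻¹ * (a * (y * y) * a)) := by
      have hcE' : ⁅y, c'⁆ ∈ E := by
        rw [← QuotientGroup.eq_one_iff, ← QuotientGroup.mk'_apply, map_commutatorElement,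
          commutatorElement_eq_one_iff_mul_comm]
        show (y : S ⧸ E) * c' = (c' : S ⧸ E) * y
        have hsq : ∀ v ∈ C, ((v : S ⧸ E))⁻¹ = v := fun v hv => inv_eq_of_mul_eq_one_left (by
          rw [← QuotientGroup.mk_mul, QuotientGroup.eq_one_iff]; exact hall2 v hv)
        have h1 := hsq _ (C.mul_mem hy hc'C)
        rw [QuotientGroup.mk_mul, mul_inv_rev, hsq y hy, hsq c' hc'C] at h1
        exact h1.symm
      refine ⟨hcE', ?_⟩
      have h2 : a * (y * y) * a = y' * y' := by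
        rw [hy', show a * y * a * (a * y * a) = a * y * (a * a) * y * a by group, h.a_sq]; group
      have hcy := h.cent_comm (C.inv_mem hy) hcE'
      calc c' * c' = y⁻¹ * ⁅y, c'⁆ * y⁻¹ * (y' * y') := by rw [hc', commutatorElement_def]; group
        _ = ⁅y, c'⁆ * y⁻¹ * y⁻¹ * (y' * y') := by rw [← hcy]
        _ = _ := by rw [h2, mul_inv_rev]; group
    obtain ⟨hεE, hc'eq⟩ := hcm
    set ε := ⁅y, c'⁆
    set κ := (y * y)⁻¹ * (a * (y * y) * a) with hκ
    have hκc : κ = 1 ∨ κ = h.z := by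
      by_cases hw : y * y ∈ plane E a
      · left; rw [hκ, (h.mem_W.1 hw).2, inv_mul_cancel]
      · right; rw [hκ, h.a_move hy2 hw, inv_mul_cancel_left]
    have hκW : κ ∈ plane E a := by
      rcases hκc with hh | hh <;> rw [hh]
      · exact Subgroup.one_mem _
      · exact h.z_mem
    have hκκ : κ * κ = 1 := h.sq κ (Subgroup.mem_inf.1 hκW).1
    have hεeq : ε = c' * c' * κ := by rw [hc'eq, mul_assoc, hκκ, mul_one]
    refine ⟨ε, hεeq ▸ Subgroup.mul_mem _ hδW hκW, fun h1 => ?_, fun h1 => ?_, ?_⟩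
    · rw [h1, one_mul] at hc'eq
      rcases hκc with hh | hh <;> rw [hh] at hc'eq
      · exact hδne.1 hc'eq
      · exact hδne.2 hc'eq
    · rw [h1] at hc'eq
      rcases hκc with hh | hh <;> rw [hh] at hc'eq
      · exact hδne.2 (by rw [hc'eq, mul_one])
      · exact hδne.1 (by rw [hc'eq, h.z_sq])
    have hε1 : ε ≠ 1 := fun h1 => by
      rw [h1, one_mul] at hc'eq
      rcases hκc with hh | hh <;> rw [hh] at hc'eq
      · exact hδne.1 hc'eq
      · exact hδne.2 hc'eq
    -- every element of the centralizer lies in one of four cosets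
    have hyR' : ∀ x ∈ C, x ∈ E ∨ y⁻¹ * x ∈ E ∨ c'⁻¹ * x ∈ E ∨ (y * c')⁻¹ * x ∈ E := by
      have hRC : ∀ u ∈ R, u ∈ C → ∀ v ∈ R, v ∈ C → u ∉ E → v ∉ E → u⁻¹ * v ∈ E :=
        fun u hu huC v hv hvC huE hvE => invol_congr hu hv (hall2 u huC) (hall2 v hvC) huE hvE
      set N := E.subgroupOf C
      haveI : N.Normal := Subgroup.Normal.comap h.normal _
      have hcard : Nat.card (C ⧸ N) ≤ 4 := by
        have hrep : ∀ q : C ⧸ N, ∃ x : C, (x : C ⧸ N) = q := fun q => QuotientGroup.mk_surjective q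
        choose f hf using hrep
        let g : C ⧸ N → Bool × Bool := fun q =>
          (decide ((f q : S) ∈ R), if (f q : S) ∈ R then decide ((f q : S) ∈ E)
            else decide (y0⁻¹ * (f q : S) ∈ E))
        refine le_trans (Nat.card_le_card_of_injective g fun p q hpq => ?_) (by simp)
        have hiff : (f p : S) ∈ R ↔ (f q : S) ∈ R := decide_eq_decide.1 (Prod.ext_iff.1 hpq).1
        have h2 := (Prod.ext_iff.1 hpq).2
        simp only [g] at h2
        rw [← hf p, ← hf q, QuotientGroup.eq, Subgroup.mem_subgroupOf]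
        show (f p : S)⁻¹ * (f q : S) ∈ E
        by_cases hp : (f p : S) ∈ R
        · rw [if_pos hp, if_pos (hiff.1 hp)] at h2
          have hi2 := decide_eq_decide.1 h2
          by_cases hpE : (f p : S) ∈ E
          · exact E.mul_mem (E.inv_mem hpE) (hi2.1 hpE)
          · exact hRC _ hp (f p).2 _ (hiff.1 hp) (f q).2 hpE fun hh => hpE (hi2.2 hh)
        · have hq : (f q : S) ∉ R := fun hh => hp (hiff.2 hh)
          rw [if_neg hp, if_neg hq] at h2
          have hi2 := decide_eq_decide.1 h2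
          have hy0R' : y0⁻¹ ∉ R := fun hh => hy0R ((Subgroup.inv_mem_iff R).1 hh)
          rw [show (f p : S)⁻¹ * (f q : S) = (y0⁻¹ * (f p : S))⁻¹ * (y0⁻¹ * (f q : S)) by group]
          by_cases hpE : y0⁻¹ * (f p : S) ∈ E
          · exact E.mul_mem (E.inv_mem hpE) (hi2.1 hpE)
          · exact hRC _ (hR _ (Subgroup.inv_mem _ (hCT hy0)) _ (hCT (f p).2) hy0R' hp)
              (C.mul_mem (C.inv_mem hy0) (f p).2) _
              (hR _ (Subgroup.inv_mem _ (hCT hy0)) _ (hCT (f q).2) hy0R' hq)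
              (C.mul_mem (C.inv_mem hy0) (f q).2) hpE fun hh => hpE (hi2.2 hh)
      intro x hx
      by_contra hno
      push Not at hno
      obtain ⟨n1, n2, n3, n4⟩ := hno
      let g : Fin 5 → C ⧸ N := ![((1 : C) : C ⧸ N), ((⟨y, hy⟩ : C) : C ⧸ N), ((⟨c', hc'C⟩ : C) : C ⧸ N),
        ((⟨y * c', C.mul_mem hy hc'C⟩ : C) : C ⧸ N), ((⟨x, hx⟩ : C) : C ⧸ N)]
      have hyc' : y⁻¹ * c' ∉ E := fun hh => hyc (by
        rw [show c⁻¹ * y = (c⁻¹ * c') * (y⁻¹ * c')⁻¹ by group]
        exact E.mul_mem (hcong c' hc'C hc'E hδE) (E.inv_mem hh))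
      have hycE : y * c' ∉ E := fun hh => hyc' (by
        rw [show y⁻¹ * c' = (y * y)⁻¹ * (y * c') by group]
        exact E.mul_mem (E.inv_mem hy2) hh)
      have hc'yc : c'⁻¹ * (y * c') ∉ E := fun hh => hyE (by
        have := h.normal.conj_mem _ hh c'
        rwa [show c' * (c'⁻¹ * (y * c')) * c'⁻¹ = y by group] at this)
      have hd : ∀ {u v : C}, (u : S)⁻¹ * v ∉ E → (u : C ⧸ N) ≠ (v : C ⧸ N) := fun {u v} huv hh =>
        huv (by
          rw [QuotientGroup.eq, Subgroup.mem_subgroupOf] at hh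
          exact hh)
      have hg : Function.Injective g := by
        have d01 : g 0 ≠ g 1 := hd (by simpa using hyE)
        have d02 : g 0 ≠ g 2 := hd (by simpa using hc'E)
        have d03 : g 0 ≠ g 3 := hd (by simpa using hycE)
        have d04 : g 0 ≠ g 4 := hd (by simpa using n1)
        have d12 : g 1 ≠ g 2 := hd hyc'
        have d13 : g 1 ≠ g 3 := hd (by simpa using hc'E)
        have d14 : g 1 ≠ g 4 := hd n2
        have d23 : g 2 ≠ g 3 := hd hc'yc
        have d24 : g 2 ≠ g 4 := hd n3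
        have d34 : g 3 ≠ g 4 := hd n4
        intro i j hij
        fin_cases i <;> fin_cases j <;>
          first
          | rfl
          | exact absurd hij d01 | exact absurd hij.symm d01 | exact absurd hij d02
          | exact absurd hij.symm d02 | exact absurd hij d03 | exact absurd hij.symm d03
          | exact absurd hij d04 | exact absurd hij.symm d04 | exact absurd hij d12
          | exact absurd hij.symm d12 | exact absurd hij d13 | exact absurd hij.symm d13
          | exact absurd hij d14 | exact absurd hij.symm d14 | exact absurd hij d23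
          | exact absurd hij.symm d23 | exact absurd hij d24 | exact absurd hij.symm d24
          | exact absurd hij d34 | exact absurd hij.symm d34
      have := Nat.card_le_card_of_injective g hg
      simp at this
      omega
    have hcomE : ∀ {u v e e' : S}, u ∈ C → v ∈ C → e ∈ E → e' ∈ E → ⁅u * e, v * e'⁆ = ⁅u, v⁆ := by
      intro u v e e' hu hv he he'
      have c1 : Commute e v := h.cent_comm hv he
      have c2 : Commute e' u := h.cent_comm hu he'
      have c3 : Commute e e' := h.comm e he e' he'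
      have c4 : Commute e u := h.cent_comm hu he
      have c5 : Commute e' v := h.cent_comm hv he'
      rw [commutatorElement_def, commutatorElement_def, mul_inv_rev, mul_inv_rev]
      calc u * e * (v * e') * (e⁻¹ * u⁻¹) * (e'⁻¹ * v⁻¹)
          = u * (e * (v * e') * e⁻¹) * (u⁻¹ * e'⁻¹) * v⁻¹ := by group
        _ = u * v * e' * (u⁻¹ * e'⁻¹) * v⁻¹ := by
            rw [(c1.mul_right c3).eq, mul_inv_cancel_right]; group
        _ = u * v * (e' * u⁻¹ * e'⁻¹) * v⁻¹ := by group
        _ = u * v * u⁻¹ * v⁻¹ := by rw [c2.inv_right.eq, mul_inv_cancel_right]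
    have hεinv : ε⁻¹ = ε := h.inv_E hεE
    have hvals : ∀ u ∈ C, ∀ v ∈ C, u ∉ E → v ∉ E → u⁻¹ * v ∉ E → ⁅u, v⁆ = ε := by
      intro u hu v hv huE hvE huv
      have e1 : ⁅c', y⁆ = ε := by rw [← commutatorElement_inv]; exact hεinv
      have e2 : ⁅y, y * c'⁆ = ε := by
        calc ⁅y, y * c'⁆ = y * ε * y⁻¹ := by simp only [ε, commutatorElement_def]; group
          _ = ε := by rw [← h.cent_comm hy hεE, mul_inv_cancel_right]
      have e3 : ⁅y * c', y⁆ = ε := by rw [← commutatorElement_inv, e2]; exact hεinv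
      have e4 : ⁅c', y * c'⁆ = ε := by
        calc ⁅c', y * c'⁆ = ⁅c', y⁆ := by simp only [commutatorElement_def]; group
          _ = ε := e1
      have e5 : ⁅y * c', c'⁆ = ε := by rw [← commutatorElement_inv, e4]; exact hεinv
      have hsplit : ∀ w ∈ C, w ∉ E → ∃ b, (b = y ∨ b = c' ∨ b = y * c') ∧ ∃ e ∈ E, w = b * e := by
        intro w hw hwE
        rcases hyR' w hw with hh | hh | hh | hh
        · exact absurd hh hwE
        · exact ⟨y, Or.inl rfl, _, hh, by group⟩
        · exact ⟨c', Or.inr (Or.inl rfl), _, hh, by group⟩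
        · exact ⟨y * c', Or.inr (Or.inr rfl), _, hh, by group⟩
      obtain ⟨b, hb, e, he, rfl⟩ := hsplit u hu huE
      obtain ⟨b', hb', e', he', rfl⟩ := hsplit v hv hvE
      have hbb : b ≠ b' := fun hh => huv (by
        rw [hh, show (b' * e)⁻¹ * (b' * e') = e⁻¹ * e' by group]
        exact E.mul_mem (E.inv_mem he) he')
      rw [hcomE ((Subgroup.mul_mem_cancel_right _ (h.E_le_cent he)).1 hu)
        ((Subgroup.mul_mem_cancel_right _ (h.E_le_cent he')).1 hv) he he']
      rcases hb with rfl | rfl | rfl <;> rcases hb' with rfl | rfl | rfl <;>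
        first | exact absurd rfl hbb | assumption | rfl
    refine ⟨fun s => ?_, fun D hD hDnc => Or.inr ?_⟩
    · have h1 : ⁅s * y * s⁻¹, s * c' * s⁻¹⁆ = s * ε * s⁻¹ := by
        simp only [ε, commutatorElement_def]; group
      rw [← h1]
      have hne : ∀ {v : S}, v ∉ E → s * v * s⁻¹ ∉ E := fun {v} hv hh => hv (by
        have := h.normal.conj_mem _ hh s⁻¹
        rwa [show s⁻¹ * (s * v * s⁻¹) * s⁻¹⁻¹ = v by group] at this)
      refine hvals _ (h.cent_conj hy s) _ (h.cent_conj hc'C s) (hne hyE) (hne hc'E) ?_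
      rw [show (s * y * s⁻¹)⁻¹ * (s * c' * s⁻¹) = s * (y⁻¹ * c') * s⁻¹ by group]
      refine hne fun hh => hyc ?_
      rw [show c⁻¹ * y = (c⁻¹ * c') * (y⁻¹ * c')⁻¹ by group]
      exact E.mul_mem (hcong c' hc'C hc'E hδE) (E.inv_mem hh)
    · by_contra hno
      push Not at hno
      refine hDnc ?_
      by_cases hall : ∀ x ∈ D, x ∈ E
      · exact ⟨1, D.one_mem, fun x hx => ⟨0, by rw [zpow_zero, inv_one, one_mul]; exact hall x hx⟩⟩
      push Not at hall
      obtain ⟨d, hd, hdE⟩ := hall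
      refine ⟨d, hd, fun x hx => ?_⟩
      by_cases hxE : x ∈ E
      · exact ⟨0, by rw [zpow_zero, inv_one, one_mul]; exact hxE⟩
      · refine ⟨1, ?_⟩
        rw [zpow_one]
        by_contra hh
        exact hno d hd x hx (hvals d (hD hd) x (hD hx) hdE hxE hh)

/-- If the centralizer is noncyclic modulo `E` the group is generated by it and `a`. -/
theorem eq_cent_or_mul (hnc : ¬ CycMod E (Subgroup.centralizer (E : Set S))) (s : S) :
    s ∈ Subgroup.centralizer (E : Set S) ∨ s * a ∈ Subgroup.centralizer (E : Set S) := by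
  haveI := h.normal
  haveI : Fact (Nat.Prime 2) := ⟨Nat.prime_two⟩
  haveI := hS.isNilpotent
  obtain ⟨ε, hεW, hε1, hεz, hεfix, -⟩ := h.noncyclic hS hnc
  set C := Subgroup.centralizer (E : Set S) with hC
  haveI hCn : C.Normal := ⟨fun c hc g => h.cent_conj hc g⟩
  have hflip : ∀ {x : S}, x * a ∈ C → a * x ∈ C := fun {x} hx => hCn.mem_comm hx
  let N : Subgroup S :=
    { carrier := {x | x ∈ C ∨ x * a ∈ C}
      one_mem' := Or.inl C.one_mem
      mul_mem' := by
        rintro x y (hx | hx) (hy | hy)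
        · exact Or.inl (C.mul_mem hx hy)
        · exact Or.inr (by rw [mul_assoc]; exact C.mul_mem hx hy)
        · refine Or.inr ?_
          rw [show x * y * a = (x * a) * (a⁻¹ * y * a⁻¹⁻¹) by group]
          exact C.mul_mem hx (h.cent_conj hy a⁻¹)
        · refine Or.inl ?_
          have h1 := C.mul_mem hx (hflip hy)
          rwa [show x * a * (a * y) = x * (a * a) * y by group, h.a_sq, mul_one] at h1
      inv_mem' := by
        rintro x (hx | hx)
        · exact Or.inl (C.inv_mem hx)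
        · refine Or.inr ?_
          have h1 := C.inv_mem (hflip hx)
          rwa [mul_inv_rev, h.inv_a] at h1 }
  by_cases hN : N = ⊤
  · exact (hN ▸ Subgroup.mem_top s : s ∈ N)
  have hlt := Group.normalizerCondition_of_isNilpotent N (lt_top_iff_ne_top.2 hN)
  obtain ⟨x, hx, hxN⟩ := SetLike.exists_of_lt hlt
  have haN : a ∈ N := Or.inr (by rw [h.a_sq]; exact C.one_mem)
  have hxa : x * a * x⁻¹ * a ∈ C := by
    rcases (Subgroup.mem_normalizer_iff.1 hx a).1 haN with hh | hh
    · exfalso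
      have := h.cent_conj hh x⁻¹
      rw [show x⁻¹ * (x * a * x⁻¹) * x⁻¹⁻¹ = a by group] at this
      exact h.a_not_cent this
    · exact hh
  -- the conjugate acts on `E` as `a`
  have hact : ∀ e ∈ E, (x * a * x⁻¹) * e * (x * a * x⁻¹) = a * e * a := by
    intro e he
    have haea : a * e * a ∈ E := by
      have := h.normal.conj_mem e he a
      rwa [h.inv_a] at this
    calc (x * a * x⁻¹) * e * (x * a * x⁻¹) = (x * a * x⁻¹) * e * (x * a⁻¹ * x⁻¹) := by rw [h.inv_a]
      _ = (x * a * x⁻¹ * a) * (a⁻¹ * e * a) * (x * a * x⁻¹ * a)⁻¹ := by group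
      _ = a * e * a := by rw [h.inv_a, ← h.cent_comm hxa haea, mul_inv_cancel_right]
  have hxW : ∀ w ∈ plane E a, x⁻¹ * w * x ∈ plane E a := fun w hw => by
    obtain ⟨hwE, hww⟩ := h.mem_W.1 hw
    have he' : x⁻¹ * w * x ∈ E := by
      have := h.normal.conj_mem w hwE x⁻¹
      rwa [inv_inv] at this
    refine h.mem_W.2 ⟨he', ?_⟩
    have h1 := hact w hwE
    rw [hww] at h1
    calc a * (x⁻¹ * w * x) * a = x⁻¹ * ((x * a * x⁻¹) * w * (x * a * x⁻¹)) * x := by group
      _ = x⁻¹ * w * x := by rw [h1]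
  have hxz : x * h.z * x⁻¹ = h.z := by
    obtain ⟨e, he, hn⟩ := h.exists_notMem
    have hne : x * e * x⁻¹ ∉ plane E a := fun hh => hn (by
      have := hxW _ hh
      rwa [show x⁻¹ * (x * e * x⁻¹) * x = e by group] at this)
    have he' : x * e * x⁻¹ ∈ E := h.normal.conj_mem e he x
    have h1 := hact _ he'
    rw [show (x * a * x⁻¹) * (x * e * x⁻¹) * (x * a * x⁻¹) = x * (a * e * a) * x⁻¹ by group, h.a_move he hn,
      h.a_move he' hne, show x * (e * h.z) * x⁻¹ = (x * e * x⁻¹) * (x * h.z * x⁻¹) by group] at h1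
    exact mul_left_cancel h1
  have hxT : x ∈ Subgroup.centralizer (plane E a : Set S) := by
    refine Subgroup.mem_centralizer_iff.2 fun w hw => ?_
    have hεE := (Subgroup.mem_inf.1 hεW).1
    have key : x * w * x⁻¹ = w := by
      by_cases hw1 : w = 1
      · rw [hw1, mul_one, mul_inv_cancel]
      by_cases hwz : w = h.z
      · rw [hwz, hxz]
      rcases h.W_pair hεW hw hε1 hεz hw1 hwz with hh | hh
      · rw [eq_inv_of_mul_eq_one_right hh, h.inv_E hεE, hεfix]
      · have hwe : w = ε * h.z := by rw [← hh, ← mul_assoc, h.sq ε hεE, one_mul]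
        rw [hwe, show x * (ε * h.z) * x⁻¹ = (x * ε * x⁻¹) * (x * h.z * x⁻¹) by group, hεfix, hxz]
    exact (mul_inv_eq_iff_eq_mul.1 key).symm
  exact absurd (h.cycMod_of_extra hS hxT (fun hh => hxN (Or.inl hh)) fun hh => hxN (Or.inr hh)) hnc

end Pt

end Cfsg.Agent.Char.HaradaEight
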