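import Mathlib
import Cfsg.Agent.Lib.Char.HaradaEightStruct

/-!
The three layers of the Frattini index of a subgroup along `E` and its centralizer, and the bound on the
group of automorphisms induced on a normal elementary abelian group of order eight.
-/

set_option autoImplicit false
set_option linter.style.haveILetI false
set_option linter.unusedSectionVars false

namespace Cfsg.Agent.Char.HaradaEight

open scoped commutatorElement

universe u

variable {S : Type u} [Group S]

/-- The trace of `E`. -/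
abbrev ePart (E H : Subgroup S) : Subgroup H := E.subgroupOf H

/-- The trace of the centralizer. -/
abbrev cPart (E H : Subgroup S) : Subgroup H := (Subgroup.centralizer (E : Set S)).subgroupOf H

variable [Finite S]

theorem index_three {E H : Subgroup S} [(ePart E H).Normal] [(cPart E H).Normal]
    (hle : ePart E H ≤ cPart E H) :
    (frattini H).index = (frattini H).relIndex (ePart E H) *
      ((ePart E H ⊔ frattini H).relIndex (cPart E H) * (cPart E H ⊔ frattini H).index) := by
  have h1 : (ePart E H ⊔ frattini H).relIndex (cPart E H) * (cPart E H ⊔ frattini H).index =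
      (ePart E H ⊔ frattini H).index := by
    rw [← Subgroup.relIndex_sup_right (H := cPart E H) (K := ePart E H ⊔ frattini H)]
    have h2 : cPart E H ⊔ (ePart E H ⊔ frattini H) = cPart E H ⊔ frattini H := by
      rw [← sup_assoc, sup_eq_left.2 hle]
    rw [h2, Subgroup.relIndex_mul_index (sup_le_sup_right hle _)]
  rw [h1, ← Subgroup.relIndex_sup_right (H := ePart E H) (K := frattini H),
    Subgroup.relIndex_mul_index le_sup_right]

theorem relIndex_inter {G : Type u} [Group G] [Finite G] (K D : Subgroup G) :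
    Nat.card (K ⊓ D : Subgroup G) * K.relIndex D = Nat.card D := by
  rw [Subgroup.relIndex, ← Subgroup.inf_subgroupOf_right K D]
  have h1 := ((K ⊓ D).subgroupOf D).card_mul_index
  rwa [Nat.card_congr (Subgroup.subgroupOfEquivOfLe inf_le_right).toEquiv] at h1

/-- A nontrivial element of the intersection halves the relative index. -/
theorem relIndex_half {G : Type u} [Group G] [Finite G] {K D : Subgroup G} {x : G} (hK : x ∈ K)
    (hD : x ∈ D) (hx : x ≠ 1) : 2 * K.relIndex D ≤ Nat.card D := by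
  rw [← relIndex_inter K D]
  refine Nat.mul_le_mul_right _ ?_
  exact (Subgroup.one_lt_card_iff_ne_bot _).2 fun hb =>
    hx (Subgroup.mem_bot.1 (hb ▸ (⟨hK, hD⟩ : x ∈ K ⊓ D)))

/-- A subgroup cyclic over one with elementary quotient has relative index at most two. -/
theorem relIndex_le_two {G : Type u} [Group G] [Finite G] {L D : Subgroup G} [L.Normal]
    (hsq : ∀ x : G, x * x ∈ L) {k : G} (hk : k ∈ D) (hD : ∀ x ∈ D, ∃ i : ℤ, (k ^ i)⁻¹ * x ∈ L) :
    L.relIndex D ≤ 2 := by
  classical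
  have hcase : ∀ x ∈ D, x ∈ L ∨ k⁻¹ * x ∈ L := by
    intro x hx
    obtain ⟨i, hi⟩ := hD x hx
    rcases Int.even_or_odd i with ⟨m, rfl⟩ | ⟨m, rfl⟩
    · left
      have h2 : k ^ (m + m) ∈ L := by
        rw [zpow_add, ← (Commute.refl k).mul_zpow]
        exact L.zpow_mem (hsq k) m
      have := L.mul_mem h2 hi
      rwa [mul_inv_cancel_left] at this
    · right
      have h2 : k ^ (2 * m) ∈ L := by
        rw [zpow_mul, zpow_two]
        exact L.zpow_mem (hsq k) m
      rw [show k⁻¹ * x = k ^ (2 * m) * ((k ^ (2 * m + 1))⁻¹ * x) by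
        rw [zpow_add_one, mul_inv_rev]; group]
      exact L.mul_mem h2 hi
  rw [Subgroup.relIndex, ← show Nat.card Bool = 2 by simp]
  refine Nat.card_le_card_of_injective
    (fun q : D ⧸ L.subgroupOf D => decide (q = ((1 : D) : D ⧸ L.subgroupOf D))) fun p q hpq => ?_
  induction p using QuotientGroup.induction_on with | _ p =>
  induction q using QuotientGroup.induction_on with | _ q =>
  have hiff := decide_eq_decide.1 hpq
  simp only [QuotientGroup.eq, Subgroup.mem_subgroupOf, mul_one, Subgroup.coe_inv, inv_mem_iff] at hiff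
  rw [QuotientGroup.eq, Subgroup.mem_subgroupOf]
  show (p : G)⁻¹ * q ∈ L
  by_cases hp : (p : G) ∈ L
  · exact L.mul_mem (L.inv_mem hp) (hiff.1 hp)
  · have h1 := (hcase p p.2).resolve_left hp
    have h2 := (hcase q q.2).resolve_left fun hh => hp (hiff.2 hh)
    rw [show (p : G)⁻¹ * q = (k⁻¹ * p)⁻¹ * (k⁻¹ * q) by group]
    exact L.mul_mem (L.inv_mem h1) h2

/-- A subgroup generated by two elements over one with elementary quotient. -/
theorem relIndex_le_four {G : Type u} [Group G] [Finite G] {L D : Subgroup G} [L.Normal]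
    (hsq : ∀ x : G, x * x ∈ L) {k y : G} (hk : k ∈ D) (hy : y ∈ D)
    (hD : ∀ x ∈ D, (∃ i : ℤ, (k ^ i)⁻¹ * x ∈ L) ∨ ∃ i : ℤ, (k ^ i)⁻¹ * (y⁻¹ * x) ∈ L) :
    L.relIndex D ≤ 4 := by
  classical
  have hcase : ∀ x, (∃ i : ℤ, (k ^ i)⁻¹ * x ∈ L) → x ∈ L ∨ k⁻¹ * x ∈ L := by
    rintro x ⟨i, hi⟩
    rcases Int.even_or_odd i with ⟨m, rfl⟩ | ⟨m, rfl⟩
    · left
      have h2 : k ^ (m + m) ∈ L := by
        rw [zpow_add, ← (Commute.refl k).mul_zpow]
        exact L.zpow_mem (hsq k) m
      have := L.mul_mem h2 hi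
      rwa [mul_inv_cancel_left] at this
    · right
      have h2 : k ^ (2 * m) ∈ L := by
        rw [zpow_mul, zpow_two]
        exact L.zpow_mem (hsq k) m
      rw [show k⁻¹ * x = k ^ (2 * m) * ((k ^ (2 * m + 1))⁻¹ * x) by
        rw [zpow_add_one, mul_inv_rev]; group]
      exact L.mul_mem h2 hi
  rw [Subgroup.relIndex, ← show Nat.card (Bool × Bool) = 4 by simp]
  refine Nat.card_le_card_of_surjective
    (fun b => (((bif b.1 then ⟨y, hy⟩ else 1) * (bif b.2 then ⟨k, hk⟩ else 1) : D) : D ⧸ L.subgroupOf D))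
    fun q => ?_
  induction q using QuotientGroup.induction_on with | _ q =>
  rcases hD q q.2 with hh | hh <;> rcases hcase _ hh with h1 | h1
  · refine ⟨(false, false), ?_⟩
    rw [QuotientGroup.eq, Subgroup.mem_subgroupOf]; simpa using h1
  · refine ⟨(false, true), ?_⟩
    rw [QuotientGroup.eq, Subgroup.mem_subgroupOf]; simpa using h1
  · refine ⟨(true, false), ?_⟩
    rw [QuotientGroup.eq, Subgroup.mem_subgroupOf]; simpa using h1
  · refine ⟨(true, true), ?_⟩
    rw [QuotientGroup.eq, Subgroup.mem_subgroupOf]; simpa [mul_assoc] using h1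

/-- The group induced on a normal elementary abelian subgroup of order eight has order at most eight,
and is not abelian when it has order eight. -/
theorem aut_bound (hS : IsPGroup 2 S) {E : Subgroup S} (hn : E.Normal)
    (hcomm : ∀ x ∈ E, ∀ y ∈ E, x * y = y * x) (hsq : ∀ x ∈ E, x * x = 1) (hE : Nat.card E = 8) :
    (Subgroup.centralizer (E : Set S)).index ≤ 8 ∧
      ((Subgroup.centralizer (E : Set S)).index = 8 →
        ∃ g v : S, ⁅g, v⁆ ∉ Subgroup.centralizer (E : Set S)) := by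
  classical
  haveI : Fact (Nat.Prime 2) := ⟨Nat.prime_two⟩
  haveI := hS.isNilpotent
  obtain ⟨⟨w, hwE, hwZ⟩, hw1⟩ := (Subgroup.ne_bot_iff_exists_ne_one).1 (Agent.Grp.inf_center_ne_bot E
    fun hb => by rw [hb, Subgroup.card_bot] at hE; omega)
  have hw1' : w ≠ 1 := fun hh => hw1 (Subtype.ext hh)
  set Z := Subgroup.zpowers w with hZ
  have hZmem : ∀ {x : S}, x ∈ Z → x = 1 ∨ x = w := by
    intro x hx
    obtain ⟨i, rfl⟩ := Subgroup.mem_zpowers_iff.1 hx
    rcases Int.even_or_odd i with ⟨m, rfl⟩ | ⟨m, rfl⟩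
    · left; rw [zpow_add, ← (Commute.refl w).mul_zpow, hsq w hwE, one_zpow]
    · right; rw [zpow_add_one, zpow_mul, zpow_two, hsq w hwE, one_zpow, one_mul]
  have hwfix : ∀ s : S, s * w * s⁻¹ = w := fun s => by
    rw [Subgroup.mem_center_iff.1 hwZ s, mul_inv_cancel_right]
  haveI : Z.Normal := ⟨fun x hx g => by
    rcases hZmem hx with rfl | rfl
    · rw [mul_one, mul_inv_cancel]; exact Z.one_mem
    · rw [hwfix g]; exact Subgroup.mem_zpowers _⟩
  have hZE : Z ≤ E := Subgroup.zpowers_le.2 hwE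
  haveI := (hS.to_quotient Z).isNilpotent
  haveI := hn
  haveI : (E.map (QuotientGroup.mk' Z)).Normal := hn.map _ (QuotientGroup.mk'_surjective _)
  have hne : E.map (QuotientGroup.mk' Z) ≠ ⊥ := fun hb => by
    have hle : E ≤ Z := fun x hx => (QuotientGroup.eq_one_iff x).1
      (Subgroup.mem_bot.1 (hb ▸ Subgroup.mem_map_of_mem (QuotientGroup.mk' Z) hx))
    have h1 := Subgroup.card_le_of_le hle
    rw [hE, Nat.card_zpowers] at h1
    have h2 : orderOf w ∣ 2 := orderOf_dvd_of_pow_eq_one (by rw [pow_two]; exact hsq w hwE)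
    have := Nat.le_of_dvd (by norm_num) h2
    omega
  obtain ⟨⟨q, hqE, hqZ⟩, hq1⟩ := (Subgroup.ne_bot_iff_exists_ne_one).1 (Agent.Grp.inf_center_ne_bot _ hne)
  obtain ⟨p, hpE, rfl⟩ := Subgroup.mem_map.1 hqE
  have hp1 : p ∉ Z := fun hh => hq1 (Subtype.ext ((QuotientGroup.eq_one_iff p).2 hh))
  have hpfix : ∀ s : S, s * p * s⁻¹ = p ∨ s * p * s⁻¹ = p * w := by
    intro s
    have h1 : ((s * p * s⁻¹ : S) : S ⧸ Z) = (p : S ⧸ Z) := by
      have h2 : (s : S ⧸ Z) * p = (p : S ⧸ Z) * s := Subgroup.mem_center_iff.1 hqZ (s : S ⧸ Z)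
      rw [QuotientGroup.mk_mul, QuotientGroup.mk_mul, QuotientGroup.mk_inv, h2, mul_inv_cancel_right]
    have h3 := QuotientGroup.eq.1 h1.symm
    rcases hZmem h3 with hh | hh
    · left; exact (inv_mul_eq_one.1 hh).symm
    · right; rw [← hh, mul_inv_cancel_left]
  let PP : Subgroup S :=
    { carrier := {x | x = 1 ∨ x = w ∨ x = p ∨ x = p * w}
      one_mem' := Or.inl rfl
      mul_mem' := by
        have hww := hsq w hwE
        have hpp := hsq p hpE
        have hwp : w * p = p * w := hcomm w hwE p hpE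
        have hwwn : ∀ z, w * (w * z) = z := fun z => by rw [← mul_assoc, hww, one_mul]
        have hppn : ∀ z, p * (p * z) = z := fun z => by rw [← mul_assoc, hpp, one_mul]
        have hwpn : ∀ z, w * (p * z) = p * (w * z) := fun z => by rw [← mul_assoc, hwp, mul_assoc]
        intro x y hx hy
        rcases hx with h1 | h1 | h1 | h1 <;> rcases hy with h2 | h2 | h2 | h2 <;>
          simp [h1, h2, mul_assoc, hww, hpp, hwp, hwwn, hppn, hwpn]
      inv_mem' := by
        intro x hx
        have hiw := inv_eq_of_mul_eq_one_left (hsq w hwE)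
        have hip := inv_eq_of_mul_eq_one_left (hsq p hpE)
        rcases hx with h1 | h1 | h1 | h1 <;> simp [h1, hiw, hip, hcomm w hwE p hpE] }
  have hPPE : PP ≤ E := by
    intro x hx
    rcases hx with h1 | h1 | h1 | h1 <;> rw [h1]
    exacts [E.one_mem, hwE, hpE, E.mul_mem hpE hwE]
  have hPPcard : Nat.card PP = 4 := by
    have hinj : Function.Injective
        (![1, ⟨w, Or.inr (Or.inl rfl)⟩, ⟨p, Or.inr (Or.inr (Or.inl rfl))⟩,
          ⟨p * w, Or.inr (Or.inr (Or.inr rfl))⟩] : Fin 4 → PP) := by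
      have hpw : p ≠ w := fun hh => hp1 (hh ▸ Subgroup.mem_zpowers w)
      have hp0 : p ≠ 1 := fun hh => hp1 (hh ▸ Z.one_mem)
      have hpw1 : p * w ≠ 1 := fun hh => hpw (by
        rw [eq_inv_of_mul_eq_one_left hh, inv_eq_of_mul_eq_one_left (hsq w hwE)])
      intro i j hij
      have h' := congrArg Subtype.val hij
      fin_cases i <;> fin_cases j <;> simp at h' ⊢ <;> first
        | exact hw1' h' | exact hw1' h'.symm | exact hp0 h' | exact hp0 h'.symm | exact hpw h'
        | exact hpw h'.symm | exact hpw1 h' | exact hpw1 h'.symm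
    have h2 := Nat.card_le_card_of_injective _ hinj
    have hsurj : Function.Surjective
        (![1, ⟨w, Or.inr (Or.inl rfl)⟩, ⟨p, Or.inr (Or.inr (Or.inl rfl))⟩,
          ⟨p * w, Or.inr (Or.inr (Or.inr rfl))⟩] : Fin 4 → PP) := by
      rintro ⟨x, hx⟩
      rcases hx with h1 | h1 | h1 | h1
      exacts [⟨0, Subtype.ext h1.symm⟩, ⟨1, Subtype.ext h1.symm⟩, ⟨2, Subtype.ext h1.symm⟩,
        ⟨3, Subtype.ext h1.symm⟩]
    have h3 := Nat.card_le_card_of_surjective _ hsurj
    simp at h2 h3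
    omega
  obtain ⟨e, heE, heP⟩ : ∃ e ∈ E, e ∉ PP := by
    by_contra hc
    push Not at hc
    have := Subgroup.card_le_of_le (hc : E ≤ PP)
    rw [hE, hPPcard] at this
    omega
  have hidx : (PP.subgroupOf E).index = 2 := by
    have h1 := (PP.subgroupOf E).card_mul_index
    rw [Nat.card_congr (Subgroup.subgroupOfEquivOfLe hPPE).toEquiv, hPPcard, hE] at h1
    omega
  have htwo : ∀ {x y : S}, x ∈ E → y ∈ E → x ∉ PP → y ∉ PP → x * y ∈ PP := by
    intro x y hx hy hx' hy'
    exact Subgroup.mem_subgroupOf.1 ((Subgroup.mul_mem_iff_of_index_two hidx).2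
      ⟨fun hh => absurd (Subgroup.mem_subgroupOf.1 hh) hx', fun hh => absurd (Subgroup.mem_subgroupOf.1 hh) hy'⟩ :
        (⟨x, hx⟩ * ⟨y, hy⟩ : E) ∈ PP.subgroupOf E)
  have hPPconj : ∀ (s x : S), x ∈ PP → s * x * s⁻¹ ∈ PP := by
    intro s x hx
    rcases hx with h1 | h1 | h1 | h1 <;> rw [h1]
    · rw [mul_one, mul_inv_cancel]; exact Or.inl rfl
    · rw [hwfix]; exact Or.inr (Or.inl rfl)
    · rcases hpfix s with hh | hh <;> rw [hh]
      exacts [Or.inr (Or.inr (Or.inl rfl)), Or.inr (Or.inr (Or.inr rfl))]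
    · rw [show s * (p * w) * s⁻¹ = (s * p * s⁻¹) * (s * w * s⁻¹) by group, hwfix]
      rcases hpfix s with hh | hh <;> rw [hh]
      · exact Or.inr (Or.inr (Or.inr rfl))
      · rw [mul_assoc, hsq w hwE, mul_one]; exact Or.inr (Or.inr (Or.inl rfl))
  have hemove : ∀ s : S, e * (s * e * s⁻¹) ∈ PP := fun s =>
    htwo heE (hn.conj_mem e heE s) heP fun hh => heP (by
      have := hPPconj s⁻¹ _ hh
      rwa [show s⁻¹ * (s * e * s⁻¹) * s⁻¹⁻¹ = e by group] at this)
  set C := Subgroup.centralizer (E : Set S)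
  -- elements with the same effect on `p` and `e` are congruent
  have hdet : ∀ s t : S, s * p * s⁻¹ = t * p * t⁻¹ → s * e * s⁻¹ = t * e * t⁻¹ → s⁻¹ * t ∈ C := by
    intro s t hp he
    have hfix : ∀ x ∈ E, s * x * s⁻¹ = t * x * t⁻¹ := by
      have hPP : ∀ x ∈ PP, s * x * s⁻¹ = t * x * t⁻¹ := by
        intro x hx
        rcases hx with h1 | h1 | h1 | h1 <;> rw [h1]
        · simp
        · rw [hwfix, hwfix]
        · exact hp
        · rw [show s * (p * w) * s⁻¹ = (s * p * s⁻¹) * (s * w * s⁻¹) by group,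
            show t * (p * w) * t⁻¹ = (t * p * t⁻¹) * (t * w * t⁻¹) by group, hp, hwfix, hwfix]
      intro x hx
      by_cases hxP : x ∈ PP
      · exact hPP x hxP
      · have h1 := hPP _ (htwo heE hx heP hxP)
        rw [show s * (e * x) * s⁻¹ = (s * e * s⁻¹) * (s * x * s⁻¹) by group,
          show t * (e * x) * t⁻¹ = (t * e * t⁻¹) * (t * x * t⁻¹) by group, he] at h1
        exact mul_left_cancel h1
    refine Subgroup.mem_centralizer_iff.2 fun x hx => ?_
    have h1 := hfix x hx
    calc x * (s⁻¹ * t) = s⁻¹ * (s * x * s⁻¹) * t := by group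
      _ = s⁻¹ * (t * x * t⁻¹) * t := by rw [h1]
      _ = s⁻¹ * t * x := by group
  let f : S ⧸ C → (Bool × Bool) × Bool := fun q =>
    ((decide (q.out * p * q.out⁻¹ = p), decide (e * (q.out * e * q.out⁻¹) ∈ Z)),
      decide (e * (q.out * e * q.out⁻¹) = 1 ∨ e * (q.out * e * q.out⁻¹) = p))
  have hcode : ∀ s t : S, (s * p * s⁻¹ = p ↔ t * p * t⁻¹ = p) →
      (e * (s * e * s⁻¹) ∈ Z ↔ e * (t * e * t⁻¹) ∈ Z) →
      ((e * (s * e * s⁻¹) = 1 ∨ e * (s * e * s⁻¹) = p) ↔ (e * (t * e * t⁻¹) = 1 ∨ e * (t * e * t⁻¹) = p)) →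
      s⁻¹ * t ∈ C := by
    intro s t h1 h2 h3
    have hpw : p ≠ p * w := fun hh => hw1' (left_eq_mul.1 hh)
    refine hdet s t ?_ (mul_left_cancel (a := e) ?_)
    · rcases hpfix s with hs | hs <;> rcases hpfix t with ht | ht <;> rw [hs, ht]
      · exact absurd ((h1.1 hs).symm.trans ht) hpw
      · exact absurd ((h1.2 ht).symm.trans hs) hpw
    · have hpZ : p ∉ Z := hp1
      have hpwZ : p * w ∉ Z := fun hh => hp1 ((Subgroup.mul_mem_cancel_right Z (Subgroup.mem_zpowers w)).1 hh)
      rcases hemove s with hs | hs | hs | hs <;> rcases hemove t with ht | ht | ht | ht <;>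
        rw [hs, ht] at h2 h3 ⊢ <;> first
          | rfl
          | exact absurd (h2.1 Z.one_mem) hpZ | exact absurd (h2.1 Z.one_mem) hpwZ
          | exact absurd (h2.2 Z.one_mem) hpZ | exact absurd (h2.2 Z.one_mem) hpwZ
          | exact absurd (h2.1 (Subgroup.mem_zpowers w)) hpZ | exact absurd (h2.1 (Subgroup.mem_zpowers w)) hpwZ
          | exact absurd (h2.2 (Subgroup.mem_zpowers w)) hpZ | exact absurd (h2.2 (Subgroup.mem_zpowers w)) hpwZ
          | (rcases h3.1 (Or.inl rfl) with hh | hh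
             · exact hh.symm
             · exact absurd (hh ▸ Subgroup.mem_zpowers w) hpZ)
          | (rcases h3.2 (Or.inl rfl) with hh | hh
             · exact hh
             · exact absurd (hh ▸ Subgroup.mem_zpowers w) hpZ)
          | (rcases h3.1 (Or.inr rfl) with hh | hh
             · exact absurd (hh ▸ Z.one_mem) hpwZ
             · exact hh.symm)
          | (rcases h3.2 (Or.inr rfl) with hh | hh
             · exact absurd (hh ▸ Z.one_mem) hpwZ
             · exact hh)
  have hfinj : Function.Injective f := by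
    intro q q' hqq
    simp only [f, Prod.ext_iff, decide_eq_decide] at hqq
    obtain ⟨⟨h1, h2⟩, h3⟩ := hqq
    rw [← QuotientGroup.out_eq' q, ← QuotientGroup.out_eq' q', QuotientGroup.eq]
    exact hcode _ _ h1 h2 h3
  refine ⟨le_trans (Nat.card_le_card_of_injective f hfinj) (by simp), fun h8 => ?_⟩
  have hbij : Function.Bijective f := (Nat.bijective_iff_injective_and_card f).2
    ⟨hfinj, by rw [show Nat.card (S ⧸ C) = 8 from h8]; simp⟩
  obtain ⟨qg, hqg⟩ := hbij.2 ((true, false), true)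
  obtain ⟨qv, hqv⟩ := hbij.2 ((false, true), true)
  simp only [f, Prod.ext_iff, decide_eq_true_eq, decide_eq_false_iff_not] at hqg hqv
  obtain ⟨⟨g1, g2⟩, g3⟩ := hqg
  obtain ⟨⟨v1, v2⟩, v3⟩ := hqv
  have g3' : e * (qg.out * e * qg.out⁻¹) = p := g3.resolve_left fun hh => g2 (hh ▸ Z.one_mem)
  have v3' : e * (qv.out * e * qv.out⁻¹) = 1 := v3.resolve_right fun hh => hp1 (hh ▸ v2)
  refine ⟨qg.out, qv.out, fun hc => ?_⟩
  set g := qg.out
  set v := qv.out
  have hge : g * e * g⁻¹ = e * p := by rw [← g3', ← mul_assoc e e, hsq e heE, one_mul]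
  have hve : v * e * v⁻¹ = e := by
    conv_rhs => rw [← mul_one e, ← v3', ← mul_assoc e e, hsq e heE, one_mul]
  have hvp : v * p * v⁻¹ = p * w := (hpfix v).resolve_left v1
  have h1 : (v * g) * e * (v * g)⁻¹ = e * (p * w) := by
    rw [show (v * g) * e * (v * g)⁻¹ = v * (g * e * g⁻¹) * v⁻¹ by group, hge,
      show v * (e * p) * v⁻¹ = (v * e * v⁻¹) * (v * p * v⁻¹) by group, hve, hvp]
  have h2 : (g * v) * e * (g * v)⁻¹ = e * p := by
    rw [show (g * v) * e * (g * v)⁻¹ = g * (v * e * v⁻¹) * g⁻¹ by group, hve, hge]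
  have h3 : (g * v) * e * (g * v)⁻¹ = (v * g) * e * (v * g)⁻¹ := by
    rw [show g * v = ⁅g, v⁆ * (v * g) by rw [commutatorElement_def]; group,
      show ⁅g, v⁆ * (v * g) * e * (⁅g, v⁆ * (v * g))⁻¹ = ⁅g, v⁆ * ((v * g) * e * (v * g)⁻¹) * ⁅g, v⁆⁻¹ by group,
      ← Subgroup.mem_centralizer_iff.1 hc _ (hn.conj_mem e heE (v * g)), mul_inv_cancel_right]
  rw [h1, h2, ← mul_assoc] at h3
  exact hw1' (left_eq_mul.1 h3)

end Cfsg.Agent.Char.HaradaEight
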