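import Mathlib
import Cfsg.Agent.Lib.Char.HaradaEightLayers

/-!
When the centralizer of `E` is cyclic modulo `E`: in a subgroup inducing a four-group on `E` and meeting
that centralizer outside `E`, either the trace of `E` is almost inside the Frattini subgroup or the trace
of the centralizer is.
-/

set_option autoImplicit false
set_option linter.style.haveILetI false
set_option linter.unusedSectionVars false

namespace Cfsg.Agent.Char.HaradaEight

open scoped commutatorElement

universe u

variable {S : Type u} [Group S]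

theorem index_two_mul {G : Type u} [Group G] [Finite G] {V F : Subgroup G} (hle : F ≤ V)
    (hc : 2 * Nat.card F = Nat.card V) {x y : G} (hx : x ∈ V) (hy : y ∈ V) (hx' : x ∉ F) (hy' : y ∉ F) :
    x * y ∈ F := by
  have hidx : (F.subgroupOf V).index = 2 := by
    have h1 := (F.subgroupOf V).card_mul_index
    rw [Nat.card_congr (Subgroup.subgroupOfEquivOfLe hle).toEquiv, ← hc] at h1
    have : 0 < Nat.card F := Nat.card_pos
    nlinarith
  exact Subgroup.mem_subgroupOf.1 ((Subgroup.mul_mem_iff_of_index_two hidx).2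
    ⟨fun hh => absurd (Subgroup.mem_subgroupOf.1 hh) hx', fun hh => absurd (Subgroup.mem_subgroupOf.1 hh) hy'⟩ :
      (⟨x, hx⟩ * ⟨y, hy⟩ : V) ∈ F.subgroupOf V)

namespace Pt

variable {E : Subgroup S} {a : S} (h : Pt E a) [Finite S] (hS : IsPGroup 2 S)
include h hS

theorem cent_comm_of_cyc (hcyc : CycMod E (Subgroup.centralizer (E : Set S))) {c d : S}
    (hc : c ∈ Subgroup.centralizer (E : Set S)) (hd : d ∈ Subgroup.centralizer (E : Set S)) :
    c * d = d * c := by
  obtain ⟨k, hk, hgen⟩ := hcyc
  obtain ⟨i, hi⟩ := hgen c hc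
  obtain ⟨j, hj⟩ := hgen d hd
  rw [show c = k ^ i * ((k ^ i)⁻¹ * c) by group, show d = k ^ j * ((k ^ j)⁻¹ * d) by group]
  have c1 : Commute ((k ^ i)⁻¹ * c) (k ^ j) := h.cent_comm (Subgroup.zpow_mem _ hk j) hi
  have c2 : Commute ((k ^ j)⁻¹ * d) (k ^ i) := h.cent_comm (Subgroup.zpow_mem _ hk i) hj
  have c3 : Commute ((k ^ i)⁻¹ * c) ((k ^ j)⁻¹ * d) := h.comm _ hi _ hj
  exact ((((Commute.refl k).zpow_zpow i j).mul_right c2.symm).mul_left (c1.mul_right c3)).eq

/-- Involutions of the cyclic part are congruent and fixed by every conjugation. -/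
theorem invol_conj (hcyc : CycMod E (Subgroup.centralizer (E : Set S))) {c : S}
    (hc : c ∈ Subgroup.centralizer (E : Set S)) (hcE : c ∉ E) (hc2 : c * c ∈ E) (g : S) :
    c⁻¹ * (g * c * g⁻¹) ∈ E := by
  haveI := h.normal
  obtain ⟨k, hk, hgen⟩ := hcyc
  have hin : ∀ d ∈ Subgroup.centralizer (E : Set S), d ∈ Subgroup.zpowers k ⊔ E := fun d hd =>
    mem_sup_zpowers.2 (hgen d hd)
  refine invol_congr (hin c hc) (hin _ (h.cent_conj hc g)) hc2 ?_ hcE ?_
  · rw [show g * c * g⁻¹ * (g * c * g⁻¹) = g * (c * c) * g⁻¹ by group]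
    exact h.normal.conj_mem _ hc2 g
  · intro hh
    have := h.normal.conj_mem _ hh g⁻¹
    rw [show g⁻¹ * (g * c * g⁻¹) * g⁻¹⁻¹ = c by group] at this
    exact hcE this

/-- An element centralizing the plane, inverted by `a` and centralizing the cyclic part modulo `E`,
has square generating that part. -/
theorem square_generates (hcyc : CycMod E (Subgroup.centralizer (E : Set S))) {x : S}
    (hx : x ∈ Subgroup.centralizer (plane E a : Set S)) (hxC : x ∉ Subgroup.centralizer (E : Set S))
    (hxa : x * a ∉ Subgroup.centralizer (E : Set S)) (hinv : a * x * a = x⁻¹)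
    (hxc : ∀ d ∈ Subgroup.centralizer (E : Set S), d⁻¹ * (x * d * x⁻¹) ∈ E)
    {c : S} (hc : c ∈ Subgroup.centralizer (E : Set S)) (hcE : c ∉ E)
    (hcδ : c⁻¹ * (a * c * a) ∈ E) {d : S} (hd : d ∈ Subgroup.centralizer (E : Set S)) :
    ∀ y ∈ Subgroup.centralizer (E : Set S), ∃ i : ℤ, ((x * d * (x * d)) ^ i)⁻¹ * y ∈ E := by
  haveI := h.normal
  set C := Subgroup.centralizer (E : Set S) with hC
  obtain ⟨k, hk, hgen⟩ := hcyc
  obtain ⟨J, hJ⟩ := hS k
  set q : S →* S ⧸ E := QuotientGroup.mk' E with hq
  have hqe : ∀ {u v : S}, q u = q v ↔ u⁻¹ * v ∈ E := fun {u v} => QuotientGroup.eq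
  have hq1 : ∀ {u : S}, q u = 1 ↔ u ∈ E := fun {u} => QuotientGroup.eq_one_iff u
  have hkJ : q k ^ ((2 : ℤ) ^ J) = 1 := by
    rw [show ((2 : ℤ) ^ J) = ((2 ^ J : ℕ) : ℤ) by push_cast; rfl, zpow_natCast, ← map_pow, hJ, map_one]
  have hkmod : ∀ {i j : ℤ}, (2 : ℤ) ^ J ∣ i - j → q k ^ i = q k ^ j := by
    rintro i j ⟨t, ht⟩
    rw [show i = (2 : ℤ) ^ J * t + j by linarith, zpow_add, zpow_mul, hkJ, one_zpow, one_mul]
  obtain ⟨i, hi⟩ := hgen _ (h.a_mul_cent hk)
  have hak : q a * q k * q a = q k ^ i := by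
    rw [← map_mul, ← map_mul, ← map_zpow, eq_comm]
    exact hqe.2 hi
  have haa : q a * q a = 1 := by rw [← map_mul, h.a_sq, map_one]
  have hakz : ∀ t : ℤ, q a * q k ^ t * q a = q k ^ (i * t) := by
    intro t
    rw [zpow_mul, ← hak]
    have hinv' : (q a)⁻¹ = q a := inv_eq_of_mul_eq_one_left haa
    conv_lhs => arg 2; rw [← hinv']
    conv_rhs => arg 1; arg 2; rw [← hinv']
    rw [conj_zpow]
  have hxk : Commute (q x) (q k) := by
    have h1 : q k = q (x * k * x⁻¹) := hqe.2 (hxc k hk)
    rw [map_mul, map_mul, map_inv] at h1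
    show q x * q k = q k * q x
    conv_rhs => rw [h1]
    rw [inv_mul_cancel_right]
  have hx2 : x * x ∈ C := h.sq_mem_cent hx
  obtain ⟨n, hn⟩ := hgen _ hx2
  have hxn : q x * q x = q k ^ n := by
    rw [← map_mul, ← map_zpow, eq_comm]
    exact hqe.2 hn
  -- the exponent is odd
  have hnodd : Odd n := by
    rcases Int.even_or_odd n with ⟨m, hm⟩ | hodd
    swap
    · exact hodd
    exfalso
    -- find a fixed element of the coset
    obtain ⟨t, ht⟩ : ∃ t : ℤ, q k ^ (i * (t - m)) = q k ^ (t + m) := by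
      by_cases hk2 : k * k ∈ E
      · refine ⟨0, ?_⟩
        have h2 : q k * q k = 1 := by rw [← map_mul]; exact hq1.2 hk2
        have hi' : q k ^ i = q k := by
          rcases Int.even_or_odd i with ⟨u, hu⟩ | ⟨u, hu⟩
          · exfalso
            have h1 : q k ^ i = 1 := by
              rw [hu, zpow_add, ← (Commute.refl _).mul_zpow, h2, one_zpow]
            rw [h1] at hak
            have hk1 : q k = 1 := by
              calc q k = q a * q a * q k * (q a * q a) := by rw [haa, one_mul, mul_one]
                _ = q a * (q a * q k * q a) * q a := by group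
                _ = 1 := by rw [hak, mul_one, haa]
            obtain ⟨j, hj⟩ := hgen c hc
            have h3 : q c = 1 := by
              rw [← hqe.2 hj, map_zpow, hk1, one_zpow]
            exact hcE (hq1.1 h3)
          · rw [hu, zpow_add_one, zpow_mul, zpow_two, h2, one_zpow, one_mul]
        have hneg : (q k)⁻¹ = q k := inv_eq_of_mul_eq_one_left h2
        rw [zpow_mul, hi', zero_add, zero_sub, zpow_neg, ← inv_zpow, hneg]
      · obtain ⟨j, hj1, hj2⟩ := exists_pow_invol hS E hk2
        -- `i - 1` is twice an odd number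
        have hi_odd : Odd i := by
          rcases Int.even_or_odd i with ⟨u, hu⟩ | hodd
          swap
          · exact hodd
          exfalso
          -- an even power is never a generator
          have h1 : q k = q k ^ (i * i) := by
            rw [← hakz i, ← hak, show q a * (q a * q k * q a) * q a = (q a * q a) * q k * (q a * q a) by group,
              haa, one_mul, mul_one]
          have h2 : (q k) ^ (i * i - 1) = 1 := by rw [zpow_sub_one, ← h1, mul_inv_cancel]
          have hcop : IsCoprime ((2 : ℤ) ^ J) (i * i - 1) := by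
            refine IsCoprime.pow_left ?_
            exact ⟨2 * u * u, -1, by rw [hu]; ring⟩
          obtain ⟨p, r, hpr⟩ := hcop
          have h3 : q k = 1 := by
            rw [← zpow_one (q k), ← hpr, zpow_add, mul_comm p, zpow_mul, hkJ, one_zpow, one_mul, mul_comm r,
              zpow_mul, h2, one_zpow]
          exact hk2 (E.mul_mem (hq1.1 h3) (hq1.1 h3))
        obtain ⟨u, hu⟩ := hi_odd
        have hu_odd : Odd u := by
          rcases Int.even_or_odd u with ⟨v, hv⟩ | hodd
          swap
          · exact hodd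
          exfalso
          set x1 := k ^ 2 ^ j with hx1
          have hx12 : x1 * x1 ∉ E := by rwa [hx1, ← (Commute.refl k).mul_pow]
          have hx14 : x1 * x1 * (x1 * x1) ∈ E := by
            rw [hx1, ← (Commute.refl k).mul_pow, ← pow_two, ← pow_mul, ← pow_succ]; exact hj2
          have hx1C : x1 ∈ C := C.pow_mem hk _
          have hfix : x1⁻¹ * (a * x1 * a) ∈ E := by
            apply hqe.1
            rw [map_mul, map_mul, hx1, map_pow, ← zpow_natCast, hakz, mul_comm, zpow_mul, zpow_natCast,
              ← map_pow, ← hx1]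
            have h4 : q x1 ^ (4 : ℤ) = 1 := by
              rw [← map_zpow]
              refine hq1.2 ?_
              rw [show (4 : ℤ) = ((4 : ℕ) : ℤ) from rfl, zpow_natCast, pow_succ, pow_succ, pow_succ, pow_one,
                mul_assoc]
              exact hx14
            rw [hu, hv, show 2 * (v + v) + 1 = 4 * v + 1 by ring, zpow_add_one, zpow_mul, h4, one_zpow,
              one_mul]
          have hx1E : x1 ∉ E := fun hh => hx12 (E.mul_mem hh hh)
          have h5 := h.cent_fixed_unique hc hx1C hcδ hfix hcE hx1E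
          -- the fixed coset has order two
          have hc2 : c * c ∈ E := by
            by_contra h0
            have hδ2 : (c * c)⁻¹ * (a * (c * c) * a) ∈ E := by
              apply hqe.1
              have e1 : q c = q (a * c * a) := hqe.2 hcδ
              rw [map_mul, map_mul, map_mul, map_mul]
              rw [map_mul, map_mul] at e1
              conv_lhs => rw [e1]
              rw [show q a * q c * q a * (q a * q c * q a) = q a * q c * (q a * q a) * q c * q a by group,
                haa]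
              group
            have := h.cent_fixed_unique hc (C.mul_mem hc hc) hcδ hδ2 hcE h0
            rw [inv_mul_cancel_left] at this
            exact hcE this
          refine hx12 (hq1.1 ?_)
          rw [map_mul, ← hqe.2 h5, ← map_mul]
          exact hq1.2 hc2
        have hcop : IsCoprime u ((2 : ℤ) ^ J) := by
          obtain ⟨w, hw⟩ := hu_odd
          exact IsCoprime.pow_right ⟨1, -w, by rw [hw]; ring⟩
        obtain ⟨p, r, hpr⟩ := hcop
        refine ⟨(u + 1) * m * p, hkmod ⟨-2 * (u + 1) * m * r, ?_⟩⟩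
        rw [hu]
        linear_combination (2 * (u + 1) * m) * hpr
    set y := x * k ^ (t - m) with hy
    have hy' : q y = q x * q k ^ (t - m) := by rw [hy, map_mul, map_zpow]
    have hfix : y⁻¹ * (a * y * a) ∈ E := by
      apply hqe.1
      rw [hy', map_mul, map_mul, hy']
      have hxi : q a * q x * q a = (q x)⁻¹ := by rw [← map_mul, ← map_mul, hinv, map_inv]
      calc q x * q k ^ (t - m) = (q x)⁻¹ * (q x * q x) * q k ^ (t - m) := by group
        _ = (q x)⁻¹ * q k ^ (t + m) := by
          rw [hxn, hm, mul_assoc, ← zpow_add, show m + m + (t - m) = t + m by ring]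
        _ = (q a * q x * q a) * (q a * q k ^ (t - m) * q a) := by rw [hxi, hakz, ← ht]
        _ = q a * q x * (q a * q a) * q k ^ (t - m) * q a := by group
        _ = q a * (q x * q k ^ (t - m)) * q a := by rw [haa]; group
    have hyT : y ∈ Subgroup.centralizer (plane E a : Set S) :=
      Subgroup.mul_mem _ hx (h.cent_le_centW (Subgroup.zpow_mem _ hk _))
    have hyC : y ∉ C := fun hh => hxC ((Subgroup.mul_mem_cancel_right _ (C.zpow_mem hk _)).1 hh)
    have hya : y * a ∉ C := fun hh => hxa (by
      have h1 : y * a = x * a * (a * k ^ (t - m) * a) := by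
        rw [hy, show x * a * (a * k ^ (t - m) * a) = x * (a * a) * k ^ (t - m) * a by group, h.a_sq, mul_one]
      rw [h1] at hh
      exact (Subgroup.mul_mem_cancel_right _ (h.a_mul_cent (C.zpow_mem hk _))).1 hh)
    have hout : ∀ {v : S}, v ∈ E → v ∈ C := fun hv => h.E_le_cent hv
    have hy0 : ¬ (y ∈ E ∨ y * a ∈ E) := fun hh => hh.elim (fun h' => hyC (hout h')) fun h' => hya (hout h')
    have hc0 : ¬ (c ∈ E ∨ c * a ∈ E) := fun hh => hh.elim hcE (h.cent_not_a hc)
    rcases h.fixed_two hyT (h.cent_le_centW hc) hfix hcδ hy0 hc0 with hh | hh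
    · refine hyC ?_
      have := C.mul_mem hc (C.inv_mem (hout hh))
      rwa [mul_inv_rev, inv_inv, mul_inv_cancel_left] at this
    · refine hya ?_
      have h1 := C.mul_mem hc (h.a_mul_cent (C.inv_mem (hout hh)))
      rwa [show c * (a * (y⁻¹ * c * a)⁻¹ * a) = c * (a * a⁻¹) * c⁻¹ * y * a by group, mul_inv_cancel,
        mul_one, mul_inv_cancel, one_mul] at h1
  intro y hy
  obtain ⟨j, hj⟩ := hgen y hy
  obtain ⟨o, ho⟩ := hgen d hd
  have hdq : q d = q k ^ o := by rw [← map_zpow, eq_comm]; exact hqe.2 ho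
  have hyq : q y = q k ^ j := by rw [← map_zpow, eq_comm]; exact hqe.2 hj
  obtain ⟨w, hw⟩ := hnodd
  have hcop : IsCoprime (n + (o + o)) ((2 : ℤ) ^ J) :=
    IsCoprime.pow_right ⟨1, -(w + o), by rw [hw]; ring⟩
  obtain ⟨p, r, hpr⟩ := hcop
  refine ⟨p * j, hqe.1 ?_⟩
  have hsq : q (x * d * (x * d)) = q k ^ (n + (o + o)) := by
    rw [map_mul, map_mul, hdq, (hxk.symm.zpow_left o).mul_mul_mul_comm, hxn, ← zpow_add, ← zpow_add]
  rw [map_zpow, hsq, hyq, ← zpow_mul]
  exact hkmod ⟨-r * j, by linear_combination j * hpr⟩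

/-- The trouble case does not occur. -/
theorem trouble (hcyc : CycMod E (Subgroup.centralizer (E : Set S))) (H : Subgroup S)
    [(cPart E H).Normal] [(ePart E H).Normal]
    (hr : 4 ≤ (cPart E H ⊔ frattini H).index) (hrel : 2 ≤ (ePart E H ⊔ frattini H).relIndex (cPart E H))
    (hd0 : 3 ≤ (frattini H).relIndex (ePart E H)) : False := by
  classical
  haveI : Fact (Nat.Prime 2) := ⟨Nat.prime_two⟩
  haveI := h.normal
  set C := Subgroup.centralizer (E : Set S) with hC
  haveI hCn : C.Normal := ⟨fun c hc g => h.cent_conj hc g⟩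
  set D := cPart E H with hD
  set D0 := ePart E H with hD0
  have hsqΦ : ∀ x : H, x * x ∈ frattini H := fun x => by
    rw [← pow_two]; exact Agent.Grp.pGroup_pow_mem_frattini (hS.to_subgroup H) x
  have hcomΦ : ∀ x y : H, x * y * x⁻¹ * y⁻¹ ∈ frattini H := fun x y => by
    rw [← commutatorElement_def]
    exact Agent.Grp.pGroup_commutator_le_frattini (hS.to_subgroup H)
      (Subgroup.commutator_mem_commutator (Subgroup.mem_top _) (Subgroup.mem_top _))
  obtain ⟨d1, hd1, hd1E⟩ : ∃ d, d ∈ D ∧ (d : S) ∉ E := by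
    by_contra hno
    push Not at hno
    have h1 : (D0 ⊔ frattini H).relIndex D = 1 := Subgroup.relIndex_eq_one.2 fun d hd =>
      Subgroup.mem_sup_left (Subgroup.mem_subgroupOf.2 (hno d hd))
    omega
  obtain ⟨i, hi1, hi2⟩ := exists_pow_invol hS E hd1E
  set cH := d1 ^ 2 ^ i with hcH
  set c := (cH : S) with hc'
  have hcS : c = (d1 : S) ^ 2 ^ i := by rw [hc', hcH, Subgroup.coe_pow]
  have hc : c ∈ C := Subgroup.mem_subgroupOf.1 (D.pow_mem hd1 _)
  have hcE : c ∉ E := hcS ▸ hi1
  have hc2 : c * c ∈ E := by rw [hcS, ← pow_two, ← pow_mul, ← pow_succ]; exact hi2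
  have hcδ : c⁻¹ * (a * c * a) ∈ E := by
    have := h.invol_conj hS hcyc hc hcE hc2 a
    rwa [h.inv_a] at this
  have hδW := h.fix_mem_W hcδ
  obtain ⟨hδ1, hδz⟩ := h.cent_delta_ne hc hcE
  set δ := c⁻¹ * (a * c * a) with hδ
  have hac : a * c * a = c * δ := by rw [hδ]; group
  have hzW := h.z_mem
  have hzE : h.z ∈ E := (Subgroup.mem_inf.1 hzW).1
  have hδE : δ ∈ E := (Subgroup.mem_inf.1 hδW).1
  set K := H ⊔ C with hK
  have hKindex : K.index ≤ 2 ∧ 4 ≤ D.index := by
    have h4 : 4 ≤ D.index := le_trans hr (Nat.le_of_dvd (Nat.pos_of_ne_zero Subgroup.index_ne_zero_of_finite)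
      (Subgroup.index_dvd_of_le le_sup_left))
    refine ⟨?_, h4⟩
    have h8 := (aut_bound hS h.normal h.comm h.sq h.cardE).1
    have h1 := Subgroup.relIndex_mul_index (le_sup_right : C ≤ K)
    rw [Subgroup.relIndex_sup_right] at h1
    have h2 : C.relIndex H = D.index := rfl
    rw [h2] at h1
    nlinarith
  haveI hKn : K.Normal := by
    rcases (show K.index = 1 ∨ K.index = 2 by
      have : K.index ≠ 0 := Subgroup.index_ne_zero_of_finite
      omega) with h1 | h2
    · rw [Subgroup.index_eq_one.1 h1]; infer_instance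
    · exact Subgroup.normal_of_index_eq_two h2
  have hKcases : ∀ s ∈ K, ∃ u ∈ H, ∃ v ∈ C, s = u * v := fun s hs => by
    obtain ⟨u, hu, v, hv, huv⟩ := Subgroup.mem_sup_of_normal_right.1 hs
    exact ⟨u, hu, v, hv, huv.symm⟩
  -- conjugation by representatives is injective on cosets of `D`
  have hmem_of : ∀ s : S, (∀ e ∈ E, s * e * s⁻¹ = e) → s ∈ C := fun s hs =>
    Subgroup.mem_centralizer_iff.2 fun e he => (mul_inv_eq_iff_eq_mul.1 (hs e he)).symm
  have hconjE : ∀ (s : S) {e : S}, e ∈ E → s * e * s⁻¹ ∈ E := fun s e he => h.normal.conj_mem e he s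
  have hfixC : ∀ {v e : S}, v ∈ C → e ∈ E → v * e * v⁻¹ = e := fun hv he => by
    rw [← h.cent_comm hv he, mul_inv_cancel_right]
  have hcomm0 : ∀ (g : H) (e : S) (he : e ∈ H), e ∈ E →
      (⟨e, he⟩ : H)⁻¹ * (g * ⟨e, he⟩ * g⁻¹) ∈ frattini H ⊓ D0 := by
    intro g e he heE
    refine ⟨?_, Subgroup.mem_subgroupOf.2 (E.mul_mem (E.inv_mem heE) (hconjE g heE))⟩
    have h1 := Subgroup.Normal.conj_mem (inferInstance : (frattini H).Normal) _ (hcomΦ g ⟨e, he⟩) (⟨e, he⟩ : H)⁻¹
    rwa [show (⟨e, he⟩ : H)⁻¹ * (g * ⟨e, he⟩ * g⁻¹ * (⟨e, he⟩ : H)⁻¹) * (⟨e, he⟩ : H)⁻¹⁻¹ =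
      (⟨e, he⟩ : H)⁻¹ * (g * ⟨e, he⟩ * g⁻¹) by group] at h1
  -- the commutator with the cyclic part
  have hη : ∀ g : H, (g : S) * c * (g : S)⁻¹ * c⁻¹ ∈ E ∧
      g * cH * g⁻¹ * cH⁻¹ ∈ frattini H ⊓ D0 := by
    intro g
    have h1 := h.normal.conj_mem _ (h.invol_conj hS hcyc hc hcE hc2 (g : S)) c
    rw [show c * (c⁻¹ * ((g : S) * c * (g : S)⁻¹)) * c⁻¹ = (g : S) * c * (g : S)⁻¹ * c⁻¹ by group] at h1
    exact ⟨h1, hcomΦ g cH, Subgroup.mem_subgroupOf.2 (by push_cast; exact h1)⟩
  have hcardD0 : Nat.card D0 = Nat.card (E ⊓ H : Subgroup S) := by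
    rw [hD0, ePart, ← Subgroup.inf_subgroupOf_right E H]
    exact Nat.card_congr (Subgroup.subgroupOfEquivOfLe inf_le_right).toEquiv
  set D' := (E ⊓ H : Subgroup S) with hD'
  have hinter := relIndex_inter (frattini H) D0
  set N := frattini H ⊓ D0 with hN
  have hD'le : Nat.card D' ≤ 8 := by
    rw [← h.cardE]; exact Subgroup.card_le_of_le inf_le_left
  obtain ⟨jN, hjN⟩ := IsPGroup.iff_card.1 ((hS.to_subgroup H).to_subgroup N)
  obtain ⟨jD, hjD⟩ := IsPGroup.iff_card.1 (hS.to_subgroup D')
  rw [hcardD0] at hinter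
  have hDcases : (Nat.card D' = 4 ∧ Nat.card N = 1) ∨ (Nat.card D' = 8 ∧ Nat.card N ≤ 2) := by
    rcases jD with _ | _ | _ | _ | jD
    · rw [hjD, pow_zero] at hinter; have h1 := Nat.eq_one_of_mul_eq_one_left hinter; omega
    · rw [hjD] at hinter; norm_num at hinter; have : 0 < Nat.card N := Nat.card_pos; nlinarith
    · left
      refine ⟨by rw [hjD]; norm_num, ?_⟩
      have : 0 < Nat.card N := Nat.card_pos
      rw [hjD] at hinter
      norm_num at hinter
      nlinarith
    · right
      refine ⟨by rw [hjD]; norm_num, ?_⟩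
      rw [hjD] at hinter
      norm_num at hinter
      nlinarith
    · have : 2 ^ 4 ≤ 2 ^ (jD + 1 + 1 + 1 + 1) := Nat.pow_le_pow_right (by norm_num) (by omega)
      rw [hjD] at hD'le
      omega
  rcases hDcases with ⟨hc4, hN1⟩ | ⟨hc8, hN2⟩
  · -- every element fixes the trace of `E` pointwise
    have hNbot : ∀ z : H, z ∈ N → z = 1 := fun z hz =>
      Subgroup.mem_bot.1 (Subgroup.card_eq_one.1 hN1 ▸ hz)
    have hfixH : ∀ (g : H) (e : S), e ∈ D' → (g : S) * e * (g : S)⁻¹ = e := by
      intro g e he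
      have h1 := congrArg Subtype.val (hNbot _ (hcomm0 g e he.2 he.1))
      push_cast at h1
      exact (inv_mul_eq_one.1 h1).symm
    obtain ⟨e0, he0, he0'⟩ : ∃ e ∈ E, e ∉ D' := by
      by_contra hno
      push Not at hno
      have := Subgroup.card_le_of_le (hno : E ≤ D')
      rw [h.cardE, hc4] at this
      omega
    have hidx := fun {x y : S} (hx : x ∈ E) (hy : y ∈ E) (hx' : x ∉ D') (hy' : y ∉ D') =>
      index_two_mul (inf_le_left : D' ≤ E) (by rw [hc4, h.cardE]) hx hy hx' hy'
    have hsplit : ∀ {e : S}, e ∈ E → e ∈ D' ∨ e0 * e ∈ D' := fun {e} he => by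
      by_cases hh : e ∈ D'
      · exact Or.inl hh
      · exact Or.inr (hidx he0 he he0' hh)
    -- the translation part of each element
    have htr : ∀ g : H, e0 * ((g : S) * e0 * (g : S)⁻¹) ∈ D' := fun g =>
      hidx he0 (hconjE g he0) he0' fun hh => he0' (by
        have h1 := hfixH g _ hh
        have h2 : (g : S) * e0 * (g : S)⁻¹ = e0 := mul_left_cancel (mul_right_cancel h1)
        rwa [h2] at hh)
    have hdet : ∀ g g' : H, (g : S) * e0 * (g : S)⁻¹ = (g' : S) * e0 * (g' : S)⁻¹ →
        (g : S)⁻¹ * g' ∈ C := by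
      intro g g' hgg
      refine hmem_of _ fun e he => ?_
      have h1 : (g : S) * e * (g : S)⁻¹ = (g' : S) * e * (g' : S)⁻¹ := by
        rcases hsplit he with hh | hh
        · rw [hfixH g e hh, hfixH g' e hh]
        · have h2 := (hfixH g _ hh).trans (hfixH g' _ hh).symm
          rw [show (g : S) * (e0 * e) * (g : S)⁻¹ = ((g : S) * e0 * (g : S)⁻¹) * ((g : S) * e * (g : S)⁻¹) by
            group, show (g' : S) * (e0 * e) * (g' : S)⁻¹ =
              ((g' : S) * e0 * (g' : S)⁻¹) * ((g' : S) * e * (g' : S)⁻¹) by group, hgg] at h2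
          exact mul_left_cancel h2
      calc (g : S)⁻¹ * g' * e * ((g : S)⁻¹ * g')⁻¹ = (g : S)⁻¹ * ((g' : S) * e * (g' : S)⁻¹) * g := by group
        _ = e := by rw [← h1]; group
    let f : H ⧸ D → D' := fun q => ⟨e0 * ((q.out : S) * e0 * (q.out : S)⁻¹), htr q.out⟩
    have hfinj : Function.Injective f := by
      intro q q' hqq
      have h1 : e0 * ((q.out : S) * e0 * (q.out : S)⁻¹) = e0 * ((q'.out : S) * e0 * (q'.out : S)⁻¹) :=
        congrArg Subtype.val hqq
      rw [← QuotientGroup.out_eq' q, ← QuotientGroup.out_eq' q', QuotientGroup.eq]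
      exact Subgroup.mem_subgroupOf.2 (by push_cast; exact hdet _ _ (mul_left_cancel h1))
    have hfbij : Function.Bijective f := (Nat.bijective_iff_injective_and_card f).2 ⟨hfinj, le_antisymm
      (Nat.card_le_card_of_injective f hfinj) (by rw [hc4]; exact hKindex.2)⟩
    have hsurj : ∀ t ∈ D', ∃ g : H, (g : S) * e0 * (g : S)⁻¹ = e0 * t := by
      intro t ht
      obtain ⟨q, hq⟩ := hfbij.2 ⟨t, ht⟩
      have h1 : e0 * ((q.out : S) * e0 * (q.out : S)⁻¹) = t := congrArg Subtype.val hq
      exact ⟨q.out, by rw [← h1, ← mul_assoc e0 e0, h.sq e0 he0, one_mul]⟩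
    -- the trace is the fixed space of a normal subgroup
    have hfixed : ∀ e ∈ E, (∀ g : H, (g : S) * e * (g : S)⁻¹ = e) → e ∈ D' := by
      intro e he hall
      by_contra hh
      obtain ⟨t, ht, ht1⟩ : ∃ t ∈ D', t ≠ 1 := by
        obtain ⟨x, hx⟩ := (Subgroup.ne_bot_iff_exists_ne_one).1
          (fun hb => by rw [hb, Subgroup.card_bot] at hc4; omega : D' ≠ ⊥)
        exact ⟨x, x.2, fun hh => hx (Subtype.ext hh)⟩
      obtain ⟨g, hg⟩ := hsurj t ht
      have h1 := hfixH g _ (hidx he0 he he0' hh)
      rw [show (g : S) * (e0 * e) * (g : S)⁻¹ = ((g : S) * e0 * (g : S)⁻¹) * ((g : S) * e * (g : S)⁻¹) by group,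
        hg, hall g, mul_assoc] at h1
      exact ht1 (mul_eq_right.1 (mul_left_cancel h1))
    have hinvar : ∀ (s e : S), e ∈ D' → s * e * s⁻¹ ∈ D' := by
      intro s e he
      refine hfixed _ (hconjE s he.1) fun g => ?_
      obtain ⟨u, hu, v, hv, huv⟩ := hKcases _ (hKn.conj_mem _ (Subgroup.mem_sup_left g.2 : (g : S) ∈ K) s⁻¹)
      have h1 : s⁻¹ * (g : S) * s⁻¹⁻¹ * e * (s⁻¹ * (g : S) * s⁻¹⁻¹)⁻¹ = e := by
        rw [huv, show u * v * e * (u * v)⁻¹ = u * (v * e * v⁻¹) * u⁻¹ by group, hfixC hv he.1]
        exact hfixH ⟨u, hu⟩ e he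
      calc (g : S) * (s * e * s⁻¹) * (g : S)⁻¹
          = s * (s⁻¹ * (g : S) * s⁻¹⁻¹ * e * (s⁻¹ * (g : S) * s⁻¹⁻¹)⁻¹) * s⁻¹ := by group
        _ = s * e * s⁻¹ := by rw [h1]
    by_cases hWD : plane E a = D'
    · have he0W : e0 ∉ plane E a := hWD ▸ he0'
      obtain ⟨g, hg⟩ := hsurj h.z (hWD ▸ hzW)
      have hag : a * (g : S) ∈ C := by
        refine hmem_of _ fun e he => ?_
        have h1 : (g : S) * e * (g : S)⁻¹ = a * e * a := by
          rcases hsplit he with hh | hh
          · rw [hfixH g e hh, (h.mem_W.1 (hWD ▸ hh : e ∈ plane E a)).2]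
          · have h2 := hfixH g _ hh
            rw [show (g : S) * (e0 * e) * (g : S)⁻¹ = ((g : S) * e0 * (g : S)⁻¹) * ((g : S) * e * (g : S)⁻¹) by
              group, hg, ← h.a_move he0 he0W] at h2
            have h3 := (h.mem_W.1 (hWD ▸ hh : e0 * e ∈ plane E a)).2
            rw [show a * (e0 * e) * a = a * e0 * 1 * e * a by group, ← h.a_sq] at h3
            refine mul_left_cancel (h2.trans ?_)
            conv_lhs => rw [← h3]
            group
        calc a * (g : S) * e * (a * (g : S))⁻¹ = a * ((g : S) * e * (g : S)⁻¹) * a⁻¹ := by group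
          _ = (a * a) * e * (a * a) := by rw [h1, h.inv_a]; group
          _ = e := by rw [h.a_sq, one_mul, mul_one]
      obtain ⟨-, hmem⟩ := hη g
      have h2 := congrArg Subtype.val (hNbot _ hmem)
      push_cast at h2
      set d := a * (g : S)
      have hg' : (g : S) = a * d := by rw [← mul_assoc, h.a_sq, one_mul]
      rw [hg', show a * d * c * (a * d)⁻¹ * c⁻¹ = a * (d * c * d⁻¹) * a⁻¹ * c⁻¹ by group,
        h.cent_comm_of_cyc hS hcyc hag hc, mul_inv_cancel_right, h.inv_a, hac, ← h.cent_comm hc hδE,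
        mul_inv_cancel_right] at h2
      exact hδ1 h2
    · have hzD : h.z ∈ D' := by
        obtain ⟨f0, hf0, hf0W⟩ : ∃ f ∈ D', f ∉ plane E a := by
          by_contra hno
          push Not at hno
          exact hWD (Subgroup.eq_of_le_of_card_ge (hno : D' ≤ plane E a) (by rw [h.cardW, hc4])).symm
        have h1 := hinvar a f0 hf0
        rw [h.inv_a, h.a_move hf0.1 hf0W] at h1
        exact (Subgroup.mul_mem_cancel_left D' hf0).1 h1
      have hδD : δ ∉ D' := by
        intro hh
        refine hWD (Subgroup.eq_of_le_of_card_ge (fun w hw => ?_) (by rw [h.cardW, hc4]))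
        by_cases hw1 : w = 1
        · rw [hw1]; exact Subgroup.one_mem _
        by_cases hwz : w = h.z
        · rw [hwz]; exact hzD
        rcases h.W_pair hδW hw hδ1 hδz hw1 hwz with h2 | h2
        · rw [eq_inv_of_mul_eq_one_right h2]; exact Subgroup.inv_mem _ hh
        · refine (Subgroup.mul_mem_cancel_left D' hh).1 ?_
          rw [h2]; exact hzD
      obtain ⟨g, hg⟩ := hsurj h.z hzD
      have hgδ : (g : S) * δ * (g : S)⁻¹ = δ * h.z := by
        have h1 := hfixH g _ (hidx he0 hδE he0' hδD)
        rw [show (g : S) * (e0 * δ) * (g : S)⁻¹ = ((g : S) * e0 * (g : S)⁻¹) * ((g : S) * δ * (g : S)⁻¹) by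
          group, hg, mul_assoc] at h1
        have h2 := mul_left_cancel h1
        calc (g : S) * δ * (g : S)⁻¹ = h.z * (h.z * ((g : S) * δ * (g : S)⁻¹)) := by
              rw [← mul_assoc h.z h.z, h.z_sq, one_mul]
          _ = δ * h.z := by rw [h2, h.comm _ hzE _ hδE]
      -- the conjugate of `a` acts as `a`
      have hgag : (g : S) * a * (g : S)⁻¹ * a ∈ C := by
        refine hmem_of _ fun e he => ?_
        have key : ∀ e ∈ E, (g : S) * (a * e * a) * (g : S)⁻¹ = a * ((g : S) * e * (g : S)⁻¹) * a := by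
          have hD'k : ∀ e ∈ D', (g : S) * (a * e * a) * (g : S)⁻¹ = a * ((g : S) * e * (g : S)⁻¹) * a := by
            intro e he
            have h1 := hinvar a e he
            rw [h.inv_a] at h1
            rw [hfixH g _ h1, hfixH g e he]
          have hδk : (g : S) * (a * δ * a) * (g : S)⁻¹ = a * ((g : S) * δ * (g : S)⁻¹) * a := by
            rw [(h.mem_W.1 hδW).2, hgδ, (h.mem_W.1 (Subgroup.mul_mem _ hδW hzW)).2]
          intro e he
          by_cases hh : e ∈ D'
          · exact hD'k e hh
          · have h1 := hD'k _ (hidx hδE he hδD hh)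
            have e1 : (g : S) * (a * (δ * e) * a) * (g : S)⁻¹ =
                ((g : S) * (a * δ * a) * (g : S)⁻¹) * ((g : S) * (a * e * a) * (g : S)⁻¹) := by
              rw [show (g : S) * (a * δ * a) * (g : S)⁻¹ * ((g : S) * (a * e * a) * (g : S)⁻¹) =
                (g : S) * (a * δ * (a * a) * e * a) * (g : S)⁻¹ by group, h.a_sq]
              group
            have e2 : a * ((g : S) * (δ * e) * (g : S)⁻¹) * a =
                (a * ((g : S) * δ * (g : S)⁻¹) * a) * (a * ((g : S) * e * (g : S)⁻¹) * a) := by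
              rw [show (a * ((g : S) * δ * (g : S)⁻¹) * a) * (a * ((g : S) * e * (g : S)⁻¹) * a) =
                a * ((g : S) * δ * (g : S)⁻¹) * (a * a) * ((g : S) * e * (g : S)⁻¹) * a by group, h.a_sq]
              group
            rw [e1, e2, hδk] at h1
            exact mul_left_cancel h1
        have he' : a * e * a ∈ E := by
          have := hconjE a he
          rwa [h.inv_a] at this
        have he'' := hconjE (g : S)⁻¹ he'
        have h1 := key _ he''
        calc (g : S) * a * (g : S)⁻¹ * a * e * ((g : S) * a * (g : S)⁻¹ * a)⁻¹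
            = (g : S) * (a * ((g : S)⁻¹ * (a * e * a⁻¹) * (g : S)⁻¹⁻¹) * a⁻¹) * (g : S)⁻¹ := by group
          _ = a * ((g : S) * ((g : S)⁻¹ * (a * e * a) * (g : S)⁻¹⁻¹) * (g : S)⁻¹) * a := by rw [h.inv_a, h1]
          _ = (a * a) * e * (a * a) := by group
          _ = e := by rw [h.a_sq, one_mul, mul_one]
      obtain ⟨hηE, hmem⟩ := hη g
      have h2 := congrArg Subtype.val (hNbot _ hmem)
      push_cast at h2
      have hgc : (g : S) * c * (g : S)⁻¹ = c := mul_inv_eq_one.1 h2
      -- compare the two ways of conjugating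
      have hl : (g : S) * (a * c * a) * (g : S)⁻¹ = a * c * a := by
        set d := (g : S) * a * (g : S)⁻¹ * a
        have hga : (g : S) * a * (g : S)⁻¹ = d * a := by
          show (g : S) * a * (g : S)⁻¹ = (g : S) * a * (g : S)⁻¹ * a * a
          rw [mul_assoc _ a a, h.a_sq, mul_one]
        calc (g : S) * (a * c * a) * (g : S)⁻¹
            = ((g : S) * a * (g : S)⁻¹) * ((g : S) * c * (g : S)⁻¹) * ((g : S) * a⁻¹ * (g : S)⁻¹) := by
              rw [h.inv_a]; group
          _ = d * (a * c * a⁻¹) * d⁻¹ := by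
              rw [hgc, show (g : S) * a⁻¹ * (g : S)⁻¹ = ((g : S) * a * (g : S)⁻¹)⁻¹ by group, hga]; group
          _ = a * c * a := by
              rw [h.inv_a, h.cent_comm_of_cyc hS hcyc hgag (h.a_mul_cent hc), mul_inv_cancel_right]
      rw [hac, show (g : S) * (c * δ) * (g : S)⁻¹ = ((g : S) * c * (g : S)⁻¹) * ((g : S) * δ * (g : S)⁻¹) by
        group, hgc, hgδ, ← mul_assoc] at hl
      exact h.z_ne (mul_eq_left.1 hl)
  · -- the commutators with `E` are a single central involution
    have hEH : E ≤ H := by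
      have h1 : D' = E := Subgroup.eq_of_le_of_card_ge inf_le_left (by rw [hc8, h.cardE])
      rw [← h1]; exact inf_le_right
    obtain ⟨g0, e1, he1, hne⟩ : ∃ (g : H) (e : S), e ∈ E ∧ (g : S) * e * (g : S)⁻¹ ≠ e := by
      by_contra hno
      push Not at hno
      have h1 : D.index = 1 := Subgroup.index_eq_one.2 (eq_top_iff.2 fun x _ =>
        Subgroup.mem_subgroupOf.2 (hmem_of _ fun e he => hno x e he))
      have := hKindex.2
      omega
    set w := e1⁻¹ * ((g0 : S) * e1 * (g0 : S)⁻¹) with hw
    have hw1 : w ≠ 1 := fun hh => hne (inv_mul_eq_one.1 hh).symm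
    have hwE : w ∈ E := E.mul_mem (E.inv_mem he1) (hconjE _ he1)
    have hvals : ∀ z : H, z ∈ N → (z : S) = 1 ∨ (z : S) = w := by
      intro z hz
      by_contra hno
      push Not at hno
      let T : Fin 3 → N := ![1, ⟨z, hz⟩, ⟨_, hcomm0 g0 e1 (hEH he1) he1⟩]
      have hT : Function.Injective T := by
        intro u v huv
        have h' := congrArg (fun q : N => ((q : H) : S)) huv
        fin_cases u <;> fin_cases v <;> simp [T] at h' ⊢ <;> first
          | exact hno.1 h' | exact hno.1 h'.symm | exact hw1 h' | exact hw1 h'.symm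
          | exact hno.2 h' | exact hno.2 h'.symm | exact hw1 (congrArg Subtype.val h')
          | exact hw1 (congrArg Subtype.val h').symm
          | exact hno.1 (congrArg Subtype.val h') | exact hno.1 (congrArg Subtype.val h').symm
      have := Nat.card_le_card_of_injective T hT
      simp at this
      omega
    have hmove : ∀ (g : H) (e : S), e ∈ E → (g : S) * e * (g : S)⁻¹ = e ∨ (g : S) * e * (g : S)⁻¹ = e * w := by
      intro g e he
      rcases hvals _ (hcomm0 g e (hEH he) he) with hh | hh <;> push_cast at hh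
      · exact Or.inl (inv_mul_eq_one.1 hh).symm
      · exact Or.inr (by rw [← hh, mul_inv_cancel_left])
    have hwH : ∀ g : H, (g : S) * w * (g : S)⁻¹ = w := fun g => (hmove g w hwE).resolve_right fun hh => by
      rw [h.sq w hwE] at hh
      exact hw1 (conj_eq_one_iff.1 hh)
    have hKmove : ∀ s ∈ K, ∀ e ∈ E, s * e * s⁻¹ = e ∨ s * e * s⁻¹ = e * w := by
      intro s hs e he
      obtain ⟨u, hu, v, hv, rfl⟩ := hKcases s hs
      rw [show u * v * e * (u * v)⁻¹ = u * (v * e * v⁻¹) * u⁻¹ by group, hfixC hv he]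
      exact hmove ⟨u, hu⟩ e he
    have hwS : ∀ s : S, s * w * s⁻¹ = w := by
      intro s
      have hsw : s * w * s⁻¹ ≠ 1 := fun hh => hw1 (conj_eq_one_iff.1 hh)
      set e' := s * e1 * s⁻¹
      set g' := s * (g0 : S) * s⁻¹
      have h1 : s * w * s⁻¹ = e'⁻¹ * (g' * e' * g'⁻¹) := by
        simp only [e', g', hw]; group
      rcases hKmove g' (hKn.conj_mem _ (Subgroup.mem_sup_left g0.2) s) e' (hconjE s he1) with hh | hh
      · rw [hh, inv_mul_cancel] at h1; exact absurd h1 hsw
      · rw [hh, inv_mul_cancel_left] at h1; exact h1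
    have hwW : w ∈ plane E a := h.mem_W.2 ⟨hwE, by
      have := hwS a
      rwa [h.inv_a] at this⟩
    -- every pair of moves of two basis vectors occurs
    have hdet : ∀ (u v : S), u ∈ E → v ∈ E → (∀ e ∈ E, ∃ p ∈ ({1, w} : Set S), ∃ i j : Bool,
        e = p * (bif i then u else 1) * (bif j then v else 1)) →
        ∀ i j : Bool, ∃ g : H, (g : S) * u * (g : S)⁻¹ = u * (bif i then w else 1) ∧
          (g : S) * v * (g : S)⁻¹ = v * (bif j then w else 1) := by
      intro u v hu hv hspan
      let f : H ⧸ D → Bool × Bool := fun q =>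
        (decide ((q.out : S) * u * (q.out : S)⁻¹ ≠ u), decide ((q.out : S) * v * (q.out : S)⁻¹ ≠ v))
      have hfinj : Function.Injective f := by
        intro q q' hqq
        simp only [f, Prod.ext_iff, decide_eq_decide, ne_eq, not_iff_not] at hqq
        rw [← QuotientGroup.out_eq' q, ← QuotientGroup.out_eq' q', QuotientGroup.eq]
        refine Subgroup.mem_subgroupOf.2 ?_
        push_cast
        refine hmem_of _ fun e he => ?_
        set g := (q.out : S)
        set g' := (q'.out : S)
        have hsame : ∀ x ∈ E, (g * x * g⁻¹ = x ↔ g' * x * g'⁻¹ = x) → g * x * g⁻¹ = g' * x * g'⁻¹ := by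
          intro x hx hiff
          rcases hmove q.out x hx with h1 | h1
          · exact h1.trans (hiff.1 h1).symm
          · rcases hmove q'.out x hx with h2 | h2
            · exact absurd ((hiff.2 h2).symm.trans h1) fun hh => hw1 (left_eq_mul.1 hh)
            · exact h1.trans h2.symm
        obtain ⟨p, hp, i, j, rfl⟩ := hspan e he
        have hp' : g * p * g⁻¹ = g' * p * g'⁻¹ := by
          rcases hp with rfl | rfl
          · simp
          · exact (hwH q.out).trans (hwH q'.out).symm
        have hu' := hsame u hu hqq.1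
        have hv' := hsame v hv hqq.2
        have key : g * (p * (bif i then u else 1) * (bif j then v else 1)) * g⁻¹ =
            g' * (p * (bif i then u else 1) * (bif j then v else 1)) * g'⁻¹ := by
          rw [show ∀ t : S, t * (p * (bif i then u else 1) * (bif j then v else 1)) * t⁻¹ =
            (t * p * t⁻¹) * (t * (bif i then u else 1) * t⁻¹) * (t * (bif j then v else 1) * t⁻¹) from
            fun t => by group, show ∀ t : S, t * (p * (bif i then u else 1) * (bif j then v else 1)) * t⁻¹ =
            (t * p * t⁻¹) * (t * (bif i then u else 1) * t⁻¹) * (t * (bif j then v else 1) * t⁻¹) from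
            fun t => by group, hp']
          cases i <;> cases j <;> simp [hu', hv']
        set e := p * (bif i then u else 1) * (bif j then v else 1)
        calc g⁻¹ * g' * e * (g⁻¹ * g')⁻¹ = g⁻¹ * (g' * e * g'⁻¹) * g := by group
          _ = e := by rw [← key]; group
      intro i j
      have hbij : Function.Bijective f := (Nat.bijective_iff_injective_and_card f).2 ⟨hfinj, le_antisymm
        (Nat.card_le_card_of_injective f hfinj) (le_trans (le_of_eq (by simp)) hKindex.2)⟩
      obtain ⟨q, hq⟩ := hbij.2 (i, j)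
      simp only [f, Prod.ext_iff] at hq
      have hval : ∀ (x : S), x ∈ E → ∀ b : Bool, decide ((q.out : S) * x * (q.out : S)⁻¹ ≠ x) = b →
          (q.out : S) * x * (q.out : S)⁻¹ = x * (bif b then w else 1) := by
        intro x hx b hb
        cases b
        · simpa using hb
        · exact (hmove q.out x hx).resolve_left (by simpa using hb)
      exact ⟨q.out, hval u hu i hq.1, hval v hv j hq.2⟩
    obtain ⟨e2, he2, he2W⟩ := h.exists_notMem
    -- a second vector in the plane
    have hspanW : ∀ u ∈ plane E a, u ≠ 1 → u ≠ w → ∀ e ∈ E, ∃ p ∈ ({1, w} : Set S), ∃ i j : Bool,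
        e = p * (bif i then u else 1) * (bif j then e2 else 1) := by
      intro u hu hu1 huw
      have huu : u * u = 1 := h.sq u (Subgroup.mem_inf.1 hu).1
      have hW4 : ∀ x ∈ plane E a, x = 1 ∨ x = w ∨ x = u ∨ x = w * u := by
        intro x hx
        by_contra hno
        push Not at hno
        obtain ⟨n1, n2, n3, n4⟩ := hno
        have hwu1 : w * u ≠ 1 := fun hh => huw (by
          rw [eq_inv_of_mul_eq_one_right hh, h.inv_E hwE])
        let T : Fin 5 → (plane E a : Subgroup S) :=
          ![1, ⟨w, hwW⟩, ⟨u, hu⟩, ⟨w * u, Subgroup.mul_mem _ hwW hu⟩, ⟨x, hx⟩]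
        have hT : Function.Injective T := by
          intro s t hst
          have h' := congrArg Subtype.val hst
          fin_cases s <;> fin_cases t <;> simp [T] at h' ⊢ <;> first
            | exact hw1 h' | exact hw1 h'.symm | exact hu1 h' | exact hu1 h'.symm | exact huw h'
            | exact huw h'.symm | exact hwu1 h' | exact hwu1 h'.symm | exact n1 h' | exact n1 h'.symm
            | exact n2 h' | exact n2 h'.symm | exact n3 h' | exact n3 h'.symm | exact n4 h' | exact n4 h'.symm
        have := Nat.card_le_card_of_injective T hT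
        rw [h.cardW] at this
        simp at this
      intro e he
      by_cases heW : e ∈ plane E a
      · rcases hW4 e heW with hh | hh | hh | hh
        · exact ⟨1, by simp, false, false, by simp [hh]⟩
        · exact ⟨w, by simp, false, false, by simp [hh]⟩
        · exact ⟨1, by simp, true, false, by simp [hh]⟩
        · exact ⟨w, by simp, true, false, by simp [hh]⟩
      · have h1 := h.mul_mem_W he he2 heW he2W
        have h2 : e = (e * e2) * e2 := by rw [mul_assoc, h.sq e2 he2, mul_one]
        rcases hW4 _ h1 with hh | hh | hh | hh <;> rw [hh] at h2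
        · exact ⟨1, by simp, false, true, by simpa using h2⟩
        · exact ⟨w, by simp, false, true, by simpa using h2⟩
        · exact ⟨1, by simp, true, true, by simpa using h2⟩
        · exact ⟨w, by simp, true, true, by simpa using h2⟩
    by_cases hwz : w = h.z
    · -- some element of `H` acts as `a`
      obtain ⟨g, hgu, hgv⟩ := hdet δ e2 hδE he2 (hspanW δ hδW hδ1 (hwz ▸ hδz)) false true
      simp only [cond_false, cond_true, mul_one] at hgu hgv
      have hag : a * (g : S) ∈ C := by
        refine hmem_of _ fun e he => ?_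
        have h1 : (g : S) * e * (g : S)⁻¹ = a * e * a := by
          have hW' : ∀ x ∈ plane E a, (g : S) * x * (g : S)⁻¹ = a * x * a := by
            intro x hx
            rw [(h.mem_W.1 hx).2]
            obtain ⟨p, hp, i, j, hxe⟩ := hspanW δ hδW hδ1 (hwz ▸ hδz) x (Subgroup.mem_inf.1 hx).1
            cases j
            · rw [hxe]
              rcases hp with rfl | rfl <;> cases i <;>
                simp only [cond_false, cond_true, mul_one, one_mul]
              · simp
              · exact hgu
              · exact hwH g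
              · rw [show (g : S) * (w * δ) * (g : S)⁻¹ =
                  ((g : S) * w * (g : S)⁻¹) * ((g : S) * δ * (g : S)⁻¹) by group, hwH g, hgu]
            · exfalso
              refine he2W ?_
              have hpi : p * (bif i then δ else 1) ∈ plane E a := by
                refine Subgroup.mul_mem _ ?_ ?_
                · rcases hp with rfl | rfl
                  exacts [Subgroup.one_mem _, hwW]
                · cases i
                  exacts [Subgroup.one_mem _, hδW]
              rw [hxe] at hx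
              exact (Subgroup.mul_mem_cancel_left _ hpi).1 hx
          by_cases heW : e ∈ plane E a
          · exact hW' e heW
          · have h2 := hW' _ (h.mul_mem_W he2 he he2W heW)
            rw [show (g : S) * (e2 * e) * (g : S)⁻¹ = ((g : S) * e2 * (g : S)⁻¹) * ((g : S) * e * (g : S)⁻¹) by
              group, hgv, show a * (e2 * e) * a = a * e2 * 1 * e * a by group, ← h.a_sq,
              show a * e2 * (a * a) * e * a = (a * e2 * a) * (a * e * a) by group, h.a_move he2 he2W,
              hwz] at h2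
            exact mul_left_cancel h2
        calc a * (g : S) * e * (a * (g : S))⁻¹ = a * ((g : S) * e * (g : S)⁻¹) * a⁻¹ := by group
          _ = (a * a) * e * (a * a) := by rw [h1, h.inv_a]; group
          _ = e := by rw [h.a_sq, one_mul, mul_one]
      obtain ⟨-, hmem⟩ := hη g
      have hv := hvals _ hmem
      push_cast at hv
      set d := a * (g : S)
      have hg' : (g : S) = a * d := by rw [← mul_assoc, h.a_sq, one_mul]
      rw [hg', show a * d * c * (a * d)⁻¹ * c⁻¹ = a * (d * c * d⁻¹) * a⁻¹ * c⁻¹ by group,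
        h.cent_comm_of_cyc hS hcyc hag hc, mul_inv_cancel_right, h.inv_a, hac, ← h.cent_comm hc hδE,
        mul_inv_cancel_right] at hv
      rcases hv with hh | hh
      · exact hδ1 hh
      · exact hδz (hh.trans hwz)
    · have hspan := hspanW h.z hzW h.z_ne (fun hh => hwz hh.symm)
      obtain ⟨gW, hgWz, hgWe⟩ := hdet h.z e2 hzE he2 hspan false true
      obtain ⟨h0, hh0z, hh0e⟩ := hdet h.z e2 hzE he2 hspan true false
      simp only [cond_false, cond_true, mul_one] at hgWz hgWe hh0z hh0e
      set a' := (h0 : S) * a * (h0 : S)⁻¹ with ha'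
      set x := a * a' with hx
      -- the action of `a'` and `x`
      have ha'W : ∀ v ∈ plane E a, a' * v * a'⁻¹ = v := by
        intro v hv
        obtain ⟨hvE, -⟩ := h.mem_W.1 hv
        have hin : (h0 : S)⁻¹ * v * (h0 : S)⁻¹⁻¹ ∈ plane E a := by
          rcases hmove h0⁻¹ v hvE with hh | hh <;> rw [Subgroup.coe_inv] at hh <;> rw [hh]
          · exact hv
          · exact Subgroup.mul_mem _ hv hwW
        calc a' * v * a'⁻¹ = (h0 : S) * (a * ((h0 : S)⁻¹ * v * (h0 : S)⁻¹⁻¹) * a⁻¹) * (h0 : S)⁻¹ := by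
              rw [ha']; group
          _ = v := by rw [h.inv_a, (h.mem_W.1 hin).2]; group
      have ha'e : a' * e2 * a'⁻¹ = e2 * h.z * w := by
        have h1 : (h0 : S)⁻¹ * e2 * (h0 : S)⁻¹⁻¹ = e2 := by
          conv_lhs => rw [← hh0e]
          group
        calc a' * e2 * a'⁻¹ = (h0 : S) * (a * ((h0 : S)⁻¹ * e2 * (h0 : S)⁻¹⁻¹) * a⁻¹) * (h0 : S)⁻¹ := by
              rw [ha']; group
          _ = ((h0 : S) * e2 * (h0 : S)⁻¹) * ((h0 : S) * h.z * (h0 : S)⁻¹) := by
              rw [h1, h.inv_a, h.a_move he2 he2W]; group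
          _ = e2 * h.z * w := by rw [hh0e, hh0z, mul_assoc]
      have hxW : ∀ v ∈ plane E a, x * v * x⁻¹ = v := fun v hv => by
        rw [hx, show a * a' * v * (a * a')⁻¹ = a * (a' * v * a'⁻¹) * a⁻¹ by group, ha'W v hv, h.inv_a,
          (h.mem_W.1 hv).2]
      have hxe : x * e2 * x⁻¹ = e2 * w := by
        rw [hx, show a * a' * e2 * (a * a')⁻¹ = a * (a' * e2 * a'⁻¹) * a⁻¹ by group, ha'e, h.inv_a,
          show a * (e2 * h.z * w) * a = a * e2 * 1 * (h.z * w) * a by group, ← h.a_sq,
          show a * e2 * (a * a) * (h.z * w) * a = (a * e2 * a) * (a * (h.z * w) * a) by group,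
          h.a_move he2 he2W, (h.mem_W.1 (Subgroup.mul_mem _ hzW hwW)).2, mul_assoc, ← mul_assoc h.z h.z,
          h.z_sq, one_mul]
      have hxT : x ∈ Subgroup.centralizer (plane E a : Set S) :=
        Subgroup.mem_centralizer_iff.2 fun v hv => (mul_inv_eq_iff_eq_mul.1 (hxW v hv)).symm
      have hxC : x ∉ C := fun hh => hw1 (by
        have h1 := hfixC hh he2
        rw [hxe] at h1
        exact mul_eq_left.1 h1)
      have hxa : x * a ∉ C := fun hh => hwz (by
        have h1 := hfixC hh he2
        rw [show x * a * e2 * (x * a)⁻¹ = x * (a * e2 * a⁻¹) * x⁻¹ by group, h.inv_a, h.a_move he2 he2W,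
          show x * (e2 * h.z) * x⁻¹ = (x * e2 * x⁻¹) * (x * h.z * x⁻¹) by group, hxe, hxW _ hzW, mul_assoc]
          at h1
        rw [eq_inv_of_mul_eq_one_left (mul_eq_left.1 h1), h.inv_E hzE])
      have ha'sq : a' * a' = 1 := by
        rw [ha', show (h0 : S) * a * (h0 : S)⁻¹ * ((h0 : S) * a * (h0 : S)⁻¹) =
          (h0 : S) * (a * a) * (h0 : S)⁻¹ by group, h.a_sq]
        group
      have hinvx : a * x * a = x⁻¹ := by
        rw [hx, mul_inv_rev, inv_eq_of_mul_eq_one_left ha'sq, h.inv_a, ← mul_assoc a, h.a_sq, one_mul]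
      have hxc : ∀ d ∈ C, d⁻¹ * (x * d * x⁻¹) ∈ E := by
        obtain ⟨k, hk, hgen⟩ := hcyc
        set q : S →* S ⧸ E := QuotientGroup.mk' E with hq
        have hqe : ∀ {u v : S}, q u = q v ↔ u⁻¹ * v ∈ E := fun {u v} => QuotientGroup.eq
        have hqk : ∀ d ∈ C, ∃ i : ℤ, q d = q k ^ i := fun d hd => by
          obtain ⟨i, hi⟩ := hgen d hd
          exact ⟨i, by rw [← map_zpow, eq_comm]; exact hqe.2 hi⟩
        have hact : ∀ s : S, ∃ i : ℤ, ∀ t : ℤ, q s * q k ^ t * (q s)⁻¹ = q k ^ (i * t) := fun s => by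
          obtain ⟨i, hi⟩ := hqk _ (h.cent_conj hk s)
          refine ⟨i, fun t => ?_⟩
          rw [← conj_zpow, zpow_mul, ← hi, map_mul, map_mul, map_inv]
        obtain ⟨ia, hia⟩ := hact a
        obtain ⟨ih, hih⟩ := hact (h0 : S)
        obtain ⟨ih', hih'⟩ := hact (h0 : S)⁻¹
        intro d hd
        apply hqe.1
        obtain ⟨t, ht⟩ := hqk d hd
        have hone : q k ^ (ih * (ih' * t)) = q k ^ t := by
          rw [← hih, ← hih', map_inv]; group
        have haone : ∀ u : ℤ, q k ^ (ia * (ia * u)) = q k ^ u := fun u => by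
          have haa : q a * q a = 1 := by rw [← map_mul, h.a_sq, map_one]
          rw [← hia, ← hia, inv_eq_of_mul_eq_one_left haa]
          calc q a * (q a * q k ^ u * q a) * q a = (q a * q a) * q k ^ u * (q a * q a) := by group
            _ = q k ^ u := by rw [haa, one_mul, mul_one]
        rw [map_mul, map_mul, map_inv, hx, ha', map_mul, map_mul, map_mul, map_inv, ht]
        calc q k ^ t = q k ^ (ia * (ia * (ih * (ih' * t)))) := by rw [haone, hone]
          _ = q k ^ (ia * (ih * (ia * (ih' * t)))) := by ring_nf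
          _ = _ := by rw [← hia, ← hih, ← hia, ← hih', map_inv]; group
      have hdC : x⁻¹ * (gW : S) ∈ C := by
        refine hmem_of _ fun e he => ?_
        have h1 : (gW : S) * e * (gW : S)⁻¹ = x * e * x⁻¹ := by
          obtain ⟨p, hp, i, j, rfl⟩ := hspan e he
          rw [show ∀ t : S, t * (p * (bif i then h.z else 1) * (bif j then e2 else 1)) * t⁻¹ =
            (t * p * t⁻¹) * (t * (bif i then h.z else 1) * t⁻¹) * (t * (bif j then e2 else 1) * t⁻¹) from
            fun t => by group, show ∀ t : S, t * (p * (bif i then h.z else 1) * (bif j then e2 else 1)) * t⁻¹ =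
            (t * p * t⁻¹) * (t * (bif i then h.z else 1) * t⁻¹) * (t * (bif j then e2 else 1) * t⁻¹) from
            fun t => by group]
          have hp' : (gW : S) * p * (gW : S)⁻¹ = x * p * x⁻¹ := by
            rcases hp with rfl | rfl
            · simp
            · rw [hwH gW, hxW _ hwW]
          rw [hp']
          cases i <;> cases j <;> simp [hgWz, hgWe, hxe, hxW _ hzW]
        calc x⁻¹ * (gW : S) * e * (x⁻¹ * (gW : S))⁻¹ = x⁻¹ * ((gW : S) * e * (gW : S)⁻¹) * x := by group
          _ = e := by rw [h1]; group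
      have hgen := h.square_generates hS hcyc hxT hxC hxa hinvx hxc hc hcE hcδ hdC
      have h1 : (D0 ⊔ frattini H).relIndex D = 1 := by
        refine Subgroup.relIndex_eq_one.2 fun d hd => ?_
        obtain ⟨i, hi⟩ := hgen _ (Subgroup.mem_subgroupOf.1 hd)
        rw [show x * (x⁻¹ * (gW : S)) = (gW : S) by group] at hi
        rw [show d = (gW * gW) ^ i * (((gW * gW) ^ i)⁻¹ * d) by group]
        exact Subgroup.mul_mem _ (Subgroup.mem_sup_right (Subgroup.zpow_mem _ (hsqΦ gW) i))
          (Subgroup.mem_sup_left (Subgroup.mem_subgroupOf.2 (by push_cast; exact hi)))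
      omega

end Pt

end Cfsg.Agent.Char.HaradaEight
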