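import Mathlib
import Cfsg.Agent.Lib.Char.HaradaEightTrouble
import Cfsg.Agent.Lib.Char.FourGenMain

/-!
Every subgroup of a 2-group in the setting of a normal elementary abelian group of order eight with such
an involution has Frattini index at most sixteen.
-/

set_option autoImplicit false
set_option linter.style.haveILetI false
set_option linter.unusedSectionVars false

namespace Cfsg.Agent.Char.HaradaEight

open scoped commutatorElement

universe u

variable {S : Type u} [Group S] [Finite S]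

/-- The layer of `H` outside the centralizer has index at most four. -/
theorem outer_index_le (hS : IsPGroup 2 S) {E : Subgroup S} (hn : E.Normal)
    (hcomm : ∀ x ∈ E, ∀ y ∈ E, x * y = y * x) (hsq : ∀ x ∈ E, x * x = 1) (hE : Nat.card E = 8)
    (H : Subgroup S) : (cPart E H ⊔ frattini H).index ≤ 4 := by
  haveI : Fact (Nat.Prime 2) := ⟨Nat.prime_two⟩
  haveI := hn
  set C := Subgroup.centralizer (E : Set S) with hC
  set D := cPart E H with hD
  obtain ⟨h8, hne⟩ := aut_bound hS hn hcomm hsq hE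
  have hle : (D ⊔ frattini H).index ∣ D.index := Subgroup.index_dvd_of_le le_sup_left
  have hD8 : D.index ≤ 8 := by
    refine le_trans ?_ h8
    show C.relIndex H ≤ C.index
    rw [← Subgroup.relIndex_top_right]
    exact Subgroup.relIndex_le_of_le_right le_top (by
      rw [Subgroup.relIndex_top_right]; exact Subgroup.index_ne_zero_of_finite)
  have hpos : 0 < D.index := Nat.pos_of_ne_zero Subgroup.index_ne_zero_of_finite
  by_contra hgt
  obtain ⟨j, hj⟩ := FourGen.two_pow_of_dvd (hS.to_subgroup H) (Subgroup.index_dvd_card (D ⊔ frattini H))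
  obtain ⟨i, hi⟩ := FourGen.two_pow_of_dvd (hS.to_subgroup H) (Subgroup.index_dvd_card D)
  have hj3 : 3 ≤ j := by
    by_contra hh
    have : 2 ^ j ≤ 2 ^ 2 := Nat.pow_le_pow_right (by norm_num) (by omega)
    omega
  have h3 : 2 ^ 3 ≤ 2 ^ j := Nat.pow_le_pow_right (by norm_num) hj3
  have hle' := Nat.le_of_dvd hpos hle
  have heq : D = D ⊔ frattini H :=
    Subgroup.eq_of_le_of_card_ge le_sup_left (by
      have h1 := D.card_mul_index
      have h2 := (D ⊔ frattini H).card_mul_index
      have h4 : D.index = (D ⊔ frattini H).index := by omega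
      rw [← h2, h4] at h1
      exact le_of_eq (Nat.eq_of_mul_eq_mul_right (by omega) h1).symm)
  haveI : C.Normal := ⟨fun c hc g => Subgroup.mem_centralizer_iff.2 fun e he => by
    have h1 := Subgroup.mem_centralizer_iff.1 hc _ (hn.conj_mem e he g⁻¹)
    calc e * (g * c * g⁻¹) = g * ((g⁻¹ * e * g⁻¹⁻¹) * c) * g⁻¹ := by group
      _ = g * (c * (g⁻¹ * e * g⁻¹⁻¹)) * g⁻¹ := by rw [h1]
      _ = g * c * g⁻¹ * e := by group⟩
  have h1 := Subgroup.relIndex_mul_index (le_sup_right : C ≤ H ⊔ C)
  rw [Subgroup.relIndex_sup_right] at h1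
  have h2 : C.relIndex H = D.index := rfl
  rw [h2] at h1
  have hC0 : C.index ≠ 0 := Subgroup.index_ne_zero_of_finite
  have hK1 : (H ⊔ C).index = 1 ∧ C.index = 8 := by
    rcases Nat.lt_or_ge (H ⊔ C).index 2 with hlt | hge
    · have : (H ⊔ C).index ≠ 0 := Subgroup.index_ne_zero_of_finite
      have hone : (H ⊔ C).index = 1 := by omega
      rw [hone, mul_one] at h1
      exact ⟨hone, by omega⟩
    · exfalso; nlinarith
  obtain ⟨g, v, hgv⟩ := hne hK1.2
  refine hgv ?_
  have hrep : ∀ s : S, ∃ u ∈ H, u⁻¹ * s ∈ C := fun s => by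
    obtain ⟨u, hu, w, hw, huw⟩ := Subgroup.mem_sup_of_normal_right.1
      ((Subgroup.index_eq_one.1 hK1.1).symm ▸ Subgroup.mem_top s : s ∈ H ⊔ C)
    exact ⟨u, hu, by rw [← huw, inv_mul_cancel_left]; exact hw⟩
  obtain ⟨g', hg', hgc⟩ := hrep g
  obtain ⟨v', hv', hvc⟩ := hrep v
  have h4 : (⁅(⟨g', hg'⟩ : H), ⟨v', hv'⟩⁆ : H) ∈ D := by
    rw [heq]
    exact Subgroup.mem_sup_right (Agent.Grp.pGroup_commutator_le_frattini (hS.to_subgroup H)
      (Subgroup.commutator_mem_commutator (Subgroup.mem_top _) (Subgroup.mem_top _)))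
  have h5 : ⁅g', v'⁆ ∈ C := Subgroup.mem_subgroupOf.1 h4
  rw [← QuotientGroup.eq_one_iff, ← QuotientGroup.mk'_apply, map_commutatorElement] at h5 ⊢
  rwa [QuotientGroup.mk'_apply, QuotientGroup.mk'_apply, ← QuotientGroup.eq.2 hgc, ← QuotientGroup.eq.2 hvc,
    ← QuotientGroup.mk'_apply, ← QuotientGroup.mk'_apply]

/-- The trace of `E` counts at most half when some element moves it. -/
theorem ePart_bound (hS : IsPGroup 2 S) {E : Subgroup S} (hn : E.Normal) (hsq : ∀ x ∈ E, x * x = 1)
    (hE : Nat.card E = 8) {H : Subgroup S} {g : S} (hg : g ∈ H)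
    (hgC : g ∉ Subgroup.centralizer (E : Set S)) :
    (frattini H).relIndex (ePart E H) ≤ 4 := by
  haveI : Fact (Nat.Prime 2) := ⟨Nat.prime_two⟩
  have hcard : Nat.card (ePart E H) = Nat.card (E ⊓ H : Subgroup S) := by
    rw [ePart, ← Subgroup.inf_subgroupOf_right E H]
    exact Nat.card_congr (Subgroup.subgroupOfEquivOfLe inf_le_right).toEquiv
  have hle : Nat.card (E ⊓ H : Subgroup S) ≤ 8 := hE ▸ Subgroup.card_le_of_le inf_le_left
  by_cases hfull : E ≤ H
  · obtain ⟨e, he, hne⟩ : ∃ e ∈ E, g * e * g⁻¹ ≠ e := by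
      by_contra hc
      push Not at hc
      exact hgC (Subgroup.mem_centralizer_iff.2 fun e he => (mul_inv_eq_iff_eq_mul.1 (hc e he)).symm)
    have hmem : (⟨g, hg⟩ : H) * ⟨e, hfull he⟩ * (⟨g, hg⟩ : H)⁻¹ * (⟨e, hfull he⟩ : H)⁻¹ ∈ frattini H := by
      rw [← commutatorElement_def]
      exact Agent.Grp.pGroup_commutator_le_frattini (hS.to_subgroup H)
        (Subgroup.commutator_mem_commutator (Subgroup.mem_top _) (Subgroup.mem_top _))
    have h1 := relIndex_half hmem (Subgroup.mem_subgroupOf.2 (by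
      push_cast
      exact E.mul_mem (hn.conj_mem e he g) (E.inv_mem he))) (fun hh => hne (by
        have := congrArg Subtype.val hh
        push_cast at this
        exact mul_inv_eq_one.1 this))
    rw [hcard] at h1
    show (frattini H).relIndex (E.subgroupOf H) ≤ 4
    omega
  · have h1 := relIndex_inter (frattini H) (ePart E H)
    have hpos : 0 < Nat.card (frattini H ⊓ ePart E H : Subgroup H) := Nat.card_pos
    have h4 : Nat.card (E ⊓ H : Subgroup S) ≤ 4 := by
      obtain ⟨j, hj⟩ := IsPGroup.iff_card.1 (hS.to_subgroup (E ⊓ H : Subgroup S))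
      have hlt : Nat.card (E ⊓ H : Subgroup S) ≠ 8 := fun hh => hfull
        (inf_eq_left.1 (Subgroup.eq_of_le_of_card_ge inf_le_left (by rw [hh, hE])))
      rw [hj] at hle hlt ⊢
      have hj3 : j ≤ 2 := by
        by_contra hh
        have h3 : 2 ^ 3 ≤ 2 ^ j := Nat.pow_le_pow_right (by norm_num) (by omega)
        omega
      exact le_trans (Nat.pow_le_pow_right (by norm_num) hj3) (by norm_num)
    rw [hcard] at h1
    nlinarith

namespace Pt

variable {E : Subgroup S} {a : S} (h : Pt E a) (hS : IsPGroup 2 S)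
include h hS

/-- Every subgroup has Frattini index at most sixteen. -/
theorem frattini_le (H : Subgroup S) : (frattini H).index ≤ 16 := by
  classical
  haveI : Fact (Nat.Prime 2) := ⟨Nat.prime_two⟩
  haveI := h.normal
  set C := Subgroup.centralizer (E : Set S) with hC
  haveI : C.Normal := ⟨fun c hc g => h.cent_conj hc g⟩
  haveI : (cPart E H).Normal := Subgroup.Normal.comap ‹C.Normal› _
  haveI : (ePart E H).Normal := Subgroup.Normal.comap h.normal _
  rw [index_three (E := E) (H := H) (fun x hx => Subgroup.mem_subgroupOf.2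
    (h.E_le_cent (Subgroup.mem_subgroupOf.1 hx)))]
  set D := cPart E H with hD
  set D0 := ePart E H with hD0
  set L := D0 ⊔ frattini H with hL
  have hLsq : ∀ x : H, x * x ∈ L := fun x => Subgroup.mem_sup_right (by
    rw [← pow_two]; exact Agent.Grp.pGroup_pow_mem_frattini (hS.to_subgroup H) x)
  have hEL : ∀ x : H, (x : S) ∈ E → x ∈ L := fun x hx =>
    Subgroup.mem_sup_left (Subgroup.mem_subgroupOf.2 hx)
  have hd08 : (frattini H).relIndex D0 ≤ 8 := by
    have h1 := relIndex_inter (frattini H) D0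
    have h2 : Nat.card D0 ≤ 8 := by
      rw [← h.cardE]
      refine Nat.card_le_card_of_injective (fun x => (⟨((x : H) : S), Subgroup.mem_subgroupOf.1 x.2⟩ : E))
        fun x y hxy => Subtype.ext (Subtype.ext (congrArg (fun z : E => (z : S)) hxy))
    have hpos : 0 < Nat.card (frattini H ⊓ D0 : Subgroup H) := Nat.card_pos
    nlinarith
  have hr := outer_index_le hS h.normal h.comm h.sq h.cardE H
  -- a cyclic trace gives a factor two
  have hcycD : ∀ K : Subgroup S, (∀ x : H, x ∈ D → (x : S) ∈ K) → K ≤ H → CycMod E K →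
      (∀ k : H, (k : S) ∈ K → k ∈ D) → L.relIndex D ≤ 2 := by
    intro K hDK hKH hcK hKD
    obtain ⟨k, hk, hgen⟩ := hcK
    refine relIndex_le_two hLsq (hKD ⟨k, hKH hk⟩ hk) fun x hx => ?_
    obtain ⟨i, hi⟩ := hgen _ (hDK x hx)
    exact ⟨i, hEL _ (by push_cast; exact hi)⟩
  obtain ⟨r, hrT, hR⟩ := h.exists_gen hS
  have hCT : C ≤ Subgroup.centralizer (plane E a : Set S) := h.cent_le_centW
  -- a subgroup of the centralizer of the plane needs two generators modulo `E`
  have htwo : ∀ M : Subgroup H, (∀ x ∈ M, (x : S) ∈ Subgroup.centralizer (plane E a : Set S)) →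
      L.relIndex M ≤ 4 := by
    intro M hMT
    have hR' : ∀ x ∈ M, ∀ y ∈ M, (x : S) ∉ Subgroup.zpowers r ⊔ E → (y : S) ∉ Subgroup.zpowers r ⊔ E →
        ((x * y : H) : S) ∈ Subgroup.zpowers r ⊔ E := fun x hx y hy hx' hy' => hR _ (hMT x hx) _ (hMT y hy) hx' hy'
    obtain ⟨k, hk, hgen⟩ := cycMod_of_le (E := E) (r := r)
      (K := (M.map H.subtype) ⊓ (Subgroup.zpowers r ⊔ E)) inf_le_right
    obtain ⟨k', hk', rfl⟩ := Subgroup.mem_map.1 hk.1
    have hcyc : ∀ x ∈ M, (x : S) ∈ Subgroup.zpowers r ⊔ E → ∃ i : ℤ, (k' ^ i)⁻¹ * x ∈ L := by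
      intro x hx hxR
      obtain ⟨i, hi⟩ := hgen (x : S) ⟨Subgroup.mem_map_of_mem H.subtype hx, hxR⟩
      exact ⟨i, hEL _ (by push_cast; exact hi)⟩
    obtain ⟨y, hy, hycase⟩ : ∃ y ∈ M, ∀ x ∈ M, (x : S) ∈ Subgroup.zpowers r ⊔ E ∨
        ((y⁻¹ * x : H) : S) ∈ Subgroup.zpowers r ⊔ E := by
      by_cases hall : ∀ x ∈ M, (x : S) ∈ Subgroup.zpowers r ⊔ E
      · exact ⟨1, M.one_mem, fun x hx => Or.inl (hall x hx)⟩
      push Not at hall
      obtain ⟨y, hy, hy'⟩ := hall
      refine ⟨y, hy, fun x hx => ?_⟩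
      by_cases hxR : (x : S) ∈ Subgroup.zpowers r ⊔ E
      · exact Or.inl hxR
      · exact Or.inr (hR' _ (M.inv_mem hy) x hx (fun hh => hy' (by
          rw [Subgroup.coe_inv] at hh
          exact (Subgroup.inv_mem_iff _).1 hh)) hxR)
    exact relIndex_le_four hLsq hk' hy fun x hx => (hycase x hx).imp (hcyc x hx)
      (hcyc _ (M.mul_mem (M.inv_mem hy) hx))
  by_cases hHC : H ≤ C
  · have hDtop : D = ⊤ := eq_top_iff.2 fun x _ => Subgroup.mem_subgroupOf.2 (hHC x.2)
    have hr1 : (D ⊔ frattini H).index = 1 := by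
      rw [hDtop, top_sup_eq, Subgroup.index_top]
    rw [hr1, mul_one]
    by_cases hcH : CycMod E H
    · have := hcycD H (fun x _ => x.2) le_rfl hcH fun k _ => hDtop ▸ Subgroup.mem_top k
      nlinarith
    · have hncC : ¬ CycMod E C := fun hc => hcH (by
        obtain ⟨k, hk, hgen⟩ := hc
        exact cycMod_of_le (r := k) fun x hx => mem_sup_zpowers.2 (hgen x (hHC hx)))
      obtain ⟨ε, hεW, hε1, -, -, hwit⟩ := h.noncyclic hS hncC
      have hεE : ε ∈ E := (Subgroup.mem_inf.1 hεW).1
      have hhalf : 2 * (frattini H).relIndex D0 ≤ 8 := by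
        have hcard : Nat.card D0 ≤ 8 := by
          rw [← h.cardE]
          refine Nat.card_le_card_of_injective (fun x => (⟨((x : H) : S), Subgroup.mem_subgroupOf.1 x.2⟩ : E))
            fun x y hxy => Subtype.ext (Subtype.ext (congrArg (fun z : E => (z : S)) hxy))
        rcases hwit H hHC hcH with ⟨d, hd, hde⟩ | ⟨d, hd, d', hd', hde⟩
        · refine le_trans (relIndex_half (x := (⟨d, hd⟩ : H) * ⟨d, hd⟩)
            (by rw [← pow_two]; exact Agent.Grp.pGroup_pow_mem_frattini (hS.to_subgroup H) _)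
            (Subgroup.mem_subgroupOf.2 (by push_cast; rw [hde]; exact hεE))
            fun hh => hε1 (by rw [← hde]; exact congrArg Subtype.val hh)) hcard
        · refine le_trans (relIndex_half (x := ⁅(⟨d, hd⟩ : H), ⟨d', hd'⟩⁆)
            (Agent.Grp.pGroup_commutator_le_frattini (hS.to_subgroup H)
              (Subgroup.commutator_mem_commutator (Subgroup.mem_top _) (Subgroup.mem_top _)))
            (Subgroup.mem_subgroupOf.2 (show ⁅d, d'⁆ ∈ E by rw [hde]; exact hεE))
            fun hh => hε1 (by rw [← hde]; exact congrArg Subtype.val hh)) hcard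
      have := htwo D fun x hx => hCT (Subgroup.mem_subgroupOf.1 hx)
      nlinarith
  obtain ⟨g, hg, hgC⟩ := SetLike.not_le_iff_exists.1 hHC
  have hd04 := ePart_bound hS h.normal h.sq h.cardE hg hgC
  by_cases hcyc : CycMod E C
  · have hrel : L.relIndex D ≤ 2 := hcycD (H ⊓ C)
      (fun x hx => ⟨x.2, Subgroup.mem_subgroupOf.1 hx⟩) inf_le_left
      (by
        obtain ⟨k, hk, hgen⟩ := hcyc
        exact cycMod_of_le (r := k) fun x hx => mem_sup_zpowers.2 (hgen x hx.2))
      fun k hk => Subgroup.mem_subgroupOf.2 hk.2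
    rcases Nat.lt_or_ge (D ⊔ frattini H).index 4 with hlt | hge
    · obtain ⟨j, hj⟩ := FourGen.two_pow_of_dvd (hS.to_subgroup H) (Subgroup.index_dvd_card (D ⊔ frattini H))
      have hj2 : (D ⊔ frattini H).index ≤ 2 := by
        rw [hj] at hlt ⊢
        rcases j with _ | _ | j
        · norm_num
        · norm_num
        · exfalso
          have : 2 ^ 2 ≤ 2 ^ (j + 1 + 1) := Nat.pow_le_pow_right (by norm_num) (by omega)
          omega
      calc _ ≤ 4 * (2 * 2) := Nat.mul_le_mul hd04 (Nat.mul_le_mul hrel hj2)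
        _ = 16 := by norm_num
    · by_cases hrel1 : L.relIndex D ≤ 1
      · calc _ ≤ 4 * (1 * 4) := Nat.mul_le_mul hd04 (Nat.mul_le_mul hrel1 hr)
          _ = 16 := by norm_num
      by_cases hd2 : (frattini H).relIndex D0 ≤ 2
      · calc _ ≤ 2 * (2 * 4) := Nat.mul_le_mul hd2 (Nat.mul_le_mul hrel hr)
          _ = 16 := by norm_num
      exact (h.trouble hS hcyc H hge (show 2 ≤ L.relIndex D by omega)
        (show 3 ≤ (frattini H).relIndex D0 by omega)).elim
  · have hT : ∀ x : H, (x : S) ∈ Subgroup.centralizer (plane E a : Set S) := fun x => by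
      rcases h.eq_cent_or_mul hS hcyc (x : S) with hh | hh
      · exact hCT hh
      · have h1 := Subgroup.mul_mem _ (hCT hh) (Subgroup.inv_mem _ h.a_mem_centW)
        rwa [mul_inv_cancel_right] at h1
    have h4 : L.index ≤ 4 := by
      have := htwo ⊤ fun x _ => hT x
      rwa [Subgroup.relIndex_top_right] at this
    have h5 : L.relIndex D * (D ⊔ frattini H).index = L.index := by
      rw [← Subgroup.relIndex_sup_right (H := D) (K := L)]
      have hDL : D ⊔ L = D ⊔ frattini H := by
        rw [hL, ← sup_assoc, sup_eq_left.2 (show D0 ≤ D from fun x hx => Subgroup.mem_subgroupOf.2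
          (h.E_le_cent (Subgroup.mem_subgroupOf.1 hx)))]
      rw [hDL, Subgroup.relIndex_mul_index]
      exact sup_le (le_sup_of_le_left fun x hx => Subgroup.mem_subgroupOf.2
        (h.E_le_cent (Subgroup.mem_subgroupOf.1 hx))) le_sup_right
    rw [h5]
    calc _ ≤ 4 * 4 := Nat.mul_le_mul hd04 h4
      _ = 16 := by norm_num

end Pt

/-- The case of a self-centralizing normal subgroup of order eight. -/
theorem frattini_le_self (hS : IsPGroup 2 S) {E : Subgroup S} (hn : E.Normal)
    (hcomm : ∀ x ∈ E, ∀ y ∈ E, x * y = y * x) (hsq : ∀ x ∈ E, x * x = 1) (hE : Nat.card E = 8)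
    (hC : Subgroup.centralizer (E : Set S) = E) (H : Subgroup S) : (frattini H).index ≤ 16 := by
  haveI : Fact (Nat.Prime 2) := ⟨Nat.prime_two⟩
  haveI := hn
  haveI : (cPart E H).Normal := by
    rw [cPart, hC]; exact Subgroup.Normal.comap hn _
  haveI : (ePart E H).Normal := Subgroup.Normal.comap hn _
  have hsame : cPart E H = ePart E H := by rw [cPart, hC]
  rw [index_three (E := E) (H := H) hsame.ge]
  have h1 : (ePart E H ⊔ frattini H).relIndex (cPart E H) = 1 :=
    Subgroup.relIndex_eq_one.2 (hsame.le.trans le_sup_left)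
  have hr := outer_index_le hS hn hcomm hsq hE H
  rw [h1, one_mul]
  by_cases hHE : H ≤ E
  · have : (cPart E H ⊔ frattini H).index = 1 := Subgroup.index_eq_one.2 (eq_top_iff.2 fun x _ =>
      Subgroup.mem_sup_left (Subgroup.mem_subgroupOf.2 (hC.ge (hHE x.2))))
    have h2 := relIndex_inter (frattini H) (ePart E H)
    have h3 : Nat.card (ePart E H) ≤ 8 := by
      rw [← hE]
      refine Nat.card_le_card_of_injective (fun x => (⟨((x : H) : S), Subgroup.mem_subgroupOf.1 x.2⟩ : E))
        fun x y hxy => Subtype.ext (Subtype.ext (congrArg (fun z : E => (z : S)) hxy))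
    have hpos : 0 < Nat.card (frattini H ⊓ ePart E H : Subgroup H) := Nat.card_pos
    rw [this]
    nlinarith
  · obtain ⟨g, hg, hgE⟩ := SetLike.not_le_iff_exists.1 hHE
    have h2 := ePart_bound hS hn hsq hE hg (hC.symm ▸ hgE)
    calc _ ≤ 4 * 4 := Nat.mul_le_mul h2 hr
      _ = 16 := by norm_num

end Cfsg.Agent.Char.HaradaEight
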