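import Mathlib
import Cfsg.Agent.Lib.Char.HaradaEightMain
import Cfsg.Agent.Lib.Char.FourGenMain

/-!
A 2-group with a self-centralizing elementary abelian subgroup of order eight has sectional 2-rank at most
four: either it has no normal elementary abelian subgroup of order eight, or such a subgroup and one of the
involutions give the setting of `Pt`.
-/

set_option autoImplicit false
set_option linter.style.haveILetI false
set_option linter.unusedSectionVars false

namespace Cfsg.Agent.Char.HaradaEight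

universe u

variable {S : Type u} [Group S] [Finite S]

theorem exists_normal_eight (hS : IsPGroup 2 S) {B : Subgroup S} (hn : B.Normal)
    (hcomm : ∀ x ∈ B, ∀ y ∈ B, x * y = y * x) (hsq : ∀ x ∈ B, x * x = 1) (h8 : 4 < Nat.card B) :
    ∃ E : Subgroup S, E.Normal ∧ E ≤ B ∧ Nat.card E = 8 := by
  haveI : Fact (Nat.Prime 2) := ⟨Nat.prime_two⟩
  obtain ⟨j, hj⟩ := IsPGroup.iff_card.1 (hS.to_subgroup B)
  have hj3 : 3 ≤ j := by
    by_contra hh
    have : 2 ^ j ≤ 2 ^ 2 := Nat.pow_le_pow_right (by norm_num) (by omega)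
    omega
  have step : ∀ k, k ≤ 3 → ∃ E : Subgroup S, E.Normal ∧ E ≤ B ∧ Nat.card E = 2 ^ k := by
    intro k
    induction k with
    | zero => exact fun _ => ⟨⊥, inferInstance, bot_le, by simp⟩
    | succ k ih =>
      intro hk
      obtain ⟨E, hEn, hEB, hE⟩ := ih (by omega)
      haveI := hEn
      haveI := (hS.to_quotient E).isNilpotent
      haveI : (B.map (QuotientGroup.mk' E)).Normal := hn.map _ (QuotientGroup.mk'_surjective _)
      have hne : B.map (QuotientGroup.mk' E) ≠ ⊥ := fun hb => by
        have hle : B ≤ E := fun x hx => (QuotientGroup.eq_one_iff x).1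
          (Subgroup.mem_bot.1 (hb ▸ Subgroup.mem_map_of_mem (QuotientGroup.mk' E) hx))
        have h1 := Subgroup.card_le_of_le hle
        rw [hj, hE] at h1
        have := (Nat.pow_le_pow_iff_right (by norm_num : 1 < 2)).1 h1
        omega
      obtain ⟨⟨q, hqB, hqZ⟩, hq1⟩ := (Subgroup.ne_bot_iff_exists_ne_one).1 (Agent.Grp.inf_center_ne_bot _ hne)
      obtain ⟨b, hb, rfl⟩ := Subgroup.mem_map.1 hqB
      have hbE : b ∉ E := fun hh => hq1 (Subtype.ext ((QuotientGroup.eq_one_iff b).2 hh))
      have hbb := hsq b hb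
      let F : Subgroup S :=
        { carrier := {x | x ∈ E ∨ x * b ∈ E}
          one_mem' := Or.inl E.one_mem
          mul_mem' := by
            rintro x y (hx | hx) (hy | hy)
            · exact Or.inl (E.mul_mem hx hy)
            · exact Or.inr (by rw [mul_assoc]; exact E.mul_mem hx hy)
            · refine Or.inr ?_
              rw [show x * y * b = x * b * (b⁻¹ * y * b⁻¹⁻¹) by group]
              exact E.mul_mem hx (hEn.conj_mem y hy _)
            · refine Or.inl ?_
              have h1 := E.mul_mem hx (hEn.mem_comm hy)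
              rwa [show x * b * (b * y) = x * (b * b) * y by group, hbb, mul_one] at h1
          inv_mem' := by
            rintro x (hx | hx)
            · exact Or.inl (E.inv_mem hx)
            · refine Or.inr ?_
              have h1 := E.inv_mem (hEn.mem_comm hx)
              rwa [mul_inv_rev, inv_eq_of_mul_eq_one_left hbb] at h1 }
      refine ⟨F, ⟨fun x hx g => ?_⟩, fun x hx => ?_, ?_⟩
      · rcases hx with hx | hx
        · exact Or.inl (hEn.conj_mem x hx g)
        · refine Or.inr ?_
          have hgb : g * b * g⁻¹ * b ∈ E := by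
            rw [← QuotientGroup.eq_one_iff, QuotientGroup.mk_mul, QuotientGroup.mk_mul, QuotientGroup.mk_mul,
              QuotientGroup.mk_inv]
            have h2 : (g : S ⧸ E) * b = (b : S ⧸ E) * g := Subgroup.mem_center_iff.1 hqZ (g : S ⧸ E)
            rw [h2, mul_inv_cancel_right, ← QuotientGroup.mk_mul, hbb, QuotientGroup.mk_one]
          have h3 := E.mul_mem (hEn.conj_mem _ hx g) hgb
          rwa [show g * (x * b) * g⁻¹ * (g * b * g⁻¹ * b) = g * x * (b * b) * g⁻¹ * b by group, hbb,
            mul_one] at h3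
      · rcases hx with hx | hx
        · exact hEB hx
        · have := B.mul_mem (hEB hx) (B.inv_mem hb)
          rwa [mul_inv_cancel_right] at this
      · have h1 : E ≤ F := fun x hx => Or.inl hx
        have hbF : b ∈ F := Or.inr (by rw [hbb]; exact E.one_mem)
        have hidx : (E.subgroupOf F).index = 2 := by
          refine Subgroup.index_eq_two_iff.2 ⟨⟨b, hbF⟩, fun x => ?_⟩
          rw [xor_iff_not_iff, Subgroup.mem_subgroupOf, Subgroup.mem_subgroupOf, Subgroup.coe_mul]
          rcases x.2 with hx | hx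
          · intro hh
            exact hbE ((Subgroup.mul_mem_cancel_left E hx).1 (hh.2 hx))
          · intro hh
            exact hbE ((Subgroup.mul_mem_cancel_left E (hh.1 hx)).1 hx)
        have h2 := (E.subgroupOf F).card_mul_index
        rw [Nat.card_congr (Subgroup.subgroupOfEquivOfLe h1).toEquiv, hidx, hE] at h2
        rw [← h2, pow_succ]
  exact (step 3 le_rfl).imp fun E hE => ⟨hE.1, hE.2.1, hE.2.2.trans (by norm_num)⟩

/-- An involution fixes at least a plane of an elementary abelian group of order eight. -/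
theorem card_fixed {E : Subgroup S} (hn : E.Normal) (hcomm : ∀ x ∈ E, ∀ y ∈ E, x * y = y * x)
    (hsq : ∀ x ∈ E, x * x = 1) (hE : Nat.card E = 8) {a : S} (ha : a * a = 1)
    (hne : a ∉ Subgroup.centralizer (E : Set S)) :
    Nat.card (E ⊓ Subgroup.centralizer {a} : Subgroup S) = 4 := by
  haveI : Fact (Nat.Prime 2) := ⟨Nat.prime_two⟩
  have hai : a⁻¹ = a := inv_eq_of_mul_eq_one_left ha
  have hconj : ∀ e ∈ E, a * e * a ∈ E := fun e he => by
    have := hn.conj_mem e he a
    rwa [hai] at this
  let f : E →* E := MonoidHom.mk' (fun e => e * ⟨a * e * a, hconj e e.2⟩) fun x y => Subtype.ext (by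
    show (x : S) * y * (a * ((x : S) * y) * a) = x * (a * x * a) * (y * (a * y * a))
    have h1 : a * ((x : S) * y) * a = (a * x * a) * (a * y * a) := by
      rw [show a * (x : S) * a * (a * y * a) = a * x * (a * a) * y * a by group, ha]; group
    rw [h1, mul_assoc (x : S), ← mul_assoc (y : S), hcomm _ y.2 _ (hconj x x.2)]
    group)
  have hker : f.ker = (E ⊓ Subgroup.centralizer {a}).subgroupOf E := by
    ext e
    rw [MonoidHom.mem_ker, Subgroup.mem_subgroupOf, Subgroup.mem_inf, Subgroup.mem_centralizer_singleton_iff]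
    constructor
    · intro he
      have h1 : (e : S) * (a * e * a) = 1 := congrArg Subtype.val he
      refine ⟨e.2, ?_⟩
      have h2 : a * (e : S) * a = e := by
        rw [eq_inv_of_mul_eq_one_right h1, inv_eq_of_mul_eq_one_left (hsq e e.2)]
      conv_lhs => rw [← h2]
      rw [mul_assoc, ha, mul_one]
    · rintro ⟨-, he⟩
      refine Subtype.ext ?_
      show (e : S) * (a * e * a) = 1
      rw [← he, mul_assoc (e : S) a, ha, mul_one, hsq e e.2]
  have hle : f.range ≤ f.ker := by
    rintro _ ⟨e, rfl⟩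
    refine Subtype.ext ?_
    show (e : S) * (a * e * a) * (a * ((e : S) * (a * e * a)) * a) = 1
    rw [show a * ((e : S) * (a * e * a)) * a = a * e * a * e * (a * a) by group, ha, mul_one]
    calc (e : S) * (a * e * a) * (a * e * a * e) = e * ((a * e * a) * (a * e * a)) * e := by group
      _ = 1 := by rw [hsq _ (hconj e e.2), mul_one, hsq e e.2]
  have h1 := f.ker.card_mul_index
  rw [Subgroup.index_ker, hE] at h1
  have h2 := Subgroup.card_le_of_le hle
  have hcard : Nat.card f.ker = Nat.card (E ⊓ Subgroup.centralizer {a} : Subgroup S) := by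
    rw [hker]; exact Nat.card_congr (Subgroup.subgroupOfEquivOfLe inf_le_left).toEquiv
  have h8 : Nat.card (E ⊓ Subgroup.centralizer {a} : Subgroup S) ≠ 8 := fun hh => hne (by
    have heq := Subgroup.eq_of_le_of_card_ge (inf_le_left : E ⊓ Subgroup.centralizer {a} ≤ E) (by rw [hh, hE])
    refine Subgroup.mem_centralizer_iff.2 fun e he => ?_
    exact Subgroup.mem_centralizer_singleton_iff.1 (Subgroup.mem_inf.1 (heq.symm ▸ he)).2)
  rw [hcard] at h1 h2
  have hd : Nat.card (E ⊓ Subgroup.centralizer {a} : Subgroup S) ∣ 8 := Dvd.intro _ h1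
  have hle8 := Nat.le_of_dvd (by norm_num) hd
  interval_cases hk : Nat.card (E ⊓ Subgroup.centralizer {a} : Subgroup S) <;> omega

variable {E A : Subgroup S}

/-- The centralizer of `E` and an involution of `A` lies in the plane when `A` meets `E` in order two. -/
theorem inner_le (hS : IsPGroup 2 S) (hn : E.Normal) (hEc : ∀ x ∈ E, ∀ y ∈ E, x * y = y * x)
    (hEs : ∀ x ∈ E, x * x = 1) (hAs : ∀ x ∈ A, x * x = 1) (hI : Nat.card (A ⊓ E : Subgroup S) = 2)
    {u v : S} (hu : u ∈ A) (hv : v ∈ A) (huv : u * v = v * u)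
    (hW : Nat.card (E ⊓ Subgroup.centralizer {u} : Subgroup S) = 4)
    (hfix : ∀ x, x ∈ Subgroup.centralizer (E : Set S) → x * u = u * x → x * v = v * x → x ∈ A ⊓ E)
    {x : S} (hx : x ∈ Subgroup.centralizer (E : Set S)) (hxu : x * u = u * x) :
    x ∈ E ⊓ Subgroup.centralizer {u} := by
  classical
  set X := Subgroup.centralizer (E : Set S) ⊓ Subgroup.centralizer {u} with hX
  have hXmem : ∀ {y : S}, y ∈ X ↔ y ∈ Subgroup.centralizer (E : Set S) ∧ y * u = u * y := fun {y} => by
    rw [hX, Subgroup.mem_inf, Subgroup.mem_centralizer_singleton_iff]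
  have hvv := hAs v hv
  have hvi : v⁻¹ = v := inv_eq_of_mul_eq_one_left hvv
  have hvX : ∀ {y : S}, y ∈ X → v * y * v ∈ X := by
    intro y hy
    obtain ⟨h1, h2⟩ := hXmem.1 hy
    refine hXmem.2 ⟨Subgroup.mem_centralizer_iff.2 fun e he => ?_, ?_⟩
    · have h3 := Subgroup.mem_centralizer_iff.1 h1 _ (hn.conj_mem e he v⁻¹)
      calc e * (v * y * v) = v * ((v⁻¹ * e * v⁻¹⁻¹) * y) * v := by group
        _ = v * (y * (v⁻¹ * e * v⁻¹⁻¹)) * v := by rw [h3]
        _ = v * y * v⁻¹ * e * (v * v) := by group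
        _ = v * y * v * e := by rw [hvv, mul_one, hvi]
    · calc v * y * v * u = v * y * (u * v) := by rw [huv]; group
        _ = v * (u * y) * v := by rw [← h2]; group
        _ = u * (v * y * v) := by rw [← mul_assoc v u, ← huv]; group
  set W := E ⊓ Subgroup.centralizer {u} with hWdef
  have hWX : W ≤ X := fun y hy => Subgroup.mem_inf.2 ⟨Subgroup.mem_centralizer_iff.2 fun e he =>
    hEc e he y (Subgroup.mem_inf.1 hy).1, (Subgroup.mem_inf.1 hy).2⟩
  obtain ⟨e, heW, heI⟩ : ∃ e ∈ W, e ∉ A ⊓ E := by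
    by_contra hc
    push Not at hc
    have := Subgroup.card_le_of_le (hc : W ≤ A ⊓ E)
    rw [hW, hI] at this
    omega
  obtain ⟨heE, heu⟩ := Subgroup.mem_inf.1 heW
  have heX := hXmem.1 (hWX heW)
  have hve : v * e * v ∈ E := by
    have := hn.conj_mem e heE v
    rwa [hvi] at this
  set w := e * (v * e * v) with hw
  have hveq : v * e * v = e * w := by rw [hw, ← mul_assoc, hEs e heE, one_mul]
  have hw1 : w ≠ 1 := fun hh => heI (hfix e heX.1 heX.2 (by
    have h1 : v * e * v = e := by rw [hveq, hh, mul_one]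
    conv_lhs => rw [← h1]
    rw [mul_assoc, hvv, mul_one]))
  have hvinv : ∀ {y : S}, y ∈ X → v * (y⁻¹ * (v * y * v)) * v = (y⁻¹ * (v * y * v))⁻¹ := by
    intro y _
    rw [mul_inv_rev, mul_inv_rev, mul_inv_rev, inv_inv, hvi,
      show v * (y⁻¹ * (v * y * v)) * v = v * (y⁻¹ * (v * (y * (v * v)))) by group, hvv, mul_one]
    group
  let J := {y : X // v * (y : S) * v = ((y : S))⁻¹}
  have hdisj : ∀ {y : S}, y ∈ X → v * y * v = y⁻¹ → v * (y * e) * v ≠ (y * e)⁻¹ := by
    intro y hy hy1 hy2
    have he1 : e * y = y * e := Subgroup.mem_centralizer_iff.1 (hXmem.1 hy).1 e heE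
    have h1 : v * (y * e) * v = y⁻¹ * (e * w) := by
      rw [← hy1, ← hveq, show v * y * v * (v * e * v) = v * y * (v * v) * e * v by group, hvv]; group
    rw [h1, mul_inv_rev, inv_eq_of_mul_eq_one_left (hEs e heE)] at hy2
    have h2 : e * y⁻¹ = y⁻¹ * e := (Commute.inv_right (show Commute e y from he1)).eq
    rw [h2] at hy2
    exact hw1 (mul_eq_left.1 (mul_left_cancel hy2))
  have hJ : Nat.card X ≤ Nat.card J * 2 := by
    let g : X → J := fun y => ⟨⟨(y : S)⁻¹ * (v * y * v), X.mul_mem (X.inv_mem y.2) (hvX y.2)⟩, hvinv y.2⟩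
    let rep : J → X := fun j => if hj : ∃ y, g y = j then hj.choose else 1
    have hrep : ∀ y : X, g (rep (g y)) = g y := fun y => by
      simp only [rep]
      rw [dif_pos ⟨y, rfl⟩]
      exact Exists.choose_spec (⟨y, rfl⟩ : ∃ y', g y' = g y)
    let G : X → J × (A ⊓ E : Subgroup S) := fun y => (g y, ⟨(y : S) * ((rep (g y) : X) : S)⁻¹, by
      have h1 : (((rep (g y) : X) : S))⁻¹ * (v * (rep (g y) : X) * v) = (y : S)⁻¹ * (v * y * v) :=
        congrArg (fun z : J => ((z.1 : X) : S)) (hrep y)
      set t := ((rep (g y) : X) : S)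
      have htX : t ∈ X := (rep (g y)).2
      have hd := hXmem.1 (X.mul_mem y.2 (X.inv_mem htX))
      refine hfix _ hd.1 hd.2 ?_
      have h2 : v * ((y : S) * t⁻¹) * v = (y : S) * t⁻¹ := by
        have h3 : v * (y : S) * v = (y : S) * (t⁻¹ * (v * t * v)) := by rw [h1, mul_inv_cancel_left]
        calc v * ((y : S) * t⁻¹) * v = (v * (y : S) * v) * (v * t⁻¹ * v) := by
              rw [show v * (y : S) * v * (v * t⁻¹ * v) = v * y * (v * v) * t⁻¹ * v by group, hvv]; group
          _ = (y : S) * t⁻¹ * (v * t * v) * (v * t⁻¹ * v) := by rw [h3]; group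
          _ = (y : S) * t⁻¹ * (v * t * (v * v) * t⁻¹ * v) := by group
          _ = (y : S) * t⁻¹ := by rw [hvv, mul_one, mul_inv_cancel_right, hvv, mul_one]
      conv_lhs => rw [← h2]
      rw [mul_assoc, hvv, mul_one]⟩)
    have hG : Function.Injective G := by
      intro y y' hyy
      obtain ⟨h1, h2⟩ := Prod.ext_iff.1 hyy
      have h3 := congrArg (fun z : (A ⊓ E : Subgroup S) => (z : S)) h2
      simp only [G] at h3
      rw [show g y = g y' from h1] at h3
      exact Subtype.ext (mul_right_cancel h3)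
    have h4 := Nat.card_le_card_of_injective G hG
    rwa [Nat.card_prod, hI] at h4
  let eX : X := ⟨e, hWX heW⟩
  let Φ : J × Bool → X := fun p => bif p.2 then p.1.1 * eX else p.1.1
  have hΦ : Function.Injective Φ := by
    rintro ⟨⟨y, hy⟩, b⟩ ⟨⟨y', hy'⟩, b'⟩ heq
    cases b <;> cases b' <;> simp only [Φ, cond_true, cond_false] at heq
    · subst heq; rfl
    · exact absurd (by rw [heq] at hy; exact hy) (hdisj y'.2 hy')
    · exact absurd (by rw [← heq] at hy'; exact hy') (hdisj y.2 hy)
    · have := mul_right_cancel heq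
      subst this; rfl
  have hsurj : Function.Surjective Φ := ((Nat.bijective_iff_injective_and_card Φ).2
    ⟨hΦ, le_antisymm (Nat.card_le_card_of_injective Φ hΦ) (by rw [Nat.card_prod]; simpa using hJ)⟩).2
  have hcover : ∀ {y : S}, y ∈ X → v * y * v = y⁻¹ ∨ v * (y * e) * v = (y * e)⁻¹ := by
    intro y hy
    obtain ⟨⟨⟨j, hj⟩, b⟩, hjb⟩ := hsurj ⟨y, hy⟩
    have h1 := congrArg (fun z : X => (z : S)) hjb
    cases b
    · left
      simp only [Φ, cond_false] at h1
      rw [← h1]; exact hj
    · right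
      simp only [Φ, cond_true, Subgroup.coe_mul] at h1
      rw [← h1, show ((j : X) : S) * (eX : S) * e = ((j : X) : S) by
        rw [mul_assoc]; show (j : S) * (e * e) = j; rw [hEs e heE, mul_one]]
      exact hj
  by_contra hxW
  obtain ⟨i, hi1, hi2⟩ := exists_pow_invol hS W hxW
  have hyX : x ^ 2 ^ i ∈ X := X.pow_mem (hXmem.2 ⟨hx, hxu⟩) _
  set y := x ^ 2 ^ i with hy
  have hy2 : y * y ∈ W := by rw [hy, ← pow_two, ← pow_mul, ← pow_succ]; exact hi2
  -- choose the inverted one
  obtain ⟨y', hy'X, hy'W, hy'2, hy'J⟩ : ∃ y' ∈ X, y' ∉ W ∧ y' * y' ∈ W ∧ v * y' * v = y'⁻¹ := by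
    rcases hcover hyX with hh | hh
    · exact ⟨y, hyX, hi1, hy2, hh⟩
    · refine ⟨y * e, X.mul_mem hyX (hWX heW), fun hm => hi1 ((Subgroup.mul_mem_cancel_right W heW).1 hm), ?_, hh⟩
      have he1 : e * y = y * e := Subgroup.mem_centralizer_iff.1 (hXmem.1 hyX).1 e heE
      rw [mul_assoc, ← mul_assoc e y e, he1, mul_assoc y e e, hEs e heE, mul_one]
      exact hy2
  have hy2E : y' * y' ∈ E := (Subgroup.mem_inf.1 hy'2).1
  have hv2 : v * (y' * y') * v = y' * y' := by
    calc v * (y' * y') * v = (v * y' * v) * (v * y' * v) := by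
          rw [show v * y' * v * (v * y' * v) = v * y' * (v * v) * y' * v by group, hvv]; group
      _ = (y' * y')⁻¹ := by rw [hy'J]; group
      _ = y' * y' := inv_eq_of_mul_eq_one_left (hEs _ hy2E)
  have hcomv : ∀ {z : S}, v * z * v = z → z * v = v * z := fun {z} hz => by
    conv_lhs => rw [← hz]
    rw [mul_assoc, hvv, mul_one]
  have hsqI := hfix _ (hXmem.1 (X.mul_mem hy'X hy'X)).1 (hXmem.1 (X.mul_mem hy'X hy'X)).2 (hcomv hv2)
  have hwI : w ∈ A ⊓ E := by
    have hwX : w ∈ X := X.mul_mem (hWX heW) (hvX (hWX heW))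
    refine hfix w (hXmem.1 hwX).1 (hXmem.1 hwX).2 (hcomv ?_)
    calc v * w * v = (v * e * v) * (v * (v * e * v) * v) := by
          rw [hw, show v * e * v * (v * (v * e * v) * v) = v * e * (v * v) * (v * e * v) * v by group, hvv]
          group
      _ = (v * e * v) * e := by
          rw [show v * (v * e * v) * v = (v * v) * e * (v * v) by group, hvv, one_mul, mul_one]
      _ = w := hEc _ hve _ heE
  have hcases : y' * y' = 1 ∨ y' * y' = w := by
    by_contra hno
    push Not at hno
    let T : Fin 3 → (A ⊓ E : Subgroup S) := ![1, ⟨w, hwI⟩, ⟨_, hsqI⟩]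
    have hT : Function.Injective T := by
      intro s t hst
      have h' := congrArg Subtype.val hst
      fin_cases s <;> fin_cases t <;> simp [T] at h' ⊢ <;> first
        | exact hw1 h' | exact hw1 h'.symm | exact hno.1 h' | exact hno.1 h'.symm | exact hno.2 h'
        | exact hno.2 h'.symm
    have := Nat.card_le_card_of_injective T hT
    rw [hI] at this
    simp at this
  rcases hcases with hh | hh
  · have hfixy : v * y' * v = y' := by rw [hy'J, inv_eq_of_mul_eq_one_left hh]
    have := hfix y' (hXmem.1 hy'X).1 (hXmem.1 hy'X).2 (hcomv hfixy)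
    exact hy'W (Subgroup.mem_inf.2 ⟨(Subgroup.mem_inf.1 this).2,
      Subgroup.mem_centralizer_singleton_iff.2 (hXmem.1 hy'X).2⟩)
  · have hye : y' * e ∈ X := X.mul_mem hy'X (hWX heW)
    have hfixy : v * (y' * e) * v = y' * e := by
      have hinv : y'⁻¹ = y' * w := by
        rw [← hh, inv_eq_iff_mul_eq_one, ← mul_assoc, hh, ← hh]
        exact hEs _ hy2E
      calc v * (y' * e) * v = (v * y' * v) * (v * e * v) := by
            rw [show v * y' * v * (v * e * v) = v * y' * (v * v) * e * v by group, hvv]; group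
        _ = y' * w * (e * w) := by rw [hy'J, hinv, hveq]
        _ = y' * e * (w * w) := by
            have hwE : w ∈ E := (Subgroup.mem_inf.1 hwI).2
            rw [mul_assoc y' w, ← mul_assoc w e, hEc w hwE e heE]; group
        _ = y' * e := by rw [hEs w (Subgroup.mem_inf.1 hwI).2, mul_one]
    have h1 := hfix _ (hXmem.1 hye).1 (hXmem.1 hye).2 (hcomv hfixy)
    refine hy'W ((Subgroup.mul_mem_cancel_right W heW).1 ?_)
    exact Subgroup.mem_inf.2 ⟨(Subgroup.mem_inf.1 h1).2,
      Subgroup.mem_centralizer_singleton_iff.2 (hXmem.1 hye).2⟩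

theorem exists_pt (hS : IsPGroup 2 S) (hn : E.Normal) (hEc : ∀ x ∈ E, ∀ y ∈ E, x * y = y * x)
    (hEs : ∀ x ∈ E, x * x = 1) (hE : Nat.card E = 8) (hAc : ∀ x ∈ A, ∀ y ∈ A, x * y = y * x)
    (hAs : ∀ x ∈ A, x * x = 1) (hA : Nat.card A = 8) (hC : Subgroup.centralizer (A : Set S) = A)
    (hne : A ≠ E) : ∃ a, Pt E a := by
  classical
  haveI : Fact (Nat.Prime 2) := ⟨Nat.prime_two⟩
  haveI := hS.isNilpotent
  haveI := hn
  set I := A ⊓ E with hI
  have hmemA : ∀ {x : S}, (∀ b ∈ A, b * x = x * b) → x ∈ A := fun {x} hx => by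
    rw [← hC]; exact Subgroup.mem_centralizer_iff.2 hx
  obtain ⟨jI, hjI⟩ := IsPGroup.iff_card.1 (hS.to_subgroup I)
  have hI8 : Nat.card I ≠ 8 := fun hh => hne (by
    have h1 : I = A := Subgroup.eq_of_le_of_card_ge inf_le_left (by rw [hh, hA])
    have h2 : I = E := Subgroup.eq_of_le_of_card_ge inf_le_right (by rw [hh, hE])
    rw [← h1, h2])
  have hI1 : 1 < Nat.card I := by
    obtain ⟨⟨w, hwE, hwZ⟩, hw1⟩ := (Subgroup.ne_bot_iff_exists_ne_one).1 (Agent.Grp.inf_center_ne_bot E
      fun hb => by rw [hb, Subgroup.card_bot] at hE; omega)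
    refine (Subgroup.one_lt_card_iff_ne_bot _).2 fun hb => hw1 (Subtype.ext ?_)
    have hwA : w ∈ A := hmemA fun b _ => Subgroup.mem_center_iff.1 hwZ b
    exact Subgroup.mem_bot.1 (hb ▸ (⟨hwA, hwE⟩ : w ∈ I))
  have hI24 : Nat.card I = 2 ∨ Nat.card I = 4 := by
    have h8 : Nat.card I ≤ 8 := hA ▸ Subgroup.card_le_of_le inf_le_left
    rw [hjI] at hI1 h8 hI8 ⊢
    rcases jI with _ | _ | _ | _ | jI
    · norm_num at hI1
    · norm_num
    · norm_num
    · norm_num at hI8
    · exfalso
      have : 2 ^ 4 ≤ 2 ^ (jI + 1 + 1 + 1 + 1) := Nat.pow_le_pow_right (by norm_num) (by omega)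
      omega
  obtain ⟨u, huA, huI⟩ : ∃ u ∈ A, u ∉ I := by
    by_contra hc
    push Not at hc
    have := Subgroup.card_le_of_le (hc : A ≤ I)
    omega
  have hcI : ∀ {x : S}, x ∈ Subgroup.centralizer (E : Set S) → ∀ b ∈ I, b * x = x * b := fun hx b hb =>
    Subgroup.mem_centralizer_iff.1 hx b hb.2
  let M : Subgroup S :=
    { carrier := {x | x ∈ A ∧ (x ∈ I ∨ x * u ∈ I)}
      one_mem' := ⟨A.one_mem, Or.inl I.one_mem⟩
      mul_mem' := by
        rintro x y ⟨hxA, hx⟩ ⟨hyA, hy⟩
        refine ⟨A.mul_mem hxA hyA, ?_⟩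
        rcases hx with hx | hx <;> rcases hy with hy | hy
        · exact Or.inl (I.mul_mem hx hy)
        · exact Or.inr (by rw [mul_assoc]; exact I.mul_mem hx hy)
        · refine Or.inr ?_
          rw [mul_assoc, hAc y hy.1 u huA, ← mul_assoc]
          exact I.mul_mem hx hy
        · refine Or.inl ?_
          have h1 := I.mul_mem hx hy
          rwa [show x * u * (y * u) = x * (u * y) * u by group, hAc u huA y hyA,
            show x * (y * u) * u = x * y * (u * u) by group, hAs u huA, mul_one] at h1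
      inv_mem' := by
        rintro x ⟨hxA, hx⟩
        rw [inv_eq_of_mul_eq_one_left (hAs x hxA)]
        exact ⟨hxA, hx⟩ }
  have huM : u ∈ M := ⟨huA, Or.inr (by rw [hAs u huA]; exact I.one_mem)⟩
  have hMcard : Nat.card M ≤ Nat.card I * 2 := by
    rw [show Nat.card I * 2 = Nat.card (I × Bool) by rw [Nat.card_prod]; simp]
    let f : I × Bool → M := fun p => bif p.2 then ⟨p.1 * u, A.mul_mem p.1.2.1 huA, Or.inr (by
      rw [mul_assoc, hAs u huA, mul_one]; exact p.1.2)⟩ else ⟨p.1, p.1.2.1, Or.inl p.1.2⟩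
    refine Nat.card_le_card_of_surjective f fun x => ?_
    rcases x.2.2 with hx | hx
    · exact ⟨(⟨x, hx⟩, false), rfl⟩
    · exact ⟨(⟨(x : S) * u, hx⟩, true), Subtype.ext (by
        show (x : S) * u * u = x
        rw [mul_assoc, hAs u huA, mul_one])⟩
  rcases hI24 with hI2 | hI4
  swap
  · have hMA : M = A := Subgroup.eq_of_le_of_card_ge (fun x hx => hx.1) (by
      have h1 : I < M := lt_of_le_of_ne (fun x hx => ⟨hx.1, Or.inl hx⟩) fun hh => huI (hh ▸ huM)
      obtain ⟨k, hk⟩ := Subgroup.card_dvd_of_le h1.le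
      have hlt : Nat.card I < Nat.card M := lt_of_le_of_ne (Subgroup.card_le_of_le h1.le) fun hh =>
        h1.ne (Subgroup.eq_of_le_of_card_ge h1.le hh.ge)
      rw [hA, hk, hI4]
      rcases k with _ | _ | k <;> omega)
    have hgen : ∀ {x : S}, (∀ b ∈ I, b * x = x * b) → u * x = x * u → x ∈ A := by
      intro x hxI hxu
      refine hmemA fun b hb => ?_
      obtain ⟨-, hh | hh⟩ : b ∈ M := hMA.symm ▸ hb
      · exact hxI b hh
      · have h1 : Commute (b * u) x := hxI _ hh
        have h2 := h1.mul_left (show Commute u x from hxu)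
        rw [mul_assoc, hAs u huA, mul_one] at h2
        exact h2.eq
    have hnc : u ∉ Subgroup.centralizer (E : Set S) := by
      intro hu
      refine hne (Subgroup.eq_of_le_of_card_ge (fun x hx => ?_) (by rw [hA, hE])).symm
      exact hgen (fun b hb => hEc b hb.2 x hx) (Subgroup.mem_centralizer_iff.1 hu x hx).symm
    have hW := card_fixed hn hEc hEs hE (hAs u huA) hnc
    have hWI : I = E ⊓ Subgroup.centralizer {u} := Subgroup.eq_of_le_of_card_ge (fun x hx =>
      Subgroup.mem_inf.2 ⟨hx.2, Subgroup.mem_centralizer_singleton_iff.2 (hAc x hx.1 u huA)⟩)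
      (by rw [hW, hI4])
    refine ⟨u, ⟨hn, hEc, hEs, hE, hAs u huA, hW, fun x hx hxu => ?_⟩⟩
    rw [← hWI] at hx ⊢
    obtain ⟨-, hh⟩ : x ∈ M := hMA.symm ▸ hgen (fun b hb => Subgroup.mem_centralizer_iff.1 hx b hb) hxu.symm
    exact hh
  · obtain ⟨v, hvA, hvM⟩ : ∃ v ∈ A, v ∉ M := by
      by_contra hc
      push Not at hc
      have := Subgroup.card_le_of_le (hc : A ≤ M)
      omega
    have hIM : ∀ {b : S}, b ∈ I → b ∈ M := fun hb => ⟨hb.1, Or.inl hb⟩
    -- commuting with `I`, `u` and `v` puts an element into `A`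
    have hgen : ∀ {x : S}, (∀ b ∈ I, b * x = x * b) → u * x = x * u → v * x = x * v → x ∈ A := by
      intro x hxI hxu hxv
      refine hmemA fun b hb => ?_
      have hIltM : I < M := lt_of_le_of_ne (fun y hy => hIM hy) fun hh => huI (hh ▸ huM)
      have hM4 : Nat.card M = 4 := by
        have hlt : Nat.card I < Nat.card M := lt_of_le_of_ne (Subgroup.card_le_of_le hIltM.le) fun hh =>
          hIltM.ne (Subgroup.eq_of_le_of_card_ge hIltM.le hh.ge)
        obtain ⟨k, hk⟩ := Subgroup.card_dvd_of_le hIltM.le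
        rw [hI2] at hk hlt hMcard
        rcases k with _ | _ | _ | k <;> omega
      have hM : ∀ {c : S}, c ∈ M → c * x = x * c := by
        rintro c ⟨-, hh | hh⟩
        · exact hxI c hh
        · have h1 : Commute (c * u) x := hxI _ hh
          have h2 := h1.mul_left (show Commute u x from hxu)
          rw [mul_assoc, hAs u huA, mul_one] at h2
          exact h2.eq
      by_cases hbM : b ∈ M
      · exact hM hbM
      · have h1 := index_two_mul (fun y hy => hy.1 : M ≤ A) (by rw [hM4, hA]) hb hvA hbM hvM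
        have h2 : Commute (b * v) x := hM h1
        have h3 := h2.mul_left (show Commute v x from hxv)
        rw [mul_assoc, hAs v hvA, mul_one] at h3
        exact h3.eq
    have hfix : ∀ x, x ∈ Subgroup.centralizer (E : Set S) → x * u = u * x → x * v = v * x → x ∈ I := by
      intro x hx hxu hxv
      have hxA := hgen (hcI hx) hxu.symm hxv.symm
      refine ⟨hxA, ?_⟩
      by_contra hxE
      -- an involution of `A` centralizing `E` leaves too large a fixed space
      obtain ⟨t, htA, ht⟩ : ∃ t ∈ A, ∀ {y : S}, y ∈ E → t * y = y * t → y ∈ A := by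
        by_cases hxM : x ∈ M
        · refine ⟨v, hvA, fun {y} hy hty => hgen (fun b hb => hEc b hb.2 y hy) ?_ hty⟩
          have h1 : Commute (x * u) y := hEc _ ((hxM.2.resolve_left fun hh => hxE hh.2)).2 y hy
          have h2 : Commute x y := (Subgroup.mem_centralizer_iff.1 hx y hy).symm
          have h3 := h2.inv_left.mul_left h1
          rw [inv_mul_cancel_left] at h3
          exact h3.eq
        · refine ⟨u, huA, fun {y} hy hty => hgen (fun b hb => hEc b hb.2 y hy) hty ?_⟩
          have hIltM : I < M := lt_of_le_of_ne (fun y hy => hIM hy) fun hh => huI (hh ▸ huM)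
          have hM4 : Nat.card M = 4 := by
            have hlt : Nat.card I < Nat.card M := lt_of_le_of_ne (Subgroup.card_le_of_le hIltM.le) fun hh =>
              hIltM.ne (Subgroup.eq_of_le_of_card_ge hIltM.le hh.ge)
            obtain ⟨k, hk⟩ := Subgroup.card_dvd_of_le hIltM.le
            rw [hI2] at hk hlt hMcard
            rcases k with _ | _ | _ | k <;> omega
          obtain ⟨-, hh | hh⟩ := index_two_mul (fun z hz => hz.1 : M ≤ A) (by rw [hM4, hA]) hxA hvA hxM hvM
          · have h1 : Commute (x * v) y := hEc _ hh.2 y hy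
            have h2 : Commute x y := (Subgroup.mem_centralizer_iff.1 hx y hy).symm
            have h3 := h2.inv_left.mul_left h1
            rw [inv_mul_cancel_left] at h3
            exact h3.eq
          · have h1 : Commute (x * v * u) y := hEc _ hh.2 y hy
            have h2 : Commute x y := (Subgroup.mem_centralizer_iff.1 hx y hy).symm
            have h3 := h2.inv_left.mul_left (h1.mul_left (show Commute u y from hty))
            rw [show x⁻¹ * (x * v * u * u) = v * (u * u) by group, hAs u huA, mul_one] at h3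
            exact h3.eq
      by_cases htC : t ∈ Subgroup.centralizer (E : Set S)
      · have hle : E ≤ I := fun y hy => ⟨ht hy (Subgroup.mem_centralizer_iff.1 htC y hy).symm, hy⟩
        have := Subgroup.card_le_of_le hle
        omega
      · have hW := card_fixed hn hEc hEs hE (hAs t htA) htC
        have hle : E ⊓ Subgroup.centralizer {t} ≤ I := fun y hy =>
          ⟨ht (Subgroup.mem_inf.1 hy).1 (Subgroup.mem_centralizer_singleton_iff.1 (Subgroup.mem_inf.1 hy).2).symm,
            (Subgroup.mem_inf.1 hy).1⟩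
        have := Subgroup.card_le_of_le hle
        omega
    have hncA : ∀ {b : S}, b ∈ A → b ∉ I → b ∉ Subgroup.centralizer (E : Set S) := fun {b} hb hbI hbC =>
      hbI (hfix b hbC (hAc b hb u huA) (hAc b hb v hvA))
    have hvI : v ∉ I := fun hh => hvM (hIM hh)
    have hWu := card_fixed hn hEc hEs hE (hAs u huA) (hncA huA huI)
    have hWv := card_fixed hn hEc hEs hE (hAs v hvA) (hncA hvA hvI)
    have hinner_u := fun {x : S} (hx : x ∈ Subgroup.centralizer (E : Set S)) (hxu : x * u = u * x) =>
      inner_le hS hn hEc hEs hAs hI2 huA hvA (hAc u huA v hvA) hWu hfix hx hxu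
    have hinner_v := fun {x : S} (hx : x ∈ Subgroup.centralizer (E : Set S)) (hxv : x * v = v * x) =>
      inner_le hS hn hEc hEs hAs hI2 hvA huA (hAc v hvA u huA) hWv
        (fun y hy h1 h2 => hfix y hy h2 h1) hx hxv
    by_contra hno
    push Not at hno
    obtain ⟨x, hxT, hxu, hxW, hxuW⟩ : ∃ x, x ∈ Subgroup.centralizer ((plane E u : Subgroup S) : Set S) ∧
        x * u = u * x ∧ x ∉ plane E u ∧ x * u ∉ plane E u := by
      by_contra hc
      push Not at hc
      exact hno u ⟨hn, hEc, hEs, hE, hAs u huA, hWu, fun y h1 h2 => or_iff_not_imp_left.2 (hc y h1 h2)⟩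
    obtain ⟨y, hyT, hyv, hyW, hyvW⟩ : ∃ y, y ∈ Subgroup.centralizer ((plane E v : Subgroup S) : Set S) ∧
        y * v = v * y ∧ y ∉ plane E v ∧ y * v ∉ plane E v := by
      by_contra hc
      push Not at hc
      exact hno v ⟨hn, hEc, hEs, hE, hAs v hvA, hWv, fun y h1 h2 => or_iff_not_imp_left.2 (hc y h1 h2)⟩
    set C := Subgroup.centralizer (E : Set S) with hCdef
    haveI : C.Normal := ⟨fun c hc g => Subgroup.mem_centralizer_iff.2 fun e he => by
      have h1 := Subgroup.mem_centralizer_iff.1 hc _ (hn.conj_mem e he g⁻¹)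
      calc e * (g * c * g⁻¹) = g * ((g⁻¹ * e * g⁻¹⁻¹) * c) * g⁻¹ := by group
        _ = g * (c * (g⁻¹ * e * g⁻¹⁻¹)) * g⁻¹ := by rw [h1]
        _ = g * c * g⁻¹ * e := by group⟩
    have hinj : ∀ {p q : S}, p * p ∈ C → q * q = 1 → p ∉ C → q ∉ C → p * q ∉ C →
        Function.Injective (fun b : Bool × Bool => (((bif b.1 then p else 1) * (bif b.2 then q else 1) : S) :
          S ⧸ C)) := by
      intro p q hpp hqq hp hq hpq
      have hP : (p : S ⧸ C) ≠ 1 := mt (QuotientGroup.eq_one_iff p).1 hp
      have hQ : (q : S ⧸ C) ≠ 1 := mt (QuotientGroup.eq_one_iff q).1 hq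
      have hPP : (p : S ⧸ C) * p = 1 := by rw [← QuotientGroup.mk_mul, QuotientGroup.eq_one_iff]; exact hpp
      have hPQ : (p : S ⧸ C) * q ≠ 1 := by
        rw [← QuotientGroup.mk_mul]; exact mt (QuotientGroup.eq_one_iff _).1 hpq
      rintro ⟨b1, b2⟩ ⟨b1', b2'⟩ hbb
      cases b1 <;> cases b2 <;> cases b1' <;> cases b2' <;>
        simp only [cond_true, cond_false, one_mul, mul_one, QuotientGroup.mk_mul, QuotientGroup.mk_one] at hbb <;>
        first
        | rfl
        | exact absurd hbb hP | exact absurd hbb.symm hP | exact absurd hbb hQ | exact absurd hbb.symm hQ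
        | exact absurd hbb hPQ | exact absurd hbb.symm hPQ
        | exact absurd (mul_eq_left.1 hbb) hQ | exact absurd (mul_eq_left.1 hbb.symm) hQ
        | exact absurd (mul_eq_right.1 hbb) hP | exact absurd (mul_eq_right.1 hbb.symm) hP
        | exact absurd (hbb ▸ hPP) hPQ | exact absurd (hbb.symm ▸ hPP) hPQ
    have hsqC : ∀ {s t : S}, Nat.card (plane E t : Subgroup S) = 4 →
        s ∈ Subgroup.centralizer ((plane E t : Subgroup S) : Set S) → s * s ∈ C := by
      intro s t ht hs
      refine Subgroup.mem_centralizer_iff.2 fun e he => ?_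
      by_cases hn4 : e ∈ plane E t
      · exact Subgroup.mem_centralizer_iff.1 (Subgroup.mul_mem _ hs hs) e hn4
      have hfixW : ∀ w ∈ plane E t, s * w * s⁻¹ = w := fun w hw => by
        rw [← Subgroup.mem_centralizer_iff.1 hs w hw, mul_inv_cancel_right]
      have he' : s * e * s⁻¹ ∈ E := hn.conj_mem e he s
      have hn' : s * e * s⁻¹ ∉ plane E t := fun hh => hn4 (by
        have h1 := hfixW _ hh
        rwa [show s * e * s⁻¹ = e from mul_left_cancel (mul_right_cancel h1)] at hh)
      have hw := hfixW _ (index_two_mul (inf_le_left : plane E t ≤ E) (by rw [ht, hE]) he he' hn4 hn')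
      have h2 : s * (s * e * s⁻¹) * s⁻¹ = e := by
        have h3 : (s * e * s⁻¹) * (s * (s * e * s⁻¹) * s⁻¹) = e * (s * e * s⁻¹) :=
          (by group : _ = s * (e * (s * e * s⁻¹)) * s⁻¹).trans hw
        rw [hEc e he _ he'] at h3
        exact mul_left_cancel h3
      have h4 : s * s * e * (s * s)⁻¹ = e := by
        calc s * s * e * (s * s)⁻¹ = s * (s * e * s⁻¹) * s⁻¹ := by group
          _ = e := h2
      exact (mul_inv_eq_iff_eq_mul.1 h4).symm
    have h1 := hinj (hsqC hWu hxT) (hAs u huA)
      (fun hh => hxW (hinner_u hh hxu)) (hncA huA huI)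
      (fun hh => hxuW (hinner_u hh (by rw [mul_assoc, hAs u huA, mul_one, ← mul_assoc, ← hxu, mul_assoc,
        hAs u huA, mul_one])))
    have h2 := hinj (hsqC hWv hyT) (hAs v hvA)
      (fun hh => hyW (hinner_v hh hyv)) (hncA hvA hvI)
      (fun hh => hyvW (hinner_v hh (by rw [mul_assoc, hAs v hvA, mul_one, ← mul_assoc, ← hyv, mul_assoc,
        hAs v hvA, mul_one])))
    set f : Bool × Bool → S := fun b => (bif b.1 then x else 1) * (bif b.2 then u else 1)
    set g : Bool × Bool → S := fun b => (bif b.1 then y else 1) * (bif b.2 then v else 1)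
    have huT : u ∈ Subgroup.centralizer ((plane E u : Subgroup S) : Set S) :=
      Subgroup.mem_centralizer_iff.2 fun w hw =>
        Subgroup.mem_centralizer_singleton_iff.1 (Subgroup.mem_inf.1 hw).2
    have hvT : v ∈ Subgroup.centralizer ((plane E v : Subgroup S) : Set S) :=
      Subgroup.mem_centralizer_iff.2 fun w hw =>
        Subgroup.mem_centralizer_singleton_iff.1 (Subgroup.mem_inf.1 hw).2
    have hfT : ∀ b, f b ∈ Subgroup.centralizer ((plane E u : Subgroup S) : Set S) := fun b => by
      rcases b with ⟨b1, b2⟩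
      refine Subgroup.mul_mem _ ?_ ?_
      · cases b1
        exacts [Subgroup.one_mem _, hxT]
      · cases b2
        exacts [Subgroup.one_mem _, huT]
    have hgT : ∀ b, g b ∈ Subgroup.centralizer ((plane E v : Subgroup S) : Set S) := fun b => by
      rcases b with ⟨b1, b2⟩
      refine Subgroup.mul_mem _ ?_ ?_
      · cases b1
        exacts [Subgroup.one_mem _, hyT]
      · cases b2
        exacts [Subgroup.one_mem _, hvT]
    obtain ⟨e, heu, hev⟩ : ∃ e, e ∈ plane E u ∧ e ∉ plane E v := by
      by_contra hc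
      push Not at hc
      have hle : plane E u ≤ I := fun e he => by
        refine ⟨hgen (fun b hb => hEc b hb.2 e (Subgroup.mem_inf.1 he).1)
          (Subgroup.mem_centralizer_singleton_iff.1 (Subgroup.mem_inf.1 he).2).symm
          (Subgroup.mem_centralizer_singleton_iff.1 (Subgroup.mem_inf.1 (hc e he)).2).symm,
          (Subgroup.mem_inf.1 he).1⟩
      have := Subgroup.card_le_of_le hle
      rw [hWu] at this
      omega
    -- fixing both planes means centralizing
    have hboth : ∀ {s : S}, s ∈ Subgroup.centralizer ((plane E u : Subgroup S) : Set S) →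
        s ∈ Subgroup.centralizer ((plane E v : Subgroup S) : Set S) → s ∈ C := by
      intro s hs hs'
      refine Subgroup.mem_centralizer_iff.2 fun z hz => ?_
      by_cases hzv : z ∈ plane E v
      · exact Subgroup.mem_centralizer_iff.1 hs' z hzv
      · have h3 := index_two_mul (inf_le_left : plane E v ≤ E) (by rw [hWv, hE]) (Subgroup.mem_inf.1 heu).1 hz
          hev hzv
        have c1 : Commute (e * z) s := Subgroup.mem_centralizer_iff.1 hs' _ h3
        have c2 : Commute e s := Subgroup.mem_centralizer_iff.1 hs e heu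
        have c3 := c2.inv_left.mul_left c1
        rw [inv_mul_cancel_left] at c3
        exact c3.eq
    have hF : Function.Injective (fun p : (Bool × Bool) × (Bool × Bool) => ((f p.1 * g p.2 : S) : S ⧸ C)) := by
      rintro ⟨p1, p2⟩ ⟨q1, q2⟩ hpq
      simp only at hpq
      have hs : (f q1)⁻¹ * f p1 ∈ C := by
        -- it is congruent to an element of the other centralizer
        have h3 : ((f q1)⁻¹ * f p1 : S) ∈ Subgroup.centralizer ((plane E u : Subgroup S) : Set S) :=
          Subgroup.mul_mem _ (Subgroup.inv_mem _ (hfT q1)) (hfT p1)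
        have h4 : ((g q2 * (g p2)⁻¹ : S) : S ⧸ C) = (((f q1)⁻¹ * f p1 : S) : S ⧸ C) := by
          simp only [QuotientGroup.mk_mul, QuotientGroup.mk_inv] at hpq ⊢
          rw [eq_inv_mul_iff_mul_eq, ← mul_assoc, ← hpq, mul_inv_cancel_right]
        have h5 := QuotientGroup.eq.1 h4
        refine hboth h3 ?_
        have hCv : C ≤ Subgroup.centralizer ((plane E v : Subgroup S) : Set S) :=
          Subgroup.centralizer_le fun z hz => (Subgroup.mem_inf.1 hz).1
        have h6 := Subgroup.mul_mem _ (Subgroup.mul_mem _ (hgT q2) (Subgroup.inv_mem _ (hgT p2))) (hCv h5)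
        rwa [mul_inv_cancel_left] at h6
      have e1 : q1 = p1 := h1 (QuotientGroup.eq.2 hs)
      subst e1
      have e2 : p2 = q2 := h2 (by
        simp only [QuotientGroup.mk_mul] at hpq
        exact mul_left_cancel hpq)
      rw [e2]
    have := Nat.card_le_card_of_injective _ hF
    have h8 : C.index ≤ 8 := (aut_bound hS hn hEc hEs hE).1
    rw [show Nat.card ((Bool × Bool) × (Bool × Bool)) = 16 by simp] at this
    change 16 ≤ C.index at this
    omega

theorem sectional_rank (hS : IsPGroup 2 S) (A : Subgroup S) (hAc : ∀ x ∈ A, ∀ y ∈ A, x * y = y * x)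
    (hAs : ∀ x ∈ A, x * x = 1) (hA : Nat.card A = 8) (hC : Subgroup.centralizer (A : Set S) = A) :
    Cfsg.SectionalPRankLE 2 4 S := by
  by_cases hsmall : ∀ B : Subgroup S, B.Normal → IsMulCommutative B → (∀ b ∈ B, b ^ 2 = 1) → Nat.card B ≤ 4
  · exact FourGen.sectional_rank hS hsmall
  push Not at hsmall
  obtain ⟨B, hBn, hBc, hBs, hB⟩ := hsmall
  have hBc' : ∀ x ∈ B, ∀ y ∈ B, x * y = y * x := fun x hx y hy =>
    congrArg Subtype.val (hBc.1.1 ⟨x, hx⟩ ⟨y, hy⟩)
  have hBs' : ∀ x ∈ B, x * x = 1 := fun x hx => by rw [← pow_two]; exact hBs x hx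
  obtain ⟨E, hEn, hEB, hE⟩ := exists_normal_eight hS hBn hBc' hBs' hB
  have hEc : ∀ x ∈ E, ∀ y ∈ E, x * y = y * x := fun x hx y hy => hBc' x (hEB hx) y (hEB hy)
  have hEs : ∀ x ∈ E, x * x = 1 := fun x hx => hBs' x (hEB hx)
  refine FourGen.sectional_of_frattini fun H => ?_
  by_cases hAE : A = E
  · subst hAE
    exact frattini_le_self hS hEn hEc hEs hE hC H
  obtain ⟨a, ha⟩ := exists_pt hS hEn hEc hEs hE hAc hAs hA hC hAE
  exact ha.frattini_le hS H

end Cfsg.Agent.Char.HaradaEight
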