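import Cfsg.Agent.Lib.Char.KnorrBlocks
import Cfsg.Agent.Lib.Block.FirstMain
import Cfsg.Agent.Lib.Char.PairDefect

/-!
The correspondence of Harris and Knörr between blocks covering Brauer correspondents.
-/

set_option autoImplicit false
set_option linter.unusedSectionVars false
set_option linter.style.haveILetI false

namespace Cfsg.Agent.Char.HarrisKnorr

open Cfsg Cfsg.Agent.Block Cfsg.Agent.Char.BP

universe u

variable {G : Type u} [Group G] [Fintype G] {p : ℕ} {M : Ideal AlgInt}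

/-- Block induction on arbitrary central elements. -/
theorem induced_apply (hM : IsPModular p M) {H : Subgroup G} {b : Set (IrrCharacter H)}
    {B : Set (IrrCharacter G)} (hind : IsInducedBlock M H b B) {ξ : IrrCharacter H} (hξ : ξ ∈ b)
    {χ : IrrCharacter G} (hχ : χ ∈ B) {f : IrrCharacter G → ℂ} (hf : CenInt M f) :
    MemLocalIdeal M (resCen H f ξ - f χ) := by
  cases nonempty_fintype (ConjClasses G)
  rw [resCen_eq_sum_classes, eq_sum_centralChar f χ, ← Finset.sum_sub_distrib]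
  refine ideal_sum hM fun C _ => ?_
  rw [← mul_sub]
  exact ideal_mul_left hM (hf _) (hind.2.2 ξ hξ χ hχ _)

variable (N : Subgroup G) [hN : N.Normal] (Q : Subgroup G)

/-- The normalizer of `Q` in `N`, as a subgroup of `N`. -/
abbrev LN : Subgroup N := Subgroup.normalizer ((Q.subgroupOf N : Subgroup N) : Set N)

theorem mem_LN (hQN : Q ≤ N) (n : N) :
    n ∈ LN N Q ↔ (n : G) ∈ Subgroup.normalizer (Q : Set G) := by
  rw [Subgroup.mem_normalizer_iff, Subgroup.mem_normalizer_iff]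
  constructor
  · intro h x
    constructor
    · intro hx
      exact (h ⟨x, hQN hx⟩).1 hx
    · intro hx
      have hxN : x ∈ N := by
        have := hN.conj_mem _ (hQN hx) (n : G)⁻¹
        simpa [mul_assoc] using this
      exact (h ⟨x, hxN⟩).2 hx
  · intro h x
    exact h (x : G)

variable {N Q}

/-- The inclusion into the normalizer of `Q` in the group. -/
def toH (hQN : Q ≤ N) : LN N Q →* Subgroup.normalizer (Q : Set G) where
  toFun l := ⟨((l : N) : G), (mem_LN N Q hQN l).1 l.2⟩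
  map_one' := rfl
  map_mul' _ _ := rfl

/-- The two forms of the normalizer of `Q` in `N`. -/
def eqv (hQN : Q ≤ N) : N.subgroupOf (Subgroup.normalizer (Q : Set G)) ≃* LN N Q where
  toFun l := ⟨⟨((l : Subgroup.normalizer (Q : Set G)) : G), l.2⟩,
    (mem_LN N Q hQN _).2 (l : Subgroup.normalizer (Q : Set G)).2⟩
  invFun l := ⟨⟨((l : N) : G), (mem_LN N Q hQN l).1 l.2⟩, (l : N).2⟩
  left_inv _ := rfl
  right_inv _ := rfl
  map_mul' _ _ := rfl

/-- `ζ` is a constituent of the restriction of `ψ`. -/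
def Con [Fintype (LN N Q)] (hQN : Q ≤ N) (ψ : IrrCharacter (Subgroup.normalizer (Q : Set G)))
    (ζ : IrrCharacter (LN N Q)) : Prop :=
  classInner (fun l : LN N Q => (ψ : Subgroup.normalizer (Q : Set G) → ℂ) (toH hQN l))
    (ζ : LN N Q → ℂ) ≠ 0

theorem con_iff [Fintype (LN N Q)] [Fintype (N.subgroupOf (Subgroup.normalizer (Q : Set G)))]
    (hQN : Q ≤ N) (ψ : IrrCharacter (Subgroup.normalizer (Q : Set G)))
    (ζ : IrrCharacter (LN N Q)) :
    Con hQN ψ ζ ↔
      classInner (fun l : N.subgroupOf (Subgroup.normalizer (Q : Set G)) =>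
        (ψ : Subgroup.normalizer (Q : Set G) → ℂ) l)
        ((irrPull (eqv hQN) ζ : IrrCharacter _) :
          N.subgroupOf (Subgroup.normalizer (Q : Set G)) → ℂ) ≠ 0 := by
  unfold Con classInner
  rw [Nat.card_congr (eqv hQN).toEquiv, ← Fintype.sum_equiv (eqv hQN).toEquiv
    (fun l : N.subgroupOf (Subgroup.normalizer (Q : Set G)) =>
      (ψ : Subgroup.normalizer (Q : Set G) → ℂ) l *
        (starRingEnd ℂ) (((irrPull (eqv hQN) ζ : IrrCharacter _) :
          N.subgroupOf (Subgroup.normalizer (Q : Set G)) → ℂ) l))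
    (fun l : LN N Q => (ψ : Subgroup.normalizer (Q : Set G) → ℂ) (toH hQN l) *
        (starRingEnd ℂ) ((ζ : LN N Q → ℂ) l)) fun l => rfl]

theorem exists_con [Fintype (LN N Q)] (hQN : Q ≤ N)
    (ψ : IrrCharacter (Subgroup.normalizer (Q : Set G))) : ∃ ζ, Con hQN ψ ζ := by
  classical
  haveI := Fintype.ofFinite (N.subgroupOf (Subgroup.normalizer (Q : Set G)))
  obtain ⟨θ, hθ⟩ := exists_constituent_res (N.subgroupOf (Subgroup.normalizer (Q : Set G))) ψ
  refine ⟨irrPull (eqv hQN).symm θ, (con_iff hQN ψ _).2 ?_⟩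
  rwa [irrPull_symm_self]

/-- The Brauer image of a class meeting `N` seen in the normalizer and in `N`. -/
theorem key [Fintype N] [Fintype (LN N Q)] (hQN : Q ≤ N)
    {ψ : IrrCharacter (Subgroup.normalizer (Q : Set G))} {ζ : IrrCharacter (LN N Q)}
    (h : Con hQN ψ ζ) (n : N) :
    brauerCentralChar Q (Subgroup.normalizer (Q : Set G))
        (ψ : Subgroup.normalizer (Q : Set G) → ℂ) (n : G) =
      brCen (Q.subgroupOf N) (LN N Q)
        (fun η : IrrCharacter N => omegaFun η (fun m : N => classInd (n : G) (m : G))) ζ := by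
  classical
  haveI := Fintype.ofFinite (Subgroup.normalizer (Q : Set G))
  haveI := Fintype.ofFinite (N.subgroupOf (Subgroup.normalizer (Q : Set G)))
  haveI := Fintype.ofFinite (ConjClasses G)
  have hcls : IsClassFunction N (fun m : N => classInd (n : G) (m : G)) :=
    fun m t => classInd_classFun (n : G) (m : G) (t : G)
  rw [← brCen_centralChar, brCen_eq_omegaFun, brCen_eq_omegaFun,
    omegaFun_cover (N.subgroupOf (Subgroup.normalizer (Q : Set G)))
      (brFun_classFun le_rfl _) (fun x hx => ?_) ψ ((con_iff hQN ψ ζ).1 h)]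
  · rw [← omegaFun_irrPull (eqv hQN) ζ]
    congr 1
    funext l
    simp only [brFun, coeffFun_centralChar, coeffFun_omegaFun hcls]
    have hiff : (((l : Subgroup.normalizer (Q : Set G)) : G) ∈ Subgroup.centralizer (Q : Set G)) ↔
        ((eqv hQN l : LN N Q) : N) ∈
          Subgroup.centralizer ((Q.subgroupOf N : Subgroup N) : Set N) := by
      simp only [Subgroup.mem_centralizer_iff]
      constructor
      · exact fun hh u hu => Subtype.ext (hh (u : G) hu)
      · exact fun hh u hu => congrArg Subtype.val (hh ⟨u, hQN hu⟩ hu)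
    exact if_congr hiff rfl rfl
  · simp only [brFun, coeffFun_centralChar]
    split_ifs
    · exact classInd_support N n.2 hx
    · rfl

/-- Induction preserves the covering relation. -/
theorem cover_of_induced [Fact p.Prime] [Fintype N] [Fintype (LN N Q)] (hM : IsPModular p M)
    (hQ : IsPGroup p Q) (hQN : Q ≤ N) {c : Set (IrrCharacter (Subgroup.normalizer (Q : Set G)))}
    {B : Set (IrrCharacter G)} (hcB : IsInducedBlock M (Subgroup.normalizer (Q : Set G)) c B)
    {e : Set (IrrCharacter (LN N Q))} {d : Set (IrrCharacter N)}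
    (hed : IsInducedBlock M (LN N Q) e d)
    {ψ : IrrCharacter (Subgroup.normalizer (Q : Set G))} (hψ : ψ ∈ c)
    {ζ : IrrCharacter (LN N Q)} (hζ : ζ ∈ e) (h : Con hQN ψ ζ) :
    ∃ χ ∈ B, ∃ θ ∈ d, classInner (fun n : N => (χ : G → ℂ) n) (θ : N → ℂ) ≠ 0 := by
  classical
  refine (covers_iff_congr N hM hcB.2.1 hed.2.1).2 fun χ hχ θ hθ n => ?_
  have hcls : IsClassFunction N (fun m : N => classInd (n : G) (m : G)) :=
    fun m t => classInd_classFun (n : G) (m : G) (t : G)
  set F : IrrCharacter N → ℂ := fun η => omegaFun η (fun m : N => classInd (n : G) (m : G))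
  have hF : CenInt M F := fun m => by
    rw [coeffFun_omegaFun hcls]
    simp only [classInd]
    split_ifs
    · exact ring_one hM
    · exact ring_zero hM
  have h1 := (induced_iff_brauer hM hQ Subgroup.le_normalizer le_rfl hcB.1 hcB.2.1).1 hcB
    ψ hψ χ hχ (n : G)
  rw [key hQN h n] at h1
  have hQn : IsPGroup p (Q.subgroupOf N) :=
    hQ.of_equiv (Subgroup.subgroupOfEquivOfLe hQN).symm
  have h2 := resCen_sub_brCen_ideal hM hQn
    (Subgroup.le_normalizer (H := Q.subgroupOf N)) (le_refl (LN N Q)) hF ζ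
  have h3 := induced_apply hM hed hζ hθ hF
  rw [inducedCentralChar_eq_omegaFun]
  show MemLocalIdeal M (centralChar (χ : G → ℂ) (n : G) - F θ)
  have h4 := ideal_add hM (ideal_sub hM h3 h2) (ideal_sub_comm h1)
  convert h4 using 1
  ring

/-- Classes with small defect are single classes of the normalizer. -/
theorem class_lift [Fact p.Prime] (hQ : IsPGroup p Q) (hQN : Q ≤ N)
    (c : Subgroup.normalizer (Q : Set G)) (hc : (c : G) ∈ Subgroup.centralizer (Q : Set G))
    (hsmall : ∀ R : Subgroup G, IsPGroup p R → R ≤ Subgroup.centralizer ({(c : G)} : Set G) →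
      R ≤ Subgroup.normalizer (Q : Set G) → Nat.card (R ⊓ N : Subgroup G) ≤ Nat.card Q) :
    brCen Q (Subgroup.normalizer (Q : Set G))
        (fun χ : IrrCharacter G => centralChar (χ : G → ℂ) (c : G)) =
      fun ξ : IrrCharacter (Subgroup.normalizer (Q : Set G)) =>
        centralChar (ξ : (Subgroup.normalizer (Q : Set G)) → ℂ) c := by
  classical
  -- a Sylow subgroup of the centralizer containing `Q` normalizes `Q`
  obtain ⟨S, hS⟩ := exists_csyl_ge hQ (le_centralizer_singleton hc)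
  have hSH : csyl S ≤ (Subgroup.normalizer (Q : Set G)) := by
    haveI := (isPGroup_csyl S).isNilpotent
    set R0 : Subgroup G := csyl S ⊓ (Subgroup.normalizer (Q : Set G)) with hR0
    have hR0N : R0 ⊓ N = Q := by
      refine (Subgroup.eq_of_le_of_card_ge (le_inf (le_inf hS Subgroup.le_normalizer) hQN) ?_).symm
      exact hsmall _ ((isPGroup_csyl S).to_le inf_le_left) (inf_le_left.trans (csyl_le S))
        inf_le_right
    by_contra hne
    have hlt : R0.subgroupOf (csyl S) < ⊤ :=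
      lt_top_iff_ne_top.2 fun h => hne ((Subgroup.subgroupOf_eq_top.1 h).trans inf_le_right)
    obtain ⟨hsub, hnot⟩ := lt_iff_le_not_ge.1 (Group.normalizerCondition_of_isNilpotent _ hlt)
    refine hnot fun w hw => Subgroup.mem_subgroupOf.2 ⟨w.2, ?_⟩
    rw [Subgroup.mem_normalizer_iff] at hw
    refine Subgroup.mem_normalizer_iff.2 ?_
    have hwR : ∀ x : G, x ∈ R0 → (w : G) * x * (w : G)⁻¹ ∈ R0 ∧ (w : G)⁻¹ * x * (w : G) ∈ R0 := by
      intro x hx
      refine ⟨(hw ⟨x, hx.1⟩).1 hx, ?_⟩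
      have := (hw ⟨(w : G)⁻¹ * x * (w : G), mul_mem (mul_mem (inv_mem w.2) hx.1) w.2⟩).2
      exact this (by simpa [Subgroup.mem_subgroupOf, mul_assoc] using hx)
    intro x
    constructor
    · intro hx
      have hx' : x ∈ R0 ⊓ N := hR0N.symm ▸ hx
      have : (w : G) * x * (w : G)⁻¹ ∈ R0 ⊓ N := ⟨(hwR x hx'.1).1, hN.conj_mem _ hx'.2 _⟩
      rwa [hR0N] at this
    · intro hx
      have hx' : (w : G) * x * (w : G)⁻¹ ∈ R0 ⊓ N := hR0N.symm ▸ hx
      have h1 := (hwR _ hx'.1).2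
      have h2 := hN.conj_mem _ hx'.2 (w : G)⁻¹
      have : x ∈ R0 ⊓ N := ⟨by simpa [mul_assoc] using h1, by simpa [mul_assoc] using h2⟩
      rwa [hR0N] at this
  have hSN : csyl S ⊓ N = Q := (Subgroup.eq_of_le_of_card_ge (le_inf hS hQN)
    (hsmall _ (isPGroup_csyl S) (csyl_le S) hSH)).symm
  refine eq_of_coeffFun_eq (funext fun x => ?_)
  rw [coeffFun_brCen le_rfl, coeffFun_centralChar c]
  simp only [brFun, coeffFun_centralChar, classInd]
  by_cases h : IsConj c x
  · rw [if_pos h]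
    obtain ⟨t, ht⟩ := isConj_iff.1 h
    have hmem : (x : G) ∈ Subgroup.centralizer (Q : Set G) := by
      rw [← ht, Subgroup.coe_mul, Subgroup.coe_mul, Subgroup.coe_inv]
      exact centralizer_conj_mem t.2 hc
    rw [if_pos hmem, if_pos (isConj_iff.2 ⟨(t : G), by rw [← ht]; rfl⟩)]
  · rw [if_neg h]
    split_ifs with h1 h2
    · refine absurd ?_ h
      obtain ⟨g, hg⟩ := isConj_iff.1 h2
      have hle : Q.map (MulAut.conj g⁻¹).toMonoidHom ≤ Subgroup.centralizer ({(c : G)} : Set G) := by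
        refine le_centralizer_singleton (Subgroup.mem_centralizer_iff.2 ?_)
        rintro _ ⟨u, hu, rfl⟩
        have hu' := Subgroup.mem_centralizer_iff.1 h1 u hu
        rw [← hg] at hu'
        show g⁻¹ * u * g⁻¹⁻¹ * (c : G) = (c : G) * (g⁻¹ * u * g⁻¹⁻¹)
        calc g⁻¹ * u * g⁻¹⁻¹ * (c : G) = g⁻¹ * (u * (g * c * g⁻¹)) * g := by group
          _ = g⁻¹ * ((g * c * g⁻¹) * u) * g := by rw [hu']
          _ = _ := by group
      obtain ⟨S', hS'⟩ := exists_csyl_ge (isPGroup_map_conj g⁻¹ hQ) hle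
      obtain ⟨y, hy⟩ := MulAction.exists_smul_eq (Subgroup.centralizer ({(c : G)} : Set G)) S' S
      have hmap : Q.map (MulAut.conj ((y : G) * g⁻¹)).toMonoidHom ≤ Q := by
        rw [map_conj_le_iff]
        intro u hu
        refine hSN.le ⟨?_, hN.conj_mem _ (hQN hu) _⟩
        obtain ⟨w, hw, hwu⟩ := hS' (⟨u, hu, rfl⟩ : g⁻¹ * u * g⁻¹⁻¹ ∈ Q.map (MulAut.conj g⁻¹).toMonoidHom)
        refine ⟨y * w * y⁻¹, ?_, ?_⟩
        · rw [← hy, Sylow.coe_subgroup_smul]
          exact Subgroup.smul_mem_pointwise_smul w (MulAut.conj y) _ hw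
        · change (w : G) = g⁻¹ * u * g⁻¹⁻¹ at hwu
          show (y : G) * (w : G) * (y : G)⁻¹ = _
          rw [hwu]; group
      have hyH : (y : G) * g⁻¹ ∈ (Subgroup.normalizer (Q : Set G)) := by
        have heq : Q.map (MulAut.conj ((y : G) * g⁻¹)).toMonoidHom = Q :=
          Subgroup.eq_of_le_of_card_ge hmap (card_map_conj _ Q).ge
        rw [Subgroup.mem_normalizer_iff]
        intro u
        constructor
        · exact fun hu => map_conj_le_iff.1 hmap u hu
        · intro hu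
          obtain ⟨w, hw, hwu⟩ := heq.ge hu
          exact (MulAut.conj ((y : G) * g⁻¹)).injective hwu ▸ hw
      refine isConj_iff.2 ⟨(⟨_, hyH⟩ : (Subgroup.normalizer (Q : Set G)))⁻¹, Subtype.ext ?_⟩
      have hyC := Subgroup.mem_centralizer_singleton_iff.1 y.2
      show ((y : G) * g⁻¹)⁻¹ * (c : G) * ((y : G) * g⁻¹)⁻¹⁻¹ = (x : G)
      rw [← hg]
      calc ((y : G) * g⁻¹)⁻¹ * (c : G) * ((y : G) * g⁻¹)⁻¹⁻¹
          = g * ((y : G)⁻¹ * ((c : G) * (y : G))) * g⁻¹ := by group
        _ = g * ((y : G)⁻¹ * ((y : G) * (c : G))) * g⁻¹ := by rw [hyC]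
        _ = _ := by group
    · rfl
    · rfl

/-- A block of the normalizer with small defect inside `N` is determined by the induced block. -/
theorem unique_inducing [Fact p.Prime] (hM : IsPModular p M) (hQ : IsPGroup p Q) (hQN : Q ≤ N)
    {B : Set (IrrCharacter G)} {c c' : Set (IrrCharacter (Subgroup.normalizer (Q : Set G)))}
    (hc : IsInducedBlock M (Subgroup.normalizer (Q : Set G)) c B)
    (hc' : IsInducedBlock M (Subgroup.normalizer (Q : Set G)) c' B)
    {D : Subgroup (Subgroup.normalizer (Q : Set G))} (hD : IsDefectGroup p M c D)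
    (hDN : Nat.card (D ⊓ N.subgroupOf (Subgroup.normalizer (Q : Set G)) :
      Subgroup (Subgroup.normalizer (Q : Set G))) ≤ Nat.card Q) : c' = c := by
  classical
  haveI hQ'n := normal_subgroupOf_normalizer Q
  have hQ' : IsPGroup p (Q.subgroupOf (Subgroup.normalizer (Q : Set G))) :=
    hQ.of_equiv (Subgroup.subgroupOfEquivOfLe Subgroup.le_normalizer).symm
  obtain ⟨ξ₁, hξ₁⟩ := pblock_nonempty hM hc.1
  obtain ⟨ξ, hξ⟩ := pblock_nonempty hM hc'.1
  by_contra hne
  have hξnot : ξ ∉ c := fun h => hne (by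
    rw [pblock_eq_blockOf hM hc.1 h, pblock_eq_blockOf hM hc'.1 hξ])
  cases nonempty_fintype (ConjClasses (Subgroup.normalizer (Q : Set G)))
  refine ideal_one hM ?_
  have hdiff : blockInd c ξ₁ - blockInd c ξ = 1 := by
    rw [blockInd_of_mem hξ₁, blockInd_of_notMem hξnot, sub_zero]
  rw [← hdiff, eq_sum_centralChar (blockInd c) ξ₁, eq_sum_centralChar (blockInd c) ξ,
    ← Finset.sum_sub_distrib]
  refine ideal_sum hM fun C _ => ?_
  rw [← mul_sub]
  by_cases he : MemLocalIdeal M (coeffFun (blockInd c) C.out)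
  · exact ideal_mul_right hM he
      (ring_sub hM (centralChar_ring hM ξ₁ _) (centralChar_ring hM ξ _))
  refine ideal_mul_left hM (cenInt_blockInd hM hc.1 _) ?_
  by_cases hcC : C.out ∈ Subgroup.centralizer ((Q.subgroupOf (Subgroup.normalizer (Q : Set G)) : Subgroup (Subgroup.normalizer (Q : Set G))) : Set (Subgroup.normalizer (Q : Set G)))
  · have hcG := mem_centralizer_of_subgroupOf (Subgroup.le_normalizer (H := Q)) hcC
    have hbr := class_lift hQ hQN C.out hcG fun R hR hRc hRH => by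
      have hle : R.subgroupOf (Subgroup.normalizer (Q : Set G)) ≤ Subgroup.centralizer ({C.out} : Set (Subgroup.normalizer (Q : Set G))) := fun w hw =>
        Subgroup.mem_centralizer_singleton_iff.2 (Subtype.ext
          (Subgroup.mem_centralizer_singleton_iff.1 (hRc hw)))
      obtain ⟨T, hT⟩ := exists_csyl_ge (hR.of_equiv (Subgroup.subgroupOfEquivOfLe hRH).symm) hle
      obtain ⟨x, hx⟩ := exists_conj_le_of_unit hM hc.1 hD (by rwa [blockCoeff_eq]) T
      have h1 : ((R ⊓ N).subgroupOf (Subgroup.normalizer (Q : Set G))).map (MulAut.conj x).toMonoidHom ≤ D ⊓ N.subgroupOf (Subgroup.normalizer (Q : Set G)) := by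
        rw [map_conj_le_iff]
        intro u hu
        exact ⟨map_conj_le_iff.1 hx u (hT hu.1),
          (inferInstance : (N.subgroupOf (Subgroup.normalizer (Q : Set G))).Normal).conj_mem u hu.2 x⟩
      calc Nat.card (R ⊓ N : Subgroup G) = Nat.card ((R ⊓ N).subgroupOf (Subgroup.normalizer (Q : Set G))) :=
            (Nat.card_congr (Subgroup.subgroupOfEquivOfLe (inf_le_left.trans hRH)).toEquiv).symm
        _ = Nat.card (((R ⊓ N).subgroupOf (Subgroup.normalizer (Q : Set G))).map (MulAut.conj x).toMonoidHom) :=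
            (card_map_conj x _).symm
        _ ≤ _ := (Subgroup.card_le_of_le h1).trans hDN
    obtain ⟨χ, hχ⟩ := pblock_nonempty hM hc.2.1
    have h1 := (induced_iff_brauer hM hQ Subgroup.le_normalizer le_rfl hc.1 hc.2.1).1 hc
      ξ₁ hξ₁ χ hχ (C.out : G)
    have h2 := (induced_iff_brauer hM hQ Subgroup.le_normalizer le_rfl hc'.1 hc'.2.1).1 hc'
      ξ hξ χ hχ (C.out : G)
    rw [← brCen_centralChar, hbr] at h1 h2
    simpa using ideal_sub hM h1 h2
  · exact ideal_sub hM (centralChar_ideal_of_normal hM hQ' hcC ξ₁)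
      (centralChar_ideal_of_normal hM hQ' hcC ξ)

/-- A block of `N` conjugate to `d` and not killed at `Q` is conjugate to `d` inside the
normalizer of `Q`. -/
theorem exists_conj_in_normalizer [Fact p.Prime] [Fintype N] (hM : IsPModular p M)
    (hQ : IsPGroup p Q) (hQN : Q ≤ N) {d d₂ : Set (IrrCharacter N)} (hd : IsPBlock M d)
    (hd₂ : IsPBlock M d₂) (hdQ : IsDefectGroup p M d (Q.subgroupOf N))
    (hd₂Q : ¬ BrZero M (Q.subgroupOf N) (blockInd d₂)) {g : G} {θ' : IrrCharacter N}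
    (hθ' : θ' ∈ d) (hmem : conjPerm N g θ' ∈ d₂) :
    ∃ h ∈ Subgroup.normalizer (Q : Set G), conjPerm N h θ' = conjPerm N g θ' := by
  classical
  have hpull : d₂ = pullB (Cfsg.Agent.Char.conjEquivN N g).symm d := by
    refine Set.ext fun η => ?_
    rw [pullB, Set.mem_setOf_eq]
    have hθ : irrPull (Cfsg.Agent.Char.conjEquivN N g).symm (conjPerm N g θ') = θ' :=
      Subtype.ext (funext fun m => by
        show Cfsg.Agent.Char.conjN N g (θ' : N → ℂ) ((Cfsg.Agent.Char.conjEquivN N g).symm m) = _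
        rw [Cfsg.Agent.Char.conjN_eq_comp]
        simp)
    constructor
    · intro hη
      refine pblock_mem_of_sameBlock hM hd hθ' ?_
      rw [← hθ]
      exact (sameBlock_irrPull_iff _ _ _).2 (pblock_sameBlock hM hd₂ hmem hη)
    · intro hη
      refine pblock_mem_of_sameBlock hM hd₂ hmem ?_
      refine (sameBlock_irrPull_iff (Cfsg.Agent.Char.conjEquivN N g).symm _ _).1 ?_
      rw [hθ]
      exact pblock_sameBlock hM hd hθ' hη
  obtain ⟨m, hm, hm'⟩ : ∃ m ∈ Subgroup.centralizer ((Q.subgroupOf N : Subgroup N) : Set N),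
      ¬ MemLocalIdeal M (coeffFun (blockInd d₂) m) := by
    by_contra hno
    push Not at hno
    exact hd₂Q fun c hc => hno c hc
  set φ := Cfsg.Agent.Char.conjEquivN N g
  have hm'' : ¬ MemLocalIdeal M (blockCoeff d (φ m)) := by
    rw [← blockCoeff_eq, hpull] at hm'
    have := blockCoeff_pullB φ.symm d (φ m)
    rw [MulEquiv.symm_apply_apply] at this
    rwa [this] at hm'
  have hQ'p : IsPGroup p ((Q.subgroupOf N).map φ.toMonoidHom) :=
    (hQ.of_equiv (Subgroup.subgroupOfEquivOfLe hQN).symm).map _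
  have hbr : ¬ BrZero M ((Q.subgroupOf N).map φ.toMonoidHom) (blockInd d) :=
    not_brZero_of_unit hm'' (Subgroup.mem_centralizer_iff.2 fun u hu => by
      obtain ⟨w, hw, rfl⟩ := hu
      show φ w * φ m = φ m * φ w
      rw [← map_mul, ← map_mul, Subgroup.mem_centralizer_iff.1 hm w hw])
  obtain ⟨x, hx⟩ := (not_brZero_iff hM hd hdQ hQ'p).1 hbr
  refine ⟨(x : G) * g, ?_, ?_⟩
  · have hle : Q.map (MulAut.conj ((x : G) * g)).toMonoidHom ≤ Q := by
      rw [map_conj_le_iff]
      intro u hu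
      have h2 := map_conj_le_iff.1 hx (φ ⟨u, hQN hu⟩) ⟨⟨u, hQN hu⟩, hu, rfl⟩
      rw [Subgroup.mem_subgroupOf] at h2
      simpa [φ, Cfsg.Agent.Char.conjEquivN_apply, mul_assoc] using h2
    have heq : Q.map (MulAut.conj ((x : G) * g)).toMonoidHom = Q :=
      Subgroup.eq_of_le_of_card_ge hle (card_map_conj _ Q).ge
    rw [Subgroup.mem_normalizer_iff]
    intro u
    constructor
    · exact fun hu => map_conj_le_iff.1 hle u hu
    · intro hu
      rw [← heq] at hu
      obtain ⟨w, hw, hwu⟩ := hu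
      exact (MulAut.conj ((x : G) * g)).injective hwu ▸ hw
  · refine Subtype.ext ?_
    show Cfsg.Agent.Char.conjN N ((x : G) * g) (θ' : N → ℂ) = Cfsg.Agent.Char.conjN N g (θ' : N → ℂ)
    rw [Cfsg.Agent.Char.conjN_mul,
      Cfsg.Agent.Char.conjN_mem N (Cfsg.Agent.Char.IsIrr.classFun θ'.2) x.2]

/-- Every block of the normalizer inducing a block that covers `d` covers its correspondent. -/
theorem covers_correspondent [Fact p.Prime] [Fintype N] [Fintype (LN N Q)] (hM : IsPModular p M)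
    (hQ : IsPGroup p Q) (hQN : Q ≤ N) {d : Set (IrrCharacter N)} (hd : IsPBlock M d)
    (hdQ : IsDefectGroup p M d (Q.subgroupOf N)) {e : Set (IrrCharacter (LN N Q))}
    (hed : IsInducedBlock M (LN N Q) e d) {B : Set (IrrCharacter G)}
    (hBd : ∃ χ ∈ B, ∃ θ ∈ d, classInner (fun n : N => (χ : G → ℂ) n) (θ : N → ℂ) ≠ 0)
    {c : Set (IrrCharacter (Subgroup.normalizer (Q : Set G)))}
    (hcB : IsInducedBlock M (Subgroup.normalizer (Q : Set G)) c B) :
    ∃ ψ ∈ c, ∃ ζ ∈ e, Con hQN ψ ζ := by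
  classical
  obtain ⟨ψ, hψ⟩ := pblock_nonempty hM hcB.1
  obtain ⟨ζ₂, hζ₂⟩ := exists_con hQN ψ
  have hQn : IsPGroup p (Q.subgroupOf N) :=
    hQ.of_equiv (Subgroup.subgroupOfEquivOfLe hQN).symm
  have hCL : Subgroup.centralizer ((Q.subgroupOf N : Subgroup N) : Set N) ≤ LN N Q :=
    Subgroup.centralizer_le_normalizer _
  obtain ⟨d₂, hd₂⟩ := inducedBlockDefined_brauer hM hQn
    (Subgroup.le_normalizer (H := Q.subgroupOf N)) hCL (le_refl (LN N Q))
    (isPBlock_blockOf (M := M) ζ₂)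
  obtain ⟨χ₂, hχ₂, θ₂, hθ₂, hcon₂⟩ := cover_of_induced hM hQ hQN hcB hd₂ hψ
    (mem_blockOf_self hM ζ₂) hζ₂
  obtain ⟨χ₀, hχ₀, θ₀, hθ₀, hcon₀⟩ := hBd
  obtain ⟨g, θ', hθ', hθ₂eq⟩ := constituents_in_conjugates N hM hcB.2.1 hd hχ₀ hθ₀ hcon₀ hχ₂ hcon₂
  have e₂ : θ₂ = conjPerm N g θ' := Subtype.ext (funext hθ₂eq)
  obtain ⟨h, hh, hconj⟩ := exists_conj_in_normalizer hM hQ hQN hd hd₂.2.1 hdQ
    ((exists_inducing_iff hM hQn (Subgroup.le_normalizer (H := Q.subgroupOf N)) hCL
      (le_refl (LN N Q)) hd₂.2.1).1 ⟨_, hd₂⟩) hθ' (e₂ ▸ hθ₂)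
  set φ := Cfsg.Agent.Char.conjEquivN N h
  have hφ : ∀ l : N, l ∈ LN N Q ↔ φ l ∈ LN N Q := fun l => by
    rw [mem_LN N Q hQN, mem_LN N Q hQN, Cfsg.Agent.Char.conjEquivN_apply]
    exact ⟨fun hl => mul_mem (mul_mem hh hl) (inv_mem hh), fun hl => by
      have := mul_mem (mul_mem (inv_mem hh) hl) hh
      simpa [mul_assoc] using this⟩
  let φL : LN N Q ≃* LN N Q :=
    { toFun := fun l => ⟨φ l, (hφ l).1 l.2⟩
      invFun := fun l => ⟨φ.symm l, (hφ _).2 (by rw [MulEquiv.apply_symm_apply]; exact l.2)⟩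
      left_inv := fun l => Subtype.ext (φ.symm_apply_apply _)
      right_inv := fun l => Subtype.ext (φ.apply_symm_apply _)
      map_mul' := fun a b => Subtype.ext (map_mul φ (a : N) (b : N)) }
  set ζ₃ := irrPull φL.symm ζ₂ with hζ₃
  have hcon₃ : Con hQN ψ ζ₃ := by
    unfold Con classInner at hζ₂ ⊢
    rw [← Fintype.sum_equiv φL.toEquiv
      (fun l : LN N Q => (ψ : Subgroup.normalizer (Q : Set G) → ℂ) (toH hQN l) *
        (starRingEnd ℂ) ((ζ₂ : LN N Q → ℂ) l)) _ fun l => ?_]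
    · exact hζ₂
    · show _ = (ψ : Subgroup.normalizer (Q : Set G) → ℂ) (toH hQN (φL l)) *
        (starRingEnd ℂ) ((ζ₂ : LN N Q → ℂ) (φL.symm (φL l)))
      rw [MulEquiv.symm_apply_apply]
      congr 1
      have e : toH hQN (φL l) =
          (⟨h, hh⟩ : Subgroup.normalizer (Q : Set G)) * toH hQN l * (⟨h, hh⟩)⁻¹ := Subtype.ext (by
        show ((φ (l : N) : N) : G) = _
        rw [Cfsg.Agent.Char.conjEquivN_apply]
        rfl)
      rw [e, irr_classFun ψ]
  obtain ⟨d₃, hd₃⟩ := inducedBlockDefined_brauer hM hQn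
    (Subgroup.le_normalizer (H := Q.subgroupOf N)) hCL (le_refl (LN N Q))
    (isPBlock_blockOf (M := M) ζ₃)
  obtain ⟨η₃, hη₃⟩ := pblock_nonempty hM hd₃.2.1
  have hind : ∀ m : N, inducedCentralChar (LN N Q) (ζ₃ : LN N Q → ℂ) (φ m) =
      inducedCentralChar (LN N Q) (ζ₂ : LN N Q → ℂ) m := by
    intro m
    unfold inducedCentralChar
    refine (finsum_mem_eq_of_bijOn φL ?_ fun k hk => ?_).symm
    · refine ⟨fun k hk => ?_, φL.injective.injOn, fun k hk => ⟨φL.symm k, ?_, φL.apply_symm_apply k⟩⟩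
      · exact MonoidHom.map_isConj φ.toMonoidHom hk
      · have h2 := MonoidHom.map_isConj φ.symm.toMonoidHom hk
        simp only [MulEquiv.coe_toMonoidHom, MulEquiv.symm_apply_apply] at h2
        exact h2
    · simp [hζ₃]
  have hd₃d : d₃ = d := by
    have hsame : SameBlock M (η₃ : N → ℂ) (θ' : N → ℂ) := by
      intro n
      obtain ⟨m, rfl⟩ := φ.surjective n
      have h1 := hd₃.2.2 ζ₃ (mem_blockOf_self hM ζ₃) η₃ hη₃ (φ m)
      have h2 := hd₂.2.2 ζ₂ (mem_blockOf_self hM ζ₂) θ₂ hθ₂ m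
      rw [hind] at h1
      rw [e₂, ← hconj, centralChar_conjPerm] at h2
      simpa using ideal_sub hM h2 h1
    rw [pblock_eq_blockOf hM hd₃.2.1 hη₃, pblock_eq_blockOf hM hd hθ', blockOf_eq hM hsame]
  subst hd₃d
  have heq : blockOf M (ζ₃ : LN N Q → ℂ) = e :=
    (exists_unique_inducing hM hd hdQ).unique
      ⟨hd₃.1, defectGroup_of_inducing hM hdQ hd₃, hd₃⟩
      ⟨hed.1, defectGroup_of_inducing hM hdQ hed, hed⟩
  exact ⟨ψ, hψ, ζ₃, heq ▸ mem_blockOf_self hM ζ₃, hcon₃⟩

/-- Inner products along an isomorphism. -/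
theorem classInner_pull {A B : Type u} [Group A] [Fintype A] [Group B] [Fintype B] (e : A ≃* B)
    (f : B → ℂ) (ξ : IrrCharacter B) :
    classInner (fun a => f (e a)) (irrPull e ξ : A → ℂ) = classInner f (ξ : B → ℂ) := by
  unfold classInner
  rw [Nat.card_congr e.toEquiv]
  congr 1
  exact Fintype.sum_equiv e.toEquiv _ _ fun a => rfl

variable (N Q) in
/-- The correspondence, with the local block read in `Subgroup.normalizer Q ⊓ N`. -/
theorem harris_knorr [Fact p.Prime] [Fintype N] (hM : IsPModular p M) (hQ : IsPGroup p Q) (hQN : Q ≤ N)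
    [Fintype ↥(Subgroup.normalizer (Q : Set G) ⊓ N)] (d : Set (IrrCharacter N))
    (hd : IsPBlock M d) (hdQ : IsDefectGroup p M d (Q.subgroupOf N))
    (e : Set (IrrCharacter ↥(Subgroup.normalizer (Q : Set G) ⊓ N))) (he : IsPBlock M e)
    (heQ : IsDefectGroup p M e (Q.subgroupOf (Subgroup.normalizer (Q : Set G) ⊓ N)))
    (hed : IsInducedBlockIn M N (Subgroup.normalizer (Q : Set G) ⊓ N) e d) :
    (∀ c : Set (IrrCharacter ↥(Subgroup.normalizer (Q : Set G))), IsPBlock M c →
      (∃ ψ ∈ c, ∃ ξ ∈ e, classInner (fun l : ↥(Subgroup.normalizer (Q : Set G) ⊓ N) =>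
        (ψ : ↥(Subgroup.normalizer (Q : Set G)) → ℂ) (Subgroup.inclusion inf_le_left l))
        (ξ : ↥(Subgroup.normalizer (Q : Set G) ⊓ N) → ℂ) ≠ 0) →
      ∃! B : Set (IrrCharacter G), IsInducedBlock M (Subgroup.normalizer (Q : Set G)) c B ∧
        (∃ χ ∈ B, ∃ θ ∈ d, classInner (fun n : N => (χ : G → ℂ) n) (θ : N → ℂ) ≠ 0)) ∧
    (∀ B : Set (IrrCharacter G), IsPBlock M B →
      (∃ χ ∈ B, ∃ θ ∈ d, classInner (fun n : N => (χ : G → ℂ) n) (θ : N → ℂ) ≠ 0) →
      ∃! c : Set (IrrCharacter ↥(Subgroup.normalizer (Q : Set G))),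
        (IsPBlock M c ∧ ∃ ψ ∈ c, ∃ ξ ∈ e,
          classInner (fun l : ↥(Subgroup.normalizer (Q : Set G) ⊓ N) =>
            (ψ : ↥(Subgroup.normalizer (Q : Set G)) → ℂ) (Subgroup.inclusion inf_le_left l))
            (ξ : ↥(Subgroup.normalizer (Q : Set G) ⊓ N) → ℂ) ≠ 0) ∧
        IsInducedBlock M (Subgroup.normalizer (Q : Set G)) c B) := by
  classical
  haveI := Fintype.ofFinite (LN N Q)
  haveI := Fintype.ofFinite (Subgroup.normalizer (Q : Set G))
  haveI := Fintype.ofFinite (N.subgroupOf (Subgroup.normalizer (Q : Set G)))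
  let e0 : ↥(Subgroup.normalizer (Q : Set G) ⊓ N) ≃* LN N Q :=
    { toFun := fun l => ⟨⟨(l : G), l.2.2⟩, (mem_LN N Q hQN _).2 l.2.1⟩
      invFun := fun l => ⟨((l : N) : G), (mem_LN N Q hQN l).1 l.2, (l : N).2⟩
      left_inv := fun _ => rfl
      right_inv := fun _ => rfl
      map_mul' := fun _ _ => rfl }
  set e1 := pullB e0 e with he1
  have hed1 : IsInducedBlock M (LN N Q) e1 d := by
    refine ⟨isPBlock_pullB hM e0 he, hd, fun ζ hζ θ hθ n => ?_⟩
    have h1 := hed.2.2 (irrPull e0 ζ) hζ θ hθ n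
    have h2 : inducedCentralCharIn N (Subgroup.normalizer (Q : Set G) ⊓ N)
        (irrPull e0 ζ : _ → ℂ) (n : G) = inducedCentralChar (LN N Q) (ζ : LN N Q → ℂ) n := by
      unfold inducedCentralCharIn inducedCentralChar
      refine finsum_mem_eq_of_bijOn e0 ?_ fun k hk => by simp
      refine ⟨fun k hk => ?_, e0.injective.injOn, fun k hk =>
        ⟨e0.symm k, ?_, e0.apply_symm_apply k⟩⟩
      · obtain ⟨x, hx⟩ := hk
        exact (isConj_iff.2 ⟨x, Subtype.ext hx⟩ : IsConj ((e0 k : LN N Q) : N) n).symm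
      · obtain ⟨x, hx⟩ := isConj_iff.1 (hk : IsConj n (k : N)).symm
        exact ⟨x, congrArg Subtype.val hx⟩
    rwa [h2] at h1
  have htr : ∀ (ψ : IrrCharacter ↥(Subgroup.normalizer (Q : Set G))) (ζ : IrrCharacter (LN N Q)),
      Con hQN ψ ζ ↔ classInner (fun l : ↥(Subgroup.normalizer (Q : Set G) ⊓ N) =>
        (ψ : ↥(Subgroup.normalizer (Q : Set G)) → ℂ) (Subgroup.inclusion inf_le_left l))
        ((irrPull e0 ζ : IrrCharacter _) :
          ↥(Subgroup.normalizer (Q : Set G) ⊓ N) → ℂ) ≠ 0 := by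
    intro ψ ζ
    rw [Con, ← classInner_pull e0 (fun l : LN N Q =>
      (ψ : ↥(Subgroup.normalizer (Q : Set G)) → ℂ) (toH hQN l)) ζ]
    rfl
  have hdown : ∀ c : Set (IrrCharacter ↥(Subgroup.normalizer (Q : Set G))),
      (∃ ψ ∈ c, ∃ ξ ∈ e, classInner (fun l : ↥(Subgroup.normalizer (Q : Set G) ⊓ N) =>
        (ψ : ↥(Subgroup.normalizer (Q : Set G)) → ℂ) (Subgroup.inclusion inf_le_left l))
        (ξ : ↥(Subgroup.normalizer (Q : Set G) ⊓ N) → ℂ) ≠ 0) →
      ∃ ψ ∈ c, ∃ ζ ∈ e1, Con hQN ψ ζ := by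
    rintro c ⟨ψ, hψ, ξ, hξ, hne⟩
    refine ⟨ψ, hψ, irrPull e0.symm ξ, ?_, (htr _ _).2 ?_⟩
    · show irrPull e0 (irrPull e0.symm ξ) ∈ e
      rwa [irrPull_symm_self]
    · rwa [irrPull_symm_self]
  have hup : ∀ c : Set (IrrCharacter ↥(Subgroup.normalizer (Q : Set G))),
      (∃ ψ ∈ c, ∃ ζ ∈ e1, Con hQN ψ ζ) →
      ∃ ψ ∈ c, ∃ ξ ∈ e, classInner (fun l : ↥(Subgroup.normalizer (Q : Set G) ⊓ N) =>
        (ψ : ↥(Subgroup.normalizer (Q : Set G)) → ℂ) (Subgroup.inclusion inf_le_left l))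
        (ξ : ↥(Subgroup.normalizer (Q : Set G) ⊓ N) → ℂ) ≠ 0 :=
    fun c ⟨ψ, hψ, ζ, hζ, hne⟩ => ⟨ψ, hψ, irrPull e0 ζ, hζ, (htr _ _).1 hne⟩
  refine ⟨fun c hc hcov => ?_, fun B hB hBd => ?_⟩
  · obtain ⟨B, hcB⟩ := inducedBlockDefined_brauer hM hQ (Subgroup.le_normalizer (H := Q))
      (Subgroup.centralizer_le_normalizer _) le_rfl hc
    obtain ⟨ψ, hψ, ζ, hζ, hne⟩ := hdown c hcov
    exact ⟨B, ⟨hcB, cover_of_induced hM hQ hQN hcB hed1 hψ hζ hne⟩,
      fun B' hB' => induced_unique hM hB'.1 hcB⟩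
  · obtain ⟨P, hP, hPN⟩ := Cfsg.Agent.Char.Knorr.knorr N hM hd hQN hdQ hB hBd
    have hQP : Q ≤ P := hPN ▸ inf_le_left
    have hbr : ¬ BrZero M Q (blockInd B) := (not_brZero_iff hM hB hP hQ).2
      ⟨1, map_conj_le_iff.2 fun u hu => by simpa using hQP hu⟩
    obtain ⟨c, hcB⟩ := (exists_inducing_iff hM hQ (Subgroup.le_normalizer (H := Q))
      (Subgroup.centralizer_le_normalizer _) le_rfl hB).2 hbr
    have hccov := hup c (covers_correspondent hM hQ hQN hd hdQ hed1 hBd hcB)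
    refine ⟨c, ⟨⟨hcB.1, hccov⟩, hcB⟩, fun c' hc' => ?_⟩
    -- a defect group of `c` is small inside `N`
    obtain ⟨ψ, hψ, ζ, hζ, hne⟩ := hdown c hccov
    set eH := pullB (eqv hQN).symm e1
    have heH : IsPBlock M eH := isPBlock_pullB hM _ (isPBlock_pullB hM _ he)
    obtain ⟨E, hE⟩ := exists_isDefectGroup hM heH
    have hcardE : Nat.card E = Nat.card Q := by
      rw [card_defectGroup hM heH hE, blockDefect_pullB, blockDefect_pullB,
        ← card_defectGroup hM he heQ]
      exact Nat.card_congr (Subgroup.subgroupOfEquivOfLe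
        (le_inf Subgroup.le_normalizer hQN)).toEquiv
    obtain ⟨D, hD, hDE⟩ := Cfsg.Agent.Char.Knorr.knorr
      (N.subgroupOf (Subgroup.normalizer (Q : Set G))) hM heH
      (Q := E.map (N.subgroupOf (Subgroup.normalizer (Q : Set G))).subtype)
      (Subgroup.map_subtype_le E)
      (by
        rw [show (E.map (N.subgroupOf (Subgroup.normalizer (Q : Set G))).subtype).subgroupOf _ = E
          from Subgroup.comap_map_eq_self_of_injective (Subgroup.subtype_injective _) E]
        exact hE) hcB.1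
      ⟨ψ, hψ, irrPull (eqv hQN) ζ, by
        show irrPull (eqv hQN).symm (irrPull (eqv hQN) ζ) ∈ e1
        rwa [irrPull_self_symm], (con_iff hQN ψ ζ).1 hne⟩
    refine unique_inducing hM hQ hQN hcB hc'.2 hD ?_
    rw [hDE, Subgroup.card_map_of_injective (Subgroup.subtype_injective _), hcardE]

end Cfsg.Agent.Char.HarrisKnorr
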