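import Mathlib.RingTheory.SimpleModule.IsAlgClosed
import Mathlib.RingTheory.Artinian.Module
import Mathlib.RingTheory.Artinian.Ring
import Mathlib.RingTheory.Idempotents
import Mathlib.LinearAlgebra.Matrix.Charpoly.Coeff
import Mathlib.FieldTheory.IsAlgClosed.Basic
import Mathlib.Algebra.CharP.Basic

/-!
An integer valued function on the idempotents of a finite dimensional algebra, additive on
orthogonal pairs and the same on `x * y` and `y * x`, is modulo `p` a trace. So it takes a multiple
of `p` at one as soon as one is a sum of `p` conjugates under maps preserving it.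
-/

namespace Cfsg.Agent.Char.IdemTr

set_option linter.unusedSectionVars false
set_option maxHeartbeats 800000

universe u v

variable {k : Type u} {D : Type v} [Field k] [Ring D] [Algebra k D]

/-- Quotient by the radical as a product of matrix algebras. -/
theorem exists_matrix_quot [IsAlgClosed k] [Module.Finite k D] :
    ∃ (n : ℕ) (d : Fin n → ℕ), (∀ i, NeZero (d i)) ∧
      ∃ π : D →ₐ[k] (Π i, Matrix (Fin (d i)) (Fin (d i)) k), Function.Surjective π ∧
        ∀ x, π x = 0 → IsNilpotent x := by
  haveI : IsArtinianRing D := IsArtinianRing.of_finite k D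
  haveI : IsSemisimpleRing (D ⧸ Ring.jacobson D) := IsSemiprimaryRing.isSemisimpleRing
  obtain ⟨n, d, hd, ⟨e⟩⟩ :=
    IsSemisimpleRing.exists_algEquiv_pi_matrix_of_isAlgClosed k (D ⧸ Ring.jacobson D)
  refine ⟨n, d, hd, e.toAlgHom.comp (Ideal.Quotient.mkₐ k (Ring.jacobson D)),
    e.surjective.comp (Ideal.Quotient.mkₐ_surjective k _), fun x hx => ?_⟩
  have hx' : x ∈ Ring.jacobson D := by
    refine Ideal.Quotient.eq_zero_iff_mem.1 (e.injective ?_)
    rw [map_zero]
    exact hx
  obtain ⟨m, hm⟩ := IsSemiprimaryRing.isNilpotent (R := D)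
  refine ⟨m, ?_⟩
  have h := Ideal.pow_mem_pow hx' m
  rw [hm] at h
  simpa using h

section quot

variable {n : ℕ} {d : Fin n → ℕ} [∀ i, NeZero (d i)]
  (π : D →ₐ[k] (Π i, Matrix (Fin (d i)) (Fin (d i)) k))

/-- A functional killing nilpotent elements and commutators is a combination of the traces. -/
theorem functional_eq (hsur : Function.Surjective π) (hker : ∀ x, π x = 0 → IsNilpotent x)
    (φ : D →ₗ[k] k) (hnil : ∀ x, IsNilpotent x → φ x = 0) (hcomm : ∀ a b, φ (a * b) = φ (b * a))
    {E : Fin n → D} (hE : ∀ i, π (E i) = Pi.single i (Matrix.single 0 0 1)) (x : D) :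
    φ x = ∑ i, φ (E i) * Matrix.trace (π x i) := by
  classical
  have hfac : ∀ a b, π a = π b → φ a = φ b := fun a b h => by
    have := hnil _ (hker (a - b) (by rw [map_sub, h, sub_self]))
    rwa [map_sub, sub_eq_zero] at this
  choose L hL using fun z => hsur z
  let U := fun (i : Fin n) (a b : Fin (d i)) =>
    L (Pi.single i (Matrix.single a b 1))
  have hmul : ∀ (i : Fin n) (a b a' b' : Fin (d i)), π (U i a b * U i a' b') =
      Pi.single i (Matrix.single a b 1 * Matrix.single a' b' 1) := by
    intro i a b a' b'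
    rw [map_mul, hL, hL, ← Pi.single_mul]
  have hU : ∀ (i : Fin n) (a b : Fin (d i)), φ (U i a b) = if a = b then φ (E i) else 0 := by
    intro i a b
    split_ifs with h
    · subst h
      have h1 : φ (U i a a) = φ (U i a 0 * U i 0 a) := hfac _ _ (by
        rw [hmul, hL, Matrix.single_mul_single_same, one_mul])
      have h2 : φ (U i 0 a * U i a 0) = φ (E i) := hfac _ _ (by
        rw [hmul, hE, Matrix.single_mul_single_same, one_mul])
      rw [h1, hcomm, h2]
    · have h1 : φ (U i a b) = φ (U i a a * U i a b) := hfac _ _ (by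
        rw [hmul, hL, Matrix.single_mul_single_same, one_mul])
      have h2 : φ (U i a b * U i a a) = φ 0 := hfac _ _ (by
        rw [hmul, Matrix.single_mul_single_of_ne _ _ _ _ (Ne.symm h), Pi.single_zero, map_zero])
      rw [h1, hcomm, h2, map_zero]
  have hdec : π x = π (∑ i, ∑ a, ∑ b, (π x i a b) • U i a b) := by
    simp only [map_sum, map_smul, U, hL]
    funext j
    rw [Finset.sum_apply, Finset.sum_eq_single j]
    · simp only [Finset.sum_apply, Pi.smul_apply, Pi.single_eq_same, Matrix.smul_single,
        smul_eq_mul, mul_one]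
      exact Matrix.matrix_eq_sum_single _
    · intro i _ hij
      simp [Finset.sum_apply, Pi.single_eq_of_ne (Ne.symm hij)]
    · exact fun h => absurd (Finset.mem_univ _) h
  rw [hfac x _ hdec]
  simp only [map_sum, map_smul, hU, smul_eq_mul, mul_ite, mul_zero, Finset.sum_ite_eq,
    Finset.mem_univ, if_true]
  refine Finset.sum_congr rfl fun i _ => ?_
  rw [Matrix.trace, Finset.mul_sum]
  exact Finset.sum_congr rfl fun a _ => mul_comm _ _

end quot

/-- The trace form. -/
theorem dvd_of_sum_eq_one [IsAlgClosed k] [Module.Finite k D] (p : ℕ) [CharP k p] (g : D → ℤ)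
    (hadd : ∀ e f : D, e * e = e → f * f = f → e * f = 0 → f * e = 0 → g (e + f) = g e + g f)
    (hswap : ∀ x y : D, x * y * (x * y) = x * y → y * x * (y * x) = y * x →
      g (x * y) = g (y * x))
    {ι : Type*} [Fintype ι] (hι : Fintype.card ι = p) (σ : ι → D →ₗ[k] D)
    (hσ : ∀ i a b, σ i (a * b) = σ i a * σ i b) (hg : ∀ i e, e * e = e → g (σ i e) = g e)
    (c : D) (hc : ∑ i, σ i c = 1) : (p : ℤ) ∣ g 1 := by
  classical
  obtain ⟨n, d, hd, π, hsur, hker⟩ := exists_matrix_quot (k := k) (D := D)
  have hg0 : g 0 = 0 := by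
    have h := hadd 0 0 (mul_zero _) (mul_zero _) (mul_zero _) (mul_zero _)
    rw [add_zero] at h
    omega
  have hEx : ∀ i : Fin n, ∃ e : D, IsIdempotentElem e ∧
      π e = Pi.single i (Matrix.single (0 : Fin (d i)) 0 (1 : k)) := fun i =>
    exists_isIdempotentElem_eq_of_ker_isNilpotent π.toRingHom
      (fun x hx => hker x hx) _ (hsur _) (by
        rw [IsIdempotentElem, ← Pi.single_mul, Matrix.single_mul_single_same, one_mul])
  choose E hEI hE using hEx
  let τ : D →ₗ[k] k := ∑ i, (g (E i) : k) •
    ((Matrix.traceLinearMap (Fin (d i)) k k).comp ((LinearMap.proj i).comp π.toLinearMap))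
  have hτ : ∀ x, τ x = ∑ i, (g (E i) : k) * Matrix.trace (π x i) := fun x => by
    simp [τ, LinearMap.sum_apply]
  have hτnil : ∀ x, IsNilpotent x → τ x = 0 := fun x hx => by
    rw [hτ]
    refine Finset.sum_eq_zero fun i _ => ?_
    have h1 : IsNilpotent (π x i) := ((hx.map π).map (Pi.evalRingHom _ i) :)
    rw [(Matrix.isNilpotent_trace_of_isNilpotent h1).eq_zero, mul_zero]
  have hτcomm : ∀ a b, τ (a * b) = τ (b * a) := fun a b => by
    simp only [hτ, map_mul, Pi.mul_apply, Matrix.trace_mul_comm (π a _)]
  have hτE : ∀ i, τ (E i) = g (E i) := fun i => by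
    rw [hτ, Finset.sum_eq_single i]
    · rw [hE, Pi.single_eq_same, Matrix.trace_single_eq_same, mul_one]
    · intro j _ hj
      rw [hE, Pi.single_eq_of_ne hj, Matrix.trace_zero, mul_zero]
    · exact fun h => absurd (Finset.mem_univ _) h
  -- the trace agrees with `g` on idempotents
  have hidem : ∀ (m : ℕ) (e : D), e * e = e →
      Module.finrank k (LinearMap.range (LinearMap.mulLeft k e)) = m → (g e : k) = τ e := by
    intro m
    induction m using Nat.strong_induction_on with
    | _ m ih =>
    intro e he hm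
    by_cases hπ : π e = 0
    · obtain ⟨N, hN⟩ := hker e hπ
      have h0 : e = 0 := by
        rcases N with _ | N
        · rw [pow_zero] at hN
          rw [← mul_one e, hN, mul_zero]
        · rwa [IsIdempotentElem.pow_succ_eq N (show IsIdempotentElem e from he)] at hN
      simp [h0, hg0]
    obtain ⟨i, hi⟩ := Function.ne_iff.1 hπ
    obtain ⟨r, hr⟩ := Function.ne_iff.1 hi
    obtain ⟨s, hs⟩ := Function.ne_iff.1 hr
    simp only [Pi.zero_apply, Matrix.zero_apply] at hs
    set A := π e i with hA
    have hAA : A * A = A := by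
      rw [hA, ← Pi.mul_apply, ← map_mul, he]
    obtain ⟨x0, hx0⟩ := hsur (Pi.single i (Matrix.single 0 r 1 * A))
    obtain ⟨y0, hy0⟩ := hsur (Pi.single i (A * Matrix.single s 0 (A r s)⁻¹))
    set x := E i * x0 * e with hx
    set y' := e * y0 * E i with hy'
    have hz : π (x * y') = π (E i) := by
      funext j
      simp only [hx, hy', map_mul, Pi.mul_apply, hx0, hy0, hE]
      by_cases hj : j = i
      · subst hj
        simp only [Pi.single_eq_same, ← hA]
        calc Matrix.single 0 0 1 * (Matrix.single 0 r 1 * A) * A *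
              (A * (A * Matrix.single s 0 (A r s)⁻¹) * Matrix.single 0 0 1)
            = Matrix.single 0 r 1 * A * Matrix.single s 0 (A r s)⁻¹ := by
              simp only [← mul_assoc, Matrix.single_mul_single_same, one_mul]
              simp only [mul_assoc, Matrix.single_mul_single_same, mul_one]
              simp only [← mul_assoc, mul_assoc (Matrix.single (0 : Fin (d j)) r (1 : k)) A A, hAA]
          _ = _ := by
              rw [Matrix.single_mul_mul_single, one_mul, mul_inv_cancel₀ hs]
      · simp [Pi.single_eq_of_ne hj]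
    set ν := E i - x * y' with hν
    have hEE : E i * E i = E i := hEI i
    have hνE : E i * ν = ν := by
      rw [hν, mul_sub, hEE, hx]
      simp only [← mul_assoc, hEE]
    have hnil : IsNilpotent ν := hker ν (by rw [hν, map_sub, hz, sub_self])
    obtain ⟨w, hw⟩ := hnil.isUnit_one_sub
    have hz' : x * y' = E i * (1 - ν) := by rw [mul_sub, mul_one, hνE, hν, sub_sub_cancel]
    set y := y' * ↑w⁻¹ * E i with hy
    have hxy : x * y = E i := by
      rw [hy, ← mul_assoc, ← mul_assoc, hz', ← hw, mul_assoc (E i), Units.mul_inv, mul_one, hEE]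
    have hyE : y * E i = y := by rw [hy, mul_assoc, hEE]
    set f := y * x with hf
    have hff : f * f = f := by
      rw [hf, mul_assoc, ← mul_assoc x y x, hxy, ← mul_assoc, hyE]
    have hef : e * f = f := by
      rw [hf, hy, hy']
      simp only [← mul_assoc, he]
    have hfe : f * e = f := by
      rw [hf, hx]
      simp only [mul_assoc, he]
    have hgf : g f = g (E i) := by
      rw [← hxy, hf]
      exact (hswap x y (by rw [hxy, hEE]) (by rw [← hf, hff])).symm
    have hτf : τ f = τ (E i) := by rw [← hxy, hf, hτcomm]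
    have h1 : (e - f) * (e - f) = e - f := by
      rw [sub_mul, mul_sub, mul_sub, he, hef, hfe, hff, sub_self, sub_zero]
    have h2 : (e - f) * f = 0 := by rw [sub_mul, hef, hff, sub_self]
    have h3 : f * (e - f) = 0 := by rw [mul_sub, hfe, hff, sub_self]
    have hf0 : f ≠ 0 := by
      intro h0
      have h4 : E i = 0 := by
        rw [← hEE, ← hxy, show x * y * (x * y) = x * (y * x) * y by simp only [mul_assoc],
          ← hf, h0, mul_zero, zero_mul]
      have h5 := congrFun (hE i) i
      rw [h4, map_zero, Pi.single_eq_same] at h5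
      have h6 := congrFun (congrFun h5 0) 0
      simp at h6
    have hlt : Module.finrank k (LinearMap.range (LinearMap.mulLeft k (e - f))) < m := by
      rw [← hm]
      refine Submodule.finrank_lt_finrank_of_lt (lt_of_le_of_ne ?_ fun he' => hf0 ?_)
      · rintro _ ⟨v, rfl⟩
        exact ⟨(e - f) * v, by simp [← mul_assoc, mul_sub, he, hef]⟩
      · obtain ⟨v, hv⟩ : f ∈ LinearMap.range (LinearMap.mulLeft k (e - f)) :=
          he' ▸ ⟨f, hef⟩
        rw [LinearMap.mulLeft_apply] at hv
        rw [← hff]
        conv_lhs => arg 2; rw [← hv]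
        rw [← mul_assoc, h3, zero_mul]
    have key := ih _ hlt (e - f) h1 rfl
    have hadd' : g e = g (e - f) + g f := by
      rw [← hadd (e - f) f h1 hff h2 h3, sub_add_cancel]
    rw [hadd', Int.cast_add, key, hgf, ← hτE, ← hτf, ← map_add, sub_add_cancel]
  have hval : ∀ e : D, e * e = e → (g e : k) = τ e := fun e he => hidem _ e he rfl
  have hinv : ∀ j x, τ (σ j x) = τ x := fun j x => by
    have hnilj : ∀ z, IsNilpotent z → IsNilpotent (σ j z) := by
      rintro z ⟨N, hN⟩
      refine ⟨N + 1, ?_⟩
      have hp : ∀ m : ℕ, σ j z ^ (m + 1) = σ j (z ^ (m + 1)) := fun m => by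
        induction m with
        | zero => simp
        | succ m ihm => rw [pow_succ, ihm, ← hσ, ← pow_succ]
      rw [hp, pow_succ, hN, zero_mul, map_zero]
    rw [show τ (σ j x) = (τ.comp (σ j)) x from rfl,
      functional_eq π hsur hker (τ.comp (σ j)) (fun z hz => hτnil _ (hnilj z hz))
        (fun a b => by simp only [LinearMap.comp_apply, hσ, hτcomm]) hE x, hτ x]
    refine Finset.sum_congr rfl fun i _ => ?_
    rw [LinearMap.comp_apply, ← hval _ (by rw [← hσ, hEI i]), hg j _ (hEI i)]
  have h1 : (g 1 : k) = 0 := by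
    rw [hval 1 (one_mul 1), ← hc, map_sum, Finset.sum_congr rfl (fun j _ => hinv j c),
      Finset.sum_const, Finset.card_univ, hι, nsmul_eq_mul, CharP.cast_eq_zero, zero_mul]
  exact (CharP.intCast_eq_zero_iff k p _).1 h1

end Cfsg.Agent.Char.IdemTr
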