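import Cfsg.Agent.Lib.Char.InvariantConstituent
import Cfsg.Agent.Lib.Char.Clifford
import Cfsg.Agent.Lib.Grp.SchurZassenhaus

/-!
An invariant constituent below an invariant character, by Glauberman's lemma.
-/

namespace Cfsg.Agent.Char.InvBelow

open Cfsg
open Cfsg.Agent.Char.InvAbove (FixBy)

set_option linter.unusedSectionVars false
set_option linter.style.haveILetI false

universe u

theorem exists_inv_below {Γ : Type u} [Group Γ] [Fintype Γ] (G S N : Subgroup Γ) [Fintype G]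
    [Fintype N] (hnorm : ∀ s ∈ S, ∀ g ∈ G, s * g * s⁻¹ ∈ G) (hNG : N ≤ G)
    [hNn : (N.subgroupOf G).Normal] (hNS : ∀ s ∈ S, ∀ n ∈ N, s * n * s⁻¹ ∈ N)
    (hcop : (N.relIndex G).Coprime (Nat.card S))
    (hsolv : Group.IsSolvable S ∨ Group.IsSolvable (G ⧸ N.subgroupOf G)) (χ : IrrCharacter G)
    (hinv : ∀ s ∈ S, ∀ g g' : G, (g' : Γ) = s * g * s⁻¹ → (χ : G → ℂ) g' = (χ : G → ℂ) g) :
    ∃ θ : IrrCharacter N,
      classInner (fun n : N => (χ : G → ℂ) ⟨n, hNG n.2⟩) (θ : N → ℂ) ≠ 0 ∧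
      ∀ s ∈ S, FixBy N (θ : N → ℂ) s := by
  classical
  set χN : N → ℂ := fun n => (χ : G → ℂ) ⟨n, hNG n.2⟩
  have hχN : IsCharacter N χN := IsChar.comp (Subgroup.inclusion hNG) (IsIrr.isCharacter χ.2)
  obtain ⟨θ₀, hθ₀⟩ := IsChar.exists_constituent' hχN
    (show (χ : G → ℂ) 1 ≠ 0 from IsIrr.one_ne_zero χ.2)
  let W : Subgroup Γ :=
    { carrier := {w | ∃ s ∈ S, ∃ g ∈ G, w = s * g}
      one_mem' := ⟨1, one_mem _, 1, one_mem _, (one_mul _).symm⟩
      mul_mem' := by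
        rintro _ _ ⟨s, hs, g, hg, rfl⟩ ⟨t, ht, g', hg', rfl⟩
        refine ⟨s * t, mul_mem hs ht, t⁻¹ * g * t * g', mul_mem ?_ hg', by group⟩
        have := hnorm t⁻¹ (inv_mem ht) g hg
        rwa [inv_inv] at this
      inv_mem' := by
        rintro _ ⟨s, hs, g, hg, rfl⟩
        exact ⟨s⁻¹, S.inv_mem hs, s * g⁻¹ * s⁻¹, hnorm s hs _ (G.inv_mem hg), by group⟩ }
  have hGW : G ≤ W := fun g hg => ⟨1, one_mem _, g, hg, (one_mul g).symm⟩
  have hSW : S ≤ W := fun s hs => ⟨s, hs, 1, one_mem _, (mul_one s).symm⟩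
  have hconjN : ∀ g ∈ G, ∀ n ∈ N, g * n * g⁻¹ ∈ N := fun g hg n hn =>
    hNn.conj_mem ⟨n, hNG hn⟩ hn ⟨g, hg⟩
  have hWG : ∀ w ∈ W, ∀ g ∈ G, w * g * w⁻¹ ∈ G := by
    rintro _ ⟨s, hs, h, hh, rfl⟩ g hg
    have := hnorm s hs _ (mul_mem (mul_mem hh hg) (inv_mem hh))
    convert this using 1
    group
  have hWN : ∀ w ∈ W, ∀ g ∈ N, w * g * w⁻¹ ∈ N := by
    rintro _ ⟨s, hs, h, hh, rfl⟩ g hg
    have := hNS s hs _ (hconjN h hh g hg)
    convert this using 1
    group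
  -- the conjugation automorphisms of the small group
  let cn : W → (N ≃* N) := fun w =>
    { toFun := fun g => ⟨(w : Γ) * g * (w : Γ)⁻¹, hWN w w.2 g g.2⟩
      invFun := fun g => ⟨(w : Γ)⁻¹ * g * (w : Γ), by
        have := hWN (w : Γ)⁻¹ (W.inv_mem w.2) g g.2
        rwa [inv_inv] at this⟩
      left_inv := fun g => Subtype.ext (show (w : Γ)⁻¹ * ((w : Γ) * g * (w : Γ)⁻¹) * w = g by group)
      right_inv := fun g => Subtype.ext (show (w : Γ) * ((w : Γ)⁻¹ * g * w) * (w : Γ)⁻¹ = g by group)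
      map_mul' := fun g g' => Subtype.ext (show (w : Γ) * ((g : Γ) * g') * (w : Γ)⁻¹ =
        (w : Γ) * g * (w : Γ)⁻¹ * ((w : Γ) * g' * (w : Γ)⁻¹) by group) }
  have hirr : ∀ w : W, IsIrrCharacter N (fun n => (θ₀ : N → ℂ) (cn w n)) := fun w =>
    IsIrr.comp_surjective (cn w).toMonoidHom (cn w).surjective θ₀.2
  have hχW : ∀ (w : W) (n : N), χN (cn w n) = χN n := by
    rintro ⟨_, s, hs, g, hg, rfl⟩ n
    have h1 := hinv s hs ⟨g * n * g⁻¹, hNG (hconjN g hg n n.2)⟩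
      ⟨(s * g) * n * (s * g)⁻¹, hNG (hWN _ ⟨s, hs, g, hg, rfl⟩ n n.2)⟩
      (show (s * g) * (n : Γ) * (s * g)⁻¹ = s * (g * n * g⁻¹) * s⁻¹ by group)
    exact h1.trans (IsIrr.classFun χ.2 ⟨(n : Γ), hNG n.2⟩ ⟨g, hg⟩)
  have hover : ∀ w : W, classInner χN (fun n => (θ₀ : N → ℂ) (cn w n)) ≠ 0 := fun w => by
    have h := classInner_comp_surjective (cn w).toMonoidHom (cn w).surjective χN (θ₀ : N → ℂ)
    simp only [MulEquiv.coe_toMonoidHom, hχW] at h
    exact fun h0 => hθ₀ (h.symm.trans h0)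
  -- transitivity inside the group
  haveI : Fintype (N.subgroupOf G) := Fintype.ofFinite _
  let e : N.subgroupOf G ≃* N := Subgroup.subgroupOfEquivOfLe hNG
  have htrans : ∀ w : W, ∃ g : G, ∀ n : N,
      (θ₀ : N → ℂ) (cn ⟨g, hGW g.2⟩ n) = (θ₀ : N → ℂ) (cn w n) := by
    intro w
    have hi : ∀ φ : N → ℂ, classInner χN φ ≠ 0 →
        classInner (fun x : N.subgroupOf G => (χ : G → ℂ) x) (fun x => φ (e x)) ≠ 0 := fun φ h h0 =>
      h ((classInner_comp_surjective e.toMonoidHom e.surjective χN φ).symm.trans h0)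
    obtain ⟨g, hg⟩ := exists_conj_of_constituents (N.subgroupOf G) χ.2
      (IsIrr.comp_surjective e.toMonoidHom e.surjective θ₀.2)
      (IsIrr.comp_surjective e.toMonoidHom e.surjective (hirr w)) (hi _ hθ₀) (hi _ (hover w))
    refine ⟨g, fun n => ?_⟩
    exact congrFun hg ⟨⟨n, hNG n.2⟩, n.2⟩
  set G' : Subgroup W := G.subgroupOf W
  set N' : Subgroup W := N.subgroupOf W
  haveI : G'.Normal := ⟨fun x hx w => hWG w w.2 x hx⟩
  haveI : N'.Normal := ⟨fun x hx w => hWN w w.2 x hx⟩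
  set π := QuotientGroup.mk' N'
  set A : Subgroup (W ⧸ N') := G'.map π
  haveI : A.Normal := Subgroup.Normal.map inferInstance π (QuotientGroup.mk'_surjective _)
  let T : Subgroup W :=
    { carrier := {w | FixBy N (θ₀ : N → ℂ) w}
      one_mem' := fun x x' hx => by
        rw [show x' = x from Subtype.ext (by simpa using hx)]
      mul_mem' := fun {a b} ha hb => ha.mul (hWN b b.2) hb
      inv_mem' := fun {a} ha x x' hx => (ha x' x (by rw [hx, Subgroup.coe_inv]; group)).symm }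
  have hNT : π.ker ≤ T := by
    intro w hw
    rw [QuotientGroup.ker_mk'] at hw
    intro x x' hx
    set v : N := ⟨(w : Γ), hw⟩
    rw [show x' = v * x * v⁻¹ from Subtype.ext hx]
    exact IsIrr.classFun θ₀.2 x v
  have hTG : ∀ w : W, ∃ g ∈ G', w * g ∈ T := by
    intro w
    obtain ⟨g, hg⟩ := htrans w⁻¹
    have hwg : (⟨(g : Γ), hGW g.2⟩ * w)⁻¹ ∈ T := by
      intro x x' hx
      have h1 := hg ⟨(g : Γ)⁻¹ * x * g, by
        have := hconjN (g : Γ)⁻¹ (G.inv_mem g.2) x x.2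
        rwa [inv_inv] at this⟩
      refine Eq.trans ?_ (h1.symm.trans (congrArg (θ₀ : N → ℂ) (Subtype.ext ?_)))
      · refine congrArg (θ₀ : N → ℂ) (Subtype.ext ?_)
        show (x' : Γ) = ((w⁻¹ : W) : Γ) * ((g : Γ)⁻¹ * x * g) * ((w⁻¹ : W) : Γ)⁻¹
        rw [hx]
        simp only [Subgroup.coe_inv, Subgroup.coe_mul]
        group
      · show (g : Γ) * ((g : Γ)⁻¹ * x * g) * (g : Γ)⁻¹ = x
        group
    refine ⟨w⁻¹ * ⟨(g : Γ), hGW g.2⟩ * w⁻¹⁻¹, ‹G'.Normal›.conj_mem ⟨(g : Γ), hGW g.2⟩ g.2 w⁻¹, ?_⟩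
    rw [inv_inv, ← mul_assoc, ← mul_assoc, mul_inv_cancel, one_mul]
    exact inv_mem_iff.1 hwg
  set T' : Subgroup (W ⧸ N') := T.map π
  have hπker : π.ker ≤ G' := by
    rw [QuotientGroup.ker_mk']
    exact fun x hx => hNG hx
  have hAidx : A.index = G.relIndex W :=
    Subgroup.index_map_eq _ (QuotientGroup.mk'_surjective _) hπker
  have hAcard : Nat.card A = N.relIndex G := by
    rw [← Subgroup.relIndex_bot_left, ← Subgroup.relIndex_comap, MonoidHom.comap_bot,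
      QuotientGroup.ker_mk']
    exact Subgroup.relIndex_subgroupOf hGW
  have hdvd : G.relIndex W ∣ Nat.card S := by
    show G'.index ∣ _
    rw [Subgroup.index_eq_card]
    refine Subgroup.card_dvd_of_surjective
      ((QuotientGroup.mk' G').comp (Subgroup.inclusion hSW)) ?_
    intro q
    obtain ⟨⟨_, s, hs, g, hg, rfl⟩, rfl⟩ := QuotientGroup.mk'_surjective _ q
    refine ⟨⟨s, hs⟩, (QuotientGroup.eq).2 ?_⟩
    show (s⁻¹ * (s * g) : Γ) ∈ G
    rwa [inv_mul_cancel_left]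
  have hcopA : (Nat.card A).Coprime A.index := by
    rw [hAcard, hAidx]; exact hcop.coprime_dvd_right hdvd
  -- complement inside the stabiliser
  haveI : (A.subgroupOf T').Normal := Subgroup.Normal.subgroupOf inferInstance T'
  have hT'top : T' ⊔ A = ⊤ := by
    refine eq_top_iff.2 fun q _ => ?_
    obtain ⟨w, rfl⟩ := QuotientGroup.mk'_surjective N' q
    obtain ⟨g, hg, hwg⟩ := hTG w
    rw [show π w = π (w * g) * π g⁻¹ by rw [← map_mul, mul_inv_cancel_right]]
    exact mul_mem (Subgroup.mem_sup_left ⟨_, hwg, rfl⟩)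
      (Subgroup.mem_sup_right ⟨_, G'.inv_mem hg, rfl⟩)
  have hrelT : (A.subgroupOf T').index = A.index := by
    show A.relIndex T' = _
    rw [← Subgroup.relIndex_sup_right, hT'top, Subgroup.relIndex_top_right]
  have hcardA' : Nat.card (A.subgroupOf T') ∣ Nat.card A := by
    rw [← Subgroup.card_map_of_injective T'.subtype_injective, Subgroup.subgroupOf_map_subtype]
    exact Subgroup.card_dvd_of_le inf_le_left
  obtain ⟨L₀, hL₀⟩ := Subgroup.exists_right_complement'_of_coprime (N := A.subgroupOf T')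
    (by rw [hrelT]; exact hcopA.coprime_dvd_left hcardA')
  set L : Subgroup (W ⧸ N') := L₀.map T'.subtype
  have hLcard : Nat.card L = A.index := by
    rw [Subgroup.card_map_of_injective T'.subtype_injective, ← hrelT]
    exact hL₀.symm.index_eq_card.symm
  -- the image of the operators
  set S' : Subgroup (W ⧸ N') := (S.subgroupOf W).map π
  have hSup : A ⊔ S' = ⊤ := by
    refine eq_top_iff.2 fun q _ => ?_
    obtain ⟨⟨_, s, hs, g, hg, rfl⟩, rfl⟩ := QuotientGroup.mk'_surjective N' q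
    rw [show (⟨s * g, ⟨s, hs, g, hg, rfl⟩⟩ : W) = ⟨s, hSW hs⟩ * ⟨g, hGW hg⟩ from rfl, map_mul]
    exact mul_mem (Subgroup.mem_sup_right ⟨_, hs, rfl⟩) (Subgroup.mem_sup_left ⟨_, hg, rfl⟩)
  have hScop : (Nat.card A).Coprime (Nat.card S') := by
    rw [hAcard]
    refine hcop.coprime_dvd_right ((Subgroup.card_map_dvd _ π).trans (dvd_of_eq ?_))
    exact Nat.card_congr (Subgroup.subgroupOfEquivOfLe hSW).toEquiv
  have hScard : Nat.card S' = A.index := by
    rw [← Subgroup.relIndex_top_right A, ← hSup, sup_comm, Subgroup.relIndex_sup_right]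
    show _ = (A.subgroupOf S').index
    rw [Subgroup.subgroupOf_eq_bot.2 (Subgroup.disjoint_of_coprime_natCard hScop),
      Subgroup.index_bot]
  obtain ⟨a, ⟨g, hg, rfl⟩, hconj⟩ := Grp.exists_conj_of_le_sup (N := A) (H := S') (K := L)
    (by rw [Subgroup.normalizer_eq_top]; exact le_top) (by rw [hSup]; exact le_top)
    (hLcard.trans hScard.symm) hScop (by
      rcases hsolv with h | h
      · right
        haveI := h
        haveI : Group.IsSolvable (S.subgroupOf W) := Group.isSolvable_of_surjective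
          (f := (Subgroup.subgroupOfEquivOfLe hSW).symm.toMonoidHom) (MulEquiv.surjective _)
        exact Group.isSolvable_of_surjective (MonoidHom.subgroupMap_surjective π (S.subgroupOf W))
      · left
        haveI := h
        let f : G →* A :=
          (π.comp (Subgroup.inclusion hGW)).codRestrict A fun x => ⟨_, x.2, rfl⟩
        have hf : N.subgroupOf G ≤ f.ker := fun x hx => Subtype.ext
          ((QuotientGroup.eq_one_iff _).2 hx)
        refine Group.isSolvable_of_surjective (f := QuotientGroup.lift _ f hf) ?_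
        rintro ⟨_, w, hw, rfl⟩
        exact ⟨((⟨(w : Γ), hw⟩ : G) : G ⧸ N.subgroupOf G), rfl⟩)
  refine ⟨⟨_, hirr g⟩, hover g, fun s hs n n' hn => ?_⟩
  have hmem : π g * π ⟨s, hSW hs⟩ * (π g)⁻¹ ∈ L := by
    rw [← hconj]
    exact ⟨π ⟨s, hSW hs⟩, ⟨_, hs, rfl⟩, rfl⟩
  obtain ⟨t, ht, hteq⟩ := Subgroup.map_subtype_le _ hmem
  have hT : g * ⟨s, hSW hs⟩ * g⁻¹ ∈ T := by
    have : t⁻¹ * (g * ⟨s, hSW hs⟩ * g⁻¹) ∈ T := hNT (by
      rw [MonoidHom.mem_ker, map_mul, map_inv, hteq, map_mul, map_mul, map_inv, inv_mul_cancel])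
    simpa using T.mul_mem ht this
  refine hT (cn g n) (cn g n') ?_
  show (g : Γ) * n' * (g : Γ)⁻¹ = _
  rw [hn]
  show _ = (g : Γ) * s * (g : Γ)⁻¹ * ((g : Γ) * n * (g : Γ)⁻¹) * ((g : Γ) * s * (g : Γ)⁻¹)⁻¹
  group

end Cfsg.Agent.Char.InvBelow
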