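import Cfsg.Agent.Lib.Block.PermChar

/-! Constituents of doubly transitive permutation characters. -/

set_option autoImplicit false
set_option linter.unusedSectionVars false

namespace Cfsg.Agent.Char

open scoped ComplexConjugate
open Module Cfsg Cfsg.Agent.Block.PermChar

universe u v w

variable {G : Type u} [Group G] [Fintype G]

/-- A non-trivial representation has a non-trivial irreducible constituent. -/
theorem exists_nontrivial_constituent {V : Type v} [AddCommGroup V] [Module ℂ V]
    [FiniteDimensional ℂ V] (ρ : Representation ℂ G V) {g₀ : G} (h : ρ g₀ ≠ 1) :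
    ∃ (n : ℕ) (σ : Representation ℂ G (Fin n → ℂ)), σ.IsIrreducible ∧
      classInner ρ.character σ.character ≠ 0 ∧ n ≤ finrank ℂ V ∧ ∃ g, σ g ≠ 1 := by
  classical
  obtain ⟨a, ha, hdec⟩ := IsChar.exists_decomp_inner (isCharacter_character ρ)
  by_contra hcon
  push Not at hcon
  apply h
  have hall : ∀ φ : IrrCharacter G, a φ ≠ 0 → (φ : G → ℂ) g₀ = (φ : G → ℂ) 1 := by
    intro φ hφ
    obtain ⟨n, σ, hσ, hσc⟩ := φ.2
    have hne : classInner ρ.character σ.character ≠ 0 := by
      rw [hσc, ha φ]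
      exact Nat.cast_ne_zero.2 hφ
    have hle : n ≤ finrank ℂ V :=
      degree_le_of_constituent (isCharacter_character ρ) φ.2 (hσc ▸ hne)
        (Representation.char_one ρ) (by rw [← hσc, Representation.char_one, Module.finrank_fin_fun])
    have h1 := hcon n σ hσ hne hle g₀
    rw [← hσc]
    show LinearMap.trace ℂ _ (σ g₀) = LinearMap.trace ℂ _ (σ 1)
    rw [h1]
    exact congrArg _ (map_one σ).symm
  have e : ρ.character g₀ = ρ.character 1 := by
    rw [hdec, sum_irr_apply, sum_irr_apply]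
    refine Finset.sum_congr rfl fun φ _ => ?_
    by_cases hφ : a φ = 0
    · simp [hφ]
    · rw [hall φ hφ]
  rw [Representation.char_one] at e
  rw [(character_eq_finrank_iff ρ g₀).1 e, Module.End.one_eq_id]

variable {Ω : Type w} [Fintype Ω] [DecidableEq Ω] [MulAction G Ω]

/-- The character of the trivial representation. -/
theorem mult_one (hpre : MulAction.IsPretransitive G Ω) (hne : Nonempty Ω) :
    mult G Ω (fun _ => (1 : ℂ)) = 1 := by
  classical
  rw [mult, classInner]
  simp only [map_one, mul_one, piFun, Nat.card_eq_fintype_card]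
  haveI := hpre
  haveI : Fintype (MulAction.orbitRel.Quotient G Ω) := Fintype.ofFinite _
  have h := MulAction.sum_card_fixedBy_eq_card_orbits_mul_card_group G Ω
  have h1 : Fintype.card (MulAction.orbitRel.Quotient G Ω) = 1 := by
    haveI : Subsingleton (MulAction.orbitRel.Quotient G Ω) :=
      (MulAction.pretransitive_iff_subsingleton_quotient G Ω).1 hpre
    haveI : Nonempty (MulAction.orbitRel.Quotient G Ω) := ⟨Quotient.mk'' hne.some⟩
    exact le_antisymm (Fintype.card_le_one_iff_subsingleton.2 inferInstance) Fintype.card_pos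
  have h2 : ∑ g : G, Fintype.card (MulAction.fixedBy Ω g) = Fintype.card G := by
    convert h using 1
    rw [h1, one_mul]
  rw [← Nat.cast_sum, h2]
  exact inv_mul_cancel₀ (Nat.cast_ne_zero.2 Fintype.card_ne_zero)

theorem card_orbitals_two (h2 : MulAction.IsMultiplyPretransitive G Ω 2) (hcard : 2 ≤ Fintype.card Ω) :
    Nat.card (MulAction.orbitRel.Quotient G (Ω × Ω)) = 2 := by
  obtain ⟨x, y, hxy⟩ := Fintype.one_lt_card_iff.1 (lt_of_lt_of_le one_lt_two hcard)
  rw [Nat.card_eq_two_iff]
  refine ⟨Quotient.mk'' (x, x), Quotient.mk'' (x, y), fun e => ?_, Set.eq_univ_of_forall fun c => ?_⟩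
  · obtain ⟨g, hg⟩ := Quotient.exact' e
    have h1 : g • x = x := congrArg Prod.fst hg
    have h3 : g • y = x := congrArg Prod.snd hg
    exact hxy (smul_left_cancel g (h1.trans h3.symm))
  · induction c using Quotient.inductionOn' with
    | h p =>
      obtain ⟨a, b⟩ := p
      by_cases hab : a = b
      · subst hab
        left
        haveI := h2
        haveI hp : MulAction.IsPretransitive G Ω := MulAction.isPretransitive_of_is_two_pretransitive
        obtain ⟨g, hg⟩ := hp.exists_smul_eq x a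
        exact Quotient.sound' ⟨g, by simp [Prod.smul_mk, hg]⟩
      · right
        obtain ⟨g, hg1, hg2⟩ := MulAction.is_two_pretransitive_iff.1 h2 hxy hab
        exact Quotient.sound' ⟨g, by simp [Prod.smul_mk, hg1, hg2]⟩

/-- Non-trivial constituents of a doubly transitive permutation character. -/
theorem two_trans_constituent (h2 : MulAction.IsMultiplyPretransitive G Ω 2)
    (hcard : 2 ≤ Fintype.card Ω) :
    (∀ χ : IrrCharacter G, (χ : G → ℂ) ≠ (fun _ => 1) → mult G Ω (χ : G → ℂ) ≠ 0 →
      (χ : G → ℂ) 1 + 1 = (Fintype.card Ω : ℂ)) ∧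
    ∃ χ : IrrCharacter G, (χ : G → ℂ) ≠ (fun _ => 1) ∧ mult G Ω (χ : G → ℂ) ≠ 0 := by
  classical
  haveI := h2
  have hpre : MulAction.IsPretransitive G Ω := MulAction.isPretransitive_of_is_two_pretransitive
  have hne : Nonempty Ω := Fintype.card_pos_iff.1 (by omega)
  let one' : IrrCharacter G := ⟨fun _ => 1, isIrr_one⟩
  choose a ha using fun χ : IrrCharacter G => exists_mult (Ω := Ω) χ
  have hs := sum_mult_sq (G := G) (Ω := Ω)
  simp only [ha, map_natCast, card_orbitals_two h2 hcard] at hs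
  have hs' : ∑ χ : IrrCharacter G, a χ * a χ = 2 := by exact_mod_cast hs
  have h1 : a one' = 1 := by
    have := (ha one').symm.trans (mult_one hpre hne)
    exact_mod_cast this
  rw [← Finset.add_sum_erase _ _ (Finset.mem_univ one'), h1] at hs'
  obtain ⟨χ₀, hχ₀, hχ₀'⟩ : ∃ χ ∈ Finset.univ.erase one', a χ ≠ 0 := by
    by_contra hcon
    push Not at hcon
    rw [Finset.sum_eq_zero (fun χ hχ => by rw [hcon χ hχ, mul_zero])] at hs'
    omega
  have huniq : ∀ χ ∈ Finset.univ.erase one', χ ≠ χ₀ → a χ = 0 ∧ a χ₀ = 1 := by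
    intro χ hχ hne'
    rw [← Finset.add_sum_erase _ _ hχ₀, ← Finset.add_sum_erase _ _
      (Finset.mem_erase.2 ⟨hne', hχ⟩)] at hs'
    have : 1 ≤ a χ₀ * a χ₀ := Nat.one_le_iff_ne_zero.2 (mul_ne_zero hχ₀' hχ₀')
    have hz : a χ * a χ = 0 := by omega
    exact ⟨by simpa using hz, Nat.eq_one_of_mul_eq_one_right (show a χ₀ * a χ₀ = 1 by omega)⟩
  have h0 : a χ₀ = 1 := by
    rw [← Finset.add_sum_erase _ _ hχ₀] at hs'
    have : 1 ≤ a χ₀ * a χ₀ := Nat.one_le_iff_ne_zero.2 (mul_ne_zero hχ₀' hχ₀')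
    exact Nat.eq_one_of_mul_eq_one_right (show a χ₀ * a χ₀ = 1 by omega)
  have hdec := congrFun (piFun_decomp (G := G) (Ω := Ω)) 1
  rw [Finset.sum_apply, ← Finset.add_sum_erase _ _ (Finset.mem_univ one'),
    ← Finset.add_sum_erase _ _ hχ₀] at hdec
  simp only [ha, h1, h0, Nat.cast_one, one_smul, Pi.smul_apply] at hdec
  rw [Finset.sum_eq_zero (fun χ hχ => by
    rw [(huniq χ (Finset.mem_of_mem_erase hχ) (Finset.ne_of_mem_erase hχ)).1, Nat.cast_zero, zero_smul])] at hdec
  have hpi : piFun G Ω 1 = (Fintype.card Ω : ℂ) := by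
    rw [piFun, Nat.card_congr (Equiv.subtypeUnivEquiv (fun b : Ω => by simp)), Nat.card_eq_fintype_card]
  rw [hpi, show (one' : G → ℂ) 1 = 1 from rfl, add_zero] at hdec
  refine ⟨fun χ hχ hm => ?_, χ₀, fun e => (Finset.ne_of_mem_erase hχ₀) (Subtype.ext e),
    by rw [ha, h0]; simp⟩
  have : χ = χ₀ := by
    by_contra hne'
    refine hm ?_
    rw [ha, (huniq χ (Finset.mem_erase.2 ⟨fun e => hχ (congrArg Subtype.val e), Finset.mem_univ _⟩) hne').1,
      Nat.cast_zero]
  rw [this, hdec, add_comm]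

/-- An irreducible representation with a fixed vector of a point stabiliser. -/
theorem finrank_of_fixed_vector {V : Type v} [AddCommGroup V] [Module ℂ V] [FiniteDimensional ℂ V]
    (h2 : MulAction.IsMultiplyPretransitive G Ω 2) (hcard : 2 ≤ Fintype.card Ω) (x : Ω)
    (ρ : Representation ℂ G V) [ρ.IsIrreducible] {g₁ : G} (hg₁ : ρ g₁ ≠ 1) {v : V} (hv : v ≠ 0)
    (hfix : ∀ h : G, h • x = x → ρ h v = v) :
    finrank ℂ V + 1 = Fintype.card Ω := by
  classical
  haveI := h2
  have hpre : MulAction.IsPretransitive G Ω := MulAction.isPretransitive_of_is_two_pretransitive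
  choose r hr using fun p : Ω => hpre.exists_smul_eq x p
  obtain ⟨f₁, hf₁⟩ : ∃ f : V →ₗ[ℂ] ℂ, f v ≠ 0 := by
    by_contra hcon
    push Not at hcon
    exact hv ((Module.forall_dual_apply_eq_zero_iff ℂ v).1 hcon)
  let S : Finset G := Finset.univ.filter fun h => h • x = x
  let f : V →ₗ[ℂ] ℂ := ∑ h ∈ S, f₁ ∘ₗ ρ h
  have hfv : f v ≠ 0 := by
    simp only [f, LinearMap.sum_apply, LinearMap.comp_apply]
    rw [Finset.sum_congr rfl (fun h hh => by rw [hfix h (Finset.mem_filter.1 hh).2]), Finset.sum_const,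
      nsmul_eq_mul]
    refine mul_ne_zero (Nat.cast_ne_zero.2 (Finset.card_ne_zero.2 ⟨1, ?_⟩)) hf₁
    simp [S]
  have hfh : ∀ h, h • x = x → ∀ w, f (ρ h w) = f w := by
    intro h hh w
    simp only [f, LinearMap.sum_apply, LinearMap.comp_apply]
    refine Finset.sum_equiv (Equiv.mulRight h) (fun i => ?_) (fun i _ => ?_)
    · simp only [S, Finset.mem_filter, Finset.mem_univ, true_and, Equiv.coe_mulRight, mul_smul, hh]
    · rw [Equiv.coe_mulRight, map_mul, Module.End.mul_apply]
  let Φ : Representation.IntertwiningMap ρ (permRep ℂ G Ω) :=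
    { toLinearMap := LinearMap.pi fun p => f ∘ₗ ρ (r p)⁻¹
      isIntertwining' := fun g => LinearMap.ext fun w => funext fun p => by
        show f (ρ (r p)⁻¹ (ρ g w)) = f (ρ (r (g⁻¹ • p))⁻¹ w)
        have hs : ((r p)⁻¹ * g * r (g⁻¹ • p)) • x = x := by
          rw [mul_smul, mul_smul, hr, smul_inv_smul, inv_smul_eq_iff, hr]
        rw [← hfh _ hs (ρ (r (g⁻¹ • p))⁻¹ w), ← Module.End.mul_apply, ← Module.End.mul_apply,
          ← map_mul, ← map_mul, mul_inv_cancel_right] }
  have hΦ : Φ ≠ 0 := by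
    intro e
    have h3 := congrArg (fun ψ : Representation.IntertwiningMap ρ (permRep ℂ G Ω) => ψ.toLinearMap v x) e
    have hrx : ((r x)⁻¹) • x = x := by rw [inv_smul_eq_iff, hr]
    change f (ρ (r x)⁻¹ v) = 0 at h3
    rw [hfh _ hrx] at h3
    exact hfv h3
  have hm : mult G Ω ρ.character ≠ 0 := by
    rw [mult, ← permRep_character, classInner_character]
    refine Nat.cast_ne_zero.2 fun h0 => hΦ ?_
    haveI := Module.finrank_zero_iff.1 h0
    exact Subsingleton.elim _ _
  have hirr : IsIrrCharacter G ρ.character := isIrrCharacter_character ρ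
  have hne1 : ρ.character ≠ fun _ => 1 := by
    intro e
    apply hg₁
    have h1 := congrFun e 1
    have h3 := congrFun e g₁
    rw [Representation.char_one] at h1
    rw [← h1] at h3
    rw [(character_eq_finrank_iff ρ g₁).1 h3, Module.End.one_eq_id]
  have h5 := (two_trans_constituent h2 hcard).1 ⟨_, hirr⟩ hne1 hm
  rw [show (⟨ρ.character, hirr⟩ : IrrCharacter G).1 1 = _ from Representation.char_one ρ] at h5
  exact_mod_cast h5

end Cfsg.Agent.Char
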