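import Cfsg.Agent.Lib.Char.Blichfeldt
import Cfsg.Agent.Lib.Char.BrauerInduction
import Mathlib.NumberTheory.PrimeCounting
import Mathlib.Data.Nat.Choose.Multinomial

/-!
An abelian subgroup of small index in a nilpotent linear group, and the assembly of the explicit
Jordan bound.
-/

set_option autoImplicit false
set_option linter.unusedSectionVars false
set_option linter.style.haveILetI false

namespace Cfsg.Agent.Char.Jordan

open Cfsg Cfsg.Agent.Char Cfsg.Agent.Char.Blichfeldt

universe u

variable {G : Type u} [Group G] [Fintype G]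

/-- A nilpotent linear group of degree `n` has an abelian subgroup of index dividing `n!`. -/
theorem abelian_dvd_factorial (hnil : Group.IsNilpotent G) {χ : G → ℂ} (hχ : IsCharacter G χ)
    (hfaith : ∀ g, χ g = χ 1 → g = 1) {n : ℕ} (hn : χ 1 = n) :
    ∃ B : Subgroup G, (∀ x ∈ B, ∀ y ∈ B, x * y = y * x) ∧ B.index ∣ n.factorial := by
  classical
  obtain ⟨a, ha, hdec⟩ := IsChar.exists_decomp_inner hχ
  have hm := fun φ : IrrCharacter G => Brauer.monomial hnil φ.2
  choose H l hl using hm
  set s : Finset (IrrCharacter G) := Finset.univ.filter (fun φ => a φ ≠ 0) with hs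
  let F : G →* (φ : s) → Equiv.Perm (G ⧸ H φ) :=
    MonoidHom.pi fun φ => MulAction.toPermHom G (G ⧸ H φ)
  have hker : ∀ k ∈ F.ker, ∀ φ : s, ∀ x : G, x⁻¹ * k * x ∈ H φ := by
    intro k hk φ x
    have h1 := Equiv.ext_iff.mp (congrFun (MonoidHom.mem_ker.mp hk) φ) ((x : G ⧸ H φ))
    change k • (x : G ⧸ H φ) = x at h1
    rw [MulAction.Quotient.smul_mk, smul_eq_mul, QuotientGroup.eq] at h1
    have := inv_mem h1
    simpa [mul_assoc] using this
  refine ⟨F.ker, fun u hu v hv => ?_, ?_⟩
  · have h : u * v * u⁻¹ * v⁻¹ = 1 := by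
      refine eq_one_of_constituents hχ hfaith fun φ hc => ?_
      have hφ : φ ∈ s := Finset.mem_filter.mpr ⟨Finset.mem_univ _, fun h0 =>
        hc (by rw [ha, h0, Nat.cast_zero])⟩
      rw [hl φ]
      simp only [indFun]
      refine congrArg _ (Finset.sum_congr rfl fun x _ => ?_)
      have hu' : x⁻¹ * u * x ∈ H φ := hker u hu ⟨φ, hφ⟩ x
      have hv' : x⁻¹ * v * x ∈ H φ := hker v hv ⟨φ, hφ⟩ x
      have e : x⁻¹ * (u * v * u⁻¹ * v⁻¹) * x =
          ((⟨_, hu'⟩ * ⟨_, hv'⟩ * (⟨_, hu'⟩ : H φ)⁻¹ * (⟨_, hv'⟩ : H φ)⁻¹ : H φ) : G) := by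
        simp only [Subgroup.coe_mul, InvMemClass.coe_inv]; group
      have e1 : x⁻¹ * 1 * x = ((1 : H φ) : G) := by simp
      rw [e, e1]
      simp only [extendByZero, Subtype.val_injective.extend_apply, map_mul, map_inv, map_one]
      rw [mul_right_comm (l φ _) (l φ _), mul_inv_cancel, one_mul, mul_inv_cancel]
    calc u * v = (u * v * u⁻¹ * v⁻¹) * (v * u) := by group
      _ = v * u := by rw [h, one_mul]
  · rw [Subgroup.index_ker]
    refine (Subgroup.card_subgroup_dvd_card F.range).trans ?_
    rw [Nat.card_pi]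
    simp only [Nat.card_perm, ← Subgroup.index_eq_card]
    rw [Finset.prod_coe_sort s (fun φ => (H φ).index.factorial)]
    refine (Nat.prod_factorial_dvd_factorial_sum _ _).trans (Nat.factorial_dvd_factorial ?_)
    have h1 : (n : ℂ) = ((∑ φ : IrrCharacter G, a φ * (H φ).index : ℕ) : ℂ) := by
      rw [← hn, hdec, sum_irr_apply, Nat.cast_sum]
      refine Finset.sum_congr rfl fun φ _ => ?_
      rw [hl φ, indFun_one_eq, map_one, Units.val_one, mul_one, Nat.cast_mul]
    have h2 : n = ∑ φ : IrrCharacter G, a φ * (H φ).index := by exact_mod_cast h1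
    calc ∑ φ ∈ s, (H φ).index ≤ ∑ φ ∈ s, a φ * (H φ).index :=
          Finset.sum_le_sum fun φ hφ => Nat.le_mul_of_pos_left _
            (Nat.pos_of_ne_zero (Finset.mem_filter.mp hφ).2)
      _ ≤ n := h2 ▸ Finset.sum_le_sum_of_subset (Finset.subset_univ _)

/-- The explicit bound, given an abelian normal subgroup meeting every abelian subgroup in index
at most `c`. -/
theorem index_le {χ : G → ℂ} (hχ : IsCharacter G χ) (hfaith : ∀ g, χ g = χ 1 → g = 1) {n : ℕ}
    (hn : χ 1 = n) (A : Subgroup G) [A.Normal] {c : ℕ} (hc : ∀ H : Subgroup G,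
      (∀ x ∈ H, ∀ y ∈ H, x * y = y * x) → A.relIndex H ≤ c) :
    A.index ≤ n.factorial * c ^ (Nat.primeCounting (n + 1) + 1) := by
  classical
  obtain ⟨H, hH0, hH1, hH2⟩ := exists_hall hχ hfaith hn
  set S := (Finset.range (n + 2)).filter Nat.Prime
  have hScard : S.card = Nat.primeCounting (n + 1) := by
    rw [Nat.primeCounting, Nat.primeCounting', Nat.count_eq_card_filter_range]
  have hI : A.index ≠ 0 := Subgroup.index_ne_zero_of_finite
  set r := A.relIndex H
  have hr0 : r ≠ 0 := fun h => by
    have := A.relIndex_dvd_index_of_normal H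
    rw [show A.relIndex H = 0 from h] at this
    exact hI (zero_dvd_iff.mp this)
  have hsplit : ∀ K : Subgroup G, A.index = A.relIndex K * (A ⊔ K).index := fun K => by
    rw [← Subgroup.relIndex_sup_left (K := A) (H := K), Subgroup.relIndex_mul_index le_sup_left]
  -- large primes
  have hbig : ∀ q, q.Prime → n + 1 < q → A.index.factorization q = r.factorization q := by
    intro q hq hnq
    rw [hsplit H, Nat.factorization_mul hr0 Subgroup.index_ne_zero_of_finite, Finsupp.add_apply,
      Nat.factorization_eq_zero_of_not_dvd (n := (A ⊔ H).index) fun h =>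
        absurd (hH2 q hq (h.trans (Subgroup.index_dvd_of_le le_sup_right))) (by omega), add_zero]
  -- small primes
  have hsmall : ∀ p, p.Prime → p ^ A.index.factorization p ≤
      p ^ n.factorial.factorization p * c := by
    intro p hp
    haveI := Fact.mk hp
    obtain ⟨P⟩ : Nonempty (Sylow p G) := inferInstance
    haveI := Fintype.ofFinite (P : Subgroup G)
    obtain ⟨B, hB, hBd⟩ := abelian_dvd_factorial (G := (P : Subgroup G)) P.2.isNilpotent
      (IsChar.res hχ (P : Subgroup G)) (fun g hg => Subtype.ext (hfaith g (by simpa using hg)))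
      (n := n) (by simpa using hn)
    set B' := B.map (P : Subgroup G).subtype
    have hB'P : B' ≤ P := Subgroup.map_subtype_le B
    have hB' : ∀ x ∈ B', ∀ y ∈ B', x * y = y * x := by
      rintro _ ⟨x, hx, rfl⟩ _ ⟨y, hy, rfl⟩
      exact congrArg Subtype.val (hB x hx y hy)
    have hBP : B'.relIndex P = B.index := by
      show ((B.map (P : Subgroup G).subtype).comap (P : Subgroup G).subtype).index = _
      rw [Subgroup.comap_map_eq_self_of_injective (Subgroup.subtype_injective _)]
    obtain ⟨j, hj⟩ : ∃ j, A.relIndex P = p ^ j := by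
      obtain ⟨i, hi⟩ := IsPGroup.iff_card.mp P.2
      have : A.relIndex (P : Subgroup G) ∣ p ^ i := hi ▸ Subgroup.index_dvd_card _
      obtain ⟨j, -, hj⟩ := (Nat.dvd_prime_pow hp).mp this
      exact ⟨j, hj⟩
    have hv : p ^ A.index.factorization p = A.relIndex P := by
      rw [hsplit P, hj, Nat.factorization_mul (pow_ne_zero _ hp.ne_zero)
        Subgroup.index_ne_zero_of_finite, Finsupp.add_apply, hp.factorization_pow,
        Finsupp.single_eq_same, Nat.factorization_eq_zero_of_not_dvd (n := (A ⊔ (P : Subgroup G)).index)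
          fun h => P.not_dvd_index (h.trans (Subgroup.index_dvd_of_le le_sup_right)), add_zero]
    have hne : ∀ K L : Subgroup G, K.relIndex L ≠ 0 := fun K L =>
      Subgroup.index_ne_zero_of_finite
    have h1 : A.relIndex P ≤ (A ⊓ B').relIndex P :=
      Nat.le_of_dvd (Nat.pos_of_ne_zero (hne _ _))
        (Subgroup.relIndex_dvd_of_le_left (P : Subgroup G) inf_le_left)
    have h2 : (A ⊓ B').relIndex P = A.relIndex B' * B.index := by
      rw [← hBP, ← Subgroup.inf_relIndex_right A B', Subgroup.relIndex_mul_relIndex _ _ _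
        inf_le_right hB'P]
    have h3 : B.index ≤ p ^ n.factorial.factorization p := by
      obtain ⟨i, hi⟩ := IsPGroup.iff_card.mp P.2
      have h4 : B.index ∣ p ^ i := hi ▸ B.index_dvd_card
      obtain ⟨k, -, hk⟩ := (Nat.dvd_prime_pow hp).mp h4
      rw [hk] at hBd ⊢
      exact Nat.pow_le_pow_right hp.pos
        ((hp.pow_dvd_iff_le_factorization (Nat.factorial_pos n).ne').mp hBd)
    rw [hv]
    calc A.relIndex P ≤ A.relIndex B' * B.index := h2 ▸ h1
      _ ≤ c * p ^ n.factorial.factorization p := Nat.mul_le_mul (hc B' hB') h3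
      _ = _ := mul_comm _ _
  -- assembly
  have hprod : ∀ (m : ℕ), m ≠ 0 → ∀ T : Finset ℕ, m.primeFactors ⊆ T →
      ∏ p ∈ T, p ^ m.factorization p = m := by
    intro m hm T hT
    rw [← Finset.prod_subset hT fun p _ hp => by
      rw [← Nat.support_factorization, Finsupp.notMem_support_iff] at hp
      rw [hp, pow_zero]]
    conv_rhs => rw [← Nat.prod_factorization_pow_eq_self hm]
    rw [Finsupp.prod, Nat.support_factorization]
  set T := A.index.primeFactors \ S
  have hTq : ∀ q ∈ T, q.Prime ∧ n + 1 < q := by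
    intro q hq
    obtain ⟨h1, h2⟩ := Finset.mem_sdiff.mp hq
    refine ⟨Nat.prime_of_mem_primeFactors h1, ?_⟩
    by_contra h
    exact h2 (Finset.mem_filter.mpr ⟨Finset.mem_range.mpr (by omega),
      Nat.prime_of_mem_primeFactors h1⟩)
  have hfac : ∏ p ∈ S, p ^ n.factorial.factorization p = n.factorial :=
    hprod _ (Nat.factorial_pos n).ne' S fun p hp => Finset.mem_filter.mpr
      ⟨Finset.mem_range.mpr (by
        have := ((Nat.prime_of_mem_primeFactors hp).dvd_factorial).mp (Nat.dvd_of_mem_primeFactors hp)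
        omega), Nat.prime_of_mem_primeFactors hp⟩
  have hlarge : ∏ q ∈ T, q ^ A.index.factorization q ≤ r := by
    rw [Finset.prod_congr rfl fun q hq => by rw [hbig q (hTq q hq).1 (hTq q hq).2]]
    calc ∏ q ∈ T, q ^ r.factorization q
        ≤ ∏ q ∈ T ∪ r.primeFactors, q ^ r.factorization q :=
          Finset.prod_le_prod_of_subset_of_one_le' Finset.subset_union_left fun q hq hqT => by
            rcases Finset.mem_union.mp hq with h | h
            · exact absurd h hqT
            · exact Nat.one_le_pow _ _ (Nat.prime_of_mem_primeFactors h).pos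
      _ = r := hprod r hr0 _ Finset.subset_union_right
  calc A.index = ∏ p ∈ S ∪ T, p ^ A.index.factorization p :=
        (hprod _ hI _ (by intro p hp; simp [T, hp])).symm
    _ = (∏ p ∈ S, p ^ A.index.factorization p) * ∏ p ∈ T, p ^ A.index.factorization p :=
        Finset.prod_union Finset.disjoint_sdiff
    _ ≤ (∏ p ∈ S, (p ^ n.factorial.factorization p * c)) * c :=
        Nat.mul_le_mul (Finset.prod_le_prod' fun p hp => hsmall p (Finset.mem_filter.mp hp).2)
          (hlarge.trans (hc H hH0))
    _ = _ := by rw [Finset.prod_mul_distrib, hfac, Finset.prod_const, hScard, pow_succ, mul_assoc]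

end Cfsg.Agent.Char.Jordan
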