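import Cfsg.Agent.Lib.Char.RankOneSmall
import Cfsg.Agent.Lib.Char.CardSqBound
import Cfsg.Agent.Lib.Char.NilpotentMain

/-!
Blocks with a Klein four defect group.
-/

namespace Cfsg.Agent.Char.Spec

open scoped ComplexConjugate
open Cfsg.Agent.Block Cfsg.Agent.Char.BP

set_option linter.unusedSectionVars false
set_option linter.style.haveILetI false

universe u

variable {G : Type u} [Group G] [Fintype G] {M : Ideal AlgInt}
variable {B : Set (IrrCharacter G)} {P : Subgroup G} {e : Set (IrrCharacter (CG P))}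

/-- An involution with a section of rank one and full defect forces an even number of characters. -/
theorem even_card_of_section (hM : IsPModular 2 M) {y : G} (hy : orderOf y = 2)
    {a : BrauerPairIdx G} (hay : a.1 = Subgroup.zpowers y) (haB : OfB 2 M B a)
    (hd : blockDefect 2 a.2 = blockDefect 2 B) (hd0 : 0 < blockDefect 2 B)
    (hl : blockRank 2 a.2 = 1) (hh : ∀ χ ∈ B, blockHeight 2 B (χ : G → ℂ) = 0) :
    Even (Nat.card B) := by
  classical
  haveI := Fact.mk Nat.prime_two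
  set A := Finset.univ.filter (· ∈ B) with hA
  have hyp : ∃ k, orderOf y = 2 ^ k := ⟨1, by rw [hy, pow_one]⟩
  have hcomm : a.1 ≤ CG a.1 := by
    rw [hay]; exact Subgroup.zpowers_le.2 (hay ▸ self_mem_cg hay)
  have hya : y ∈ a.1 := (SetLike.ext_iff.1 hay y).2 (Subgroup.mem_zpowers y)
  have hint : ∀ χ ∈ B, ∃ n : ℤ, contrib 2 (blockDefect 2 B) a y χ χ = n ∧ Odd n := by
    intro χ hχ
    obtain ⟨θ, hθ, hθv⟩ := exists_contrib_genChar hM a haB.1.2 hcomm χ χ
    rw [hd] at hθv
    obtain ⟨n, hn⟩ := IsGenChar.exists_int_of_fixed hθ (⟨y, hya⟩ : a.1) fun k hk => by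
      rw [Subgroup.orderOf_mk, hy] at hk
      have hodd : k % 2 = 1 := Nat.odd_iff.1 hk.odd_of_right
      congr 1
      refine Subtype.ext ?_
      show y ^ k = y
      rw [← pow_mod_orderOf, hy, hodd, pow_one]
    rw [hθv] at hn
    refine ⟨n, hn, ?_⟩
    have hu := (contrib_major hM hyp hay haB hd χ χ).2 hχ hχ (hh χ hχ) (hh χ hχ)
    rw [hn] at hu
    by_contra hodd
    exact hu ((ideal_intCast_iff hM n).2 (even_iff_two_dvd.1 (Int.not_odd_iff_even.1 hodd)))
  choose n hn hodd using hint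
  have hC0 : (Nat.card (CG a.1) : ℂ) ≠ 0 := Nat.cast_ne_zero.2 Nat.card_pos.ne'
  have hsum : ∑ χ ∈ A, contrib 2 (blockDefect 2 B) a y χ χ = ((2 ^ blockDefect 2 B : ℕ) : ℂ) := by
    simp only [contrib, ← Finset.sum_div, ← Finset.mul_sum]
    rw [hA, sum_sct_sq hM hyp hay haB, hl, Nat.cast_one, mul_one, mul_div_assoc, div_self hC0,
      mul_one]
    push_cast
    rfl
  rw [← Finset.sum_attach, Finset.sum_congr rfl fun (χ : A) _ =>
    hn χ.1 (Finset.mem_filter.1 χ.2).2] at hsum
  have hsumZ : ∑ χ ∈ A.attach, n χ.1 (Finset.mem_filter.1 χ.2).2 =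
      ((2 ^ blockDefect 2 B : ℕ) : ℤ) := by exact_mod_cast hsum
  have h2 : ((∑ χ ∈ A.attach, n χ.1 (Finset.mem_filter.1 χ.2).2 : ℤ) : ZMod 2) = 0 := by
    rw [hsumZ]
    push_cast
    rw [show (2 : ZMod 2) = 0 from rfl, zero_pow hd0.ne']
  push_cast at h2
  rw [Finset.sum_congr rfl (g := fun _ => (1 : ZMod 2)) (fun χ _ => by
    obtain ⟨m, hm⟩ := hodd χ.1 (Finset.mem_filter.1 χ.2).2
    rw [hm]
    push_cast
    rw [show (2 : ZMod 2) = 0 from rfl]
    simp), Finset.sum_const, nsmul_eq_mul, mul_one, Finset.card_attach] at h2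
  have hcard : Nat.card B = A.card := by rw [Nat.card_eq_fintype_card, Fintype.card_subtype]
  rw [hcard, even_iff_two_dvd]
  exact (ZMod.natCast_eq_zero_iff _ _).1 h2

/-- The inertial index, the number of characters and the rank. -/
theorem klein_block (hM : IsPModular 2 M) (hB : IsPBlock M B)
    (hPD : IsDefectGroup 2 M B P) (hx : IsMx 2 M B (⟨P, e⟩ : BrauerPairIdx G))
    (hab : ∀ v ∈ P, ∀ w ∈ P, v * w = w * v) (hcard : Nat.card P = 4)
    (hexp : ∀ v ∈ P, v * v = 1) :
    ((CG P).relIndex (stab (⟨P, e⟩ : BrauerPairIdx G)) = 1 ∨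
      (CG P).relIndex (stab (⟨P, e⟩ : BrauerPairIdx G)) = 3) ∧ Nat.card B = 4 ∧
      blockRank 2 B = (CG P).relIndex (stab (⟨P, e⟩ : BrauerPairIdx G)) := by
  classical
  haveI := Fact.mk Nat.prime_two
  set T := stab (⟨P, e⟩ : BrauerPairIdx G) with hT
  obtain ⟨hfree, hdich⟩ := small_inertial hM hx hab (Or.inr (Or.inr ⟨rfl, hcard⟩))
  have hd : blockDefect 2 B = 2 := by
    have := card_defectGroup hM hB hPD
    rw [hcard] at this
    exact (Nat.pow_right_injective le_rfl (this.symm.trans (by norm_num : (4 : ℕ) = 2 ^ 2)))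
  obtain ⟨v, hv1⟩ := Subgroup.ne_bot_iff_exists_ne_one.1 (fun h : P = ⊥ => by simp [h] at hcard)
  have hv1' : (v : G) ≠ 1 := fun h => hv1 (Subtype.ext h)
  have hvo : orderOf (v : G) = 2 := orderOf_eq_prime (by rw [pow_two, hexp v v.2]) hv1'
  have hvP : Subgroup.zpowers (v : G) ≤ P := Subgroup.zpowers_le.2 v.2
  obtain ⟨a, ha1, hax⟩ := exists_le hM hx.1.1 (c := (⟨P, e⟩ : BrauerPairIdx G)) hvP
  have hP : P ≤ CG a.1 := le_cg_of_comm hab (le_subgroup hax)
  obtain ⟨r, hr, hst, hrx⟩ := step_below hM hx.1.1 hax (le_subgroup hax) le_rfl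
    (hP.trans (cg_le_normalizer a.1))
  obtain rfl : r = (⟨P, e⟩ : BrauerPairIdx G) := eq_of_le_of_subgroup hM hrx hr.ge
  have hnil : IsNilpotentBlock 2 M a.2 := by
    refine (nilpotent_local_iff hM hx hab hst).2 ?_
    rintro t ⟨ht, htc⟩
    refine hfree t ht v v.2 hv1' ?_
    have := Subgroup.mem_centralizer_iff.1 htc (v : G) (by rw [ha1]; exact Subgroup.mem_zpowers _)
    rw [← this]
    group
  letI := Fintype.ofFinite (CG a.1)
  have haB : OfB 2 M B a := (ofB_le hM hax).1 hx.1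
  obtain ⟨hl1, -⟩ := rank_of_nilpotent hM hnil
  have hC : CG P ≤ CG a.1 := Subgroup.centralizer_le (le_subgroup hax)
  obtain ⟨haD, -⟩ := isMx_down hM hx hab hst hP hC
  have had : blockDefect 2 a.2 = blockDefect 2 B := by
    have h1 := card_defectGroup hM haB.1.2 haD
    rw [Nat.card_congr (Subgroup.subgroupOfEquivOfLe hP).toEquiv, hcard] at h1
    rw [hd]
    exact (Nat.pow_right_injective le_rfl (h1.symm.trans (by norm_num : (4 : ℕ) = 2 ^ 2)))
  obtain ⟨hle, hzero, heq⟩ := blockRank_facts hM hB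
  have hlt : blockRank 2 B < Nat.card B :=
    lt_of_le_of_ne hle fun h => absurd (heq.2 h.symm) (by omega)
  have hk1 := Res.blockRank_pos (p := 2) hM hB
  have hk2 : Nat.card B ≠ 2 := fun h => by
    have h1 := Res.pow_defect_eq_card hM hB hPD (by omega) (by omega)
    rw [hd, h] at h1
    norm_num at h1
  have hh : ∀ χ ∈ B, blockHeight 2 B (χ : G → ℂ) = 0 := fun χ hχ => by
    by_contra h
    have := Contrib.two_card_le hM hB hχ h
    rw [hd, show 2 * 2 - 2 = 2 from rfl, show (2 : ℕ) ^ 2 = 4 by norm_num] at this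
    omega
  have hle4 : Nat.card B ^ 2 ≤ 16 := by
    have := card_sq_le hM (y := (v : G)) ⟨1, by rw [hvo, pow_one]⟩ ha1 haB had hh
    rw [hd, hl1, mul_one, show (2 : ℕ) ^ (2 * 2) = 16 by norm_num] at this
    exact this
  have h4 : Nat.card B = 4 := by
    have hev := even_card_of_section hM hvo ha1 haB had (by omega) hl1 hh
    have : Nat.card B ≤ 4 := by nlinarith
    obtain ⟨m, hm⟩ := hev
    omega
  rcases hdich with hleC | ⟨-, htr⟩
  · have h1 : (CG P).relIndex T = 1 := Subgroup.relIndex_eq_one.2 hleC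
    refine ⟨Or.inl h1, h4, ?_⟩
    rw [h1]
    exact (rank_of_nilpotent hM ((nilpotent_iff_inertial hM hx hab).2 hleC)).1
  · have hk := card_le_of_transitive hM hB hx hab hfree htr
    have h3 : (CG P).relIndex T = 3 := by
      letI : MulAction T G := MulAction.compHom G ((MulAut.conj (G := G)).comp T.subtype)
      have hsm : ∀ (t : T) (g : G), t • g = (t : G) * g * (t : G)⁻¹ := fun t g => rfl
      have hstab : MulAction.stabilizer T (v : G) = (CG P).subgroupOf T := by
        ext t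
        rw [MulAction.mem_stabilizer_iff, hsm, Subgroup.mem_subgroupOf]
        refine ⟨fun h => hfree t t.2 v v.2 hv1' h, fun h => ?_⟩
        rw [← Subgroup.mem_centralizer_iff.1 h v v.2, mul_inv_cancel_right]
      have horb : MulAction.orbit T (v : G) = (P : Set G) \ {1} := by
        ext w
        constructor
        · rintro ⟨t, rfl⟩
          refine ⟨?_, fun h => hv1' (by simpa [hsm] using h)⟩
          exact (Subgroup.mem_normalizer_iff.1 (stab_le_normalizer _ t.2) v).1 v.2
        · rintro ⟨hw, hw1⟩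
          obtain ⟨g, hg, hgw⟩ := htr v v.2 hv1' w hw hw1
          exact ⟨⟨g, hg⟩, hgw⟩
      rw [Subgroup.relIndex, ← hstab, MulAction.index_stabilizer, horb,
        Set.ncard_diff_singleton_of_mem (by simp), ← Nat.card_coe_set_eq]
      show Nat.card P - 1 = 3
      rw [hcard]
    exact ⟨Or.inr h3, h4, by omega⟩

end Cfsg.Agent.Char.Spec
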