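import Cfsg.Agent.Lib.Char.KleinIsoData
import Cfsg.Agent.Lib.Char.CycDefNorm
import Cfsg.Agent.Lib.Char.CycDefIso

/-!
Blocks with Klein four defect groups of the same inertial type are perfectly isometric.
-/

open scoped ComplexConjugate

namespace Cfsg.Agent.Char.Klein

open Cfsg Cfsg.Agent.Block Cfsg.Agent.Char.BP Cfsg.Agent.Char.Spec Cfsg.Agent.Char.Star
  Cfsg.Agent.Char.CycDef

set_option linter.unusedSectionVars false
set_option linter.style.haveILetI false
set_option maxHeartbeats 1600000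

universe u v

theorem sign_mul {a b : ℤ} (ha : a = 1 ∨ a = -1) (hb : b = 1 ∨ b = -1) : a * b = 1 ∨ a * b = -1 := by
  rcases ha with rfl | rfl <;> rcases hb with rfl | rfl <;> norm_num

theorem sign_sq {a : ℤ} (ha : a = 1 ∨ a = -1) : a * a = 1 := by
  rcases ha with rfl | rfl <;> norm_num

/-- The sign of a member. -/
noncomputable def rowSign {Y : Type*} (eq : Prop) (D : Y → Fin 3 → ℤ) (η : Y) : ℤ :=
  open Classical in if eq then D η 0 else D η 0 * D η 1 * D η 2

section Signs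

variable {Y : Type*} {A : Finset Y} {eq : Prop} {D D' : Y → Fin 3 → ℤ}

theorem rowSign_sign (hD : ∀ η ∈ A, ∀ i, D η i = 1 ∨ D η i = -1) {η : Y} (hη : η ∈ A) :
    rowSign eq D η = 1 ∨ rowSign eq D η = -1 := by
  unfold rowSign
  split
  · exact hD η hη 0
  · exact sign_mul (sign_mul (hD η hη 0) (hD η hη 1)) (hD η hη 2)

theorem rowSign_orth (hD : ∀ η ∈ A, ∀ i, D η i = 1 ∨ D η i = -1)
    (ho : ∀ i j, i ≠ j → ∑ η ∈ A, D η i * D η j = 0) (he : ¬ eq) (i : Fin 3) :
    ∑ η ∈ A, rowSign eq D η * D η i = 0 := by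
  fin_cases i
  · refine Eq.trans (Finset.sum_congr rfl fun η hη => ?_) (ho 1 2 (by decide))
    simp only [rowSign, if_neg he, Fin.zero_eta]
    linear_combination (D η 1 * D η 2) * sign_sq (hD η hη 0)
  · refine Eq.trans (Finset.sum_congr rfl fun η hη => ?_) (ho 0 2 (by decide))
    simp only [rowSign, if_neg he, Fin.mk_one]
    linear_combination (D η 0 * D η 2) * sign_sq (hD η hη 1)
  · refine Eq.trans (Finset.sum_congr rfl fun η hη => ?_) (ho 0 1 (by decide))
    simp only [rowSign, if_neg he, Fin.reduceFinMk]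
    linear_combination (D η 0 * D η 1) * sign_sq (hD η hη 2)

/-- A vector orthogonal to three orthogonal sign columns is a multiple of their product. -/
theorem eq_multiple (hA : A.card = 4) (hD : ∀ η ∈ A, ∀ i, D η i = 1 ∨ D η i = -1)
    (ho : ∀ i j, i ≠ j → ∑ η ∈ A, D η i * D η j = 0) (he : ¬ eq) {f : Y → ℂ}
    (hf : ∀ i, ∑ η ∈ A, (D η i : ℂ) * f η = 0) {η ξ : Y} (hη : η ∈ A) (hξ : ξ ∈ A) :
    f η * (rowSign eq D η : ℂ) = f ξ * (rowSign eq D ξ : ℂ) := by
  classical
  let col : A → Option (Fin 3) → ℤ := fun η o => o.elim (rowSign eq D η) (D η)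
  have hcard : Fintype.card A = Fintype.card (Option (Fin 3)) := by simp [hA]
  let ψ := Fintype.equivOfCardEq hcard
  let H : Matrix A A ℂ := fun η ζ => (col η (ψ ζ) : ℂ)
  let K : Matrix A A ℂ := fun ζ η => (4 : ℂ)⁻¹ * (col η (ψ ζ) : ℂ)
  have hgram : ∀ o o', ∑ η : A, col η o * col η o' = if o = o' then 4 else 0 := by
    have hs : ∀ f : Y → ℤ, ∑ η : A, f η = ∑ η ∈ A, f η := fun f => Finset.sum_coe_sort A f
    intro o o'
    rcases o with _ | i <;> rcases o' with _ | j <;> simp only [col, Option.elim]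
    · rw [if_true, hs fun η => rowSign eq D η * rowSign eq D η,
        Finset.sum_congr rfl fun η hη => sign_sq (rowSign_sign hD hη), Finset.sum_const, hA]
      rfl
    · rw [if_neg (by simp), hs fun η => rowSign eq D η * D η j]
      exact rowSign_orth hD ho he j
    · rw [if_neg (by simp), hs fun η => D η i * rowSign eq D η,
        Finset.sum_congr rfl fun η _ => mul_comm (D η i) (rowSign eq D η)]
      exact rowSign_orth hD ho he i
    · by_cases hij : i = j
      · subst hij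
        rw [if_pos rfl, hs fun η => D η i * D η i,
          Finset.sum_congr rfl fun η hη => sign_sq (hD η hη i), Finset.sum_const, hA]
        rfl
      · rw [if_neg (by simpa using hij), hs fun η => D η i * D η j]
        exact ho i j hij
  have hKH : K * H = 1 := by
    ext ζ ζ'
    rw [Matrix.mul_apply, Matrix.one_apply]
    simp only [K, H, mul_assoc, ← Finset.mul_sum, ← Int.cast_mul, ← Int.cast_sum, hgram]
    by_cases h : ζ = ζ'
    · rw [if_pos h, if_pos (congrArg ψ h)]; norm_num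
    · rw [if_neg h, if_neg fun h' => h (ψ.injective h')]; simp
  have hHK := mul_eq_one_comm.1 hKH
  have hval : ∀ η : A, f η = ((4 : ℂ)⁻¹ * ∑ ζ : A, (rowSign eq D ζ : ℂ) * f ζ) * (rowSign eq D η : ℂ) := by
    intro η
    have h1 : f η = ((H * K).mulVec fun ζ : A => f ζ) η := by rw [hHK, Matrix.one_mulVec]
    rw [← Matrix.mulVec_mulVec] at h1
    simp only [Matrix.mulVec, dotProduct, H, K] at h1
    rw [h1, Finset.sum_eq_single (ψ.symm none)]
    · simp only [Equiv.apply_symm_apply, col, Option.elim, Finset.mul_sum, Finset.sum_mul]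
      exact Finset.sum_congr rfl fun ζ _ => by ring
    · intro ζ _ hζ
      obtain ⟨i, hi⟩ := Option.ne_none_iff_exists'.1 fun h => hζ (ψ.eq_symm_apply.2 h)
      rw [Finset.sum_congr rfl (g := fun ρ : A => (4 : ℂ)⁻¹ * ((D ρ i : ℂ) * f ρ)) fun ρ _ => by
        simp only [hi, col, Option.elim]; ring, ← Finset.mul_sum,
        Finset.sum_coe_sort A (fun ρ => (D ρ i : ℂ) * f ρ), hf i, mul_zero, mul_zero]
    · exact fun h => absurd (Finset.mem_univ _) h
  have hsq : ∀ η ∈ A, (rowSign eq D η : ℂ) * (rowSign eq D η : ℂ) = 1 := fun η hη => by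
    exact_mod_cast sign_sq (rowSign_sign hD hη)
  rw [hval ⟨η, hη⟩, hval ⟨ξ, hξ⟩]
  linear_combination ((4 : ℂ)⁻¹ * ∑ ζ : A, (rowSign eq D ζ : ℂ) * f ζ) * (hsq η hη - hsq ξ hξ)

/-- The regular values of the second block through combinations vanishing on the first. -/
theorem exists_transfer (hA : A.card = 4) (hD : ∀ η ∈ A, ∀ i, D η i = 1 ∨ D η i = -1)
    (hD' : ∀ η ∈ A, ∀ i, D' η i = 1 ∨ D' η i = -1)
    (hs : eq → ∀ η ∈ A, ∀ i j, D η i = D η j) (hs' : eq → ∀ η ∈ A, ∀ i j, D' η i = D' η j)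
    (ho : ¬ eq → ∀ i j, i ≠ j → ∑ η ∈ A, D η i * D η j = 0)
    (ho' : ¬ eq → ∀ i j, i ≠ j → ∑ η ∈ A, D' η i * D' η j = 0) (σ : Y → ℤ)
    (hσ : ∀ η ∈ A, σ η = rowSign eq D η * rowSign eq D' η) :
    ∃ E : Y → Y → ℤ, (∀ i, ∀ ξ ∈ A, ∑ η ∈ A, σ η * E η ξ * D η i = 0) ∧
      ∀ f : Y → ℂ, (∀ i, ∑ η ∈ A, (D' η i : ℂ) * f η = 0) → ∀ η ∈ A,
        f η = ∑ ξ ∈ A, (E η ξ : ℂ) * f ξ := by
  classical
  obtain ⟨z, hz⟩ : A.Nonempty := Finset.card_pos.1 (by omega)
  by_cases he : eq
  · refine ⟨fun η ξ => (if η = ξ then 1 else 0) - if η = z then D' ξ 0 * D' z 0 else 0,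
      fun i ξ hξ => ?_, fun f hf η hη => ?_⟩
    · have h1 : ∀ η ∈ A, σ η * D η i = D' η 0 := fun η hη => by
        rw [hσ η hη, rowSign, rowSign, if_pos he, if_pos he, hs he η hη i 0]
        linear_combination D' η 0 * sign_sq (hD η hη 0)
      rw [Finset.sum_congr rfl (g := fun η =>
        D' η 0 * ((if η = ξ then 1 else 0) - if η = z then D' ξ 0 * D' z 0 else 0)) fun η hη => by
          linear_combination ((if η = ξ then (1 : ℤ) else 0) - if η = z then D' ξ 0 * D' z 0 else 0) * h1 η hη]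
      simp only [mul_sub, mul_ite, mul_one, mul_zero, Finset.sum_sub_distrib, Finset.sum_ite_eq',
        hξ, hz, if_true]
      linear_combination -(D' ξ 0) * sign_sq (hD' z hz 0)
    · push_cast
      simp only [sub_mul, ite_mul, one_mul, zero_mul, Finset.sum_sub_distrib, Finset.sum_ite_eq, hη,
        if_true]
      by_cases hηz : η = z
      · subst hηz
        simp only [if_true]
        rw [Finset.sum_congr rfl (g := fun ξ => (D' η 0 : ℂ) * ((D' ξ 0 : ℂ) * f ξ)) fun ξ _ => by ring,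
          ← Finset.mul_sum, hf 0, mul_zero, sub_zero]
      · simp [hηz]
  · refine ⟨fun η ξ => if ξ = z then rowSign eq D' η * rowSign eq D' z else 0, fun i ξ hξ => ?_,
      fun f hf η hη => ?_⟩
    · by_cases hξz : ξ = z
      · subst hξz
        simp only [if_true]
        rw [Finset.sum_congr rfl (g := fun η => rowSign eq D' ξ * (rowSign eq D η * D η i))
          fun η hη => by
            rw [hσ η hη]
            linear_combination (rowSign eq D η * rowSign eq D' ξ * D η i) *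
              sign_sq (rowSign_sign (eq := eq) hD' hη),
          ← Finset.mul_sum, rowSign_orth hD (ho he) he, mul_zero]
      · simp [hξz]
    · rw [Finset.sum_eq_single z (fun ξ _ h => by simp [h]) (fun h => absurd hz h)]
      simp only [if_true]
      have h := eq_multiple hA hD' (ho' he) he hf hη hz
      have h2 : (rowSign eq D' η : ℂ) * (rowSign eq D' η : ℂ) = 1 := by
        exact_mod_cast sign_sq (rowSign_sign hD' hη)
      push_cast
      linear_combination (rowSign eq D' η : ℂ) * h - f η * h2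

/-- The twisted products of two columns are divisible by four. -/
theorem four_dvd (hA : A.card = 4) (hD : ∀ η ∈ A, ∀ i, D η i = 1 ∨ D η i = -1)
    (hD' : ∀ η ∈ A, ∀ i, D' η i = 1 ∨ D' η i = -1)
    (hs : eq → ∀ η ∈ A, ∀ i j, D η i = D η j) (hs' : eq → ∀ η ∈ A, ∀ i j, D' η i = D' η j)
    (ho : ¬ eq → ∀ i j, i ≠ j → ∑ η ∈ A, D η i * D η j = 0)
    (ho' : ¬ eq → ∀ i j, i ≠ j → ∑ η ∈ A, D' η i * D' η j = 0) (σ : Y → ℤ)
    (hσ : ∀ η ∈ A, σ η = rowSign eq D η * rowSign eq D' η) (i j : Fin 3) :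
    (4 : ℤ) ∣ ∑ η ∈ A, σ η * D η i * D' η j := by
  by_cases he : eq
  · rw [Finset.sum_congr rfl (g := fun _ => (1 : ℤ)) fun η hη => ?_, Finset.sum_const, hA]
    · norm_num
    rw [hσ η hη, rowSign, rowSign, if_pos he, if_pos he, hs he η hη i 0, hs' he η hη j 0]
    linear_combination (D' η 0 * D' η 0) * sign_sq (hD η hη 0) + sign_sq (hD' η hη 0)
  · set a : Y → ℤ := fun η => rowSign eq D η * D η i with ha
    set b : Y → ℤ := fun η => rowSign eq D' η * D' η j with hb
    rw [Finset.sum_congr rfl (g := fun η => ((a η - 1) * (b η - 1)) + a η + b η - 1) fun η hη => by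
        rw [hσ η hη, ha, hb]; ring,
      Finset.sum_sub_distrib, Finset.sum_add_distrib, Finset.sum_add_distrib, ha, hb,
      rowSign_orth hD (ho he) he, rowSign_orth hD' (ho' he) he, Finset.sum_const, hA, add_zero,
      add_zero]
    refine dvd_sub (Finset.dvd_sum fun η hη => ?_) (by norm_num)
    rcases sign_mul (rowSign_sign (eq := eq) hD hη) (hD η hη i) with h1 | h1 <;>
      rcases sign_mul (rowSign_sign (eq := eq) hD' hη) (hD' η hη j) with h2 | h2 <;>
      simp only [h1, h2] <;> norm_num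

end Signs

variable {G : Type u} [Group G] [Fintype G] {G' : Type v} [Group G'] [Fintype G'] {M : Ideal AlgInt}

open scoped Classical in
/-- The kernel of a signed bijection with one regular argument. -/
theorem half [Fact (Nat.Prime 2)] (hM : IsPModular 2 M) {eq eq' : Prop}
    {B : Set (IrrCharacter G)} {B' : Set (IrrCharacter G')}
    {d : IrrCharacter G → Fin 3 → ℤ} {d' : IrrCharacter G' → Fin 3 → ℤ}
    (hk : KData M B eq d) (hk' : KData M B' eq' d')
    (I : IrrCharacter G' → IrrCharacter G) (J : IrrCharacter G → IrrCharacter G')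
    (hre : ∀ F : IrrCharacter G → IrrCharacter G' → ℂ,
      ∑ η ∈ Finset.univ.filter (· ∈ B'), F (I η) η = ∑ χ ∈ Finset.univ.filter (· ∈ B), F χ (J χ))
    (σ : IrrCharacter G' → ℤ) (E : IrrCharacter G' → IrrCharacter G' → ℤ)
    (hE0 : ∀ i, ∀ ξ ∈ Finset.univ.filter (· ∈ B'),
      ∑ η ∈ Finset.univ.filter (· ∈ B'), σ η * E η ξ * d (I η) i = 0)
    (hE : ∀ f : IrrCharacter G' → ℂ,
      (∀ i, ∑ η ∈ Finset.univ.filter (· ∈ B'), (d' η i : ℂ) * f η = 0) →
      ∀ η ∈ Finset.univ.filter (· ∈ B'),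
        f η = ∑ ξ ∈ Finset.univ.filter (· ∈ B'), (E η ξ : ℂ) * f ξ)
    (g : G) (h : G') (hh : ¬ 2 ∣ orderOf h) :
    (2 ∣ orderOf g →
      ∑ η ∈ Finset.univ.filter (· ∈ B'), (σ η : ℂ) * ((I η : G → ℂ) g * (η : G' → ℂ) h) = 0) ∧
    (¬ 2 ∣ orderOf g → MemLocalRing M
      ((∑ η ∈ Finset.univ.filter (· ∈ B'), (σ η : ℂ) * ((I η : G → ℂ) g * (η : G' → ℂ) h)) /
        (Nat.card (Subgroup.centralizer ({g} : Set G)) : ℂ))) := by
  classical
  set A := Finset.univ.filter (· ∈ B) with hA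
  set A' := Finset.univ.filter (· ∈ B') with hA'
  have hf := hE (fun η => (η : G' → ℂ) h) fun i => by convert hk'.regular i h hh
  let c : IrrCharacter G' → IrrCharacter G → ℂ := fun ξ χ => (σ (J χ) : ℂ) * (E (J χ) ξ : ℂ)
  have hvan : ∀ ξ ∈ A', ∀ y : G, 2 ∣ orderOf y → ∑ χ ∈ A, c ξ χ * (χ : G → ℂ) y = 0 := by
    intro ξ hξ y hy
    refine hk.vanish _ (fun i => ?_) y hy
    rw [← hre fun χ η => (σ η : ℂ) * (E η ξ : ℂ) * (d χ i : ℂ)]
    exact_mod_cast hE0 i ξ hξ
  have hform : ∑ η ∈ A', (σ η : ℂ) * ((I η : G → ℂ) g * (η : G' → ℂ) h) =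
      ∑ ξ ∈ A', (ξ : G' → ℂ) h * ∑ χ ∈ A, c ξ χ * (χ : G → ℂ) g := by
    rw [Finset.sum_congr rfl (g := fun η => ∑ ξ ∈ A',
      (ξ : G' → ℂ) h * ((σ η : ℂ) * (E η ξ : ℂ) * (I η : G → ℂ) g)) fun η hη => by
        rw [show (η : G' → ℂ) h = ∑ ξ ∈ A', (E η ξ : ℂ) * (ξ : G' → ℂ) h from hf η hη,
          Finset.mul_sum, Finset.mul_sum]
        exact Finset.sum_congr rfl fun ξ _ => by ring,
      Finset.sum_comm]
    refine Finset.sum_congr rfl fun ξ _ => ?_
    rw [← Finset.mul_sum]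
    exact congrArg _ (hre fun χ η => (σ η : ℂ) * (E η ξ : ℂ) * (χ : G → ℂ) g)
  refine ⟨fun hg => ?_, fun hg => ?_⟩
  · rw [hform]
    exact Finset.sum_eq_zero fun ξ hξ => by rw [hvan ξ hξ g hg, mul_zero]
  · rw [hform, Finset.sum_div]
    refine ring_sum hM fun ξ hξ => ?_
    rw [mul_div_assoc]
    exact ring_mul hM (irr_ring hM ξ h) (div_centralizer_ring hM A (c ξ)
      (fun χ _ => ring_mul hM (ring_intCast hM _) (ring_intCast hM _)) (fun y hy => hvan ξ hξ y hy) hg)

/-- Blocks with sign columns of the same type are perfectly isometric. -/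
theorem exists_isometry (hM : IsPModular 2 M) {eq : Prop}
    {B : Set (IrrCharacter G)} {B' : Set (IrrCharacter G')}
    (hB : IsPBlock M B) (hB' : IsPBlock M B')
    {d : IrrCharacter G → Fin 3 → ℤ} {d' : IrrCharacter G' → Fin 3 → ℤ}
    (hk : KData M B eq d) (hk' : KData M B' eq d') :
    ∃ (I : IrrCharacter G' → IrrCharacter G) (σ : IrrCharacter G' → ℤ),
      IsPerfectIsometry 2 M B' B I σ := by
  classical
  haveI := Fact.mk Nat.prime_two
  set A := Finset.univ.filter (· ∈ B) with hA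
  set A' := Finset.univ.filter (· ∈ B') with hA'
  let eI := Finset.equivOfCardEq (hk'.card.trans hk.card.symm)
  let I : IrrCharacter G' → IrrCharacter G := fun η =>
    if h : η ∈ A' then (eI ⟨η, h⟩ : IrrCharacter G) else trivialIrr G
  let J : IrrCharacter G → IrrCharacter G' := fun χ =>
    if h : χ ∈ A then (eI.symm ⟨χ, h⟩ : IrrCharacter G') else trivialIrr G'
  have hI : ∀ η ∈ A', I η ∈ A := fun η h => by simp only [I, dif_pos h]; exact (eI ⟨η, h⟩).2
  have hJ : ∀ χ ∈ A, J χ ∈ A' := fun χ h => by simp only [J, dif_pos h]; exact (eI.symm ⟨χ, h⟩).2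
  have hIJ : ∀ χ ∈ A, I (J χ) = χ := fun χ h => by
    have h' := hJ χ h
    simp only [J, dif_pos h] at h' ⊢
    simp only [I, dif_pos h']
    simp
  have hJI : ∀ η ∈ A', J (I η) = η := fun η h => by
    have h' := hI η h
    simp only [I, dif_pos h] at h' ⊢
    simp only [J, dif_pos h']
    simp
  have hre : ∀ F : IrrCharacter G → IrrCharacter G' → ℂ,
      ∑ η ∈ A', F (I η) η = ∑ χ ∈ A, F χ (J χ) := fun F =>
    Finset.sum_nbij' I J hI hJ hJI hIJ fun η hη => by rw [hJI η hη]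
  have hreZ : ∀ F : IrrCharacter G → IrrCharacter G' → ℤ,
      ∑ η ∈ A', F (I η) η = ∑ χ ∈ A, F χ (J χ) := fun F =>
    Finset.sum_nbij' I J hI hJ hJI hIJ fun η hη => by rw [hJI η hη]
  let D : IrrCharacter G' → Fin 3 → ℤ := fun η => d (I η)
  let E₂ : IrrCharacter G → Fin 3 → ℤ := fun χ => d' (J χ)
  let σ : IrrCharacter G' → ℤ := fun η => rowSign eq D η * rowSign eq d' η
  have hmemA : ∀ {χ}, χ ∈ A → χ ∈ B := fun h => (Finset.mem_filter.1 h).2
  have hmemA' : ∀ {η}, η ∈ A' → η ∈ B' := fun h => (Finset.mem_filter.1 h).2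
  have hDs : ∀ η ∈ A', ∀ i, D η i = 1 ∨ D η i = -1 := fun η h i => hk.sign _ (hmemA (hI η h)) i
  have hEs : ∀ χ ∈ A, ∀ i, E₂ χ i = 1 ∨ E₂ χ i = -1 := fun χ h i => hk'.sign _ (hmemA' (hJ χ h)) i
  have hd's : ∀ η ∈ A', ∀ i, d' η i = 1 ∨ d' η i = -1 := fun η h i => hk'.sign _ (hmemA' h) i
  have hds : ∀ χ ∈ A, ∀ i, d χ i = 1 ∨ d χ i = -1 := fun χ h i => hk.sign _ (hmemA h) i
  have hDo : ¬ eq → ∀ i j, i ≠ j → ∑ η ∈ A', D η i * D η j = 0 := fun he i j hij => by
    rw [hreZ fun χ _ => d χ i * d χ j]; exact hk.orth he i j hij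
  have hEo : ¬ eq → ∀ i j, i ≠ j → ∑ χ ∈ A, E₂ χ i * E₂ χ j = 0 := fun he i j hij => by
    rw [← hreZ fun _ η => d' η i * d' η j]; exact hk'.orth he i j hij
  have hDe : eq → ∀ η ∈ A', ∀ i j, D η i = D η j := fun he η h i j => hk.same he _ (hmemA (hI η h)) i j
  have hEe : eq → ∀ χ ∈ A, ∀ i j, E₂ χ i = E₂ χ j := fun he χ h i j =>
    hk'.same he _ (hmemA' (hJ χ h)) i j
  have hd'e : eq → ∀ η ∈ A', ∀ i j, d' η i = d' η j := fun he η h => hk'.same he _ (hmemA' h)
  have hde : eq → ∀ χ ∈ A, ∀ i j, d χ i = d χ j := fun he χ h => hk.same he _ (hmemA h)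
  obtain ⟨E, hE0, hE⟩ := exists_transfer (D := D) (D' := d') hk'.card hDs hd's hDe hd'e hDo
    (fun he => hk'.orth he) σ fun η _ => rfl
  obtain ⟨F, hF0, hF⟩ := exists_transfer (D := E₂) (D' := d) hk.card hEs hds hEe hde hEo
    (fun he => hk.orth he) (fun χ => σ (J χ)) fun χ hχ => by
      have h : I (J χ) = χ := hIJ χ hχ
      show rowSign eq D (J χ) * rowSign eq d' (J χ) = _
      rw [mul_comm]
      simp only [rowSign, D, E₂, h]
  have hker : ∀ (g : G) (h : G'), signedBijectionKernel B' I σ g h =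
      ∑ η ∈ A', (σ η : ℂ) * ((I η : G → ℂ) g * (η : G' → ℂ) h) := fun g h => by
    rw [signedBijectionKernel, finsum_mem_block B']
    exact Finset.sum_congr rfl fun η _ => mul_assoc _ _ _
  have hswap : ∀ (g : G) (h : G'),
      ∑ η ∈ A', (σ η : ℂ) * ((I η : G → ℂ) g * (η : G' → ℂ) h) =
      ∑ χ ∈ A, (σ (J χ) : ℂ) * ((J χ : G' → ℂ) h * (χ : G → ℂ) g) := fun g h => by
    rw [hre fun χ η => (σ η : ℂ) * ((χ : G → ℂ) g * (η : G' → ℂ) h)]
    exact Finset.sum_congr rfl fun χ _ => by rw [mul_comm ((J χ : G' → ℂ) h)]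
  have hleft := half hM hk hk' I J hre σ E hE0 hE
  have hright := half hM hk' hk J I (fun F' => (hre fun χ η => F' η χ).symm) (fun χ => σ (J χ)) F
    hF0 hF
  -- two singular arguments
  have hsing : ∀ (g : G) (h : G'), 2 ∣ orderOf g → 2 ∣ orderOf h →
      MemLocalRing M (signedBijectionKernel B' I σ g h /
        (Nat.card (Subgroup.centralizer ({g} : Set G)) : ℂ)) ∧
      MemLocalRing M (signedBijectionKernel B' I σ g h /
        (Nat.card (Subgroup.centralizer ({h} : Set G')) : ℂ)) := by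
    intro g h hg hh
    obtain ⟨u, w, rfl, hc, hu, hw⟩ := Star.exists_split (p := 2) g
    obtain ⟨u', w', rfl, hc', hu', hw'⟩ := Star.exists_split (p := 2) h
    have hu1 : u ≠ 1 := fun h1 => hw (by rwa [h1, one_mul] at hg)
    have hu1' : u' ≠ 1 := fun h1 => hw' (by rwa [h1, one_mul] at hh)
    have hwm : w ∈ regs 2 (Subgroup.zpowers u) := mem_regs.2
      ⟨by rw [cg_zpowers]; exact Subgroup.mem_centralizer_singleton_iff.2 hc.symm.eq, hw⟩
    have hwm' : w' ∈ regs 2 (Subgroup.zpowers u') := mem_regs.2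
      ⟨by rw [cg_zpowers]; exact Subgroup.mem_centralizer_singleton_iff.2 hc'.symm.eq, hw'⟩
    let K : BrauerPairIdx G → BrauerPairIdx G' → ℂ := fun a a' =>
      ∑ η ∈ A', (σ η : ℂ) * (sct (I η : G → ℂ) a u w * sct (η : G' → ℂ) a' u' w')
    have hsum : signedBijectionKernel B' I σ (u * w) (u' * w') =
        ∑ a ∈ prs 2 M u, ∑ a' ∈ prs 2 M u', K a a' := by
      rw [hker]
      simp only [K]
      rw [Finset.sum_congr rfl fun a _ => Finset.sum_comm, Finset.sum_comm]
      refine Finset.sum_congr rfl fun η _ => ?_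
      rw [Star.value_prs hM (I η : G → ℂ) hu w, Star.value_prs hM (η : G' → ℂ) hu' w',
        Finset.sum_mul, Finset.mul_sum]
      exact Finset.sum_congr rfl fun a _ => by rw [Finset.mul_sum, Finset.mul_sum]
    have hterm : ∀ a ∈ prs 2 M u, ∀ a' ∈ prs 2 M u',
        MemLocalRing M (K a a' / (Nat.card (Subgroup.centralizer ({u * w} : Set G)) : ℂ)) ∧
        MemLocalRing M (K a a' / (Nat.card (Subgroup.centralizer ({u' * w'} : Set G')) : ℂ)) := by
      intro a ha a' ha'
      by_cases hof : OfB 2 M B a ∧ OfB 2 M B' a'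
      swap
      · have h0 : K a a' = 0 := Finset.sum_eq_zero fun η hη => by
          rcases not_and_or.1 hof with h1 | h1
          · rw [Star.sct_zero_of_not hM hB (hmemA (hI η hη)) hu ha h1 hwm]
            ring
          · rw [Star.sct_zero_of_not hM hB' (hmemA' hη) hu' ha' h1 hwm']
            ring
        rw [h0, zero_div, zero_div]
        exact ⟨ring_zero hM, ring_zero hM⟩
      obtain ⟨i, z, z1, z2, hz⟩ := hk.sections u hu hu1 a (Star.mem_prs.1 ha).1 hof.1 w
        ((Star.mem_prs.1 ha).1 ▸ (mem_regs.1 hwm).1) hw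
      obtain ⟨j, z', z1', z2', hz'⟩ := hk'.sections u' hu' hu1' a' (Star.mem_prs.1 ha').1 hof.2 w'
        ((Star.mem_prs.1 ha').1 ▸ (mem_regs.1 hwm').1) hw'
      obtain ⟨T, hT⟩ := four_dvd (D := D) (D' := d') hk'.card hDs hd's hDe hd'e hDo
        (fun he => hk'.orth he) σ (fun η _ => rfl) i j
      have hK : K a a' = 4 * (T : ℂ) * (z * z') := by
        have h4 : (4 : ℂ) * (T : ℂ) = ∑ η ∈ A', (σ η : ℂ) * (D η i : ℂ) * (d' η j : ℂ) := by
          exact_mod_cast hT.symm
        rw [h4, Finset.sum_mul]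
        refine Finset.sum_congr rfl fun η hη => ?_
        rw [hz _ (hmemA (hI η hη)), hz' _ (hmemA' hη)]
        ring
      rw [hK]
      refine ⟨?_, ?_⟩
      · convert ring_mul hM (ring_mul hM (ring_intCast hM T) z1') z2 using 1
        ring
      · convert ring_mul hM (ring_mul hM (ring_intCast hM T) z1) z2' using 1
        ring
    rw [hsum]
    simp only [Finset.sum_div]
    exact ⟨ring_sum hM fun a ha => ring_sum hM fun a' ha' => (hterm a ha a' ha').1,
      ring_sum hM fun a ha => ring_sum hM fun a' ha' => (hterm a ha a' ha').2⟩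
  refine ⟨I, σ, ⟨fun η hη => ?_, fun η hη η' hη' h => ?_, fun χ hχ => ?_⟩, fun η hη => ?_,
    fun g h => ?_⟩
  · exact hmemA (hI η (Finset.mem_filter.2 ⟨Finset.mem_univ _, hη⟩))
  · have h1 := hJI η (Finset.mem_filter.2 ⟨Finset.mem_univ _, hη⟩)
    rwa [h, hJI η' (Finset.mem_filter.2 ⟨Finset.mem_univ _, hη'⟩), eq_comm] at h1
  · have hχA : χ ∈ A := Finset.mem_filter.2 ⟨Finset.mem_univ _, hχ⟩
    exact ⟨J χ, hmemA' (hJ χ hχA), hIJ χ hχA⟩
  · have hη' : η ∈ A' := Finset.mem_filter.2 ⟨Finset.mem_univ _, hη⟩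
    exact sign_mul (rowSign_sign hDs hη') (rowSign_sign hd's hη')
  · by_cases hg : 2 ∣ orderOf g <;> by_cases hh : 2 ∣ orderOf h
    · exact ⟨(hsing g h hg hh).1, (hsing g h hg hh).2,
        Or.inl ⟨fun h1 => absurd hg h1, fun h1 => absurd hh h1⟩⟩
    · have h0 : signedBijectionKernel B' I σ g h = 0 := by
        rw [hker]; exact (hleft g h hh).1 hg
      rw [h0, zero_div, zero_div]
      exact ⟨ring_zero hM, ring_zero hM, Or.inr rfl⟩
    · have h0 : signedBijectionKernel B' I σ g h = 0 := by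
        rw [hker, hswap]; exact (hright h g hg).1 hh
      rw [h0, zero_div, zero_div]
      exact ⟨ring_zero hM, ring_zero hM, Or.inr rfl⟩
    · refine ⟨?_, ?_, Or.inl ⟨fun _ => hh, fun _ => hg⟩⟩
      · rw [hker]; exact (hleft g h hh).2 hg
      · rw [hker, hswap]; exact (hright h g hg).2 hh

end Cfsg.Agent.Char.Klein
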