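import Cfsg.Agent.Lib.Char.CycDefDiv
import Cfsg.Agent.Lib.Char.KleinBlock

/-!
The sections of a block with Klein four defect group: one sign column for each involution of the
defect group.
-/

open scoped ComplexConjugate

namespace Cfsg.Agent.Char.Klein

open Cfsg Cfsg.Agent.Block Cfsg.Agent.Char.BP Cfsg.Agent.Char.Spec Cfsg.Agent.Char.Star
  Cfsg.Agent.Char.CycDef

set_option linter.unusedSectionVars false
set_option linter.style.haveILetI false
set_option maxHeartbeats 1600000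

universe u

variable {G : Type u} [Group G] [Fintype G] {M : Ideal AlgInt}
variable {B : Set (IrrCharacter G)} {x : BrauerPairIdx G}

open scoped Classical in
/-- Sign columns of a block: `eq` says whether they all coincide or are pairwise orthogonal. -/
structure KData (M : Ideal AlgInt) (B : Set (IrrCharacter G)) (eq : Prop)
    (d : IrrCharacter G → Fin 3 → ℤ) : Prop where
  card : (Finset.univ.filter (· ∈ B)).card = 4
  sign : ∀ χ ∈ B, ∀ i, d χ i = 1 ∨ d χ i = -1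
  same : eq → ∀ χ ∈ B, ∀ i j, d χ i = d χ j
  orth : ¬ eq → ∀ i j, i ≠ j → ∑ χ ∈ Finset.univ.filter (· ∈ B), d χ i * d χ j = 0
  regular : ∀ i, ∀ h : G, ¬ 2 ∣ orderOf h →
    ∑ χ ∈ Finset.univ.filter (· ∈ B), (d χ i : ℂ) * (χ : G → ℂ) h = 0
  vanish : ∀ c : IrrCharacter G → ℂ,
    (∀ i, ∑ χ ∈ Finset.univ.filter (· ∈ B), c χ * (d χ i : ℂ) = 0) → ∀ g : G, 2 ∣ orderOf g →
      ∑ χ ∈ Finset.univ.filter (· ∈ B), c χ * (χ : G → ℂ) g = 0
  sections : ∀ (u : G), (∃ k, orderOf u = 2 ^ k) → u ≠ 1 → ∀ a : BrauerPairIdx G,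
    a.1 = Subgroup.zpowers u → OfB 2 M B a → ∀ w ∈ CG a.1, ¬ 2 ∣ orderOf w →
      ∃ (i : Fin 3) (z : ℂ), MemLocalRing M z ∧
        MemLocalRing M (4 * z / (Nat.card (Subgroup.centralizer ({u * w} : Set G)) : ℂ)) ∧
        ∀ χ ∈ B, sct (χ : G → ℂ) a u w = (d χ i : ℂ) * z

theorem centralChar_sign {H : Type u} [Group H] [Fintype H] (η : IrrCharacter H) {z : H}
    (hz : z ∈ Subgroup.center H) (hzz : z * z = 1) :
    ∃ n : ℤ, (n = 1 ∨ n = -1) ∧ centralChar (η : H → ℂ) z = n := by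
  have h1 := centralChar_of_center (η := η) hz z
  have h2 := centralChar_of_center (η := η) hz 1
  rw [hzz] at h1
  rw [mul_one] at h2
  rw [h2, ← mul_assoc] at h1
  rcases mul_self_eq_one_iff.1 ((mul_left_eq_self₀.1 h1.symm).resolve_right (irr_one_ne_zero η))
    with h | h
  · exact ⟨1, Or.inl rfl, by simpa using h⟩
  · exact ⟨-1, Or.inr rfl, by simpa using h⟩

/-- The column of an involution of the defect group. -/
theorem column (hM : IsPModular 2 M) (hx : IsMx 2 M B x)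
    (hab : ∀ v ∈ x.1, ∀ w ∈ x.1, v * w = w * v) (hcard : Nat.card x.1 = 4)
    (hexp : ∀ v ∈ x.1, v * v = 1)
    (hfree : ∀ g ∈ stab x, ∀ v ∈ x.1, v ≠ 1 → g * v * g⁻¹ = v → g ∈ CG x.1)
    [Fact (Nat.Prime 2)] {v : G} (hv : v ∈ x.1) (hv1 : v ≠ 1) :
    ∃ (d : IrrCharacter G → ℤ) (b : G → ℂ) (n : ℕ), n ≠ 0 ∧ b 1 = n ∧
      wgt (av 2 M x v) = 4 * ((n : ℂ) * n) ∧
      (∀ χ : IrrCharacter G, ∀ w ∈ CG (Subgroup.zpowers v), ¬ 2 ∣ orderOf w →
        sct (χ : G → ℂ) (av 2 M x v) v w = (d χ : ℂ) * b w) ∧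
      ∀ w ∈ CG (Subgroup.zpowers v), ¬ 2 ∣ orderOf w → MemLocalRing M (b w) ∧
        MemLocalRing M (4 * b w / (Nat.card (Subgroup.centralizer ({v * w} : Set G)) : ℂ)) := by
  classical
  obtain ⟨ha1, hale, haB⟩ := av_spec hM hx hv
  set a := av 2 M x v with ha
  letI := Fintype.ofFinite (CG a.1)
  have h1 : x.1 ≤ CG a.1 := le_cg_of_comm hab (le_subgroup hale)
  have h2 : CG x.1 ≤ CG a.1 := Subgroup.centralizer_le (le_subgroup hale)
  have hx' : IsMx 2 M a.2 (dn (CG a.1) x h1 h2) := Wat.isMx_dn hM hx hab hale h1 h2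
  have hcv : ∀ t : G, t ∈ CG a.1 → t * v * t⁻¹ = v := fun t ht => by
    rw [← Subgroup.mem_centralizer_iff.1 ht v (ha1 ▸ Subgroup.mem_zpowers _), mul_inv_cancel_right]
  have hnil : IsNilpotentBlock 2 M a.2 := by
    refine (nilpotent_local_iff hM (P := x.1) (e := x.2) hx hab
      (Wat.step_of_le hM hx.1.1 hab hale)).2 ?_
    rintro t ⟨ht, htc⟩
    exact hfree t ht v hv hv1 (hcv t htc)
  set x' := dn (CG a.1) x h1 h2 with hx'def
  have hst : stab x' ≤ CG x'.1 := fun t ht => (mem_cg_subgroupOf h1 t).2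
    (hfree _ ((Wat.mem_stab_dn h1 h2 t).1 ht) v hv hv1 (hcv _ t.2))
  have hab' := Wat.comm_dn hab h1 h2
  obtain ⟨η₀, hη₀, hloc, -⟩ := exists_local hM hnil hx' hab' hst
  have hreg : ∀ η ∈ a.2, ∀ t : CG a.1, ¬ 2 ∣ orderOf t →
      (η : CG a.1 → ℂ) t = (η₀ : CG a.1 → ℂ) t := by
    intro η hη t ht
    obtain ⟨l, hl⟩ := hloc η hη
    obtain ⟨e1, e2, -⟩ := av_spec hM hx' (one_mem x'.1)
    have hh := hl 1 t (by rw [OneMemClass.coe_one, Wat.mem_cg_zpowers]; simp) ht
    rw [map_one, Units.val_one, one_mul, OneMemClass.coe_one] at hh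
    have hc : ∀ ξ ∈ a.2, sct (ξ : CG a.1 → ℂ) (av 2 M x' 1) 1 t = (ξ : CG a.1 → ℂ) t := fun ξ hξ => by
      have h := sct_center hM hnil.1 (P := x'.1) (e := x'.2) hx' (u := (1 : x'.1))
        (by simp) e1 e2 hξ ht
      rw [OneMemClass.coe_one, centralChar_one, one_mul] at h
      exact h
    rw [hc η hη, hc η₀ hη₀] at hh
    exact hh
  have hcard' : (Finset.univ.filter (· ∈ a.2)).card = 4 := by
    rw [← Fintype.card_subtype, ← Nat.card_eq_fintype_card,
      show Nat.card {ξ // ξ ∈ a.2} = Nat.card x'.1 from card_eq_of_nilpotent hM hnil hx' hab',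
      hx'def, dn_fst, Nat.card_congr (Subgroup.subgroupOfEquivOfLe h1).toEquiv, hcard]
  set z : CG a.1 := ⟨v, h1 hv⟩ with hz
  have hzc : z ∈ Subgroup.center (CG a.1) := Subgroup.mem_center_iff.2 fun t => Subtype.ext
    (Subgroup.mem_centralizer_iff.1 t.2 v (ha1 ▸ Subgroup.mem_zpowers _)).symm
  choose om hom1 hom using fun ξ : IrrCharacter (CG a.1) =>
    centralChar_sign ξ hzc (Subtype.ext (hexp v hv))
  choose m hm using fun χ : IrrCharacter G => exists_sct_mult (irr_isChar χ) a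
  refine ⟨fun χ => ∑ ξ ∈ Finset.univ.filter (· ∈ a.2), (m χ ξ : ℤ) * om ξ,
    up (CG a.1) (η₀ : CG a.1 → ℂ), charDegree (η₀ : CG a.1 → ℂ), (charDeg_pos η₀).ne', ?_, ?_,
    fun χ w hw hwr => ?_, fun w hw hwr => ?_⟩
  · rw [show (1 : G) = ((1 : CG a.1) : G) from rfl, up_coe, charDeg_spec']
  · rw [wgt, ← Finset.sum_subset (Finset.subset_univ (Finset.univ.filter (· ∈ CG a.1))) fun k _ hk => by
        rw [show be a k = 0 from bc_supp _ _ _ (by simpa using hk), zero_mul],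
      Finset.sum_subtype (p := fun k => k ∈ CG a.1) _ (fun k => by simp),
      Finset.sum_congr rfl (g := fun k => blockCoeff a.2 k * conj (blockCoeff a.2 k)) fun k _ => by
        rw [show be a k = blockCoeff a.2 k from bc_coe _ _ k],
      DefectOne.sum_blockCoeff_conj, ← mul_assoc,
      mul_inv_cancel₀ (Nat.cast_ne_zero.2 Nat.card_pos.ne'), one_mul,
      Finset.sum_congr rfl (g := fun _ => (η₀ : CG a.1 → ℂ) 1 * (η₀ : CG a.1 → ℂ) 1) fun ξ hξ => by
        rw [hreg ξ (Finset.mem_filter.1 hξ).2.1 1 (by simp)],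
      Finset.sum_const, nsmul_eq_mul, charDeg_spec']
    congr 1
    rw [show (Finset.univ.filter fun ξ : IrrCharacter (CG a.1) => ξ ∈ a.2 ∧ ξ ∈ a.2) =
      Finset.univ.filter (· ∈ a.2) from Finset.filter_congr fun ξ _ => and_self_iff, hcard']
    norm_num
  · obtain ⟨w, rfl⟩ : ∃ w' : CG a.1, (w' : G) = w := ⟨⟨w, by rw [ha1]; exact hw⟩, rfl⟩
    rw [up_coe]
    push_cast
    rw [Finset.sum_mul, show sct (χ : G → ℂ) a v (w : G) = sct (χ : G → ℂ) a (z : G) (w : G) from rfl,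
      hm χ z (show v ∈ a.1 from ha1 ▸ Subgroup.mem_zpowers v) w]
    refine Finset.sum_congr rfl fun ξ hξ => ?_
    rw [hom ξ, hreg ξ (Finset.mem_filter.1 hξ).2 w (by rwa [← Subgroup.orderOf_coe])]
  · obtain ⟨w, rfl⟩ : ∃ w' : CG a.1, (w' : G) = w := ⟨⟨w, by rw [ha1]; exact hw⟩, rfl⟩
    have hwr' : ¬ 2 ∣ orderOf w := by rwa [← Subgroup.orderOf_coe]
    rw [up_coe]
    refine ⟨irr_ring hM _ _, ?_⟩
    have hvan : ∀ t : CG a.1, 2 ∣ orderOf t →
        ∑ ξ ∈ Finset.univ.filter (· ∈ a.2), (1 : ℂ) * (ξ : CG a.1 → ℂ) t = 0 := by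
      intro t ht
      have h := DefectOne.blockCoeff_singular hM hnil.1 (k := t) ht
      rw [blockCoeff, finsum_mem_block a.2, mul_eq_zero] at h
      replace h := h.resolve_left (inv_ne_zero (Nat.cast_ne_zero.2 Nat.card_pos.ne'))
      rw [Finset.sum_congr rfl (g := fun ξ : IrrCharacter (CG a.1) =>
        (η₀ : CG a.1 → ℂ) 1 * conj ((ξ : CG a.1 → ℂ) t)) fun ξ hξ => by
          rw [hreg ξ (Finset.mem_filter.1 hξ).2 1 (by simp)],
        ← Finset.mul_sum, ← map_sum] at h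
      have h' := congrArg (starRingEnd ℂ) ((mul_eq_zero.1 h).resolve_left (irr_one_ne_zero η₀))
      simpa using h'
    have hdiv := div_centralizer_ring (G := CG a.1) hM (Finset.univ.filter (· ∈ a.2))
      (fun _ => 1) (fun _ _ => ring_one hM) hvan hwr'
    rw [Finset.sum_congr rfl (g := fun _ => (η₀ : CG a.1 → ℂ) w) fun ξ hξ => by
        rw [one_mul, hreg ξ (Finset.mem_filter.1 hξ).2 w hwr'], Finset.sum_const, nsmul_eq_mul,
      hcard'] at hdiv
    have hgen : ∀ (Q : Subgroup G), Q = Subgroup.zpowers v → ∀ t : CG Q, ¬ 2 ∣ orderOf t →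
        Nat.card (Subgroup.centralizer ({v * (t : G)} : Set G)) =
          Nat.card (Subgroup.centralizer ({t} : Set (CG Q))) := by
      rintro Q rfl t ht
      exact card_centralizer_mul (order_pow hx.1.1.1 ⟨v, hv⟩) t ht
    rw [hgen a.1 ha1 w hwr']
    exact_mod_cast hdiv

/-- The sign columns of a block with Klein four defect group. -/
theorem exists_data (hM : IsPModular 2 M) (hB : IsPBlock M B) (hx : IsMx 2 M B x)
    (hPD : IsDefectGroup 2 M B x.1)
    (hab : ∀ v ∈ x.1, ∀ w ∈ x.1, v * w = w * v) (hcard : Nat.card x.1 = 4)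
    (hexp : ∀ v ∈ x.1, v * v = 1) :
    ∃ d : IrrCharacter G → Fin 3 → ℤ, KData M B (¬ stab x ≤ CG x.1) d := by
  classical
  haveI := Fact.mk Nat.prime_two
  obtain ⟨hfree, hdich⟩ := small_inertial hM (P := x.1) (e := x.2) hx hab (Or.inr (Or.inr ⟨rfl, hcard⟩))
  obtain ⟨-, hk, -⟩ := klein_block hM hB hPD (e := x.2) hx hab hcard hexp
  set A := Finset.univ.filter (· ∈ B) with hA
  have hcA : A.card = 4 := by rw [← hk, Nat.card_eq_fintype_card, Fintype.card_subtype]
  have hd : blockDefect 2 B = 2 := by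
    have := card_defectGroup hM hB hPD
    rw [hcard] at this
    exact Nat.pow_right_injective le_rfl (this.symm.trans (by norm_num : (4 : ℕ) = 2 ^ 2))
  have hh : ∀ χ ∈ B, blockHeight 2 B (χ : G → ℂ) = 0 := fun χ hχ => by
    by_contra h
    have := Contrib.two_card_le hM hB hχ h
    rw [hd, hk] at this
    norm_num at this
  set S : Finset G := (Finset.univ.filter (· ∈ x.1)).erase 1 with hS
  have hScard : S.card = 3 := by
    rw [hS, Finset.card_erase_of_mem (Finset.mem_filter.2 ⟨Finset.mem_univ _, one_mem _⟩),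
      ← Fintype.card_subtype, ← Nat.card_eq_fintype_card, show Nat.card {g // g ∈ x.1} = 4 from hcard]
  let eS := Finset.equivFinOfCardEq hScard
  let vs : Fin 3 → G := fun i => (eS.symm i : G)
  have hvs : ∀ i, vs i ∈ x.1 ∧ vs i ≠ 1 := fun i => by
    obtain ⟨h1, h2⟩ := Finset.mem_erase.1 (eS.symm i).2
    exact ⟨(Finset.mem_filter.1 h2).2, h1⟩
  have hsurj : ∀ v ∈ x.1, v ≠ 1 → ∃ i, vs i = v := fun v hv hv1 =>
    ⟨eS ⟨v, Finset.mem_erase.2 ⟨hv1, Finset.mem_filter.2 ⟨Finset.mem_univ _, hv⟩⟩⟩, by simp [vs]⟩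
  choose d b n hn hb1 hwgt hsct hring using fun i =>
    column hM hx hab hcard hexp hfree (hvs i).1 (hvs i).2
  have hreg1 : ¬ 2 ∣ orderOf (1 : G) := by simp
  have hgram : ∀ i j, (∑ χ ∈ A, ((d i χ : ℂ) * (d j χ : ℂ))) * ((n i : ℂ) * n j) =
      if ∃ t ∈ stab x, t * vs i * t⁻¹ = vs j then 4 * ((n i : ℂ) * n i) else 0 := by
    intro i j
    have h := sum_sct_mul (B := B) hM hx hab (hvs i).1 (hvs j).1
    rw [hwgt i, Finset.sum_congr rfl (g := fun χ : IrrCharacter G =>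
      ((d i χ : ℂ) * (d j χ : ℂ)) * ((n i : ℂ) * n j)) fun χ _ => by
        rw [hsct i χ 1 (one_mem _) hreg1, hsct j χ 1 (one_mem _) hreg1, hb1, hb1, map_mul,
          map_intCast, map_natCast]
        ring, ← Finset.sum_mul] at h
    exact h
  have hsq : ∀ i, ∑ χ ∈ A, d i χ * d i χ = 4 := fun i => by
    have h := hgram i i
    rw [if_pos ⟨1, one_mem _, by simp⟩] at h
    have h' := mul_right_cancel₀ (mul_ne_zero (Nat.cast_ne_zero.2 (hn i)) (Nat.cast_ne_zero.2 (hn i))) h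
    exact_mod_cast h'
  have hsign : ∀ χ ∈ B, ∀ i, d i χ = 1 ∨ d i χ = -1 := by
    intro χ hχ i
    have hne : ∀ ψ ∈ A, 1 ≤ d i ψ * d i ψ := by
      intro ψ hψ
      have hψB := (Finset.mem_filter.1 hψ).2
      have hne : d i ψ ≠ 0 := by
        intro h0
        obtain ⟨e1, -, e3⟩ := av_spec hM hx (hvs i).1
        obtain ⟨w, hw, hwr, hne⟩ := exists_sct_ne_zero (x := vs i) hM hψB (hh ψ hψB) e1 e3
        exact hne (by rw [hsct i ψ w (e1 ▸ hw) hwr, h0, Int.cast_zero, zero_mul])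
      have := mul_self_pos.2 hne
      omega
    have h1 : ∑ ψ ∈ A, d i ψ * d i ψ = ∑ ψ ∈ A, (1 : ℤ) := by
      rw [hsq, Finset.sum_const, hcA]
      rfl
    have h2 := ((Finset.sum_eq_sum_iff_of_le hne).1 h1.symm) χ
      (Finset.mem_filter.2 ⟨Finset.mem_univ _, hχ⟩)
    exact mul_self_eq_one_iff.1 h2.symm
  refine ⟨fun χ i => d i χ, hcA, hsign, fun he χ hχ i j => ?_, fun he i j hij => ?_,
    fun i y hh' => ?_, fun c hc g hg => ?_, fun u hu hu1 a ha haB w hw hwr => ?_⟩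
  · obtain ⟨-, htr⟩ := hdich.resolve_left he
    obtain ⟨t, ht, htv⟩ := htr _ (hvs i).1 (hvs i).2 _ (hvs j).1 (hvs j).2
    have h1 := hgram i j
    have h2 := hgram j i
    rw [if_pos ⟨t, ht, htv⟩] at h1
    rw [if_pos ⟨t⁻¹, inv_mem ht, by rw [← htv]; group⟩] at h2
    rw [Finset.sum_congr rfl fun χ _ => mul_comm (d j χ : ℂ) (d i χ : ℂ), mul_comm (n j : ℂ) (n i : ℂ),
      h1] at h2
    have hnn : n i = n j := by
      have h3 : n i * n i = n j * n j := by
        exact_mod_cast mul_left_cancel₀ (by norm_num : (4 : ℂ) ≠ 0) h2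
      exact Nat.mul_self_inj.1 h3
    rw [← hnn] at h1
    have h4 : ∑ χ ∈ A, d i χ * d j χ = 4 := by
      exact_mod_cast mul_right_cancel₀
        (mul_ne_zero (Nat.cast_ne_zero.2 (hn i)) (Nat.cast_ne_zero.2 (hn i))) h1
    have h5 : ∑ χ ∈ A, (d i χ - d j χ) * (d i χ - d j χ) = 0 := by
      rw [Finset.sum_congr rfl (g := fun χ => d i χ * d i χ - 2 * (d i χ * d j χ) + d j χ * d j χ)
        fun χ _ => by ring, Finset.sum_add_distrib, Finset.sum_sub_distrib, ← Finset.mul_sum,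
        hsq, hsq, h4]
      norm_num
    exact sub_eq_zero.1 (mul_self_eq_zero.1
      ((Finset.sum_eq_zero_iff_of_nonneg fun χ _ => mul_self_nonneg _).1 h5 χ
        (Finset.mem_filter.2 ⟨Finset.mem_univ _, hχ⟩)))
  · have h := hgram i j
    rw [if_neg] at h
    · exact_mod_cast (mul_eq_zero.1 h).resolve_right
        (mul_ne_zero (Nat.cast_ne_zero.2 (hn i)) (Nat.cast_ne_zero.2 (hn j)))
    rintro ⟨t, ht, htv⟩
    refine hij (eS.symm.injective (Subtype.ext ?_))
    show vs i = vs j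
    rw [← htv, ← Subgroup.mem_centralizer_iff.1 (not_not.1 he ht) _ (hvs i).1, mul_inv_cancel_right]
  · have h := sum_sct_regular (B := B) hM (av_spec hM hx (hvs i).1).1
      (order_pow hx.1.1.1 ⟨_, (hvs i).1⟩) (hvs i).2 (av_spec hM hx (hvs i).1).2.2 hh'
    rw [Finset.sum_congr rfl (g := fun χ : IrrCharacter G => (n i : ℂ) * ((d i χ : ℂ) * (χ : G → ℂ) y))
      fun χ _ => by rw [hsct i χ 1 (one_mem _) hreg1, hb1]; ring, ← Finset.mul_sum] at h
    exact (mul_eq_zero.1 h).resolve_left (Nat.cast_ne_zero.2 (hn i))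
  · refine vanish_of_sections hM hB hx A c (fun χ hχ => (Finset.mem_filter.1 hχ).2)
      (fun v hv hv1 w hw hwr => ?_) hg
    obtain ⟨i, rfl⟩ := hsurj v hv hv1
    rw [Finset.sum_congr rfl (g := fun χ : IrrCharacter G => c χ * (d i χ : ℂ) * b i w) fun χ _ => by
      rw [hsct i χ w hw hwr]; ring, ← Finset.sum_mul, hc i, zero_mul]
  · obtain ⟨l, hl⟩ := le_conj_max hM haB (x := x) hx
    have h1 : (cjI l a).1 = Subgroup.zpowers (l * u * l⁻¹) := by
      show a.1.map (MulAut.conj l).toMonoidHom = _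
      rw [ha, MonoidHom.map_zpowers]
      rfl
    have hm : l * u * l⁻¹ ∈ x.1 := le_subgroup hl (h1 ▸ Subgroup.mem_zpowers _)
    obtain ⟨i, hi⟩ := hsurj _ hm fun h3 => hu1 (by simpa using h3)
    have h2 : cjI l a = av 2 M x (l * u * l⁻¹) := by
      have := Wat.bl_eq hM hx.1.1 hl
      rw [h1] at this
      exact this.symm
    have hwC : l * w * l⁻¹ ∈ CG (Subgroup.zpowers (vs i)) := by
      rw [hi, ← h1]
      exact (cg_map_conj l a.1 w).1 hw
    have hwr' : ¬ 2 ∣ orderOf (l * w * l⁻¹) := by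
      rwa [show l * w * l⁻¹ = MulAut.conj l w from rfl, MulEquiv.orderOf_eq]
    obtain ⟨r1, r2⟩ := hring i _ hwC hwr'
    refine ⟨i, _, r1, ?_, fun χ _ => ?_⟩
    · have hc : Nat.card (Subgroup.centralizer ({vs i * (l * w * l⁻¹)} : Set G)) =
          Nat.card (Subgroup.centralizer ({u * w} : Set G)) := by
        rw [hi, conj_mul]
        exact (Nat.card_congr (conjIso l (W := Subgroup.centralizer ({u * w} : Set G))
          (W' := Subgroup.centralizer ({l * (u * w) * l⁻¹} : Set G)) fun g => by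
            rw [Subgroup.mem_centralizer_singleton_iff, Subgroup.mem_centralizer_singleton_iff,
              conj_mul, conj_mul, mul_left_inj, mul_right_inj]).toEquiv).symm
      rwa [hc] at r2
    · rw [← sct_conj (irr_classFun χ) a l u w, h2, ← hi, hsct i χ _ hwC hwr']

end Cfsg.Agent.Char.Klein
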