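import Cfsg.Agent.Lib.Char.KnorrGraded
import Cfsg.Agent.Lib.Char.PairLE
import Cfsg.Agent.Lib.Char.ResidueAlgebra
import Cfsg.Agent.Lib.Block.CoveringBasic
import Cfsg.Agent.Lib.Block.Induced
import Cfsg.Agent.Lib.Block.GreenIntersection

/-!
Knörr's theorem: a defect group of a covering block meets the normal subgroup in a defect group of
the covered block.
-/

namespace Cfsg.Agent.Char.Knorr

open Cfsg Cfsg.Agent.Block Cfsg.Agent.Char.BP
open MonoidAlgebra (single)

set_option linter.unusedSectionVars false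
set_option linter.style.haveILetI false

universe u

variable {G : Type u} [Group G] [Fintype G] {p : ℕ} {M : Ideal AlgInt}

/-- The field structure of the residue field. -/
@[reducible] noncomputable def fieldInst (hM : IsPModular p M) : Field (ResField hM) := resInst hM

attribute [local instance] fieldInst

theorem charP' (hM : IsPModular p M) : CharP (ResField hM) p := resField_charP hM

theorem redAlg_conv (hM : IsPModular p M) {a b : G → ℂ} (ha : ∀ g, MemLocalRing M (a g))
    (hb : ∀ g, MemLocalRing M (b g)) :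
    redAlg hM (convFun a b) = redAlg hM a * redAlg hM b := by
  ext g
  rw [coeff_mul, redAlg_coeff, convFun, red_sum hM fun h _ => ring_mul hM (ha h) (hb _)]
  exact Finset.sum_congr rfl fun h _ => by rw [red_mul hM (ha h) (hb _), redAlg_coeff, redAlg_coeff]

theorem commute_of_classFun (hM : IsPModular p M) {a : G → ℂ} (ha : IsClassFunction G a)
    (x : MonoidAlgebra (ResField hM) G) : redAlg hM a * x = x * redAlg hM a := by
  induction x using MonoidAlgebra.induction_on with
  | of g => exact redAlg_central hM ha g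
  | add u v hu hv => rw [mul_add, add_mul, hu, hv]
  | smul r u hu => rw [mul_smul_comm, smul_mul_assoc, hu]

variable (N : Subgroup G) [hN : N.Normal]

/-- The reduced idempotent of a block of the normal subgroup. -/
noncomputable def sn (hM : IsPModular p M) (c : Set (IrrCharacter N)) :
    MonoidAlgebra (ResField hM) G :=
  redAlg hM (bc N c)

/-- The reduced idempotent of a block. -/
noncomputable def eb (hM : IsPModular p M) (B : Set (IrrCharacter G)) :
    MonoidAlgebra (ResField hM) G :=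
  redAlg hM (blockCoeff B)

/-- The embedding of the group algebra of the subgroup. -/
noncomputable def phi (hM : IsPModular p M) :
    MonoidAlgebra (ResField hM) N →+* MonoidAlgebra (ResField hM) G :=
  MonoidAlgebra.mapDomainRingHom (ResField hM) N.subtype

theorem phi_coeff (hM : IsPModular p M) (z : MonoidAlgebra (ResField hM) N) (g : G)
    [Decidable (g ∈ N)] [Fintype N] :
    (phi N hM z).coeff g = if h : g ∈ N then z.coeff ⟨g, h⟩ else 0 := by
  classical
  conv_lhs => rw [dec z, map_sum]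
  simp only [phi, MonoidAlgebra.mapDomainRingHom_apply, MonoidAlgebra.mapDomain_single,
    MonoidAlgebra.coeff_sum, Finsupp.coe_finsetSum, Finset.sum_apply, MonoidAlgebra.coeff_single,
    Finsupp.single_apply, Subgroup.coe_subtype]
  split_ifs with h
  · rw [Finset.sum_eq_single (⟨g, h⟩ : N) (fun a _ ha => if_neg fun e => ha (Subtype.ext e))
      (fun h' => absurd (Finset.mem_univ _) h'), if_pos rfl]
  · exact Finset.sum_eq_zero fun a _ => if_neg fun (e : (a : G) = g) => h (by rw [← e]; exact a.2)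

theorem phi_redAlg (hM : IsPModular p M) [Fintype N] (a : N → ℂ) {b : G → ℂ}
    (h1 : ∀ n : N, b n = a n) (h2 : ∀ g, g ∉ N → b g = 0) :
    phi N hM (redAlg hM a) = redAlg hM b := by
  classical
  ext g
  rw [phi_coeff, redAlg_coeff]
  split_ifs with h
  · rw [redAlg_coeff, h1 ⟨g, h⟩]
  · rw [h2 g h, red_zero hM]

theorem sn_eq_phi (hM : IsPModular p M) [Fintype N] (c : Set (IrrCharacter N)) :
    phi N hM (redAlg hM (coeffFun (blockInd c))) = sn N hM c :=
  phi_redAlg N hM _ (fun n => (bc_coe N c n).trans (blockCoeff_eq c n)) (bc_supp N c)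

theorem sn_mul_self (hM : IsPModular p M) {c : Set (IrrCharacter N)} (hc : IsPBlock M c) :
    sn N hM c * sn N hM c = sn N hM c := by
  rw [sn, ← redAlg_conv hM (bc_ring hM hc) (bc_ring hM hc), (bc_idem hM hc).2]

theorem sn_mul_ne (hM : IsPModular p M) {c c' : Set (IrrCharacter N)} (hc : IsPBlock M c)
    (hc' : IsPBlock M c') (hne : c ≠ c') : sn N hM c * sn N hM c' = 0 := by
  rw [sn, sn, ← redAlg_conv hM (bc_ring hM hc) (bc_ring hM hc'), bc_mul_ne hM hc hc' hne]
  ext g
  simp [redAlg_coeff, red_zero hM]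

theorem deg_sn (hM : IsPModular p M) (c : Set (IrrCharacter N)) : Deg N (sn N hM c) 1 :=
  fun g hg => by
    rw [sn, redAlg_coeff, bc_supp N c g fun h => hg ((QuotientGroup.eq_one_iff g).2 h), red_zero hM]

theorem cn_sn (hM : IsPModular p M) (c : Set (IrrCharacter N)) : CN N (sn N hM c) :=
  cn_iff.2 fun n hn g => by rw [sn, redAlg_coeff, redAlg_coeff, bc_inv_self N c n hn g]

theorem sn_ne_zero (hM : IsPModular p M) {c : Set (IrrCharacter N)} (hc : IsPBlock M c) :
    sn N hM c ≠ 0 := by
  classical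
  haveI : Fintype N := Fintype.ofFinite _
  intro h
  refine redAlg_blockCoeff_ne_zero hM hc ?_
  ext n
  have h1 := congrArg (fun z : MonoidAlgebra (ResField hM) G => z.coeff (n : G)) h
  simp only [sn, redAlg_coeff, bc_coe, MonoidAlgebra.coeff_zero, Finsupp.zero_apply] at h1
  simpa [redAlg_coeff] using h1

theorem sn_inj (hM : IsPModular p M) {c c' : Set (IrrCharacter N)} (hc : IsPBlock M c)
    (hc' : IsPBlock M c') (h : sn N hM c = sn N hM c') : c = c' := by
  by_contra hne
  have h1 := sn_mul_ne N hM hc hc' hne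
  rw [← h, sn_mul_self N hM hc] at h1
  exact sn_ne_zero N hM hc h1

theorem sum_sn (hM : IsPModular p M) : ∑ c ∈ blks M N, sn N hM c = 1 := by
  classical
  ext g
  simp only [MonoidAlgebra.coeff_sum, Finsupp.coe_finsetSum, Finset.sum_apply, sn, redAlg_coeff,
    MonoidAlgebra.one_def, MonoidAlgebra.coeff_single, Finsupp.single_apply]
  rw [← red_sum hM fun c hc => bc_ring hM (mem_blks.1 hc) g]
  by_cases hg : g ∈ N
  · rw [sum_blks hM N hg, dlt]
    by_cases h1 : g = 1
    · rw [if_pos h1, if_pos h1.symm, red_one hM]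
    · rw [if_neg h1, if_neg (Ne.symm h1), red_zero hM]
  · rw [Finset.sum_eq_zero fun c _ => bc_supp N c g hg, red_zero hM,
      if_neg fun h : (1 : G) = g => hg (h ▸ one_mem N)]

theorem eb_comm (hM : IsPModular p M) (B : Set (IrrCharacter G))
    (x : MonoidAlgebra (ResField hM) G) : eb hM B * x = x * eb hM B :=
  commute_of_classFun hM (blockCoeff_classFun B) x

theorem cn_eb (hM : IsPModular p M) (B : Set (IrrCharacter G)) (W : Subgroup G) :
    CN W (eb hM B) := fun _ _ => (eb_comm hM B _).symm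

/-! ### Brauer maps and covering -/

/-- A covered block pushes every subgroup not killing it into a defect group. -/
theorem not_brZero_of_cover [Fact p.Prime] (hM : IsPModular p M) [Fintype N]
    {c : Set (IrrCharacter N)} (hc : IsPBlock M c) {B : Set (IrrCharacter G)} (hB : IsPBlock M B)
    {Q : Subgroup G} (hQN : Q ≤ N) (hQ : IsPGroup p Q)
    (he : ¬ BrZero M (Q.subgroupOf N) (blockInd c)) (hne : eb hM B * sn N hM c ≠ 0) :
    ¬ BrZero M Q (blockInd B) := by
  classical
  haveI := charP' hM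
  intro hB0
  apply hne
  set s := sn N hM c with hs
  obtain ⟨n, hn⟩ := exists_nil_bound (k := ResField hM) N
  have hscomm : ∀ x : MonoidAlgebra (ResField hM) G, CN N x → s * x = x * s := by
    intro x hx
    rw [hs, sn, redAlg, Finset.sum_mul, Finset.mul_sum]
    refine Finset.sum_congr rfl fun g _ => ?_
    by_cases hg : g ∈ N
    · rw [show single g (red hM (bc N c g)) = red hM (bc N c g) • single g (1 : ResField hM) by
        simp, smul_mul_assoc, mul_smul_comm, hx g hg]
    · rw [bc_supp N c g hg, red_zero hM, MonoidAlgebra.single_zero, zero_mul, mul_zero]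
  -- the identity component is nilpotent
  have hid : ∀ x : MonoidAlgebra (ResField hM) G, CN N x → Br0 Q x → s * x = x → Deg N x 1 →
      ∃ z, ((∀ b, b * z = z * b) ∧ IsNilpotent z) ∧ phi N hM z = x := by
    intro x hx hx0 hsx hxd
    choose lift hlr hl using Cfsg.Agent.Char.Res.red_surjective hM
    set a : N → ℂ := fun m => lift (x.coeff (m : G))
    have ha : IsClassFunction N a := fun m w => by
      show lift (x.coeff ((w * m * w⁻¹ : N) : G)) = lift (x.coeff (m : G))
      rw [Subgroup.coe_mul, Subgroup.coe_mul, Subgroup.coe_inv, cn_iff.1 hx w w.2]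
    have hFn : CenInt M (fun ξ : IrrCharacter N => omegaFun ξ a) := fun m => by
      rw [coeffFun_omegaFun ha]; exact hlr _
    set F := blockInd c * (fun ξ : IrrCharacter N => omegaFun ξ a) with hF
    have hFI : CenInt M F := (cenInt_blockInd hM hc).mul hM hFn
    have hphi : phi N hM (redAlg hM (coeffFun F)) = x := by
      rw [hF, redAlg_mul hM (cenInt_blockInd hM hc) hFn, map_mul, sn_eq_phi, coeffFun_omegaFun ha]
      suffices phi N hM (redAlg hM a) = x by rw [this]; exact hsx
      ext g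
      rw [phi_coeff]
      split_ifs with h
      · rw [redAlg_coeff]; exact hl _
      · exact (hxd g fun e => h ((QuotientGroup.eq_one_iff g).1 e)).symm
    have hcoeff : ∀ m : N, red hM (coeffFun F m) = x.coeff (m : G) := fun m => by
      rw [← hphi, phi_coeff, dif_pos m.2, redAlg_coeff]
    have hF0 : BrZero M (Q.subgroupOf N) F := fun m hm => by
      rw [← red_eq_zero hM (hFI m), hcoeff]
      exact hx0 _ (Subgroup.mem_centralizer_iff.2 fun u hu =>
        congrArg Subtype.val (Subgroup.mem_centralizer_iff.1 hm (⟨u, hQN hu⟩ : N) hu))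
    have hval : ∀ ξ, MemLocalIdeal M (F ξ) := by
      intro ξ
      by_cases hξ : ξ ∈ c
      · exact brZero_omega_ideal hM hc (hQ.comap_of_injective _ N.subtype_injective) he hFI hF0 hξ
      · rw [hF, Pi.mul_apply, blockInd_of_notMem hξ, zero_mul]; exact ideal_zero hM
    obtain ⟨i, hi, hpow⟩ := exists_pow_coeff_ideal hM hFI hval
    refine ⟨_, ⟨fun b => (commute_of_classFun hM (coeffFun_classFun F) b).symm, i, ?_⟩, hphi⟩
    have hp : ∀ j : ℕ, redAlg hM (coeffFun (F ^ (j + 1))) = redAlg hM (coeffFun F) ^ (j + 1) := by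
      intro j
      induction j with
      | zero => simp
      | succ j ih => rw [pow_succ F, redAlg_mul hM (hFI.pow hM _) hFI, ih, ← pow_succ]
    obtain ⟨j, rfl⟩ : ∃ j, i = j + 1 := ⟨i - 1, by omega⟩
    rw [← hp]
    ext m
    rw [redAlg_coeff, (red_eq_zero hM (hFI.pow hM _ m)).2 (hpow m)]
    simp
  refine idem_eq_zero N (fun x => CN N x ∧ Br0 Q x ∧ s * x = x) (n := n) ?_ ?_ ?_ ?_ ?_
  · rintro x y ⟨hx, hx0, hsx⟩ ⟨hy, -, -⟩
    exact ⟨hx.mul hy, br0_mul hQ (hx.mono hQN) (hy.mono hQN) (Or.inl hx0),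
      by rw [← mul_assoc, hsx]⟩
  · rintro q x ⟨hx, hx0, hsx⟩
    exact ⟨cn_part N q hx, br0_part N q hx0, by rw [part_left N q (deg_sn N hM c), hsx]⟩
  · intro lst hlen hlst
    choose! f hf hfe using fun z (hz : z ∈ lst) =>
      hid z (hlst z hz).1.1 (hlst z hz).1.2.1 (hlst z hz).1.2.2 (hlst z hz).2
    have h1 := hn (lst.map f) (by simpa using hlen) fun z hz => by
      obtain ⟨w, hw, rfl⟩ := List.mem_map.1 hz
      exact hf w hw
    have h2 := congrArg (phi N hM) h1
    rw [map_list_prod, map_zero, List.map_map,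
      List.map_congr_left (f := ⇑(phi N hM) ∘ f) (g := id) hfe, List.map_id] at h2
    exact h2
  · refine ⟨(cn_eb hM B N).mul (cn_sn N hM c), ?_, ?_⟩
    · refine br0_mul hQ (cn_eb hM B Q) ((cn_sn N hM c).mono hQN) (Or.inl fun g hg => ?_)
      rw [eb, redAlg_coeff, red_eq_zero hM (blockCoeff_ring hM hB g), blockCoeff_eq]
      exact hB0 g hg
    · rw [← mul_assoc, ← eb_comm, mul_assoc, sn_mul_self N hM hc]
  · rw [mul_assoc, hscomm _ ((cn_eb hM B N).mul (cn_sn N hM c)), mul_assoc (eb hM B) s s,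
      sn_mul_self N hM hc, ← mul_assoc, eb, redAlg_blockCoeff_idem hM hB]

/-- A block with nonzero product is covered. -/
theorem covered_of_ne (hM : IsPModular p M) [Fintype N] {c : Set (IrrCharacter N)}
    (hc : IsPBlock M c) {B : Set (IrrCharacter G)} (hB : IsPBlock M B)
    (hne : eb hM B * sn N hM c ≠ 0) :
    ∃ χ ∈ B, ∃ θ ∈ c, classInner (fun n : N => (χ : G → ℂ) n) (θ : N → ℂ) ≠ 0 := by
  classical
  by_contra hno
  apply hne
  set U := conjUnion N c
  have hst : ConjStable N U := conjStable_conjUnion N c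
  have hUI : CenInt M (blockInd U) := cenInt_union hM (conjUnion_closed N hM hc)
  have hcov : CenInt M (covInd N U) := fun g => by
    rw [show covInd N U = fun χ => omegaFun χ (covCoeff N U) from rfl,
      coeffFun_omegaFun (covCoeff_classFun N hst)]
    by_cases h : g ∈ N
    · rw [covCoeff, dif_pos h]; exact hUI _
    · rw [covCoeff_of_notMem N _ h]; exact ring_zero hM
  have hzero : blockInd B * covInd N U = 0 := by
    funext χ
    by_cases hχ : χ ∈ B
    · rcases covInd_zero_or_one N hst χ with h | h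
      · simp [h]
      · obtain ⟨θ, ⟨g, hg⟩, hθ⟩ := (covInd_eq_one_iff N hst χ).1 h
        exact absurd ⟨χ, hχ, _, hg, constituent_of_conj N g hθ⟩ hno
    · simp [blockInd_of_notMem hχ]
  have hU : redAlg hM (coeffFun (covInd N U)) = phi N hM (redAlg hM (coeffFun (blockInd U))) := by
    rw [show covInd N U = fun χ => omegaFun χ (covCoeff N U) from rfl,
      coeffFun_omegaFun (covCoeff_classFun N hst)]
    exact (phi_redAlg N hM _ (covCoeff_coe N U) fun g hg => covCoeff_of_notMem N U hg).symm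
  have h1 : eb hM B * redAlg hM (coeffFun (covInd N U)) = 0 := by
    rw [eb, funext (blockCoeff_eq B), ← redAlg_mul hM (cenInt_blockInd hM hB) hcov, hzero]
    ext g
    simp [redAlg_coeff, coeffFun, red_zero hM]
  have h2 : sn N hM c * redAlg hM (coeffFun (covInd N U)) = sn N hM c := by
    rw [hU, ← sn_eq_phi, ← map_mul, ← redAlg_mul hM (cenInt_blockInd hM hc) hUI]
    congr 3
    funext θ
    by_cases hθ : θ ∈ c
    · simp [blockInd_of_mem hθ, blockInd_of_mem (subset_conjUnion N c hθ), U]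
    · simp [blockInd_of_notMem hθ]
  calc eb hM B * sn N hM c
      = eb hM B * sn N hM c * redAlg hM (coeffFun (covInd N U)) := by rw [mul_assoc, h2]
    _ = sn N hM c * (eb hM B * redAlg hM (coeffFun (covInd N U))) := by
      rw [eb_comm, mul_assoc]
    _ = 0 := by rw [h1, mul_zero]

/-! ### Conjugation -/

theorem conj_mem_iff (x g : G) : g ∈ N ↔ x * g * x⁻¹ ∈ N :=
  ⟨fun h => hN.conj_mem g h x, fun h => by simpa [mul_assoc] using hN.conj_mem _ h x⁻¹⟩

/-- The conjugate block. -/
def cb (x : G) (c : Set (IrrCharacter N)) : Set (IrrCharacter N) :=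
  pullB (conjIso x (conj_mem_iff N x)) c

/-- Conjugation of the group algebra. -/
noncomputable def cjs (hM : IsPModular p M) (x : G) (z : MonoidAlgebra (ResField hM) G) :
    MonoidAlgebra (ResField hM) G :=
  single x 1 * z * single x⁻¹ 1

theorem cjs_coeff (hM : IsPModular p M) (x g : G) (z : MonoidAlgebra (ResField hM) G) :
    (cjs hM x z).coeff g = z.coeff (x⁻¹ * g * x) := by
  simp [cjs, MonoidAlgebra.coeff_mul_single_apply, MonoidAlgebra.coeff_single_mul_apply, mul_assoc]

theorem cjs_mul (hM : IsPModular p M) (x y : G) (z : MonoidAlgebra (ResField hM) G) :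
    cjs hM x (cjs hM y z) = cjs hM (x * y) z := by
  ext g
  rw [cjs_coeff, cjs_coeff, cjs_coeff]
  congr 1
  group

theorem isPBlock_cb (hM : IsPModular p M) (x : G) {c : Set (IrrCharacter N)} (hc : IsPBlock M c) :
    IsPBlock M (cb N x c) :=
  isPBlock_pullB hM _ hc

theorem sn_cb (hM : IsPModular p M) (x : G) (c : Set (IrrCharacter N)) :
    sn N hM (cb N x c) = cjs hM x (sn N hM c) := by
  ext g
  rw [cjs_coeff, sn, sn, redAlg_coeff, redAlg_coeff, cb, bc_pullB]
  rfl

/-- Covered blocks are conjugate. -/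
theorem exists_cb_eq (hM : IsPModular p M) [Fintype N] {B : Set (IrrCharacter G)}
    (hB : IsPBlock M B) {b c : Set (IrrCharacter N)} (hb : IsPBlock M b) (hc : IsPBlock M c)
    (hcb : ∃ χ ∈ B, ∃ θ ∈ b, classInner (fun n : N => (χ : G → ℂ) n) (θ : N → ℂ) ≠ 0)
    (hcc : ∃ χ ∈ B, ∃ θ ∈ c, classInner (fun n : N => (χ : G → ℂ) n) (θ : N → ℂ) ≠ 0) :
    ∃ x : G, c = cb N x b := by
  obtain ⟨χ, hχ, θ, hθ, h⟩ := hcb
  obtain ⟨χ', hχ', ψ, hψ, h'⟩ := hcc
  obtain ⟨g, θ', hθ', he⟩ := constituents_in_conjugates N hM hB hb hχ hθ h hχ' h'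
  refine ⟨g⁻¹, ?_⟩
  have hmem : ψ ∈ cb N g⁻¹ b := by
    have e : irrPull (conjIso g⁻¹ (conj_mem_iff N g⁻¹)) ψ = θ' := by
      refine Subtype.ext (funext fun w => ?_)
      rw [irrPull_apply, he]
      refine congrArg (θ' : N → ℂ) (Subtype.ext ?_)
      show g * (g⁻¹ * (w : G) * g⁻¹⁻¹) * g⁻¹ = w
      group
    show irrPull _ ψ ∈ b
    rw [e]; exact hθ'
  rw [pblock_eq_blockOf hM hc hψ, pblock_eq_blockOf hM (isPBlock_cb N hM g⁻¹ hb) hmem]

/-- A covered block is not annihilated. -/
theorem ne_of_covered (hM : IsPModular p M) [Fintype N] {B : Set (IrrCharacter G)}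
    (hB : IsPBlock M B) {b : Set (IrrCharacter N)} (hb : IsPBlock M b)
    (hcov : ∃ χ ∈ B, ∃ θ ∈ b, classInner (fun n : N => (χ : G → ℂ) n) (θ : N → ℂ) ≠ 0) :
    eb hM B * sn N hM b ≠ 0 := by
  classical
  intro h0
  refine redAlg_blockCoeff_ne_zero hM hB ?_
  show eb hM B = 0
  rw [← mul_one (eb hM B), ← sum_sn N hM, Finset.mul_sum]
  refine Finset.sum_eq_zero fun c hc => ?_
  by_contra hne
  obtain ⟨x, rfl⟩ := exists_cb_eq N hM hB hb (mem_blks.1 hc) hcov
    (covered_of_ne N hM (mem_blks.1 hc) hB hne)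
  apply hne
  rw [sn_cb, cjs, ← mul_assoc, ← mul_assoc, eb_comm hM B (single x 1), mul_assoc (single x 1),
    h0, mul_zero, zero_mul]

/-- A defect group fixes a covered block not killed by it. -/
theorem exists_fixed_block [Fact p.Prime] (hM : IsPModular p M) [Fintype N]
    {B : Set (IrrCharacter G)} (hB : IsPBlock M B) {P : Subgroup G}
    (hP : IsDefectGroup p M B P) :
    ∃ c : Set (IrrCharacter N), IsPBlock M c ∧ (∀ u ∈ P, cb N u c = c) ∧
      eb hM B * sn N hM c ≠ 0 ∧
      ∃ g ∈ Subgroup.centralizer (P : Set G), g ∈ N ∧ (sn N hM c).coeff g ≠ 0 := by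
  classical
  haveI := charP' hM
  have hPp := IsDefectGroup.isPGroup hP
  have hbr := defectGroup_not_brZero hM hB hP
  rw [BrZero] at hbr
  push Not at hbr
  obtain ⟨g, hg, hgne⟩ := hbr
  have hg0 : (eb hM B).coeff g ≠ 0 := by
    rw [eb, redAlg_coeff, Ne, red_eq_zero hM (blockCoeff_ring hM hB g), blockCoeff_eq]
    exact hgne
  let Idx := {c : Set (IrrCharacter N) // IsPBlock M c}
  haveI : Fintype Idx := Fintype.ofFinite _
  letI : MulAction P Idx :=
    { smul := fun u c => ⟨cb N u c.1, isPBlock_cb N hM u c.2⟩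
      one_smul := fun c => Subtype.ext (sn_inj N hM (isPBlock_cb N hM _ c.2) c.2 (by
        show sn N hM (cb N ((1 : P) : G) c.1) = sn N hM c.1
        ext y
        rw [sn_cb, cjs_coeff]
        simp))
      mul_smul := fun u v c => Subtype.ext (sn_inj N hM (isPBlock_cb N hM _ c.2)
        (isPBlock_cb N hM _ (isPBlock_cb N hM _ c.2)) (by
          show sn N hM (cb N ((u * v : P) : G) c.1) = sn N hM (cb N (u : G) (cb N (v : G) c.1))
          rw [sn_cb, sn_cb, sn_cb, cjs_mul, Subgroup.coe_mul])) }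
  let F : Idx → ResField hM := fun c => (eb hM B * sn N hM c.1).coeff g
  have hsum : ∑ c, F c = (eb hM B).coeff g := by
    conv_rhs => rw [← mul_one (eb hM B), ← sum_sn N hM, Finset.mul_sum]
    simp only [MonoidAlgebra.coeff_sum, Finsupp.coe_finsetSum, Finset.sum_apply]
    exact (Finset.sum_subtype (blks M N) (fun c => mem_blks)
      (fun c => (eb hM B * sn N hM c).coeff g)).symm
  have hF : ∀ (u : P) (c : Idx), F (u • c) = F c := by
    intro u c
    show (eb hM B * sn N hM (cb N u c.1)).coeff g = _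
    rw [sn_cb, cjs, ← mul_assoc, ← mul_assoc, eb_comm hM B (single (u : G) 1),
      mul_assoc (single (u : G) 1)]
    show (cjs hM (u : G) (eb hM B * sn N hM c.1)).coeff g = _
    rw [cjs_coeff]
    congr 1
    rw [Subgroup.mem_centralizer_iff.1 hg _ (P.inv_mem u.2), inv_mul_cancel_right]
  rw [← hsum, Cfsg.Agent.Block.sum_eq_sum_fixed (p := p)
    (fun z : ResField hM => by rw [nsmul_eq_mul, CharP.cast_eq_zero, zero_mul]) hPp F hF] at hg0
  obtain ⟨c, hc, hcne⟩ := exists_ne_zero_of_finsum_mem_ne_zero hg0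
  have hfix : ∀ u ∈ P, cb N u c.1 = c.1 := fun u hu => congrArg Subtype.val (hc ⟨u, hu⟩)
  refine ⟨c.1, c.2, hfix, fun h => hcne (by show _ = 0; simp [F, h]), ?_⟩
  by_contra hno
  refine hcne (br0_mul hPp (cn_eb hM B P) (cn_iff.2 fun u hu y => ?_) (Or.inr fun y hy => ?_) g hg)
  · have h1 := congrArg (fun z : MonoidAlgebra (ResField hM) G => z.coeff (u * y * u⁻¹))
      (sn_cb N hM u c.1)
    simp only [hfix u hu, cjs_coeff] at h1
    rw [h1]
    congr 1
    group
  · by_contra h
    refine hno ⟨y, hy, ?_, h⟩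
    by_contra hyN
    exact h (deg_sn N hM c.1 y fun e => hyN ((QuotientGroup.eq_one_iff y).1 e))

theorem not_brZero_of_coeff (hM : IsPModular p M) [Fintype N] {c : Set (IrrCharacter N)}
    (hc : IsPBlock M c) {R : Subgroup G} {g : G} (hgN : g ∈ N)
    (hg : g ∈ Subgroup.centralizer (R : Set G)) (hne : (sn N hM c).coeff g ≠ 0) :
    ¬ BrZero M (R.subgroupOf N) (blockInd c) := fun h => hne (by
  have h1 := h ⟨g, hgN⟩ (Subgroup.mem_centralizer_iff.2 fun u hu =>
    Subtype.ext (Subgroup.mem_centralizer_iff.1 hg _ hu))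
  rw [sn, redAlg_coeff, show bc N c g = blockCoeff c ⟨g, hgN⟩ from bc_coe N c ⟨g, hgN⟩,
    red_eq_zero hM (blockCoeff_ring hM hc _), blockCoeff_eq]
  exact h1)

theorem card_inf_map_conj (x : G) (P : Subgroup G) :
    Nat.card (P.map (MulAut.conj x).toMonoidHom ⊓ N : Subgroup G) = Nat.card (P ⊓ N : Subgroup G) := by
  rw [show P.map (MulAut.conj x).toMonoidHom ⊓ N =
    (P ⊓ N).map (MulAut.conj x).toMonoidHom by
    rw [Subgroup.map_inf _ _ _ (MulAut.conj x).injective]
    congr 1
    ext y
    constructor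
    · exact fun hy => ⟨x⁻¹ * y * x, by simpa [mul_assoc] using hN.conj_mem y hy x⁻¹,
        by simp [mul_assoc]⟩
    · rintro ⟨z, hz, rfl⟩
      exact hN.conj_mem z hz x,
    card_map_conj]

/-- Knörr: a defect group of a covering block meets the normal subgroup in the given defect
group. -/
theorem knorr [Fact p.Prime] (hM : IsPModular p M) [Fintype N] {b : Set (IrrCharacter N)}
    (hb : IsPBlock M b) {Q : Subgroup G} (hQN : Q ≤ N)
    (hQ : IsDefectGroup p M b (Q.subgroupOf N)) {B : Set (IrrCharacter G)} (hB : IsPBlock M B)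
    (hcov : ∃ χ ∈ B, ∃ θ ∈ b, classInner (fun n : N => (χ : G → ℂ) n) (θ : N → ℂ) ≠ 0) :
    ∃ P : Subgroup G, IsDefectGroup p M B P ∧ P ⊓ N = Q := by
  classical
  have hQp : IsPGroup p Q :=
    (IsDefectGroup.isPGroup hQ).of_equiv (Subgroup.subgroupOfEquivOfLe hQN)
  obtain ⟨P, hP, hQP⟩ := exists_defectGroup_ge hM hB hQp
    (not_brZero_of_cover N hM hb hB hQN hQp (defectGroup_not_brZero hM hb hQ)
      (ne_of_covered N hM hB hb hcov))
  refine ⟨P, hP, (Subgroup.eq_of_le_of_card_ge (le_inf hQP hQN) ?_).symm⟩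
  obtain ⟨c, hc, -, hne, g, hg, hgN, hcoef⟩ := exists_fixed_block N hM hB hP
  obtain ⟨x, rfl⟩ := exists_cb_eq N hM hB hb hc hcov (covered_of_ne N hM hc hB hne)
  rw [sn_cb, cjs_coeff] at hcoef
  set R : Subgroup G := P.map (MulAut.conj x⁻¹).toMonoidHom ⊓ N
  have hRp : IsPGroup p R := ((IsDefectGroup.isPGroup hP).map _).to_le inf_le_left
  obtain ⟨y, hy⟩ := (not_brZero_iff hM hb hQ (hRp.comap_of_injective _ N.subtype_injective)).1
    (not_brZero_of_coeff N hM hb (R := R) (by simpa using hN.conj_mem g hgN x⁻¹)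
      (Subgroup.mem_centralizer_iff.2 fun r hr => by
        obtain ⟨u, hu, rfl⟩ := (Subgroup.mem_inf.1 hr).1
        show x⁻¹ * u * x⁻¹⁻¹ * (x⁻¹ * g * x) = x⁻¹ * g * x * (x⁻¹ * u * x⁻¹⁻¹)
        calc x⁻¹ * u * x⁻¹⁻¹ * (x⁻¹ * g * x) = x⁻¹ * (u * g) * x := by group
          _ = x⁻¹ * (g * u) * x := by rw [Subgroup.mem_centralizer_iff.1 hg u hu]
          _ = _ := by group) hcoef)
  have h1 := Subgroup.card_le_of_le hy
  rw [card_map_conj, Nat.card_congr (Subgroup.subgroupOfEquivOfLe hQN).toEquiv] at h1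
  change Nat.card (R.subgroupOf N) ≤ _ at h1
  rwa [Nat.card_congr (Subgroup.subgroupOfEquivOfLe (inf_le_right : R ≤ N)).toEquiv,
    card_inf_map_conj] at h1

/-- A defect group stabilises a covered block having its intersection as defect group. -/
theorem exists_stable_covered [Fact p.Prime] (hM : IsPModular p M) [Fintype N]
    {B : Set (IrrCharacter G)} (hB : IsPBlock M B) {P : Subgroup G}
    (hP : IsDefectGroup p M B P) :
    ∃ c : Set (IrrCharacter N), IsPBlock M c ∧ (∀ u ∈ P, StabilizesBlock N c u) ∧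
      (∃ χ ∈ B, ∃ θ ∈ c, classInner (fun n : N => (χ : G → ℂ) n) (θ : N → ℂ) ≠ 0) ∧
      IsDefectGroup p M c ((P ⊓ N).subgroupOf N) := by
  classical
  obtain ⟨c, hc, hfix, hne, g, hg, hgN, hcoef⟩ := exists_fixed_block N hM hB hP
  have hcov := covered_of_ne N hM hc hB hne
  refine ⟨c, hc, fun u hu => ?_, hcov, ?_⟩
  · refine (stabilizes_iff hM hc (by rw [Subgroup.normalizer_eq_top]; exact Subgroup.mem_top u)).2 ?_
    conv_rhs => rw [← hfix u hu]
    rw [cb, bc_pullB]
  have hRp : IsPGroup p (P ⊓ N : Subgroup G) := (IsDefectGroup.isPGroup hP).to_le inf_le_left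
  obtain ⟨D, hD, hle⟩ := exists_defectGroup_ge hM hc (hRp.comap_of_injective _ N.subtype_injective)
    (not_brZero_of_coeff N hM hc (R := P ⊓ N) hgN
      (Subgroup.centralizer_le inf_le_left hg) hcoef)
  obtain ⟨P', hP', heq⟩ := knorr N hM hc (Q := D.map N.subtype) (Subgroup.map_subtype_le _)
    (by rwa [Subgroup.subgroupOf, Subgroup.comap_map_eq_self_of_injective N.subtype_injective])
    hB hcov
  obtain ⟨x, hx⟩ := defectGroup_conj hM hB hP hP'
  have h1 : Nat.card D ≤ Nat.card ((P ⊓ N).subgroupOf N) := by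
    rw [← Subgroup.card_map_of_injective N.subtype_injective, ← heq, ← hx, card_inf_map_conj,
      Nat.card_congr (Subgroup.subgroupOfEquivOfLe (inf_le_right : P ⊓ N ≤ N)).toEquiv]
  rwa [show (P ⊓ N).subgroupOf N = D from Subgroup.eq_of_le_of_card_ge hle h1]

end Cfsg.Agent.Char.Knorr
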