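import Cfsg.Agent.Lib.Char.KnorrPPower
import Cfsg.Agent.Lib.Char.NearConstant

/-!
A block with a defect group inside a normal subgroup covers blocks with small stabilizer in
`p`-power overgroups.
-/

namespace Cfsg.Agent.Char.Knorr

open Cfsg Cfsg.Agent.Block Cfsg.Agent.Char.BP

set_option linter.unusedSectionVars false
set_option linter.style.haveILetI false

universe u

attribute [local instance] fieldInst

variable {G : Type u} [Group G] [Fintype G] {p : ℕ} {M : Ideal AlgInt}
  (N : Subgroup G) [hN : N.Normal]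

/-- The block idempotents of `G` add up to one. -/
theorem sum_eb (hM : IsPModular p M) :
    ∑ B ∈ (Set.toFinite {B : Set (IrrCharacter G) | IsPBlock M B}).toFinset, eb hM B = 1 := by
  classical
  cases nonempty_fintype (IrrCharacter G)
  have hmem : ∀ B, B ∈ (Set.toFinite {B : Set (IrrCharacter G) | IsPBlock M B}).toFinset ↔
      IsPBlock M B := fun B => by simp
  set S := (Set.toFinite {B : Set (IrrCharacter G) | IsPBlock M B}).toFinset
  have h1 : ∀ ξ : IrrCharacter G, ∑ B ∈ S, blockInd B ξ = 1 := by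
    intro ξ
    rw [Finset.sum_eq_single (blockOf M (ξ : G → ℂ))]
    · exact blockInd_of_mem (mem_blockOf_self hM ξ)
    · intro f hf hne
      exact blockInd_of_notMem fun h => hne (pblock_eq_blockOf hM ((hmem f).1 hf) h)
    · exact fun h => absurd ((hmem _).2 (isPBlock_blockOf ξ)) h
  ext g
  simp only [MonoidAlgebra.coeff_sum, Finsupp.coe_finsetSum, Finset.sum_apply, eb, redAlg_coeff,
    MonoidAlgebra.one_def, MonoidAlgebra.coeff_single, Finsupp.single_apply]
  rw [← red_sum hM fun B hB => blockCoeff_ring hM ((hmem B).1 hB) g]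
  have h2 : ∑ B ∈ S, blockCoeff B g = coeffFun (1 : IrrCharacter G → ℂ) g := by
    simp only [blockCoeff_eq, coeffFun_eq_sum]
    rw [← Finset.mul_sum, Finset.sum_comm]
    congr 1
    refine Finset.sum_congr rfl fun ξ _ => ?_
    rw [← Finset.sum_mul, ← Finset.sum_mul, h1, Pi.one_apply]
  rw [h2, coeffFun_one]
  by_cases h : g = 1
  · rw [if_pos h, if_pos h.symm, red_one hM]
  · rw [if_neg h, if_neg (Ne.symm h), red_zero hM]

theorem cb_mul (hM : IsPModular p M) (x y : G) {c : Set (IrrCharacter N)} (hc : IsPBlock M c) :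
    cb N (x * y) c = cb N x (cb N y c) := by
  refine sn_inj N hM (isPBlock_cb N hM _ hc) (isPBlock_cb N hM _ (isPBlock_cb N hM _ hc)) ?_
  rw [sn_cb, sn_cb, sn_cb, cjs_mul]

theorem stabilizes_of_cb (hM : IsPModular p M) {c : Set (IrrCharacter N)} (hc : IsPBlock M c)
    {x : G} (h : cb N x c = c) : StabilizesBlock N c x := by
  refine (stabilizes_iff hM hc
    (by rw [Subgroup.normalizer_eq_top]; exact Subgroup.mem_top x)).2 ?_
  conv_rhs => rw [← h]
  rw [cb, bc_pullB]

/-- Over a normal subgroup of `p`-power index containing a defect group, a covered block has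
stabilizer `N`. -/
theorem mem_of_stabilizes [Fact p.Prime] (hM : IsPModular p M) [Fintype N]
    (hidx : ∃ k : ℕ, N.index = p ^ k) {B : Set (IrrCharacter G)} (hB : IsPBlock M B)
    {c : Set (IrrCharacter N)} (hc : IsPBlock M c)
    (hcov : ∃ χ ∈ B, ∃ θ ∈ c, classInner (fun n : N => (χ : G → ℂ) n) (θ : N → ℂ) ≠ 0)
    {P : Subgroup G} (hP : IsDefectGroup p M B P) (hPN : P ≤ N)
    {x : G} (hx : StabilizesBlock N c x) : x ∈ N := by
  classical
  haveI := charP' hM
  have hone : cb N (1 : G) c = c :=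
    cb_eq_self N hM hc ⟨one_mem _, fun χ hχ => ⟨χ, hχ, fun k k' hk => by
      rw [show k' = k from Subtype.ext (by simpa using hk)]⟩⟩
  let T : Subgroup G :=
    { carrier := {g | cb N g c = c}
      one_mem' := hone
      mul_mem' := fun {a b} (ha : cb N a c = c) (hb : cb N b c = c) => by
        show cb N (a * b) c = c
        rw [cb_mul N hM a b hc, hb, ha]
      inv_mem' := fun {a} (ha : cb N a c = c) => by
        show cb N a⁻¹ c = c
        conv_lhs => rw [← ha]
        rw [← cb_mul N hM _ _ hc, inv_mul_cancel, hone] }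
  have hxT : x ∈ T := cb_eq_self N hM hc hx
  have hNT : N ≤ T := fun n hn => cb_eq_self N hM hc ⟨by
    rw [Subgroup.normalizer_eq_top]; exact Subgroup.mem_top n, fun χ hχ => ⟨χ, hχ, fun k k' hk => by
      rw [show k' = ⟨n, hn⟩ * k * ⟨n, hn⟩⁻¹ from Subtype.ext (by simpa using hk)]
      exact (Cfsg.Agent.Block.irr_classFun χ k ⟨n, hn⟩)⟩⟩
  cases nonempty_fintype T
  -- the block of `N` inside `T`
  set N' := N.subgroupOf T
  haveI : N'.Normal := Subgroup.Normal.subgroupOf hN T
  cases nonempty_fintype N'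
  let e : N ≃* N' := (Subgroup.subgroupOfEquivOfLe hNT).symm
  set c' := pullB e c
  have hc' : IsPBlock M c' := isPBlock_pullB hM e hc
  have hbc' : ∀ t : T, subgroupBlockCoeff N' c' t = bc N c (t : G) := by
    intro t
    by_cases ht : (t : G) ∈ N
    · have h1 := blockCoeff_pullB e c ⟨(t : G), ht⟩
      rw [show e ⟨(t : G), ht⟩ = (⟨t, ht⟩ : N') from Subtype.ext (Subtype.ext rfl)] at h1
      rw [show (t : G) = ((⟨(t : G), ht⟩ : N) : G) from rfl, bc_coe N c ⟨(t : G), ht⟩, ← h1]
      exact bc_coe N' c' ⟨t, ht⟩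
    · rw [bc_supp N c _ ht]
      exact bc_supp N' c' t ht
  have hidx' : ∃ k : ℕ, N'.index = p ^ k := by
    obtain ⟨k, hk⟩ := hidx
    have h1 : N.relIndex T ∣ p ^ k := hk ▸ Subgroup.relIndex_dvd_index_of_normal N T
    obtain ⟨j, -, hj⟩ := (Nat.dvd_prime_pow (Fact.out : p.Prime)).1 h1
    exact ⟨j, hj⟩
  have hst' : ∀ t : T, StabilizesBlock N' c' t := by
    intro t
    refine (stabilizes_iff hM hc' (by rw [Subgroup.normalizer_eq_top]; exact Subgroup.mem_top t)).2 ?_
    funext s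
    show bc N' c' (t⁻¹ * s * t) = bc N' c' s
    rw [bc, hbc', hbc']
    have h1 : cfun (t : G) (bc N c) = bc N c := by
      conv_rhs => rw [← (t.2 : cb N (t : G) c = c)]
      rw [cb, bc_pullB]
    conv_rhs => rw [← h1]
    simp [cfun, mul_assoc]
  obtain ⟨bT, hbT, hbTc⟩ := exists_block_eq N' hM hidx' hc' hst'
  obtain ⟨QT, hQT⟩ := exists_isDefectGroup hM hbT
  obtain ⟨k', hk'⟩ := hidx'
  have hcov' := covered_of_coeff_eq N' hM hc' hbT hbTc
  have htop := sup_defect_eq_top N' hM hk' hc' (conjStable_of_stabilizes N' hst') hbT hcov'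
    (fun g hg => by
      rw [hbTc, show subgroupBlockCoeff N' c' g = 0 from bc_supp N' c' g hg]
      exact ideal_zero hM) hQT
  have hbr := defectGroup_not_brZero hM hbT hQT
  rw [BrZero] at hbr
  push Not at hbr
  obtain ⟨g, hgC, hgne⟩ := hbr
  rw [← blockCoeff_eq, hbTc, hbc'] at hgne
  set Q := QT.map T.subtype with hQdef
  have hQp : IsPGroup p Q := (IsDefectGroup.isPGroup hQT).map _
  have hgQ : (g : G) ∈ Subgroup.centralizer (Q : Set G) := by
    refine Subgroup.mem_centralizer_iff.2 ?_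
    rintro _ ⟨u, hu, rfl⟩
    exact congrArg Subtype.val (Subgroup.mem_centralizer_iff.1 hgC u hu)
  have hfix : ∀ u ∈ Q, cb N u c = c := by
    rintro _ ⟨u, -, rfl⟩
    exact u.2
  -- the block of `G` is not killed by `Q`
  have hprod : eb hM B * sn N hM c = sn N hM c := by
    obtain ⟨B₀, -, huniq⟩ := unique_cover_pPow N hM hidx hc
    conv_rhs => rw [← one_mul (sn N hM c), ← sum_eb hM, Finset.sum_mul]
    rw [Finset.sum_eq_single B]
    · intro B' hB' hne
      by_contra h0
      have hB'' : IsPBlock M B' := by simpa using hB'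
      exact hne ((huniq B' ⟨hB'', covered_of_ne N hM hc hB'' h0⟩).trans
        (huniq B ⟨hB, hcov⟩).symm)
    · exact fun h => absurd (by simpa using hB) h
  have hnot : ¬ BrZero M Q (blockInd B) := by
    intro h0
    have h1 : Br0 Q (eb hM B * sn N hM c) :=
      br0_mul hQp (cn_eb hM B Q) (cn_iff.2 fun u hu y => by
        have h1 := congrArg (fun z : MonoidAlgebra (ResField hM) G => z.coeff (u * y * u⁻¹))
          (sn_cb N hM u c)
        simp only [hfix u hu, cjs_coeff] at h1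
        rw [h1]
        congr 1
        group)
        (Or.inl fun y hy => by
          rw [eb, redAlg_coeff, red_eq_zero hM (blockCoeff_ring hM hB y), blockCoeff_eq]
          exact h0 y hy)
    rw [hprod] at h1
    have h2 := h1 (g : G) hgQ
    rw [sn, redAlg_coeff, red_eq_zero hM (bc_ring hM hc _)] at h2
    exact hgne h2
  obtain ⟨P', hP', hQP'⟩ := exists_defectGroup_ge hM hB hQp hnot
  obtain ⟨z, hz⟩ := defectGroup_conj hM hB hP hP'
  have hQN : Q ≤ N := hQP'.trans (by
    rw [← hz]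
    rintro _ ⟨w, hw, rfl⟩
    exact hN.conj_mem w (hPN hw) z)
  have hQT' : QT ≤ N' := fun u hu => hQN ⟨u, hu, rfl⟩
  rw [sup_eq_left.2 hQT'] at htop
  exact (htop ▸ Subgroup.mem_top (⟨x, hxT⟩ : T) : (⟨x, hxT⟩ : T) ∈ N')

/-- In a normal overgroup of `p`-power index the stabilizer is `N`. -/
theorem stabilizer_inf [Fact p.Prime] (hM : IsPModular p M) [Fintype N] (L : Subgroup G) [L.Normal]
    (hNL : N ≤ L) (hidx : ∃ k : ℕ, (N.subgroupOf L).index = p ^ k) {B : Set (IrrCharacter G)}
    (hB : IsPBlock M B) {c : Set (IrrCharacter N)} (hc : IsPBlock M c)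
    (hcov : ∃ χ ∈ B, ∃ θ ∈ c, classInner (fun n : N => (χ : G → ℂ) n) (θ : N → ℂ) ≠ 0)
    {P : Subgroup G} (hP : IsDefectGroup p M B P) (hPN : P ≤ N) {x : G} (hxL : x ∈ L)
    (hx : StabilizesBlock N c x) : x ∈ N := by
  classical
  cases nonempty_fintype L
  obtain ⟨b, hb, -, ⟨χ, hχ, θ, hθ, hχθ⟩, hbD⟩ := exists_stable_covered L hM hB hP
  set N' := N.subgroupOf L
  haveI : N'.Normal := Subgroup.Normal.subgroupOf hN L
  cases nonempty_fintype N'
  obtain ⟨ψ', hψ'⟩ : ∃ ψ' : IrrCharacter N',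
      classInner (fun n : N' => (θ : L → ℂ) n) (ψ' : N' → ℂ) ≠ 0 :=
    IsChar.exists_constituent' (IsChar.res (irr_isChar θ) N') (by
      show (θ : L → ℂ) 1 ≠ 0
      exact irr_one_ne_zero θ)
  let e : N' ≃* N := Subgroup.subgroupOfEquivOfLe hNL
  set c' := blockOf M (ψ' : N' → ℂ)
  set c₂ := pullB e c'
  have hc₂ : IsPBlock M c₂ := isPBlock_pullB hM e (isPBlock_blockOf ψ')
  set ψ := irrPull e.symm ψ' with hψdef
  have hpull : irrPull e ψ = ψ' :=
    Subtype.ext (funext fun w => by simp [hψdef, irrPull_apply])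
  have hmem : ψ ∈ c₂ := by
    show irrPull e ψ ∈ c'
    rw [hpull]
    exact mem_blockOf_self hM ψ'
  have hχψ : classInner (fun n : N => (χ : G → ℂ) n) (ψ : N → ℂ) ≠ 0 := by
    have h1 := NearConst.constituent_res (N := N') (IsChar.res (irr_isChar χ) L) (φ := θ) hχθ
      ψ'.2 hψ'
    refine fun h0 => h1 ?_
    rw [← h0]
    simp only [classInner]
    rw [Nat.card_congr e.toEquiv]
    congr 1
    refine Fintype.sum_equiv e.toEquiv _ _ fun w => ?_
    simp only [MulEquiv.toEquiv_eq_coe, MulEquiv.coe_toEquiv]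
    rw [show (ψ : N → ℂ) (e w) = (ψ' : N' → ℂ) w by simp [hψdef, irrPull_apply]]
    rfl
  obtain ⟨g, hg⟩ := exists_cb_eq N hM hB hc hc₂ hcov ⟨χ, hχ, ψ, hmem, hχψ⟩
  have hgx : cb N (g * x * g⁻¹) c₂ = c₂ := by
    rw [hg, ← cb_mul N hM _ _ hc, inv_mul_cancel_right, cb_mul N hM g x hc, cb_eq_self N hM hc hx]
  have hgxL : g * x * g⁻¹ ∈ L := Subgroup.Normal.conj_mem inferInstance x hxL g
  have hst : StabilizesBlock N' c' (⟨g * x * g⁻¹, hgxL⟩ : L) := by
    refine ⟨by rw [Subgroup.normalizer_eq_top]; exact Subgroup.mem_top _, fun ξ hξ => ?_⟩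
    have h1 : irrPull e (irrPull e.symm ξ) = ξ :=
      Subtype.ext (funext fun w => by simp [irrPull_apply])
    obtain ⟨ξ₂, hξ₂, hconj⟩ := (stabilizes_of_cb N hM hc₂ hgx).2 (irrPull e.symm ξ)
      (show irrPull e (irrPull e.symm ξ) ∈ c' by rwa [h1])
    refine ⟨irrPull e ξ₂, hξ₂, fun k k' hk => ?_⟩
    have h2 := hconj (e k) (e k') (congrArg Subtype.val hk)
    simpa [irrPull_apply] using h2
  have hmain := mem_of_stabilizes (G := L) N' hM hidx hb (isPBlock_blockOf ψ')
    ⟨θ, hθ, ψ', mem_blockOf_self hM ψ', hψ'⟩ hbD (fun u hu => hPN hu.1) hst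
  have h3 : g * x * g⁻¹ ∈ N := hmain
  simpa [mul_assoc] using hN.conj_mem _ h3 g⁻¹

end Cfsg.Agent.Char.Knorr
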