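import Cfsg.Agent.Lib.Block.Residue
import Mathlib.Algebra.MonoidAlgebra.Module
import Mathlib.Algebra.MonoidAlgebra.MapDomain
import Mathlib.GroupTheory.QuotientGroup.Defs
import Mathlib.Combinatorics.Pigeonhole
import Mathlib.Algebra.Algebra.Subalgebra.Basic
import Mathlib.RingTheory.Artinian.Ring
import Mathlib.RingTheory.Nilpotent.Lemmas

/-!
The graded argument for the Knörr intersection theorem: in the part of the group algebra fixed by
a normal subgroup and killed by the Brauer map, nilpotency in the identity component forces all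
idempotents to vanish.
-/

namespace Cfsg.Agent.Char.Knorr

set_option linter.unusedSectionVars false
set_option linter.style.haveILetI false

universe u v

variable {k : Type v} [Field k] {G : Type u} [Group G] [Fintype G]

/-- Commutes with every element of the subgroup. -/
def CN (W : Subgroup G) (x : MonoidAlgebra k G) : Prop :=
  ∀ n ∈ W, MonoidAlgebra.single n (1 : k) * x = x * MonoidAlgebra.single n (1 : k)

/-- No coefficient on the centralizer. -/
def Br0 (Q : Subgroup G) (x : MonoidAlgebra k G) : Prop :=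
  ∀ g ∈ Subgroup.centralizer (Q : Set G), x.coeff g = 0

theorem CN.mono {V W : Subgroup G} {x : MonoidAlgebra k G} (h : CN W x) (hVW : V ≤ W) : CN V x :=
  fun n hn => h n (hVW hn)

theorem CN.mul {W : Subgroup G} {x y : MonoidAlgebra k G} (hx : CN W x) (hy : CN W y) :
    CN W (x * y) := fun n hn => by
  rw [← mul_assoc, hx n hn, mul_assoc, hy n hn, mul_assoc]

theorem dec (x : MonoidAlgebra k G) : x = ∑ g : G, MonoidAlgebra.single g (x.coeff g) := by
  classical
  ext h
  simp [MonoidAlgebra.coeff_sum, Finsupp.single_apply]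

theorem coeff_mul (x y : MonoidAlgebra k G) (c : G) :
    (x * y).coeff c = ∑ g : G, x.coeff g * y.coeff (g⁻¹ * c) := by
  conv_lhs => rw [dec x, Finset.sum_mul]
  simp [MonoidAlgebra.coeff_sum, MonoidAlgebra.coeff_single_mul_apply]

theorem cn_iff {W : Subgroup G} {x : MonoidAlgebra k G} :
    CN W x ↔ ∀ n ∈ W, ∀ g, x.coeff (n * g * n⁻¹) = x.coeff g := by
  constructor
  · intro h n hn g
    have h1 := congrArg (fun z : MonoidAlgebra k G => z.coeff (n * g)) (h n hn)
    simp only [MonoidAlgebra.coeff_single_mul_apply, MonoidAlgebra.coeff_mul_single_apply, one_mul,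
      mul_one, inv_mul_cancel_left] at h1
    exact h1.symm
  · intro h n hn
    ext g
    simp only [MonoidAlgebra.coeff_single_mul_apply, MonoidAlgebra.coeff_mul_single_apply, one_mul,
      mul_one]
    conv_rhs => rw [show g * n⁻¹ = n * (n⁻¹ * g) * n⁻¹ by group]
    exact (h n hn _).symm

section Brauer

variable {p : ℕ} [Fact p.Prime] [CharP k p]

/-- The kernel of the Brauer map is an ideal among the fixed elements. -/
theorem br0_mul {Q : Subgroup G} (hQ : IsPGroup p Q) {x y : MonoidAlgebra k G} (hx : CN Q x)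
    (hy : CN Q y) (h : Br0 Q x ∨ Br0 Q y) : Br0 Q (x * y) := by
  classical
  intro c hc
  rw [coeff_mul]
  letI : MulAction Q G := MulAction.compHom G ((MulAut.conj (G := G)).comp Q.subtype)
  have hsmul : ∀ (u : Q) (g : G), u • g = (u : G) * g * (u : G)⁻¹ := fun u g => rfl
  rw [Cfsg.Agent.Block.sum_eq_sum_fixed (p := p)
    (fun z : k => by rw [nsmul_eq_mul, CharP.cast_eq_zero, zero_mul]) hQ _ fun u g => by
      rw [hsmul, cn_iff.1 hx u u.2]
      congr 1
      have hcu := Subgroup.mem_centralizer_iff.1 hc _ u.2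
      rw [show ((u : G) * g * (u : G)⁻¹)⁻¹ * c = u * (g⁻¹ * c) * (u : G)⁻¹ by
        calc ((u : G) * g * (u : G)⁻¹)⁻¹ * c = u * g⁻¹ * (u : G)⁻¹ * ((c * u) * (u : G)⁻¹) := by
              group
          _ = u * g⁻¹ * (u : G)⁻¹ * ((u * c) * (u : G)⁻¹) := by rw [hcu]
          _ = u * (g⁻¹ * c) * (u : G)⁻¹ := by group]
      exact cn_iff.1 hy u u.2 _]
  refine finsum_mem_of_eqOn_zero fun g hg => ?_
  have hgc : g ∈ Subgroup.centralizer (Q : Set G) :=
    Subgroup.mem_centralizer_iff.2 fun u hu => mul_inv_eq_iff_eq_mul.1 (hg ⟨u, hu⟩)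
  rcases h with h | h
  · show x.coeff g * _ = 0
    rw [h g hgc, zero_mul]
  · show _ * y.coeff (g⁻¹ * c) = 0
    rw [h _ (mul_mem (inv_mem hgc) hc), mul_zero]

end Brauer

/-! ### Homogeneous parts -/

variable (N : Subgroup G) [N.Normal]

/-- Supported on one coset. -/
def Deg (x : MonoidAlgebra k G) (q : G ⧸ N) : Prop :=
  ∀ g : G, (g : G ⧸ N) ≠ q → x.coeff g = 0

theorem Deg.mul {x y : MonoidAlgebra k G} {q r : G ⧸ N} (hx : Deg N x q) (hy : Deg N y r) :
    Deg N (x * y) (q * r) := by
  intro g hg
  rw [coeff_mul]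
  refine Finset.sum_eq_zero fun a _ => ?_
  by_cases ha : (a : G ⧸ N) = q
  · rw [hy (a⁻¹ * g) (fun h => hg ?_), mul_zero]
    rw [← h, ← ha, QuotientGroup.mk_mul, QuotientGroup.mk_inv, mul_inv_cancel_left]
  · rw [hx a ha, zero_mul]

theorem deg_one : Deg N (1 : MonoidAlgebra k G) 1 := by
  classical
  intro g hg
  rw [MonoidAlgebra.one_def, MonoidAlgebra.coeff_single, Finsupp.single_apply, if_neg]
  rintro rfl
  exact hg rfl

/-- The part on one coset. -/
noncomputable def part (q : G ⧸ N) (x : MonoidAlgebra k G) : MonoidAlgebra k G :=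
  open Classical in ∑ g : G, MonoidAlgebra.single g (if (g : G ⧸ N) = q then x.coeff g else 0)

theorem part_coeff (q : G ⧸ N) (x : MonoidAlgebra k G) (g : G) [Decidable ((g : G ⧸ N) = q)] :
    (part N q x).coeff g = if (g : G ⧸ N) = q then x.coeff g else 0 := by
  classical
  simp only [part, MonoidAlgebra.coeff_sum, Finsupp.coe_finsetSum, Finset.sum_apply,
    MonoidAlgebra.coeff_single, Finsupp.single_apply]
  rw [Finset.sum_eq_single g (fun h _ hh => if_neg hh) (fun h => absurd (Finset.mem_univ _) h),
    if_pos rfl]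
  congr

theorem deg_part (q : G ⧸ N) (x : MonoidAlgebra k G) : Deg N (part N q x) q := fun g hg => by
  classical
  rw [part_coeff, if_neg hg]

theorem sum_part [Fintype (G ⧸ N)] (x : MonoidAlgebra k G) : ∑ q, part N q x = x := by
  classical
  ext g
  simp only [MonoidAlgebra.coeff_sum, Finsupp.coe_finsetSum, Finset.sum_apply, part_coeff]
  simp

theorem part_left (q : G ⧸ N) {c x : MonoidAlgebra k G} (hc : Deg N c 1) :
    c * part N q x = part N q (c * x) := by
  classical
  ext g
  rw [coeff_mul, part_coeff]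
  have h : ∀ a : G, c.coeff a * (part N q x).coeff (a⁻¹ * g) =
      if (g : G ⧸ N) = q then c.coeff a * x.coeff (a⁻¹ * g) else 0 := by
    intro a
    by_cases ha : (a : G ⧸ N) = 1
    · rw [part_coeff, QuotientGroup.mk_mul, QuotientGroup.mk_inv, ha, inv_one, one_mul, mul_ite,
        mul_zero]
    · rw [hc a ha, zero_mul, zero_mul, ite_self]
  simp only [h]
  split_ifs
  · rw [coeff_mul]
  · exact Finset.sum_const_zero

theorem cn_part (q : G ⧸ N) {x : MonoidAlgebra k G} (hx : CN N x) : CN N (part N q x) := by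
  classical
  refine cn_iff.2 fun n hn g => ?_
  rw [part_coeff, part_coeff, cn_iff.1 hx n hn]
  have hn1 : (n : G ⧸ N) = 1 := (QuotientGroup.eq_one_iff n).2 hn
  rw [QuotientGroup.mk_mul, QuotientGroup.mk_mul, QuotientGroup.mk_inv, hn1, inv_one, one_mul,
    mul_one]

theorem br0_part (q : G ⧸ N) {Q : Subgroup G} {x : MonoidAlgebra k G} (hx : Br0 Q x) :
    Br0 Q (part N q x) := fun g hg => by
  classical
  rw [part_coeff, hx g hg, ite_self]

/-! ### Products along a sequence -/

/-- The product of the first terms of a sequence. -/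
noncomputable def pr (y : ℕ → MonoidAlgebra k G) : ℕ → MonoidAlgebra k G
  | 0 => 1
  | i + 1 => pr y i * y i

/-- The degrees of the partial products. -/
def prDeg (d : ℕ → G ⧸ N) : ℕ → G ⧸ N
  | 0 => 1
  | i + 1 => prDeg d i * d i

theorem pr_add (y : ℕ → MonoidAlgebra k G) (a : ℕ) :
    ∀ j, pr y (a + j) = pr y a * pr (fun t => y (a + t)) j
  | 0 => (mul_one _).symm
  | j + 1 => by
    show pr y (a + j) * y (a + j) = pr y a * (pr (fun t => y (a + t)) j * y (a + j))
    rw [pr_add y a j, mul_assoc]

theorem prDeg_add (d : ℕ → G ⧸ N) (a : ℕ) :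
    ∀ j, prDeg N d (a + j) = prDeg N d a * prDeg N (fun t => d (a + t)) j
  | 0 => (mul_one _).symm
  | j + 1 => by
    show prDeg N d (a + j) * d (a + j) =
      prDeg N d a * (prDeg N (fun t => d (a + t)) j * d (a + j))
    rw [prDeg_add d a j, mul_assoc]

theorem deg_pr {y : ℕ → MonoidAlgebra k G} {d : ℕ → G ⧸ N} :
    ∀ {j : ℕ}, (∀ t < j, Deg N (y t) (d t)) → Deg N (pr y j) (prDeg N d j)
  | 0, _ => deg_one N
  | j + 1, h => (deg_pr fun t ht => h t (by omega)).mul N (h j (Nat.lt_succ_self j))

theorem pr_congr {y y' : ℕ → MonoidAlgebra k G} :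
    ∀ {j : ℕ}, (∀ t < j, y t = y' t) → pr y j = pr y' j
  | 0, _ => rfl
  | j + 1, h => by
    show pr y j * y j = pr y' j * y' j
    rw [pr_congr fun t ht => h t (by omega), h j (Nat.lt_succ_self j)]

/-- A set closed under products, with nilpotent identity component, has no idempotent. -/
theorem idem_eq_zero (S : MonoidAlgebra k G → Prop)
    (hmul : ∀ x y, S x → S y → S (x * y)) (hpart : ∀ q x, S x → S (part N q x)) {n : ℕ}
    (hnil : ∀ lst : List (MonoidAlgebra k G), lst.length = n →
      (∀ z ∈ lst, S z ∧ Deg N z 1) → lst.prod = 0)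
    {ε : MonoidAlgebra k G} (hε : S ε) (hidem : ε * ε = ε) : ε = 0 := by
  classical
  haveI : Fintype (G ⧸ N) := Fintype.ofFinite _
  set l := Fintype.card (G ⧸ N) * n + 1 with hl
  have hSpr : ∀ (y : ℕ → MonoidAlgebra k G) (j : ℕ), (∀ t < j + 1, S (y t)) → S (pr y (j + 1)) := by
    intro y j
    induction j with
    | zero =>
      intro h
      show S (1 * y 0)
      rw [one_mul]
      exact h 0 (by omega)
    | succ j ih => exact fun h => hmul _ _ (ih fun t ht => h t (by omega)) (h _ (by omega))
  -- every long homogeneous product vanishes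
  have hlong : ∀ (y : ℕ → MonoidAlgebra k G) (d : ℕ → G ⧸ N),
      (∀ t < l, S (y t) ∧ Deg N (y t) (d t)) → pr y l = 0 := by
    intro y d h
    obtain ⟨q, hq⟩ := Fintype.exists_lt_card_fiber_of_mul_lt_card
      (fun i : Fin l => prDeg N d i.val) (n := n) (by rw [Fintype.card_fin, hl]; omega)
    set T := ((Finset.univ : Finset (Fin l)).filter fun i : Fin l => prDeg N d i.val = q).image Fin.val with hT
    have hTcard : n < T.card := by
      rw [hT, Finset.card_image_of_injective _ Fin.val_injective]; exact hq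
    let e := T.orderEmbOfFin rfl
    have he : ∀ i, e i < l ∧ prDeg N d (e i) = q := by
      intro i
      obtain ⟨a, ha, hae⟩ := Finset.mem_image.1 (T.orderEmbOfFin_mem rfl i)
      rw [show e i = (a : ℕ) from hae.symm]
      exact ⟨a.2, (Finset.mem_filter.1 ha).2⟩
    have hchain : ∀ (j : ℕ) (hj : j < T.card), ∃ a, ∃ lst : List (MonoidAlgebra k G),
        lst.length = j ∧ (∀ z ∈ lst, S z ∧ Deg N z 1) ∧ pr y (e ⟨j, hj⟩) = a * lst.prod := by
      intro j
      induction j with
      | zero => exact fun hj => ⟨_, [], rfl, by simp, (mul_one _).symm⟩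
      | succ j ih =>
        intro hj
        obtain ⟨a, lst, hlen, hlst, hpr⟩ := ih (by omega)
        set u := e ⟨j, by omega⟩ with hu
        set w := e ⟨j + 1, hj⟩ with hw
        have huw : u < w := e.strictMono (show (⟨j, _⟩ : Fin T.card) < ⟨j + 1, hj⟩ by simp)
        obtain ⟨r, hr⟩ : ∃ r, w = u + (r + 1) := ⟨w - u - 1, by omega⟩
        set s := pr (fun t => y (u + t)) (r + 1)
        have hs : S s := hSpr _ _ fun t ht => (h _ (by have := (he ⟨j + 1, hj⟩).1; omega)).1
        have hsd : Deg N s 1 := by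
          have h1 : Deg N s (prDeg N (fun t => d (u + t)) (r + 1)) := deg_pr N
            fun t ht => (h _ (by have := (he ⟨j + 1, hj⟩).1; omega)).2
          have h2 : prDeg N d w = prDeg N d u * prDeg N (fun t => d (u + t)) (r + 1) := by
            rw [hr]; exact prDeg_add N d u (r + 1)
          rw [(he ⟨j + 1, hj⟩).2, (he ⟨j, by omega⟩).2, left_eq_mul] at h2
          rwa [h2] at h1
        refine ⟨a, lst ++ [s], by simp [hlen], fun z hz => ?_, ?_⟩
        · rcases List.mem_append.1 hz with hz | hz
          · exact hlst z hz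
          · rw [List.mem_singleton.1 hz]; exact ⟨hs, hsd⟩
        · rw [hr, pr_add, hpr, List.prod_append, List.prod_singleton, mul_assoc]
    obtain ⟨a, lst, hlen, hlst, hpr⟩ := hchain n hTcard
    obtain ⟨r, hr⟩ : ∃ r, l = e ⟨n, hTcard⟩ + r := ⟨l - e ⟨n, hTcard⟩, by
      have := (he ⟨n, hTcard⟩).1; omega⟩
    rw [hr, pr_add, hpr, hnil lst hlen hlst, mul_zero, zero_mul]
  have hexp : ∀ (r j : ℕ) (y : ℕ → MonoidAlgebra k G) (d : ℕ → G ⧸ N), j + r = l →
      (∀ t < j, S (y t) ∧ Deg N (y t) (d t)) → pr y j * ε ^ r = 0 := by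
    intro r
    induction r with
    | zero =>
      intro j y d hj h
      rw [pow_zero, mul_one]
      obtain rfl : j = l := by omega
      exact hlong y d h
    | succ r ih =>
      intro j y d hj h
      rw [pow_succ', ← mul_assoc]
      conv_lhs => arg 1; arg 2; rw [← sum_part N ε]
      rw [Finset.mul_sum, Finset.sum_mul]
      refine Finset.sum_eq_zero fun q _ => ?_
      have h1 := ih (j + 1) (Function.update y j (part N q ε)) (Function.update d j q) (by omega)
        (fun t ht => by
          by_cases htj : t = j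
          · subst htj
            simpa using ⟨hpart q ε hε, deg_part N q ε⟩
          · rw [Function.update_of_ne htj, Function.update_of_ne htj]
            exact h t (by omega))
      have h2 : pr (Function.update y j (part N q ε)) (j + 1) = pr y j * part N q ε := by
        show pr _ j * Function.update y j (part N q ε) j = _
        rw [Function.update_self, pr_congr (y' := y) (j := j) fun t ht => Function.update_of_ne (Nat.ne_of_lt ht) _ _]
      rwa [h2] at h1
  have hz := hexp l 0 (fun _ => 0) (fun _ => 1) (by omega) (fun t ht => absurd ht (by omega))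
  have hp : ∀ i : ℕ, ε ^ (i + 1) = ε := fun i => by
    induction i with
    | zero => rw [zero_add, pow_one]
    | succ i ih => rw [pow_succ, ih, hidem]
  rw [show pr (fun _ => (0 : MonoidAlgebra k G)) 0 = 1 from rfl, one_mul,
    show l = (Fintype.card (G ⧸ N) * n) + 1 from hl, hp] at hz
  exact hz

/-- Nilpotent central elements of the group algebra of a finite group have vanishing long
products. -/
theorem exists_nil_bound (H : Type u) [Group H] [Finite H] :
    ∃ n : ℕ, ∀ lst : List (MonoidAlgebra k H), lst.length = n →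
      (∀ z ∈ lst, (∀ b, b * z = z * b) ∧ IsNilpotent z) → lst.prod = 0 := by
  haveI : Module.Finite k (MonoidAlgebra k H) := Module.Finite.of_basis (MonoidAlgebra.basis H k)
  set C := Subalgebra.center k (MonoidAlgebra k H)
  haveI : IsArtinianRing C := IsArtinianRing.of_finite k C
  obtain ⟨n, hn⟩ := IsArtinianRing.isNilpotent_nilradical (R := C)
  refine ⟨n, fun lst hlen hlst => ?_⟩
  have key : ∀ lst : List (MonoidAlgebra k H),
      (∀ z ∈ lst, (∀ b, b * z = z * b) ∧ IsNilpotent z) →
      ∃ w : C, w ∈ nilradical C ^ lst.length ∧ (w : MonoidAlgebra k H) = lst.prod := by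
    intro lst
    induction lst with
    | nil => exact fun _ => ⟨1, by simp, rfl⟩
    | cons z t ih =>
      intro h
      obtain ⟨w, hw, hwe⟩ := ih fun x hx => h x (List.mem_cons_of_mem _ hx)
      obtain ⟨hc, hz⟩ := h z List.mem_cons_self
      let z' : C := ⟨z, Subalgebra.mem_center_iff.2 hc⟩
      refine ⟨z' * w, ?_, by simp [z', hwe]⟩
      rw [List.length_cons, pow_succ']
      refine Ideal.mul_mem_mul ?_ hw
      obtain ⟨i, hi⟩ := hz
      exact mem_nilradical.2 ⟨i, Subtype.ext (by simpa [z'] using hi)⟩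
  obtain ⟨w, hw, hwe⟩ := key lst hlst
  rw [hlen, hn] at hw
  rw [← hwe, show w = 0 from hw]
  rfl

end Cfsg.Agent.Char.Knorr
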