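import Cfsg.Agent.Lib.Char.KnorrBlocks

/-!
A stable block of a normal subgroup of `p`-power index: its idempotent is a block idempotent of
the group, and a defect group of that block covers the quotient.
-/

namespace Cfsg.Agent.Char.Knorr

open Cfsg Cfsg.Agent.Block Cfsg.Agent.Char.BP

set_option linter.unusedSectionVars false
set_option linter.style.haveILetI false

universe u

variable {G : Type u} [Group G] [Fintype G] {p : ℕ} {M : Ideal AlgInt}
  (N : Subgroup G) [hN : N.Normal]

theorem conjStable_of_stabilizes {c : Set (IrrCharacter N)}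
    (hst : ∀ x : G, StabilizesBlock N c x) : ConjStable N c := by
  intro g θ hθ θ' h
  obtain ⟨χ', hχ', hconj⟩ := (hst g⁻¹).2 θ hθ
  suffices θ' = χ' by rwa [this]
  refine Subtype.ext (funext fun n => (h n).trans ?_)
  exact (hconj ⟨g * n * g⁻¹, hN.conj_mem n n.2 g⟩ n (by group)).symm

theorem cb_eq_self (hM : IsPModular p M) {c : Set (IrrCharacter N)} (hc : IsPBlock M c) {x : G}
    (h : StabilizesBlock N c x) : cb N x c = c :=
  bc_inj (by rw [cb, bc_pullB]; exact (stabilizes_iff hM hc h.1).1 h)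

theorem stable_cover_eq (hM : IsPModular p M) [Fintype N] {c : Set (IrrCharacter N)}
    (hc : IsPBlock M c) (hst : ∀ x : G, StabilizesBlock N c x) {B : Set (IrrCharacter G)}
    (hB : IsPBlock M B)
    (hcov : ∃ χ ∈ B, ∃ θ ∈ c, classInner (fun n : N => (χ : G → ℂ) n) (θ : N → ℂ) ≠ 0)
    (huniq : ∀ B', IsPBlock M B' →
      (∃ χ ∈ B', ∃ θ ∈ c, classInner (fun n : N => (χ : G → ℂ) n) (θ : N → ℂ) ≠ 0) → B' = B) :
    blockCoeff B = subgroupBlockCoeff N c := by
  classical
  have hcs := conjStable_of_stabilizes N hst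
  have hind : blockInd B = covInd N c := by
    funext χ
    by_cases hχ : χ ∈ B
    · obtain ⟨χ₀, hχ₀, hex⟩ := hcov
      rw [blockInd_of_mem hχ, covInd_congr N hM hc hcs (pblock_sameBlock hM hB hχ hχ₀),
        (covInd_eq_one_iff N hcs χ₀).2 hex]
    · rw [blockInd_of_notMem hχ]
      rcases covInd_zero_or_one N hcs χ with h | h
      · exact h.symm
      · have := huniq _ (isPBlock_blockOf χ)
          ⟨χ, mem_blockOf_self hM χ, (covInd_eq_one_iff N hcs χ).1 h⟩
        exact absurd (this ▸ mem_blockOf_self hM χ) hχ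
  funext g
  rw [blockCoeff_eq, hind, show covInd N c = fun χ => omegaFun χ (covCoeff N c) from rfl,
    coeffFun_omegaFun (covCoeff_classFun N hcs)]
  show covCoeff N c g = bc N c g
  by_cases h : g ∈ N
  · rw [show bc N c g = blockCoeff c ⟨g, h⟩ from bc_coe N c ⟨g, h⟩,
      show covCoeff N c g = _ from covCoeff_coe N c ⟨g, h⟩, blockCoeff_eq]
  · rw [covCoeff_of_notMem N c h, bc_supp N c g h]

theorem exists_block_eq [Fact p.Prime] (hM : IsPModular p M) [Fintype N]
    (hidx : ∃ k : ℕ, N.index = p ^ k) {c : Set (IrrCharacter N)} (hc : IsPBlock M c)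
    (hst : ∀ x : G, StabilizesBlock N c x) :
    ∃ B : Set (IrrCharacter G), IsPBlock M B ∧ blockCoeff B = subgroupBlockCoeff N c := by
  obtain ⟨B, ⟨hB, hcov⟩, huniq⟩ := unique_cover_pPow N hM hidx hc
  exact ⟨B, hB, stable_cover_eq N hM hc hst hB hcov fun B' h h' => huniq B' ⟨h, h'⟩⟩

theorem sup_defect_eq_top [Fact p.Prime] (hM : IsPModular p M) [Fintype N] {k : ℕ}
    (hidx : N.index = p ^ k) {c : Set (IrrCharacter N)} (hc : IsPBlock M c)
    (hcs : ConjStable N c) {B : Set (IrrCharacter G)} (hB : IsPBlock M B)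
    (hcov : ∃ χ ∈ B, ∃ θ ∈ c, classInner (fun n : N => (χ : G → ℂ) n) (θ : N → ℂ) ≠ 0)
    (hsupp : ∀ g, g ∉ N → MemLocalIdeal M (blockCoeff B g))
    {P : Subgroup G} (hP : IsDefectGroup p M B P) : N ⊔ P = ⊤ := by
  classical
  cases nonempty_fintype (ConjClasses N)
  obtain ⟨g, hg, Q, hPQ⟩ := hP
  have hPpg : IsPGroup p P := by rw [hPQ]; exact isPGroup_csyl Q
  have hPsub : ∀ u ∈ P, u ∈ Subgroup.centralizer ({g} : Set G) := fun u hu =>
    Subgroup.map_subtype_le _ (show u ∈ csyl Q by rw [hPQ] at hu; exact hu)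
  have hcP : Nat.card P = p ^ (Nat.card (Subgroup.centralizer ({g} : Set G))).factorization p := by
    rw [hPQ]; exact card_csyl Q
  have hgN : g ∈ N := by
    by_contra h
    exact hg.2.1 (hsupp g h)
  obtain ⟨t, ht, hcong⟩ := centralChar_cover N hM hc hcs ⟨g, hgN⟩
  obtain ⟨χ, hχ, θ, hθ, hne⟩ := hcov
  have hpt : ¬ p ∣ t := fun hd => by
    refine hg.2.2 χ hχ ?_
    obtain ⟨m, rfl⟩ := hd
    have h2 : MemLocalIdeal M (((p * m : ℕ) : ℂ) * centralChar (θ : N → ℂ) ⟨g, hgN⟩) := by
      push_cast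
      exact ideal_mul_right hM (ideal_mul_right hM (ideal_p hM) (ring_natCast hM m))
        (centralChar_ring hM θ _)
    simpa using ideal_add hM (hcong χ θ hθ hne) h2
  set CGg := Subgroup.centralizer ({g} : Set G)
  set CNg := Subgroup.centralizer ({(⟨g, hgN⟩ : N)} : Set N)
  have hcard : t * Nat.card CGg = p ^ k * Nat.card CNg := by
    have h1 := CGg.card_mul_index
    have h2 := CNg.card_mul_index
    have h3 := N.card_mul_index
    rw [ht] at h1
    rw [hidx] at h3
    have h4 : CNg.index * (t * Nat.card CGg) = CNg.index * (p ^ k * Nat.card CNg) := by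
      calc CNg.index * (t * Nat.card CGg) = Nat.card CGg * (t * CNg.index) := by ring
        _ = Nat.card N * p ^ k := by rw [h1, h3]
        _ = _ := by rw [← h2]; ring
    exact Nat.eq_of_mul_eq_mul_left (Nat.pos_of_ne_zero Subgroup.index_ne_zero_of_finite) h4
  have ht0 : t ≠ 0 := fun h => hpt (h ▸ dvd_zero p)
  have hv : (Nat.card CGg).factorization p = k + (Nat.card CNg).factorization p := by
    have h := congrArg (fun n : ℕ => n.factorization p) hcard
    simp only [Nat.factorization_mul ht0 Nat.card_pos.ne',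
      Nat.factorization_mul (pow_ne_zero k (Fact.out : p.Prime).ne_zero) Nat.card_pos.ne',
      Finsupp.add_apply, (Fact.out : p.Prime).factorization_pow, Finsupp.single_eq_same,
      Nat.factorization_eq_zero_of_not_dvd hpt, zero_add] at h
    exact h
  have hPC : ∀ u ∈ P, u ∈ CGg := hPsub
  have hdvd : Nat.card (P ⊓ N : Subgroup G) ∣ Nat.card CNg := by
    let f : (P ⊓ N : Subgroup G) →* CNg :=
      { toFun := fun u => ⟨⟨u, u.2.2⟩, Subgroup.mem_centralizer_singleton_iff.2 (Subtype.ext
          (Subgroup.mem_centralizer_singleton_iff.1 (hPC u u.2.1)))⟩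
        map_one' := rfl
        map_mul' := fun _ _ => rfl }
    exact Subgroup.card_dvd_of_injective f fun a b h =>
      Subtype.ext (congrArg (fun x : CNg => ((x : N) : G)) h)
  obtain ⟨j, hj⟩ := (hPpg.to_le (inf_le_left : P ⊓ N ≤ P)).exists_card_eq
  have hjle : j ≤ (Nat.card CNg).factorization p :=
    ((Fact.out : p.Prime).pow_dvd_iff_le_factorization Nat.card_pos.ne').1 (hj ▸ hdvd)
  have hrel : N.relIndex P * Nat.card (P ⊓ N : Subgroup G) = Nat.card P := by
    have h := Subgroup.relIndex_mul_relIndex ⊥ (P ⊓ N) P bot_le inf_le_left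
    rw [Subgroup.relIndex_bot_left, Subgroup.relIndex_bot_left] at h
    rw [show (P ⊓ N).relIndex P = N.relIndex P by
      rw [inf_comm, Subgroup.inf_relIndex_right]] at h
    rw [mul_comm]; exact h
  rw [hj, hcP, hv, pow_add] at hrel
  have hle : p ^ k ≤ N.relIndex P := by
    have hp := (Fact.out : p.Prime).pos
    refine Nat.le_of_mul_le_mul_right ?_ (pow_pos hp j)
    rw [hrel]
    exact Nat.mul_le_mul_left _ (Nat.pow_le_pow_right hp hjle)
  have h5 := Subgroup.relIndex_mul_index (H := N) (K := N ⊔ P) le_sup_left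
  rw [sup_comm, Subgroup.relIndex_sup_right, hidx, sup_comm] at h5
  have h6 : (N ⊔ P).index ≠ 0 := Subgroup.index_ne_zero_of_finite
  have h7 : p ^ k * (N ⊔ P).index ≤ p ^ k * 1 := by
    rw [mul_one]
    exact le_trans (Nat.mul_le_mul_right _ hle) h5.le
  have := Nat.le_of_mul_le_mul_left h7 (pow_pos (Fact.out : p.Prime).pos k)
  exact Subgroup.index_eq_one.1 (by omega)

theorem covered_of_coeff_eq (hM : IsPModular p M) [Fintype N] {c : Set (IrrCharacter N)}
    (hc : IsPBlock M c) {B : Set (IrrCharacter G)} (hB : IsPBlock M B)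
    (h : blockCoeff B = subgroupBlockCoeff N c) :
    ∃ χ ∈ B, ∃ θ ∈ c, classInner (fun n : N => (χ : G → ℂ) n) (θ : N → ℂ) ≠ 0 :=
  covered_of_ne N hM hc hB (by
    rw [show eb hM B = sn N hM c from congrArg (redAlg hM) h, sn_mul_self N hM hc]
    exact sn_ne_zero N hM hc)

/-- In a stable situation every defect group meets the normal subgroup in a defect group. -/
theorem inf_defect_of_stable [Fact p.Prime] (hM : IsPModular p M) [Fintype N]
    {c : Set (IrrCharacter N)} (hc : IsPBlock M c) (hst : ∀ x : G, StabilizesBlock N c x)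
    {B : Set (IrrCharacter G)} (hB : IsPBlock M B)
    (hcov : ∃ χ ∈ B, ∃ θ ∈ c, classInner (fun n : N => (χ : G → ℂ) n) (θ : N → ℂ) ≠ 0)
    {P : Subgroup G} (hP : IsDefectGroup p M B P) :
    IsDefectGroup p M c ((P ⊓ N).subgroupOf N) := by
  obtain ⟨c', hc', -, hcov', hD⟩ := exists_stable_covered N hM hB hP
  obtain ⟨x, rfl⟩ := exists_cb_eq N hM hB hc hc' hcov hcov'
  rwa [cb_eq_self N hM hc (hst x)] at hD

end Cfsg.Agent.Char.Knorr
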