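import Cfsg.Agent.Lib.Char.AlperinBlocks
import Cfsg.Agent.Lib.Char.InvariantConstituent
import Cfsg.Agent.Lib.Char.InductionRing
import Cfsg.Agent.Lib.Char.Complete
import Mathlib.GroupTheory.RegularWreathProduct

/-!
Regular wreath products of monomial groups by groups of prime order are monomial, and every finite
soluble group embeds in a monomial group.
-/

set_option autoImplicit false
set_option linter.unusedSectionVars false
set_option linter.style.haveILetI false

namespace Cfsg.Agent.Char.MWreath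

open scoped ComplexConjugate
open Cfsg RegularWreathProduct Cfsg.Agent.Char Cfsg.Agent.Char.Brauer Cfsg.Agent.Char.InvAbove

universe u

/-- All irreducible characters are monomial. -/
def IsM (G : Type u) [Group G] [Fintype G] : Prop :=
  ∀ χ : G → ℂ, IsIrrCharacter G χ →
    ∃ (H : Subgroup G) (lam : ↥H →* ℂˣ), χ = indFun H (fun h => (lam h : ℂ))

attribute [local instance] _root_.Classical.propDecidable

variable {M Q : Type u} [Group M] [Group Q]

/-- The base group. -/
abbrev base (M Q : Type u) [Group M] [Group Q] : Subgroup (M ≀ᵣ Q) := (rightHom : M ≀ᵣ Q →* Q).ker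

theorem base_right (b : base M Q) : (b : M ≀ᵣ Q).right = 1 := b.2

theorem base_left_mul (a b : base M Q) :
    ((a * b : base M Q) : M ≀ᵣ Q).left = (a : M ≀ᵣ Q).left * (b : M ≀ᵣ Q).left := by
  funext x
  rw [Subgroup.coe_mul, mul_left, base_right a]
  simp

theorem base_left_inv (a : base M Q) :
    ((a⁻¹ : base M Q) : M ≀ᵣ Q).left = ((a : M ≀ᵣ Q).left)⁻¹ := by
  funext x
  rw [Subgroup.coe_inv, inv_left, base_right a]
  simp

/-- The base group as functions. -/
def baseEquiv (M Q : Type u) [Group M] [Group Q] : base M Q ≃ (Q → M) where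
  toFun b := (b : M ≀ᵣ Q).left
  invFun f := ⟨⟨f, 1⟩, rfl⟩
  left_inv b := Subtype.ext (RegularWreathProduct.ext rfl (base_right b).symm)
  right_inv _ := rfl

variable [Fintype M] [Fintype Q] [Fintype (M ≀ᵣ Q)]

theorem card_base [Fintype (base M Q)] : Nat.card (base M Q) = Nat.card M ^ Nat.card Q := by
  rw [Nat.card_congr (baseEquiv M Q), Nat.card_fun]

/-- The product character of a family. -/
noncomputable def prodChar (ψ : Q → M → ℂ) : base M Q → ℂ :=
  fun b => ∏ x : Q, ψ x ((b : M ≀ᵣ Q).left x)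

theorem classInner_prodChar [Fintype (base M Q)] (ψ φ : Q → M → ℂ) :
    classInner (prodChar ψ) (prodChar φ) = ∏ x : Q, classInner (ψ x) (φ x) := by
  simp only [classInner, prodChar, map_prod, ← Finset.prod_mul_distrib]
  rw [Finset.prod_mul_distrib, Finset.prod_const, Finset.card_univ, card_base, ← Nat.card_eq_fintype_card,
    Nat.cast_pow, inv_pow]
  congr 1
  rw [Fintype.prod_sum]
  exact Fintype.sum_equiv (baseEquiv M Q) _ _ fun b => rfl

/-- The product of a family of subgroups. -/
def prodSub (H : Q → Subgroup M) : Subgroup (base M Q) where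
  carrier := {b | ∀ x, (b : M ≀ᵣ Q).left x ∈ H x}
  one_mem' := fun x => one_mem (H x)
  mul_mem' := fun {a b} ha hb x => by rw [base_left_mul]; exact mul_mem (ha x) (hb x)
  inv_mem' := fun {a} ha x => by rw [base_left_inv]; exact inv_mem (ha x)

/-- The product of a family of linear characters. -/
noncomputable def prodLin (H : Q → Subgroup M) (l : ∀ x, H x →* ℂˣ) : prodSub H →* ℂˣ where
  toFun b := ∏ x : Q, l x ⟨_, b.2 x⟩
  map_one' := Finset.prod_eq_one fun x _ => map_one (l x)
  map_mul' a b := by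
    rw [← Finset.prod_mul_distrib]
    refine Finset.prod_congr rfl fun x _ => ?_
    rw [← map_mul]
    exact congrArg (l x) (Subtype.ext (congrFun (base_left_mul _ _) x))

theorem indFun_prod [Fintype (base M Q)] (H : Q → Subgroup M) (l : ∀ x, H x →* ℂˣ) :
    indFun (prodSub H) (fun b => (prodLin H l b : ℂ)) =
      prodChar fun x => indFun (H x) (fun h => (l x h : ℂ)) := by
  funext b
  simp only [prodChar, indFun]
  rw [Finset.prod_mul_distrib, Finset.prod_inv_distrib, ← Nat.cast_prod]
  congr 2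
  · rw [Nat.cast_inj, ← Nat.card_pi]
    exact Nat.card_congr
      { toFun := fun b x => ⟨_, b.2 x⟩
        invFun := fun f => ⟨(baseEquiv M Q).symm fun x => (f x : M), fun x => (f x).2⟩
        left_inv := fun b => Subtype.ext ((baseEquiv M Q).symm_apply_apply b.1)
        right_inv := fun f => rfl }
  · rw [Fintype.prod_sum]
    refine Fintype.sum_equiv (baseEquiv M Q) _ _ fun z => ?_
    have hz : ((z⁻¹ * b * z : base M Q) : M ≀ᵣ Q).left =
        fun x => ((z : M ≀ᵣ Q).left x)⁻¹ * (b : M ≀ᵣ Q).left x * (z : M ≀ᵣ Q).left x := by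
      funext x
      rw [base_left_mul, base_left_mul, base_left_inv]
      rfl
    by_cases h : z⁻¹ * b * z ∈ prodSub H
    · rw [extendByZero_of_mem _ h]
      show ((∏ x : Q, l x ⟨_, h x⟩ : ℂˣ) : ℂ) = _
      rw [Units.coe_prod]
      refine Finset.prod_congr rfl fun x _ => ?_
      dsimp only [baseEquiv, Equiv.coe_fn_mk]
      rw [extendByZero_of_mem _ (show ((z : M ≀ᵣ Q).left x)⁻¹ * (b : M ≀ᵣ Q).left x * (z : M ≀ᵣ Q).left x ∈ H x
        from congrFun hz x ▸ h x)]
      exact congrArg (fun t => (l x t : ℂ)) (Subtype.ext (congrFun hz x))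
    · rw [extendByZero_not_mem _ h]
      obtain ⟨x, hx⟩ : ∃ x, ((z : M ≀ᵣ Q).left x)⁻¹ * (b : M ≀ᵣ Q).left x * (z : M ≀ᵣ Q).left x ∉ H x := by
        by_contra hc
        push Not at hc
        exact h fun x => (congrFun hz x).symm ▸ hc x
      exact (Finset.prod_eq_zero (Finset.mem_univ x) (extendByZero_not_mem (H := H x) (fun h => (l x h : ℂ)) hx)).symm

/-- The irreducible characters of the base group. -/
theorem prodChar_irr [Fintype (base M Q)] (hM : IsM M) (ψ : Q → IrrCharacter M) :
    IsIrrCharacter (base M Q) (prodChar fun x => (ψ x : M → ℂ)) := by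
  choose H l hl using fun x => hM (ψ x : M → ℂ) (ψ x).2
  have hc : IsCharacter (base M Q) (prodChar fun x => (ψ x : M → ℂ)) := by
    rw [funext hl, ← indFun_prod]
    exact isCharacter_indFun _ (IsIrr.isCharacter (isIrr_linear _))
  rcases IsGenChar.norm_one (IsGenChar.of_isCharacter hc)
    (by rw [classInner_prodChar]; exact Finset.prod_eq_one fun x _ => classInner_self_irr (ψ x).2) with h | h
  · exact h
  · obtain ⟨d, hd, hd'⟩ := IsIrr.one_eq_pos h
    obtain ⟨n, hn⟩ := IsChar.one_eq_nat hc
    rw [Pi.neg_apply, hn] at hd'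
    have h2 : ((n + d : ℕ) : ℂ) = 0 := by push_cast; rw [← hd']; ring
    have := Nat.cast_eq_zero.1 h2
    omega

theorem prodChar_injective [Fintype (base M Q)] {ψ φ : Q → IrrCharacter M}
    (h : prodChar (fun x => (ψ x : M → ℂ)) = prodChar (fun x => (φ x : M → ℂ))) : ψ = φ := by
  funext x
  by_contra hne
  have h1 := classInner_prodChar (Q := Q) (fun x => (ψ x : M → ℂ)) (fun x => (φ x : M → ℂ))
  rw [← h, classInner_prodChar, Finset.prod_eq_one fun y _ => classInner_self_irr (ψ y).2,
    Finset.prod_eq_zero (Finset.mem_univ x)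
      (classInner_irr_ne (ψ x).2 (φ x).2 fun e => hne (Subtype.ext e))] at h1
  exact one_ne_zero h1

theorem exists_prodChar [Fintype (base M Q)] (hM : IsM M) {θ : base M Q → ℂ}
    (hθ : IsIrrCharacter (base M Q) θ) :
    ∃ ψ : Q → IrrCharacter M, θ = prodChar fun x => (ψ x : M → ℂ) := by
  by_contra hc
  push Not at hc
  let f : (Q → IrrCharacter M) → IrrCharacter (base M Q) := fun ψ => ⟨_, prodChar_irr hM ψ⟩
  choose d hdpos hd using fun χ : IrrCharacter (base M Q) => IsIrr.one_eq_pos χ.2
  have hall : ∑ χ : IrrCharacter (base M Q), d χ ^ 2 = Nat.card (base M Q) := by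
    have h := sum_degree_sq (G := base M Q)
    simp only [hd] at h
    exact_mod_cast h
  have himg : ∑ χ ∈ Finset.univ.image f, d χ ^ 2 = Nat.card (base M Q) := by
    rw [Finset.sum_image fun a _ b _ h => prodChar_injective (congrArg Subtype.val h)]
    have h : ∑ ψ : Q → IrrCharacter M, ((f ψ : base M Q → ℂ) 1) ^ 2 = (Nat.card (base M Q) : ℂ) := by
      have e : ∀ ψ : Q → IrrCharacter M, ((f ψ : base M Q → ℂ) 1) ^ 2 =
          ∏ x : Q, ((ψ x : M → ℂ) 1) ^ 2 := fun ψ => by
        show (∏ x : Q, (ψ x : M → ℂ) 1) ^ 2 = _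
        rw [← Finset.prod_pow]
      simp only [e]
      rw [← Fintype.prod_sum (fun _ : Q => fun χ : IrrCharacter M => ((χ : M → ℂ) 1) ^ 2),
        Finset.prod_const, sum_degree_sq, card_base, Finset.card_univ, ← Nat.card_eq_fintype_card,
        Nat.cast_pow]
    simp only [hd] at h
    exact_mod_cast h
  have hlt : ∑ χ ∈ Finset.univ.image f, d χ ^ 2 < ∑ χ : IrrCharacter (base M Q), d χ ^ 2 := by
    refine Finset.sum_lt_sum_of_subset (Finset.subset_univ _) (i := ⟨θ, hθ⟩) (Finset.mem_univ _) ?_
      (pow_pos (hdpos _) 2) fun _ _ _ => Nat.zero_le _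
    simp only [Finset.mem_image, Finset.mem_univ, true_and, not_exists]
    exact fun ψ h => hc ψ (congrArg Subtype.val h).symm
  omega

/-- The subgroup inducing to an extension of an invariant character. -/
def diagSub (H : Subgroup M) : Subgroup (M ≀ᵣ Q) where
  carrier := {w | ∀ x, w.left x ∈ H}
  one_mem' := fun _ => one_mem H
  mul_mem' := fun {a b} ha hb x => mul_mem (ha x) (hb _)
  inv_mem' := fun {a} ha x => inv_mem (ha _)

/-- Its linear character. -/
noncomputable def diagLin (H : Subgroup M) (l : H →* ℂˣ) : diagSub (Q := Q) H →* ℂˣ where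
  toFun w := ∏ x : Q, l ⟨_, w.2 x⟩
  map_one' := Finset.prod_eq_one fun _ _ => map_one l
  map_mul' a b := by
    have e : ∏ x : Q, l ⟨_, b.2 ((a : M ≀ᵣ Q).right⁻¹ * x)⟩ = ∏ x : Q, l ⟨_, b.2 x⟩ :=
      Fintype.prod_equiv (Equiv.mulLeft (a : M ≀ᵣ Q).right⁻¹) _ _ fun x => rfl
    show ∏ x : Q, l ⟨((a * b : diagSub H) : M ≀ᵣ Q).left x, _⟩ = _
    rw [← e, ← Finset.prod_mul_distrib]
    refine Finset.prod_congr rfl fun x _ => ?_
    rw [← map_mul]
    exact congrArg l (Subtype.ext rfl)

theorem res_indFun_diag (H : Subgroup M) (l : H →* ℂˣ) (b : base M Q) :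
    indFun (diagSub (Q := Q) H) (fun w => (diagLin H l w : ℂ)) (b : M ≀ᵣ Q) =
      prodChar (fun _ : Q => indFun H (fun h => (l h : ℂ))) b := by
  simp only [prodChar, indFun]
  set g : M → M → ℂ := fun a z => extendByZero H (fun h => (l h : ℂ)) (z⁻¹ * a * z) with hg
  have hw : ∀ w : M ≀ᵣ Q, extendByZero (diagSub H) (fun w => (diagLin H l w : ℂ)) (w⁻¹ * (b : M ≀ᵣ Q) * w) =
      ∏ y : Q, g ((b : M ≀ᵣ Q).left y) (w.left y) := by
    intro w
    have hl : ∀ x, (w⁻¹ * (b : M ≀ᵣ Q) * w).left x =
        (w.left (w.right * x))⁻¹ * (b : M ≀ᵣ Q).left (w.right * x) * w.left (w.right * x) := by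
      intro x
      simp [base_right b, mul_assoc]
    rw [← Fintype.prod_equiv (Equiv.mulLeft w.right)
      (fun x => g ((b : M ≀ᵣ Q).left (w.right * x)) (w.left (w.right * x))) _ (fun x => rfl)]
    by_cases h : w⁻¹ * (b : M ≀ᵣ Q) * w ∈ diagSub H
    · rw [extendByZero_of_mem _ h]
      show ((∏ x : Q, l ⟨_, h x⟩ : ℂˣ) : ℂ) = _
      rw [Units.coe_prod]
      refine Finset.prod_congr rfl fun x _ => ?_
      simp only [hg]
      rw [extendByZero_of_mem _ (hl x ▸ h x)]
      exact congrArg (fun t => (l t : ℂ)) (Subtype.ext (hl x))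
    · rw [extendByZero_not_mem _ h]
      obtain ⟨x, hx⟩ : ∃ x,
          (w.left (w.right * x))⁻¹ * (b : M ≀ᵣ Q).left (w.right * x) * w.left (w.right * x) ∉ H := by
        by_contra hc
        push Not at hc
        exact h fun x => (hl x).symm ▸ hc x
      exact (Finset.prod_eq_zero (Finset.mem_univ x) (extendByZero_not_mem (H := H) (fun h => (l h : ℂ)) hx)).symm
  have hK : Nat.card (diagSub (Q := Q) H) = Nat.card H ^ Nat.card Q * Nat.card Q := by
    rw [← Nat.card_fun, ← Nat.card_prod]
    exact Nat.card_congr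
      { toFun := fun w => (fun x => ⟨_, w.2 x⟩, (w : M ≀ᵣ Q).right)
        invFun := fun q => ⟨⟨fun x => (q.1 x : M), q.2⟩, fun x => (q.1 x).2⟩
        left_inv := fun w => rfl
        right_inv := fun q => rfl }
  rw [Finset.sum_congr rfl fun w _ => hw w, Finset.prod_mul_distrib, Fintype.prod_sum,
    Finset.prod_const, Finset.card_univ, ← Nat.card_eq_fintype_card (α := Q),
    Fintype.sum_equiv (equivProd M Q) (fun w => ∏ y : Q, g ((b : M ≀ᵣ Q).left y) (w.left y))
      (fun q => ∏ y : Q, g ((b : M ≀ᵣ Q).left y) (q.1 y)) (fun w => rfl),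
    Fintype.sum_prod_type, hK]
  simp only [Finset.sum_const, Finset.card_univ, ← Nat.card_eq_fintype_card, nsmul_eq_mul,
    ← Finset.mul_sum]
  push_cast
  rw [mul_inv, inv_pow]
  have hq : (Nat.card Q : ℂ) ≠ 0 := Nat.cast_ne_zero.2 Nat.card_pos.ne'
  field_simp
  simp only [hg]

theorem indFun_mul_linear {G : Type u} [Group G] [Fintype G] (K : Subgroup G) (θ : K → ℂ) (μ : G →* ℂˣ) :
    indFun K (fun k : K => (μ k : ℂ) * θ k) = fun g => (μ g : ℂ) * indFun K θ g := by
  funext g
  simp only [indFun]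
  rw [mul_left_comm (μ g : ℂ)]
  congr 1
  rw [Finset.mul_sum]
  refine Finset.sum_congr rfl fun x _ => ?_
  have e : μ (x⁻¹ * g * x) = μ g := by
    rw [map_mul, map_mul, mul_comm, ← mul_assoc, ← map_mul, mul_inv_cancel, map_one, one_mul]
  by_cases h : x⁻¹ * g * x ∈ K
  · rw [extendByZero_of_mem _ h, extendByZero_of_mem _ h, ← e]
  · rw [extendByZero_not_mem _ h, extendByZero_not_mem _ h, mul_zero]

/-- The wreath product of a monomial group by a group of prime order is monomial. -/
theorem isM_wreath (hM : IsM M) (hQ : (Nat.card Q).Prime) : IsM (M ≀ᵣ Q) := by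
  intro χ hχ
  haveI := Fintype.ofFinite (base M Q)
  obtain ⟨θ, hθ⟩ := IsChar.exists_constituent' (IsChar.res (IsIrr.isCharacter hχ) (base M Q))
    (show χ ((1 : base M Q) : M ≀ᵣ Q) ≠ 0 by rw [Subgroup.coe_one]; exact IsIrr.one_ne_zero hχ)
  obtain ⟨ψ, hψ⟩ := exists_prodChar hM θ.2
  have hidx : (base M Q).index = Nat.card Q := by
    rw [Subgroup.index_ker, MonoidHom.range_eq_top.2 fun q => ⟨inl q, rfl⟩, Subgroup.card_top]
  by_cases hinv : inertia (base M Q) (θ : base M Q → ℂ) = base M Q
  · have hi := indFun_irr_of_inertia_eq (base M Q) θ.2 hinv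
    have hne : classInner χ (indFun (base M Q) (θ : base M Q → ℂ)) ≠ 0 := by
      rw [classInner_indFun_right (base M Q) _ (IsIrr.classFun hχ)]
      exact hθ
    have e : χ = indFun (base M Q) (θ : base M Q → ℂ) :=
      by_contra fun hne' => hne (classInner_irr_ne hχ hi hne')
    choose H l hl using fun x => hM (ψ x : M → ℂ) (ψ x).2
    refine ⟨(prodSub H).map (base M Q).subtype, (prodLin H l).comp
      ((prodSub H).equivMapOfInjective (base M Q).subtype (base M Q).subtype_injective).symm.toMonoidHom, ?_⟩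
    rw [e, hψ, funext hl, ← indFun_prod, indFun_indFun]
    rfl
  · have hle : base M Q ≤ inertia (base M Q) (θ : base M Q → ℂ) :=
      le_inertia (base M Q) (IsIrr.classFun θ.2)
    have htop : inertia (base M Q) (θ : base M Q → ℂ) = ⊤ := by
      have h := Subgroup.relIndex_mul_index hle
      rw [hidx] at h
      rcases (Nat.dvd_prime hQ).1 (Dvd.intro_left _ h) with h1 | h1
      · exact Subgroup.index_eq_one.1 h1
      · exfalso
        refine hinv (le_antisymm (Subgroup.relIndex_eq_one.1 ?_) hle)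
        rw [h1] at h
        exact Nat.eq_of_mul_eq_mul_right hQ.pos (by rw [h, one_mul])
    have hconst : ∀ r x, ψ (r * x) = ψ x := by
      intro r x
      have h1 : conjN (base M Q) (inl r) (θ : base M Q → ℂ) = θ :=
        (mem_inertia (base M Q)).1 (htop ▸ Subgroup.mem_top _)
      rw [hψ] at h1
      have h2 : prodChar (fun y => (ψ (r * y) : M → ℂ)) = prodChar (fun y => (ψ y : M → ℂ)) := by
        conv_rhs => rw [← h1]
        funext b
        rw [conjN_apply]
        refine Fintype.prod_equiv (Equiv.mulLeft r) _ _ fun y => ?_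
        show (ψ (r * y) : M → ℂ) ((b : M ≀ᵣ Q).left y) = (ψ (r * y) : M → ℂ) _
        congr 1
        simp
      exact congrFun (prodChar_injective h2) x
    obtain ⟨H, l, hl⟩ := hM (ψ 1 : M → ℂ) (ψ 1).2
    set X := indFun (diagSub (Q := Q) H) (fun w => (diagLin H l w : ℂ)) with hX
    have hXθ : (fun b : base M Q => X b) = (θ : base M Q → ℂ) := by
      funext b
      rw [hX, res_indFun_diag, hψ, ← hl]
      have : (fun x => (ψ x : M → ℂ)) = fun _ : Q => (ψ 1 : M → ℂ) := funext fun x => by
        rw [show ψ x = ψ 1 by simpa using hconst x 1]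
      rw [this]
    have hXirr : IsIrrCharacter (M ≀ᵣ Q) X :=
      Alperin.isIrr_of_res (isCharacter_indFun _ (IsIrr.isCharacter (isIrr_linear _))) (base M Q).subtype
        (show IsIrrCharacter (base M Q) (fun b : base M Q => X b) from hXθ ▸ θ.2)
    haveI : IsCyclic Q := by
      haveI := Fact.mk hQ
      exact isCyclic_of_prime_card (p := Nat.card Q) rfl
    have hab : ∀ a b : M ≀ᵣ Q, a * b * a⁻¹ * b⁻¹ ∈ base M Q := fun a b => by
      show (a * b * a⁻¹ * b⁻¹).right = 1
      simp only [mul_right, inv_right]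
      rw [IsCyclic.commGroup.mul_comm a.right b.right]
      group
    obtain ⟨μ, -, hμ⟩ := exists_linear_twist (base M Q) hab hXirr hχ θ.2
      (by rw [hXθ, classInner_self_irr θ.2]; exact one_ne_zero) hθ
    refine ⟨diagSub H, (μ.comp (diagSub H).subtype) * diagLin H l, ?_⟩
    rw [hμ, hX, ← indFun_mul_linear]
    congr 1

theorem isM_subsingleton {G : Type u} [Group G] [Fintype G] [Subsingleton G] : IsM G := by
  intro χ hχ
  refine ⟨⊤, 1, funext fun g => ?_⟩
  obtain ⟨d, hd, hd'⟩ := IsIrr.one_eq_pos hχ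
  have h1 := classInner_self_irr hχ
  rw [Subsingleton.elim g 1]
  simp only [classInner, indFun] at h1 ⊢
  rw [Fintype.sum_subsingleton _ (1 : G), hd', map_natCast] at h1
  rw [Fintype.sum_subsingleton _ (1 : G), extendByZero_of_mem _ (Subgroup.mem_top _), hd']
  simp only [Nat.card_eq_one_iff_unique.2 ⟨inferInstance, inferInstance⟩, Nat.cast_one, inv_one, one_mul,
    MonoidHom.one_apply, Units.val_one] at h1 ⊢
  have h2 : d * d = 1 := by exact_mod_cast h1
  rw [Nat.eq_one_of_mul_eq_one_right h2, Nat.cast_one]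

/-- Every finite soluble group embeds in a monomial group. -/
theorem exists_embedding : ∀ (n : ℕ) (G : Type u) [Group G] [Finite G], Nat.card G = n → Group.IsSolvable G →
    ∃ (W : Type u) (_ : Group W) (_ : Fintype W), IsM W ∧ ∃ f : G →* W, Function.Injective f := by
  intro n
  induction n using Nat.strong_induction_on with
  | _ n ih =>
  intro G _ _ hn hsol
  by_cases hG : Subsingleton G
  · exact ⟨G, inferInstance, Fintype.ofFinite G, @isM_subsingleton G _ (Fintype.ofFinite G) hG, MonoidHom.id G,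
      Function.injective_id⟩
  rw [not_subsingleton_iff_nontrivial] at hG
  obtain ⟨N, hN, hp⟩ : ∃ N : Subgroup G, N.Normal ∧ N.index.Prime := by
    have hlt : commutator G < ⊤ := Group.IsSolvable.commutator_lt_top_of_nontrivial G
    obtain ⟨N, -, hmax⟩ := Finite.exists_le_maximal (p := fun K : Subgroup G => K ≠ ⊤ ∧ commutator G ≤ K) (a := commutator G)
      ⟨hlt.ne, le_rfl⟩
    have hN := hmax.prop
    haveI : N.Normal := ⟨fun k hk g => by
      have h1 : g * k * g⁻¹ * k⁻¹ ∈ N := hN.2 (Subgroup.commutator_mem_commutator (Subgroup.mem_top g) (Subgroup.mem_top k))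
      simpa using mul_mem h1 hk⟩
    refine ⟨N, inferInstance, ?_⟩
    obtain ⟨p, hp, hpd⟩ := Nat.exists_prime_and_dvd (n := N.index) (by rw [Ne, Subgroup.index_eq_one]; exact hN.1)
    haveI := Fact.mk hp
    obtain ⟨x, hx⟩ := exists_prime_orderOf_dvd_card' (G := G ⧸ N) p hpd
    have hle : N ≤ (Subgroup.zpowers x).comap (QuotientGroup.mk' N) := fun k hk => by
      rw [Subgroup.mem_comap, (QuotientGroup.mk'_apply N k).trans ((QuotientGroup.eq_one_iff k).2 hk)]
      exact one_mem _
    have htop : (Subgroup.zpowers x).comap (QuotientGroup.mk' N) = ⊤ := by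
      by_contra hne
      have h1 := hmax.2 (y := (Subgroup.zpowers x).comap (QuotientGroup.mk' N)) ⟨hne, hN.2.trans hle⟩ hle
      have h2 : x = 1 := by
        obtain ⟨k, rfl⟩ := QuotientGroup.mk'_surjective N x
        exact (QuotientGroup.eq_one_iff k).2 (h1 (Subgroup.mem_zpowers _))
      rw [h2, orderOf_one] at hx
      exact hp.one_lt.ne hx
    have hall : Subgroup.zpowers x = ⊤ := by
      rw [← Subgroup.map_comap_eq_self_of_surjective (QuotientGroup.mk'_surjective N) (Subgroup.zpowers x), htop,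
        Subgroup.map_top_of_surjective _ (QuotientGroup.mk'_surjective N)]
    rw [Subgroup.index_eq_card, ← Subgroup.card_top, ← hall, Nat.card_zpowers, hx]
    exact hp
  have hlt : Nat.card N < n := by
    rw [← hn, ← Subgroup.card_mul_index N]
    exact lt_mul_of_one_lt_right Nat.card_pos hp.one_lt
  obtain ⟨W, _, _, hW, f, hf⟩ := ih _ hlt N rfl inferInstance
  haveI : Fintype (G ⧸ N) := Fintype.ofFinite _
  haveI : Fintype (W ≀ᵣ (G ⧸ N)) := Fintype.ofFinite _
  refine ⟨W ≀ᵣ (G ⧸ N), inferInstance, inferInstance,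
    isM_wreath hW (by rwa [← Subgroup.index_eq_card]), ?_⟩
  let t : G ⧸ N → G := Quotient.out
  have hmem : ∀ (g : G) (x : G ⧸ N), (t x)⁻¹ * g * t ((g : G ⧸ N)⁻¹ * x) ∈ N := fun g x => by
    rw [← QuotientGroup.eq_one_iff]
    simp [t]
  refine ⟨{ toFun := fun g => ⟨fun x => f ⟨_, hmem g x⟩, (g : G ⧸ N)⟩
            map_one' := RegularWreathProduct.ext (funext fun x => by
              show f _ = 1
              rw [← map_one f]
              exact congrArg f (Subtype.ext (by simp [t]))) rfl
            map_mul' := fun a b => RegularWreathProduct.ext (funext fun x => by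
              show f _ = f _ * f _
              rw [← map_mul]
              exact congrArg f (Subtype.ext (by
                show (t x)⁻¹ * (a * b) * t (((a * b : G) : G ⧸ N)⁻¹ * x) = _ * _
                simp [mul_assoc]))) rfl }, fun a b h => ?_⟩
  have h1 : (a : G ⧸ N) = (b : G ⧸ N) := congrArg RegularWreathProduct.right h
  have h2 := congrArg Subtype.val (hf (congrFun (congrArg RegularWreathProduct.left h) 1))
  simp only [h1] at h2
  exact mul_left_cancel (mul_right_cancel h2)

end Cfsg.Agent.Char.MWreath
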