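import Cfsg.Agent.Lib.Char.MajorHeight

/-!
Brauer's bound for 2-blocks with a major subsection of rank at most three, or of corank at most
three.
-/

open scoped ComplexConjugate

namespace Cfsg.Agent.Char.Spec

open Cfsg.Agent.Block Cfsg.Agent.Char.BP

set_option linter.unusedSectionVars false
set_option linter.style.haveILetI false
set_option maxHeartbeats 1600000

universe u

variable {G : Type u} [Group G] [Fintype G] {M : Ideal AlgInt} {B : Set (IrrCharacter G)}

/-- What the counting argument needs about a major 2-subsection. -/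
theorem major_setup (hM : IsPModular 2 M) {a : BrauerPairIdx G} {y : G}
    (hy : ∃ k, orderOf y = 2 ^ k) (hay : a.1 = Subgroup.zpowers y) (haB : OfB 2 M B a)
    (hd : blockDefect 2 a.2 = blockDefect 2 B) [DecidablePred (· ∈ B)] [DecidableEq a.1]
    [Fintype a.1] :
    ∃ (r : IrrCharacter G → a.1 → ℝ) (c : IrrCharacter G → ℤ),
      0 < (Finset.univ.filter (fun u : a.1 => orderOf u = Nat.card a.1)).card ∧
      (∀ χ u, 0 ≤ r χ u ∧ contrib 2 (blockDefect 2 B) a (u : G) χ χ = r χ u) ∧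
      (∀ χ ∈ B, ∀ u ∈ Finset.univ.filter (fun u : a.1 => orderOf u = Nat.card a.1),
        ∑ η ∈ Finset.univ.filter (· ∈ B),
          Complex.normSq (contrib 2 (blockDefect 2 B) a (u : G) χ η) =
            (2 : ℝ) ^ blockDefect 2 B * r χ u) ∧
      (∀ u ∈ Finset.univ.filter (fun u : a.1 => orderOf u = Nat.card a.1),
        ∑ χ ∈ Finset.univ.filter (· ∈ B), r χ u =
          (2 : ℝ) ^ blockDefect 2 B * (blockRank 2 a.2 : ℝ)) ∧
      (∀ χ ∈ B, ∑ u ∈ Finset.univ.filter (fun u : a.1 => orderOf u = Nat.card a.1), r χ u =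
        ((Finset.univ.filter (fun u : a.1 => orderOf u = Nat.card a.1)).card : ℝ) * (c χ : ℝ)) ∧
      (∀ χ ∈ B, blockHeight 2 B (χ : G → ℂ) = 0 → Odd (c χ)) ∧
      (∀ χ ∈ B, blockHeight 2 B (χ : G → ℂ) ≠ 0 →
        (2 : ℤ) ^ (blockHeight 2 B (χ : G → ℂ) + 1) ∣ c χ) := by
  classical
  set d := blockDefect 2 B with hddef
  set A := Finset.univ.filter (· ∈ B) with hA
  have hcomm : a.1 ≤ CG a.1 := by
    rw [hay]; exact Subgroup.zpowers_le.2 (hay ▸ self_mem_cg hay)
  have hya : y ∈ a.1 := (SetLike.ext_iff.1 hay y).2 (Subgroup.mem_zpowers y)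
  obtain ⟨j, hj⟩ := hy
  have hcardQ : Nat.card a.1 = 2 ^ j := by rw [hay, Nat.card_zpowers, hj]
  have htop : Subgroup.zpowers (⟨y, hya⟩ : a.1) = ⊤ := Subgroup.eq_top_of_card_eq _
    (by rw [Nat.card_zpowers, Subgroup.orderOf_mk, hj, hcardQ])
  have hord : orderOf (⟨y, hya⟩ : a.1) = 2 ^ j := by rw [Subgroup.orderOf_mk, hj]
  haveI : IsCyclic a.1 := ⟨⟨⟨y, hya⟩, fun x =>
    Subgroup.mem_zpowers_iff.1 (by rw [htop]; exact Subgroup.mem_top x)⟩⟩
  letI : CommGroup a.1 := IsCyclic.commGroup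
  set s : Finset a.1 := Finset.univ.filter (fun u => orderOf u = Nat.card a.1) with hs
  have hys : (⟨y, hya⟩ : a.1) ∈ s := by
    simp only [s, Finset.mem_filter, Finset.mem_univ, true_and]
    rw [hord, hcardQ]
  have hgen : ∀ u ∈ s, (∃ k, orderOf (u : G) = 2 ^ k) ∧ a.1 = Subgroup.zpowers (u : G) := by
    intro u hu
    have hu' : orderOf (u : G) = Nat.card a.1 := by
      rw [Subgroup.orderOf_coe]; exact (Finset.mem_filter.1 hu).2
    refine ⟨⟨j, by rw [hu', hcardQ]⟩, ?_⟩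
    exact (Subgroup.eq_of_le_of_card_ge (Subgroup.zpowers_le.2 u.2)
      (by rw [Nat.card_zpowers, hu'])).symm
  choose r hr0 hr using fun (χ : IrrCharacter G) (u : a.1) =>
    contrib_self_nonneg 2 d a (u : G) χ
  have havg : ∀ χ, ∃ c : ℤ, χ ∈ B →
      ∑ u ∈ s, r χ u = (s.card : ℝ) * (c : ℝ) ∧
      (blockHeight 2 B (χ : G → ℂ) = 0 → Odd c) ∧
      (blockHeight 2 B (χ : G → ℂ) ≠ 0 → (2 : ℤ) ^ (blockHeight 2 B (χ : G → ℂ) + 1) ∣ c) := by
    intro χ
    by_cases hχ : χ ∈ B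
    swap
    · exact ⟨0, fun h => absurd h hχ⟩
    obtain ⟨θ, hθ, hθv⟩ := exists_contrib_genChar hM a haB.1.2 hcomm χ χ
    rw [hd] at hθv
    have hθr : ∀ u, conj (θ u) = θ u := fun u => by rw [hθv, hr, Complex.conj_ofReal]
    have hfin : ∀ c : ℤ, ∑ u ∈ s, θ u = (s.card : ℂ) * c →
        ∑ u ∈ s, r χ u = (s.card : ℝ) * (c : ℝ) := fun c hc => by
      refine Complex.ofReal_inj.1 ?_
      push_cast
      rw [← hc]
      exact Finset.sum_congr rfl fun u _ => by rw [hθv, hr]
    by_cases h0 : blockHeight 2 B (χ : G → ℂ) = 0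
    · obtain ⟨α, β, hα, hβ, hαβ⟩ := id hθ
      obtain ⟨m₁, hm₁⟩ := IsChar.one_eq_nat hα
      obtain ⟨m₂, hm₂⟩ := IsChar.one_eq_nat hβ
      set n : ℤ := (m₁ : ℤ) - m₂ with hn
      have h1 : θ 1 = n := by rw [hαβ, Pi.sub_apply, hm₁, hm₂, hn]; push_cast; ring
      have hodd : Odd n := by
        rw [← Int.not_even_iff_odd, even_iff_two_dvd]
        intro hdvd
        have hni : MemLocalIdeal M ((n : ℤ) : ℂ) :=
          (ideal_intCast_iff hM n).2 (by exact_mod_cast hdvd)
        have hdd : MemLocalIdeal M (θ ⟨y, hya⟩ - (n : ℂ)) := by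
          have ha := (ideal_coe_iff hM _).2 (IsChar.sub_degree_mem hα hM ⟨j, hord⟩)
          have hb := (ideal_coe_iff hM _).2 (IsChar.sub_degree_mem hβ hM ⟨j, hord⟩)
          have hab := ideal_sub hM ha hb
          rw [← h1, hαβ]
          simp only [Pi.sub_apply]
          convert hab using 1
          simp only [AddSubgroupClass.coe_sub]
          ring
        refine (contrib_major hM ⟨j, hj⟩ hay haB hd χ χ).2 hχ hχ h0 h0 ?_
        rw [show contrib 2 (blockDefect 2 B) a y χ χ = θ ⟨y, hya⟩ from (hθv ⟨y, hya⟩).symm]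
        simpa using ideal_add hM hdd hni
      obtain ⟨c, hc, hsum⟩ := exists_odd_average hcardQ hθ hθr h1 hodd
      refine ⟨c, fun _ => ⟨hfin c ?_, fun _ => hc, fun h => absurd h0 h⟩⟩
      rw [← hsum]
    · have hdiv := (contrib_height hM ⟨j, hj⟩ hay haB hd (η := χ) hχ).2.2 hχ h0
      rw [Nat.cast_ofNat,
        show contrib 2 (blockDefect 2 B) a y χ χ = θ ⟨y, hya⟩ from (hθv ⟨y, hya⟩).symm] at hdiv
      obtain ⟨c, hc, hsum⟩ := CycloTwo.exists_average hM htop hord hθ (hθr _) hdiv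
      refine ⟨c, fun _ => ⟨hfin c ?_, fun h => absurd h h0, fun _ => hc⟩⟩
      rw [← hsum]
  choose c hc using havg
  have hC0 : (Nat.card (CG a.1) : ℂ) ≠ 0 := Nat.cast_ne_zero.2 Nat.card_pos.ne'
  refine ⟨r, c, Finset.card_pos.2 ⟨_, hys⟩, fun χ u => ⟨hr0 χ u, hr χ u⟩, fun χ _ u hu => ?_,
    fun u hu => ?_, fun χ hχ => (hc χ hχ).1, fun χ hχ h => (hc χ hχ).2.1 h,
    fun χ hχ h => (hc χ hχ).2.2 h⟩
  · obtain ⟨hup, hua⟩ := hgen u hu
    refine Complex.ofReal_inj.1 ?_
    push_cast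
    rw [← hr χ u]
    simp only [← Complex.mul_conj]
    simp only [contrib, map_div₀, map_mul, map_pow, map_natCast, Nat.cast_ofNat]
    calc _ = ((2 : ℂ) ^ (2 * d) / (Nat.card (CG a.1) : ℂ) ^ 2) *
          ∑ η ∈ A, secT 2 (χ : G → ℂ) (η : G → ℂ) a (u : G) *
            conj (secT 2 (χ : G → ℂ) (η : G → ℂ) a (u : G)) := by
          rw [Finset.mul_sum]
          refine Finset.sum_congr rfl fun η _ => ?_
          simp only [map_ofNat]
          field_simp
          ring
      _ = _ := by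
          rw [sum_secT_sq hM hup hua haB χ]
          field_simp
          ring
  · obtain ⟨hup, hua⟩ := hgen u hu
    refine Complex.ofReal_inj.1 ?_
    push_cast
    rw [Finset.sum_congr rfl fun χ _ => (hr χ u).symm]
    simp only [contrib, ← Finset.mul_sum, ← Finset.sum_div]
    rw [sum_sct_sq hM hup hua haB]
    push_cast
    field_simp

/-- The bound at a major subsection of small rank or small corank. -/
theorem major_bound (hM : IsPModular 2 M) {a : BrauerPairIdx G} {y : G}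
    (hy : ∃ k, orderOf y = 2 ^ k) (hay : a.1 = Subgroup.zpowers y) (haB : OfB 2 M B a)
    (hd : blockDefect 2 a.2 = blockDefect 2 B) [DecidablePred (· ∈ B)]
    (hl : blockRank 2 a.2 ≤ 3 ∨ Nat.card B ≤ blockRank 2 a.2 + 3 ∧ blockDefect 2 B ≠ 0) :
    3 * (Finset.univ.filter (· ∈ B)).card ≤
        3 * ((Finset.univ.filter (· ∈ B)).filter
          (fun χ : IrrCharacter G => blockHeight 2 B (χ : G → ℂ) = 0)).card +
        2 * ∑ χ ∈ (Finset.univ.filter (· ∈ B)).filter
          (fun χ : IrrCharacter G => blockHeight 2 B (χ : G → ℂ) ≠ 0),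
            2 ^ blockHeight 2 B (χ : G → ℂ) ∧
      3 * ((Finset.univ.filter (· ∈ B)).filter
          (fun χ : IrrCharacter G => blockHeight 2 B (χ : G → ℂ) = 0)).card +
        2 * ∑ χ ∈ (Finset.univ.filter (· ∈ B)).filter
          (fun χ : IrrCharacter G => blockHeight 2 B (χ : G → ℂ) ≠ 0),
            2 ^ blockHeight 2 B (χ : G → ℂ) ≤ 3 * 2 ^ blockDefect 2 B := by
  classical
  letI := Fintype.ofFinite a.1
  obtain ⟨r, c, hs0, hr, hsq, htr, hc, h0, hpos⟩ := major_setup hM hy hay haB hd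
  set d := blockDefect 2 B with hddef
  set A := Finset.univ.filter (· ∈ B) with hA
  set s : Finset a.1 := Finset.univ.filter (fun u => orderOf u = Nat.card a.1) with hs
  have hAB : ∀ χ, χ ∈ A ↔ χ ∈ B := fun χ => by simp [hA]
  obtain ⟨ψ₀, hψ₀, h00⟩ := exists_height_zero hM haB.2.1
  have hex : ∃ χ ∈ A, blockHeight 2 B (χ : G → ℂ) = 0 := ⟨ψ₀, (hAB _).2 hψ₀, h00⟩
  have hswap : ∀ (χ η : IrrCharacter G) (u : G), Complex.normSq (contrib 2 d a u χ η) =
      Complex.normSq (contrib 2 d a u η χ) := by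
    intro χ η u
    have h : contrib 2 d a u η χ = conj (contrib 2 d a u χ η) := by
      simp only [contrib, secT, map_div₀, map_mul, map_pow, map_natCast, map_sum,
        Complex.conj_conj]
      congr 1
      congr 1
      exact Finset.sum_congr rfl fun v _ => mul_comm _ _
    rw [h, Complex.normSq_conj]
  have hrow : ∀ χ ∈ B, blockHeight 2 B (χ : G → ℂ) = 0 → ∀ η ∈ B,
      (s.card : ℝ) * (4 : ℝ) ^ blockHeight 2 B (η : G → ℂ) ≤
        ∑ u ∈ s, Complex.normSq (contrib 2 d a (u : G) χ η) := fun χ hχ hχ0 η hη => by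
    rw [Finset.sum_congr rfl fun (u : a.1) _ => hswap χ η (u : G)]
    exact row_bound hM hy hay haB hd hχ hχ0 hη
  have hkA : Nat.card B = A.card := by
    rw [Nat.card_eq_fintype_card]
    exact Fintype.card_of_subtype A hAB
  rcases hl with hl | ⟨hl, hd0⟩
  · refine height_bound_core A s hs0 (fun χ => blockHeight 2 B (χ : G → ℂ))
      (fun χ η u => contrib 2 d a (u : G) χ η) r c (Nat.two_pow_pos d)
      (fun χ hχ u hu => by rw [hsq χ ((hAB χ).1 hχ) u hu]; push_cast; ring)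
      (fun u hu => ?_) (fun χ hχ => hc χ ((hAB χ).1 hχ)) (fun χ hχ => h0 χ ((hAB χ).1 hχ))
      (fun χ hχ => hpos χ ((hAB χ).1 hχ))
      (fun χ hχ hχ0 η hη => hrow χ ((hAB χ).1 hχ) hχ0 η ((hAB η).1 hη))
      (fun χ _ η _ u => hswap χ η (u : G)) hex
    rw [htr u hu]
    push_cast
    have : (blockRank 2 a.2 : ℝ) ≤ 3 := by exact_mod_cast hl
    have h2 : (0 : ℝ) < (2 : ℝ) ^ d := by positivity
    nlinarith
  · set N : IrrCharacter G → IrrCharacter G → a.1 → ℂ := fun χ η u =>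
      (if χ = η then (2 : ℂ) ^ d else 0) - contrib 2 d a (u : G) χ η with hN
    set r' : IrrCharacter G → a.1 → ℝ := fun χ u => (2 : ℝ) ^ d - r χ u with hr'
    set c' : IrrCharacter G → ℤ := fun χ => (2 : ℤ) ^ d - c χ with hc'
    refine height_bound_core A s hs0 (fun χ => blockHeight 2 B (χ : G → ℂ)) N r' c'
      (Nat.two_pow_pos d) ?_ (fun u hu => ?_) (fun χ hχ => ?_) (fun χ hχ hχ0 => ?_)
      (fun χ hχ hχp => ?_) (fun χ hχ hχ0 η hη => ?_) (fun χ _ η _ u => ?_) hex
    · intro χ hχ u hu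
      have h1 := hsq χ ((hAB χ).1 hχ) u hu
      rw [← Finset.sum_erase_add _ _ hχ] at h1 ⊢
      have h2 : ∀ η ∈ A.erase χ, Complex.normSq (N χ η u) =
          Complex.normSq (contrib 2 d a (u : G) χ η) := fun η hη => by
        simp only [hN, if_neg (Finset.mem_erase.1 hη).1.symm, zero_sub, Complex.normSq_neg]
      rw [Finset.sum_congr rfl h2]
      simp only [hN, if_pos rfl, if_true, (hr χ u).2, hr'] at h1 ⊢
      rw [show (2 : ℂ) ^ d - (r χ u : ℂ) = (((2 : ℝ) ^ d - r χ u : ℝ) : ℂ) by push_cast; ring,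
        Complex.normSq_ofReal]
      rw [Complex.normSq_ofReal] at h1
      push_cast
      linear_combination h1
    · simp only [hr', Finset.sum_sub_distrib, Finset.sum_const, nsmul_eq_mul, htr u hu]
      push_cast
      have : (A.card : ℝ) ≤ (blockRank 2 a.2 : ℝ) + 3 := by exact_mod_cast hkA ▸ hl
      have h2 : (0 : ℝ) < (2 : ℝ) ^ d := by positivity
      nlinarith
    · simp only [hr', hc', Finset.sum_sub_distrib, Finset.sum_const, nsmul_eq_mul,
        hc χ ((hAB χ).1 hχ)]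
      push_cast
      ring
    · obtain ⟨w, hw⟩ := h0 χ ((hAB χ).1 hχ) hχ0
      obtain ⟨m, hm⟩ := Nat.exists_eq_succ_of_ne_zero hd0
      exact ⟨2 ^ m - w - 1, by simp only [hc', hm, hw, pow_succ]; ring⟩
    · refine dvd_sub (pow_dvd_pow 2 ?_) (hpos χ ((hAB χ).1 hχ) hχp)
      have := Contrib.height_add_two_le hM haB.2.1 ((hAB χ).1 hχ) hχp
      omega
    · by_cases he : χ = η
      · subst he
        have hcne : (c' χ : ℤ) ≠ 0 := by
          obtain ⟨w, hw⟩ := h0 χ ((hAB χ).1 hχ) hχ0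
          obtain ⟨m, hm⟩ := Nat.exists_eq_succ_of_ne_zero hd0
          simp only [hc', hm, hw, pow_succ]
          omega
        have h1 : ∀ u ∈ s, Complex.normSq (N χ χ u) = r' χ u ^ 2 := fun u _ => by
          simp only [hN, if_pos rfl, if_true, (hr χ u).2, hr']
          rw [show (2 : ℂ) ^ d - (r χ u : ℂ) = (((2 : ℝ) ^ d - r χ u : ℝ) : ℂ) by push_cast; ring,
            Complex.normSq_ofReal, sq]
        have h2 := sq_sum_le_card_mul_sum_sq (s := s) (f := fun u => r' χ u)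
        have h3 : ∑ u ∈ s, r' χ u = (s.card : ℝ) * (c' χ : ℝ) := by
          simp only [hr', hc', Finset.sum_sub_distrib, Finset.sum_const, nsmul_eq_mul,
            hc χ ((hAB χ).1 hχ)]
          push_cast
          ring
        rw [hχ0, pow_zero, mul_one, Finset.sum_congr rfl h1]
        rw [h3] at h2
        have h4 : (1 : ℝ) ≤ (c' χ : ℝ) ^ 2 := by
          have : (1 : ℤ) ≤ c' χ ^ 2 := sq_pos_of_ne_zero hcne
          exact_mod_cast this
        have h5 : (0 : ℝ) < (s.card : ℝ) := Nat.cast_pos.2 hs0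
        have h6 : (s.card : ℝ) * (c' χ : ℝ) ^ 2 ≤ ∑ u ∈ s, r' χ u ^ 2 :=
          le_of_mul_le_mul_left (by nlinarith [h2]) h5
        nlinarith [mul_le_mul_of_nonneg_left h4 h5.le]
      · simp only [hN, if_neg he, zero_sub, Complex.normSq_neg]
        exact hrow χ ((hAB χ).1 hχ) hχ0 η ((hAB η).1 hη)
    · by_cases he : χ = η
      · subst he; rfl
      · simp only [hN, if_neg he, if_neg (Ne.symm he), zero_sub, Complex.normSq_neg]
        exact hswap χ η (u : G)

/-- The same bound in terms of an induced block. -/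
theorem major_bound_induced (hM : IsPModular 2 M) {D : Subgroup G} (hD : IsDefectGroup 2 M B D)
    {z : G} (hzD : z ∈ D) {H : Subgroup G} (hH : H = CG (Subgroup.zpowers z))
    {b : Set (IrrCharacter H)} (hb : IsInducedBlock M H b B) (hDH : D ≤ H)
    (hbD : IsDefectGroup 2 M b (D.subgroupOf H)) [DecidablePred (· ∈ B)]
    (hl : blockRank 2 b ≤ 3 ∨ Nat.card B ≤ blockRank 2 b + 3 ∧ blockDefect 2 B ≠ 0) :
    3 * (Finset.univ.filter (· ∈ B)).card ≤
        3 * ((Finset.univ.filter (· ∈ B)).filter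
          (fun χ : IrrCharacter G => blockHeight 2 B (χ : G → ℂ) = 0)).card +
        2 * ∑ χ ∈ (Finset.univ.filter (· ∈ B)).filter
          (fun χ : IrrCharacter G => blockHeight 2 B (χ : G → ℂ) ≠ 0),
            2 ^ blockHeight 2 B (χ : G → ℂ) ∧
      3 * ((Finset.univ.filter (· ∈ B)).filter
          (fun χ : IrrCharacter G => blockHeight 2 B (χ : G → ℂ) = 0)).card +
        2 * ∑ χ ∈ (Finset.univ.filter (· ∈ B)).filter
          (fun χ : IrrCharacter G => blockHeight 2 B (χ : G → ℂ) ≠ 0),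
            2 ^ blockHeight 2 B (χ : G → ℂ) ≤ 3 * 2 ^ blockDefect 2 B := by
  classical
  haveI : Fact (Nat.Prime 2) := ⟨Nat.prime_two⟩
  subst hH
  have hy : ∃ k, orderOf z = 2 ^ k := by
    obtain ⟨k, hk⟩ := IsPGroup.iff_orderOf.1 (IsDefectGroup.isPGroup hD) ⟨z, hzD⟩
    exact ⟨k, by rwa [Subgroup.orderOf_mk] at hk⟩
  have hdef : blockDefect 2 b = blockDefect 2 B := by
    have h1 := card_defectGroup hM hb.1 hbD
    rw [Nat.card_congr (Subgroup.subgroupOfEquivOfLe hDH).toEquiv,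
      card_defectGroup hM hb.2.1 hD] at h1
    exact (Nat.pow_right_injective le_rfl h1).symm
  exact major_bound hM hy (a := ⟨Subgroup.zpowers z, b⟩) rfl
    ((ofB_iff_induced hM hb.2.1 hy b).2 hb) hdef hl

end Cfsg.Agent.Char.Spec
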