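import Cfsg.Agent.Lib.Char.SectionRank
import Cfsg.Agent.Lib.Char.PairSub
import Cfsg.Agent.Lib.Char.PairInertial
import Cfsg.Agent.Lib.Block.Residue

/-!
Major subsections: a pair whose block has full defect. The degree of the block part of the
restriction of a member of the block is the inertial index times a unit times the degree.
-/

open scoped ComplexConjugate

namespace Cfsg.Agent.Char.BP

open Cfsg.Agent.Block

set_option linter.unusedSectionVars false
set_option linter.style.haveILetI false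

universe u

variable {G : Type u} [Group G] [Fintype G] {p : ℕ} {M : Ideal AlgInt}
variable {B : Set (IrrCharacter G)}

/-- Central characters of a block are computed at any of its pairs. -/
theorem omega_congr_val (hM : IsPModular p M) {x : BrauerPairIdx G} (hx : OfB p M B x)
    {f : G → ℂ} (hf : IsClassFunction G f) (hr : ∀ g, MemLocalRing M (f g)) {χ : IrrCharacter G}
    (hχ : χ ∈ B) {ξ : IrrCharacter (CG x.1)} (hξ : ξ ∈ x.2) :
    MemLocalIdeal M (omegaFun χ f - val x.1 f ξ) := by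
  classical
  letI := Fintype.ofFinite (CG x.1)
  set L : (IrrCharacter G → ℂ) → ℂ := fun F => val x.1 (coeffFun F) ξ with hL
  have hIC : ∀ F : IrrCharacter G → ℂ, Inv (CG x.1) (coeffFun F) := fun F =>
    inv_of_classFun (coeffFun_classFun F) _
  have hIP : ∀ F : IrrCharacter G → ℂ, Inv x.1 (coeffFun F) := fun F =>
    inv_of_classFun (coeffFun_classFun F) _
  obtain ⟨B', hB', hc⟩ := exists_block_of_hom hM L
    (fun F F' => by
      simp only [hL, val_eq, omegaFun, res_apply, coeffFun_sub, sub_mul, Finset.sum_sub_distrib,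
        sub_div])
    (fun c F => by
      simp only [hL, val_eq, omegaFun, res_apply, coeffFun_smul, mul_assoc, ← Finset.mul_sum,
        mul_div_assoc])
    (fun F hF => val_ring hM hF (hIC F) ξ)
    (fun F hF => by
      have h := val_congr hM (hIC F) (b := fun _ => 0) (fun _ _ _ => rfl)
        (fun c _ => by simpa using hF c) ξ
      have h0 : val x.1 (fun _ : G => (0 : ℂ)) ξ = 0 := by simp [val_eq, omegaFun, res_apply]
      simpa [hL, h0] using h)
    (fun F F' hF hF' => by
      have h := val_mul hM hx.1.1 (a := coeffFun F) (b := coeffFun F') hF hF' (hIP F) (hIP F')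
        (hIC F) (hIC F') ξ
      rw [← coeffFun_mul] at h
      exact h)
    (by
      have h1 : coeffFun (1 : IrrCharacter G → ℂ) = dlt := by
        funext g
        rw [coeffFun_one, dlt]
      simp only [hL, h1, val_dlt, sub_self]
      exact ideal_zero hM)
  obtain ⟨χ', hχ'⟩ := pblock_nonempty hM hB'
  have h1 := hc _ (cenInt_blockInd hM hx.2.1) χ' hχ'
  have h2 := ofB_holds hx ξ hξ
  simp only [hL, ← funext (blockCoeff_eq B)] at h1
  have hmem : χ' ∈ B := by
    by_contra h
    rw [blockInd_of_notMem h, sub_zero] at h1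
    exact ideal_one hM (by simpa using ideal_sub hM h1 h2)
  have hF : CenInt M (fun ξ => omegaFun ξ f) := fun g => by
    rw [coeffFun_omegaFun hf]
    exact hr g
  have h3 := hc _ hF χ' hχ'
  simp only [hL, coeffFun_omegaFun hf] at h3
  have h4 := hF.congr_block hM (pblock_sameBlock hM hx.2.1 hχ hmem)
  have h5 := ideal_sub hM h4 h3
  simpa using h5

/-- A block of full defect at a pair has a maximal pair above it centralizing the subgroup. -/
theorem exists_max_major [Fact p.Prime] (hM : IsPModular p M) {a : BrauerPairIdx G}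
    (haB : OfB p M B a) (hd : blockDefect p a.2 = blockDefect p B) :
    ∃ x : BrauerPairIdx G, IsMx p M B x ∧ LE p M a x ∧ x.1 ≤ CG a.1 := by
  obtain ⟨x, hle, hx⟩ := exists_max_above hM haB
  obtain ⟨g, hg, hD⟩ := exists_conj_fully hM hx hle
  have hcard := card_of_isDefect_inf hM (isPr_cjI hM g haB.1) hD
  rw [blockDefect_cjI g a, hd, ← card_defectGroup hM haB.2.1 (defect_of_max hM hx)] at hcard
  have hle' : x.1 ≤ CG (cjI g a).1 :=
    inf_eq_left.1 (Subgroup.eq_of_le_of_card_ge inf_le_left hcard.ge)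
  refine ⟨cjI g⁻¹ x, isMx_cjI hM hx _, ?_, ?_⟩
  · have h := le_cjI hM g⁻¹ hg
    rwa [cjI_inv_cancel] at h
  · intro v hv
    have h1 := hle' (mem_map_conj.1 hv)
    have h2 : g⁻¹⁻¹ * v * g⁻¹ ∈ CG (a.1.map (MulAut.conj g).toMonoidHom) := h1
    rw [show g⁻¹⁻¹ * v * g⁻¹ = g * v * g⁻¹ by group] at h2
    exact (cg_map_conj g a.1 v).2 h2

/-- The maximal pairs above a pair of full defect are conjugate under its centralizer. -/
theorem exists_conj_above [Fact p.Prime] (hM : IsPModular p M) {a x x' : BrauerPairIdx G}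
    (hx : IsMx p M B x) (hx' : IsMx p M B x') (h : LE p M a x) (h' : LE p M a x')
    (hC : x.1 ≤ CG a.1) (hC' : x'.1 ≤ CG a.1) : ∃ c ∈ CG a.1, x' = cjI c x := by
  classical
  letI := Fintype.ofFinite (CG a.1)
  have key : ∀ z : BrauerPairIdx G, IsMx p M B z → ∀ (hz : LE p M a z) (hz1 : z.1 ≤ CG a.1),
      IsMx p M a.2 (dn (CG a.1) z hz1 (Subgroup.centralizer_le (le_subgroup hz))) := by
    intro z hzm hz hz1
    obtain ⟨r, hr, hst, hrz⟩ :=
      step_below hM hzm.1.1 hz (le_subgroup hz) le_rfl (hz1.trans (cg_le_normalizer a.1))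
    obtain rfl : r = z := eq_of_le_of_subgroup hM hrz hr.ge
    have hofb : OfB p M a.2 (dn (CG a.1) r hz1 (Subgroup.centralizer_le (le_subgroup hz))) := by
      refine ofB_of_holds hst.1.2 (isPr_dn hM hst.2.1 _ _) ?_
      rw [← bc_res (CG a.1) a.2]
      exact (holds_dn r _ _ _).2 ((step_iff hM).1 hst).2.2.2.2.2
    have hinf : r.1 ⊓ CG a.1 = r.1 := inf_eq_left.2 hz1
    have hD : IsDefectGroup p M a.2 (r.1.subgroupOf (CG a.1)) := by
      obtain ⟨g, hg, hD⟩ := exists_conj_fully hM hzm hz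
      rw [← hinf]
      refine isDefect_inf_of_card hM hzm.1.1 hz ?_
      rw [← blockDefect_cjI g a, ← card_of_isDefect_inf hM (isPr_cjI hM g hst.1) hD, hinf]
      exact Subgroup.card_le_of_le inf_le_left
    exact max_of_defect hM hofb hD
  obtain ⟨c, hc⟩ := max_conj hM (key x hx h hC) (key x' hx' h' hC')
  exact ⟨c, c.2, dn_conj_eq hM _ _ _ _ hc⟩

theorem le_conj_major [Fact p.Prime] (hM : IsPModular p M) {a x : BrauerPairIdx G}
    (hx : IsMx p M B x) (h : LE p M a x) (hC : x.1 ≤ CG a.1) {t : G}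
    (h' : LE p M (cjI t a) x) (hC' : x.1 ≤ CG (cjI t a).1) :
    ∃ s ∈ stab x, ∃ c ∈ CG a.1, t = s * c := by
  have hC1 : (cjI t x).1 ≤ CG (cjI t a).1 := by
    rintro _ ⟨v, hv, rfl⟩
    refine (cg_map_conj t a.1 _).1 ?_
    exact hC hv
  obtain ⟨c, hc, hcx⟩ :=
    exists_conj_above hM hx (isMx_cjI hM hx t) h' (le_cjI hM t h) hC' hC1
  have hfix : cjI (c⁻¹ * t) x = x := by rw [← cjI_cjI, hcx, cjI_inv_cancel]
  have hN : c⁻¹ * t ∈ Subgroup.normalizer (x.1 : Set G) := Subgroup.mem_normalizer_iff.2 fun g => by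
    have h1 : x.1.map (MulAut.conj (c⁻¹ * t)).toMonoidHom = x.1 := congrArg Sigma.fst hfix
    conv_rhs => rw [← h1]
    exact conj_mem_map_conj.symm
  refine ⟨c⁻¹ * t, mem_stab_of_cjI hN hfix, t⁻¹ * c * t, ?_, by group⟩
  refine (cg_map_conj t a.1 _).2 ?_
  rwa [show t * (t⁻¹ * c * t) * t⁻¹ = c by group]

/-- The inertial index of a pair of full defect is prime to `p`. -/
theorem not_dvd_major [hp : Fact p.Prime] (hM : IsPModular p M) {a x : BrauerPairIdx G}
    (hx : IsMx p M B x) (h : LE p M a x) (hC : x.1 ≤ CG a.1) :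
    ¬ p ∣ (CG a.1).relIndex (stab x) := by
  obtain ⟨S⟩ : Nonempty (Sylow p (stab x)) := inferInstance
  obtain ⟨θ, -, -, -, hst⟩ := (maximal_pair_iff hM x.1 x.2 hx.1.1).1 ⟨B, hx⟩
  have hle : (S : Subgroup (stab x)) ≤ (CG a.1).subgroupOf (stab x) := by
    intro v hv
    obtain ⟨k, hk⟩ := S.2 ⟨v, hv⟩
    obtain ⟨j, -, hj⟩ := (Nat.dvd_prime_pow hp.out).1
      (orderOf_dvd_of_pow_eq_one (congrArg Subtype.val hk : v ^ p ^ k = 1))
    obtain ⟨hN, hS⟩ := (mem_stab_iff hM hx.1.1.2).1 v.2
    exact Subgroup.mem_subgroupOf.2 (sup_le hC (Subgroup.centralizer_le (le_subgroup h))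
      (hst v hN hS ⟨j, by rw [Subgroup.orderOf_coe, hj]⟩))
  intro hdvd
  exact S.not_dvd_index (hdvd.trans (Subgroup.index_dvd_of_le hle))

/-- At the maximal pair the orbit sum of a pair of full defect is the inertial index. -/
theorem val_orbit_major [Fact p.Prime] (hM : IsPModular p M) {a x : BrauerPairIdx G} {y : G}
    (hay : a.1 = Subgroup.zpowers y) (hx : IsMx p M B x) (h : LE p M a x) (hC : x.1 ≤ CG a.1)
    [Fintype (G ⧸ CG a.1)] {ξ : IrrCharacter (CG x.1)} (hξ : ξ ∈ x.2) :
    MemLocalIdeal M (val x.1 (fun g => ∑ t : G ⧸ CG a.1, be (cjI t.out a) g) ξ -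
      ((CG a.1).relIndex (stab x) : ℂ)) := by
  classical
  letI := Fintype.ofFinite (CG x.1)
  set φ : G ⧸ CG a.1 → G → ℂ := fun t => be (cjI t.out a) with hφ
  have hφmk : ∀ s : G, φ (s : G ⧸ CG a.1) = cfun s (be a) := by
    intro s
    obtain ⟨c, hc⟩ := QuotientGroup.mk_out_eq_mul (CG a.1) s
    show be (cjI (s : G ⧸ CG a.1).out a) = _
    rw [be_cjI, hc, ← cfun_mul, inv_iff_cfun.1 (be_inv_cg a) _ c.2]
  have hsmul : ∀ (u : G) (t : G ⧸ CG a.1), φ (u • t) = cfun u (φ t) := by
    intro u t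
    induction t using QuotientGroup.induction_on with
    | _ s =>
      rw [show u • ((s : G) : G ⧸ CG a.1) = ((u * s : G) : G ⧸ CG a.1) from rfl, hφmk, hφmk,
        cfun_mul]
  have hring : ∀ t g, MemLocalRing M (φ t g) := fun t g =>
    (be_idem hM (isPr_cjI hM t.out (le_isPr h hx.1.1))).1 g
  set T := MulAction.fixedPoints x.1 (G ⧸ CG a.1) with hT
  have hfixC : ∀ t, t ∈ T ↔ x.1 ≤ CG (cjI t.out a).1 := by
    intro t
    have hiff : ∀ u : G, u • t = t ↔ u ∈ CG (cjI t.out a).1 := by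
      intro u
      conv_lhs => rw [← QuotientGroup.out_eq' t]
      rw [show u • ((t.out : G) : G ⧸ CG a.1) = ((u * t.out : G) : G ⧸ CG a.1) from rfl,
        eq_comm, QuotientGroup.eq, ← mul_assoc, cg_map_conj t.out a.1,
        show t.out * (t.out⁻¹ * u * t.out) * t.out⁻¹ = u by group]
      rfl
    exact ⟨fun ht u hu => (hiff u).1 (ht ⟨u, hu⟩), fun ht u => (hiff u).2 (ht u.2)⟩
  set T' : Finset (G ⧸ CG a.1) := Finset.univ.filter
    (fun t => t ∈ T ∧ (cjI t.out a).1 ≤ x.1) with hT'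
  set S : Finset (G ⧸ CG a.1) := T'.filter (fun t => LE p M (cjI t.out a) x) with hS
  -- the function and the part on the fixed cosets
  have hcf : IsClassFunction G (fun g => ∑ t : G ⧸ CG a.1, φ t g) := by
    intro g u
    refine Fintype.sum_equiv (MulAction.toPerm u⁻¹) _ _ fun t => ?_
    show φ t (u * g * u⁻¹) = φ (u⁻¹ • t) g
    rw [hsmul]
    show _ = φ t (u⁻¹⁻¹ * g * u⁻¹)
    rw [inv_inv]
  have hinv : ∀ t ∈ T', Inv x.1 (φ t) ∧ Inv (CG x.1) (φ t) := by
    intro t ht
    obtain ⟨-, h1, h2⟩ := Finset.mem_filter.1 ht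
    exact ⟨(be_inv_cg _).mono ((hfixC t).1 h1), (be_inv_cg _).mono (Subgroup.centralizer_le h2)⟩
  have hpoint : ∀ c ∈ CG x.1,
      MemLocalIdeal M ((∑ t : G ⧸ CG a.1, φ t c) - ∑ t ∈ T', φ t c) := by
    intro c hc
    have h1 := ideal_sum_sub_fixed hM (α := G ⧸ CG a.1) (P := x.1) hx.1.1.1
      (F := fun t => φ t c) (fun t => hring t c) (fun u t => by
        show φ ((u : G) • t) c = _
        rw [hsmul]
        show φ t ((u : G)⁻¹ * c * u) = _
        rw [mul_assoc, ← Subgroup.mem_centralizer_iff.1 hc u u.2, inv_mul_cancel_left])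
    rw [finsum_mem_eq_sum_of_inter_support_eq _ (t := Finset.univ.filter (· ∈ T))
      (by ext; simp [hT])] at h1
    have h2 : MemLocalIdeal M ((∑ t ∈ Finset.univ.filter (· ∈ T), φ t c) - ∑ t ∈ T', φ t c) := by
      rw [← Finset.sum_sdiff (s₁ := T') (s₂ := Finset.univ.filter (· ∈ T))
        (fun t ht => by simp [(Finset.mem_filter.1 ht).2.1]), add_sub_cancel_right]
      refine ideal_sum hM fun t ht => ?_
      obtain ⟨ht, hnot⟩ := Finset.mem_sdiff.1 ht
      have htT : t ∈ T := (Finset.mem_filter.1 ht).2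
      have hnle : ¬ (cjI t.out a).1 ≤ x.1 := fun hh =>
        hnot (Finset.mem_filter.2 ⟨Finset.mem_univ _, htT, hh⟩)
      by_contra hne
      set a' := cjI t.out a with ha'
      have hCa : c ∈ CG a'.1 := by
        by_contra hh
        exact hne (by rw [show φ t c = 0 from bc_supp _ _ _ hh]; exact ideal_zero hM)
      have hpr : IsPr p M a' := isPr_cjI hM _ (le_isPr h hx.1.1)
      have hRp : IsPGroup p ↥(x.1 ⊔ a'.1) :=
        hx.1.1.1.to_sup_of_normal_right' hpr.1
          (((hfixC t).1 htT).trans (cg_le_normalizer a'.1))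
      have hRN : x.1 ⊔ a'.1 ≤ Subgroup.normalizer (a'.1 : Set G) :=
        sup_le (((hfixC t).1 htT).trans (cg_le_normalizer a'.1)) Subgroup.le_normalizer
      have hcR : c ∈ CG (x.1 ⊔ a'.1) := by
        refine Subgroup.mem_centralizer_iff.2 fun v hv => ?_
        have hsup : x.1 ⊔ a'.1 ≤ Subgroup.centralizer ({c} : Set G) := sup_le
          (fun u hu => Subgroup.mem_centralizer_singleton_iff.2
            (Subgroup.mem_centralizer_iff.1 hc u hu))
          (fun u hu => Subgroup.mem_centralizer_singleton_iff.2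
            (Subgroup.mem_centralizer_iff.1 hCa u hu))
        exact Subgroup.mem_centralizer_singleton_iff.1 (hsup hv)
      have hiR : Inv (x.1 ⊔ a'.1) (be a') :=
        ((be_inv_cg a').mono ((hfixC t).1 htT)).sup (be_inv_self a')
      obtain ⟨f, hf, hH⟩ := exists_holds hM hRp (be_idem hM hpr) hiR
        ((be_inv_cg a').mono (Subgroup.centralizer_le (le_sup_right : a'.1 ≤ x.1 ⊔ a'.1))) ⟨c, hcR, hne⟩
      have hst : Step p M a' ⟨x.1 ⊔ a'.1, f⟩ :=
        (step_iff hM).2 ⟨hpr, ⟨hRp, hf⟩, le_sup_right, hRN, hiR, hH⟩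
      have hofB := (ofB_step hM hst).2 (ofB_cjI hM ((ofB_le hM h).1 hx.1) t.out)
      obtain ⟨g, hg⟩ := conj_le_defect hM hofB (defect_of_max hM hx)
      have h3 := Subgroup.card_le_of_le hg
      rw [card_map_conj] at h3
      exact hnle (le_sup_right.trans
        (Subgroup.eq_of_le_of_card_ge (le_sup_left : x.1 ≤ x.1 ⊔ a'.1) h3).ge)
    have h3 := ideal_add hM h1 h2
    simpa using h3
  have hval : MemLocalIdeal M (val x.1 (fun g => ∑ t : G ⧸ CG a.1, φ t g) ξ -
      ∑ t ∈ T', val x.1 (φ t) ξ) := by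
    rw [← val_sum]
    exact val_congr hM (inv_of_classFun hcf _) (inv_sum fun t ht => (hinv t ht).2) hpoint ξ
  have hterm : MemLocalIdeal M ((∑ t ∈ T', val x.1 (φ t) ξ) - (S.card : ℂ)) := by
    rw [hS, ← Finset.sum_boole, ← Finset.sum_sub_distrib]
    refine ideal_sum hM fun t ht => ?_
    obtain ⟨hi, hiC⟩ := hinv t ht
    obtain ⟨-, htT, htle⟩ := Finset.mem_filter.1 ht
    have hpr : IsPr p M (cjI t.out a) := isPr_cjI hM _ (le_isPr h hx.1.1)
    have hiff : Holds M x (φ t) ↔ LE p M (cjI t.out a) x := by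
      constructor
      · intro hH
        exact Relation.ReflTransGen.single ((step_iff hM).2 ⟨hpr, hx.1.1, htle,
          ((hfixC t).1 htT).trans (cg_le_normalizer _), hi, hH⟩)
      · intro hle
        obtain ⟨r, hr, hst, hrx⟩ := step_below hM hx.1.1 hle htle le_rfl
          (((hfixC t).1 htT).trans (cg_le_normalizer _))
        obtain rfl : r = x := eq_of_le_of_subgroup hM hrx hr.ge
        exact ((step_iff hM).1 hst).2.2.2.2.2
    split_ifs with hle
    · exact hiff.2 hle ξ hξ
    · rcases holds_or hM hx.1.1 (be_idem hM hpr) hi hiC with h1 | h1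
      · exact absurd (hiff.1 h1) hle
      · simpa using h1 ξ hξ
  have hcard : S.card = (CG a.1).relIndex (stab x) := by
    have h1 : MulAction.stabilizer (stab x) ((1 : G) : G ⧸ CG a.1) =
        (CG a.1).subgroupOf (stab x) := by
      ext s
      rw [MulAction.mem_stabilizer_iff, Subgroup.mem_subgroupOf]
      show (((s : G) * 1 : G) : G ⧸ CG a.1) = _ ↔ _
      rw [mul_one, eq_comm, QuotientGroup.eq, inv_one, one_mul]
    rw [Subgroup.relIndex, ← h1, MulAction.index_stabilizer, Set.ncard_eq_toFinset_card']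
    congr 1
    ext t
    simp only [Set.mem_toFinset, MulAction.mem_orbit_iff]
    constructor
    · intro ht
      obtain ⟨ht', hle⟩ := Finset.mem_filter.1 ht
      obtain ⟨s, hs, c, hc, hts⟩ := le_conj_major hM hx h hC hle
        ((hfixC t).1 (Finset.mem_filter.1 ht').2.1)
      refine ⟨⟨s, hs⟩, ?_⟩
      show ((s * 1 : G) : G ⧸ CG a.1) = t
      conv_rhs => rw [← QuotientGroup.out_eq' t, hts]
      rw [mul_one, QuotientGroup.mk_mul_of_mem _ hc]
    · rintro ⟨⟨s, hs⟩, rfl⟩
      have heq : cjI ((⟨s, hs⟩ : stab x) • ((1 : G) : G ⧸ CG a.1)).out a = cjI s a := by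
        obtain ⟨c, hc⟩ := QuotientGroup.mk_out_eq_mul (CG a.1) (s * 1)
        rw [show ((⟨s, hs⟩ : stab x) • ((1 : G) : G ⧸ CG a.1)) = ((s * 1 : G) : G ⧸ CG a.1) from rfl,
          hc, mul_one, ← cjI_cjI, cjI_eq_of_stab (cg_le_stab a c.2)]
      have hle : LE p M (cjI s a) x := by
        have := le_cjI hM s h
        rwa [cjI_eq_of_stab hs] at this
      have hfix : x.1 ≤ CG (cjI s a).1 := fun v hv => by
        have h2 : s⁻¹ * v * s ∈ x.1 := by
          simpa using
            (Subgroup.mem_normalizer_iff.1 (inv_mem (stab_le_normalizer x hs)) v).1 hv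
        have h3 := (cg_map_conj s a.1 _).1 (hC h2)
        rwa [show s * (s⁻¹ * v * s) * s⁻¹ = v by group] at h3
      refine Finset.mem_filter.2 ⟨Finset.mem_filter.2 ⟨Finset.mem_univ _, (hfixC _).2 ?_, ?_⟩, ?_⟩
      · rwa [heq]
      · rw [heq]; exact le_subgroup hle
      · rwa [heq]
  rw [← hcard]
  simpa using ideal_add hM hval hterm

end Cfsg.Agent.Char.BP
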