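import Cfsg.Agent.Lib.Char.PairSaturated
import Cfsg.Agent.Lib.Fus.Alperin
import Cfsg.Agent.Lib.Fus.InnerCrit
import Cfsg.Agent.Lib.Fus.AbelianSystem

/-!
Nilpotent blocks: the fusion system is the inner one.
-/

namespace Cfsg.Agent.Char.BP

open Cfsg.Agent.Block
open scoped Pointwise

set_option linter.unusedSectionVars false
set_option linter.style.haveILetI false

universe u

variable {G : Type u} [Group G] [Fintype G] {p : ℕ} {M : Ideal AlgInt}
variable {B : Set (IrrCharacter G)} {P : Subgroup G} {e : Set (IrrCharacter (CG P))}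

theorem nil_iff (hM : IsPModular p M) : IsNilpotentBlock p M B ↔ IsPBlock M B ∧
    ∀ a : BrauerPairIdx G, OfB p M B a → ∀ y ∈ stab a, ¬ p ∣ orderOf y → y ∈ CG a.1 := by
  refine and_congr_right fun _ => ⟨fun h a ha y hy hp => ?_, fun h Q f hQ x hxN hxS hxp => ?_⟩
  · obtain ⟨hn, hs⟩ := (mem_stab_iff hM ha.1.2).1 hy
    exact h a.1 a.2 ha y hn hs hp
  · exact h ⟨Q, f⟩ hQ x ((mem_stab_iff hM (a := ⟨Q, f⟩) hQ.1.2).2 ⟨hxN, hxS⟩) hxp

theorem saturated_of_isBlockFS [Fact p.Prime] (hM : IsPModular p M) {F : FusionSystem P}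
    (hF : IsBlockFusionSystemOn p M B P e F) : F.IsSaturated p := by
  obtain ⟨F', hF', hsat⟩ := exists_saturated hM hF.1
  rwa [Fus.eq_of_hom_eq (F := F) (E := F') fun Q => Set.ext fun φ =>
    (hF.2 Q φ).trans (hF'.2 Q φ).symm]

/-- An automorphism of a pair below the maximal one comes from its stabilizer. -/
theorem exists_stab_of_aut [Fact p.Prime] (hM : IsPModular p M) {F : FusionSystem P}
    (hF : IsBlockFusionSystemOn p M B P e F) {Q : Subgroup G} (hQ : Q ≤ P) {α : MulAut Q}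
    (hα : α ∈ F.autGroup Q) :
    ∃ a : BrauerPairIdx G, a.1 = Q ∧ LE p M a (⟨P, e⟩ : BrauerPairIdx G) ∧
      ∃ g ∈ stab a, ∀ u ∈ Q, Fus.autFun α u = g * u * g⁻¹ := by
  obtain ⟨a, g, rfl, ha, hg, hfg⟩ := (isMap_iff hF).1 ((Fus.mem_autGroup hQ).1 hα)
  have hN : g ∈ Subgroup.normalizer (a.1 : Set G) := by
    refine Fus.mem_normalizer_of_forall (fun x hx => hfg x hx ▸ Fus.autFun_mem α hx) fun x hx => ?_
    have h1 := hfg _ (Fus.autFun_mem α⁻¹ hx)
    rw [← Fus.autFun_mul _ _ hx, mul_inv_cancel, Fus.autFun_one hx] at h1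
    rw [show g⁻¹ * x * g = Fus.autFun α⁻¹ x by conv_lhs => rw [h1]
                                               group]
    exact Fus.autFun_mem α⁻¹ hx
  refine ⟨a, rfl, ha, g, mem_stab_of_cjI hN ?_, hfg⟩
  exact le_unique hM hg ha (map_conj_eq_of_normalizer hN)

theorem autGroup_isPGroup [Fact p.Prime] (hM : IsPModular p M) (hnil : IsNilpotentBlock p M B)
    {F : FusionSystem P} (hF : IsBlockFusionSystemOn p M B P e F) {Q : Subgroup G} (hQ : Q ≤ P) :
    IsPGroup p (F.autGroup Q) := by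
  rintro ⟨α, hα⟩
  obtain ⟨a, rfl, ha, g, hg, hfg⟩ := exists_stab_of_aut hM hF hQ hα
  obtain ⟨u, v, huv, -, ⟨i, hi⟩, hv, hu', hv'⟩ := exists_pPart_zpowers (p := p) g
  have hvs : v ∈ stab a := Subgroup.zpowers_le.2 hg hv'
  have hus : u ∈ stab a := Subgroup.zpowers_le.2 hg hu'
  have hvC : v ∈ CG a.1 := ((nil_iff hM).1 hnil).2 a ((ofB_le hM ha).1 hF.1.1) v hvs hv
  have huN := stab_le_normalizer a hus
  have hαu : α = a.1.normalizerMonoidHom ⟨u, huN⟩ := MulEquiv.ext fun w => Subtype.ext (by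
    rw [← Fus.autFun_coe, hfg w w.2, Fus.normalizerMonoidHom_apply, ← huv]
    calc u * v * (w : G) * (u * v)⁻¹ = u * (v * (w : G) * v⁻¹) * u⁻¹ := by group
      _ = u * (w : G) * u⁻¹ := by
        rw [← Subgroup.mem_centralizer_iff.1 hvC w w.2, mul_inv_cancel_right])
  refine ⟨i, Subtype.ext ?_⟩
  show α ^ p ^ i = 1
  rw [hαu, ← map_pow, show (⟨u, huN⟩ : Subgroup.normalizer (a.1 : Set G)) ^ p ^ i = 1 from
    Subtype.ext (by rw [SubmonoidClass.coe_pow, ← hi, pow_orderOf_eq_one]; rfl), map_one]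

theorem aut_inner_of_fullyNormalized [Fact p.Prime] (hM : IsPModular p M)
    (hnil : IsNilpotentBlock p M B) {F : FusionSystem P}
    (hF : IsBlockFusionSystemOn p M B P e F) {Q : Subgroup G} (hQ : F.IsFullyNormalized Q) :
    F.autGroup Q ≤ autInducedBy P Q := by
  obtain ⟨-, R, hR⟩ := Fus.fullyAutomized_of_fullyNormalized hF.1.1.1.1
    (saturated_of_isBlockFS hM hF) hQ
  have htop : (⊤ : Subgroup (F.autGroup Q)) = R :=
    R.3 ((autGroup_isPGroup hM hnil hF hQ.1).to_subgroup ⊤) le_top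
  rw [hR] at htop
  exact fun α hα => Subgroup.mem_subgroupOf.1 (htop ▸ Subgroup.mem_top (⟨α, hα⟩ : F.autGroup Q))

theorem inner_of_nilpotent [Fact p.Prime] (hM : IsPModular p M) (hnil : IsNilpotentBlock p M B)
    {F : FusionSystem P} (hF : IsBlockFusionSystemOn p M B P e F) : Fus.IsInner F := by
  have key : ∀ Q, F.IsFullyNormalized Q → ∀ α ∈ F.autGroup Q,
      ∃ s ∈ P, ∀ x ∈ Q, Fus.autFun α x = s * x * s⁻¹ := fun Q hQ α hα => by
    obtain ⟨s, hs, hse⟩ := Fus.mem_autInducedBy.1 (aut_inner_of_fullyNormalized hM hnil hF hQ hα)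
    exact ⟨s, hs, fun x hx => by
      rw [show x = ((⟨x, hx⟩ : Q) : G) from rfl, Fus.autFun_coe]
      exact hse ⟨x, hx⟩⟩
  intro Q f hf
  refine Fus.alperin hF.1.1.1.1 (saturated_of_isBlockFS hM hF)
    (fun Q f => ∃ s ∈ P, ∀ x ∈ Q, f x = s * x * s⁻¹) ?_ ?_ ?_
    (key P (Fus.fullyNormalized_self F)) (fun R hR => key R hR.2.1) hf
  · rintro Q f g ⟨s, hs, h⟩ hfg
    exact ⟨s, hs, fun x hx => (hfg x hx).symm.trans (h x hx)⟩
  · rintro Q R f g - - hmem ⟨s, hs, h⟩ ⟨t, ht, h'⟩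
    refine ⟨t * s, mul_mem ht hs, fun x hx => ?_⟩
    show g (f x) = _
    rw [h' _ (hmem x hx), h x hx]
    group
  · rintro Q R f - hle ⟨s, hs, h⟩
    exact ⟨s, hs, fun x hx => h x (hle hx)⟩

theorem nilpotent_of_inner [Fact p.Prime] (hM : IsPModular p M) {F : FusionSystem P}
    (hF : IsBlockFusionSystemOn p M B P e F) (hin : Fus.IsInner F) :
    IsNilpotentBlock p M B := by
  refine (nil_iff hM).2 ⟨hF.1.1.2.1, fun a ha y hy hyp => ?_⟩
  obtain ⟨l, hl⟩ := le_conj_max hM ha (x := (⟨P, e⟩ : BrauerPairIdx G)) hF.1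
  set b := cjI l a with hb
  have hyN : l * y * l⁻¹ ∈ Subgroup.normalizer (b.1 : Set G) := by
    refine Subgroup.mem_normalizer_iff.2 fun v => ?_
    show v ∈ a.1.map (MulAut.conj l).toMonoidHom ↔
      l * y * l⁻¹ * v * (l * y * l⁻¹)⁻¹ ∈ a.1.map (MulAut.conj l).toMonoidHom
    rw [mem_map_conj, mem_map_conj, Subgroup.mem_normalizer_iff.1 (stab_le_normalizer a hy) _,
      show l⁻¹ * (l * y * l⁻¹ * v * (l * y * l⁻¹)⁻¹) * l = y * (l⁻¹ * v * l) * y⁻¹ by group]
  have hfix : cjI (l * y * l⁻¹) b = b := by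
    rw [hb, cjI_cjI, show l * y * l⁻¹ * l = l * y by group, ← cjI_cjI, cjI_eq_of_stab hy]
  obtain ⟨s, hs, hse⟩ := hin b.1 (fun v => l * y * l⁻¹ * v * (l * y * l⁻¹)⁻¹)
    ((isMap_iff hF).2 ⟨b, l * y * l⁻¹, rfl, hl, by rwa [hfix], fun v _ => rfl⟩)
  have hsN : s ∈ Subgroup.normalizer (b.1 : Set G) := by
    refine Subgroup.mem_normalizer_iff.2 fun v => ⟨fun hv => ?_, fun hv => ?_⟩
    · rw [← hse v hv]
      exact (Subgroup.mem_normalizer_iff.1 hyN v).1 hv
    · obtain ⟨w, hw, hwv⟩ : ∃ w ∈ b.1,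
          l * y * l⁻¹ * w * (l * y * l⁻¹)⁻¹ = s * v * s⁻¹ :=
        ⟨(l * y * l⁻¹)⁻¹ * (s * v * s⁻¹) * (l * y * l⁻¹), by
          refine (Subgroup.mem_normalizer_iff.1 hyN _).2 ?_
          convert hv using 1
          group, by group⟩
      have h1 := hse w hw
      rw [hwv] at h1
      exact mul_left_cancel (mul_right_cancel h1) ▸ hw
  have hc : b.1.normalizerMonoidHom ⟨_, hyN⟩ = b.1.normalizerMonoidHom ⟨s, hsN⟩ :=
    MulEquiv.ext fun w => Subtype.ext (by
      rw [Fus.normalizerMonoidHom_apply, Fus.normalizerMonoidHom_apply]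
      exact hse w w.2)
  obtain ⟨k, hk⟩ := hF.1.1.1.1 ⟨s, hs⟩
  have h1 : orderOf (b.1.normalizerMonoidHom ⟨_, hyN⟩) = 1 := by
    refine Nat.eq_one_of_dvd_coprimes (a := orderOf y) (b := p ^ k)
      (Nat.Coprime.pow_right k ((Fact.out : p.Prime).coprime_iff_not_dvd.2 hyp).symm) ?_ ?_
    · refine (orderOf_map_dvd _ _).trans ?_
      rw [Subgroup.orderOf_mk, show l * y * l⁻¹ = MulAut.conj l y from rfl
        ]
      exact (orderOf_injective (MulAut.conj l).toMonoidHom (MulAut.conj l).injective y).dvd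
    · rw [hc]
      refine (orderOf_map_dvd _ _).trans (orderOf_dvd_of_pow_eq_one ?_)
      exact Subtype.ext (congrArg Subtype.val hk : s ^ p ^ k = 1)
  refine Subgroup.mem_centralizer_iff.2 fun v hv => ?_
  have hv' : l * v * l⁻¹ ∈ b.1 := conj_mem_map_conj.2 hv
  have h2 := congrArg (fun α : MulAut b.1 => ((α ⟨_, hv'⟩ : b.1) : G)) (orderOf_eq_one_iff.1 h1)
  simp only [Fus.normalizerMonoidHom_apply, MulAut.one_apply] at h2
  calc v * y = l⁻¹ * (l * v * l⁻¹) * (l * y) := by group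
    _ = l⁻¹ * (l * y * l⁻¹ * (l * v * l⁻¹) * (l * y * l⁻¹)⁻¹) * (l * y) := by rw [h2]
    _ = y * v := by group

/-- A block is nilpotent exactly when its fusion system is inner. -/
theorem nilpotent_iff_inner [Fact p.Prime] (hM : IsPModular p M) {F : FusionSystem P}
    (hF : IsBlockFusionSystemOn p M B P e F) : IsNilpotentBlock p M B ↔ Fus.IsInner F :=
  ⟨fun h => inner_of_nilpotent hM h hF, nilpotent_of_inner hM hF⟩

/-- With abelian defect group nilpotent means trivial inertial quotient. -/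
theorem nilpotent_iff_inertial [Fact p.Prime] (hM : IsPModular p M)
    (hx : IsMx p M B (⟨P, e⟩ : BrauerPairIdx G)) (hab : ∀ x ∈ P, ∀ y ∈ P, x * y = y * x) :
    IsNilpotentBlock p M B ↔ stab (⟨P, e⟩ : BrauerPairIdx G) ≤ CG P := by
  obtain ⟨F, hF, hsat⟩ := exists_saturated hM hx
  rw [nilpotent_iff_inner hM hF]
  constructor
  · intro hin y hy
    obtain ⟨s, hs, hse⟩ := hin P (fun v => y * v * y⁻¹) ((isMap_iff hF).2
      ⟨⟨P, e⟩, y, rfl, Relation.ReflTransGen.refl, by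
        rw [cjI_eq_of_stab hy], fun v _ => rfl⟩)
    refine Subgroup.mem_centralizer_iff.2 fun v hv => ?_
    have h1 : y * v * y⁻¹ = v := by
      have h0 : y * v * y⁻¹ = s * v * s⁻¹ := hse v hv
      rw [h0, hab s hs v hv, mul_inv_cancel_right]
    calc v * y = y * v * y⁻¹ * y := by rw [h1]
      _ = y * v := by group
  · intro hle Q f hf
    obtain ⟨α, hα, hαf⟩ := Fus.exists_aut_extends_of_comm hx.1.1.1 hsat hab hf
    obtain ⟨a, haP, ha, g, hg, hαg⟩ := exists_stab_of_aut hM hF le_rfl hα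
    have hax : a = (⟨P, e⟩ : BrauerPairIdx G) := le_unique hM ha Relation.ReflTransGen.refl haP
    subst hax
    refine ⟨1, one_mem P, fun v hv => ?_⟩
    rw [← hαf v hv, hαg v (hf.source_le hv),
      ← Subgroup.mem_centralizer_iff.1 (hle hg) v (hf.source_le hv)]
    group

end Cfsg.Agent.Char.BP
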