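import Cfsg.Agent.Lib.Char.PairMax

/-!
Block idempotents vanish outside the centralizer of a normal `p`-subgroup.
-/

namespace Cfsg.Agent.Char.BP

open Cfsg.Agent.Block

set_option linter.unusedSectionVars false
set_option linter.style.haveILetI false

universe u

variable {G : Type u} [Group G] [Fintype G] {p : ℕ} {M : Ideal AlgInt}

theorem sum_closed_inv {W : Subgroup G} (S : Finset (G → ℂ))
    (hS : ∀ u ∈ W, ∀ φ ∈ S, cfun u φ ∈ S) : Inv W (fun g => ∑ φ ∈ S, φ g) := by
  refine inv_iff_cfun.2 fun u hu => funext fun g => ?_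
  show ∑ φ ∈ S, cfun u φ g = ∑ φ ∈ S, φ g
  refine Finset.sum_bij (fun φ _ => cfun u φ) (fun φ h => hS u hu φ h) ?_ ?_ fun φ _ => rfl
  · intro φ _ ψ _ h
    have := congrArg (cfun u⁻¹) h
    simpa [cfun_mul, cfun_one] using this
  · intro φ h
    exact ⟨cfun u⁻¹ φ, hS u⁻¹ (inv_mem hu) φ h, by rw [cfun_mul, mul_inv_cancel, cfun_one]⟩

theorem omega_idem_zero_or_one {a : G → ℂ} (ha : IsClassFunction G a) (h : convFun a a = a)
    (χ : IrrCharacter G) : omegaFun χ a = 0 ∨ omegaFun χ a = 1 := by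
  have h1 := omegaFun_convFun (a := a) ha χ
  rw [h] at h1
  rcases mul_eq_zero.1 (show omegaFun χ a * (omegaFun χ a - 1) = 0 by
    rw [mul_sub, mul_one, ← h1, sub_self]) with h2 | h2
  · exact Or.inl h2
  · exact Or.inr (sub_eq_zero.1 h2)

theorem eq_of_zero_one_congr (hM : IsPModular p M) {x y : ℂ} (hx : x = 0 ∨ x = 1)
    (hy : y = 0 ∨ y = 1) (h : MemLocalIdeal M (x - y)) : x = y := by
  rcases hx with rfl | rfl <;> rcases hy with rfl | rfl
  · rfl
  · exact absurd (by simpa using ideal_neg h) (ideal_one hM)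
  · exact absurd (by simpa using h) (ideal_one hM)
  · rfl

/-- Block idempotents vanish exactly outside the centralizer of a normal `p`-subgroup. -/
theorem supp_of_normal (hM : IsPModular p M) {P : Subgroup G} [hPn : P.Normal]
    (hP : IsPGroup p P) {E : Set (IrrCharacter G)} (hE : IsPBlock M E) :
    Supp (CG P) (blockCoeff E) := by
  classical
  have hN : ∀ u : G, u ∈ Subgroup.normalizer (P : Set G) := fun u => by
    rw [Subgroup.normalizer_eq_top]
    exact Subgroup.mem_top u
  set good := (blks M (CG P)).filter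
    (fun f => Holds M (⟨P, f⟩ : BrauerPairIdx G) (blockCoeff E)) with hgood
  set S : Finset (G → ℂ) := good.image (bc (CG P)) with hS
  have hmem : ∀ φ ∈ S, ∃ f, IsPBlock M f ∧
      Holds M (⟨P, f⟩ : BrauerPairIdx G) (blockCoeff E) ∧ bc (CG P) f = φ := fun φ hφ => by
    obtain ⟨f, hf, rfl⟩ := Finset.mem_image.1 hφ
    rw [hgood, Finset.mem_filter, mem_blks] at hf
    exact ⟨f, hf.1, hf.2, rfl⟩
  have hclosed : ∀ u ∈ (⊤ : Subgroup G), ∀ φ ∈ S, cfun u φ ∈ S := by
    intro u _ φ hφ
    obtain ⟨f, hf, hH, rfl⟩ := hmem φ hφ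
    obtain ⟨R, f', hR⟩ : ∃ R f', cjI u (⟨P, f⟩ : BrauerPairIdx G) = ⟨R, f'⟩ := ⟨_, _, rfl⟩
    obtain rfl : P = R := (map_conj_eq_of_normalizer (hN u)).symm.trans (congrArg Sigma.fst hR)
    have h1 := isPr_cjI hM u (a := ⟨P, f⟩) ⟨hP, hf⟩
    have h2 := (holds_cjI_classFun (M := M) u ⟨P, f⟩ (blockCoeff_classFun E)).2 hH
    have h3 := be_cjI u (⟨P, f⟩ : BrauerPairIdx G)
    rw [hR] at h1 h2 h3
    rw [← h3]
    exact Finset.mem_image_of_mem _ (by
      rw [hgood, Finset.mem_filter, mem_blks]; exact ⟨h1.2, h2⟩)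
  set φE : G → ℂ := fun g => ∑ φ ∈ S, φ g with hφE
  have hsupp : Supp (CG P) φE := fun g hg => Finset.sum_eq_zero fun φ hφ => by
    obtain ⟨f, -, -, rfl⟩ := hmem φ hφ
    exact bc_supp _ _ g hg
  have hclass : IsClassFunction G φE := fun g h =>
    sum_closed_inv S hclosed h (Subgroup.mem_top h) g
  have hidem : Idem M φE := by
    refine ⟨fun g => ring_sum hM fun φ hφ => ?_, funext fun g => ?_⟩
    · obtain ⟨f, hf, -, rfl⟩ := hmem φ hφ
      exact bc_ring hM hf g
    rw [hφE, conv_sum_left]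
    refine Finset.sum_congr rfl fun φ hφ => ?_
    rw [conv_sum_right, Finset.sum_eq_single φ]
    · obtain ⟨f, hf, -, rfl⟩ := hmem φ hφ
      rw [(bc_idem hM hf).2]
    · intro ψ hψ hne
      obtain ⟨f, hf, -, rfl⟩ := hmem φ hφ
      obtain ⟨f', hf', -, rfl⟩ := hmem ψ hψ
      rw [bc_mul_ne hM hf hf' (fun he => hne (by rw [he])), Pi.zero_apply]
    · exact fun h => absurd hφ h
  have heI := blockCoeff_idem hM hE
  have hinvE : ∀ W : Subgroup G, Inv W (blockCoeff E) :=
    inv_of_classFun (blockCoeff_classFun E)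
  have hinvφ : ∀ W : Subgroup G, Inv W φE := inv_of_classFun hclass
  have hcong : ∀ c ∈ CG P, MemLocalIdeal M (blockCoeff E c - φE c) := by
    intro c hc
    letI := Fintype.ofFinite (CG P)
    have hv : ∀ ξ, MemLocalIdeal M (val P (blockCoeff E) ξ - val P φE ξ) := by
      intro ξ
      have hb : IsPBlock M (blockOf M (ξ : CG P → ℂ)) := isPBlock_blockOf ξ
      have hξ := mem_blockOf_self hM ξ
      have hval : val P φE ξ = ∑ f ∈ good, blockInd f ξ := by
        rw [hφE, val_sum, hS, Finset.sum_image fun f _ f' _ h => bc_inj h]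
        refine Finset.sum_congr rfl fun f _ => ?_
        rw [val_eq, bc_res, funext (blockCoeff_eq f), omegaFun_coeffFun]
      by_cases hH : Holds M (⟨P, blockOf M (ξ : CG P → ℂ)⟩ : BrauerPairIdx G) (blockCoeff E)
      · rw [hval, Finset.sum_eq_single (blockOf M (ξ : CG P → ℂ)), blockInd_of_mem hξ]
        · exact hH ξ hξ
        · intro f hf hne
          rw [hgood, Finset.mem_filter, mem_blks] at hf
          exact blockInd_of_notMem fun h => hne (pblock_eq_blockOf hM hf.1 h)
        · intro h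
          refine absurd ?_ h
          rw [hgood, Finset.mem_filter, mem_blks]
          exact ⟨hb, hH⟩
      · rw [hval, Finset.sum_eq_zero fun f hf => ?_, sub_zero]
        · exact ((holds_or hM (x := ⟨P, blockOf M (ξ : CG P → ℂ)⟩) ⟨hP, hb⟩ heI (hinvE _)
            (hinvE _)).resolve_left hH) ξ hξ
        · rw [hgood, Finset.mem_filter, mem_blks] at hf
          exact blockInd_of_notMem fun h => hH (pblock_eq_blockOf hM hf.1 h ▸ hf.2)
    have h1 := idem_congr hM (cenInt_val heI.1 (hinvE _)) (cenInt_val hidem.1 (hinvφ _))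
      (val_idem hM hP heI (hinvE _) (hinvE _)) (val_idem hM hP hidem (hinvφ _) (hinvφ _)) hv ⟨c, hc⟩
    rw [coeffFun_sub, coeff_val (hinvE _), coeff_val (hinvφ _)] at h1
    exact h1
  have hω : ∀ χ, omegaFun χ (blockCoeff E) = omegaFun χ φE := by
    intro χ
    refine eq_of_zero_one_congr hM (omega_idem_zero_or_one (blockCoeff_classFun E) heI.2 χ)
      (omega_idem_zero_or_one hclass hidem.2 χ) ?_
    cases nonempty_fintype (ConjClasses G)
    rw [omegaFun_eq_sum_classes χ (blockCoeff_classFun E), omegaFun_eq_sum_classes χ hclass,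
      ← Finset.sum_sub_distrib]
    refine ideal_sum hM fun C _ => ?_
    rw [← sub_mul]
    by_cases hC : C.out ∈ CG P
    · exact ideal_mul_right hM (hcong _ hC) (centralChar_ring hM χ _)
    · exact ideal_mul_left hM (ring_sub hM (heI.1 _) (hidem.1 _))
        (centralChar_ideal_of_normal hM hP hC χ)
  have heq : blockCoeff E = φE := by
    rw [← coeffFun_omegaFun (blockCoeff_classFun E), funext hω, coeffFun_omegaFun hclass]
  rw [heq]
  exact hsupp

/-- A regular element centralizing a self-centralizing subgroup of a `p`-group centralizes the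
`p`-group. -/
theorem regular_centralizes [Fact p.Prime] {X Y : Subgroup G} (hX : IsPGroup p X) (hYX : Y ≤ X)
    (hC : X ⊓ CG Y ≤ Y) {c : G} (hcX : c ∈ Subgroup.normalizer (X : Set G))
    (hcY : c ∈ CG Y) (hc : ¬ p ∣ orderOf c) : c ∈ CG X := by
  suffices H : ∀ n, ∀ Y : Subgroup G, Nat.card X - Nat.card Y ≤ n → Y ≤ X → X ⊓ CG Y ≤ Y →
      c ∈ CG Y → c ∈ CG X from H _ Y le_rfl hYX hC hcY
  intro n
  induction n with
  | zero =>
    intro Y hn hYX _ hcY
    rwa [← Subgroup.eq_of_le_of_card_ge hYX (by omega)]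
  | succ n ih =>
    intro Y hn hYX hC hcY
    rcases eq_or_lt_of_le hYX with rfl | hlt
    · exact hcY
    have hgt := exists_normalizer_gt hX hlt
    set R := X ⊓ Subgroup.normalizer (Y : Set G) with hR
    have hcard : Nat.card Y < Nat.card R := by
      by_contra hh
      exact hgt.ne (Subgroup.eq_of_le_of_card_ge hgt.le (by omega))
    refine ih R (by omega) inf_le_left ((inf_le_inf_left _ (Subgroup.centralizer_le hgt.le)).trans
      (hC.trans hgt.le)) (Subgroup.mem_centralizer_iff.2 fun x hx => ?_)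
    have hcomm : ∀ y ∈ Y, y * c = c * y := Subgroup.mem_centralizer_iff.1 hcY
    set z := x⁻¹ * (c * x * c⁻¹) with hz
    have hzX : z ∈ X := mul_mem (inv_mem hx.1) ((Subgroup.mem_normalizer_iff.1 hcX x).1 hx.1)
    have hzC : z ∈ CG Y := by
      refine Subgroup.mem_centralizer_iff.2 fun y hy => ?_
      have hy' : x * y * x⁻¹ ∈ Y := (Subgroup.mem_normalizer_iff.1 hx.2 y).1 hy
      have h2 : c⁻¹ * y = y * c⁻¹ :=
        inv_mul_eq_iff_eq_mul.2 (by rw [← mul_assoc, ← hcomm y hy, mul_inv_cancel_right])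
      calc y * z = x⁻¹ * ((x * y * x⁻¹) * c) * x * c⁻¹ := by rw [hz]; group
        _ = x⁻¹ * c * x * (y * c⁻¹) := by rw [hcomm _ hy']; group
        _ = z * y := by rw [← h2, hz]; group
    have hzY : z ∈ Y := hC ⟨hzX, hzC⟩
    have hpow : ∀ k : ℕ, c ^ k * x * (c ^ k)⁻¹ = x * z ^ k := by
      intro k
      induction k with
      | zero => simp
      | succ k ihk =>
        have hck : c * z ^ k * c⁻¹ = z ^ k := by
          rw [← hcomm _ (pow_mem hzY k), mul_inv_cancel_right]
        calc c ^ (k + 1) * x * (c ^ (k + 1))⁻¹ = c * (c ^ k * x * (c ^ k)⁻¹) * c⁻¹ := by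
              rw [pow_succ']; group
          _ = (c * x * c⁻¹) * (c * z ^ k * c⁻¹) := by rw [ihk]; group
          _ = x * z ^ (k + 1) := by
            rw [hck, pow_succ', ← mul_assoc x z, show x * z = c * x * c⁻¹ by rw [hz]; group]
    have hz1 : z ^ orderOf c = 1 := by
      have := hpow (orderOf c)
      rw [pow_orderOf_eq_one, one_mul, inv_one, mul_one] at this
      exact mul_eq_left.1 this.symm
    obtain ⟨k, hk⟩ := hX ⟨z, hzX⟩
    have hord : orderOf z = 1 := by
      refine Nat.eq_one_of_dvd_coprimes ?_ (orderOf_dvd_of_pow_eq_one hz1)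
        (orderOf_dvd_of_pow_eq_one (n := p ^ k) (congrArg Subtype.val hk))
      exact Nat.Coprime.pow_right k
        (Nat.coprime_comm.1 ((Fact.out : p.Prime).coprime_iff_not_dvd.2 hc))
    have := orderOf_eq_one_iff.1 hord
    rw [hz, inv_mul_eq_one] at this
    calc x * c = c * x * c⁻¹ * c := by rw [← this]
      _ = c * x := inv_mul_cancel_right _ _

theorem supp_of_le_normalizer (hM : IsPModular p M) {Q T : Subgroup G} (hQ : IsPGroup p Q)
    (hQT : Q ≤ T) (hT : T ≤ Subgroup.normalizer (Q : Set G)) {E : Set (IrrCharacter T)}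
    (hE : IsPBlock M E) (n : T) (hn : (n : G) ∉ CG Q) : blockCoeff E n = 0 := by
  classical
  letI := Fintype.ofFinite T
  haveI : (Q.subgroupOf T).Normal := (Subgroup.normal_subgroupOf_iff_le_normalizer hQT).2 hT
  refine supp_of_normal hM (P := Q.subgroupOf T) hQ.comap_subtype hE n fun h => hn ?_
  rw [Subgroup.mem_centralizer_iff] at h ⊢
  intro u hu
  exact congrArg Subtype.val (h ⟨u, hQT hu⟩ (Subgroup.mem_subgroupOf.2 hu))

/-- Block idempotents of the normalizer of a chain vanish outside the centralizer of its last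
member. -/
theorem supp_chain [Fact p.Prime] (hM : IsPModular p M) {m : ℕ} (Q : Fin (m + 1) → Subgroup G)
    (hQ : StrictMono Q) (hQp : ∀ i, IsPGroup p (Q i)) {N : Subgroup G}
    (hN : ∀ g : G, g ∈ N ↔ ∀ i, g ∈ Subgroup.normalizer (Q i : Set G))
    {E : Set (IrrCharacter N)} (hE : IsPBlock M E) (n : N)
    (hn : (n : G) ∉ CG (Q (Fin.last m))) : blockCoeff E n = 0 := by
  classical
  letI := Fintype.ofFinite N
  by_contra hne
  have hreg : ¬ p ∣ orderOf (n : G) := by
    intro h
    rw [Subgroup.orderOf_coe] at h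
    exact hne (blockCoeff_singular hM hE h)
  have hmono : ∀ i j : Fin (m + 1), i ≤ j → Q i ≤ Q j := fun i j h => hQ.monotone h
  let Nk : ℕ → Subgroup G := fun k =>
    ⨅ j : {j : Fin (m + 1) // k ≤ (j : ℕ)}, Subgroup.normalizer (Q j.1 : Set G)
  have hNk : ∀ k g, g ∈ Nk k ↔
      ∀ j : Fin (m + 1), k ≤ (j : ℕ) → g ∈ Subgroup.normalizer (Q j : Set G) := by
    intro k g
    simp only [Nk, Subgroup.mem_iInf, Subtype.forall]
  have hnorm : ∀ (i : Fin (m + 1)) (k : ℕ) (g : G), g ∈ N →
      g ∈ Subgroup.normalizer ((Q i ⊓ Nk k : Subgroup G) : Set G) := by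
    intro i k g hg
    have hgN : g ∈ Nk k := (hNk k g).2 fun j _ => (hN g).1 hg j
    refine Subgroup.mem_normalizer_iff.2 fun y => ?_
    rw [Subgroup.mem_inf, Subgroup.mem_inf]
    refine and_congr (Subgroup.mem_normalizer_iff.1 ((hN g).1 hg i) y)
      ⟨fun hy => mul_mem (mul_mem hgN hy) (inv_mem hgN), fun hy => ?_⟩
    simpa [mul_assoc] using mul_mem (mul_mem (inv_mem hgN) hy) hgN
  have hcent : ∀ i : Fin (m + 1), (n : G) ∈ CG (Q i) := by
    intro i
    have hR : ∀ k, k ≤ (i : ℕ) → (n : G) ∈ CG (Q i ⊓ Nk k) := by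
      intro k
      induction k with
      | zero =>
        intro _
        by_contra hcon
        exact hne (supp_of_le_normalizer hM ((hQp i).to_le inf_le_left)
          (fun g hg => (hN g).2 fun j => (hNk 0 g).1 hg.2 j (Nat.zero_le _))
          (fun g hg => hnorm i 0 g hg) hE n hcon)
      | succ k ih =>
        intro hk
        have hki : k < m + 1 := by have := i.isLt; omega
        have hle : Q ⟨k, hki⟩ ≤ Q i ⊓ Nk k := le_inf (hmono _ i (Fin.le_def.2 (by
          show k ≤ (i : ℕ); omega))) fun g hg => (hNk k g).2 fun l hl =>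
          Subgroup.le_normalizer (hmono ⟨k, hki⟩ l (Fin.le_def.2 hl) hg)
        refine regular_centralizes ((hQp i).to_le inf_le_left)
          (inf_le_inf_left _ fun g hg => (hNk (k + 1) g).2 fun j hj =>
            (hNk k g).1 hg j (by omega))
          (fun x hx => ⟨hx.1.1, (hNk k x).2 fun j hj => ?_⟩) (hnorm i (k + 1) _ n.2)
          (ih (by omega)) hreg
        by_cases hjk : k + 1 ≤ (j : ℕ)
        · exact (hNk (k + 1) x).1 hx.1.2 j hjk
        · obtain rfl : j = ⟨k, hki⟩ := Fin.ext (by show (j : ℕ) = k; omega)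
          exact cg_le_normalizer _ (Subgroup.centralizer_le hle hx.2)
    have h0 := hR i le_rfl
    have h1 : Q i ⊓ Nk (i : ℕ) = Q i := inf_eq_left.2 fun g hg => (hNk _ g).2 fun j hj =>
      Subgroup.le_normalizer (hmono i j (Fin.le_def.2 hj) hg)
    rwa [h1] at h0
  exact hn (hcent (Fin.last m))

end Cfsg.Agent.Char.BP
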