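import Cfsg.Agent.Lib.Block.QuotientBlocks
import Cfsg.Agent.Lib.Block.Height

/-!
Defect groups of the blocks of a quotient contained in a block of the group.
-/

open scoped ComplexConjugate

namespace Cfsg.Agent.Char.QuotDefect

open Cfsg Cfsg.Agent.Block Cfsg.Agent.Char

set_option linter.unusedSectionVars false
set_option linter.style.haveILetI false

universe u

variable {G : Type u} [Group G] [Finite G] {p : ℕ} {M : Ideal AlgInt} (N : Subgroup G) [N.Normal]

/-- Inflation from the quotient. -/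
noncomputable def qinfl (χ : IrrCharacter (G ⧸ N)) : IrrCharacter G :=
  ⟨(χ : G ⧸ N → ℂ) ∘ QuotientGroup.mk,
    IsIrr.comp_surjective (QuotientGroup.mk' N) (QuotientGroup.mk'_surjective N) χ.2⟩

theorem qinfl_apply (χ : IrrCharacter (G ⧸ N)) (g : G) :
    (qinfl N χ : G → ℂ) g = (χ : G ⧸ N → ℂ) (g : G ⧸ N) := rfl

/-- The characters of the quotient whose inflations lie in a given set. -/
def liftSet (B : Set (IrrCharacter G)) : Set (IrrCharacter (G ⧸ N)) := {χ | qinfl N χ ∈ B}

theorem sameBlock_qinfl (hM : IsPModular p M) {χ ψ : IrrCharacter (G ⧸ N)}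
    (h : SameBlock M (χ : G ⧸ N → ℂ) (ψ : G ⧸ N → ℂ)) :
    SameBlock M (qinfl N χ : G → ℂ) (qinfl N ψ : G → ℂ) := fun g => by
  show MemLocalIdeal M (centralChar ((χ : G ⧸ N → ℂ) ∘ QuotientGroup.mk) g -
    centralChar ((ψ : G ⧸ N → ℂ) ∘ QuotientGroup.mk) g)
  rw [centralChar_inflate, centralChar_inflate, ← mul_sub]
  exact ideal_mul_left hM (ring_natCast hM _) (h _)

/-- The idempotent of the block maps to the idempotent of the contained blocks. -/
theorem blockCoeff_liftSet [Fintype N] (B : Set (IrrCharacter G)) (g : G) :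
    blockCoeff (liftSet N B) (g : G ⧸ N) = ∑ n : N, blockCoeff B (g * n) := by
  classical
  cases nonempty_fintype G
  simp only [blockCoeff, finsum_mem_block, ← Finset.mul_sum]
  rw [Finset.sum_comm]
  set K := (Finset.univ.filter fun χ : IrrCharacter G => χ ∈ B).filter
    fun χ : IrrCharacter G => ∀ u ∈ N, (χ : G → ℂ) u = (χ : G → ℂ) 1 with hK
  have hkill : ∀ χ : IrrCharacter G, ∑ n : N, (χ : G → ℂ) 1 * conj ((χ : G → ℂ) (g * n)) =
      if ∀ u ∈ N, (χ : G → ℂ) u = (χ : G → ℂ) 1 then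
        (Nat.card N : ℂ) * ((χ : G → ℂ) 1 * conj ((χ : G → ℂ) g)) else 0 := by
    intro χ
    have hflip : ∀ n : N, (χ : G → ℂ) (g * n) = (χ : G → ℂ) ((n : G) * g) := fun n => by
      rw [← irr_classFun χ (g * n) (n : G), show (n : G) * (g * n) * (n : G)⁻¹ = n * g by group]
    simp only [hflip, ← Finset.mul_sum, ← map_sum]
    split_ifs with h
    · obtain ⟨ψ, -, hψ⟩ := IsIrr.exists_factor_quotient χ.2 N h
      rw [Finset.sum_congr rfl (g := fun _ => (χ : G → ℂ) g) fun (n : N) _ => by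
        rw [← hψ, ← hψ, QuotientGroup.mk_mul, (QuotientGroup.eq_one_iff (n : G)).2 n.2, one_mul],
        Finset.sum_const, Finset.card_univ, nsmul_eq_mul, ← Nat.card_eq_fintype_card, map_mul,
        map_natCast]
      ring
    · rw [sum_normal_mul_eq_zero N χ h g, map_zero, mul_zero]
  simp only [hkill]
  rw [← Finset.sum_filter, ← hK, ← Finset.mul_sum, ← mul_assoc]
  have hcard : (Nat.card (G ⧸ N) : ℂ)⁻¹ = (Nat.card G : ℂ)⁻¹ * (Nat.card N : ℂ) := by
    rw [← Subgroup.card_mul_index N, Subgroup.index, Nat.cast_mul, mul_inv, mul_comm (_⁻¹),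
      mul_assoc, inv_mul_cancel₀ (Nat.cast_ne_zero.2 Nat.card_pos.ne'), mul_one]
  rw [← hcard]
  congr 1
  refine Finset.sum_bij (fun χ _ => qinfl N χ) (fun χ hχ => ?_) (fun a _ b _ h => ?_)
    (fun χ hχ => ?_) (fun χ _ => ?_)
  · rw [hK, Finset.mem_filter, Finset.mem_filter]
    refine ⟨⟨Finset.mem_univ _, (Finset.mem_filter.1 hχ).2⟩, fun u hu => ?_⟩
    rw [qinfl_apply, qinfl_apply, (QuotientGroup.eq_one_iff u).2 hu, QuotientGroup.mk_one]
  · refine Subtype.ext (funext fun q => ?_)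
    obtain ⟨y, rfl⟩ := QuotientGroup.mk_surjective q
    exact congrFun (congrArg Subtype.val h) y
  · rw [hK, Finset.mem_filter, Finset.mem_filter] at hχ
    obtain ⟨ψ, hψ, e⟩ := IsIrr.exists_factor_quotient χ.2 N hχ.2
    have e' : qinfl N ⟨ψ, hψ⟩ = χ := Subtype.ext (funext fun y => e y)
    exact ⟨⟨ψ, hψ⟩, Finset.mem_filter.2 ⟨Finset.mem_univ _, show qinfl N _ ∈ B from
      e'.symm ▸ hχ.1.2⟩, e'⟩
  · rw [qinfl_apply, qinfl_apply, QuotientGroup.mk_one]

theorem cenInt_liftSet (hM : IsPModular p M) {B : Set (IrrCharacter G)} (hB : IsPBlock M B) :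
    CenInt M (blockInd (liftSet N B)) := by
  intro q
  cases nonempty_fintype N
  obtain ⟨g, rfl⟩ := QuotientGroup.mk_surjective q
  rw [← blockCoeff_eq, blockCoeff_liftSet]
  exact ring_sum hM fun n _ => blockCoeff_ring hM hB _

/-- A defect group of a contained block lies in the image of a defect group. -/
theorem exists_ge (hM : IsPModular p M) {Bbar : Set (IrrCharacter (G ⧸ N))}
    (hBbar : IsPBlock M Bbar) {B : Set (IrrCharacter G)} (hB : IsPBlock M B)
    (hsub : Bbar ⊆ liftSet N B) {Dbar : Subgroup (G ⧸ N)}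
    (hDbar : IsDefectGroup p M Bbar Dbar) :
    ∃ P : Subgroup G, IsDefectGroup p M B P ∧ Dbar ≤ P.map (QuotientGroup.mk' N) := by
  classical
  haveI := Fact.mk (pmod_prime hM)
  cases nonempty_fintype N
  have hDp := IsDefectGroup.isPGroup hDbar
  have hne : ¬ BrZero M Dbar (blockInd (liftSet N B)) := fun h0 => by
    refine defectGroup_not_brZero hM hBbar hDbar ?_
    have e : blockInd Bbar * blockInd (liftSet N B) = blockInd Bbar := funext fun χ => by
      by_cases h : χ ∈ Bbar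
      · simp [blockInd_of_mem h, blockInd_of_mem (hsub h)]
      · simp [blockInd_of_notMem h]
    rw [← e]
    exact h0.mul_left hM hDp (cenInt_blockInd hM hBbar) (cenInt_liftSet N hM hB)
  obtain ⟨q, hq, hunit⟩ : ∃ q ∈ Subgroup.centralizer (Dbar : Set (G ⧸ N)),
      ¬ MemLocalIdeal M (coeffFun (blockInd (liftSet N B)) q) := by
    simpa [BrZero] using hne
  obtain ⟨g, rfl⟩ := QuotientGroup.mk_surjective q
  rw [← blockCoeff_eq, blockCoeff_liftSet] at hunit
  -- a Sylow subgroup of the preimage covers the quotient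
  set L : Subgroup G := Dbar.comap (QuotientGroup.mk' N) with hL
  obtain ⟨Q₀⟩ : Nonempty (Sylow p L) := inferInstance
  set Q : Subgroup G := (Q₀ : Subgroup L).map L.subtype with hQ
  have hQp : IsPGroup p Q := Q₀.isPGroup'.map _
  have hQD : Dbar ≤ Q.map (QuotientGroup.mk' N) := by
    let π : L →* Dbar := ((QuotientGroup.mk' N).comp L.subtype).codRestrict Dbar fun l => l.2
    have hπ : Function.Surjective π := fun d => by
      obtain ⟨y, hy⟩ := QuotientGroup.mk'_surjective N (d : G ⧸ N)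
      exact ⟨⟨y, by rw [hL, Subgroup.mem_comap, hy]; exact d.2⟩, Subtype.ext hy⟩
    have htop : ((Q₀ : Subgroup L).map π) = ⊤ := by
      rw [← Subgroup.index_eq_one]
      have h1 : ((Q₀ : Subgroup L).map π).index ∣ (Q₀ : Subgroup L).index :=
        Subgroup.index_map_dvd _ hπ
      obtain ⟨k, hk⟩ := IsPGroup.index hDp ((Q₀ : Subgroup L).map π)
      rw [hk] at h1 ⊢
      rcases Nat.eq_zero_or_pos k with rfl | hk0
      · rw [pow_zero]
      · exact absurd ((dvd_pow_self p hk0.ne').trans h1) Q₀.not_dvd_index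
    intro d hd
    have hmem : (⟨d, hd⟩ : Dbar) ∈ ((Q₀ : Subgroup L).map π) := htop.symm ▸ Subgroup.mem_top _
    obtain ⟨l, hl, e⟩ := hmem
    exact ⟨(l : G), ⟨l, hl, rfl⟩, congrArg Subtype.val e⟩
  -- the Sylow subgroup acts on the coset
  have hcomm : ∀ u : Q, (g * (u : G) : G ⧸ N) = ((u : G) * g : G) := fun u => by
    obtain ⟨l, -, hl⟩ := u.2
    have hl' : ((u : G) : G ⧸ N) ∈ Dbar := hl ▸ l.2
    rw [QuotientGroup.mk_mul]
    exact (Subgroup.mem_centralizer_iff.1 hq _ hl').symm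
  have hconj : ∀ (u : Q) (n : N), g⁻¹ * ((u : G) * (g * n) * (u : G)⁻¹) ∈ N := fun u n => by
    rw [← QuotientGroup.eq_one_iff, QuotientGroup.mk_mul, QuotientGroup.mk_inv,
      QuotientGroup.mk_mul, QuotientGroup.mk_mul, QuotientGroup.mk_mul, QuotientGroup.mk_inv,
      (QuotientGroup.eq_one_iff (n : G)).2 n.2, mul_one]
    have h := hcomm u
    rw [QuotientGroup.mk_mul] at h
    rw [← h]
    group
  letI act : MulAction Q N :=
    { smul := fun u n => ⟨_, hconj u n⟩
      one_smul := fun n => Subtype.ext (by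
        show g⁻¹ * (((1 : Q) : G) * (g * n) * ((1 : Q) : G)⁻¹) = (n : G)
        simp)
      mul_smul := fun u v n => Subtype.ext (by
        show g⁻¹ * (((u * v : Q) : G) * (g * n) * ((u * v : Q) : G)⁻¹) =
          g⁻¹ * ((u : G) * (g * (g⁻¹ * ((v : G) * (g * n) * (v : G)⁻¹))) * (u : G)⁻¹)
        simp only [Subgroup.coe_mul]
        group) }
  have hsmul : ∀ (u : Q) (n : N), g * ((u • n : N) : G) = (u : G) * (g * n) * (u : G)⁻¹ :=
    fun u n => by
      show g * (g⁻¹ * ((u : G) * (g * n) * (u : G)⁻¹)) = _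
      group
  have hfixed := ideal_sum_sub_fixed hM hQp (F := fun n : N => blockCoeff B (g * n))
    (fun n => blockCoeff_ring hM hB _) (fun u n => by
      simp only [hsmul]
      rw [blockCoeff_eq, blockCoeff_eq]
      exact coeffFun_classFun _ _ _)
  -- a unit among the fixed points
  obtain ⟨n, hn, hnu⟩ : ∃ n ∈ MulAction.fixedPoints Q N,
      ¬ MemLocalIdeal M (blockCoeff B (g * ((n : N) : G))) := by
    by_contra h
    push Not at h
    refine hunit ?_
    have hs : MemLocalIdeal M (∑ᶠ n ∈ MulAction.fixedPoints Q N, blockCoeff B (g * ((n : N) : G))) := by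
      rw [finsum_mem_eq_sum_of_inter_support_eq _
        (t := Finset.univ.filter (· ∈ MulAction.fixedPoints Q N)) (by ext; simp)]
      exact ideal_sum hM fun n hn => h n (Finset.mem_filter.1 hn).2
    simpa using ideal_add hM hfixed hs
  have hQc : g * ((n : N) : G) ∈ Subgroup.centralizer (Q : Set G) :=
    Subgroup.mem_centralizer_iff.2 fun u hu => by
      have := hsmul ⟨u, hu⟩ n
      rw [MulAction.mem_fixedPoints.1 hn ⟨u, hu⟩] at this
      exact (eq_mul_inv_iff_mul_eq.1 this).symm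
  obtain ⟨P, hP, hle⟩ := exists_defectGroup_ge hM hB hQp (not_brZero_of_unit hnu hQc)
  exact ⟨P, hP, hQD.trans (Subgroup.map_mono hle)⟩

/-- For a normal `p`-subgroup some contained block has the images as defect groups. -/
theorem exists_exact (hM : IsPModular p M) (hN : IsPGroup p N) {B : Set (IrrCharacter G)}
    (hB : IsPBlock M B) :
    ∃ Bbar : Set (IrrCharacter (G ⧸ N)), IsPBlock M Bbar ∧ Bbar ⊆ liftSet N B ∧
      ∀ Dbar : Subgroup (G ⧸ N), IsDefectGroup p M Bbar Dbar ↔
        ∃ P : Subgroup G, IsDefectGroup p M B P ∧ Dbar = P.map (QuotientGroup.mk' N) := by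
  classical
  haveI := Fact.mk (pmod_prime hM)
  cases nonempty_fintype N
  cases nonempty_fintype G
  obtain ⟨P, hP⟩ := exists_isDefectGroup hM hB
  obtain ⟨g, hg, S, hS⟩ := hP
  have hPdef : IsDefectGroup p M B P := ⟨g, hg, S, hS⟩
  have hPeq : P = csyl S := hS
  have hgreg : ¬ p ∣ orderOf g := regular_of_unit hM hB hg.2.1
  have hcN : ∀ n : N, Commute g (n : G) := fun n => by
    have h1 : (n : G) ∈ csyl S := hPeq ▸ normal_le_defectGroup hM hB hPdef hN n.2
    exact (Subgroup.mem_centralizer_singleton_iff.1 (csyl_le S h1)).symm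
  -- only the regular element survives in the coset
  have hsum : ∑ n : N, blockCoeff B (g * n) = blockCoeff B g := by
    rw [Finset.sum_eq_single (1 : N), Subgroup.coe_one, mul_one]
    · intro n _ hn
      refine blockCoeff_singular hM hB ?_
      obtain ⟨k, hk⟩ := hN n
      have hnk : (n : G) ^ p ^ k = 1 := congrArg Subtype.val hk
      by_contra hnot
      refine hn (Subtype.ext (orderOf_eq_one_iff.1 ?_))
      have h1 : (n : G) ^ (orderOf (g * n) * orderOf g) = 1 := by
        have h2 : (g * (n : G)) ^ (orderOf (g * n) * orderOf g) = 1 := by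
          rw [pow_mul, pow_orderOf_eq_one, one_pow]
        have h3 : g ^ (orderOf (g * n) * orderOf g) = 1 :=
          orderOf_dvd_iff_pow_eq_one.1 (dvd_mul_left _ _)
        rwa [(hcN n).mul_pow, h3, one_mul] at h2
      refine Nat.eq_one_of_dvd_coprimes ?_ (orderOf_dvd_of_pow_eq_one hnk)
        (orderOf_dvd_of_pow_eq_one h1)
      exact Nat.Coprime.pow_left k (Nat.Coprime.mul_right
        ((Fact.out : p.Prime).coprime_iff_not_dvd.2 hnot)
        ((Fact.out : p.Prime).coprime_iff_not_dvd.2 hgreg))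
    · exact fun h => absurd (Finset.mem_univ _) h
  -- a contained block seeing the class
  have hunit : ¬ MemLocalIdeal M (blockCoeff (liftSet N B) (g : G ⧸ N)) := by
    rw [blockCoeff_liftSet, hsum]; exact hg.2.1
  set 𝒮 := (Finset.univ.filter fun χ : IrrCharacter (G ⧸ N) => χ ∈ liftSet N B).image
    (fun χ : IrrCharacter (G ⧸ N) => blockOf M (χ : G ⧸ N → ℂ)) with h𝒮
  have hclosed : ∀ χ ∈ liftSet N B, ∀ ψ : IrrCharacter (G ⧸ N),
      SameBlock M (χ : G ⧸ N → ℂ) (ψ : G ⧸ N → ℂ) → ψ ∈ liftSet N B := fun χ hχ ψ h =>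
    pblock_mem_of_sameBlock hM hB hχ (sameBlock_qinfl N hM h)
  obtain ⟨Bbar, hBS, hBu⟩ : ∃ Bbar ∈ 𝒮, ¬ MemLocalIdeal M (blockCoeff Bbar (g : G ⧸ N)) := by
    by_contra h
    push Not at h
    refine hunit ?_
    have e : blockCoeff (liftSet N B) (g : G ⧸ N) = ∑ C ∈ 𝒮, blockCoeff C (g : G ⧸ N) := by
      simp only [blockCoeff, finsum_mem_block, ← Finset.mul_sum]
      congr 1
      rw [← Finset.sum_fiberwise_of_maps_to (g := fun χ : IrrCharacter (G ⧸ N) =>
        blockOf M (χ : G ⧸ N → ℂ)) (t := 𝒮) fun χ hχ => Finset.mem_image_of_mem _ hχ]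
      refine Finset.sum_congr rfl fun C hC => Finset.sum_congr ?_ fun _ _ => rfl
      obtain ⟨χ₀, hχ₀, rfl⟩ := Finset.mem_image.1 hC
      ext χ
      simp only [Finset.mem_filter, Finset.mem_univ, true_and] at hχ₀ ⊢
      constructor
      · rintro ⟨-, he⟩
        exact he ▸ mem_blockOf_self hM χ
      · intro hχ
        exact ⟨hclosed χ₀ hχ₀ χ hχ, blockOf_eq hM (sameBlock_symm hχ)⟩
    rw [e]
    exact ideal_sum hM h
  obtain ⟨χ₀, hχ₀, rfl⟩ := Finset.mem_image.1 hBS
  have hBb : IsPBlock M (blockOf M (χ₀ : G ⧸ N → ℂ)) := isPBlock_blockOf χ₀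
  have hsub : blockOf M (χ₀ : G ⧸ N → ℂ) ⊆ liftSet N B := fun χ hχ =>
    hclosed χ₀ (Finset.mem_filter.1 hχ₀).2 χ hχ
  set Bb := blockOf M (χ₀ : G ⧸ N → ℂ) with hBbdef
  have hgC : (g : G ⧸ N) ∈ Subgroup.centralizer ((P.map (QuotientGroup.mk' N) : Subgroup (G ⧸ N)) :
      Set (G ⧸ N)) := Subgroup.mem_centralizer_iff.2 fun u hu => by
    obtain ⟨v, hv, rfl⟩ := hu
    rw [QuotientGroup.mk'_apply, ← QuotientGroup.mk_mul, ← QuotientGroup.mk_mul]
    rw [Subgroup.mem_centralizer_singleton_iff.1 (csyl_le S (hPeq ▸ hv))]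
  obtain ⟨D₀, hD₀, hle⟩ := exists_defectGroup_ge hM hBb
    ((IsDefectGroup.isPGroup hPdef).map (QuotientGroup.mk' N)) (not_brZero_of_unit hBu hgC)
  obtain ⟨P', hP', hle'⟩ := exists_ge N hM hBb hB hsub hD₀
  have hD₀eq : D₀ = P.map (QuotientGroup.mk' N) := by
    refine (Subgroup.eq_of_le_of_card_ge hle ?_).symm
    obtain ⟨x, hx⟩ := defectGroup_conj hM hB hPdef hP'
    refine (Subgroup.card_le_of_le hle').trans (le_of_eq ?_)
    rw [← hx, Subgroup.map_map, show (QuotientGroup.mk' N).comp (MulAut.conj x).toMonoidHom =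
      (MulAut.conj (x : G ⧸ N)).toMonoidHom.comp (QuotientGroup.mk' N) from
        MonoidHom.ext fun y => by simp, ← Subgroup.map_map, card_map_conj]
  refine ⟨Bb, hBb, hsub, fun Dbar => ⟨fun hD => ?_, ?_⟩⟩
  · obtain ⟨x, hx⟩ := defectGroup_conj hM hBb hD₀ hD
    obtain ⟨y, rfl⟩ := QuotientGroup.mk_surjective x
    refine ⟨P.map (MulAut.conj y).toMonoidHom, isDefectGroup_map_conj hM hPdef y, ?_⟩
    rw [← hx, hD₀eq, Subgroup.map_map, Subgroup.map_map]
    congr 1
  · rintro ⟨P₁, hP₁, rfl⟩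
    obtain ⟨x, hx⟩ := defectGroup_conj hM hB hPdef hP₁
    have h := isDefectGroup_map_conj hM hD₀ (x : G ⧸ N)
    rw [hD₀eq, Subgroup.map_map] at h
    rw [← hx, Subgroup.map_map]
    convert h using 2
    exact MonoidHom.ext fun z => by simp

end Cfsg.Agent.Char.QuotDefect
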