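import Cfsg.Agent.Lib.Char.EqualDegreeInertia
import Cfsg.Agent.Lib.Char.PairNilpotent
import Cfsg.Agent.Lib.Char.PairSaturated
import Cfsg.Agent.Lib.Char.PairSupport
import Cfsg.Agent.Lib.Char.QuotientDefect
import Cfsg.Agent.Lib.Block.NormalDefect
import Cfsg.Agent.Lib.Fus.SupersolubleMetacyclic
import Cfsg.Agent.Lib.Grp.Frattini

/-!
A block with normal defect group all of whose characters of height zero have one degree is
nilpotent: the inertial group acts trivially modulo the derived group of the defect group by the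
abelian case in the quotient, hence trivially.
-/

open scoped ComplexConjugate

namespace Cfsg.Agent.Char.EqDeg

open Cfsg Cfsg.Agent.Block Cfsg.Agent.Char.BP Cfsg.Agent.Char.QuotDefect

set_option linter.unusedSectionVars false
set_option linter.style.haveILetI false
set_option maxHeartbeats 800000

universe u

variable {G : Type u} [Group G] [Fintype G] [DecidableEq G] {p : ℕ} {M : Ideal AlgInt}
variable {B : Set (IrrCharacter G)}

/-- For a normal `p`-subgroup a block covering a block of the centralizer holds its pair. -/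
theorem ofB_of_covered (hM : IsPModular p M) {P : Subgroup G} [P.Normal] (hP : IsPGroup p P)
    [(CG P).Normal] [Fintype (CG P)] (hB : IsPBlock M B) {χ : IrrCharacter G} (hχ : χ ∈ B)
    {θ : IrrCharacter (CG P)}
    (hc : classInner (fun c : CG P => (χ : G → ℂ) c) (θ : CG P → ℂ) ≠ 0) :
    OfB p M B (⟨P, blockOf M (θ : CG P → ℂ)⟩ : BrauerPairIdx G) := by
  refine ofB_of_holds hB ⟨hP, isPBlock_blockOf θ⟩ fun ξ hξ => ?_
  have hinv := inv_of_classFun (blockCoeff_classFun B) (CG P)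
  have h1 : val P (blockCoeff B) θ = 1 := by
    rw [val_eq]
    show omegaFun θ (fun n : CG P => blockCoeff B n) = 1
    rw [← omegaFun_cover (CG P) (blockCoeff_classFun B) (supp_of_normal hM hP hB) χ hc,
      funext (blockCoeff_eq B), omegaFun_coeffFun, blockInd_of_mem hχ]
  have h2 := (cenInt_val (blockCoeff_idem hM hB).1 hinv).congr_block hM
    (pblock_sameBlock hM (isPBlock_blockOf θ) hξ (mem_blockOf_self hM θ))
  rw [h1] at h2
  exact h2

/-- A constituent on a subgroup of a subgroup comes with an intermediate one. -/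
theorem exists_chain (K : Subgroup G) [Fintype K] (L : Subgroup K) [Fintype L]
    (χ : IrrCharacter G) :
    ∃ (ψ : IrrCharacter L) (ξ : IrrCharacter K),
      classInner (fun z : L => (χ : G → ℂ) ((z : K) : G)) (ψ : L → ℂ) ≠ 0 ∧
      classInner (fun k : K => (χ : G → ℂ) k) (ξ : K → ℂ) ≠ 0 ∧
      classInner (fun z : L => (ξ : K → ℂ) z) (ψ : L → ℂ) ≠ 0 := by
  classical
  have hK : IsClassFunction K (fun k : K => (χ : G → ℂ) k) :=
    IsChar.classFun (IsChar.res (irr_isChar χ) K)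
  have hL : IsClassFunction L (fun z : L => (χ : G → ℂ) ((z : K) : G)) := fun a b =>
    hK (a : K) (b : K)
  obtain ⟨ψ, hψ⟩ : ∃ ψ : IrrCharacter L,
      classInner (fun z : L => (χ : G → ℂ) ((z : K) : G)) (ψ : L → ℂ) ≠ 0 := by
    by_contra h
    push Not at h
    refine irr_one_ne_zero χ ?_
    have h1 := classFunction_ext (G := L) (g := 0) hL (fun _ _ => rfl)
      (fun ψ hψ => by rw [h ⟨ψ, hψ⟩, classInner_zero_left])
    exact congrFun h1 1
  refine ⟨ψ, ?_⟩
  by_contra h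
  push Not at h
  refine hψ ?_
  have h1 : (fun z : L => (χ : G → ℂ) ((z : K) : G)) = ∑ ξ : IrrCharacter K,
      classInner (fun k : K => (χ : G → ℂ) k) (ξ : K → ℂ) • fun z : L => (ξ : K → ℂ) z := by
    funext z
    have h2 := congrFun (classFunction_expansion hK) (z : K)
    simp only [Finset.sum_apply, Pi.smul_apply] at h2 ⊢
    exact h2
  rw [h1, classInner_sum_left]
  refine Finset.sum_eq_zero fun ξ _ => ?_
  rw [classInner_smul_left]
  by_cases h0 : classInner (fun k : K => (χ : G → ℂ) k) (ξ : K → ℂ) = 0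
  · rw [h0, zero_mul]
  · rw [h ξ hψ h0, mul_zero]

/-- An element of order prime to `p` conjugating like an element of a coset of a `p`-element
centralizes. -/
theorem centralizes_of_conj_eq [Fact p.Prime] {P Q : Subgroup G} (hQP : Q ≤ P) {y t : G}
    (hy : ¬ p ∣ orderOf y)
    (hyN : y ∈ Subgroup.normalizer (Q : Set G)) (ht : ∃ a : ℕ, t ^ p ^ a ∈ CG P)
    (h : ∀ u ∈ Q, t * u * t⁻¹ = y * u * y⁻¹) : y ∈ CG Q := by
  obtain ⟨a, ha⟩ := ht
  have hpow : ∀ n : ℕ, ∀ u ∈ Q, t ^ n * u * (t ^ n)⁻¹ = y ^ n * u * (y ^ n)⁻¹ := by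
    intro n
    induction n with
    | zero => intro u _; simp
    | succ n ih =>
      intro u hu
      have h1 : y * u * y⁻¹ ∈ Q := (Subgroup.mem_normalizer_iff.1 hyN u).1 hu
      rw [pow_succ, pow_succ,
        show t ^ n * t * u * (t ^ n * t)⁻¹ = t ^ n * (t * u * t⁻¹) * (t ^ n)⁻¹ by group, h u hu,
        ih _ h1]
      group
  have hcen : y ^ p ^ a ∈ CG Q := by
    refine Subgroup.mem_centralizer_iff.2 fun u hu => ?_
    have h1 := hpow (p ^ a) u hu
    rw [← Subgroup.mem_centralizer_iff.1 ha u (hQP hu), mul_inv_cancel_right] at h1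
    conv_lhs => rw [h1]
    group
  obtain ⟨j, hj⟩ := exists_pow_eq_self_of_coprime (n := p ^ a) (x := y)
    (((Fact.out : p.Prime).coprime_iff_not_dvd.2 hy).pow_left a)
  rw [← hj]
  exact pow_mem hcen j

/-- With a normal defect group an inertial quotient which is a `p`-group gives nilpotency. -/
theorem nilpotent_of_normal [Fact p.Prime] (hM : IsPModular p M) {P : Subgroup G} [hPn : P.Normal]
    {e : Set (IrrCharacter (CG P))} (hx : IsMx p M B (⟨P, e⟩ : BrauerPairIdx G))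
    (hst : ∀ y ∈ stab (⟨P, e⟩ : BrauerPairIdx G), ∃ a : ℕ, y ^ p ^ a ∈ CG P) :
    IsNilpotentBlock p M B := by
  classical
  have hB : IsPBlock M B := hx.1.2.1
  have hPp : IsPGroup p P := hx.1.1.1
  have key : ∀ n : ℕ, ∀ a : BrauerPairIdx G, LE p M a (⟨P, e⟩ : BrauerPairIdx G) →
      Nat.card P ≤ Nat.card a.1 + n → ∀ y ∈ stab a,
      ∃ t ∈ stab (⟨P, e⟩ : BrauerPairIdx G), ∀ u ∈ a.1, t * u * t⁻¹ = y * u * y⁻¹ := by
    intro n
    induction n using Nat.strong_induction_on with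
    | _ n ih =>
    intro a ha hn y hy
    have hle : a.1 ≤ P := le_subgroup ha
    by_cases heq : a.1 = P
    · obtain rfl := eq_of_le_of_subgroup hM ha heq.ge
      exact ⟨y, hy, fun u _ => rfl⟩
    have hap := le_isPr ha hx.1.1
    set R := P ⊓ Subgroup.normalizer (a.1 : Set G) with hR
    have hlt : a.1 < R := exists_normalizer_gt hPp (lt_of_le_of_ne hle heq)
    obtain ⟨r, hr, hst', hrx⟩ := step_below hM hx.1.1 ha (R := R) hlt.le inf_le_left inf_le_right
    have hyN : y ∈ Subgroup.normalizer (a.1 : Set G) := stab_le_normalizer a hy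
    have hk1 : (cjI y r).1 = R := by
      show r.1.map (MulAut.conj y).toMonoidHom = R
      rw [hr]
      refine Subgroup.eq_of_le_of_card_ge ?_ (card_map_conj y R).ge
      rintro _ ⟨v, hv, rfl⟩
      exact ⟨hPn.conj_mem v hv.1 y, Subgroup.mul_mem _ (Subgroup.mul_mem _ hyN hv.2)
        (Subgroup.inv_mem _ hyN)⟩
    have hstk : Step p M a (cjI y r) := by
      have := step_cjI hM y hst'
      rwa [cjI_eq_of_stab hy] at this
    set L := R ⊔ CG a.1 with hL
    have hQL : a.1 ≤ L := le_sup_of_le_left hlt.le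
    have hLs : L ≤ stab a := sup_le (big_norm hM hx.1.1 ha).2.2.1 (cg_le_stab a)
    have hCL : CG a.1 ≤ L := le_sup_right
    letI := Fintype.ofFinite L
    obtain ⟨FL, hFL, hFLc⟩ := exists_block_between hM hap hQL hCL hLs
    have hofb : ∀ z : BrauerPairIdx G, ∀ (h1 : z.1 ≤ L) (h2 : CG z.1 ≤ L),
        Step p M a z → OfB p M FL (dn L z h1 h2) := fun z h1 h2 hz => by
      refine ofB_of_holds hFL (isPr_dn hM hz.2.1 h1 h2) ?_
      rw [show blockCoeff FL = res L (be a) from funext hFLc]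
      exact (holds_dn z h1 h2 _).2 ((step_iff hM).1 hz).2.2.2.2.2
    obtain ⟨D, hD⟩ := exists_isDefectGroup hM hFL
    have hbound : Nat.card D ≤ Nat.card R := by
      obtain ⟨S, hS, -, hScard⟩ := exists_big_defect hM hap hQL hLs hFL hFLc
      rw [card_defectGroup hM hFL hD, ← hScard]
      obtain ⟨g, hg, hgle⟩ := hS.conj_le hM hx ha
      refine Subgroup.card_le_of_le fun s hs => ⟨?_, stab_le_normalizer a (hS.2.2.1 hs)⟩
      have h1 : g * s * g⁻¹ ∈ P := (hgle (conj_mem_map_conj.2 hs)).1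
      simpa [mul_assoc] using hPn.conj_mem _ h1 g⁻¹
    have hmax : ∀ z : BrauerPairIdx G, ∀ (h1 : z.1 ≤ L) (h2 : CG z.1 ≤ L),
        Step p M a z → z.1 = R → IsMx p M FL (dn L z h1 h2) := fun z h1 h2 hz hzR =>
      max_of_defect hM (hofb z h1 h2 hz) (defect_of_card_le hM (hofb z h1 h2 hz) hD (by
        rw [dn_fst, Nat.card_congr (Subgroup.subgroupOfEquivOfLe h1).toEquiv, hzR]
        exact hbound))
    have hrL : r.1 ≤ L := hr ▸ le_sup_left
    have hrC : CG r.1 ≤ L := (Subgroup.centralizer_le hst'.2.2.1).trans hCL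
    have hkL : (cjI y r).1 ≤ L := hk1 ▸ le_sup_left
    have hkC : CG (cjI y r).1 ≤ L := (Subgroup.centralizer_le hstk.2.2.1).trans hCL
    obtain ⟨l, hl⟩ := max_conj hM (hmax r hrL hrC hst' hr) (hmax _ hkL hkC hstk hk1)
    have hkl := dn_conj_eq hM hrL hrC hkL hkC hl
    obtain ⟨u, hu, c, hc, huc⟩ : ∃ u ∈ R, ∃ c ∈ CG a.1, u * c = ((l : G))⁻¹ := by
      have hl2 : ((l : G))⁻¹ ∈ ((R ⊔ CG a.1 : Subgroup G) : Set G) := inv_mem l.2
      rw [Subgroup.coe_mul_of_left_le_normalizer_right R (CG a.1)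
        fun v hv => mem_normalizer_cg hv.2] at hl2
      exact Set.mem_mul.1 hl2
    have hfix : cjI (c * y) r = r := by
      have h1 : cjI u⁻¹ r = r := cjI_self (inv_mem (hr.symm ▸ hu : u ∈ r.1))
      rw [show (l : G) = c⁻¹ * u⁻¹ by rw [← mul_inv_rev, huc, inv_inv], ← cjI_cjI, h1] at hkl
      rw [← cjI_cjI, hkl, cjI_cjI, mul_inv_cancel, cjI_one]
    have hN' : c * y ∈ Subgroup.normalizer (r.1 : Set G) := Subgroup.mem_normalizer_iff.2 fun g => by
      have h1 : r.1.map (MulAut.conj (c * y)).toMonoidHom = r.1 := congrArg Sigma.fst hfix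
      conv_rhs => rw [← h1]
      exact conj_mem_map_conj.symm
    have hcard : Nat.card a.1 < Nat.card r.1 := by
      rw [hr]
      exact lt_of_le_of_ne (Subgroup.card_le_of_le hlt.le) fun h =>
        hlt.ne (Subgroup.eq_of_le_of_card_ge hlt.le h.ge)
    have hnm : Nat.card P - Nat.card r.1 < n := by
      have h1 : Nat.card r.1 ≤ Nat.card P := Subgroup.card_le_of_le (le_subgroup hrx)
      omega
    obtain ⟨t, ht, htc⟩ := ih _ hnm r hrx (by omega) (c * y) (mem_stab_of_cjI hN' hfix)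
    refine ⟨t, ht, fun v hv => ?_⟩
    rw [htc v (hst'.2.2.1 hv)]
    have h2 : y * v * y⁻¹ ∈ a.1 := (Subgroup.mem_normalizer_iff.1 hyN v).1 hv
    calc c * y * v * (c * y)⁻¹ = c * (y * v * y⁻¹) * c⁻¹ := by group
      _ = y * v * y⁻¹ := by
        rw [← Subgroup.mem_centralizer_iff.1 hc _ h2, mul_inv_cancel_right]
  refine (nil_iff hM).2 ⟨hB, fun a ha y hy hyp => ?_⟩
  obtain ⟨l, hl⟩ := le_conj_max hM ha hx
  have hfix : cjI (l * y * l⁻¹) (cjI l a) = cjI l a := by
    rw [cjI_cjI, show l * y * l⁻¹ * l = l * y by group, ← cjI_cjI, cjI_eq_of_stab hy]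
  have hyN : l * y * l⁻¹ ∈ Subgroup.normalizer ((cjI l a).1 : Set G) := by
    refine Subgroup.mem_normalizer_iff.2 fun g => ?_
    have h1 : (cjI l a).1.map (MulAut.conj (l * y * l⁻¹)).toMonoidHom = (cjI l a).1 :=
      congrArg Sigma.fst hfix
    conv_rhs => rw [← h1]
    exact conj_mem_map_conj.symm
  obtain ⟨t, ht, htc⟩ := key _ _ hl (Nat.le_add_left _ _) _ (mem_stab_of_cjI hyN hfix)
  have h1 := centralizes_of_conj_eq (le_subgroup hl)
    (by rwa [show l * y * l⁻¹ = MulAut.conj l y from rfl, (MulAut.conj l).orderOf_eq]) hyN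
    (hst t ht) htc
  refine Subgroup.mem_centralizer_iff.2 fun v hv => ?_
  have h2 := Subgroup.mem_centralizer_iff.1 h1 (l * v * l⁻¹) (conj_mem_map_conj.2 hv)
  calc v * y = l⁻¹ * (l * v * l⁻¹ * (l * y * l⁻¹)) * l := by group
    _ = y * v := by rw [h2]; group

/-- Along a surjection with central `p`-kernel regular central characters are unchanged. -/
theorem sameBlock_of_comp [Fact p.Prime] (hM : IsPModular p M) {C C' : Type u} [Group C] [Finite C]
    [Group C'] [Finite C'] (π : C →* C') (hπ : Function.Surjective π) (hker : IsPGroup p π.ker)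
    (hcen : ∀ k ∈ π.ker, ∀ c : C, k * c = c * k) {θ θ' : IrrCharacter C'}
    (h : SameBlock M (fun c => (θ : C' → ℂ) (π c)) (fun c => (θ' : C' → ℂ) (π c))) :
    SameBlock M (θ : C' → ℂ) (θ' : C' → ℂ) := by
  classical
  refine sameBlock_of_regular hM fun x hx => ?_
  let e := QuotientGroup.quotientKerEquivOfSurjective π hπ
  obtain ⟨g, hg, hgr⟩ := exists_regular_lift (p := p) π.ker (x := e.symm x)
    (by rwa [e.symm.orderOf_eq])
  have hgx : π g = x := by
    rw [← e.apply_symm_apply x, ← hg]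
    rfl
  have hc : g ∈ Subgroup.centralizer (π.ker : Set C) :=
    Subgroup.mem_centralizer_iff.2 fun k hk => hcen k hk g
  have hcomap : Subgroup.centralizer ({g} : Set C) =
      (Subgroup.centralizer ({x} : Set C')).comap π := by
    refine le_antisymm (fun y hy => ?_) fun y hy => ?_
    · rw [Subgroup.mem_comap, Subgroup.mem_centralizer_singleton_iff, ← hgx, ← map_mul, ← map_mul,
        Subgroup.mem_centralizer_singleton_iff.1 hy]
    · have h1 := relIndex_pre_eq_one π.ker hker hgr hc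
      refine Subgroup.relIndex_eq_one.1 h1 ?_
      rw [Subgroup.mem_comap, Subgroup.mem_centralizer_singleton_iff, ← hgx, ← map_mul,
        ← map_mul] at hy
      show QuotientGroup.mk' π.ker y ∈ Subgroup.centralizer ({QuotientGroup.mk' π.ker g} : Set _)
      rw [Subgroup.mem_centralizer_singleton_iff]
      refine e.injective ?_
      rw [map_mul, map_mul]
      exact (map_mul π y g).symm.trans (hy.trans (map_mul π g y))
  have key : ∀ φ : C' → ℂ, centralChar (fun c => φ (π c)) g = centralChar φ x := fun φ => by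
    rw [centralChar, centralChar, hcomap, Subgroup.index_comap_of_surjective _ hπ, hgx, map_one]
  have h1 := h g
  rwa [key, key] at h1

/-- The derived subgroup of a normal `p`-subgroup controls the action of the elements of order
prime to `p`. -/
theorem mem_cg_of_mod_derived [Fact p.Prime] {P : Subgroup G} [P.Normal] (hP : IsPGroup p P)
    {y : G} (hy : ¬ p ∣ orderOf y) (h : ∀ v ∈ P, v⁻¹ * (y * v * y⁻¹) ∈ ⁅P, P⁆) : y ∈ CG P := by
  have hyN : y ∈ Subgroup.normalizer (P : Set G) := by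
    rw [Subgroup.normalizer_eq_top]
    exact Subgroup.mem_top y
  set β := P.normalizerMonoidHom ⟨y, hyN⟩ with hβ
  have hone : β = 1 := by
    refine Cfsg.Agent.Fus.SuperMeta.eq_one_of_coprime_frattini hP (m := orderOf y)
      ((Fact.out : p.Prime).coprime_iff_not_dvd.2 hy).symm ?_ fun v => ?_
    · rw [hβ, ← map_pow]
      convert map_one P.normalizerMonoidHom
      exact Subtype.ext (pow_orderOf_eq_one y)
    · have h1 : ((v⁻¹ * β v : P) : G) ∈ ⁅P, P⁆ := h v v.2
      rw [← Subgroup.map_subtype_commutator] at h1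
      obtain ⟨w, hw, hwe⟩ := h1
      rw [← Subtype.ext (hwe : (w : G) = _)]
      exact Cfsg.Agent.Grp.pGroup_commutator_le_frattini hP hw
  refine Subgroup.mem_centralizer_iff.2 fun v hv => ?_
  have h1 : y * v * y⁻¹ = v := congrArg (fun α : MulAut P => ((α ⟨v, hv⟩ : P) : G)) hone
  conv_lhs => rw [← h1]
  group

/-- A normal defect group with equal degrees in height zero forces nilpotency. -/
theorem nilpotent_of_equal_heightZero [Fact p.Prime] (hM : IsPModular p M) (hB : IsPBlock M B)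
    {P : Subgroup G} [hPn : P.Normal] (hP : IsDefectGroup p M B P) {d : ℕ}
    (hd : ∀ χ : IrrCharacter G, χ ∈ B → blockHeight p B (χ : G → ℂ) = 0 →
      charDegree (χ : G → ℂ) = d) : IsNilpotentBlock p M B := by
  classical
  have hPp : IsPGroup p P := IsDefectGroup.isPGroup hP
  haveI : (⁅P, P⁆ : Subgroup G).Normal := Subgroup.commutator_normal P P
  set N : Subgroup G := ⁅P, P⁆ with hN
  have hNP : N ≤ P := Subgroup.commutator_le_right P P
  have hNp : IsPGroup p N := hPp.to_le hNP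
  set π₀ := QuotientGroup.mk' N with hπ₀
  letI := Fintype.ofFinite (G ⧸ N)
  set Pb := P.map π₀ with hPb
  haveI : Pb.Normal := hPn.map π₀ (QuotientGroup.mk'_surjective N)
  have hPbp : IsPGroup p Pb := hPp.map π₀
  have hab : ∀ v ∈ Pb, ∀ w ∈ Pb, v * w = w * v := by
    rintro _ ⟨a, ha, rfl⟩ _ ⟨b, hb, rfl⟩
    show ((a * b : G) : G ⧸ N) = ((b * a : G) : G ⧸ N)
    rw [QuotientGroup.eq, show (a * b)⁻¹ * (b * a) = b⁻¹ * a⁻¹ * (b⁻¹)⁻¹ * (a⁻¹)⁻¹ by group,
      ← commutatorElement_def]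
    exact Subgroup.commutator_mem_commutator (inv_mem hb) (inv_mem ha)
  obtain ⟨Bb, hBb, hsub, hexact⟩ := exists_exact N hM hNp hB
  have hDb : IsDefectGroup p M Bb Pb := (hexact Pb).2 ⟨P, hP, rfl⟩
  have hcardN : Nat.card G = Nat.card (G ⧸ N) * Nat.card N := Subgroup.card_eq_card_quotient_mul_card_subgroup N
  have hpp := (Fact.out : p.Prime)
  have hdeg : ∀ χ, χ ∈ Bb → charDegree (χ : G ⧸ N → ℂ) = d := by
    intro χ hχ
    have h0 := (blockHeight_zero_iff hM hBb hχ).1 ((normal_defect_comm_iff hM hBb hDb).1 hab χ hχ)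
    have hdd : charDegree (qinfl N χ : G → ℂ) = charDegree (χ : G ⧸ N → ℂ) := rfl
    rw [← hdd]
    refine hd _ (hsub hχ) ((blockHeight_zero_iff hM hB (hsub hχ)).2 ?_)
    have h1 : Nat.card Pb * Nat.card N = Nat.card P := by
      have h2 := Subgroup.card_mul_index (N.subgroupOf P)
      rw [Nat.card_congr (Subgroup.subgroupOfEquivOfLe hNP).toEquiv] at h2
      rw [← h2, mul_comm]
      congr 1
      rw [hPb, ← MonoidHom.restrict_range, ← Subgroup.index_ker, MonoidHom.ker_restrict, hπ₀,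
        QuotientGroup.ker_mk']
    rw [card_defectGroup hM hBb hDb, card_defectGroup hM hB hP] at h1
    have h2 := congrArg (fun n => n.factorization p) h1
    simp only [Nat.factorization_mul (pow_ne_zero _ hpp.ne_zero) Nat.card_pos.ne', Finsupp.add_apply,
      hpp.factorization_pow, Finsupp.single_eq_same] at h2
    rw [hcardN, Nat.factorization_mul Nat.card_pos.ne' Nat.card_pos.ne', Finsupp.add_apply, hdd]
    omega
  -- pairs
  obtain ⟨χb, hχb⟩ := pblock_nonempty hM hBb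
  haveI : (CG Pb).Normal := Subgroup.normal_centralizer
  haveI : (CG P).Normal := Subgroup.normal_centralizer
  letI := Fintype.ofFinite (CG P)
  letI := Fintype.ofFinite (CG Pb)
  set C1 : Subgroup (G ⧸ N) := (CG P).map π₀ with hC1
  have hC1le : C1 ≤ CG Pb := by
    rintro _ ⟨c, hc, rfl⟩
    refine Subgroup.mem_centralizer_iff.2 ?_
    rintro _ ⟨v, hv, rfl⟩
    rw [← map_mul, ← map_mul, Subgroup.mem_centralizer_iff.1 hc v hv]
  haveI : C1.Normal := (Subgroup.normal_centralizer : (CG P).Normal).map π₀ (QuotientGroup.mk'_surjective N)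
  set C2 : Subgroup (CG Pb) := C1.subgroupOf (CG Pb) with hC2
  letI := Fintype.ofFinite C2
  let π : CG P →* C2 :=
    { toFun := fun c => ⟨⟨π₀ c, hC1le ⟨c, c.2, rfl⟩⟩, ⟨c, c.2, rfl⟩⟩
      map_one' := Subtype.ext (Subtype.ext (by simp))
      map_mul' := fun a b => Subtype.ext (Subtype.ext (by simp)) }
  have hπ : Function.Surjective π := by
    rintro ⟨⟨z, hz⟩, hz'⟩
    obtain ⟨c, hc, hcz⟩ := hz'
    exact ⟨⟨c, hc⟩, Subtype.ext (Subtype.ext hcz)⟩
  have hkN : ∀ k ∈ π.ker, ((k : CG P) : G) ∈ N := fun k hk => by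
    have h1 := congrArg (fun z : C2 => ((z : CG Pb) : G ⧸ N)) (MonoidHom.mem_ker.1 hk)
    exact (QuotientGroup.eq_one_iff _).1 h1
  have hker : IsPGroup p π.ker := by
    rintro ⟨k, hk⟩
    obtain ⟨j, hj⟩ := hNp ⟨_, hkN k hk⟩
    exact ⟨j, Subtype.ext (Subtype.ext (congrArg Subtype.val hj : ((k : CG P) : G) ^ p ^ j = 1))⟩
  have hcen : ∀ k ∈ π.ker, ∀ c : CG P, k * c = c * k := fun k hk c => Subtype.ext
    (Subgroup.mem_centralizer_iff.1 c.2 _ (hNP (hkN k hk)))
  -- regular elements of the centralizer in the quotient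
  have hidx : ∃ k : ℕ, C2.index = p ^ k := by
    suffices h : IsPGroup p (CG Pb ⧸ C2) from IsPGroup.iff_card.1 h
    intro z
    obtain ⟨⟨z, hz⟩, rfl⟩ := QuotientGroup.mk_surjective z
    obtain ⟨a, m, hm, hzm⟩ := Nat.exists_eq_pow_mul_and_not_dvd (orderOf_pos z).ne' p hpp.ne_one
    refine ⟨a, ?_⟩
    rw [← QuotientGroup.mk_pow, QuotientGroup.eq_one_iff]
    show z ^ p ^ a ∈ C1
    have hreg : ¬ p ∣ orderOf (z ^ p ^ a) := by
      rw [orderOf_pow' _ (pow_ne_zero _ hpp.ne_zero), hzm,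
        Nat.gcd_eq_right (dvd_mul_right _ _), Nat.mul_div_cancel_left _ (pow_pos hpp.pos _)]
      exact hm
    obtain ⟨g, hg, hgr⟩ := exists_regular_lift N hreg
    refine ⟨g, mem_cg_of_mod_derived hPp hgr fun v hv => ?_, hg⟩
    rw [← QuotientGroup.eq]
    have h1 := Subgroup.mem_centralizer_iff.1 (pow_mem hz (p ^ a)) (π₀ v) ⟨v, hv, rfl⟩
    show (v : G ⧸ N) = ((g * v * g⁻¹ : G) : G ⧸ N)
    rw [QuotientGroup.mk_mul, QuotientGroup.mk_mul, QuotientGroup.mk_inv, hg]
    exact eq_mul_inv_of_mul_eq h1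
  obtain ⟨ψ, ξ, hψ0, hξ, hψ⟩ := exists_chain (CG Pb) C2 χb
  let θ : IrrCharacter (CG P) :=
    ⟨fun c => (ψ : C2 → ℂ) (π c), IsIrr.comp_surjective π hπ ψ.2⟩
  set fb := blockOf M (ξ : CG Pb → ℂ) with hfb
  set e := blockOf M (θ : CG P → ℂ) with he
  have hxb : IsMx p M Bb (⟨Pb, fb⟩ : BrauerPairIdx (G ⧸ N)) :=
    max_of_defect hM (ofB_of_covered hM hPbp hBb hχb hξ) hDb
  have htriv := inertia_trivial hM hxb hab hdeg
  have hθχ : classInner (fun c : CG P => (qinfl N χb : G → ℂ) c) (θ : CG P → ℂ) ≠ 0 := by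
    have h1 : classInner (fun c : CG P => (qinfl N χb : G → ℂ) c) (θ : CG P → ℂ) =
        classInner (fun z : C2 => (χb : G ⧸ N → ℂ) ((z : CG Pb) : G ⧸ N)) (ψ : C2 → ℂ) :=
      classInner_comp_surjective π hπ (fun z : C2 => (χb : G ⧸ N → ℂ) ((z : CG Pb) : G ⧸ N)) _
    rw [h1]
    exact hψ0
  have hx : IsMx p M B (⟨P, e⟩ : BrauerPairIdx G) :=
    max_of_defect hM (ofB_of_covered hM hPp hB (hsub hχb) hθχ) hP
  refine nilpotent_of_normal hM hx fun y hy => ?_
  obtain ⟨hyN, -, hys⟩ := (mem_stab_iff hM (a := (⟨P, e⟩ : BrauerPairIdx G)) (isPBlock_blockOf θ)).1 hy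
  obtain ⟨a, m, hm, hym⟩ := Nat.exists_eq_pow_mul_and_not_dvd (orderOf_pos y).ne' p hpp.ne_one
  refine ⟨a, mem_cg_of_mod_derived hPp ?_ fun v hv => ?_⟩
  · rw [orderOf_pow' _ (pow_ne_zero _ hpp.ne_zero), hym,
      Nat.gcd_eq_right (dvd_mul_right _ _), Nat.mul_div_cancel_left _ (pow_pos hpp.pos _)]
    exact hm
  have hmem : π₀ y ∈ stab (⟨Pb, fb⟩ : BrauerPairIdx (G ⧸ N)) := by
    set w := π₀ y with hw
    -- the conjugate character
    obtain ⟨θ', hθ', hθc⟩ := hys θ (mem_blockOf_self hM θ)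
    set ξ' := conjPerm (CG Pb) w⁻¹ ξ with hξ'
    haveI : C2.Normal := Subgroup.normal_subgroupOf
    let β : C2 ≃* C2 :=
      { toFun := fun z => ⟨conjEquivN (CG Pb) w⁻¹ z, by
          show ((conjEquivN (CG Pb) w⁻¹ (z : CG Pb) : CG Pb) : G ⧸ N) ∈ C1
          rw [conjEquivN_apply]
          exact (inferInstance : C1.Normal).conj_mem _ z.2 w⁻¹⟩
        invFun := fun z => ⟨(conjEquivN (CG Pb) w⁻¹).symm z, by
          show (((conjEquivN (CG Pb) w⁻¹).symm z : CG Pb) : G ⧸ N) ∈ C1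
          have h1 : (((conjEquivN (CG Pb) w⁻¹).symm z : CG Pb) : G ⧸ N) =
              w * ((z : CG Pb) : G ⧸ N) * w⁻¹ := by
            conv_rhs => rw [← (conjEquivN (CG Pb) w⁻¹).apply_symm_apply (z : CG Pb),
              conjEquivN_apply]
            group
          rw [h1]
          exact (inferInstance : C1.Normal).conj_mem _ z.2 w⟩
        left_inv := fun z => Subtype.ext ((conjEquivN (CG Pb) w⁻¹).symm_apply_apply _)
        right_inv := fun z => Subtype.ext ((conjEquivN (CG Pb) w⁻¹).apply_symm_apply _)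
        map_mul' := fun a b => Subtype.ext (map_mul (conjEquivN (CG Pb) w⁻¹) _ _) }
    let ψ' : IrrCharacter C2 := ⟨fun z => (ψ : C2 → ℂ) (β z), IsIrr.comp_mulEquiv β ψ.2⟩
    have hψ' : classInner (fun z : C2 => (ξ' : CG Pb → ℂ) z) (ψ' : C2 → ℂ) ≠ 0 := by
      have h1 : (fun z : C2 => (ξ' : CG Pb → ℂ) z) = fun z => (ξ : CG Pb → ℂ) (β z : C2) :=
        funext fun z => congrFun (conjN_eq_comp (CG Pb) w⁻¹ (ξ : CG Pb → ℂ)) z
      rw [h1]
      exact (classInner_comp_surjective β.toMonoidHom β.surjective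
        (fun z : C2 => (ξ : CG Pb → ℂ) z) (ψ : C2 → ℂ)).symm ▸ hψ
    have hcomp : (θ' : CG P → ℂ) = fun c => (ψ' : C2 → ℂ) (π c) := by
      funext c
      let c₀ : CG P := ⟨y⁻¹ * c * y, by
        have := (inferInstance : (CG P).Normal).conj_mem _ c.2 y⁻¹
        simpa using this⟩
      rw [hθc c₀ c (by show (c : G) = y * (y⁻¹ * c * y) * y⁻¹; group)]
      show (ψ : C2 → ℂ) (π c₀) = (ψ : C2 → ℂ) (β (π c))
      refine congrArg (ψ : C2 → ℂ) (Subtype.ext (Subtype.ext ?_))
      show π₀ (y⁻¹ * c * y) = ((conjEquivN (CG Pb) w⁻¹ (π c : CG Pb) : CG Pb) : G ⧸ N)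
      rw [conjEquivN_apply, hw, map_mul, map_mul, map_inv]
      show (π₀ y)⁻¹ * π₀ (c : G) * π₀ y = (π₀ y)⁻¹ * π₀ (c : G) * (π₀ y)⁻¹⁻¹
      rw [inv_inv]
    have hsame : SameBlock M (ψ : C2 → ℂ) (ψ' : C2 → ℂ) := by
      refine sameBlock_of_comp hM π hπ hker hcen ?_
      rw [← hcomp]
      exact pblock_sameBlock hM (isPBlock_blockOf θ) (mem_blockOf_self hM θ) hθ'
    obtain ⟨F, -, huniq⟩ := unique_cover_pPow C2 hM hidx (isPBlock_blockOf ψ)
    have hψ'm : ψ' ∈ blockOf M (ψ : C2 → ℂ) := hsame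
    have hF1 := huniq fb ⟨isPBlock_blockOf ξ, ξ, mem_blockOf_self hM ξ, ψ, mem_blockOf_self hM ψ, hψ⟩
    have hF2 := huniq (blockOf M (ξ' : CG Pb → ℂ))
      ⟨isPBlock_blockOf ξ', ξ', mem_blockOf_self hM ξ', ψ', hψ'm, hψ'⟩
    have hξ'mem : ξ' ∈ fb := by
      rw [hF1, ← hF2]
      exact mem_blockOf_self hM ξ'
    have hwN : w ∈ Subgroup.normalizer (Pb : Set (G ⧸ N)) := by
      rw [Subgroup.normalizer_eq_top]
      exact Subgroup.mem_top w
    refine (mem_stab_iff hM (a := (⟨Pb, fb⟩ : BrauerPairIdx (G ⧸ N))) (isPBlock_blockOf ξ)).2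
      ⟨hwN, mem_normalizer_cg hwN, fun η hη => ⟨conjPerm (CG Pb) w⁻¹ η, ?_, fun k k' hk => ?_⟩⟩
    · show conjPerm (CG Pb) w⁻¹ η ∈ fb
      rw [show fb = blockOf M (ξ' : CG Pb → ℂ) from
        pblock_eq_blockOf hM (isPBlock_blockOf ξ) hξ'mem]
      exact sameBlock_conjPerm (CG Pb) w⁻¹
        (pblock_sameBlock hM (isPBlock_blockOf ξ) (mem_blockOf_self hM ξ) hη)
    · show (η : CG Pb → ℂ) ⟨w⁻¹ * (k' : G ⧸ N) * w⁻¹⁻¹, _⟩ = (η : CG Pb → ℂ) k
      refine congrArg (η : CG Pb → ℂ) (Subtype.ext ?_)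
      show w⁻¹ * (k' : G ⧸ N) * w⁻¹⁻¹ = (k : G ⧸ N)
      rw [hk]
      group
  have h1 := Subgroup.mem_centralizer_iff.1 (htriv (pow_mem hmem (p ^ a))) (π₀ v) ⟨v, hv, rfl⟩
  rw [← QuotientGroup.eq]
  show (v : G ⧸ N) = ((y ^ p ^ a * v * (y ^ p ^ a)⁻¹ : G) : G ⧸ N)
  rw [QuotientGroup.mk_mul, QuotientGroup.mk_mul, QuotientGroup.mk_inv, QuotientGroup.mk_pow]
  exact eq_mul_inv_of_mul_eq h1

end Cfsg.Agent.Char.EqDeg
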