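import Cfsg.Agent.Lib.Char.StarTrace
import Cfsg.Agent.Lib.Char.IdemTransfer
import Cfsg.Agent.Lib.Char.ResidueAlgebra
import Cfsg.Agent.Lib.Char.CornerAlgebra

/-!
The trace argument: an additive, trace-like, conjugation invariant integer function on the
idempotents fixed by a subgroup of index `p` takes a multiple of `p` at a relative trace.
-/

namespace Cfsg.Agent.Char.Star

open Cfsg.Agent.Block Cfsg.Agent.Char.BP Cfsg.Agent.Char.Spec Cfsg.Agent.Char.Res
open Cfsg.Agent.Char.Corner

set_option linter.unusedSectionVars false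
set_option linter.style.haveILetI false
set_option maxHeartbeats 1000000

universe u

variable {G : Type u} [Group G] [Fintype G] [DecidableEq G] {p : ℕ} {M : Ideal AlgInt}

theorem comm_single_coeff {k : Type*} [Semiring k] {z : G} {a : MonoidAlgebra k G}
    (h : MonoidAlgebra.single z (1 : k) * a = a * MonoidAlgebra.single z (1 : k)) (x : G) :
    a.coeff (z * x * z⁻¹) = a.coeff x := by
  have h1 := congrArg (fun m : MonoidAlgebra k G => m.coeff (z * x)) h
  simp only [MonoidAlgebra.coeff_single_mul_apply, MonoidAlgebra.coeff_mul_single_apply, one_mul,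
    mul_one, inv_mul_cancel_left] at h1
  exact h1.symm

/-- A coefficientwise lift of a reduced element. -/
noncomputable def lft (hM : IsPModular p M) (y : MonoidAlgebra (ResField hM) G) :
    MonoidAlgebra ℂ G :=
  algOf (MonoidHom.id G) fun g => (red_surjective hM (y.coeff g)).choose

theorem lft_ring (hM : IsPModular p M) (y : MonoidAlgebra (ResField hM) G) :
    AlgRing M (lft hM y) :=
  AlgRing.algOf hM _ fun g => (red_surjective hM (y.coeff g)).choose_spec.1

theorem redA_lft (hM : IsPModular p M) (y : MonoidAlgebra (ResField hM) G) :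
    redA hM (lft hM y) = y := by
  ext g
  rw [redA_coeff, lft, algOf_coeff_id]
  exact (red_surjective hM (y.coeff g)).choose_spec.2

theorem lft_fx (hM : IsPModular p M) {R : Subgroup G} {y : MonoidAlgebra (ResField hM) G}
    (h : ∀ r ∈ R, MonoidAlgebra.single r 1 * y = y * MonoidAlgebra.single r 1) :
    Fx M R (lft hM y) := fx_iff.2 ⟨lft_ring hM y, fun r hr g => by
  show (lft hM y).coeff _ = (lft hM y).coeff g
  rw [lft, algOf_coeff_id, algOf_coeff_id]
  congr! 3 with z
  rw [comm_single_coeff (h r hr) g]⟩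

theorem ideal_of_redA (hM : IsPModular p M) {a b : MonoidAlgebra ℂ G} (ha : AlgRing M a)
    (hb : AlgRing M b) (h : redA hM a = redA hM b) : AlgIdeal M (a - b) :=
  (redA_eq_zero hM (AlgRing.sub hM ha hb)).1 (by rw [redA_sub hM ha hb, h, sub_self])

theorem redA_sum (hM : IsPModular p M) {ι : Type*} (s : Finset ι) {a : ι → MonoidAlgebra ℂ G}
    (ha : ∀ i, AlgRing M (a i)) : redA hM (∑ i ∈ s, a i) = ∑ i ∈ s, redA hM (a i) := by
  classical
  induction s using Finset.induction with
  | empty => simp [redA_zero]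
  | @insert i s hi ih =>
    rw [Finset.sum_insert hi, Finset.sum_insert hi, redA_add hM (ha i)
      (AlgRing.sum hM fun k _ => ha k), ih]

theorem redA_cjA (hM : IsPModular p M) (g : G) {a : MonoidAlgebra ℂ G} (ha : AlgRing M a) :
    redA hM (cjA g a) = MonoidAlgebra.single g 1 * redA hM a * MonoidAlgebra.single g⁻¹ 1 := by
  rw [cjA, redA_mul hM ((AlgRing.single hM g).mul hM ha) (AlgRing.single hM g⁻¹),
    redA_mul hM (AlgRing.single hM g) ha, redA_single, redA_single]

/-- An integer function on idempotents modulo the maximal ideal, additive, trace-like and invariant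
under conjugation, is divisible by `p` at a relative trace. -/
theorem dvd_of_trace_form [Fact p.Prime] (hM : IsPModular p M) {Q R : Subgroup G}
    (hR : IdxP p Q R) {j : MonoidAlgebra ℂ G} (hj : Fx M Q j) (hjj : j * j = j) {t : G}
    (ht : t ∈ Q) {c : MonoidAlgebra ℂ G} (hc : Fx M R c)
    (hform : AlgIdeal M (j - ∑ i : Fin p, cjA (t ^ (i : ℕ)) c))
    (N : MonoidAlgebra ℂ G → ℤ)
    (hcongr : ∀ x y, Fx M R x → Fx M R y → AlgIdeal M (x - y) → N x = N y)
    (hadd : ∀ x y, Fx M R x → Fx M R y → AlgIdeal M (x * x - x) → AlgIdeal M (y * y - y) →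
      AlgIdeal M (x * y) → AlgIdeal M (y * x) → N (x + y) = N x + N y)
    (hswap : ∀ x y, Fx M R x → Fx M R y → AlgIdeal M (x * y * (x * y) - x * y) →
      AlgIdeal M (y * x * (y * x) - y * x) → N (x * y) = N (y * x))
    (hconj : ∀ q ∈ Q, ∀ x, Fx M R x → AlgIdeal M (x * x - x) → N (cjA q x) = N x) :
    (p : ℤ) ∣ N j := by
  classical
  letI := resInst hM
  haveI : CharP (ResField hM) p := resField_charP hM
  haveI : IsAlgClosed (ResField hM) := resField_isAlgClosed hM
  let k := ResField hM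
  let A : Subalgebra k (MonoidAlgebra k G) :=
    Subalgebra.centralizer k ((fun r : G => MonoidAlgebra.single r (1 : k)) '' (R : Set G))
  have hmemA : ∀ {z : MonoidAlgebra k G}, z ∈ A ↔
      ∀ r ∈ R, MonoidAlgebra.single r (1 : k) * z = z * MonoidAlgebra.single r 1 := by
    intro z
    simp [A, Subalgebra.mem_centralizer_iff]
  have hredA : ∀ {x : MonoidAlgebra ℂ G}, Fx M R x → redA hM x ∈ A := fun {x} hx =>
    hmemA.2 fun r hr => by
      rw [← redA_single hM r, ← redA_mul hM (AlgRing.single hM r) hx.1, (hx.2 r hr).eq,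
        redA_mul hM hx.1 (AlgRing.single hM r)]
  have hjR := hj.mono hR.1
  let ej : A := ⟨redA hM j, hredA hjR⟩
  have he : IsIdempotentElem ej := Subtype.ext (by
    show redA hM j * redA hM j = redA hM j
    rw [← redA_mul hM hj.1 hj.1, hjj])
  haveI : Module.Finite k (MonoidAlgebra k G) := inferInstance
  haveI : Module.Finite k A :=
    Module.Finite.of_injective A.val.toLinearMap Subtype.val_injective
  let L : he.Corner → MonoidAlgebra ℂ G := fun z => lft hM (z.1.1 : MonoidAlgebra k G)
  have hLf : ∀ z, Fx M R (L z) := fun z => lft_fx hM (hmemA.1 z.1.2)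
  have hLr : ∀ z, redA hM (L z) = (z.1.1 : MonoidAlgebra k G) := fun z => redA_lft hM _
  have hLmul : ∀ a b : he.Corner, AlgIdeal M (L (a * b) - L a * L b) := fun a b =>
    ideal_of_redA hM (hLf _).1 ((hLf a).1.mul hM (hLf b).1) (by
      rw [redA_mul hM (hLf a).1 (hLf b).1, hLr, hLr, hLr]; rfl)
  have hLidem : ∀ {a : he.Corner}, a * a = a → AlgIdeal M (L a * L a - L a) := fun {a} ha =>
    ideal_of_redA hM ((hLf a).1.mul hM (hLf a).1) (hLf a).1 (by
      rw [redA_mul hM (hLf a).1 (hLf a).1, hLr]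
      exact congrArg (fun z : he.Corner => (z.1.1 : MonoidAlgebra k G)) ha)
  have hconjA : ∀ (q : G), q ∈ Q → ∀ z : A,
      MonoidAlgebra.single q (1 : k) * (z : MonoidAlgebra k G) * MonoidAlgebra.single q⁻¹ 1 ∈ A := by
    intro q hq z
    have e : MonoidAlgebra.single q (1 : k) * (z : MonoidAlgebra k G) * MonoidAlgebra.single q⁻¹ 1 =
        redA hM (cjA q (lft hM (z : MonoidAlgebra k G))) := by
      rw [redA_cjA hM q (lft_ring hM _), redA_lft]
    rw [e]
    refine hredA ⟨cjA_ring hM q (lft_ring hM _), fun r hr => ?_⟩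
    have hr' : q⁻¹ * r * q ∈ R := by
      have := hR.2.1 q⁻¹ (inv_mem hq) r hr
      rwa [inv_inv] at this
    have h1 := (cjA_fx hM q (lft_fx hM (hmemA.1 z.2))).2 (q * (q⁻¹ * r * q) * q⁻¹)
      (conj_mem_map_conj.2 hr')
    rwa [show q * (q⁻¹ * r * q) * q⁻¹ = r by group] at h1
  let τ : Fin p → A →ₗ[k] A := fun i =>
    LinearMap.codRestrict A.toSubmodule
      (((LinearMap.mulRight k (MonoidAlgebra.single (t ^ (i : ℕ))⁻¹ (1 : k))).comp
        (LinearMap.mulLeft k (MonoidAlgebra.single (t ^ (i : ℕ)) (1 : k)))).comp A.val.toLinearMap)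
      fun z => hconjA _ (pow_mem ht _) z
  have hτ : ∀ (i : Fin p) (z : A), ((τ i z : A) : MonoidAlgebra k G) =
      MonoidAlgebra.single (t ^ (i : ℕ)) (1 : k) * (z : MonoidAlgebra k G) *
        MonoidAlgebra.single (t ^ (i : ℕ))⁻¹ 1 := fun i z => rfl
  have hτmul : ∀ (i : Fin p) (a b : A), τ i (a * b) = τ i a * τ i b := fun i a b => Subtype.ext (by
    show ((τ i (a * b) : A) : MonoidAlgebra k G) = (τ i a : MonoidAlgebra k G) * (τ i b)
    rw [hτ, hτ, hτ]
    simp only [Subalgebra.coe_mul, mul_assoc]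
    rw [← mul_assoc (MonoidAlgebra.single (t ^ (i : ℕ))⁻¹ (1 : k)),
      MonoidAlgebra.single_mul_single, inv_mul_cancel, one_mul, ← MonoidAlgebra.one_def, one_mul])
  have hτe : ∀ i, τ i ej = ej := fun i => Subtype.ext (by
    rw [hτ]
    show _ * redA hM j * _ = redA hM j
    rw [← redA_cjA hM _ hj.1, cjA_fix (hj.2 _ (pow_mem ht _))])
  let σ : Fin p → he.Corner →ₗ[k] he.Corner := fun i => (proj he).comp ((τ i).comp (incl he))
  have hσv : ∀ (i : Fin p) (a : he.Corner), (σ i a).1 = τ i a.1 := fun i a => by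
    show ej * τ i a.1 * ej = _
    have h1 : τ i (ej * a.1 * ej) = ej * τ i a.1 * ej := by rw [hτmul, hτmul, hτe]
    rw [← h1, (val_mem he a).1, (val_mem he a).2]
  let c' : A := ⟨redA hM c, hredA hc⟩
  let g : he.Corner → ℤ := fun z => N (L z)
  have hmain : (p : ℤ) ∣ g 1 := by
    refine IdemTr.dvd_of_sum_eq_one (k := k) p g ?_ ?_ (Fintype.card_fin p) σ ?_ ?_
      (proj (K := k) he c') ?_
    · intro e f hee hff hef hfe
      show N (L (e + f)) = N (L e) + N (L f)
      rw [← hadd _ _ (hLf e) (hLf f) (hLidem hee) (hLidem hff) ?_ ?_]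
      · refine hcongr _ _ (hLf _) ((hLf e).add hM (hLf f)) (ideal_of_redA hM (hLf _).1
          (AlgRing.add hM (hLf e).1 (hLf f).1) ?_)
        rw [redA_add hM (hLf e).1 (hLf f).1, hLr, hLr, hLr]
        rfl
      · refine (redA_eq_zero hM ((hLf e).1.mul hM (hLf f).1)).1 ?_
        rw [redA_mul hM (hLf e).1 (hLf f).1, hLr, hLr]
        exact congrArg (fun z : he.Corner => (z.1.1 : MonoidAlgebra k G)) hef
      · refine (redA_eq_zero hM ((hLf f).1.mul hM (hLf e).1)).1 ?_
        rw [redA_mul hM (hLf f).1 (hLf e).1, hLr, hLr]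
        exact congrArg (fun z : he.Corner => (z.1.1 : MonoidAlgebra k G)) hfe
    · intro x y hxy hyx
      show N (L (x * y)) = N (L (y * x))
      have key : ∀ a b : he.Corner, a * b * (a * b) = a * b →
          AlgIdeal M (L a * L b * (L a * L b) - L a * L b) := fun a b hab => by
        refine ideal_of_redA hM (((hLf a).1.mul hM (hLf b).1).mul hM
          ((hLf a).1.mul hM (hLf b).1)) ((hLf a).1.mul hM (hLf b).1) ?_
        rw [redA_mul hM ((hLf a).1.mul hM (hLf b).1) ((hLf a).1.mul hM (hLf b).1),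
          redA_mul hM (hLf a).1 (hLf b).1, hLr, hLr]
        exact congrArg (fun z : he.Corner => (z.1.1 : MonoidAlgebra k G)) hab
      rw [hcongr _ _ (hLf _) ((hLf x).mul hM (hLf y)) (hLmul x y),
        hswap _ _ (hLf x) (hLf y) (key x y hxy) (key y x hyx),
        hcongr _ _ (hLf _) ((hLf y).mul hM (hLf x)) (hLmul y x)]
    · intro i a b
      exact Subtype.ext (by
        show (σ i (a * b)).1 = (σ i a).1 * (σ i b).1
        rw [hσv, hσv, hσv]; exact hτmul i a.1 b.1)
    · intro i e hee
      show N (L (σ i e)) = N (L e)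
      rw [← hconj _ (pow_mem ht (i : ℕ)) (L e) (hLf e) (hLidem hee)]
      have hf : Fx M R (cjA (t ^ (i : ℕ)) (L e)) := ⟨cjA_ring hM _ (hLf e).1, fun r hr => by
        have hr' : (t ^ (i : ℕ))⁻¹ * r * t ^ (i : ℕ) ∈ R := by
          have := hR.2.1 _ (inv_mem (pow_mem ht (i : ℕ))) r hr
          rwa [inv_inv] at this
        have h1 := (cjA_fx hM (t ^ (i : ℕ)) (hLf e)).2 r (mem_map_conj.2 hr')
        exact h1⟩
      refine hcongr _ _ (hLf _) hf (ideal_of_redA hM (hLf _).1 hf.1 ?_)
      rw [redA_cjA hM _ (hLf e).1, hLr, hLr, hσv, hτ]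
    · refine Subtype.ext (Subtype.ext ?_)
      show _ = redA hM j
      have hsum : redA hM j = ∑ i : Fin p, redA hM (cjA (t ^ (i : ℕ)) c) := by
        rw [← redA_sum hM _ (fun i : Fin p => cjA_ring hM (t ^ (i : ℕ)) hc.1)]
        exact sub_eq_zero.1 (by
          rw [← redA_sub hM hj.1 (AlgRing.sum hM fun i _ => cjA_ring hM _ hc.1)]
          exact (redA_eq_zero hM (AlgRing.sub hM hj.1
            (AlgRing.sum hM fun i _ => cjA_ring hM _ hc.1))).2 hform)
      have hσc : ∀ i, (σ i (proj (K := k) he c')).1 = ej * τ i c' * ej := fun i => by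
        rw [hσv]
        show τ i (ej * c' * ej) = _
        rw [hτmul, hτmul, hτe]
      rw [show ((∑ i, σ i (proj (K := k) he c')).1 : A) = ∑ i, (σ i (proj (K := k) he c')).1 from
        map_sum (incl (K := k) he) _ _, Finset.sum_congr rfl (fun i _ => hσc i), ← Finset.sum_mul,
        ← Finset.mul_sum]
      show redA hM j * ((∑ i, τ i c' : A) : MonoidAlgebra k G) * redA hM j = redA hM j
      rw [show ((∑ i, τ i c' : A) : MonoidAlgebra k G) = redA hM j by
        rw [hsum, AddSubmonoidClass.coe_finsetSum]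
        exact Finset.sum_congr rfl fun i _ => by rw [hτ, redA_cjA hM _ hc.1],
        ← redA_mul hM hj.1 hj.1, hjj, ← redA_mul hM hj.1 hj.1, hjj]
  have hone : g 1 = N j := hcongr _ _ (hLf _) hjR (ideal_of_redA hM (hLf _).1 hj.1 (by
    rw [hLr]; rfl))
  rwa [hone] at hmain

end Cfsg.Agent.Char.Star
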