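import Cfsg.Agent.Lib.Char.MinimalBlockAlgebra
import Cfsg.Agent.Lib.Char.DecompDegrees
import Cfsg.Agent.Lib.Char.NormalDefectNilpotent
import Cfsg.Agent.Lib.Char.StarTransfer

/-!
A block whose dimension is the least possible is nilpotent: modulo `M` it has a double coset of a
Sylow subgroup as a basis, so that every element normalizing the subgroup of a pair acts on it as
an element of the Sylow subgroup does.
-/

open scoped ComplexConjugate

namespace Cfsg.Agent.Char.MinBlock

open Cfsg Cfsg.Agent.Block Cfsg.Agent.Char.Spec Cfsg.Agent.Char.BP Cfsg.Agent.Char.Res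
  Cfsg.Agent.Char.Decomp

set_option linter.unusedSectionVars false
set_option linter.style.haveILetI false
set_option maxHeartbeats 800000

universe u

variable {G : Type u} [Group G] [Fintype G] [DecidableEq G] {p : ℕ} {M : Ideal AlgInt}
variable {B : Set (IrrCharacter G)}

theorem coeff_mul_left {K : Type*} [Field K] (x y : MonoidAlgebra K G) (g : G) :
    (x * y).coeff g = ∑ w, x.coeff w * y.coeff (w⁻¹ * g) := by
  conv_lhs => rw [eq_sum_el x, Finset.sum_mul]
  simp [MonoidAlgebra.coeff_sum, Finsupp.coe_finsetSum, smul_mul_assoc, MonoidAlgebra.coeff_smul,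
    coeff_el_mul]

theorem coeff_mul_right {K : Type*} [Field K] (x y : MonoidAlgebra K G) (g : G) :
    (x * y).coeff g = ∑ t, x.coeff (g * t⁻¹) * y.coeff t := by
  conv_lhs => rw [eq_sum_el y, Finset.mul_sum]
  simp [MonoidAlgebra.coeff_sum, Finsupp.coe_finsetSum, mul_smul_comm, MonoidAlgebra.coeff_smul,
    coeff_mul_el, mul_comm]

/-- An idempotent is an orthogonal sum of primitive ones. -/
theorem exists_decomp_orth (hM : IsPModular p M) : ∀ (m : ℕ) (a : MonoidAlgebra ℂ G), rk a ≤ m →
    AlgRing M a → a * a = a →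
    ∃ (n : ℕ) (f : Fin n → MonoidAlgebra ℂ G), (∀ t, Pr M (f t)) ∧ ∑ t, f t = a ∧
      (∀ s t, s ≠ t → f s * f t = 0) ∧ ∀ t, a * f t = f t ∧ f t * a = f t := by
  intro m
  induction m using Nat.strong_induction_on with
  | _ m IH =>
    intro a hm ha haa
    by_cases h0 : a = 0
    · exact ⟨0, fun _ => 0, fun t => t.elim0, by simp [h0], fun s => s.elim0, fun t => t.elim0⟩
    by_cases hp : Prim M (⊥ : Subgroup G) a
    · exact ⟨1, fun _ => a, fun _ => ⟨hp, h0⟩, by simp,
        fun s t h => absurd (Subsingleton.elim s t) h, fun _ => ⟨haa, haa⟩⟩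
    simp only [Prim, Res.fx_bot ha, haa, true_and] at hp
    push Not at hp
    obtain ⟨q, hq, hqq, haq, hqa, hq0, hqa'⟩ := hp
    have hs : (a - q) * (a - q) = a - q := by
      rw [sub_mul, mul_sub, mul_sub, haa, haq, hqa, hqq, sub_self, sub_zero]
    have hne : a - q ≠ a := fun e => hq0 (by simpa using e)
    have h1 := rk_lt hqq haq hqa hqa'
    have h2 := rk_lt (i := a) hs (by rw [mul_sub, haa, haq]) (by rw [sub_mul, haa, hqa]) hne
    obtain ⟨n₁, f₁, hf₁, e₁, o₁, a₁⟩ := IH (rk q) (lt_of_lt_of_le h1 hm) q le_rfl hq.1 hqq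
    obtain ⟨n₂, f₂, hf₂, e₂, o₂, a₂⟩ := IH (rk (a - q)) (lt_of_lt_of_le h2 hm) (a - q) le_rfl
      (AlgRing.sub hM ha hq.1) hs
    have hqs : q * (a - q) = 0 := by rw [mul_sub, hqa, hqq, sub_self]
    have hsq : (a - q) * q = 0 := by rw [sub_mul, haq, hqq, sub_self]
    have h12 : ∀ s t, f₁ s * f₂ t = 0 ∧ f₂ t * f₁ s = 0 := fun s t =>
      ⟨by rw [← (a₁ s).2, ← (a₂ t).1, mul_assoc, ← mul_assoc q, hqs, zero_mul, mul_zero],
        by rw [← (a₂ t).2, ← (a₁ s).1, mul_assoc, ← mul_assoc (a - q), hsq, zero_mul, mul_zero]⟩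
    refine ⟨n₁ + n₂, Fin.append f₁ f₂, fun t => ?_, ?_, fun s t hst => ?_, fun t => ?_⟩
    · induction t using Fin.addCases with
      | left t => rw [Fin.append_left]; exact hf₁ t
      | right t => rw [Fin.append_right]; exact hf₂ t
    · rw [Fin.sum_univ_add]
      simp only [Fin.append_left, Fin.append_right, e₁, e₂, add_sub_cancel]
    · induction s using Fin.addCases with
      | left s =>
        induction t using Fin.addCases with
        | left t =>
          rw [Fin.append_left, Fin.append_left]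
          exact o₁ s t fun h => hst (by rw [h])
        | right t => rw [Fin.append_left, Fin.append_right]; exact (h12 s t).1
      | right s =>
        induction t using Fin.addCases with
        | left t => rw [Fin.append_left, Fin.append_right]; exact (h12 t s).2
        | right t =>
          rw [Fin.append_right, Fin.append_right]
          exact o₂ s t fun h => hst (by rw [h])
    · induction t using Fin.addCases with
      | left t =>
        rw [Fin.append_left]
        exact ⟨by rw [← (a₁ t).1, ← mul_assoc, haq], by rw [← (a₁ t).2, mul_assoc, hqa]⟩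
      | right t =>
        rw [Fin.append_right]
        exact ⟨by rw [← (a₂ t).1, ← mul_assoc, mul_sub, haa, haq],
          by rw [← (a₂ t).2, mul_assoc, sub_mul, haa, hqa]⟩

/-- The dimension of a block modulo the ideal. -/
theorem finrank_block (hM : IsPModular p M) (hB : IsPBlock M B) :
    letI := resInst hM
    Module.finrank (ResField hM)
      (LinearMap.range (LinearMap.mulRight (ResField hM) (redA hM (bz B)))) =
      ∑ᶠ χ ∈ B, charDegree (χ : G → ℂ) ^ 2 := by
  classical
  letI := resInst hM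
  set x := bz B with hx
  let e : MonoidAlgebra (ResField hM) G ≃ₗ[ResField hM] (G → ResField hM) :=
    { toFun := fun y g => y.coeff g
      invFun := fun v => MonoidAlgebra.ofCoeff (Finsupp.equivFunOnFinite.symm v)
      map_add' := fun y z => by ext g; simp
      map_smul' := fun c y => by ext g; simp
      left_inv := fun y => by ext g; simp
      right_inv := fun v => by ext g; simp }
  have hconj : (LinearMap.range (LinearMap.mulRight (ResField hM) (redA hM x))).map e.toLinearMap =
      LinearMap.range (Matrix.toLin' (redMat hM (leftMat x))) := by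
    rw [← LinearMap.range_comp]
    have h : e.toLinearMap.comp (LinearMap.mulRight (ResField hM) (redA hM x)) =
        (Matrix.toLin' (redMat hM (leftMat x))).comp e.toLinearMap := by
      refine LinearMap.ext fun y => funext fun g => ?_
      show (y * redA hM x).coeff g = _
      obtain ⟨Y, hY, rfl⟩ := redA_surjective hM y
      rw [← redA_mul hM hY (bz_ring hM hB), (bz_comm B Y).eq, redA_mul hM (bz_ring hM hB) hY,
        coeff_mul_right]
      simp only [LinearMap.comp_apply, Matrix.toLin'_apply, Matrix.mulVec, dotProduct, redMat,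
        Matrix.map_apply, leftMat_apply, LinearEquiv.coe_coe, redA_coeff, hx]
      refine Finset.sum_congr rfl fun t _ => ?_
      show _ = _ * (redA hM Y).coeff t
      rw [redA_coeff]
    rw [h, LinearMap.range_comp, LinearEquiv.range, Submodule.map_top]
  rw [← LinearEquiv.finrank_map_eq e, hconj]
  have h1 := finrank_range_red_idem hM (AlgRing.matRing (bz_ring hM hB))
    (by rw [← map_mul, bz_idem hM hB])
  have h2 : ((Module.finrank (ResField hM)
      (LinearMap.range (Matrix.toLin' (redMat hM (leftMat x)))) : ℕ) : ℂ) =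
      ((∑ᶠ χ ∈ B, charDegree (χ : G → ℂ) ^ 2 : ℕ) : ℂ) := by
    rw [h1, Matrix.trace]
    simp only [Matrix.diag, leftMat_apply, mul_inv_cancel, hx, bz, algOf_coeff_id, blockCoeff,
      Finset.sum_const, Finset.card_univ, nsmul_eq_mul]
    rw [Nat.card_eq_fintype_card, ← mul_assoc, mul_inv_cancel₀
      (Nat.cast_ne_zero.2 Fintype.card_ne_zero), one_mul, Cfsg.Agent.Block.finsum_mem_block,
      Cfsg.Agent.Block.finsum_mem_block, Nat.cast_sum]
    refine Finset.sum_congr rfl fun χ _ => ?_
    rw [Nat.cast_pow, sq, charDeg_spec', Complex.conj_natCast]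
  exact_mod_cast h2

/-- In a block of one class every nonzero right ideal is at least as large as the multiplicity. -/
theorem hsimple_of_one (hM : IsPModular p M) [Fact p.Prime] (hB : IsPBlock M B)
    (D : BData p M B) (hn : D.n = 1) :
    letI := resInst hM
    ∀ X : Submodule (ResField hM) (MonoidAlgebra (ResField hM) G),
      (∀ y ∈ X, y * redA hM (bz B) = y) → (∀ a, ∀ y ∈ X, y * a ∈ X) → X ≠ ⊥ →
      D.mult ⟨0, by omega⟩ ≤ Module.finrank (ResField hM) X := by
  classical
  letI := resInst hM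
  intro X hXb hXa hX0
  set c₀ : Fin D.n := ⟨0, by omega⟩ with hc₀
  have hbr := bz_ring hM hB
  obtain ⟨n, f, hf, hsum, horth, habs⟩ :=
    exists_decomp_orth (G := G) (p := p) hM _ (bz B) le_rfl hbr (bz_idem hM hB)
  have heq : ∀ t, Eqv M (f t) (D.i c₀) := fun t => by
    obtain ⟨c, hc⟩ := D.cover (f t) (hf t) (habs t).1
    rwa [show c = c₀ from Fin.ext (by have := c.2; rw [hc₀]; show (c : ℕ) = 0; omega)] at hc
  have hn' : n = D.mult c₀ := by
    obtain ⟨χ, hχ⟩ := pblock_nonempty hM hB
    have hdeg : charDegree (χ : G → ℂ) = D.mult c₀ * D.N χ c₀ := by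
      rw [D.deg χ hχ, Finset.sum_eq_single c₀]
      · exact fun c _ hc => absurd (Fin.ext (by have := c.2; rw [hc₀]; show (c : ℕ) = 0; omega)) hc
      · exact fun h => absurd (Finset.mem_univ _) h
    have h1 : ev (χ : G → ℂ) (bz B) = (χ : G → ℂ) 1 := by
      rw [← mul_one (bz B), ev_bz, if_pos hχ, MonoidAlgebra.one_def, Spec.ev_single, one_mul]
    rw [← hsum, ev_sum, Finset.sum_congr rfl fun t _ =>
      ((heq t).ev_eq hM (hf t) (D.pr c₀) (IsIrr.classFun χ.2)).trans (D.val χ c₀), Finset.sum_const,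
      Finset.card_univ, Fintype.card_fin, nsmul_eq_mul, charDeg_spec', hdeg, Nat.cast_mul] at h1
    have hN : (D.N χ c₀ : ℂ) ≠ 0 := Nat.cast_ne_zero.2 fun h => by
      rw [h, mul_zero] at hdeg
      exact (charDeg_pos χ).ne' hdeg
    exact_mod_cast mul_right_cancel₀ hN h1
  set F := fun t => redA hM (f t) with hF
  obtain ⟨y, hy, hy0⟩ := Submodule.exists_mem_ne_zero_of_ne_bot hX0
  obtain ⟨s, hs⟩ : ∃ s, y * F s ≠ 0 := by
    by_contra hno
    push Not at hno
    refine hy0 ?_
    rw [← hXb y hy, ← hsum, Star.redA_sum hM _ fun t => (hf t).ring, Finset.mul_sum]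
    exact Finset.sum_eq_zero fun t _ => hno t
  have hz : ∀ t, ∃ z ∈ X, z * F t = z ∧ z ≠ 0 := by
    intro t
    obtain ⟨u, v, hu, hv, he⟩ := Eqv.trans hM (D.pr c₀) (heq s) ((heq t).symm hM (hf t) (D.pr c₀))
    have hFe : F s = F s * redA hM u * F t * redA hM v * F s := by
      simp only [hF]
      conv_lhs => rw [he]
      rw [redA_mul hM ((((hf s).ring.mul hM hu).mul hM (hf t).ring).mul hM hv) (hf s).ring,
        redA_mul hM (((hf s).ring.mul hM hu).mul hM (hf t).ring) hv,
        redA_mul hM ((hf s).ring.mul hM hu) (hf t).ring, redA_mul hM (hf s).ring hu]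
    refine ⟨y * F s * redA hM u * F t, hXa _ _ (hXa _ _ (hXa _ _ hy)), ?_, fun h0 => hs ?_⟩
    · rw [mul_assoc, (redA_idem hM (hf t).ring (hf t).idem).eq]
    · rw [hFe, show y * (F s * redA hM u * F t * redA hM v * F s) =
        y * F s * redA hM u * F t * (redA hM v * F s) by simp only [mul_assoc], h0, zero_mul]
  choose z hzX hzF hz0 using hz
  have hli : LinearIndependent (ResField hM) fun t => (⟨z t, hzX t⟩ : X) := by
    rw [Fintype.linearIndependent_iff]
    intro g hg t
    have h1 := congrArg (fun x : X => (x : MonoidAlgebra (ResField hM) G) * F t) hg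
    simp only [Submodule.coe_sum, Submodule.coe_smul, Finset.sum_mul, smul_mul_assoc,
      ZeroMemClass.coe_zero, zero_mul] at h1
    rw [Finset.sum_eq_single t] at h1
    · rw [hzF] at h1
      exact (smul_eq_zero.1 h1).resolve_right (hz0 t)
    · intro s' _ hs'
      rw [← hzF s', mul_assoc]
      simp only [hF]
      rw [← redA_mul hM (hf s').ring (hf t).ring, horth s' t hs', redA_zero, mul_zero, smul_zero]
    · exact fun h => absurd (Finset.mem_univ t) h
  have h2 := hli.fintype_card_le_finrank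
  rwa [Fintype.card_fin, hn'] at h2

/-- A block of least dimension is nilpotent. -/
theorem nilpotent_of_min [Fact p.Prime] (hM : IsPModular p M) (hB : IsPBlock M B) {D : Subgroup G}
    (hD : IsDefectGroup p M B D)
    (hmin : ∑ᶠ χ ∈ B, charDegree (χ : G → ℂ) ^ 2 =
      p ^ (2 * (Nat.card G).factorization p - blockDefect p B)) :
    IsNilpotentBlock p M B := by
  classical
  letI := resInst hM
  haveI := resField_isAlgClosed hM
  haveI : CharP (ResField hM) p := resField_charP hM
  have hp : p.Prime := Fact.out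
  set a := (Nat.card G).factorization p with ha
  set δ := blockDefect p B with hδ
  have hle : ∀ χ : IrrCharacter G, χ ∈ B → a ≤ δ + (charDegree (χ : G → ℂ)).factorization p :=
    fun χ hχ => le_defect_add hM hB hχ
  have hδa : δ ≤ a := by
    obtain ⟨χ, hχ, h0⟩ := exists_height_zero hM hB
    rw [blockHeight_zero_iff hM hB hχ] at h0
    omega
  -- one class
  obtain ⟨BD⟩ := exists_bdata hM hB
  have hgdvd : ∀ χ : IrrCharacter G, χ ∈ B → p ^ (a - δ) ∣ charDegree (χ : G → ℂ) := fun χ hχ =>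
    (hp.pow_dvd_iff_le_factorization (charDeg_pos χ).ne').2 (by have := hle χ hχ; omega)
  have hterm : ∀ c, p ^ (2 * a - δ) ≤ BD.mult c * BD.pdeg c := fun c => by
    rw [show 2 * a - δ = (a - δ) + a by omega, pow_add]
    exact Nat.mul_le_mul (Nat.le_of_dvd (BD.mult_pos c) (BD.dvd_mult hgdvd c))
      (Nat.le_of_dvd (BD.pdeg_pos c) (BD.pow_dvd_pdeg hM c))
  have hsum : ∑ c, BD.mult c * BD.pdeg c = p ^ (2 * a - δ) := by
    rw [← BD.sum_sq, ← Cfsg.Agent.Block.finsum_mem_block, hmin]
  have hn1 : BD.n = 1 := by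
    have h1 : BD.n * p ^ (2 * a - δ) ≤ p ^ (2 * a - δ) := by
      calc BD.n * p ^ (2 * a - δ) = ∑ _c : Fin BD.n, p ^ (2 * a - δ) := by simp
        _ ≤ _ := (Finset.sum_le_sum fun c _ => hterm c).trans hsum.le
    have h2 : BD.n ≠ 0 := fun h => (pow_ne_zero _ hp.ne_zero : p ^ (2 * a - δ) ≠ 0) (by
      rw [← hsum]
      exact Finset.sum_eq_zero fun c _ => absurd c.2 (by omega))
    have h3 : BD.n ≤ 1 := Nat.le_of_mul_le_mul_right (by rw [one_mul]; exact h1) (pow_pos hp.pos _)
    omega
  have hbr := bz_ring hM hB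
  set bk := redA hM (bz B) with hbk
  have hbc : ∀ y, bk * y = y * bk := fun y => by
    obtain ⟨Y, hY, rfl⟩ := redA_surjective hM y
    rw [hbk, ← redA_mul hM hbr hY, ← redA_mul hM hY hbr, (bz_comm B Y).eq]
  have hsimple : ∀ X : Submodule (ResField hM) (MonoidAlgebra (ResField hM) G),
      (∀ y ∈ X, y * bk = y) → (∀ a, ∀ y ∈ X, y * a ∈ X) → X ≠ ⊥ →
      p ^ (a - δ) ≤ Module.finrank (ResField hM) X := fun X h1 h2 h3 =>
    (Nat.le_of_dvd (BD.mult_pos _) (BD.dvd_mult hgdvd _)).trans
      (hsimple_of_one hM hB BD hn1 X h1 h2 h3)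
  have hb0 : bk ≠ 0 := fun h0 => by
    obtain ⟨c, hc⟩ : ∃ c, ¬ MemLocalIdeal M ((bz B).coeff c) := by
      have hne := defectGroup_not_brZero hM hB hD
      rw [BrZero] at hne
      push Not at hne
      obtain ⟨c, -, hc⟩ := hne
      exact ⟨c, by rw [bz, algOf_coeff_id, blockCoeff_eq]; exact hc⟩
    exact hc ((redA_eq_zero hM hbr).1 h0 c)
  refine (nil_iff hM).2 ⟨hB, fun x hx y hy hyp => ?_⟩
  have hQp : IsPGroup p x.1 := hx.1.1
  obtain ⟨S, hQS⟩ := hQp.exists_le_sylow
  obtain ⟨S₁, hDS⟩ := (IsDefectGroup.isPGroup hD).exists_le_sylow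
  obtain ⟨l, hl⟩ := MulAction.exists_smul_eq G S₁ S
  have hD' := isDefectGroup_map_conj hM hD l
  set D' := D.map (MulAut.conj l).toMonoidHom with hD'def
  have hD'S : D' ≤ (S : Subgroup G) := by
    rw [← hl]
    exact Subgroup.map_mono hDS
  have hScard : Nat.card S = p ^ a := S.card_eq_multiplicity
  have hdim : Module.finrank (ResField hM)
      (LinearMap.range (LinearMap.mulRight (ResField hM) bk)) = Nat.card S * p ^ (a - δ) := by
    rw [finrank_block hM hB, hmin, hScard, ← pow_add]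
    congr 1
    omega
  obtain ⟨g, O, hO, hOcard, hinj, hsurj⟩ := exists_coset (S : Subgroup G) S.isPGroup'
    (redA_idem hM hbr (bz_idem hM hB)).eq hbc hb0 hdim hsimple
  -- fixed points
  have key : ∀ {Q : Subgroup G}, IsPGroup p Q → Q ≤ S → ∀ z : G,
      z ∈ Subgroup.normalizer (Q : Set G) →
      (∃ c ∈ CG Q, ¬ MemLocalIdeal M ((bz B).coeff c)) →
      ∃ w ∈ O, ∀ u ∈ Q, z * u * z⁻¹ * w = w * u := by
    intro Q hQ hQS z hz ⟨c, hc, hcne⟩
    by_contra hno
    push Not at hno
    have hzS : ∀ u ∈ Q, z * u * z⁻¹ ∈ (S : Subgroup G) := fun u hu =>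
      hQS ((Subgroup.mem_normalizer_iff.1 hz u).1 hu)
    obtain ⟨ζ, hζ, hζb⟩ := hsurj (el z * bk) (by
      rw [mul_assoc, (redA_idem hM hbr (bz_idem hM hB)).eq])
    have hOst : ∀ u ∈ Q, ∀ w, z * u * z⁻¹ * w * u⁻¹ ∈ O ↔ w ∈ O := by
      intro u hu w
      rw [hO, hO]
      constructor
      · rintro ⟨s, hs, t, ht, he⟩
        exact ⟨(z * u * z⁻¹)⁻¹ * s, mul_mem (inv_mem (hzS u hu)) hs, t * u,
          mul_mem ht (hQS hu), by
            rw [show (z * u * z⁻¹)⁻¹ * s * g * (t * u) = (z * u * z⁻¹)⁻¹ * (s * g * t) * u by group,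
              ← he]
            group⟩
      · rintro ⟨s, hs, t, ht, rfl⟩
        exact ⟨z * u * z⁻¹ * s, mul_mem (hzS u hu) hs, t * u⁻¹,
          mul_mem ht (inv_mem (hQS hu)), by group⟩
    have hζinv : ∀ u ∈ Q, ∀ w, ζ.coeff (z * u * z⁻¹ * w * u⁻¹) = ζ.coeff w := by
      intro u hu w
      set d := el (K := ResField hM) (z * u * z⁻¹)⁻¹ * ζ * el u - ζ with hd
      have hdO : pr O d = d := MonoidAlgebra.ext (Finsupp.ext fun v => by
        rw [coeff_pr]
        split_ifs with hv
        · rfl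
        · rw [hd, MonoidAlgebra.coeff_sub, Finsupp.sub_apply, coeff_mul_el, coeff_el_mul, inv_inv,
            ← hζ, coeff_pr, coeff_pr, if_neg hv, if_neg, sub_self]
          rw [← mul_assoc, hOst u hu]
          exact hv)
      have hdb : d * bk = 0 := by
        rw [hd, sub_mul, mul_assoc _ (el u), ← hbc, ← mul_assoc, mul_assoc _ ζ, hζb,
          sub_eq_zero, ← mul_assoc, el_mul, mul_assoc, hbc, ← mul_assoc, el_mul]
        congr 2
        group
      have h1 := congrArg (fun v : MonoidAlgebra (ResField hM) G => v.coeff w) (hinj d hdO hdb)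
      simp only [hd, MonoidAlgebra.coeff_sub, Finsupp.sub_apply, coeff_mul_el, coeff_el_mul,
        inv_inv, MonoidAlgebra.coeff_zero, Finsupp.zero_apply, ← mul_assoc] at h1
      exact sub_eq_zero.1 h1
    letI : MulAction Q G :=
      { smul := fun u w => z * (u : G) * z⁻¹ * w * (u : G)⁻¹
        one_smul := fun w => by
          show z * ((1 : Q) : G) * z⁻¹ * w * ((1 : Q) : G)⁻¹ = w
          simp
        mul_smul := fun u v w => by
          show z * ((u * v : Q) : G) * z⁻¹ * w * ((u * v : Q) : G)⁻¹ =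
            z * (u : G) * z⁻¹ * (z * (v : G) * z⁻¹ * w * (v : G)⁻¹) * (u : G)⁻¹
          rw [Subgroup.coe_mul]
          group }
    let Fc : G → ResField hM := fun w => ζ.coeff w * bk.coeff (w⁻¹ * (z * c))
    have hbcl : ∀ v u : G, bk.coeff (u * v * u⁻¹) = bk.coeff v := fun v u => by
      rw [hbk, redA_coeff, redA_coeff, bz, algOf_coeff_id, algOf_coeff_id, blockCoeff_classFun B v u]
    have hsum0 : ∑ w, Fc w = 0 := by
      rw [Cfsg.Agent.Block.sum_eq_sum_fixed (p := p) (fun v => by
        rw [nsmul_eq_mul, CharP.cast_eq_zero, zero_mul]) hQ Fc fun u w => ?_]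
      · refine finsum_mem_eq_zero_of_forall_eq_zero fun w hw => ?_
        by_cases hwO : w ∈ O
        · exfalso
          obtain ⟨u, hu, hne⟩ := hno w hwO
          refine hne ?_
          have h1 : z * u * z⁻¹ * w * u⁻¹ = w := hw ⟨u, hu⟩
          conv_rhs => rw [← h1]
          rw [inv_mul_cancel_right]
        · show ζ.coeff w * _ = 0
          rw [← hζ, coeff_pr, if_neg hwO, zero_mul]
      · show ζ.coeff (z * (u : G) * z⁻¹ * w * (u : G)⁻¹) *
          bk.coeff ((z * (u : G) * z⁻¹ * w * (u : G)⁻¹)⁻¹ * (z * c)) =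
            ζ.coeff w * bk.coeff (w⁻¹ * (z * c))
        rw [hζinv u u.2 w, ← hbcl (w⁻¹ * (z * c)) (u : G)]
        congr 2
        have hcu : (u : G) * c = c * u := Subgroup.mem_centralizer_iff.1 hc u u.2
        calc (z * (u : G) * z⁻¹ * w * (u : G)⁻¹)⁻¹ * (z * c)
            = (u : G) * w⁻¹ * z * ((u : G)⁻¹ * c) := by group
          _ = (u : G) * w⁻¹ * z * (c * (u : G)⁻¹) := by
            congr 1
            rw [inv_mul_eq_iff_eq_mul, ← mul_assoc, hcu, mul_inv_cancel_right]
          _ = _ := by group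
    refine hcne ((red_eq_zero hM (hbr c)).1 ?_)
    have h2 := congrArg (fun v : MonoidAlgebra (ResField hM) G => v.coeff (z * c)) hζb
    simp only [coeff_el_mul, inv_mul_cancel_left] at h2
    rw [← redA_coeff, ← hbk, ← h2, coeff_mul_left]
    exact hsum0
  -- the coset meets the centralizer of the defect group
  obtain ⟨w₀, hw₀O, hw₀⟩ := key (IsDefectGroup.isPGroup hD') hD'S 1 (one_mem _) (by
    have hne := defectGroup_not_brZero hM hB hD'
    rw [BrZero] at hne
    push Not at hne
    obtain ⟨c, hc, hcne⟩ := hne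
    exact ⟨c, hc, by rw [bz, algOf_coeff_id, blockCoeff_eq]; exact hcne⟩)
  have hO₀ : ∀ x, x ∈ O ↔ ∃ s ∈ (S : Subgroup G), ∃ t ∈ (S : Subgroup G), x = s * w₀ * t := by
    obtain ⟨s, hs, t, ht, he⟩ := (hO w₀).1 hw₀O
    intro x
    rw [hO]
    constructor
    · rintro ⟨s', hs', t', ht', rfl⟩
      exact ⟨s' * s⁻¹, mul_mem hs' (inv_mem hs), t⁻¹ * t', mul_mem (inv_mem ht) ht',
        by rw [he]; group⟩
    · rintro ⟨s', hs', t', ht', rfl⟩
      exact ⟨s' * s, mul_mem hs' hs, t * t', mul_mem ht ht', by rw [he]; group⟩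
  have hstab : ∀ t ∈ (S : Subgroup G), w₀ * t * w₀⁻¹ ∈ (S : Subgroup G) → w₀ * t * w₀⁻¹ = t := by
    let T : Subgroup G := (S : Subgroup G) ⊓ (S : Subgroup G).comap (MulAut.conj w₀).toMonoidHom
    have hcomm : ∀ u ∈ D', w₀ * u = u * w₀ := fun u hu => by
      have := hw₀ u hu
      rw [one_mul, inv_one, mul_one] at this
      exact this.symm
    have hDT : D' ≤ T := fun u hu => ⟨hD'S hu, by
      show w₀ * u * w₀⁻¹ ∈ (S : Subgroup G)
      rw [hcomm u hu, mul_inv_cancel_right]
      exact hD'S hu⟩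
    choose sx hsx tx htx hx' using fun x : O => (hO₀ x.1).1 x.2
    let φ : O × T → ↥(S : Subgroup G) × ↥(S : Subgroup G) := fun q =>
      (⟨sx q.1 * (w₀ * (q.2 : G) * w₀⁻¹), mul_mem (hsx q.1) q.2.2.2⟩,
        ⟨(q.2 : G)⁻¹ * tx q.1, mul_mem (inv_mem q.2.2.1) (htx q.1)⟩)
    have hφ : Function.Injective φ := by
      rintro ⟨x, t⟩ ⟨x', t'⟩ h
      have h1 : sx x * (w₀ * (t : G) * w₀⁻¹) = sx x' * (w₀ * (t' : G) * w₀⁻¹) :=
        congrArg (fun q => ((q.1 : (S : Subgroup G)) : G)) h
      have h2 : (t : G)⁻¹ * tx x = (t' : G)⁻¹ * tx x' :=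
        congrArg (fun q => ((q.2 : (S : Subgroup G)) : G)) h
      have hxx : x = x' := Subtype.ext (by
        rw [hx' x, hx' x', show sx x * w₀ * tx x =
          sx x * (w₀ * (t : G) * w₀⁻¹) * w₀ * ((t : G)⁻¹ * tx x) by group, h1, h2]
        group)
      subst hxx
      exact Prod.ext rfl (Subtype.ext (inv_injective (mul_right_cancel h2)))
    have hT := Nat.card_le_card_of_injective φ hφ
    rw [Nat.card_prod, Nat.card_prod, Nat.card_eq_fintype_card (α := O), Fintype.card_coe, hOcard,
      show Nat.card (S : Subgroup G) = p ^ a from hScard] at hT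
    have hTD : D' = T := by
      refine Subgroup.eq_of_le_of_card_ge hDT ?_
      rw [card_defectGroup hM hB hD']
      have h3 : p ^ a * p ^ a = p ^ a * p ^ (a - δ) * p ^ δ := by
        rw [← pow_add, ← pow_add, ← pow_add]
        congr 1
        omega
      rw [h3] at hT
      exact Nat.le_of_mul_le_mul_left hT (Nat.mul_pos (pow_pos hp.pos _) (pow_pos hp.pos _))
    intro t ht htS
    rw [hcomm t (hTD ▸ (⟨ht, htS⟩ : t ∈ T)), mul_inv_cancel_right]
  have hyN : y ∈ Subgroup.normalizer (x.1 : Set G) := stab_le_normalizer x hy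
  obtain ⟨w, hwO, hw⟩ := key hQp hQS y hyN (by
    have hne := (exists_pair_iff hM hB hQp).1 ⟨x.2, hx⟩
    rw [BrZero] at hne
    push Not at hne
    obtain ⟨c, hc, hcne⟩ := hne
    exact ⟨c, hc, by rw [bz, algOf_coeff_id, blockCoeff_eq]; exact hcne⟩)
  obtain ⟨s, hs, t, ht, rfl⟩ := (hO₀ w).1 hwO
  obtain ⟨k, hk⟩ := S.isPGroup' ⟨s * t, mul_mem hs ht⟩
  refine EqDeg.centralizes_of_conj_eq (P := x.1) le_rfl hyp hyN (t := s * t) ⟨k, ?_⟩ fun u hu => ?_
  · rw [show (s * t) ^ p ^ k = 1 from congrArg Subtype.val hk]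
    exact one_mem _
  · have h1 : y * u * y⁻¹ = s * w₀ * t * u * (s * w₀ * t)⁻¹ := eq_mul_inv_of_mul_eq (hw u hu)
    have htu : t * u * t⁻¹ ∈ (S : Subgroup G) := mul_mem (mul_mem ht (hQS hu)) (inv_mem ht)
    have h2 : w₀ * (t * u * t⁻¹) * w₀⁻¹ = t * u * t⁻¹ := by
      refine hstab _ htu ?_
      have h3 : s⁻¹ * (y * u * y⁻¹) * s ∈ (S : Subgroup G) :=
        mul_mem (mul_mem (inv_mem hs) (hQS ((Subgroup.mem_normalizer_iff.1 hyN u).1 hu))) hs
      rw [h1] at h3
      convert h3 using 1
      group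
    rw [h1, show s * w₀ * t * u * (s * w₀ * t)⁻¹ = s * (w₀ * (t * u * t⁻¹) * w₀⁻¹) * s⁻¹ by group,
      h2]
    group

end Cfsg.Agent.Char.MinBlock
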