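import Cfsg.Agent.Lib.Block.GreenIntersection
import Mathlib.LinearAlgebra.Eigenspace.Triangularizable
import Mathlib.LinearAlgebra.Dual.Lemmas

/-!
A central idempotent of a group algebra in characteristic `p` whose ideal is as small as possible
over a `p`-subgroup: the ideal has a basis made of one double coset of the subgroup.
-/

namespace Cfsg.Agent.Char.MinBlock

open Cfsg.Agent.Block

set_option linter.unusedSectionVars false
set_option linter.style.haveILetI false
set_option maxHeartbeats 800000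

universe u v

variable {G : Type u} [Group G] [Fintype G] [DecidableEq G] {K : Type v} [Field K]

local notation "A" => MonoidAlgebra K G

/-- A group element in the algebra. -/
noncomputable def el (g : G) : A := MonoidAlgebra.single g 1

theorem el_mul (g h : G) : (el g : A) * el h = el (g * h) := by
  simp [el, MonoidAlgebra.single_mul_single]

theorem el_one : (el 1 : A) = 1 := rfl

theorem coeff_el_mul (g x : G) (y : A) : (el g * y).coeff x = y.coeff (g⁻¹ * x) := by
  rw [el, MonoidAlgebra.coeff_single_mul_apply, one_mul]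

theorem coeff_mul_el (g x : G) (y : A) : (y * el g).coeff x = y.coeff (x * g⁻¹) := by
  rw [el, MonoidAlgebra.coeff_mul_single_apply, mul_one]

theorem coeff_el (g x : G) : (el g : A).coeff x = if g = x then 1 else 0 := by
  rw [el, MonoidAlgebra.coeff_single, Finsupp.single_apply]

theorem eq_sum_el (y : A) : y = ∑ g, y.coeff g • el g := by
  ext x
  simp [MonoidAlgebra.coeff_sum, Finsupp.coe_finsetSum, el, MonoidAlgebra.coeff_smul]

/-- Two sided translation. -/
noncomputable def tr (S : Subgroup G) : S × S →* (A →ₗ[K] A) where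
  toFun u := (LinearMap.mulLeft K (el (u.1 : G))).comp (LinearMap.mulRight K (el ((u.2 : G))⁻¹))
  map_one' := LinearMap.ext fun y => by simp [el_one]
  map_mul' u w := LinearMap.ext fun y => by
    simp only [LinearMap.comp_apply, LinearMap.mulLeft_apply, LinearMap.mulRight_apply,
      Module.End.mul_apply, Prod.fst_mul, Prod.snd_mul, Subgroup.coe_mul, mul_inv_rev, ← el_mul,
      mul_assoc]

theorem tr_apply (S : Subgroup G) (u : S × S) (y : A) :
    tr S u y = el (u.1 : G) * y * el ((u.2 : G))⁻¹ := by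
  rw [mul_assoc]; rfl

/-- The projection to a set of group elements. -/
noncomputable def pr (O : Finset G) : A →ₗ[K] A where
  toFun y := ∑ x ∈ O, y.coeff x • el x
  map_add' y z := by simp [add_smul, Finset.sum_add_distrib]
  map_smul' c y := by simp [mul_smul, Finset.smul_sum]

theorem coeff_pr (O : Finset G) (y : A) (g : G) :
    (pr O y).coeff g = if g ∈ O then y.coeff g else 0 := by
  show (∑ x ∈ O, y.coeff x • el x).coeff g = _
  simp [MonoidAlgebra.coeff_sum, Finsupp.coe_finsetSum, el, MonoidAlgebra.coeff_smul,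
    Finsupp.single_apply]

variable {p : ℕ} [Fact p.Prime] [CharP K p]

/-- Invariant submodules seen by the only invariant functional are everything. -/
theorem eq_range_of_functional {P : Type u} [Group P] [Finite P] (hP : IsPGroup p P)
    (ρ : P →* (A →ₗ[K] A)) (E : A →ₗ[K] A) (hE : ∀ y, E (E y) = E y)
    (hρE : ∀ u y, E (ρ u y) = ρ u (E y)) (N : Submodule K A) (hN : N ≤ LinearMap.range E)
    (hinv : ∀ u, ∀ y ∈ N, ρ u y ∈ N)
    (hno : ∀ f : Module.Dual K A, (∀ y, f (E y) = f y) → (∀ u y, f (ρ u y) = f y) →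
      (∀ y ∈ N, f y = 0) → f = 0) : N = LinearMap.range E := by
  classical
  by_contra hne
  obtain ⟨_, ⟨y₀, rfl⟩, hy₀⟩ := SetLike.exists_of_lt (lt_of_le_of_ne hN hne)
  obtain ⟨g, hg1, hg0⟩ := Submodule.exists_dual_map_eq_bot_of_notMem hy₀ inferInstance
  let V : Submodule K (Module.Dual K A) :=
    { carrier := {f | (∀ y, f (E y) = f y) ∧ ∀ y ∈ N, f y = 0}
      add_mem' := fun {f f'} hf hf' => ⟨fun y => by simp [hf.1, hf'.1],
        fun y hy => by simp [hf.2 y hy, hf'.2 y hy]⟩
      zero_mem' := ⟨fun _ => rfl, fun _ _ => rfl⟩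
      smul_mem' := fun c f hf => ⟨fun y => by simp [hf.1], fun y hy => by simp [hf.2 y hy]⟩ }
  let σ : P →* (V →ₗ[K] V) :=
    { toFun := fun u =>
        { toFun := fun f => ⟨(f : Module.Dual K A).comp (ρ u⁻¹), fun y => by
            rw [LinearMap.comp_apply, LinearMap.comp_apply, ← hρE, f.2.1],
            fun y hy => f.2.2 _ (hinv _ y hy)⟩
          map_add' := fun f f' => rfl
          map_smul' := fun c f => rfl }
      map_one' := LinearMap.ext fun f => Subtype.ext (LinearMap.ext fun y => by simp)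
      map_mul' := fun u w => LinearMap.ext fun f => Subtype.ext (LinearMap.ext fun y => by simp) }
  have hgN : ∀ y ∈ N, g y = 0 := fun y hy => by
    have : g y ∈ N.map g := ⟨y, hy, rfl⟩
    rw [hg0] at this
    exact this
  let v₀ : V := ⟨g.comp E, fun y => by simp [hE], fun y hy => by
    obtain ⟨z, rfl⟩ := hN hy
    rw [LinearMap.comp_apply, hE]
    exact hgN _ hy⟩
  have hv₀ : v₀ ≠ 0 := fun h => hg1 (by
    have := congrArg (fun f : V => (f : Module.Dual K A) y₀) h
    exact this)
  obtain ⟨f, hf, hfix⟩ := exists_fixed_vector (k := K) (V := ↥V) hP σ (v₀ := v₀) hv₀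
  refine hf (Subtype.ext (hno f f.2.1 (fun u y => ?_) f.2.2))
  have := congrArg (fun f : V => (f : Module.Dual K A) y) (hfix u⁻¹)
  simpa [σ] using this

variable {S : Subgroup G}

/-- The sum of the elements of the subgroup. -/
noncomputable def sg (S : Subgroup G) [Fintype S] : A := ∑ s : S, el (s : G)

theorem el_mul_sg [Fintype S] (s : S) : (el (s : G) : A) * sg S = sg S := by
  rw [sg, Finset.mul_sum]
  exact Fintype.sum_equiv (Equiv.mulLeft s) _ _ fun t => by simp [el_mul]

theorem sg_mul_el [Fintype S] (s : S) : (sg S : A) * el (s : G) = sg S := by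
  rw [sg, Finset.sum_mul]
  exact Fintype.sum_equiv (Equiv.mulRight s) _ _ fun t => by simp [el_mul]

theorem exists_mul_sg [Fintype S] {v : A} (h : ∀ s : S, v * el (s : G) = v) :
    ∃ y : A, y * sg S = v := by
  classical
  refine ⟨∑ q : G ⧸ S, v.coeff q.out • el q.out, MonoidAlgebra.ext (Finsupp.ext fun x => ?_)⟩
  simp only [Finset.sum_mul, sg, Finset.mul_sum, smul_mul_assoc, el_mul, MonoidAlgebra.coeff_sum,
    Finsupp.coe_finsetSum, Finset.sum_apply, MonoidAlgebra.coeff_smul, Finsupp.smul_apply,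
    coeff_el, smul_eq_mul, mul_ite, mul_one, mul_zero]
  have hmem : (QuotientGroup.mk x : G ⧸ S).out⁻¹ * x ∈ S :=
    QuotientGroup.eq.1 (QuotientGroup.out_eq' _)
  rw [Finset.sum_comm, Finset.sum_eq_single (QuotientGroup.mk x : G ⧸ S)]
  · rw [Finset.sum_eq_single (⟨_, hmem⟩ : S)]
    · rw [if_pos (by simp)]
      have h1 := congrArg (fun y : A => y.coeff (QuotientGroup.mk x : G ⧸ S).out)
        (h ⟨_, inv_mem hmem⟩)
      simp only [coeff_mul_el] at h1
      rw [← h1]
      congr 1
      group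
    · intro t _ ht
      rw [if_neg fun he => ht (Subtype.ext (eq_inv_mul_of_mul_eq he))]
    · exact fun h => absurd (Finset.mem_univ _) h
  · intro q _ hq
    refine Finset.sum_eq_zero fun t _ => if_neg fun he => hq ?_
    rw [← he, QuotientGroup.mk_mul_of_mem _ t.2, QuotientGroup.out_eq']
  · exact fun h => absurd (Finset.mem_univ _) h

theorem exists_sg_mul [Fintype S] {v : A} (h : ∀ s : S, el (s : G) * v = v) :
    ∃ y : A, sg S * y = v := by
  classical
  refine ⟨∑ q : G ⧸ S, v.coeff q.out⁻¹ • el q.out⁻¹, MonoidAlgebra.ext (Finsupp.ext fun x => ?_)⟩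
  simp only [sg, Finset.sum_mul, Finset.mul_sum, mul_smul_comm, el_mul, MonoidAlgebra.coeff_sum,
    Finsupp.coe_finsetSum, Finset.sum_apply, MonoidAlgebra.coeff_smul, Finsupp.smul_apply,
    coeff_el, smul_eq_mul, mul_ite, mul_one, mul_zero]
  have hmem : (QuotientGroup.mk x⁻¹ : G ⧸ S).out⁻¹ * x⁻¹ ∈ S :=
    QuotientGroup.eq.1 (QuotientGroup.out_eq' _)
  rw [Finset.sum_eq_single (QuotientGroup.mk x⁻¹ : G ⧸ S)]
  · rw [Finset.sum_eq_single (⟨_, inv_mem hmem⟩ : S)]
    · rw [if_pos (by simp)]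
      have h1 := congrArg (fun y : A => y.coeff (QuotientGroup.mk x⁻¹ : G ⧸ S).out⁻¹)
        (h ⟨_, hmem⟩)
      simp only [coeff_el_mul] at h1
      rw [← h1]
      congr 1
      group
    · intro t _ ht
      refine if_neg fun he => ht (Subtype.ext ?_)
      show (t : G) = ((QuotientGroup.mk x⁻¹ : G ⧸ S).out⁻¹ * x⁻¹)⁻¹
      rw [mul_inv_rev, inv_inv, inv_inv]
      exact eq_mul_of_mul_inv_eq he
    · exact fun h => absurd (Finset.mem_univ _) h
  · intro q _ hq
    refine Finset.sum_eq_zero fun t _ => if_neg fun he => hq ?_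
    rw [← he, mul_inv_rev, inv_inv, QuotientGroup.mk_mul_of_mem _ (inv_mem t.2),
      QuotientGroup.out_eq']
  · exact fun h => absurd (Finset.mem_univ _) h

variable [IsAlgClosed K]

/-- The ideal of a smallest block has one double coset as a basis. -/
theorem exists_coset (S : Subgroup G) (hS : IsPGroup p S) {b : A} (hbb : b * b = b)
    (hbc : ∀ y, b * y = y * b) (hb0 : b ≠ 0) {w : ℕ}
    (hdim : Module.finrank K (LinearMap.range (LinearMap.mulRight K b)) = Nat.card S * w)
    (hsimple : ∀ X : Submodule K A, (∀ y ∈ X, y * b = y) → (∀ a, ∀ y ∈ X, y * a ∈ X) → X ≠ ⊥ →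
      w ≤ Module.finrank K X) :
    ∃ (g : G) (O : Finset G), (∀ x, x ∈ O ↔ ∃ s ∈ S, ∃ t ∈ S, x = s * g * t) ∧
      O.card = Nat.card S * w ∧ (∀ y, pr O y = y → y * b = 0 → y = 0) ∧
      ∀ z, z * b = z → ∃ y, pr O y = y ∧ y * b = z := by
  classical
  letI := Fintype.ofFinite S
  set Rb : A →ₗ[K] A := LinearMap.mulRight K b with hRb
  set Mb := LinearMap.range Rb with hMb
  have hmem : ∀ y, y ∈ Mb ↔ y * b = y := fun y =>
    ⟨fun ⟨z, hz⟩ => by rw [← hz]; show z * b * b = z * b; rw [mul_assoc, hbb], fun h => ⟨y, h⟩⟩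
  have hP : IsPGroup p (S × S) := by
    intro u
    obtain ⟨i, hi⟩ := hS u.1
    obtain ⟨j, hj⟩ := hS u.2
    refine ⟨i + j, Prod.ext ?_ ?_⟩
    · rw [Prod.pow_fst, pow_add, pow_mul, hi, one_pow, Prod.fst_one]
    · rw [Prod.pow_snd, add_comm i j, pow_add, pow_mul, hj, one_pow, Prod.snd_one]
  have hRρ : ∀ u y, Rb (tr S u y) = tr S u (Rb y) := fun u y => by
    show tr S u y * b = tr S u (y * b)
    rw [tr_apply, tr_apply, mul_assoc (el (u.1 : G) * y), ← hbc]
    simp only [mul_assoc]
  have hRR : ∀ y, Rb (Rb y) = Rb y := fun y => (hmem _).1 ⟨y, rfl⟩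
  -- the left invariants
  set W : Submodule K A := Mb.map (LinearMap.mulLeft K (sg S)) with hW
  have hWmem : ∀ y, y ∈ W ↔ ∃ n, n * b = n ∧ sg S * n = y := fun y =>
    ⟨fun ⟨n, hn, e⟩ => ⟨n, (hmem n).1 hn, e⟩, fun ⟨n, hn, e⟩ => ⟨n, (hmem n).2 hn, e⟩⟩
  have hWb : ∀ y ∈ W, y * b = y := fun y hy => by
    obtain ⟨n, hn, rfl⟩ := (hWmem y).1 hy
    rw [mul_assoc, hn]
  have hWdim : Module.finrank K W ≤ w := by
    let bas := Module.finBasis K W
    choose n hn hne using fun j => (hWmem _).1 (bas j).2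
    let T : (S × Fin (Module.finrank K W) → K) →ₗ[K] A :=
      Fintype.linearCombination K fun q => el (q.1 : G) * n q.2
    have hT : ∀ c, T c = ∑ q, c q • (el (q.1 : G) * n q.2) := fun c =>
      Fintype.linearCombination_apply _ _ _
    have hTinj : LinearMap.ker T = ⊥ := by
      by_contra hk
      obtain ⟨c₀, hc₀, hc₀0⟩ := Submodule.exists_mem_ne_zero_of_ne_bot hk
      let ρ : S →* (LinearMap.ker T →ₗ[K] LinearMap.ker T) :=
        { toFun := fun u =>
            { toFun := fun c => ⟨fun q => c.1 (u⁻¹ * q.1, q.2), by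
                have h1 := LinearMap.mem_ker.1 c.2
                rw [hT] at h1
                rw [LinearMap.mem_ker, hT]
                have h2 := congrArg (fun y : A => el (u : G) * y) h1
                simp only [mul_zero, Finset.mul_sum, mul_smul_comm, ← mul_assoc, el_mul] at h2
                rw [← h2]
                refine (Fintype.sum_equiv (Equiv.prodCongr (Equiv.mulLeft u) (Equiv.refl _)) _ _
                  fun q => ?_).symm
                simp⟩
              map_add' := fun c d => rfl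
              map_smul' := fun r c => rfl }
          map_one' := LinearMap.ext fun c => Subtype.ext (funext fun q => by simp)
          map_mul' := fun u v => LinearMap.ext fun c => Subtype.ext (funext fun q => by
            simp [mul_assoc]) }
      obtain ⟨c, hc, hfix⟩ := exists_fixed_vector hS ρ (v₀ := ⟨c₀, hc₀⟩)
        fun h => hc₀0 (congrArg Subtype.val h)
      have hconst : ∀ s j, c.1 (s, j) = c.1 (1, j) := fun s j => by
        have := congrFun (congrArg Subtype.val (hfix s)) (s, j)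
        simpa [ρ] using this.symm
      have h1 := LinearMap.mem_ker.1 c.2
      rw [hT, Fintype.sum_prod_type, Finset.sum_comm] at h1
      have h2 : ∑ j, c.1 (1, j) • bas j = 0 := by
        refine Subtype.ext ?_
        rw [Submodule.coe_sum, ZeroMemClass.coe_zero, ← h1]
        refine Finset.sum_congr rfl fun j _ => ?_
        rw [Submodule.coe_smul, ← hne j, sg, Finset.sum_mul, Finset.smul_sum]
        exact Finset.sum_congr rfl fun s _ => by rw [hconst s j]
      refine hc (Subtype.ext (funext fun q => ?_))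
      rw [hconst q.1 q.2]
      exact Fintype.linearIndependent_iff.1 bas.linearIndependent _ h2 q.2
    have hle : LinearMap.range T ≤ Mb := by
      rintro _ ⟨c, rfl⟩
      rw [hT]
      exact Submodule.sum_mem _ fun q _ => Submodule.smul_mem _ _ ((hmem _).2 (by
        rw [mul_assoc, hn]))
    have h3 := Submodule.finrank_mono hle
    rw [LinearMap.finrank_range_of_inj (LinearMap.ker_eq_bot.1 hTinj), Module.finrank_pi,
      Fintype.card_prod, hdim, Fintype.card_fin, ← Nat.card_eq_fintype_card] at h3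
    exact Nat.le_of_mul_le_mul_left h3 Nat.card_pos
  -- the two sided invariants
  have hU : ∀ v : A, (∀ s : S, el (s : G) * v = v) → (∀ s : S, v * el (s : G) = v) → v * b = v →
      ∃ c : K, v = c • (sg S * b) := by
    intro v hl hr hvb
    obtain ⟨y, hy⟩ := exists_mul_sg hr
    obtain ⟨y', hy'⟩ := exists_sg_mul hl
    have hσb : sg S * b ∈ W := (hWmem _).2 ⟨b, hbb, rfl⟩
    have hyW : ∀ x ∈ W, y * x ∈ W := fun x hx => by
      obtain ⟨n, hn, rfl⟩ := (hWmem x).1 hx
      exact (hWmem _).2 ⟨y' * n, by rw [mul_assoc, hn], by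
        rw [← mul_assoc, hy', ← mul_assoc, hy]⟩
    by_cases hW0 : sg S * b = 0
    · refine ⟨0, ?_⟩
      rw [zero_smul, ← hvb, ← hy, mul_assoc, hW0, mul_zero]
    let L : Module.End K W := (LinearMap.mulLeft K y).restrict hyW
    haveI : Nontrivial W := ⟨⟨⟨_, hσb⟩, 0, fun h => hW0 (congrArg Subtype.val h)⟩⟩
    obtain ⟨c, hc⟩ := Module.End.exists_eigenvalue L
    obtain ⟨e₀, he₀, he₀0⟩ := Submodule.exists_mem_ne_zero_of_ne_bot hc
    let X : Submodule K A :=
      { carrier := {x | x ∈ W ∧ y * x = c • x}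
        add_mem' := fun {a a'} ha ha' => ⟨add_mem ha.1 ha'.1, by
          rw [mul_add, smul_add, ha.2, ha'.2]⟩
        zero_mem' := ⟨zero_mem _, by simp⟩
        smul_mem' := fun r a ha => ⟨W.smul_mem r ha.1, by
          rw [mul_smul_comm, ha.2, smul_comm]⟩ }
    have hX0 : X ≠ ⊥ := fun h => he₀0 (Subtype.ext (by
      have he : (e₀ : A) ∈ X := ⟨e₀.2, by
        have := congrArg Subtype.val (Module.End.mem_eigenspace_iff.1 he₀)
        exact this⟩
      rw [h] at he
      exact he))
    have hXinv : ∀ a, ∀ x ∈ X, x * a ∈ X := fun a x hx => by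
      obtain ⟨n, hn, hnx⟩ := (hWmem x).1 hx.1
      refine ⟨(hWmem _).2 ⟨n * a, by rw [mul_assoc, ← hbc, ← mul_assoc, hn], by
        rw [← mul_assoc, hnx]⟩, ?_⟩
      rw [← mul_assoc, hx.2, smul_mul_assoc]
    have hXW : X = W := Submodule.eq_of_le_of_finrank_le (fun x hx => hx.1)
      (hWdim.trans (hsimple X (fun x hx => hWb x hx.1) hXinv hX0))
    rw [← hXW] at hσb
    refine ⟨c, ?_⟩
    rw [← hvb, ← hy, mul_assoc, hσb.2]
  -- functionals
  let vec : Module.Dual K A → A := fun f => ∑ g : G, f (el g⁻¹) • el g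
  have hvc : ∀ f g, (vec f).coeff g = f (el g⁻¹) := fun f g => by
    simp [vec, MonoidAlgebra.coeff_sum, Finsupp.coe_finsetSum, el, MonoidAlgebra.coeff_smul,
      Finsupp.single_apply]
  have hvec : ∀ f : Module.Dual K A, (∀ y, f (y * b) = f y) → (∀ u y, f (tr S u y) = f y) →
      ∃ c : K, ∀ g, f (el g) = c * (sg S * b).coeff g⁻¹ := by
    intro f hfb hfρ
    have h1 : ∀ s : S, el (s : G) * vec f = vec f := fun s =>
      MonoidAlgebra.ext (Finsupp.ext fun g => by
        rw [coeff_el_mul, hvc, hvc, mul_inv_rev, inv_inv, ← hfρ (1, s⁻¹) (el g⁻¹), tr_apply]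
        simp [el_one, el_mul])
    have h2 : ∀ s : S, vec f * el (s : G) = vec f := fun s =>
      MonoidAlgebra.ext (Finsupp.ext fun g => by
        rw [coeff_mul_el, hvc, hvc, mul_inv_rev, inv_inv, ← hfρ (s, 1) (el g⁻¹), tr_apply]
        simp [el_one, el_mul])
    have h3 : vec f * b = vec f := MonoidAlgebra.ext (Finsupp.ext fun g => by
      rw [hvc f g, ← hfb (el g⁻¹), ← hbc (el g⁻¹)]
      conv_lhs => rw [eq_sum_el b]
      conv_rhs => rw [eq_sum_el b, Finset.sum_mul, map_sum]
      rw [Finset.mul_sum, MonoidAlgebra.coeff_sum, Finsupp.coe_finsetSum, Finset.sum_apply]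
      refine Finset.sum_congr rfl fun h _ => ?_
      rw [mul_smul_comm, MonoidAlgebra.coeff_smul, Finsupp.smul_apply, coeff_mul_el, hvc,
        smul_mul_assoc, el_mul, map_smul, mul_inv_rev, inv_inv])
    obtain ⟨c, hc⟩ := hU _ h1 h2 h3
    refine ⟨c, fun g => ?_⟩
    rw [← inv_inv g, ← hvc, hc, MonoidAlgebra.coeff_smul, Finsupp.smul_apply, inv_inv, smul_eq_mul]
  obtain ⟨f₀, hf₀b, hf₀ρ, hf₀0⟩ : ∃ f₀ : Module.Dual K A, (∀ y, f₀ (y * b) = f₀ y) ∧
      (∀ u y, f₀ (tr S u y) = f₀ y) ∧ f₀ ≠ 0 := by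
    by_contra hn
    push Not at hn
    have h := eq_range_of_functional hP (tr S) Rb hRR hRρ ⊥ bot_le
      (fun u y hy => by rw [(Submodule.mem_bot K).1 hy, map_zero]; exact zero_mem _)
      fun f h1 h2 _ => hn f h1 h2
    have hb : b ∈ (⊥ : Submodule K A) := h ▸ (hmem b).2 hbb
    exact hb0 hb
  have huniq : ∀ f : Module.Dual K A, (∀ y, f (y * b) = f y) → (∀ u y, f (tr S u y) = f y) →
      ∃ c : K, f = c • f₀ := by
    intro f h1 h2
    obtain ⟨c, hc⟩ := hvec f h1 h2
    obtain ⟨c₀, hc₀⟩ := hvec f₀ hf₀b hf₀ρ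
    have hc₀0 : c₀ ≠ 0 := fun h => hf₀0 (LinearMap.ext fun y => by
      rw [eq_sum_el y, map_sum]
      simp [hc₀, h])
    refine ⟨c / c₀, LinearMap.ext fun y => ?_⟩
    rw [eq_sum_el y]
    simp only [map_sum, map_smul, LinearMap.smul_apply, hc, hc₀, smul_eq_mul]
    exact Finset.sum_congr rfl fun x _ => by field_simp
  have hgen : ∀ N : Submodule K A, N ≤ Mb → (∀ u, ∀ y ∈ N, tr S u y ∈ N) →
      (∃ y ∈ N, f₀ y ≠ 0) → N = Mb := fun N hN hinv ⟨y, hy, hy0⟩ =>
    eq_range_of_functional hP (tr S) Rb hRR hRρ N hN hinv fun f h1 h2 h3 => by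
      obtain ⟨c, rfl⟩ := huniq f h1 h2
      have := h3 y hy
      rw [LinearMap.smul_apply, smul_eq_mul, mul_eq_zero, or_iff_left hy0] at this
      rw [this, zero_smul]
  -- the double coset
  let dc : G → Finset G := fun g => Finset.univ.filter fun x => ∃ s ∈ S, ∃ t ∈ S, x = s * g * t
  have hdc : ∀ g x, x ∈ dc g ↔ ∃ s ∈ S, ∃ t ∈ S, x = s * g * t := fun g x => by simp [dc]
  have hdc_self : ∀ g, g ∈ dc g := fun g =>
    (hdc g g).2 ⟨1, one_mem _, 1, one_mem _, by simp⟩
  have hdc_eq : ∀ g x, x ∈ dc g → dc x = dc g := by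
    intro g x hx
    obtain ⟨s, hs, t, ht, rfl⟩ := (hdc g x).1 hx
    ext y
    rw [hdc, hdc]
    constructor
    · rintro ⟨s', hs', t', ht', rfl⟩
      exact ⟨s' * s, mul_mem hs' hs, t * t', mul_mem ht ht', by group⟩
    · rintro ⟨s', hs', t', ht', rfl⟩
      exact ⟨s' * s⁻¹, mul_mem hs' (inv_mem hs), t⁻¹ * t', mul_mem (inv_mem ht) ht', by group⟩
  obtain ⟨n₀, hn₀b, hn₀⟩ : ∃ n₀, n₀ * b = n₀ ∧ f₀ n₀ ≠ 0 := by
    by_contra hn
    push Not at hn
    refine hf₀0 (LinearMap.ext fun y => ?_)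
    rw [← hf₀b y]
    exact hn _ (by rw [mul_assoc, hbb])
  obtain ⟨g, hg⟩ : ∃ g, f₀ (pr (dc g) n₀ * b) ≠ 0 := by
    by_contra hn
    push Not at hn
    refine hn₀ ?_
    rw [eq_sum_el n₀, map_sum, ← Finset.sum_fiberwise_of_maps_to (t := Finset.univ.image dc)
      fun x _ => Finset.mem_image_of_mem dc (Finset.mem_univ x)]
    refine Finset.sum_eq_zero fun O hO => ?_
    obtain ⟨g, -, rfl⟩ := Finset.mem_image.1 hO
    have h1 := hn g
    rw [hf₀b] at h1
    rw [← h1, ← map_sum]
    refine congrArg f₀ (Finset.sum_congr ?_ fun x _ => rfl)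
    ext x
    simp only [Finset.mem_filter, Finset.mem_univ, true_and]
    exact ⟨fun h => h ▸ hdc_self x, hdc_eq g x⟩
  set O := dc g with hO
  have hOρ : ∀ u (y : A), pr O (tr S u y) = tr S u (pr O y) := fun u y =>
    MonoidAlgebra.ext (Finsupp.ext fun x => by
      rw [coeff_pr, tr_apply, tr_apply, coeff_mul_el, coeff_el_mul, coeff_mul_el, coeff_el_mul,
        coeff_pr]
      refine if_congr ?_ rfl rfl
      rw [hO, hdc, hdc]
      constructor
      · rintro ⟨s, hs, t, ht, rfl⟩
        exact ⟨(u.1 : G)⁻¹ * s, mul_mem (inv_mem u.1.2) hs, t * (u.2 : G)⁻¹⁻¹,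
          mul_mem ht (inv_mem (inv_mem u.2.2)), by group⟩
      · rintro ⟨s, hs, t, ht, he⟩
        exact ⟨(u.1 : G) * s, mul_mem u.1.2 hs, t * (u.2 : G)⁻¹, mul_mem ht (inv_mem u.2.2), by
          rw [show (u.1 : G) * s * g * (t * (u.2 : G)⁻¹) =
            (u.1 : G) * (s * g * t) * (u.2 : G)⁻¹ by group, ← he]; group⟩)
  have hpp : ∀ y : A, pr O (pr O y) = pr O y := fun y => MonoidAlgebra.ext (Finsupp.ext fun x => by
    rw [coeff_pr, coeff_pr]; split_ifs <;> rfl)
  set α : A →ₗ[K] A := Rb.comp (pr O) with hα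
  have hαρ : ∀ u y, α (tr S u y) = tr S u (α y) := fun u y => by
    simp only [hα, LinearMap.comp_apply, hOρ, hRρ]
  have hsurj : Mb.map α = Mb := by
    refine hgen _ ?_ ?_ ⟨_, ⟨n₀, (hmem n₀).2 hn₀b, rfl⟩, hg⟩
    · rintro _ ⟨y, -, rfl⟩
      exact ⟨_, rfl⟩
    · rintro u _ ⟨y, hy, rfl⟩
      refine ⟨tr S u y, ?_, hαρ u y⟩
      obtain ⟨z, rfl⟩ := hy
      exact ⟨tr S u z, hRρ u z⟩
  set Op := LinearMap.range (pr O : A →ₗ[K] A) with hOp
  have hOMb : Mb.map (pr O) = Op := by
    refine eq_range_of_functional hP (tr S) (pr O) hpp hOρ _ LinearMap.map_le_range ?_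
      fun f h1 h2 h3 => ?_
    · rintro u _ ⟨y, hy, rfl⟩
      refine ⟨tr S u y, ?_, hOρ u y⟩
      obtain ⟨z, rfl⟩ := hy
      exact ⟨tr S u z, hRρ u z⟩
    · have hcon : ∀ x ∈ O, ∀ l : Module.Dual K A, (∀ u y, l (tr S u y) = l y) →
          l (el x) = l (el g) := by
        intro x hx l hl
        obtain ⟨s, hs, t, ht, rfl⟩ := (hdc g x).1 hx
        rw [← hl (⟨s, hs⟩, ⟨t⁻¹, inv_mem ht⟩) (el g), tr_apply]
        simp [el_mul]
      have hsum : ∀ (l : Module.Dual K A) y, (∀ u z, l (tr S u z) = l z) →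
          l (pr O y) = (∑ x ∈ O, y.coeff x) * l (el g) := by
        intro l y hl
        show l (∑ x ∈ O, y.coeff x • el x) = _
        rw [map_sum, Finset.sum_mul]
        exact Finset.sum_congr rfl fun x hx => by rw [map_smul, hcon x hx l hl, smul_eq_mul]
      have hz := h3 _ ⟨n₀, (hmem n₀).2 hn₀b, rfl⟩
      rw [hsum f n₀ h2] at hz
      rw [hf₀b, hsum f₀ n₀ hf₀ρ] at hg
      have hfg := (mul_eq_zero.1 hz).resolve_left (left_ne_zero_of_mul hg)
      refine LinearMap.ext fun y => ?_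
      rw [← h1 y, hsum f y h2, hfg, mul_zero]
      rfl
  have hdimO : Module.finrank K Op = O.card := by
    have hsp : Op = Submodule.span K (Set.range fun x : O => (el (x : G) : A)) := by
      refine le_antisymm ?_ (Submodule.span_le.2 ?_)
      · rintro _ ⟨y, rfl⟩
        exact Submodule.sum_mem _ fun x hx =>
          Submodule.smul_mem _ _ (Submodule.subset_span ⟨⟨x, hx⟩, rfl⟩)
      · rintro _ ⟨x, rfl⟩
        exact ⟨el (x : G), MonoidAlgebra.ext (Finsupp.ext fun z => by
          rw [coeff_pr]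
          by_cases hz : z ∈ O
          · rw [if_pos hz]
          · rw [if_neg hz, coeff_el, if_neg fun h : (x : G) = z => hz (h ▸ x.2)])⟩
    rw [hsp, finrank_span_eq_card, Fintype.card_coe]
    rw [Fintype.linearIndependent_iff]
    intro c hc i
    have := congrArg (fun y : A => y.coeff (i : G)) hc
    simpa [MonoidAlgebra.coeff_sum, Finsupp.coe_finsetSum, el, MonoidAlgebra.coeff_smul,
      Finsupp.single_apply] using this
  have hαO : Op.map Rb = Mb := by
    rw [← hOMb, ← Submodule.map_comp]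
    exact hsurj
  have h1 : Module.finrank K Mb ≤ Module.finrank K Op := hαO ▸ Submodule.finrank_map_le Rb Op
  have h2 : Module.finrank K Op ≤ Module.finrank K Mb := hOMb ▸ Submodule.finrank_map_le _ Mb
  refine ⟨g, O, hdc g, by rw [← hdimO, ← hdim]; omega, fun y hy hyb => ?_, fun z hz => ?_⟩
  · let φ : Op →ₗ[K] Mb := Rb.restrict fun x _ => ⟨x, rfl⟩
    have hφ : Function.Surjective φ := fun m => by
      obtain ⟨x, hx, hxm⟩ : (m : A) ∈ Op.map Rb := by rw [hαO]; exact m.2
      exact ⟨⟨x, hx⟩, Subtype.ext hxm⟩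
    have hinj : Function.Injective φ :=
      (LinearMap.injective_iff_surjective_of_finrank_eq_finrank (le_antisymm h2 h1)).2 hφ
    exact congrArg Subtype.val (@hinj ⟨y, y, hy⟩ 0 (Subtype.ext (by
      show y * b = (Rb 0)
      rw [hyb, map_zero])))
  · obtain ⟨x, ⟨x', rfl⟩, hxz⟩ : z ∈ Op.map Rb := by rw [hαO]; exact (hmem z).2 hz
    exact ⟨_, hpp x', hxz⟩

end Cfsg.Agent.Char.MinBlock
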