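import Cfsg.Agent.Lib.Char.NilpotentData
import Cfsg.Agent.Lib.Char.Constituent

/-!
The count for a nilpotent block: the square norm of a character of height zero on the regular
elements, the rank one property, and the characters of the defect group.
-/

open scoped ComplexConjugate

namespace Cfsg.Agent.Char.Spec

open Cfsg.Agent.Block Cfsg.Agent.Char.BP

set_option linter.unusedSectionVars false
set_option linter.style.haveILetI false
set_option maxHeartbeats 800000

universe u

variable {G : Type u} [Group G] [Fintype G] {p : ℕ} {M : Ideal AlgInt}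

/-! ### General lemmas -/

/-- Positive reals with product at least one and sum at most their number are all one. -/
theorem eq_one_of_sum_prod {ι : Type*} (s : Finset ι) (t : ι → ℝ) (hpos : ∀ i ∈ s, 0 < t i)
    (hprod : 1 ≤ ∏ i ∈ s, t i) (hsum : ∑ i ∈ s, t i ≤ s.card) : ∀ i ∈ s, t i = 1 := by
  intro i hi
  by_contra hne
  have hlt : ∑ j ∈ s, Real.log (t j) < ∑ j ∈ s, (t j - 1) :=
    Finset.sum_lt_sum (fun j hj => Real.log_le_sub_one_of_pos (hpos j hj))
      ⟨i, hi, Real.log_lt_sub_one_of_pos (hpos i hi) hne⟩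
  rw [← Real.log_prod (fun j hj => (hpos j hj).ne'), Finset.sum_sub_distrib, Finset.sum_const,
    nsmul_eq_mul, mul_one] at hlt
  linarith [Real.log_nonneg hprod]

theorem isChar_prod {Q : Type u} [Group Q] [Finite Q] {ι : Type*} (s : Finset ι) (f : ι → Q → ℂ)
    (h : ∀ i ∈ s, IsCharacter Q (f i)) : IsCharacter Q (∏ i ∈ s, f i) :=
  Finset.prod_induction f _ (fun _ _ ha hb => IsChar.mul ha hb) IsChar.one h

/-- The product of the square moduli of a character over a set stable under the powers prime to the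
order of the group is a rational integer. -/
theorem exists_int_prod {Q : Type u} [Group Q] [Fintype Q] [Fact p.Prime] (hQ : IsPGroup p Q)
    {θ : Q → ℂ} (hθ : IsCharacter Q θ) (s : Finset Q) (h1 : ∀ u ∈ s, u ≠ 1)
    (hpow : ∀ u : Q, ∀ k : ℕ, (Nat.card Q).Coprime k →
      (u ^ k ∈ s ↔ u ∈ s)) :
    ∃ z : ℤ, ∏ u ∈ s, θ u * conj (θ u) = z := by
  classical
  rcases s.eq_empty_or_nonempty with rfl | ⟨u₀, hu₀⟩
  · exact ⟨1, by simp⟩
  let g : s → Q := fun u => (u : Q)
  let Φ : (s → Q) → ℂ := ∏ u : s, fun f : s → Q => θ (f u) * conj (θ (f u))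
  have hΦ : IsCharacter (s → Q) Φ := isChar_prod _ _ fun u _ =>
    IsChar.comp (Pi.evalMonoidHom (fun _ : s => Q) u) (IsChar.mul hθ (IsChar.conj hθ))
  have hval : ∀ f : Q → Q, Φ (fun u : s => f u) = ∏ u ∈ s, θ (f u) * conj (θ (f u)) := fun f => by
    simp only [Φ, Finset.prod_apply]
    exact Finset.prod_coe_sort s (fun u => θ (f u) * conj (θ (f u)))
  suffices hfix : ∀ k : ℕ, k.Coprime (orderOf g) → Φ (g ^ k) = Φ g by
    obtain ⟨z, hz⟩ := IsChar.exists_int_of_fixed hΦ g hfix
    exact ⟨z, by rw [← hz]; exact (hval fun u => u).symm⟩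
  intro k hk
  · obtain ⟨a, ha⟩ := (IsPGroup.iff_card (p := p) (G := Q)).1 hQ
    have hd : orderOf u₀ ∣ orderOf g :=
      orderOf_map_dvd (Pi.evalMonoidHom (fun _ : s => Q) ⟨u₀, hu₀⟩) g
    have hp : p ∣ orderOf u₀ := by
      obtain ⟨b, hb⟩ := hQ u₀
      obtain ⟨j, -, hj⟩ := (Nat.dvd_prime_pow Fact.out).1 (orderOf_dvd_of_pow_eq_one hb)
      rcases j with _ | j
      · exact absurd (orderOf_eq_one_iff.1 (hj.trans (pow_zero p))) (h1 u₀ hu₀)
      · exact hj ▸ dvd_pow_self p j.succ_ne_zero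
    have hco : (Nat.card Q).Coprime k := by
      rw [ha]
      refine Nat.Coprime.pow_left _ ((Fact.out : p.Prime).coprime_iff_not_dvd.2 fun h => ?_)
      exact (Fact.out : p.Prime).not_dvd_one (hk ▸ Nat.dvd_gcd h (hp.trans hd))
    rw [show g ^ k = fun u : s => (u : Q) ^ k from rfl, hval (fun u => u ^ k),
      show Φ g = _ from hval (fun u => u)]
    refine Finset.prod_equiv (powCoprime hco) (fun u => (hpow u k hco).symm) fun u _ => rfl

theorem exists_genChar_ratio {Q : Type u} [Group Q] [Finite Q] {ψ : Q → ℂ}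
    (hψ : IsGeneralizedCharacter Q ψ) (s : Finset ℕ) :
    ∃ F : Q → ℂ, IsGeneralizedCharacter Q F ∧
      ∀ u, ψ u * F u = (∏ v ∈ s, (v : ℂ)) - ∏ v ∈ s, ((v : ℂ) - ψ u) := by
  classical
  induction s using Finset.induction_on with
  | empty => exact ⟨0, IsGenChar.zero, fun u => by simp⟩
  | @insert a s ha ih =>
    obtain ⟨F, hF, hFv⟩ := ih
    refine ⟨((∏ v ∈ s, (v : ℤ) : ℤ) : ℂ) • (fun _ : Q => (1 : ℂ)) + ((a : ℤ) : ℂ) • F - ψ * F,
      IsGenChar.sub (IsGenChar.add (IsGenChar.zsmul (IsGenChar.of_isCharacter IsChar.one) _)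
        (IsGenChar.zsmul hF _)) (IsGenChar.mul hψ hF), fun u => ?_⟩
    rw [Finset.prod_insert ha, Finset.prod_insert ha]
    simp only [Pi.sub_apply, Pi.add_apply, Pi.smul_apply, Pi.mul_apply, smul_eq_mul]
    push_cast
    linear_combination ((a : ℂ) - ψ u) * hFv u

/-- A function with integral values, a multiple of which by a number prime to the order has integral
inner products, is a generalized character. -/
theorem genChar_of_mul {Q : Type u} [Group Q] [Fintype Q] {K : ℕ} (hK : Nat.Coprime K (Nat.card Q))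
    (hK0 : K ≠ 0) {f : Q → ℂ} (hf : IsClassFunction Q f) (hint : ∀ u, IsIntegral ℤ (f u))
    (h : ∀ φ : IrrCharacter Q, ∃ m : ℤ, (K : ℂ) * classInner f (φ : Q → ℂ) = m) :
    IsGeneralizedCharacter Q f := by
  classical
  have hQ : (Nat.card Q : ℂ) ≠ 0 := Nat.cast_ne_zero.2 Nat.card_pos.ne'
  have hall : ∀ φ : IrrCharacter Q, ∃ m : ℤ, classInner f (φ : Q → ℂ) = m := by
    intro φ
    obtain ⟨m, hm⟩ := h φ
    obtain ⟨xK, yQ, hb⟩ := (Nat.isCoprime_iff_coprime.2 hK : IsCoprime (K : ℤ) (Nat.card Q : ℤ))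
    have hi : IsIntegral ℤ ((Nat.card Q : ℂ) * classInner f (φ : Q → ℂ)) := by
      rw [classInner, ← mul_assoc, mul_inv_cancel₀ hQ, one_mul]
      refine IsIntegral.sum _ fun u _ => (hint u).mul ?_
      rw [← irr_apply_inv]
      exact irr_isIntegral φ _
    have hKc : (K : ℂ) ≠ 0 := Nat.cast_ne_zero.2 hK0
    have e : (Nat.card Q : ℂ) * classInner f (φ : Q → ℂ) =
        (((Nat.card Q : ℚ) * m / K : ℚ) : ℂ) := by
      push_cast
      rw [← hm]
      field_simp
    rw [e] at hi
    obtain ⟨l, hl⟩ := int_of_isIntegral_rat hi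
    rw [← e] at hl
    refine ⟨xK * m + yQ * l, ?_⟩
    have hb' : (xK : ℂ) * (K : ℂ) + (yQ : ℂ) * (Nat.card Q : ℂ) = 1 := by exact_mod_cast hb
    push_cast
    rw [← hm, ← hl]
    linear_combination (-classInner f (φ : Q → ℂ)) * hb'
  choose m hm using hall
  rw [classFunction_expansion hf]
  refine IsGenChar.sum fun φ _ => ?_
  rw [hm]
  exact IsGenChar.zsmul (IsGenChar.of_isCharacter (irr_isChar φ)) _

/-- The sum of a multiplicative function over a finite set stable under translation by `z₀`. -/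
theorem sum_eq_zero_of_translate {ι : Type*} [Group ι] (s : Finset ι) {z₀ : ι}
    (hs : ∀ z, z₀ * z ∈ s ↔ z ∈ s) {f : ι → ℂ} {c : ℂ} (hc : c ≠ 1)
    (hf : ∀ z ∈ s, f (z₀ * z) = c * f z) : ∑ z ∈ s, f z = 0 := by
  have h : ∑ z ∈ s, f z = c * ∑ z ∈ s, f z := by
    rw [Finset.mul_sum]
    refine (Finset.sum_equiv (Equiv.mulLeft z₀) (fun z => ?_) fun z hz => ?_).symm
    · exact (hs z).symm
    · exact (hf z hz).symm
  have h1 : (1 - c) * ∑ z ∈ s, f z = 0 := by rw [sub_mul, one_mul, ← h, sub_self]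
  exact (mul_eq_zero.1 h1).resolve_left (sub_ne_zero.2 (Ne.symm hc))

/-! ### Central scalars -/

theorem gam_norm {η : IrrCharacter G} {z : G} (hz : z ∈ Subgroup.center G) :
    centralChar (η : G → ℂ) z * conj (centralChar (η : G → ℂ) z) = 1 := by
  obtain ⟨s, hs1, hs⟩ := IsIrr.scalar_of_center η.2 hz
  have h1 := centralChar_of_center (η := η) hz 1
  rw [hs 1] at h1
  rw [← mul_right_cancel₀ (irr_one_ne_zero η) h1, Complex.mul_conj, Complex.normSq_eq_norm_sq, hs1]
  simp

theorem gam_mul {η : IrrCharacter G} {z z' : G} (hz : z ∈ Subgroup.center G)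
    (hz' : z' ∈ Subgroup.center G) : centralChar (η : G → ℂ) (z * z') =
      centralChar (η : G → ℂ) z * centralChar (η : G → ℂ) z' := by
  refine mul_right_cancel₀ (irr_one_ne_zero η) ?_
  have h1 := centralChar_of_center (η := η) (mul_mem hz hz') 1
  have h2 := centralChar_of_center (η := η) hz' 1
  rw [mul_one] at h1 h2
  rw [← h1, centralChar_of_center hz, h2, mul_assoc]

theorem mem_zs {P : Subgroup G} [Fintype P] {u : P} : u ∈ zs P ↔ (u : G) ∈ Subgroup.center G := by
  simp [zs]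

theorem mem_us {P : Subgroup G} [Fintype P] {u : P} : u ∈ us P ↔ (u : G) ∉ Subgroup.center G := by
  simp [us]

theorem one_mem_zs {P : Subgroup G} [Fintype P] : (1 : P) ∈ zs P :=
  mem_zs.2 (by simp [one_mem])

theorem sum_us_add_zs {P : Subgroup G} [Fintype P] (f : P → ℂ) :
    ∑ u ∈ us P, f u + ∑ u ∈ zs P, f u = ∑ u, f u := by
  classical
  rw [← Finset.sum_filter_not_add_sum_filter Finset.univ
    (fun u : P => (u : G) ∈ Subgroup.center G) f]
  exact congrArg₂ (· + ·) (Finset.sum_congr (by ext; simp [us]) fun _ _ => rfl)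
    (Finset.sum_congr (by ext; simp [zs]) fun _ _ => rfl)

theorem card_us_add_zs {P : Subgroup G} [Fintype P] :
    (us P).card + (zs P).card = Nat.card P := by
  classical
  rw [Nat.card_eq_fintype_card, ← Finset.card_univ,
    ← Finset.card_filter_add_card_filter_not
      (s := (Finset.univ : Finset P)) (fun u : P => (u : G) ∈ Subgroup.center G), add_comm]
  exact congrArg₂ (· + ·) (congrArg _ (by ext; simp [zs])) (congrArg _ (by ext; simp [us]))

/-! ### The analysis -/

variable [Fact p.Prime] {B : Set (IrrCharacter G)} {χ : IrrCharacter G}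

theorem mReg_self (P : Subgroup G) (f : IrrCharacter G) :
    mReg p P f f = (((Nat.card P : ℝ) / (Nat.card G : ℝ) *
      ∑ x ∈ Finset.univ.filter (fun x : G => ¬ p ∣ orderOf x), Complex.normSq ((f : G → ℂ) x) : ℝ) :
        ℂ) := by
  rw [mReg, regSum_eq_sum]
  push_cast
  simp only [Complex.mul_conj]

theorem exists_int_mReg (hM : IsPModular p M) (S : SrcData p M B χ) (hB : IsPBlock M B)
    (hχ : χ ∈ B) (h0 : blockHeight p B (χ : G → ℂ) = 0) {η : IrrCharacter G} (hη : η ∈ B) :
    ∃ w : ℤ, w ≠ 0 ∧ mReg p S.P η χ = w ∧ mReg p S.P χ η = w := by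
  obtain ⟨z, hz0, hz⟩ := Contrib.exists_int_regSum hM hB hχ hη h0
  refine ⟨(p : ℤ) ^ blockHeight p B (η : G → ℂ) * z,
    mul_ne_zero (pow_ne_zero _ (Int.natCast_ne_zero.2 (Fact.out : p.Prime).ne_zero)) hz0, ?_⟩
  have h : mReg p S.P η χ = (((p : ℤ) ^ blockHeight p B (η : G → ℂ) * z : ℤ) : ℂ) := by
    rw [mReg, S.card_P, Nat.cast_pow, div_mul_eq_mul_div,
      div_eq_iff (Nat.cast_ne_zero.2 Nat.card_pos.ne')]
    push_cast
    linear_combination hz
  exact ⟨h, by rw [mReg, Contrib.regSum_swap, ← mReg, h]⟩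

theorem d_unit (hM : IsPModular p M) (S : SrcData p M B χ) (hχ : χ ∈ B)
    (hD : IsPGroup p S.P) (u : S.P) (hu : (u : G) ∉ Subgroup.center G) :
    ¬ p ∣ S.n u ∧ S.d χ u ≠ 0 := by
  obtain ⟨k, hk⟩ := hD u
  obtain ⟨j, -, hj⟩ := (Nat.dvd_prime_pow (Fact.out : p.Prime)).1 (orderOf_dvd_of_pow_eq_one hk)
  have h1 := (ideal_coe_iff hM _).2 (IsChar.sub_degree_mem (S.th_char χ) hM (g := u) ⟨j, hj⟩)
  have hone : S.th χ 1 = (S.m χ : ℂ) := by
    rw [S.th_zs χ hχ 1 (by simp [one_mem]), OneMemClass.coe_one, centralChar_one, one_mul]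
  have hne : ¬ MemLocalIdeal M (S.th χ u) := by
    rw [ideal_congr hM (show MemLocalIdeal M (S.th χ u - S.th χ 1) by simpa using h1), hone,
      ideal_natCast_iff hM]
    exact S.m_unit
  rw [S.th_us χ hχ u hu] at hne
  refine ⟨fun hp => hne ?_, fun hd => hne ?_⟩
  · exact ideal_mul_left hM (ring_of_integral hM (S.d_int χ u)) ((ideal_natCast_iff hM _).2 hp)
  · rw [hd, zero_mul]; exact ideal_zero hM

/-- The character of height zero has norm one on the regular elements, and its generalized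
decomposition numbers have modulus one. -/
theorem count_one (hM : IsPModular p M) (S : SrcData p M B χ) [Fintype S.P] (hB : IsPBlock M B)
    (hχ : χ ∈ B) (h0 : blockHeight p B (χ : G → ℂ) = 0) (hD : IsPGroup p S.P) :
    mReg p S.P χ χ = 1 ∧ ∀ u ∈ us S.P, S.d χ u * conj (S.d χ u) = 1 := by
  classical
  obtain ⟨w, hw0, hw, -⟩ := exists_int_mReg hM S hB hχ h0 hχ
  have hwpos : (1 : ℤ) ≤ w := by
    have h1 := mReg_self (p := p) S.P χ
    rw [hw] at h1
    have h2 : (w : ℝ) = (Nat.card S.P : ℝ) / (Nat.card G : ℝ) *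
        ∑ x ∈ Finset.univ.filter (fun x : G => ¬ p ∣ orderOf x),
          Complex.normSq ((χ : G → ℂ) x) := by exact_mod_cast h1
    have h3 : (0 : ℝ) ≤ w := h2 ▸ mul_nonneg (by positivity)
      (Finset.sum_nonneg fun x _ => Complex.normSq_nonneg _)
    have h4 : (0 : ℤ) ≤ w := by exact_mod_cast h3
    omega
  set t : S.P → ℝ := fun u => Complex.normSq (S.d χ u) with ht
  have htc : ∀ u, ((t u : ℝ) : ℂ) = S.d χ u * conj (S.d χ u) := fun u => (Complex.mul_conj _).symm
  have horth := S.orth χ hχ χ hχ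
  rw [if_pos rfl, mul_one, hw, Finset.sum_congr rfl fun z hz => gam_norm (mem_zs.1 hz),
    Finset.sum_congr rfl fun u _ => (htc u).symm, Finset.sum_const, nsmul_eq_mul, mul_one] at horth
  have hreal : (Nat.card S.P : ℝ) = ∑ u ∈ us S.P, t u + ((zs S.P).card : ℝ) * (w : ℝ) := by
    exact_mod_cast horth
  have hcard : ((us S.P).card : ℝ) + ((zs S.P).card : ℝ) = (Nat.card S.P : ℝ) := by
    exact_mod_cast card_us_add_zs
  have hw1 : (1 : ℝ) ≤ w := by exact_mod_cast hwpos
  have hmul : ((zs S.P).card : ℝ) ≤ ((zs S.P).card : ℝ) * (w : ℝ) :=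
    le_mul_of_one_le_right (by positivity) hw1
  have hpos : ∀ u ∈ us S.P, 0 < t u := fun u hu =>
    Complex.normSq_pos.2 (d_unit hM S hχ hD u (mem_us.1 hu)).2
  have hprod : 1 ≤ ∏ u ∈ us S.P, t u := by
    obtain ⟨z, hz⟩ := exists_int_prod hD (S.th_char χ) (us S.P)
      (fun u hu h => mem_us.1 hu (by simp [h, one_mem])) fun u k hk => by
        rw [mem_us, mem_us, not_iff_not, SubgroupClass.coe_pow]
        refine ⟨fun h => ?_, fun h => pow_mem h k⟩
        have h2 := congrArg Subtype.val ((powCoprime hk).symm_apply_apply u)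
        rw [← h2]
        simp only [powCoprime, Equiv.coe_fn_mk, Equiv.coe_fn_symm_mk, SubgroupClass.coe_zpow,
          SubgroupClass.coe_pow]
        exact zpow_mem h _
    set N : ℕ := ∏ u ∈ us S.P, S.n u * S.n u with hN
    have hN0 : N ≠ 0 := Finset.prod_ne_zero_iff.2 fun u hu => by
      have := (d_unit hM S hχ hD u (mem_us.1 hu)).1
      exact mul_ne_zero (fun h => this (h ▸ dvd_zero p)) fun h => this (h ▸ dvd_zero p)
    have hz' : ((∏ u ∈ us S.P, t u : ℝ) : ℂ) * (N : ℂ) = z := by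
      rw [← hz, hN]
      push_cast
      rw [← Finset.prod_mul_distrib]
      refine Finset.prod_congr rfl fun u hu => ?_
      rw [htc, S.th_us χ hχ u (mem_us.1 hu), map_mul, map_natCast]
      ring
    have hT : IsIntegral ℤ ((∏ u ∈ us S.P, t u : ℝ) : ℂ) := by
      push_cast
      refine IsIntegral.prod _ fun u _ => ?_
      rw [htc]
      exact (S.d_int χ u).mul ((S.d_int χ u).map (Complex.conjAe.toAlgHom.restrictScalars ℤ))
    have hrat : ((∏ u ∈ us S.P, t u : ℝ) : ℂ) = (((z : ℚ) / N : ℚ) : ℂ) := by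
      push_cast at hz' ⊢
      rw [eq_div_iff (Nat.cast_ne_zero.2 hN0), hz']
    rw [hrat] at hT
    obtain ⟨l, hl⟩ := int_of_isIntegral_rat hT
    rw [hl] at hrat
    have hl' : (∏ u ∈ us S.P, t u : ℝ) = (l : ℝ) := by exact_mod_cast hrat
    have hlpos : (0 : ℝ) < l := hl' ▸ Finset.prod_pos hpos
    rw [hl']
    exact_mod_cast (show 1 ≤ l by have : (0 : ℤ) < l := by exact_mod_cast hlpos
                                  omega)
  have hall := eq_one_of_sum_prod _ t hpos hprod (by linarith)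
  refine ⟨?_, fun u hu => by rw [← htc, hall u hu, Complex.ofReal_one]⟩
  rw [Finset.sum_congr rfl hall, Finset.sum_const, nsmul_eq_mul, mul_one] at hreal
  have h5 : ((zs S.P).card : ℝ) * ((w : ℝ) - 1) = 0 := by linarith
  have h6 : (zs S.P).card ≠ 0 := Finset.card_ne_zero.2 ⟨1, one_mem_zs⟩
  have h7 : (w : ℝ) = 1 := sub_eq_zero.1 ((mul_eq_zero.1 h5).resolve_left (Nat.cast_ne_zero.2 h6))
  rw [hw, show w = 1 by exact_mod_cast h7, Int.cast_one]

/-- Multiplying by the conjugate of the character of `χ` and dividing by its square modulus. -/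
theorem exists_twist (hM : IsPModular p M) (S : SrcData p M B χ) [Fintype S.P] (hB : IsPBlock M B)
    (hχ : χ ∈ B) (h0 : blockHeight p B (χ : G → ℂ) = 0) (hD : IsPGroup p S.P)
    {η : IrrCharacter G} (hη : η ∈ B) :
    ∃ (k : ℕ) (Γ : S.P → ℂ), Nat.Coprime (S.m χ * S.m χ * k) (Nat.card S.P) ∧
      S.m χ * S.m χ * k ≠ 0 ∧ IsGeneralizedCharacter S.P Γ ∧
      (∀ u ∈ us S.P, Γ u = ((S.m χ * S.m χ * k : ℕ) : ℂ) * (S.d η u * conj (S.d χ u))) ∧
      ∀ u ∈ zs S.P, Γ u = centralChar (η : G → ℂ) u * conj (centralChar (χ : G → ℂ) u) *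
        ((S.m η * S.m χ * k : ℕ) : ℂ) := by
  classical
  obtain ⟨-, hd⟩ := count_one hM S hB hχ h0 hD
  let N : S.P → ℕ := fun u => if (u : G) ∈ Subgroup.center G then S.m χ * S.m χ else S.n u * S.n u
  set ψ : S.P → ℂ := fun u => S.th χ u * conj (S.th χ u) with hψdef
  have hψc : IsCharacter S.P ψ := IsChar.mul (S.th_char χ) (IsChar.conj (S.th_char χ))
  have hψ : ∀ u, ψ u = (N u : ℂ) := by
    intro u
    simp only [hψdef, N]
    split_ifs with h
    · rw [S.th_zs χ hχ u h, map_mul, map_natCast, Nat.cast_mul]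
      linear_combination ((S.m χ : ℂ) * (S.m χ : ℂ)) * gam_norm (η := χ) h
    · rw [S.th_us χ hχ u h, map_mul, map_natCast, Nat.cast_mul]
      linear_combination ((S.n u : ℂ) * (S.n u : ℂ)) * hd u (mem_us.2 h)
  set s := Finset.univ.image N with hs
  obtain ⟨F, hF, hFv⟩ := exists_genChar_ratio (IsGenChar.of_isCharacter hψc) s
  set K := ∏ v ∈ s, v with hK
  have hKv : ∀ u, (N u : ℂ) * F u = (K : ℂ) := fun u => by
    have h := hFv u
    rw [hψ u, Finset.prod_eq_zero (f := fun v : ℕ => (v : ℂ) - (N u : ℂ)) (i := N u)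
      (Finset.mem_image_of_mem _ (Finset.mem_univ u)) (sub_self _), sub_zero] at h
    rw [h, hK, Nat.cast_prod]
  have hN1 : N 1 = S.m χ * S.m χ := if_pos (by simp [one_mem])
  obtain ⟨k, hk⟩ : S.m χ * S.m χ ∣ K :=
    hN1 ▸ Finset.dvd_prod_of_mem _ (Finset.mem_image_of_mem _ (Finset.mem_univ 1))
  have hpn : ∀ u : S.P, ¬ p ∣ N u := by
    intro u h
    simp only [N] at h
    split_ifs at h with hu
    · exact S.m_unit (((Fact.out : p.Prime).dvd_mul.1 h).elim id id)
    · exact (d_unit hM S hχ hD u hu).1 (((Fact.out : p.Prime).dvd_mul.1 h).elim id id)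
  have hm0 : (S.m χ : ℂ) * (S.m χ : ℂ) ≠ 0 :=
    mul_self_ne_zero.2 (Nat.cast_ne_zero.2 fun h => S.m_unit (h ▸ dvd_zero p))
  refine ⟨k, fun u => S.th η u * conj (S.th χ u) * F u, ?_, ?_, ?_, fun u hu => ?_,
    fun u hu => ?_⟩
  rotate_left
  · rw [← hk, hK, Finset.prod_ne_zero_iff]
    intro v hv h
    obtain ⟨u, -, rfl⟩ := Finset.mem_image.1 hv
    exact hpn u (h ▸ dvd_zero p)
  rotate_right
  · rw [← hk, S.card_P]
    refine Nat.Coprime.pow_right _ (Nat.Coprime.symm ?_)
    rw [(Fact.out : p.Prime).coprime_iff_not_dvd, hK, Prime.dvd_finsetProd_iff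
      (Fact.out : p.Prime).prime]
    rintro ⟨v, hv, hpv⟩
    obtain ⟨u, -, rfl⟩ := Finset.mem_image.1 hv
    exact hpn u hpv
  · exact IsGenChar.mul (IsGenChar.mul (IsGenChar.of_isCharacter (S.th_char η))
      (IsGenChar.of_isCharacter (IsChar.conj (S.th_char χ)))) hF
  · have h1 := hKv u
    simp only [N, if_neg (mem_us.1 hu), hk] at h1
    show S.th η u * conj (S.th χ u) * F u = _
    rw [S.th_us η hη u (mem_us.1 hu), S.th_us χ hχ u (mem_us.1 hu), map_mul, map_natCast]
    push_cast at h1 ⊢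
    linear_combination (S.d η u * conj (S.d χ u)) * h1
  · have h1 := hKv u
    simp only [N, if_pos (mem_zs.1 hu), hk] at h1
    have hFu : F u = (k : ℂ) := mul_left_cancel₀ hm0 (by push_cast at h1; exact h1)
    show S.th η u * conj (S.th χ u) * F u = _
    rw [S.th_zs η hη u (mem_zs.1 hu), S.th_zs χ hχ u (mem_zs.1 hu), map_mul, map_natCast, hFu]
    push_cast
    ring

theorem isIntegral_conj {x : ℂ} (h : IsIntegral ℤ x) : IsIntegral ℤ (conj x) :=
  h.map (Complex.conjAe.toAlgHom.restrictScalars ℤ)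

/-- The indicator of the central elements has divisible inner products. -/
theorem exists_sum_zs {P : Subgroup G} [Fintype P] (φ : IrrCharacter P) :
    ∃ l : ℕ, ∑ z ∈ zs P, conj ((φ : P → ℂ) z) = ((zs P).card : ℂ) * l := by
  classical
  have hc : ∀ z ∈ zs P, z ∈ Subgroup.center P := fun z hz =>
    Subgroup.mem_center_iff.2 fun t => Subtype.ext (Subgroup.mem_center_iff.1 (mem_zs.1 hz) t)
  by_cases hall : ∀ z ∈ zs P, (φ : P → ℂ) z = (φ : P → ℂ) 1
  · obtain ⟨n, hn⟩ := IsChar.one_eq_nat (irr_isChar φ)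
    exact ⟨n, by rw [Finset.sum_congr rfl fun z hz => by rw [hall z hz, hn, map_natCast],
      Finset.sum_const, nsmul_eq_mul]⟩
  push Not at hall
  obtain ⟨z₀, hz₀, hne⟩ := hall
  obtain ⟨s, -, hs⟩ := IsIrr.scalar_of_center φ.2 (hc z₀ hz₀)
  refine ⟨0, ?_⟩
  rw [Nat.cast_zero, mul_zero]
  refine sum_eq_zero_of_translate (z₀ := z₀) (c := conj s) _ (fun z => ?_) (fun h => hne ?_) ?_
  · rw [mem_zs, mem_zs, Subgroup.coe_mul]
    exact (Subgroup.center G).mul_mem_cancel_left (mem_zs.1 hz₀)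
  · have h1 := hs 1
    rw [mul_one] at h1
    rw [h1, ← Complex.conj_conj s, h, map_one, one_mul]
  · intro z _
    rw [hs z, map_mul]

open Classical in
theorem isClassFunction_of_center {P : Subgroup G} {f : P → ℂ} (a : P → ℂ)
    (ha : IsClassFunction P a) (r : ℂ)
    (h : ∀ u : P, f u = if (u : G) ∈ Subgroup.center G then r else a u) :
    IsClassFunction P f := fun g t => by
  classical
  rw [h, h]
  have hiff : ((t * g * t⁻¹ : P) : G) ∈ Subgroup.center G ↔ (g : G) ∈ Subgroup.center G := by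
    rw [Subgroup.coe_mul, Subgroup.coe_mul, Subgroup.coe_inv]
    refine ⟨fun h => ?_, fun h => Subgroup.Normal.conj_mem inferInstance _ h _⟩
    simpa [mul_assoc] using
      Subgroup.Normal.conj_mem (inferInstance : (Subgroup.center G).Normal) _ h (t : G)⁻¹
  simp only [hiff, ha g t]

/-- A character with the central scalars of `χ` agrees with a multiple of `χ` on regular elements. -/
theorem value_of_scalar_eq (hM : IsPModular p M) (S : SrcData p M B χ) [Fintype S.P]
    (hB : IsPBlock M B) (hχ : χ ∈ B) (h0 : blockHeight p B (χ : G → ℂ) = 0) (hD : IsPGroup p S.P)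
    {η : IrrCharacter G} (hη : η ∈ B)
    (hγ : ∀ z ∈ zs S.P, centralChar (η : G → ℂ) z = centralChar (χ : G → ℂ) z) :
    ∃ c : ℂ, ∀ v : G, ¬ p ∣ orderOf v → (η : G → ℂ) v = c * (χ : G → ℂ) v := by
  classical
  rcases eq_or_ne η χ with rfl | hne
  · exact ⟨1, fun v _ => (one_mul _).symm⟩
  obtain ⟨hM1, hd⟩ := count_one hM S hB hχ h0 hD
  obtain ⟨w, hw0, hw, hw'⟩ := exists_int_mReg hM S hB hχ h0 hη
  obtain ⟨k, Γ, hco, hK0, hΓ, hΓU, hΓZ⟩ := exists_twist hM S hB hχ h0 hD hη
  set K := S.m χ * S.m χ * k with hKdef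
  have hKc : (K : ℂ) ≠ 0 := Nat.cast_ne_zero.2 hK0
  set f : S.P → ℂ := fun u =>
    if (u : G) ∈ Subgroup.center G then (w : ℂ) else S.d η u * conj (S.d χ u) with hfdef
  set cz : ℤ := (K : ℤ) * w - ((S.m η * S.m χ * k : ℕ) : ℤ) with hcz
  set one : S.P → ℂ := fun u => if (u : G) ∈ Subgroup.center G then 1 else 0 with hone
  have hKf : ∀ u, (K : ℂ) * f u = Γ u + (cz : ℂ) * one u := by
    intro u
    simp only [hfdef, hone]
    split_ifs with h
    · rw [hΓZ u (mem_zs.2 h), hγ u (mem_zs.2 h), gam_norm h, one_mul, hcz]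
      push_cast
      ring
    · rw [hΓU u (mem_us.2 h), mul_zero, add_zero]
  have hfc : IsClassFunction S.P f := by
    intro g t
    refine mul_left_cancel₀ hKc ?_
    have h1 : one (t * g * t⁻¹) = one g :=
      isClassFunction_of_center (f := one) (fun _ => (0 : ℂ)) (fun _ _ => rfl) 1 (fun u => rfl) g t
    rw [hKf, hKf, IsGenChar.classFun hΓ g t, h1]
  have hQ : (Nat.card S.P : ℂ) ≠ 0 := Nat.cast_ne_zero.2 Nat.card_pos.ne'
  have hinner : ∀ φ : IrrCharacter S.P, (K : ℂ) * classInner f (φ : S.P → ℂ) =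
      classInner Γ (φ : S.P → ℂ) +
        (cz : ℂ) * ((Nat.card S.P : ℂ)⁻¹ * ∑ z ∈ zs S.P, conj ((φ : S.P → ℂ) z)) := by
    intro φ
    simp only [classInner]
    rw [show ∑ z ∈ zs S.P, conj ((φ : S.P → ℂ) z) = ∑ u, one u * conj ((φ : S.P → ℂ) u) by
      simp only [hone, ite_mul, one_mul, zero_mul, ← Finset.sum_filter]
      exact Finset.sum_congr (by ext; simp [zs]) fun _ _ => rfl]
    simp only [Finset.mul_sum, ← Finset.sum_add_distrib]
    refine Finset.sum_congr rfl fun u _ => ?_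
    linear_combination ((Nat.card S.P : ℂ)⁻¹ * conj ((φ : S.P → ℂ) u)) * hKf u
  have hsum0 : ∑ u, f u = 0 := by
    have h := S.orth η hη χ hχ
    have e : ∀ z ∈ zs S.P, centralChar (η : G → ℂ) z * conj (centralChar (χ : G → ℂ) z) = 1 :=
      fun z hz => by rw [hγ z hz, gam_norm (mem_zs.1 hz)]
    rw [if_neg hne, mul_zero, Finset.sum_congr rfl e, hw] at h
    rw [← sum_us_add_zs, h, Finset.sum_congr rfl (s₁ := zs S.P) fun u hu => by
      simp only [hfdef, if_pos (mem_zs.1 hu)]; rfl, Finset.sum_congr rfl (s₁ := us S.P) fun u hu => by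
      simp only [hfdef, if_neg (mem_us.1 hu)]; rfl]
    simp [mul_comm]
  have htriv : ∃ m : ℤ, (cz : ℂ) * ((Nat.card S.P : ℂ)⁻¹ * ((zs S.P).card : ℂ)) = m := by
    obtain ⟨m, hm⟩ := IsGenChar.classInner_int hΓ
      (IsGenChar.of_isCharacter (irr_isChar (trivialIrr S.P)))
    refine ⟨-m, ?_⟩
    have h := hinner (trivialIrr S.P)
    rw [hm] at h
    simp only [classInner, show ((trivialIrr S.P : IrrCharacter S.P) : S.P → ℂ) = fun _ => 1 from rfl,
      map_one, mul_one, hsum0, mul_zero, Finset.sum_const, nsmul_eq_mul] at h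
    push_cast
    linear_combination -h
  have hgen : IsGeneralizedCharacter S.P f := by
    refine genChar_of_mul hco hK0 hfc (fun u => ?_) fun φ => ?_
    · simp only [hfdef]
      split_ifs
      · exact isIntegral_algebraMap (R := ℤ) (x := w)
      · exact (S.d_int η u).mul (isIntegral_conj (S.d_int χ u))
    · obtain ⟨m, hm⟩ := IsGenChar.classInner_int hΓ (IsGenChar.of_isCharacter (irr_isChar φ))
      obtain ⟨m', hm'⟩ := htriv
      obtain ⟨l, hl⟩ := exists_sum_zs φ
      refine ⟨m + m' * l, ?_⟩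
      rw [hinner, hm, hl]
      push_cast
      rw [← hm']
      ring
  obtain ⟨a, -, ha⟩ := IsGenChar.exists_decomp hgen
  have hN : classInner f f = ((∑ φ : IrrCharacter S.P, a φ ^ 2 : ℤ) : ℂ) := by
    conv_lhs => rw [ha]
    exact IsGenChar.classInner_self_int
  set Nz := ∑ φ : IrrCharacter S.P, a φ ^ 2 with hNz
  have hN1 : 1 ≤ Nz := by
    have h1 : (0 : ℤ) ≤ Nz := Finset.sum_nonneg fun φ _ => sq_nonneg _
    have h2 : Nz ≠ 0 := fun h => by
      rw [h, Int.cast_zero, classInner_self_eq_zero] at hN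
      have := congrFun hN 1
      simp [hfdef, one_mem] at this
      exact hw0 this
    omega
  set Sη : ℝ := ∑ x ∈ Finset.univ.filter (fun x : G => ¬ p ∣ orderOf x),
    Complex.normSq ((η : G → ℂ) x - (w : ℂ) * (χ : G → ℂ) x) with hSη
  have hkey : (Nat.card S.P : ℂ) * (Nz : ℂ) + ((zs S.P).card : ℂ) *
      ((Nat.card S.P : ℂ) / (Nat.card G : ℂ) * (Sη : ℂ)) = (Nat.card S.P : ℂ) := by
    have horth := S.orth η hη η hη
    rw [if_pos rfl, mul_one, Finset.sum_congr rfl fun z hz => gam_norm (mem_zs.1 hz),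
      Finset.sum_const, nsmul_eq_mul, mul_one] at horth
    have hff : (Nat.card S.P : ℂ) * classInner f f = ∑ u ∈ us S.P, S.d η u * conj (S.d η u) +
        ((zs S.P).card : ℂ) * ((w : ℂ) * (w : ℂ)) := by
      rw [classInner, ← mul_assoc, mul_inv_cancel₀ hQ, one_mul, ← sum_us_add_zs]
      refine congrArg₂ (· + ·) (Finset.sum_congr rfl fun u hu => ?_) ?_
      · simp only [hfdef, if_neg (mem_us.1 hu), map_mul, Complex.conj_conj]
        linear_combination (S.d η u * conj (S.d η u)) * hd u hu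
      · rw [Finset.sum_congr rfl (g := fun _ => (w : ℂ) * (w : ℂ)) fun u hu => by
          simp only [hfdef, if_pos (mem_zs.1 hu), map_intCast], Finset.sum_const, nsmul_eq_mul]
    have hSc : (Nat.card S.P : ℂ) / (Nat.card G : ℂ) * (Sη : ℂ) =
        mReg p S.P η η - (w : ℂ) * (w : ℂ) := by
      have e : (Sη : ℂ) = regSum p (η : G → ℂ) (η : G → ℂ) -
          (w : ℂ) * regSum p (η : G → ℂ) (χ : G → ℂ) - (w : ℂ) * regSum p (χ : G → ℂ) (η : G → ℂ) +
          (w : ℂ) * (w : ℂ) * regSum p (χ : G → ℂ) (χ : G → ℂ) := by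
        rw [hSη, Complex.ofReal_sum]
        simp only [regSum_eq_sum, Finset.mul_sum, ← Finset.sum_sub_distrib, ← Finset.sum_add_distrib]
        refine Finset.sum_congr rfl fun x _ => ?_
        rw [← Complex.mul_conj, map_sub, map_mul, map_intCast]
        ring
      unfold mReg at hw hw' hM1 ⊢
      rw [e]
      linear_combination (-(w : ℂ)) * hw - (w : ℂ) * hw' + (w : ℂ) * (w : ℂ) * hM1
    rw [hN] at hff
    rw [hff, hSc]
    linear_combination -horth
  have hreal : (Nat.card S.P : ℝ) * (Nz : ℝ) + ((zs S.P).card : ℝ) *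
      ((Nat.card S.P : ℝ) / (Nat.card G : ℝ) * Sη) = (Nat.card S.P : ℝ) := by
    apply Complex.ofReal_injective
    push_cast
    exact hkey
  have hS0 : Sη = 0 := by
    have h1 : (0 : ℝ) < Nat.card S.P := by exact_mod_cast Nat.card_pos
    have h2 : (0 : ℝ) < Nat.card G := by exact_mod_cast Nat.card_pos
    have h3 : (1 : ℝ) ≤ Nz := by exact_mod_cast hN1
    have h4 : (0 : ℝ) < (zs S.P).card := by exact_mod_cast Finset.card_pos.2 ⟨1, one_mem_zs⟩
    have h5 : 0 ≤ Sη := Finset.sum_nonneg fun x _ => Complex.normSq_nonneg _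
    have h6 : 0 < ((zs S.P).card : ℝ) * ((Nat.card S.P : ℝ) / (Nat.card G : ℝ)) := by positivity
    nlinarith
  refine ⟨w, fun v hv => ?_⟩
  have := (Finset.sum_eq_zero_iff_of_nonneg (fun x _ => Complex.normSq_nonneg _)).1 hS0 v
    (Finset.mem_filter.2 ⟨Finset.mem_univ _, hv⟩)
  exact sub_eq_zero.1 (Complex.normSq_eq_zero.1 this)

/-- Every member is a positive integral multiple of `χ` on the regular elements. -/
theorem exists_mult (hM : IsPModular p M) (S : SrcData p M B χ) [Fintype S.P] (hB : IsPBlock M B)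
    (hχ : χ ∈ B) (h0 : blockHeight p B (χ : G → ℂ) = 0) (hD : IsPGroup p S.P)
    {η : IrrCharacter G} (hη : η ∈ B) :
    ∃ n : ℕ, 0 < n ∧ (∀ v : G, ¬ p ∣ orderOf v → (η : G → ℂ) v = (n : ℂ) * (χ : G → ℂ) v) ∧
      mReg p S.P η χ = n := by
  classical
  obtain ⟨hM1, -⟩ := count_one hM S hB hχ h0 hD
  obtain ⟨w, hw0, hw, -⟩ := exists_int_mReg hM S hB hχ h0 hη
  set γ : IrrCharacter G → S.P → ℂ := fun ξ z => centralChar (ξ : G → ℂ) z with hγdef
  set F : G → ℂ := fun g => ∑ z ∈ zs S.P,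
    (if ¬ p ∣ orderOf ((z : G)⁻¹ * g) then γ χ z * (η : G → ℂ) ((z : G)⁻¹ * g) else 0) with hF
  have hFc : IsClassFunction G F := by
    intro g t
    refine Finset.sum_congr rfl fun z hz => ?_
    have hc : (z : G)⁻¹ * (t * g * t⁻¹) = t * ((z : G)⁻¹ * g) * t⁻¹ := by
      rw [← mul_assoc, ← mul_assoc, ← (Subgroup.mem_center_iff.1
        (inv_mem (mem_zs.1 hz)) t), mul_assoc t]
    rw [hc, irr_classFun η, show t * ((z : G)⁻¹ * g) * t⁻¹ = MulAut.conj t ((z : G)⁻¹ * g) from rfl,
      MulEquiv.orderOf_eq]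
  have hFin : ∀ ξ : IrrCharacter G, classInner F (ξ : G → ℂ) = (Nat.card G : ℂ)⁻¹ *
      ((∑ z ∈ zs S.P, γ χ z * conj (γ ξ z)) * regSum p (η : G → ℂ) (ξ : G → ℂ)) := by
    intro ξ
    simp only [classInner, hF, Finset.sum_mul]
    rw [Finset.sum_comm]
    congr 1
    refine Finset.sum_congr rfl fun z hz => ?_
    rw [regSum_eq_sum, Finset.sum_filter, Finset.mul_sum]
    refine (Fintype.sum_equiv (Equiv.mulLeft (z : G)) _ _ fun h => ?_).symm
    simp only [Equiv.coe_mulLeft, inv_mul_cancel_left, centralChar_of_center (mem_zs.1 hz),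
      map_mul, hγdef]
    split_ifs <;> ring
  have hFv : ∀ v : G, ¬ p ∣ orderOf v → F v = (η : G → ℂ) v := by
    intro v hv
    simp only [hF]
    rw [Finset.sum_eq_single (1 : S.P)]
    · simp [hγdef, hv, centralChar_one]
    · intro z hz hz1
      refine if_neg fun hzr => hz1 (Subtype.ext ?_)
      have hc : Commute (z : G) ((z : G)⁻¹ * v) :=
        (Subgroup.mem_center_iff.1 (mem_zs.1 hz) _).symm
      exact pPart_unique (p := p) (g := v)
        ⟨(z : G)⁻¹ * v, mul_inv_cancel_left _ _, hc, pPow_of_mem hD z.2, hzr⟩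
        ⟨v, one_mul v, Commute.one_left v, ⟨0, by simp⟩, hv⟩
    · exact fun h => absurd one_mem_zs h
  have hterm : ∀ ξ : IrrCharacter G, ∃ c : ℂ, ∀ v : G, ¬ p ∣ orderOf v →
      classInner F (ξ : G → ℂ) * (ξ : G → ℂ) v = c * (χ : G → ℂ) v := by
    intro ξ
    by_cases hξ : ξ ∈ B
    swap
    · refine ⟨0, fun v _ => ?_⟩
      have h0' : regSum p (η : G → ℂ) (ξ : G → ℂ) = 0 := reg_orth hM fun hs => hξ <| by
        rw [pblock_eq_blockOf hM hB hη]; exact mem_blockOf.2 hs
      rw [hFin, h0', mul_zero, mul_zero, zero_mul, zero_mul]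
    by_cases hγ : ∀ z ∈ zs S.P, centralChar (ξ : G → ℂ) z = centralChar (χ : G → ℂ) z
    · obtain ⟨c, hc⟩ := value_of_scalar_eq hM S hB hχ h0 hD hξ hγ
      exact ⟨classInner F (ξ : G → ℂ) * c, fun v hv => by rw [hc v hv, mul_assoc]⟩
    · push Not at hγ
      obtain ⟨z₀, hz₀, hne⟩ := hγ
      refine ⟨0, fun v _ => ?_⟩
      have hz₀' := mem_zs.1 hz₀
      have hsum : ∑ z ∈ zs S.P, γ χ z * conj (γ ξ z) = 0 := by
        refine sum_eq_zero_of_translate (z₀ := z₀) (c := γ χ z₀ * conj (γ ξ z₀)) _ (fun z => ?_)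
          (fun h => hne ?_) ?_
        · rw [mem_zs, mem_zs, Subgroup.coe_mul]
          exact (Subgroup.center G).mul_mem_cancel_left hz₀'
        · have h1 := gam_norm (η := ξ) hz₀'
          simp only [hγdef] at h
          calc centralChar (ξ : G → ℂ) z₀
              = centralChar (χ : G → ℂ) z₀ * conj (centralChar (ξ : G → ℂ) z₀) *
                centralChar (ξ : G → ℂ) z₀ := by rw [h, one_mul]
            _ = _ := by linear_combination centralChar (χ : G → ℂ) z₀ * h1
        · intro z hz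
          simp only [hγdef, Subgroup.coe_mul, gam_mul hz₀' (mem_zs.1 hz), map_mul]
          ring
      rw [hFin, hsum, zero_mul, mul_zero, zero_mul, zero_mul]
  choose c hc using hterm
  have hval : ∀ v : G, ¬ p ∣ orderOf v → (η : G → ℂ) v = (∑ ξ, c ξ) * (χ : G → ℂ) v := by
    intro v hv
    rw [← hFv v hv, congrFun (classFunction_expansion hFc) v, Finset.sum_mul, Finset.sum_apply]
    exact Finset.sum_congr rfl fun ξ _ => hc ξ v hv
  have hC : (∑ ξ, c ξ) = (w : ℂ) := by
    rw [← hw, ← mul_one (∑ ξ, c ξ), ← hM1, mReg, mReg, regSum_eq_sum, regSum_eq_sum, Finset.mul_sum,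
      Finset.mul_sum, Finset.mul_sum]
    refine Finset.sum_congr rfl fun v hv => ?_
    rw [hval v (Finset.mem_filter.1 hv).2]
    ring
  rw [hC] at hval
  have h1 := hval 1 (by rw [orderOf_one]; exact (Fact.out : p.Prime).not_dvd_one)
  rw [charDeg_spec' η, charDeg_spec' χ] at h1
  have h2 : (charDegree (η : G → ℂ) : ℤ) = w * (charDegree (χ : G → ℂ) : ℤ) := by exact_mod_cast h1
  have hpos : 0 < w := by
    have ha : (0 : ℤ) < charDegree (η : G → ℂ) := by exact_mod_cast charDeg_pos η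
    have hb : (0 : ℤ) < charDegree (χ : G → ℂ) := by exact_mod_cast charDeg_pos χ
    nlinarith
  obtain ⟨n, rfl⟩ := Int.eq_ofNat_of_zero_le hpos.le
  exact ⟨n, by exact_mod_cast hpos, fun v hv => by rw [hval v hv, Int.cast_natCast],
    by rw [hw, Int.cast_natCast]⟩

/-- The irreducible character of the defect group attached to a member of the block. -/
theorem exists_irr (hM : IsPModular p M) (S : SrcData p M B χ) [Fintype S.P] (hB : IsPBlock M B)
    (hχ : χ ∈ B) (h0 : blockHeight p B (χ : G → ℂ) = 0) (hD : IsPGroup p S.P) :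
    ∃ lam : B → IrrCharacter S.P, Function.Bijective lam ∧ ∀ η : B,
      charDegree ((η : IrrCharacter G) : G → ℂ) =
        charDegree (lam η : S.P → ℂ) * charDegree (χ : G → ℂ) := by
  classical
  obtain ⟨hM1, hd⟩ := count_one hM S hB hχ h0 hD
  choose n hnpos hnval hnM using fun η : B => exists_mult hM S hB hχ h0 hD η.2
  set f : B → S.P → ℂ := fun η u => if (u : G) ∈ Subgroup.center G then
      centralChar ((η : IrrCharacter G) : G → ℂ) u * conj (centralChar (χ : G → ℂ) u) * (n η : ℂ)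
    else S.d η u * conj (S.d χ u) with hfdef
  have hMM : ∀ η η' : B, mReg p S.P η η' = (n η : ℂ) * (n η' : ℂ) := fun η η' => by
    rw [← mul_one ((n η : ℂ) * (n η' : ℂ)), ← hM1, mReg, mReg, regSum_eq_sum, regSum_eq_sum,
      Finset.mul_sum, Finset.mul_sum, Finset.mul_sum]
    refine Finset.sum_congr rfl fun v hv => ?_
    rw [hnval η v (Finset.mem_filter.1 hv).2, hnval η' v (Finset.mem_filter.1 hv).2, map_mul,
      map_natCast]
    ring
  have hQ : (Nat.card S.P : ℂ) ≠ 0 := Nat.cast_ne_zero.2 Nat.card_pos.ne'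
  have horth : ∀ η η' : B, classInner (f η) (f η') = if η = η' then 1 else 0 := by
    intro η η'
    refine mul_left_cancel₀ hQ ?_
    rw [classInner, ← mul_assoc, mul_inv_cancel₀ hQ, one_mul,
      show (if η = η' then (1 : ℂ) else 0) = if (η : IrrCharacter G) = η' then 1 else 0 from
        if_congr Subtype.ext_iff rfl rfl,
      S.orth η η.2 η' η'.2, hMM, ← sum_us_add_zs, Finset.sum_mul]
    refine congrArg₂ (· + ·) (Finset.sum_congr rfl fun u hu => ?_)
      (Finset.sum_congr rfl fun u hu => ?_)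
    · simp only [hfdef, if_neg (mem_us.1 hu), map_mul, Complex.conj_conj]
      linear_combination (S.d η u * conj (S.d η' u)) * hd u hu
    · simp only [hfdef, if_pos (mem_zs.1 hu), map_mul, Complex.conj_conj, map_natCast]
      linear_combination (centralChar ((η : IrrCharacter G) : G → ℂ) u *
        conj (centralChar ((η' : IrrCharacter G) : G → ℂ) u) * (n η : ℂ) * (n η' : ℂ)) *
          gam_norm (η := χ) (mem_zs.1 hu)
  have hone : ∀ η : B, f η 1 = (n η : ℂ) := fun η => by
    simp [hfdef, one_mem, centralChar_one]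
  have hirr : ∀ η : B, IsIrrCharacter S.P (f η) := by
    intro η
    obtain ⟨k, Γ, hco, hK0, hΓ, hΓU, hΓZ⟩ := exists_twist hM S hB hχ h0 hD η.2
    have hm := S.m_reg η η.2 (n η) (hnval η)
    set K := S.m χ * S.m χ * k with hKdef
    have hKf : ∀ u, (K : ℂ) * f η u = Γ u := by
      intro u
      simp only [hfdef]
      split_ifs with h
      · rw [hΓZ u (mem_zs.2 h), hKdef]
        push_cast
        rw [hm]
        ring
      · rw [hΓU u (mem_us.2 h)]
    have hfc : IsClassFunction S.P (f η) := fun g t =>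
      mul_left_cancel₀ (Nat.cast_ne_zero.2 hK0) (by rw [hKf, hKf, IsGenChar.classFun hΓ g t])
    have hgen : IsGeneralizedCharacter S.P (f η) := by
      refine genChar_of_mul hco hK0 hfc (fun u => ?_) fun φ => ?_
      · simp only [hfdef]
        split_ifs
        · exact ((centralChar_isIntegral _ _).mul (isIntegral_conj (centralChar_isIntegral _ _))).mul
            (by simpa using isIntegral_algebraMap (R := ℤ) (A := ℂ) (x := ((n η : ℕ) : ℤ)))
        · exact (S.d_int η u).mul (isIntegral_conj (S.d_int χ u))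
      · obtain ⟨m, hm'⟩ := IsGenChar.classInner_int hΓ (IsGenChar.of_isCharacter (irr_isChar φ))
        refine ⟨m, ?_⟩
        rw [← hm', ← classInner_smul_left]
        congr 1
        funext u
        exact hKf u
    refine (IsGenChar.norm_one hgen (by rw [horth, if_pos rfl])).resolve_right fun h => ?_
    obtain ⟨d, hd0, hd1⟩ := IsIrr.one_eq_pos h
    rw [Pi.neg_apply, hone] at hd1
    have h2 : ((n η + d : ℕ) : ℂ) = 0 := by push_cast; linear_combination -hd1
    have h3 : n η + d = 0 := by exact_mod_cast h2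
    omega
  let lam : B → IrrCharacter S.P := fun η => ⟨f η, hirr η⟩
  have hinj : Function.Injective lam := fun η η' h => by
    by_contra hne
    have h1 := horth η η'
    rw [if_neg hne, ← show f η = f η' from congrArg Subtype.val h, horth, if_pos rfl] at h1
    exact one_ne_zero h1
  have hdeg : ∀ η : B, charDegree (lam η : S.P → ℂ) = n η := fun η => by
    have h1 := charDeg_spec' (lam η)
    rw [show (lam η : S.P → ℂ) 1 = f η 1 from rfl, hone] at h1
    exact_mod_cast h1.symm
  refine ⟨lam, ⟨hinj, ?_⟩, fun η => ?_⟩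
  · intro φ
    by_contra hφ
    push Not at hφ
    set A := Finset.univ.filter (· ∈ B) with hA
    have hsq := sum_sq_regSum (p := p) A (fun x y hx hy => by
      rw [hA, ← finsum_mem_block B]
      exact weak_orth hM hB hx hy) (χ := χ) (by simp [hA, hχ])
    have hB2 : ∑ η : B, (n η : ℂ) ^ 2 = (Nat.card S.P : ℂ) := by
      have hR : regSum p (χ : G → ℂ) (χ : G → ℂ) = (Nat.card G : ℂ) / (Nat.card S.P : ℂ) := by
        have hG : (Nat.card G : ℂ) ≠ 0 := Nat.cast_ne_zero.2 Nat.card_pos.ne'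
        rw [mReg] at hM1
        field_simp at hM1 ⊢
        linear_combination hM1
      have hterm : ∀ η : B, regSum p (χ : G → ℂ) ((η : IrrCharacter G) : G → ℂ) *
          conj (regSum p (χ : G → ℂ) ((η : IrrCharacter G) : G → ℂ)) =
          (n η : ℂ) ^ 2 * ((Nat.card G : ℂ) / (Nat.card S.P : ℂ)) ^ 2 := by
        intro η
        have h1 : regSum p (χ : G → ℂ) ((η : IrrCharacter G) : G → ℂ) =
            (n η : ℂ) * ((Nat.card G : ℂ) / (Nat.card S.P : ℂ)) := by
          rw [← hnM η, mReg, Contrib.regSum_swap χ]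
          have hG : (Nat.card G : ℂ) ≠ 0 := Nat.cast_ne_zero.2 Nat.card_pos.ne'
          field_simp
        rw [h1, map_mul, map_div₀, map_natCast, map_natCast, map_natCast]
        ring
      rw [Finset.sum_subtype (p := (· ∈ B)) A (fun x => by simp [hA]) (fun η => regSum p (χ : G → ℂ)
        (η : G → ℂ) * conj (regSum p (χ : G → ℂ) (η : G → ℂ))),
        Finset.sum_congr rfl fun η _ => hterm η, ← Finset.sum_mul, hR] at hsq
      have hG : (Nat.card G : ℂ) ≠ 0 := Nat.cast_ne_zero.2 Nat.card_pos.ne'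
      refine mul_right_cancel₀ (pow_ne_zero 2 (div_ne_zero hG hQ)) ?_
      rw [hsq]
      field_simp
    have hall : ∑ ψ : IrrCharacter S.P, charDegree (ψ : S.P → ℂ) ^ 2 = Nat.card S.P := by
      have h := sum_degree_sq (G := S.P)
      simp only [charDeg_spec'] at h
      exact_mod_cast h
    have himg : ∑ ψ ∈ Finset.univ.image lam, charDegree (ψ : S.P → ℂ) ^ 2 = Nat.card S.P := by
      rw [Finset.sum_image fun a _ b _ h => hinj h]
      simp only [hdeg]
      exact_mod_cast hB2
    have hlt := Finset.sum_lt_sum_of_subset (f := fun ψ : IrrCharacter S.P =>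
        charDegree (ψ : S.P → ℂ) ^ 2) (Finset.subset_univ (Finset.univ.image lam))
      (Finset.mem_univ φ) (by simpa using fun a b => hφ ⟨a, b⟩) (by positivity [charDeg_pos φ])
      (fun ψ _ _ => Nat.zero_le _)
    rw [hall, himg] at hlt
    exact lt_irrefl _ hlt
  · have h1 := hnval η 1 (by rw [orderOf_one]; exact (Fact.out : p.Prime).not_dvd_one)
    rw [charDeg_spec', charDeg_spec' χ] at h1
    rw [hdeg]
    exact_mod_cast h1

end Cfsg.Agent.Char.Spec
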