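import Cfsg.Agent.Lib.Char.KnorrPPower
import Cfsg.Agent.Lib.Char.PairStab
import Cfsg.Agent.Lib.Char.PairMax
import Cfsg.Agent.Lib.Char.PairNilpotent

/-!
A stable block of a normal subgroup of `p`-power index is nilpotent exactly when the block of the
group with the same idempotent is.
-/

namespace Cfsg.Agent.Char.NilExt

open scoped ComplexConjugate
open Cfsg Cfsg.Agent.Block Cfsg.Agent.Char.BP Cfsg.Agent.Char.Knorr

set_option linter.unusedSectionVars false
set_option linter.style.haveILetI false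

universe u

variable {G : Type u} [Group G] [Fintype G] {p : ℕ} {M : Ideal AlgInt}
  (N W : Subgroup G) [hN : N.Normal]

/-- The normal subgroup of `W` cut out by `N`. -/
abbrev KW : Subgroup W := N.subgroupOf W

open Classical in
/-- A block of `KW` as a function on the group. -/
noncomputable def up (f : Set (IrrCharacter (KW N W))) : G → ℂ :=
  fun g => if h : g ∈ W then bc (KW N W) f ⟨g, h⟩ else 0

section Fin

variable [Fintype W]

theorem up_coe (f : Set (IrrCharacter (KW N W))) (w : W) :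
    up N W f (w : G) = bc (KW N W) f w := by
  simp [up, w.2]

theorem up_supp {f : Set (IrrCharacter (KW N W))} {g : G} (h : ¬ (g ∈ N ∧ g ∈ W)) :
    up N W f g = 0 := by
  by_cases hw : g ∈ W
  · rw [show up N W f g = bc (KW N W) f ⟨g, hw⟩ from up_coe N W f ⟨g, hw⟩]
    exact bc_supp _ f _ fun hk => h ⟨Subgroup.mem_subgroupOf.1 hk, hw⟩
  · simp [up, hw]

theorem up_inj {f f' : Set (IrrCharacter (KW N W))} (h : up N W f = up N W f') : f = f' :=
  bc_inj (funext fun w => by rw [← up_coe N W f w, ← up_coe N W f' w, h])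

theorem up_cb (c : W) (f : Set (IrrCharacter (KW N W))) :
    up N W (cb (KW N W) c f) = cfun (c : G) (up N W f) := by
  funext g
  have hiff : (c : G)⁻¹ * g * c ∈ W ↔ g ∈ W :=
    ⟨fun h => by simpa [mul_assoc] using mul_mem (mul_mem c.2 h) (inv_mem c.2),
      fun h => mul_mem (mul_mem (inv_mem c.2) h) c.2⟩
  by_cases h : g ∈ W
  · have e : bc (KW N W) (cb (KW N W) c f) ⟨g, h⟩ = bc (KW N W) f (c⁻¹ * ⟨g, h⟩ * c) := by
      rw [cb, bc_pullB]; rfl
    rw [show up N W (cb (KW N W) c f) g = _ from up_coe N W _ ⟨g, h⟩, e, cfun, ← up_coe]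
    rfl
  · rw [up_supp N W fun hh => h hh.2, cfun, up_supp N W fun hh => h (hiff.1 hh.2)]

section Conj

variable {x : G} (hx : x ∈ Subgroup.normalizer (W : Set G))
include hx

/-- Conjugation by an element normalizing `W`. -/
def psi : KW N W ≃* KW N W where
  toFun k := ⟨⟨x * ((k : W) : G) * x⁻¹, (Subgroup.mem_normalizer_iff.1 hx _).1 (k : W).2⟩,
    Subgroup.mem_subgroupOf.2 (hN.conj_mem _ (Subgroup.mem_subgroupOf.1 k.2) x)⟩
  invFun k := ⟨⟨x⁻¹ * ((k : W) : G) * x,
      (Subgroup.mem_normalizer_iff.1 hx _).2 (by simp [mul_assoc])⟩,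
    Subgroup.mem_subgroupOf.2 (by simpa using hN.conj_mem _ (Subgroup.mem_subgroupOf.1 k.2) x⁻¹)⟩
  left_inv k := Subtype.ext (Subtype.ext (show x⁻¹ * (x * _ * x⁻¹) * x = _ by group))
  right_inv k := Subtype.ext (Subtype.ext (show x * (x⁻¹ * _ * x) * x⁻¹ = _ by group))
  map_mul' a b := Subtype.ext (Subtype.ext
    (show x * (((a : W) : G) * ((b : W) : G)) * x⁻¹ = (x * _ * x⁻¹) * (x * _ * x⁻¹) by group))

theorem psi_coe (k : KW N W) : (((psi N W hx k : KW N W) : W) : G) = x * ((k : W) : G) * x⁻¹ :=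
  rfl

theorem up_psi (f : Set (IrrCharacter (KW N W))) :
    up N W (pullB (psi N W hx) f) = cfun x (up N W f) := by
  funext g
  have hiff : x⁻¹ * g * x ∈ W ↔ g ∈ W := by
    rw [Subgroup.mem_normalizer_iff.1 hx (x⁻¹ * g * x)]
    simp [mul_assoc]
  have hiffN : x⁻¹ * g * x ∈ N ↔ g ∈ N :=
    ⟨fun h => by simpa [mul_assoc] using hN.conj_mem _ h x,
      fun h => by simpa using hN.conj_mem _ h x⁻¹⟩
  by_cases h : g ∈ N ∧ g ∈ W
  · let k : KW N W := ⟨⟨x⁻¹ * g * x, hiff.2 h.2⟩, Subgroup.mem_subgroupOf.2 (hiffN.2 h.1)⟩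
    have hk : (((psi N W hx k : KW N W) : W) : G) = g := by
      rw [psi_coe]; show x * (x⁻¹ * g * x) * x⁻¹ = g; group
    calc up N W (pullB (psi N W hx) f) g
        = bc (KW N W) (pullB (psi N W hx) f) (psi N W hx k : KW N W) := by rw [← up_coe, hk]
      _ = bc (KW N W) f (k : W) := by rw [bc_coe, bc_coe, blockCoeff_pullB]
      _ = cfun x (up N W f) g := by rw [← up_coe]; rfl
  · rw [up_supp N W h, cfun, up_supp N W fun hh => h ⟨hiffN.1 hh.1, hiff.1 hh.2⟩]

/-- Conjugation carries constituents to constituents. -/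
theorem constituent_psi [Fintype (KW N W)] {χ χ' : IrrCharacter W}
    (hconj : IsConjCharOf W x (χ : W → ℂ) (χ' : W → ℂ)) {θ : IrrCharacter (KW N W)}
    (hne : classInner (fun k : KW N W => (χ : W → ℂ) k) (θ : KW N W → ℂ) ≠ 0) :
    classInner (fun k : KW N W => (χ' : W → ℂ) k)
      ((irrPull (psi N W hx).symm θ : IrrCharacter (KW N W)) : KW N W → ℂ) ≠ 0 := by
  convert hne using 1
  simp only [classInner]
  congr 1
  refine (Fintype.sum_equiv (psi N W hx).toEquiv _ _ fun k => ?_).symm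
  show (χ : W → ℂ) k * conj ((θ : KW N W → ℂ) k) = (χ' : W → ℂ) (psi N W hx k : KW N W) *
    conj ((θ : KW N W → ℂ) ((psi N W hx).symm (psi N W hx k)))
  rw [MulEquiv.symm_apply_apply,
    hconj (k : W) ((psi N W hx k : KW N W) : W) (psi_coe N W hx k)]

/-- A regular element of `N` stabilising a block above fixes every block of the intersection
below it. -/
theorem cfun_up_eq [Fact p.Prime] (hM : IsPModular p M) [Fintype (KW N W)] {k : ℕ}
    (hidx : N.index = p ^ k) (hxN : x ∈ N) (hreg : ¬ p ∣ orderOf x)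
    {e : Set (IrrCharacter W)} (he : IsPBlock M e) (hst : StabilizesBlock W e x)
    {f : Set (IrrCharacter (KW N W))} (hf : IsPBlock M f)
    (hcov : ∃ χ ∈ e, ∃ θ ∈ f,
      classInner (fun k : KW N W => (χ : W → ℂ) k) (θ : KW N W → ℂ) ≠ 0) :
    cfun x (up N W f) = up N W f := by
  classical
  obtain ⟨χ, hχ, θ, hθ, hne⟩ := hcov
  obtain ⟨χ', hχ', hconj⟩ := hst.2 χ hχ
  obtain ⟨c, hc⟩ := exists_cb_eq (KW N W) hM he hf (isPBlock_pullB hM (psi N W hx) hf)
    ⟨χ, hχ, θ, hθ, hne⟩ ⟨χ', hχ', irrPull (psi N W hx).symm θ, by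
      show irrPull (psi N W hx) (irrPull (psi N W hx).symm θ) ∈ f
      rwa [irrPull_symm_self], constituent_psi N W hx hconj hne⟩
  have h1 : cfun x (up N W f) = cfun (c : G) (up N W f) := by rw [← up_psi N W hx, hc, up_cb]
  set T := fixSub (up N W f) with hT
  have hNW : ∀ g, g ∈ N → g ∈ W → g ∈ T := fun g hgN hgW => by
    show cfun g (up N W f) = up N W f
    have h := up_cb N W ⟨g, hgW⟩ f
    have h' : cb (KW N W) ⟨g, hgW⟩ f = f := bc_inj (by
      rw [cb, bc_pullB]
      exact inv_iff_cfun.1 (bc_inv_self (KW N W) f) _ (Subgroup.mem_subgroupOf.2 hgN))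
    rw [h'] at h
    exact h.symm
  set y : G := (c : G)⁻¹ * x with hy
  have hyT : y ∈ T := by
    show cfun y (up N W f) = up N W f
    rw [hy, ← cfun_mul, h1, cfun_mul, inv_mul_cancel, cfun_one]
  have hpow : ∀ j : ℕ, y ^ j * (x ^ j)⁻¹ ∈ W := by
    intro j
    induction j with
    | zero => simp
    | succ j ih =>
      have h2 : x * (y ^ j * (x ^ j)⁻¹) * x⁻¹ ∈ W := (Subgroup.mem_normalizer_iff.1 hx _).1 ih
      have h3 := mul_mem (inv_mem c.2) h2
      convert h3 using 1
      rw [pow_succ', pow_succ', hy]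
      group
  set m := orderOf x with hm
  have hyW : y ^ m ∈ W := by simpa [hm, pow_orderOf_eq_one] using hpow m
  have hcm : (c : G) ^ m ∈ T := by
    have h2 : y ^ m * (c : G) ^ m ∈ N := by
      rw [← QuotientGroup.eq_one_iff, QuotientGroup.mk_mul, QuotientGroup.mk_pow,
        QuotientGroup.mk_pow, hy, QuotientGroup.mk_mul, (QuotientGroup.eq_one_iff x).2 hxN,
        mul_one, QuotientGroup.mk_inv, inv_pow, inv_mul_cancel]
    have h3 := hNW _ h2 (mul_mem hyW (pow_mem c.2 m))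
    simpa using mul_mem (inv_mem (pow_mem hyT m)) h3
  have hck : (c : G) ^ p ^ k ∈ T :=
    hNW _ (hidx ▸ Subgroup.pow_index_mem N (c : G)) (pow_mem c.2 _)
  have hcT : (c : G) ∈ T := by
    have h2 : (c : G) ^ (Nat.gcd m (p ^ k)) ∈ T := by
      rw [← zpow_natCast, Nat.gcd_eq_gcd_ab, zpow_add, zpow_mul, zpow_mul, zpow_natCast,
        zpow_natCast]
      exact mul_mem (zpow_mem hcm _) (zpow_mem hck _)
    rwa [(Nat.Coprime.pow_right k ((Fact.out : p.Prime).coprime_iff_not_dvd.2 hreg).symm :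
      Nat.Coprime m (p ^ k)).gcd_eq_one, pow_one] at h2
  have := mul_mem hcT hyT
  rwa [hy, mul_inv_cancel_left] at this

/-- Conversely an element fixing a block below stabilises its cover. -/
theorem stabilizes_cover [Fact p.Prime] (hM : IsPModular p M) [Fintype (KW N W)]
    (hidx : ∃ k : ℕ, N.index = p ^ k) {e : Set (IrrCharacter W)} (he : IsPBlock M e)
    {f : Set (IrrCharacter (KW N W))} (hf : IsPBlock M f)
    (hcov : ∃ χ ∈ e, ∃ θ ∈ f,
      classInner (fun k : KW N W => (χ : W → ℂ) k) (θ : KW N W → ℂ) ≠ 0)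
    (hfix : cfun x (up N W f) = up N W f) : StabilizesBlock W e x := by
  classical
  obtain ⟨k, hk⟩ := hidx
  have hidxW : ∃ j : ℕ, (KW N W).index = p ^ j := by
    have h : N.relIndex W ∣ p ^ k := hk ▸ Subgroup.relIndex_dvd_index_of_normal N W
    obtain ⟨j, -, hj⟩ := (Nat.dvd_prime_pow (Fact.out : p.Prime)).1 h
    exact ⟨j, hj⟩
  have hWx : ∀ g, g ∈ W ↔ x * g * x⁻¹ ∈ W := Subgroup.mem_normalizer_iff.1 hx
  obtain ⟨χ, hχ, θ, hθ, hne⟩ := hcov
  set χ' : IrrCharacter W := irrPull (conjIso x hWx).symm χ with hχ'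
  have hconj : IsConjCharOf W x (χ : W → ℂ) (χ' : W → ℂ) := fun a a' h => by
    rw [hχ', show a' = conjIso x hWx a from Subtype.ext h, irrPull_apply,
      MulEquiv.symm_apply_apply]
  have hf' : pullB (psi N W hx) f = f := up_inj N W (by rw [up_psi, hfix])
  have hmem : irrPull (psi N W hx).symm θ ∈ f := by
    rw [← hf']
    show irrPull (psi N W hx) (irrPull (psi N W hx).symm θ) ∈ f
    rwa [irrPull_symm_self]
  have heq : blockOf M (χ' : W → ℂ) = e :=
    (unique_cover_pPow (KW N W) hM hidxW hf).unique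
      ⟨isPBlock_blockOf χ', χ', mem_blockOf_self hM χ', _, hmem, constituent_psi N W hx hconj hne⟩
      ⟨he, χ, hχ, θ, hθ, hne⟩
  rw [stabilizes_iff hM he hx]
  have hpe : pullB (conjIso x hWx) e = e := by
    have h1 : χ' ∈ pullB (conjIso x hWx) e := by
      show irrPull (conjIso x hWx) (irrPull (conjIso x hWx).symm χ) ∈ e
      rwa [irrPull_symm_self]
    rw [pblock_eq_blockOf hM (isPBlock_pullB hM _ he) h1, heq]
  conv_rhs => rw [← hpe, bc_pullB]

end Conj

end Fin

/-! ### The two sides of a pair -/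

/-- The centralizer in the group of the image of a subgroup of `N`. -/
abbrev CW (R : Subgroup N) : Subgroup G := CG (R.map N.subtype)

theorem mem_cw {R : Subgroup N} (n : N) : (n : G) ∈ CW N R ↔ n ∈ CG R := by
  simp only [Subgroup.mem_centralizer_iff, SetLike.mem_coe, Subgroup.mem_map]
  exact ⟨fun h m hm => Subtype.ext (h m ⟨m, hm, rfl⟩),
    fun h g ⟨m, hm, hg⟩ => hg ▸ congrArg Subtype.val (h m hm)⟩

/-- The centralizer in `N` seen inside the centralizer in the group. -/
def cgEquiv (R : Subgroup N) : KW N (CW N R) ≃* CG R where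
  toFun k := ⟨⟨((k : CW N R) : G), Subgroup.mem_subgroupOf.1 k.2⟩,
    (mem_cw N ⟨((k : CW N R) : G), Subgroup.mem_subgroupOf.1 k.2⟩).1 (k : CW N R).2⟩
  invFun d := ⟨⟨((d : N) : G), (mem_cw N (d : N)).2 d.2⟩, Subgroup.mem_subgroupOf.2 (d : N).2⟩
  left_inv k := rfl
  right_inv d := rfl
  map_mul' a b := rfl

theorem be_eq_up [Fintype N] (R : Subgroup N) [Fintype (CW N R)] (f : Set (IrrCharacter (KW N (CW N R)))) (n : N) :
    be (⟨R, pullB (cgEquiv N R) f⟩ : BrauerPairIdx N) n = up N (CW N R) f n := by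
  by_cases h : n ∈ CG R
  · have hW := (mem_cw N n).2 h
    let k : KW N (CW N R) := ⟨⟨(n : G), hW⟩, Subgroup.mem_subgroupOf.2 n.2⟩
    calc be (⟨R, pullB (cgEquiv N R) f⟩ : BrauerPairIdx N) n
        = blockCoeff (pullB (cgEquiv N R) f) (cgEquiv N R k) :=
          bc_coe (CG R) _ (cgEquiv N R k)
      _ = blockCoeff f k := blockCoeff_pullB _ f k
      _ = up N (CW N R) f n := ((up_coe N (CW N R) f (k : CW N R)).trans (bc_coe _ f k)).symm
  · rw [up_supp N (CW N R) fun hh => h ((mem_cw N n).1 hh.2)]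
    exact bc_supp (CG R) _ n h

theorem stab_iff_cfun [Fintype N] (R : Subgroup N) [Fintype (CW N R)] (f : Set (IrrCharacter (KW N (CW N R))))
    (y : N) :
    y ∈ stab (⟨R, pullB (cgEquiv N R) f⟩ : BrauerPairIdx N) ↔
      y ∈ Subgroup.normalizer (R : Set N) ∧
        cfun (y : G) (up N (CW N R) f) = up N (CW N R) f := by
  rw [mem_stab]
  refine and_congr_right fun _ => ⟨fun h => funext fun g => ?_, fun h => funext fun n => ?_⟩
  · by_cases hg : g ∈ N
    · have h1 := congrFun h ⟨g, hg⟩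
      simp only [cfun, be_eq_up] at h1 ⊢
      exact h1
    · rw [cfun, up_supp N _ fun hh => hg (by simpa [mul_assoc] using hN.conj_mem _ hh.1 (y : G)),
        up_supp N _ fun hh => hg hh.1]
  · simp only [cfun, be_eq_up]
    exact congrFun h (n : G)

theorem normalizer_map (R : Subgroup N) (y : N) :
    (y : G) ∈ Subgroup.normalizer ((R.map N.subtype : Subgroup G) : Set G) ↔
      y ∈ Subgroup.normalizer (R : Set N) := by
  simp only [Subgroup.mem_normalizer_iff]
  constructor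
  · intro h n
    have h1 := h (n : G)
    rw [show (y : G) * (n : G) * (y : G)⁻¹ = ((y * n * y⁻¹ : N) : G) from rfl] at h1
    rwa [← Subgroup.coe_subtype, Subgroup.mem_map_iff_mem N.subtype_injective,
      Subgroup.mem_map_iff_mem N.subtype_injective] at h1
  · intro h g
    constructor
    · rintro ⟨n, hn, rfl⟩
      exact ⟨y * n * y⁻¹, (h n).1 hn, rfl⟩
    · rintro ⟨n, hn, hg⟩
      refine ⟨y⁻¹ * n * y, (h _).2 (by simpa [mul_assoc] using hn), ?_⟩
      show (y : G)⁻¹ * (n : G) * (y : G) = g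
      rw [show (n : G) = (y : G) * g * (y : G)⁻¹ from hg]
      group

theorem holds_iff (hM : IsPModular p M) [Fintype N] {c : Set (IrrCharacter N)}
    (hc : IsPBlock M c) {B : Set (IrrCharacter G)} (hB : IsPBlock M B)
    (hBc : blockCoeff B = bc N c) (R : Subgroup N) (hR : IsPGroup p R)
    [Fintype (CW N R)] [Fintype (KW N (CW N R))]
    {e : Set (IrrCharacter (CW N R))} (he : IsPBlock M e)
    {f : Set (IrrCharacter (KW N (CW N R)))} (hf : IsPBlock M f)
    (hcov : ∃ χ ∈ e, ∃ θ ∈ f,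
      classInner (fun k : KW N (CW N R) => (χ : CW N R → ℂ) k) (θ : KW N (CW N R) → ℂ) ≠ 0) :
    OfB p M B (⟨R.map N.subtype, e⟩ : BrauerPairIdx G) ↔
      OfB p M c (⟨R, pullB (cgEquiv N R) f⟩ : BrauerPairIdx N) := by
  classical
  letI := Fintype.ofFinite (CG R)
  obtain ⟨χ, hχ, θ, hθ, hne⟩ := hcov
  have hpa : IsPr p M (⟨R.map N.subtype, e⟩ : BrauerPairIdx G) := ⟨hR.map _, he⟩
  have hpb : IsPr p M (⟨R, pullB (cgEquiv N R) f⟩ : BrauerPairIdx N) :=
    ⟨hR, isPBlock_pullB hM _ hf⟩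
  set θ' : IrrCharacter (CG R) := irrPull (cgEquiv N R).symm θ with hθ'
  have hθ'mem : θ' ∈ pullB (cgEquiv N R) f := by
    show irrPull (cgEquiv N R) (irrPull (cgEquiv N R).symm θ) ∈ f
    rwa [irrPull_symm_self]
  have hval : val (R.map N.subtype) (blockCoeff B) χ = val R (blockCoeff c) θ' := by
    rw [val_eq, val_eq, omegaFun_cover (KW N (CW N R)) (res_classFun
        (inv_of_classFun (blockCoeff_classFun B) _)) (fun g hg => by
          show blockCoeff B (g : G) = 0
          rw [hBc]; exact bc_supp N c _ fun h => hg (Subgroup.mem_subgroupOf.2 h)) χ hne,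
      ← omegaFun_irrPull (cgEquiv N R) θ']
    rw [show irrPull (cgEquiv N R) θ' = θ from irrPull_symm_self _ θ]
    refine congrArg _ (funext fun k => ?_)
    show blockCoeff B _ = blockCoeff c _
    rw [hBc]
    exact bc_coe N c ((cgEquiv N R k : CG R) : N)
  constructor
  · rintro ⟨-, -, hH⟩
    refine ofB_of_holds hc hpb ((holds_or hM hpb (blockCoeff_idem hM hc)
      (inv_of_classFun (blockCoeff_classFun c) _)
      (inv_of_classFun (blockCoeff_classFun c) _)).resolve_right fun h0 => ?_)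
    have h1 := hH χ hχ
    rw [show brauerOmega _ _ _ = _ from hval] at h1
    exact ideal_one hM (by simpa using ideal_sub hM (h0 θ' hθ'mem) h1)
  · rintro ⟨-, -, hH⟩
    refine ofB_of_holds hB hpa ((holds_or hM hpa (blockCoeff_idem hM hB)
      (inv_of_classFun (blockCoeff_classFun B) _)
      (inv_of_classFun (blockCoeff_classFun B) _)).resolve_right fun h0 => ?_)
    have h1 := hH θ' hθ'mem
    rw [show brauerOmega _ _ _ = _ from hval.symm] at h1
    exact ideal_one hM (by simpa using ideal_sub hM (h0 χ hχ) h1)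

theorem mem_cg_of_coprime [Fact p.Prime] {Q : Subgroup G} (hQ : IsPGroup p Q) {x : G}
    (hxN : x ∈ N) (hxQ : x ∈ Subgroup.normalizer (Q : Set G)) (hreg : ¬ p ∣ orderOf x)
    (h : x ∈ CG (Q ⊓ N)) : x ∈ CG Q := by
  refine Subgroup.mem_centralizer_iff.2 fun u hu => ?_
  set d := x * u * x⁻¹ * u⁻¹ with hd
  have hdQ : d ∈ Q := mul_mem ((Subgroup.mem_normalizer_iff.1 hxQ u).1 hu) (inv_mem hu)
  have hdN : d ∈ N := by
    rw [hd, show x * u * x⁻¹ * u⁻¹ = x * (u * x⁻¹ * u⁻¹) by group]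
    exact mul_mem hxN (hN.conj_mem _ (inv_mem hxN) u)
  have hxd : d * x = x * d := Subgroup.mem_centralizer_iff.1 h d ⟨hdQ, hdN⟩
  have hxd' : x * d * x⁻¹ = d := by rw [← hxd, mul_inv_cancel_right]
  have hpow : ∀ j : ℕ, x ^ j * u * (x ^ j)⁻¹ = d ^ j * u := by
    intro j
    induction j with
    | zero => simp
    | succ j ih =>
      have hdj : x * d ^ j * x⁻¹ = d ^ j := by
        have := map_pow (MulAut.conj x) d j
        simp only [MulAut.conj_apply, hxd'] at this
        exact this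
      rw [show x ^ (j + 1) * u * (x ^ (j + 1))⁻¹ = x * (x ^ j * u * (x ^ j)⁻¹) * x⁻¹ by
        rw [pow_succ', mul_inv_rev]; group, ih,
        show x * (d ^ j * u) * x⁻¹ = (x * d ^ j * x⁻¹) * (x * u * x⁻¹) by group, hdj,
        show x * u * x⁻¹ = d * u from (inv_mul_cancel_right _ u).symm, ← mul_assoc, ← pow_succ]
  have h1 : d ^ orderOf x = 1 := by
    have := hpow (orderOf x)
    rw [pow_orderOf_eq_one, one_mul, inv_one, mul_one] at this
    exact mul_right_cancel (this.symm.trans (one_mul u).symm)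
  obtain ⟨i, hi⟩ := hQ ⟨d, hdQ⟩
  have h2 : d = 1 := orderOf_eq_one_iff.1 (Nat.eq_one_of_dvd_coprimes
    (Nat.Coprime.pow_right i ((Fact.out : p.Prime).coprime_iff_not_dvd.2 hreg).symm)
    (orderOf_dvd_of_pow_eq_one h1)
    (orderOf_dvd_of_pow_eq_one (congrArg Subtype.val hi : d ^ p ^ i = 1)))
  rw [hd, mul_inv_eq_one, mul_inv_eq_iff_eq_mul] at h2
  exact h2.symm

/-- Nilpotency passes in both directions. -/
theorem nilpotent_iff [Fact p.Prime] (hM : IsPModular p M) [Fintype N] {k : ℕ}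
    (hidx : N.index = p ^ k) {c : Set (IrrCharacter N)} (hc : IsPBlock M c)
    {B : Set (IrrCharacter G)} (hB : IsPBlock M B) (hBc : blockCoeff B = bc N c) :
    IsNilpotentBlock p M c ↔ IsNilpotentBlock p M B := by
  classical
  rw [nil_iff hM, nil_iff hM]
  constructor
  · rintro ⟨-, hnil⟩
    refine ⟨hB, ?_⟩
    rintro ⟨Q, e₀⟩ ha y hy hreg
    have hyN : y ∈ N := regular_mem_of_index_pPow hidx hreg
    set R := Q.subgroupOf N with hR
    have hRmap : R.map N.subtype = Q ⊓ N := Subgroup.subgroupOf_map_subtype Q N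
    obtain ⟨⟨R', e⟩, hR', hle⟩ := exists_le hM ha.1 (Q := R.map N.subtype)
      (hRmap ▸ inf_le_left)
    obtain rfl : R' = R.map N.subtype := hR'
    have hyR : y ∈ Subgroup.normalizer ((R.map N.subtype : Subgroup G) : Set G) := by
      rw [hRmap]
      refine Subgroup.mem_normalizer_iff.2 fun g => ?_
      rw [Subgroup.mem_inf, Subgroup.mem_inf, Subgroup.mem_normalizer_iff.1
        (stab_le_normalizer _ hy) g]
      exact and_congr_right fun _ => conj_mem_iff N y g
    have hst : y ∈ stab (⟨R.map N.subtype, e⟩ : BrauerPairIdx G) := by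
      refine mem_stab_of_cjI hyR (le_unique hM ?_ hle (map_conj_eq_of_normalizer hyR))
      have := le_cjI hM y hle
      rwa [cjI_eq_of_stab hy] at this
    have hofa := (ofB_le hM hle).1 ha
    have he : IsPBlock M e := hofa.1.2
    set W := CW N R
    obtain ⟨χ, hχ⟩ := pblock_nonempty hM he
    obtain ⟨θ, hθ⟩ := IsChar.exists_constituent'
      (IsChar.res (IsIrr.isCharacter χ.2) (KW N W))
      (show (χ : W → ℂ) ((1 : KW N W) : W) ≠ 0 from irr_one_ne_zero χ)
    have hcov : ∃ χ ∈ e, ∃ ξ ∈ blockOf M (θ : KW N W → ℂ),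
        classInner (fun k : KW N W => (χ : W → ℂ) k) (ξ : KW N W → ℂ) ≠ 0 :=
      ⟨χ, hχ, θ, mem_blockOf_self hM θ, hθ⟩
    have hRp : IsPGroup p R := hofa.1.1.of_injective
      (R.equivMapOfInjective N.subtype N.subtype_injective).toMonoidHom
      (R.equivMapOfInjective N.subtype N.subtype_injective).injective
    have hb := (holds_iff N hM hc hB hBc R hRp he (isPBlock_blockOf θ) hcov).1 hofa
    have hyW := mem_normalizer_cg hyR
    have hfix := cfun_up_eq N W hyW hM hidx hyN hreg he ((mem_stab_iff hM he).1 hst).2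
      (isPBlock_blockOf θ) hcov
    have h1 := hnil _ hb ⟨y, hyN⟩ ((stab_iff_cfun N R _ _).2
      ⟨(normalizer_map N R ⟨y, hyN⟩).1 hyR, hfix⟩)
      (by rw [← Subgroup.orderOf_coe]; exact hreg)
    refine mem_cg_of_coprime N ha.1.1 hyN (stab_le_normalizer _ hy) hreg ?_
    have h2 : y ∈ CW N R := (mem_cw N ⟨y, hyN⟩).2 h1
    rwa [CW, hRmap] at h2
  · rintro ⟨-, hnil⟩
    refine ⟨hc, ?_⟩
    rintro ⟨R, f₀⟩ hb y hy hreg
    set W := CW N R
    set f := pullB (cgEquiv N R).symm f₀ with hfdef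
    have hf : IsPBlock M f := isPBlock_pullB hM _ hb.1.2
    have hf0 : f₀ = pullB (cgEquiv N R) f := by
      ext ξ
      show ξ ∈ f₀ ↔ irrPull (cgEquiv N R).symm (irrPull (cgEquiv N R) ξ) ∈ f₀
      rw [irrPull_self_symm]
    rw [hf0] at hb hy
    obtain ⟨θ, hθ⟩ := pblock_nonempty hM hf
    obtain ⟨χ, hχ⟩ := exists_over (KW N W) θ
    have hcov : ∃ χ' ∈ blockOf M (χ : W → ℂ), ∃ θ ∈ f,
        classInner (fun k : KW N W => (χ' : W → ℂ) k) (θ : KW N W → ℂ) ≠ 0 :=
      ⟨χ, mem_blockOf_self hM χ, θ, hθ, hχ⟩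
    have ha := (holds_iff N hM hc hB hBc R hb.1.1 (isPBlock_blockOf χ) hf hcov).2 hb
    obtain ⟨hyN', hfix⟩ := (stab_iff_cfun N R f y).1 hy
    have hyR := (normalizer_map N R y).2 hyN'
    have hyW := mem_normalizer_cg hyR
    have h1 := hnil _ ha (y : G) ((mem_stab_iff hM (isPBlock_blockOf χ)).2
      ⟨hyR, stabilizes_cover N W hyW hM ⟨k, hidx⟩ (isPBlock_blockOf χ) hf hcov hfix⟩)
      (by rw [Subgroup.orderOf_coe]; exact hreg)
    exact (mem_cw N y).1 h1

end Cfsg.Agent.Char.NilExt
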