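import Mathlib

/-!
The number of nilpotent square matrices over a finite field.
-/

set_option autoImplicit false

namespace Cfsg.Agent.Char.NilMat

open Matrix Module

universe u

variable {F : Type u} [Field F]

theorem ker_pow_stable {V : Type*} [AddCommGroup V] [Module F V] [FiniteDimensional F V]
    (f : Module.End F V) {m : ℕ} (hm : Module.finrank F V ≤ m) :
    LinearMap.ker (f ^ m) = LinearMap.ker (f ^ Module.finrank F V) :=
  Module.End.ker_pow_eq_ker_pow_finrank_of_le hm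

/-- A nilpotent matrix of size `k` has vanishing `k`-th power. -/
theorem pow_eq_zero_of_isNilpotent {k : ℕ} {N : Matrix (Fin k) (Fin k) F} (h : IsNilpotent N) :
    N ^ k = 0 := by
  obtain ⟨m, hm⟩ := h
  set f : Module.End F (Fin k → F) := Matrix.toLinAlgEquiv' N with hf
  have hm' : f ^ (k + m) = 0 := by rw [hf, ← map_pow, pow_add, hm, mul_zero, map_zero]
  have h1 := ker_pow_stable f (show Module.finrank F (Fin k → F) ≤ k + m by simp)
  rw [hm', LinearMap.ker_zero, Module.finrank_fin_fun] at h1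
  have h2 : f ^ k = 0 := LinearMap.ker_eq_top.1 h1.symm
  rw [hf, ← map_pow] at h2
  exact Matrix.toLinAlgEquiv'.injective (by rw [h2, map_zero])

/-- The block diagonal matrix. -/
abbrev blk {k l : ℕ} (N : Matrix (Fin k) (Fin k) F) (M : Matrix (Fin l) (Fin l) F) :
    Matrix (Fin k ⊕ Fin l) (Fin k ⊕ Fin l) F :=
  Matrix.fromBlocks N 0 0 M

theorem blk_mul {k l : ℕ} (N N' : Matrix (Fin k) (Fin k) F) (M M' : Matrix (Fin l) (Fin l) F) :
    blk N M * blk N' M' = blk (N * N') (M * M') := by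
  simp [blk, Matrix.fromBlocks_multiply]

theorem blk_pow {k l : ℕ} (N : Matrix (Fin k) (Fin k) F) (M : Matrix (Fin l) (Fin l) F) :
    ∀ m : ℕ, blk N M ^ m = blk (N ^ m) (M ^ m) := by
  intro m
  induction m with
  | zero => simp [blk, Matrix.fromBlocks_one]
  | succ m ih => rw [pow_succ, ih, blk_mul, pow_succ, pow_succ]

/-- Nilpotent matrices of size `k`. -/
abbrev Nil (F : Type u) [Field F] (k : ℕ) := {N : Matrix (Fin k) (Fin k) F // N ^ k = 0}

/-- Matrices whose high powers have rank `l`. -/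
abbrev Stratum (F : Type u) [Field F] (k l : ℕ) :=
  {A : Matrix (Fin k ⊕ Fin l) (Fin k ⊕ Fin l) F // (A ^ (k + l)).rank = l}

theorem rank_blk_zero {k l : ℕ} {M : Matrix (Fin l) (Fin l) F} (hM : IsUnit M) :
    (blk (0 : Matrix (Fin k) (Fin k) F) M).rank = l := by
  have hr : M.rank = l := by
    rw [Matrix.rank_of_isUnit M hM, Fintype.card_fin]
  refine le_antisymm ?_ ?_
  · have e : blk (0 : Matrix (Fin k) (Fin k) F) M =
        Matrix.fromRows (0 : Matrix (Fin k) (Fin l) F) 1 * M *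
          Matrix.fromCols (0 : Matrix (Fin l) (Fin k) F) 1 := by
      ext (i | i) (j | j) <;> simp [blk, Matrix.mul_apply, Matrix.one_apply]
    rw [e]
    refine le_trans (Matrix.rank_mul_le_left _ _) (le_trans (Matrix.rank_mul_le_right _ _) hr.le)
  · have e : M = (blk (0 : Matrix (Fin k) (Fin k) F) M).submatrix Sum.inr Sum.inr := by
      ext i j; rfl
    calc l = M.rank := hr.symm
      _ = ((blk (0 : Matrix (Fin k) (Fin k) F) M).submatrix Sum.inr Sum.inr).rank := by rw [← e]
      _ ≤ _ := Matrix.rank_submatrix_le _ _ _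

theorem pow_conj {ι : Type*} [Fintype ι] [DecidableEq ι] (g : GL ι F) (A : Matrix ι ι F) :
    ∀ m : ℕ, ((g : Matrix ι ι F) * A * (g⁻¹).val) ^ m = (g : Matrix ι ι F) * A ^ m * (g⁻¹).val := by
  intro m
  induction m with
  | zero => simp
  | succ m ih =>
    rw [pow_succ, ih, pow_succ]
    simp only [Matrix.mul_assoc]
    rw [← Matrix.mul_assoc ((g⁻¹).val : Matrix ι ι F) (g : Matrix ι ι F), Units.inv_mul, Matrix.one_mul]

variable {k l : ℕ}

/-- The parametrisation of a stratum. -/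
noncomputable def toStratum (q : GL (Fin k ⊕ Fin l) F × Nil F k × GL (Fin l) F) : Stratum F k l :=
  ⟨q.1.val * blk q.2.1.1 q.2.2.val * (q.1⁻¹).val, by
    rw [pow_conj, blk_pow, show q.2.1.1 ^ (k + l) = 0 by rw [pow_add, q.2.1.2, zero_mul],
      Matrix.rank_mul_eq_left_of_isUnit_det _ _ ((Matrix.isUnit_iff_isUnit_det _).1 q.1⁻¹.isUnit),
      Matrix.rank_mul_eq_right_of_isUnit_det _ _ ((Matrix.isUnit_iff_isUnit_det _).1 q.1.isUnit)]
    exact rank_blk_zero (q.2.2.isUnit.pow _)⟩

theorem toStratum_surjective : Function.Surjective (toStratum (F := F) (k := k) (l := l)) := by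
  rintro ⟨A, hA⟩
  set f : Module.End F (Fin k ⊕ Fin l → F) := Matrix.toLinAlgEquiv' A with hf
  set n := k + l
  have hfr : Module.finrank F (Fin k ⊕ Fin l → F) = n := by simp [n]
  have hdisj : Disjoint (LinearMap.ker (f ^ n)) (LinearMap.range (f ^ n)) := by
    rw [Submodule.disjoint_def]
    rintro _ hx ⟨y, rfl⟩
    rw [LinearMap.mem_ker, ← Module.End.mul_apply, ← pow_add] at hx
    have h2 := (ker_pow_stable f (show Module.finrank F (Fin k ⊕ Fin l → F) ≤ n + n by omega)).le
      (LinearMap.mem_ker.2 hx)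
    rw [hfr] at h2
    exact LinearMap.mem_ker.1 h2
  have hsum := LinearMap.finrank_range_add_finrank_ker (f ^ n)
  have hrl : Module.finrank F (LinearMap.range (f ^ n)) = l := by
    rw [hf, ← map_pow]
    exact hA
  have hkl : Module.finrank F (LinearMap.ker (f ^ n)) = k := by omega
  have hc : IsCompl (LinearMap.ker (f ^ n)) (LinearMap.range (f ^ n)) :=
    Submodule.isCompl_iff_disjoint _ _ (by omega) |>.2 hdisj
  set b : Basis (Fin k ⊕ Fin l) F (Fin k ⊕ Fin l → F) :=
    ((Module.finBasisOfFinrankEq F _ hkl).prod (Module.finBasisOfFinrankEq F _ hrl)).map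
      (Submodule.prodEquivOfIsCompl _ _ hc) with hb
  have hbl : ∀ i, b (Sum.inl i) ∈ LinearMap.ker (f ^ n) := fun i => by simp [hb]
  have hbr : ∀ j, b (Sum.inr j) ∈ LinearMap.range (f ^ n) := fun j => by simp [hb]
  have hK : ∀ x ∈ LinearMap.ker (f ^ n), ∀ j, b.repr x (Sum.inr j) = 0 := by
    intro x hx j
    have e : (Submodule.prodEquivOfIsCompl _ _ hc).symm x = (⟨x, hx⟩, 0) := by
      rw [LinearEquiv.symm_apply_eq]; simp
    simp [hb, e]
  have hR : ∀ x ∈ LinearMap.range (f ^ n), ∀ i, b.repr x (Sum.inl i) = 0 := by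
    intro x hx i
    have e : (Submodule.prodEquivOfIsCompl _ _ hc).symm x = (0, ⟨x, hx⟩) := by
      rw [LinearEquiv.symm_apply_eq]; simp
    simp [hb, e]
  have hcomm : ∀ x, (f ^ n) (f x) = f ((f ^ n) x) := fun x => by
    rw [← Module.End.mul_apply, ← Module.End.mul_apply, ← pow_succ, ← pow_succ']
  have hfK : ∀ i, f (b (Sum.inl i)) ∈ LinearMap.ker (f ^ n) := fun i => by
    rw [LinearMap.mem_ker, hcomm, LinearMap.mem_ker.1 (hbl i), map_zero]
  have hfR : ∀ j, f (b (Sum.inr j)) ∈ LinearMap.range (f ^ n) := fun j => by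
    obtain ⟨y, hy⟩ := hbr j
    exact ⟨f y, by rw [hcomm, hy]⟩
  set e := Pi.basisFun F (Fin k ⊕ Fin l)
  let g : GL (Fin k ⊕ Fin l) F :=
    ⟨e.toMatrix b, b.toMatrix e, e.toMatrix_mul_toMatrix_flip b, b.toMatrix_mul_toMatrix_flip e⟩
  set C := LinearMap.toMatrix b b f with hC
  have hgC : g.val * C * (g⁻¹).val = A := by
    show e.toMatrix b * C * b.toMatrix e = A
    rw [hC, basis_toMatrix_mul_linearMap_toMatrix_mul_basis_toMatrix, hf]
    show LinearMap.toMatrix' (Matrix.toLin' A) = A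
    exact LinearMap.toMatrix'_toLin' A
  have hblk : C = blk C.toBlocks₁₁ C.toBlocks₂₂ := by
    conv_lhs => rw [← Matrix.fromBlocks_toBlocks C]
    have h12 : C.toBlocks₁₂ = 0 := by
      ext i j
      show C (Sum.inl i) (Sum.inr j) = 0
      rw [hC, LinearMap.toMatrix_apply]
      exact hR _ (hfR j) i
    have h21 : C.toBlocks₂₁ = 0 := by
      ext i j
      show C (Sum.inr i) (Sum.inl j) = 0
      rw [hC, LinearMap.toMatrix_apply]
      exact hK _ (hfK j) i
    rw [h12, h21]
  have hN : C.toBlocks₁₁ ^ k = 0 := by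
    refine pow_eq_zero_of_isNilpotent ⟨n, ?_⟩
    have h1 : (LinearMap.toMatrix b b (f ^ n)) = blk (C.toBlocks₁₁ ^ n) (C.toBlocks₂₂ ^ n) := by
      rw [← blk_pow, ← hblk, hC, ← LinearMap.toMatrix_pow]
    ext i j
    have h2 := congrFun (congrFun h1 (Sum.inl i)) (Sum.inl j)
    rw [LinearMap.toMatrix_apply, LinearMap.mem_ker.1 (hbl j), map_zero] at h2
    simpa [blk] using h2.symm
  have hM : IsUnit C.toBlocks₂₂ := by
    rw [← Matrix.mulVec_injective_iff_isUnit]
    have key : ∀ v, C.toBlocks₂₂ *ᵥ v = 0 → v = 0 := by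
      intro v hv
      set x := ∑ j, v j • b (Sum.inr j) with hx
      have hxR : x ∈ LinearMap.range (f ^ n) :=
        Submodule.sum_mem _ fun j _ => Submodule.smul_mem _ _ (hbr j)
      have hx0 : f x = 0 := by
        refine b.repr.injective (Finsupp.ext fun s => ?_)
        rw [map_zero, Finsupp.zero_apply]
        rcases s with i | i
        · rw [hx, map_sum, map_sum, Finsupp.finsetSum_apply]
          refine Finset.sum_eq_zero fun j _ => ?_
          rw [map_smul, map_smul, Finsupp.smul_apply, hR _ (hfR j) i, smul_zero]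
        · have := congrFun hv i
          rw [hx, map_sum, map_sum, Finsupp.finsetSum_apply]
          simp only [map_smul, Finsupp.smul_apply, smul_eq_mul]
          rw [Pi.zero_apply, Matrix.mulVec, dotProduct] at this
          rw [← this]
          refine Finset.sum_congr rfl fun j _ => ?_
          rw [mul_comm, hC]
          simp [Matrix.toBlocks₂₂, LinearMap.toMatrix_apply]
      have hxK : x ∈ LinearMap.ker (f ^ n) := by
        rw [LinearMap.mem_ker]
        rcases Nat.eq_zero_or_pos n with h0 | h0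
        · have hl0 : l = 0 := by omega
          subst hl0
          simp [hx]
        · obtain ⟨m, hm⟩ := Nat.exists_eq_add_of_lt h0
          rw [hm, pow_succ, Module.End.mul_apply, hx0, map_zero]
      have hx00 : x = 0 := Submodule.disjoint_def.1 hdisj x hxK hxR
      have hli := Fintype.linearIndependent_iff.1
        (b.linearIndependent.comp Sum.inr Sum.inr_injective) v (by rw [← hx00, hx]; rfl)
      exact funext hli
    intro v w hvw
    exact sub_eq_zero.1 (key _ (by rw [Matrix.mulVec_sub]; exact sub_eq_zero.2 hvw))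
  refine ⟨(g, ⟨C.toBlocks₁₁, hN⟩, hM.unit), Subtype.ext ?_⟩
  show g.val * blk C.toBlocks₁₁ C.toBlocks₂₂ * (g⁻¹).val = A
  rw [← hblk, hgC]

theorem fiber_card [Fintype F] (a : Stratum F k l) :
    Nat.card {q // toStratum (F := F) (k := k) (l := l) q = a} =
      Nat.card (GL (Fin k) F × GL (Fin l) F) := by
  obtain ⟨⟨g₀, N₀, M₀⟩, rfl⟩ := toStratum_surjective a
  symm
  let h : GL (Fin k) F × GL (Fin l) F → GL (Fin k ⊕ Fin l) F := fun x =>
    ⟨blk x.1.val x.2.val, blk (x.1⁻¹).val (x.2⁻¹).val,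
      by rw [blk_mul, Units.mul_inv, Units.mul_inv, blk, Matrix.fromBlocks_one],
      by rw [blk_mul, Units.inv_mul, Units.inv_mul, blk, Matrix.fromBlocks_one]⟩
  refine Nat.card_eq_of_bijective (fun x => (⟨(g₀ * h x,
    ⟨(x.1⁻¹).val * N₀.1 * x.1.val, by
      have := pow_conj x.1⁻¹ N₀.1 k
      rw [inv_inv] at this
      rw [this, N₀.2, Matrix.mul_zero, Matrix.zero_mul]⟩,
    x.2⁻¹ * M₀ * x.2), ?_⟩ : {q // toStratum q = toStratum (g₀, N₀, M₀)})) ⟨?_, ?_⟩
  · refine Subtype.ext ?_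
    show ((g₀ * h x : GL _ F) : Matrix _ _ F) * blk ((x.1⁻¹).val * N₀.1 * x.1.val)
      ((x.2⁻¹ * M₀ * x.2 : GL _ F) : Matrix _ _ F) * ((g₀ * h x)⁻¹).val =
      g₀.val * blk N₀.1 M₀.val * (g₀⁻¹).val
    rw [_root_.mul_inv_rev, Units.val_mul, Units.val_mul, Units.val_mul, Units.val_mul]
    show g₀.val * blk x.1.val x.2.val *
      blk ((x.1⁻¹).val * N₀.1 * x.1.val) ((x.2⁻¹).val * M₀.val * x.2.val) *
      (blk (x.1⁻¹).val (x.2⁻¹).val * (g₀⁻¹).val) = _
    rw [Matrix.mul_assoc g₀.val, blk_mul, ← Matrix.mul_assoc _ (blk _ _),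
      Matrix.mul_assoc g₀.val, blk_mul]
    simp [Matrix.mul_assoc]
  · intro x y e
    have e' := congrArg (fun z : GL (Fin k ⊕ Fin l) F => z.val)
      (mul_left_cancel (congrArg (fun q => q.1.1) e :))
    obtain ⟨h1, -, -, h2⟩ := Matrix.fromBlocks_inj.1 (e' : blk _ _ = blk _ _)
    exact Prod.ext (Units.ext h1) (Units.ext h2)
  · rintro ⟨⟨g, N, M⟩, hq⟩
    set t := g₀⁻¹ * g with ht
    have h1 : t.val * blk N.1 M.val = blk N₀.1 M₀.val * t := by
      have h0 : g.val * blk N.1 M.val * (g⁻¹).val =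
          g₀.val * blk N₀.1 M₀.val * (g₀⁻¹).val := congrArg Subtype.val hq
      have := congrArg (fun Z => ((g₀⁻¹).val : Matrix _ _ F) * Z * g.val) h0
      simpa [ht, Matrix.mul_assoc, Units.val_mul] using this
    have hpow : ∀ m : ℕ, t.val * blk N.1 M.val ^ m =
        blk N₀.1 M₀.val ^ m * t := by
      intro m
      induction m with
      | zero => simp
      | succ m ih => rw [pow_succ, ← Matrix.mul_assoc, ih, Matrix.mul_assoc, h1, ← Matrix.mul_assoc, ← pow_succ]
    have h2 := hpow (k + l)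
    rw [blk_pow, blk_pow, show N.1 ^ (k + l) = 0 by rw [pow_add, N.2, zero_mul],
      show N₀.1 ^ (k + l) = 0 by rw [pow_add, N₀.2, zero_mul],
      ← Matrix.fromBlocks_toBlocks t.val, blk, blk, Matrix.fromBlocks_multiply,
      Matrix.fromBlocks_multiply] at h2
    obtain ⟨-, e12, e21, -⟩ := Matrix.fromBlocks_inj.1 h2
    simp only [Matrix.mul_zero, Matrix.zero_mul, zero_add, add_zero] at e12 e21
    have t12 : t.val.toBlocks₁₂ = 0 := by
      have := congrArg (fun Z => Z * ((M ^ (k + l))⁻¹ : GL (Fin l) F).val) e12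
      simpa [Matrix.mul_assoc, ← Units.val_pow_eq_pow_val] using this
    have t21 : t.val.toBlocks₂₁ = 0 := by
      have := congrArg (fun Z => ((M₀ ^ (k + l))⁻¹ : GL (Fin l) F).val * Z) e21.symm
      simpa [← Matrix.mul_assoc, ← Units.val_pow_eq_pow_val] using this
    have htb : t.val = blk t.val.toBlocks₁₁ t.val.toBlocks₂₂ := by
      conv_lhs => rw [← Matrix.fromBlocks_toBlocks t.val, t12, t21]
    have hd : IsUnit (t.val.toBlocks₁₁.det * t.val.toBlocks₂₂.det) := by
      rw [← Matrix.det_fromBlocks_zero₁₂ t.val.toBlocks₁₁ 0, ← blk, ← htb]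
      exact (Matrix.isUnit_iff_isUnit_det _).1 t.isUnit
    rw [IsUnit.mul_iff] at hd
    refine ⟨(((Matrix.isUnit_iff_isUnit_det _).2 hd.1).unit, ((Matrix.isUnit_iff_isUnit_det _).2 hd.2).unit), ?_⟩
    set x1 := ((Matrix.isUnit_iff_isUnit_det _).2 hd.1).unit
    set x2 := ((Matrix.isUnit_iff_isUnit_det _).2 hd.2).unit
    have hx : h (x1, x2) = t := Units.ext htb.symm
    rw [htb, blk_mul, blk_mul] at h1
    obtain ⟨a1, -, -, a2⟩ := Matrix.fromBlocks_inj.1 (h1 : blk _ _ = blk _ _)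
    refine Subtype.ext (Prod.ext ?_ (Prod.ext (Subtype.ext ?_) (Units.ext ?_)))
    · show g₀ * h (x1, x2) = g
      rw [hx, ht, mul_inv_cancel_left]
    · show (x1⁻¹).val * N₀.1 * x1.val = N.1
      rw [Matrix.mul_assoc, show N₀.1 * x1.val = x1.val * N.1 from a1.symm,
        ← Matrix.mul_assoc, Units.inv_mul, Matrix.one_mul]
    · show (x2⁻¹ * M₀ * x2).val = M.val
      rw [Units.val_mul, Units.val_mul, Matrix.mul_assoc,
        show M₀.val * x2.val = x2.val * M from a2.symm,
        ← Matrix.mul_assoc, Units.inv_mul, Matrix.one_mul]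

theorem card_GL_congr {ι κ : Type*} [Fintype ι] [DecidableEq ι] [Fintype κ] [DecidableEq κ]
    (e : ι ≃ κ) : Nat.card (GL ι F) = Nat.card (GL κ F) :=
  Nat.card_congr (Units.mapEquiv (Matrix.reindexAlgEquiv F F e).toMulEquiv).toEquiv

theorem card_stratum [Fintype F] : Nat.card (Stratum F k l) * Nat.card (GL (Fin k) F) =
    Nat.card (GL (Fin (k + l)) F) * Nat.card (Nil F k) := by
  classical
  have h := Nat.card_congr (Equiv.sigmaFiberEquiv (toStratum (F := F) (k := k) (l := l))).symm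
  rw [Nat.card_sigma] at h
  simp only [fiber_card] at h
  rw [Finset.sum_const, Finset.card_univ, smul_eq_mul, ← Nat.card_eq_fintype_card, Nat.card_prod,
    Nat.card_prod, Nat.card_prod, card_GL_congr finSumFinEquiv] at h
  refine Nat.eq_of_mul_eq_mul_right (Nat.card_pos (α := GL (Fin l) F)) ?_
  rw [mul_assoc, mul_assoc, ← h]

theorem rank_reindex_pow {ι κ : Type*} [Fintype ι] [DecidableEq ι] [Fintype κ] [DecidableEq κ]
    (e : ι ≃ κ) (A : Matrix ι ι F) (m : ℕ) :
    ((Matrix.reindexAlgEquiv F F e A) ^ m).rank = (A ^ m).rank := by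
  rw [← map_pow, Matrix.reindexAlgEquiv_apply, Matrix.rank_reindex]

theorem sum_strata [Fintype F] (n : ℕ) :
    ∑ k ∈ Finset.range (n + 1), Nat.card (Stratum F k (n - k)) = Fintype.card F ^ (n * n) := by
  classical
  have h1 : ∀ k ∈ Finset.range (n + 1), Nat.card (Stratum F k (n - k)) =
      (Finset.univ.filter fun A : Matrix (Fin n) (Fin n) F => n - (A ^ n).rank = k).card := by
    intro k hk
    rw [Finset.mem_range] at hk
    obtain ⟨l, rfl⟩ := Nat.exists_eq_add_of_le (Nat.le_of_lt_succ hk)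
    rw [Nat.add_sub_cancel_left, ← Fintype.card_subtype, ← Nat.card_eq_fintype_card]
    refine Nat.card_congr (Equiv.subtypeEquiv
      (Matrix.reindexAlgEquiv F F (finSumFinEquiv (m := k) (n := l))).toEquiv fun A => ?_)
    show (A ^ (k + l)).rank = l ↔
      k + l - ((Matrix.reindexAlgEquiv F F finSumFinEquiv A) ^ (k + l)).rank = k
    rw [rank_reindex_pow]
    have : (A ^ (k + l)).rank ≤ k + l :=
      (Matrix.rank_le_card_height _).trans (by simp)
    omega
  rw [Finset.sum_congr rfl h1, ← Finset.card_eq_sum_card_fiberwise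
    (f := fun A : Matrix (Fin n) (Fin n) F => n - (A ^ n).rank) (t := Finset.range (n + 1))
    (fun A _ => Finset.mem_range.2 (Nat.lt_succ_of_le (Nat.sub_le _ _)))]
  rw [Finset.card_univ, ← Nat.card_eq_fintype_card]
  simp [Matrix, Nat.card_fun, ← pow_mul]

theorem card_GL_succ [Fintype F] (n : ℕ) : (Nat.card (GL (Fin (n + 1)) F) : ℚ) =
    ((Fintype.card F : ℚ) ^ (n + 1) - 1) * (Fintype.card F : ℚ) ^ n * Nat.card (GL (Fin n) F) := by
  rw [Matrix.card_GL_field, Matrix.card_GL_field, Nat.cast_prod, Nat.cast_prod, Fin.prod_univ_succ]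
  have hle : ∀ (m : ℕ) (i : Fin m), Fintype.card F ^ (i : ℕ) ≤ Fintype.card F ^ m := fun m i =>
    Nat.pow_le_pow_right Fintype.card_pos i.2.le
  rw [Nat.cast_sub (hle (n + 1) 0), Fin.val_zero, pow_zero, Nat.cast_one, Nat.cast_pow]
  rw [mul_assoc]
  congr 1
  rw [show ((Fintype.card F : ℚ) ^ n) = ∏ _i : Fin n, (Fintype.card F : ℚ) by simp,
    ← Finset.prod_mul_distrib]
  refine Finset.prod_congr rfl fun i _ => ?_
  rw [Nat.cast_sub (hle (n + 1) i.succ), Nat.cast_sub (hle n i), Nat.cast_pow, Nat.cast_pow,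
    Nat.cast_pow, Nat.cast_pow, Fin.val_succ]
  ring

/-- The number of nilpotent matrices. -/
theorem card_nil [Fintype F] (n : ℕ) : Nat.card (Nil F n) = Fintype.card F ^ (n * (n - 1)) := by
  classical
  have hsum : ∀ m : ℕ, ∑ k ∈ Finset.range (m + 1),
      (Nat.card (Nil F k) : ℚ) / Nat.card (GL (Fin k) F) =
      (Fintype.card F : ℚ) ^ (m * m) / Nat.card (GL (Fin m) F) := by
    intro m
    rw [eq_div_iff (Nat.cast_ne_zero.2 Nat.card_pos.ne'), Finset.sum_mul, ← Nat.cast_pow,
      ← sum_strata m, Nat.cast_sum]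
    refine Finset.sum_congr rfl fun k hk => ?_
    rw [Finset.mem_range] at hk
    obtain ⟨l, rfl⟩ := Nat.exists_eq_add_of_le (Nat.le_of_lt_succ hk)
    rw [Nat.add_sub_cancel_left, div_mul_eq_mul_div, div_eq_iff (Nat.cast_ne_zero.2 Nat.card_pos.ne'),
      ← Nat.cast_mul, ← Nat.cast_mul, card_stratum (F := F) (k := k) (l := l), mul_comm]
  cases n with
  | zero =>
    have : Unique (Nil F 0) := ⟨⟨⟨0, Subsingleton.elim _ _⟩⟩, fun a => Subtype.ext (Subsingleton.elim _ _)⟩
    simp
  | succ n =>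
    have h := hsum (n + 1)
    rw [Finset.sum_range_succ, hsum n, card_GL_succ] at h
    have hG : (Nat.card (GL (Fin n) F) : ℚ) ≠ 0 := Nat.cast_ne_zero.2 Nat.card_pos.ne'
    have hq : (1 : ℚ) < Fintype.card F := by exact_mod_cast Fintype.one_lt_card
    have hne : ((Fintype.card F : ℚ) ^ (n + 1) - 1) ≠ 0 :=
      (sub_pos.2 (one_lt_pow₀ hq (Nat.succ_ne_zero n))).ne'
    have hne' : (Fintype.card F : ℚ) ^ n ≠ 0 := pow_ne_zero _ (by positivity)
    field_simp at h
    have goal : (Nat.card (Nil F (n + 1)) : ℚ) = (Fintype.card F : ℚ) ^ ((n + 1) * n) := by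
      have e1 : (Fintype.card F : ℚ) ^ ((n + 1) * (n + 1)) =
          (Fintype.card F : ℚ) ^ ((n + 1) * n) * (Fintype.card F : ℚ) ^ (n + 1) := by
        rw [← pow_add]; congr 1
      have e2 : (Fintype.card F : ℚ) ^ ((n + 1) * n) =
          (Fintype.card F : ℚ) ^ (n * n) * (Fintype.card F : ℚ) ^ n := by
        rw [← pow_add]; congr 1; ring
      linear_combination h + e1 + ((Fintype.card F : ℚ) ^ (n + 1) - 1) * e2
    rw [Nat.add_sub_cancel]
    exact_mod_cast goal

/-- The number of unipotent elements of the general linear group. -/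
theorem card_unipotent [Fintype F] (p : ℕ) [Fact p.Prime] [CharP F p] (n : ℕ) :
    Nat.card {g : GL (Fin n) F // ∃ k : ℕ, orderOf g = p ^ k} = Fintype.card F ^ (n * (n - 1)) := by
  classical
  rcases Nat.eq_zero_or_pos n with rfl | hn
  · have : Unique {g : GL (Fin 0) F // ∃ k : ℕ, orderOf g = p ^ k} :=
      ⟨⟨⟨1, 0, by simp⟩⟩, fun a => Subtype.ext (Units.ext (Subsingleton.elim _ _))⟩
    simp
  haveI : Nonempty (Fin n) := ⟨⟨0, hn⟩⟩
  rw [← card_nil]
  refine Nat.card_eq_of_bijective (fun g => (⟨g.1.val - 1, ?_⟩ : Nil F n)) ⟨?_, ?_⟩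
  · obtain ⟨k, hk⟩ := g.2
    refine pow_eq_zero_of_isNilpotent ⟨p ^ k, ?_⟩
    rw [sub_pow_char_pow_of_commute (x := (g.1 : Matrix (Fin n) (Fin n) F)) (y := 1) p k (Commute.one_right _),
      one_pow, ← Units.val_pow_eq_pow_val, ← hk, pow_orderOf_eq_one]
    simp
  · intro a b e
    exact Subtype.ext (Units.ext (sub_left_injective (congrArg Subtype.val e)))
  · rintro ⟨N, hN⟩
    have hu : IsUnit (1 + N) := IsNilpotent.isUnit_one_add ⟨n, hN⟩
    refine ⟨⟨hu.unit, ?_⟩, Subtype.ext (by simp)⟩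
    have hpow : hu.unit ^ p ^ n = 1 := by
      refine Units.ext ?_
      rw [Units.val_pow_eq_pow_val, IsUnit.unit_spec,
        add_pow_char_pow_of_commute (x := (1 : Matrix (Fin n) (Fin n) F)) (y := N) p n (Commute.one_left _), one_pow,
        pow_eq_zero_of_le (Nat.le_of_lt (Nat.lt_pow_self (Fact.out : p.Prime).one_lt)) hN, add_zero,
        Units.val_one]
    obtain ⟨j, -, hj⟩ := (Nat.dvd_prime_pow (Fact.out : p.Prime)).1 (orderOf_dvd_of_pow_eq_one hpow)
    exact ⟨j, hj⟩

end Cfsg.Agent.Char.NilMat
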