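import Cfsg.Agent.Lib.Char.DefectClasses
import Cfsg.Agent.Lib.Char.ResidueAlgebra
import Mathlib.LinearAlgebra.Matrix.Rank
import Mathlib.LinearAlgebra.Matrix.ToLin

/-!
The blocks with a given normal defect group are counted by the rank modulo `p` of the matrix of
pairs of regular classes with quotient in a Sylow subgroup.
-/

open scoped ComplexConjugate

namespace Cfsg.Agent.Char.NDC

open Cfsg Cfsg.Agent.Block

set_option linter.unusedSectionVars false
set_option linter.style.haveILetI false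
set_option maxHeartbeats 1000000

universe u v

/-! ### Ranks -/

theorem rank_of_sandwich {k : Type*} [Field k] {m n r : Type*} [Fintype m] [Fintype n] [Fintype r]
    [DecidableEq r] {U : Matrix m r k} {V : Matrix r n k} {L : Matrix r m k} {R : Matrix n r k}
    (hL : L * U = 1) (hR : V * R = 1) : (U * V).rank = Fintype.card r := by
  refine le_antisymm ((Matrix.rank_mul_le_left U V).trans (Matrix.rank_le_card_width U)) ?_
  have h : L * (U * V) * R = 1 := by
    rw [← Matrix.mul_assoc, hL, Matrix.one_mul, hR]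
  calc Fintype.card r = (1 : Matrix r r k).rank := Matrix.rank_one.symm
    _ = (L * (U * V) * R).rank := by rw [h]
    _ ≤ (L * (U * V)).rank := Matrix.rank_mul_le_left _ _
    _ ≤ (U * V).rank := Matrix.rank_mul_le_right _ _

theorem rank_map_field {k K : Type*} [Field k] [Field K] (f : k →+* K) {m n : Type*} [Fintype m]
    [Fintype n] [DecidableEq m] [DecidableEq n] (A : Matrix m n k) :
    (A.map f).rank = A.rank := by
  classical
  set g := A.toLin' with hg
  let b := Module.finBasis k (LinearMap.range g)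
  let e : (Fin (Module.finrank k (LinearMap.range g)) → k) →ₗ[k] (m → k) :=
    (LinearMap.range g).subtype.comp b.equivFun.symm.toLinearMap
  let s : (n → k) →ₗ[k] (Fin (Module.finrank k (LinearMap.range g)) → k) :=
    b.equivFun.toLinearMap.comp g.rangeRestrict
  have hcomp : e.comp s = g := LinearMap.ext fun x => by simp [e, s]
  obtain ⟨l, hl⟩ := e.exists_leftInverse_of_injective (LinearMap.ker_eq_bot.2
    ((LinearMap.range g).subtype_injective.comp b.equivFun.symm.injective))
  obtain ⟨r, hr⟩ := s.exists_rightInverse_of_surjective (LinearMap.range_eq_top.2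
    (b.equivFun.surjective.comp (LinearMap.surjective_rangeRestrict g)))
  have hA : A = LinearMap.toMatrix' e * LinearMap.toMatrix' s := by
    rw [← LinearMap.toMatrix'_comp, hcomp, hg, LinearMap.toMatrix'_toLin']
  have h1 : LinearMap.toMatrix' l * LinearMap.toMatrix' e = 1 := by
    rw [← LinearMap.toMatrix'_comp, hl, LinearMap.toMatrix'_id]
  have h2 : LinearMap.toMatrix' s * LinearMap.toMatrix' r = 1 := by
    rw [← LinearMap.toMatrix'_comp, hr, LinearMap.toMatrix'_id]
  rw [hA, rank_of_sandwich h1 h2, Matrix.map_mul,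
    rank_of_sandwich (L := (LinearMap.toMatrix' l).map f) (R := (LinearMap.toMatrix' r).map f)]
  · rw [← Matrix.map_mul, h1, Matrix.map_one _ (map_zero f) (map_one f)]
  · rw [← Matrix.map_mul, h2, Matrix.map_one _ (map_zero f) (map_one f)]

/-! ### The count -/

variable {G : Type u} [Group G] [Fintype G] {p : ℕ} [Fact p.Prime] {M : Ideal AlgInt}

/-- The pairs of the classes of `x` and `y` with quotient in `S`, through the characters. -/
theorem card_pairs (S : Subgroup G) [Fintype S] (x y : G) :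
    (Nat.card {yz : G × G // IsConj x yz.1 ∧ IsConj y yz.2 ∧ yz.2 * yz.1⁻¹ ∈ S} : ℂ) =
      ∑ χ : IrrCharacter G, centralChar (χ : G → ℂ) y * centralChar (χ : G → ℂ) x⁻¹ *
        ((χ : G → ℂ) 1 * (∑ s : S, (χ : G → ℂ) s) / (Nat.card G : ℂ)) := by
  classical
  have hinv : ∀ χ : IrrCharacter G, ∑ s : S, (χ : G → ℂ) (s : G)⁻¹ = ∑ s : S, (χ : G → ℂ) s :=
    fun χ => Fintype.sum_equiv (Equiv.inv S) _ _ fun s => by simp
  set F : IrrCharacter G → ℂ := fun χ =>
    centralChar (χ : G → ℂ) y * centralChar (χ : G → ℂ) x⁻¹ with hF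
  have h1 : ∀ s : G, coeffFun F s =
      ∑ z : G, (if IsConj y z then (1 : ℂ) else 0) * (if IsConj x⁻¹ (z⁻¹ * s) then 1 else 0) := by
    intro s
    have h := congrFun (coeffFun_mul (fun χ : IrrCharacter G => centralChar (χ : G → ℂ) y)
      (fun χ : IrrCharacter G => centralChar (χ : G → ℂ) x⁻¹)) s
    rw [coeffFun_centralChar, coeffFun_centralChar] at h
    refine h.trans ?_
    simp only [convFun, classInd]
    exact Finset.sum_congr rfl fun z _ => by congr
  have h2 : (Nat.card {yz : G × G // IsConj x yz.1 ∧ IsConj y yz.2 ∧ yz.2 * yz.1⁻¹ ∈ S} : ℂ) =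
      ∑ s : S, coeffFun F (s : G) := by
    simp only [h1, ← ite_and, ite_mul, one_mul, zero_mul]
    rw [← Fintype.sum_prod_type' (f := fun (s : S) (z : G) =>
      if IsConj y z ∧ IsConj x⁻¹ (z⁻¹ * (s : G)) then (1 : ℂ) else 0)]
    rw [Finset.sum_boole, Nat.cast_inj, Nat.card_eq_fintype_card, ← Fintype.card_subtype]
    refine Fintype.card_congr
      { toFun := fun q => ⟨(⟨q.1.2 * q.1.1⁻¹, q.2.2.2⟩, q.1.2), q.2.2.1, ?_⟩
        invFun := fun q => ⟨((q.1.1 : G)⁻¹ * q.1.2, q.1.2), ?_, q.2.1, ?_⟩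
        left_inv := fun q => Subtype.ext (Prod.ext (by simp) rfl)
        right_inv := fun q => Subtype.ext (Prod.ext (Subtype.ext (by simp)) rfl) }
    · obtain ⟨c, hc⟩ := isConj_iff.1 q.2.1
      exact isConj_iff.2 ⟨c, by simp [← hc, mul_assoc]⟩
    · obtain ⟨c, hc⟩ := isConj_iff.1 q.2.2
      refine isConj_iff.2 ⟨c, ?_⟩
      have := congrArg (·⁻¹) hc
      simpa [mul_assoc] using this
    · simp
  rw [h2]
  simp only [coeffFun_eq_sum]
  rw [← Finset.mul_sum, Finset.sum_comm, Finset.mul_sum]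
  refine Finset.sum_congr rfl fun χ _ => ?_
  rw [← Finset.mul_sum, hinv]
  simp only [hF]
  ring

variable {D : Subgroup G}

theorem centralChar_isClassFun (χ : IrrCharacter G) :
    IsClassFunction G (fun g => centralChar (χ : G → ℂ) g) := by
  intro g h
  simp only [centralChar]
  rw [irr_classFun χ g h]
  congr 3
  exact Nat.eq_of_mul_eq_mul_left (Nat.card_pos
    (α := Subgroup.centralizer ({h * g * h⁻¹} : Set G))) (by
      rw [Subgroup.card_mul_index, card_centralizer_conj, Subgroup.card_mul_index])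

theorem defectGroup_iff [D.Normal] (hM : IsPModular p M) (hD : IsPGroup p D)
    {B : Set (IrrCharacter G)} (hB : IsPBlock M B) :
    IsDefectGroup p M B D ↔ blockDefect p B = (Nat.card D).factorization p := by
  obtain ⟨E, hE⟩ := exists_isDefectGroup hM hB
  have hle := normal_le_defectGroup hM hB hE (P := D) hD
  obtain ⟨k, hk⟩ := IsPGroup.iff_card.1 hD
  have hcard := card_defectGroup hM hB hE
  have hp : p.Prime := Fact.out
  have hk' : (Nat.card D).factorization p = k := by
    rw [hk, hp.factorization_pow, Finsupp.single_eq_same]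
  rw [hk']
  constructor
  · intro h
    have := card_defectGroup hM hB h
    rw [hk] at this
    exact (Nat.pow_right_injective hp.two_le this).symm
  · intro h
    rw [h, ← hk] at hcard
    rwa [Subgroup.eq_of_le_of_card_ge hle hcard.le]

theorem defect_ge [D.Normal] (hM : IsPModular p M) (hD : IsPGroup p D)
    {B : Set (IrrCharacter G)} (hB : IsPBlock M B) :
    (Nat.card D).factorization p ≤ blockDefect p B := by
  obtain ⟨E, hE⟩ := exists_isDefectGroup hM hB
  have hle := Subgroup.card_dvd_of_le (normal_le_defectGroup hM hB hE (P := D) hD)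
  rw [card_defectGroup hM hB hE] at hle
  have h := (Nat.factorization_le_iff_dvd Nat.card_pos.ne'
    (pow_ne_zero _ (Fact.out : p.Prime).ne_zero)).2 hle p
  rwa [(Fact.out : p.Prime).factorization_pow, Finsupp.single_eq_same] at h

/-- The multiplicity of the trivial character of a Sylow subgroup. -/
theorem exists_sum_sylow (S : Sylow p G) [Fintype (S : Subgroup G)] (χ : IrrCharacter G) :
    ∃ m : ℕ, ∑ s : (S : Subgroup G), (χ : G → ℂ) s =
      ((p ^ (Nat.card G).factorization p : ℕ) : ℂ) * m := by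
  obtain ⟨n, hn⟩ := Cfsg.Agent.Char.IsChar.classInner_nat
    (Cfsg.Agent.Char.IsChar.res (irr_isChar χ) (S : Subgroup G)) Cfsg.Agent.Char.IsChar.one
  refine ⟨n, ?_⟩
  rw [classInner, inv_mul_eq_iff_eq_mul₀ (Nat.cast_ne_zero.2 Nat.card_pos.ne'),
    S.card_eq_multiplicity] at hn
  rw [← hn]
  exact Finset.sum_congr rfl fun s _ => by simp

/-- The coefficient of a character in the matrix. -/
noncomputable def cof (p : ℕ) (S : Subgroup G) [Fintype S] (d : ℕ) (χ : IrrCharacter G) : ℂ :=
  (χ : G → ℂ) 1 * (∑ s : S, (χ : G → ℂ) s) /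
    ((Nat.card G : ℂ) * (p : ℂ) ^ ((Nat.card G).factorization p - d))

theorem cof_eq (S : Sylow p G) [Fintype (S : Subgroup G)] {d : ℕ}
    (hd : d ≤ (Nat.card G).factorization p) (χ : IrrCharacter G) :
    ∃ m : ℕ, cof p (S : Subgroup G) d χ =
      ((charDegree (χ : G → ℂ) * p ^ d * m : ℕ) : ℂ) / (Nat.card G : ℕ) := by
  obtain ⟨m, hm⟩ := exists_sum_sylow S χ
  refine ⟨m, ?_⟩
  have hp0 : (p : ℂ) ≠ 0 := Nat.cast_ne_zero.2 (Fact.out : p.Prime).ne_zero
  have e : (p : ℂ) ^ (Nat.card G).factorization p =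
      (p : ℂ) ^ ((Nat.card G).factorization p - d) * (p : ℂ) ^ d := by
    rw [← pow_add, Nat.sub_add_cancel hd]
  rw [cof, hm, charDeg_spec', Nat.cast_pow, e]
  have := pow_ne_zero ((Nat.card G).factorization p - d) hp0
  push_cast
  field_simp

/-- The terms of the matrix are integral, and only the characters of height zero of the blocks of
the given defect contribute. -/
theorem term_class (hM : IsPModular p M) (S : Sylow p G) [Fintype (S : Subgroup G)] {d : ℕ}
    (hd : d ≤ (Nat.card G).factorization p) {x y : G}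
    (hx : (Nat.card (Subgroup.centralizer ({x} : Set G))).factorization p = d)
    (hy : (Nat.card (Subgroup.centralizer ({y} : Set G))).factorization p = d)
    (χ : IrrCharacter G) :
    MemLocalRing M (centralChar (χ : G → ℂ) y * centralChar (χ : G → ℂ) x *
      cof p (S : Subgroup G) d χ) ∧
    (d + (charDegree (χ : G → ℂ)).factorization p ≠ (Nat.card G).factorization p →
      MemLocalIdeal M (centralChar (χ : G → ℂ) y * centralChar (χ : G → ℂ) x *
        cof p (S : Subgroup G) d χ)) := by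
  have hp : p.Prime := Fact.out
  obtain ⟨m, hm⟩ := cof_eq S hd χ
  have hfac : (charDegree (χ : G → ℂ) * p ^ d).factorization p =
      (charDegree (χ : G → ℂ)).factorization p + d := by
    rw [Nat.factorization_mul (charDeg_pos χ).ne' (pow_ne_zero _ hp.ne_zero), Finsupp.add_apply,
      hp.factorization_pow, Finsupp.single_eq_same]
  have hne : charDegree (χ : G → ℂ) * p ^ d ≠ 0 :=
    Nat.mul_ne_zero (charDeg_pos χ).ne' (pow_ne_zero _ hp.ne_zero)
  have hsplit : cof p (S : Subgroup G) d χ =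
      ((charDegree (χ : G → ℂ) * p ^ d : ℕ) : ℂ) / (Nat.card G : ℕ) * (m : ℂ) := by
    rw [hm, Nat.cast_mul, mul_div_right_comm]
  by_cases hlt : d + (charDegree (χ : G → ℂ)).factorization p < (Nat.card G).factorization p
  · have hid : MemLocalIdeal M (centralChar (χ : G → ℂ) y * centralChar (χ : G → ℂ) x *
        cof p (S : Subgroup G) d χ) := by
      have hpos : ∀ g : G, Nat.card (Subgroup.centralizer ({g} : Set G)) *
          charDegree (χ : G → ℂ) ≠ 0 := fun g =>
        Nat.mul_ne_zero Nat.card_pos.ne' (charDeg_pos χ).ne'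
      have e : centralChar (χ : G → ℂ) y * centralChar (χ : G → ℂ) x * cof p (S : Subgroup G) d χ =
          (χ : G → ℂ) y * (χ : G → ℂ) x *
            (((Nat.card G * p ^ d : ℕ) : ℂ) / ((Nat.card (Subgroup.centralizer ({y} : Set G)) *
              Nat.card (Subgroup.centralizer ({x} : Set G)) * charDegree (χ : G → ℂ) : ℕ) : ℂ)) *
              (m : ℂ) := by
        rw [hsplit, value_eq χ y, value_eq χ x]
        have h1 : (Nat.card G : ℂ) ≠ 0 := Nat.cast_ne_zero.2 Nat.card_pos.ne'
        have h2 : (Nat.card (Subgroup.centralizer ({y} : Set G)) : ℂ) ≠ 0 :=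
          Nat.cast_ne_zero.2 Nat.card_pos.ne'
        have h3 : (Nat.card (Subgroup.centralizer ({x} : Set G)) : ℂ) ≠ 0 :=
          Nat.cast_ne_zero.2 Nat.card_pos.ne'
        have h4 : (charDegree (χ : G → ℂ) : ℂ) ≠ 0 := Nat.cast_ne_zero.2 (charDeg_pos χ).ne'
        push_cast
        field_simp
      rw [e]
      refine ideal_mul_right hM (ideal_mul_left hM (ring_mul hM (irr_ring hM χ y) (irr_ring hM χ x))
        (ideal_natDiv hM ?_ ?_ ?_)) (ring_natCast hM m)
      · exact Nat.mul_ne_zero (Nat.mul_ne_zero Nat.card_pos.ne' Nat.card_pos.ne') (charDeg_pos χ).ne'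
      · exact Nat.mul_ne_zero Nat.card_pos.ne' (pow_ne_zero _ hp.ne_zero)
      · rw [Nat.factorization_mul (Nat.mul_ne_zero Nat.card_pos.ne' Nat.card_pos.ne')
          (charDeg_pos χ).ne', Nat.factorization_mul Nat.card_pos.ne' Nat.card_pos.ne',
          Nat.factorization_mul Nat.card_pos.ne' (pow_ne_zero _ hp.ne_zero)]
        simp only [Finsupp.add_apply, hx, hy, hp.factorization_pow, Finsupp.single_eq_same]
        omega
    exact ⟨ring_of_ideal hid, fun _ => hid⟩
  · have hω := ring_mul hM (centralChar_ring hM χ y) (centralChar_ring hM χ x)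
    refine ⟨ring_mul hM hω ?_, fun hne' => ideal_mul_left hM hω ?_⟩
    · rw [hsplit]
      exact ring_mul hM (ring_natDiv hM Nat.card_pos.ne' hne (by rw [hfac]; omega))
        (ring_natCast hM m)
    · rw [hsplit]
      exact ideal_mul_right hM (ideal_natDiv hM Nat.card_pos.ne' hne (by rw [hfac]; omega))
        (ring_natCast hM m)

theorem ring_cof (hM : IsPModular p M) (S : Sylow p G) [Fintype (S : Subgroup G)]
    {B : Set (IrrCharacter G)} (hB : IsPBlock M B) {d : ℕ} (hd : blockDefect p B = d)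
    {χ : IrrCharacter G} (hχ : χ ∈ B) : MemLocalRing M (cof p (S : Subgroup G) d χ) := by
  have hp : p.Prime := Fact.out
  obtain ⟨m, hm⟩ := cof_eq S (hd ▸ blockDefect_le B) χ
  rw [hm, Nat.cast_mul (charDegree (χ : G → ℂ) * p ^ d), mul_div_right_comm]
  refine ring_mul hM (ring_natDiv hM Nat.card_pos.ne'
    (Nat.mul_ne_zero (charDeg_pos χ).ne' (pow_ne_zero _ hp.ne_zero)) ?_) (ring_natCast hM m)
  rw [Nat.factorization_mul (charDeg_pos χ).ne' (pow_ne_zero _ hp.ne_zero), Finsupp.add_apply,
    hp.factorization_pow, Finsupp.single_eq_same]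
  have := le_defect_add hM hB hχ
  omega

/-- The total coefficient of a block is a unit. -/
theorem sum_cof_unit (hM : IsPModular p M) (S : Sylow p G) [Fintype (S : Subgroup G)]
    {B : Set (IrrCharacter G)} [DecidablePred (· ∈ B)] (hB : IsPBlock M B) {d : ℕ}
    (hd : blockDefect p B = d) :
    ¬ MemLocalIdeal M (∑ χ ∈ Finset.univ.filter (· ∈ B), cof p (S : Subgroup G) d χ) := by
  classical
  have hp : p.Prime := Fact.out
  obtain ⟨n, hn⟩ := blockCoeff_mul_index hM hB S
  obtain ⟨g, hg⟩ := exists_isDefectClass hM hB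
  obtain ⟨χ₀, hχ₀, h0⟩ := exists_height_zero hM hB
  rw [blockHeight_zero_iff hM hB hχ₀, hd] at h0
  set A := Finset.univ.filter (· ∈ B) with hA
  have hmem : ∀ χ, χ ∈ A ↔ χ ∈ B := fun χ => by simp [hA]
  have hA' : ∀ f : IrrCharacter G → ℂ, ∑ᶠ χ ∈ B, f χ = ∑ χ ∈ A, f χ := fun f =>
    finsum_mem_eq_sum_of_inter_support_eq _ (by ext; simp [hA])
  have hG0 : (Nat.card G : ℂ) ≠ 0 := Nat.cast_ne_zero.2 Nat.card_pos.ne'
  set a := (Nat.card G).factorization p with ha
  have hSi : ((p ^ a : ℕ) : ℂ) * ((S : Subgroup G).index : ℂ) = (Nat.card G : ℂ) := by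
    rw [← Subgroup.card_mul_index (S : Subgroup G), S.card_eq_multiplicity, Nat.cast_mul]
  have hsum : ∑ χ ∈ A, (χ : G → ℂ) 1 * ∑ s : (S : Subgroup G), (χ : G → ℂ) s =
      (Nat.card G : ℂ) * blockCoeff B 1 := by
    simp only [Finset.mul_sum]
    rw [Finset.sum_comm, Finset.sum_eq_single (1 : (S : Subgroup G))]
    · rw [blockCoeff, ← mul_assoc, mul_inv_cancel₀ hG0, one_mul, hA']
      exact Finset.sum_congr rfl fun χ _ => by
        rw [OneMemClass.coe_one, charDeg_spec', Complex.conj_natCast]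
    · intro s _ hs
      have hsing : p ∣ orderOf (s : G) := by
        rw [Subgroup.orderOf_coe]
        obtain ⟨k, hk⟩ := IsPGroup.iff_orderOf.1 S.isPGroup' s
        rcases k with _ | k
        · rw [pow_zero, orderOf_eq_one_iff] at hk
          exact absurd hk hs
        · rw [hk]; exact dvd_pow_self p k.succ_ne_zero
      have h := congrArg conj (congrArg ((Nat.card G : ℂ) * ·) (blockCoeff_singular hM hB hsing))
      simp only [mul_zero, map_zero, blockCoeff, ← mul_assoc, mul_inv_cancel₀ hG0, one_mul,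
        hA', map_sum, map_mul, Complex.conj_conj] at h
      refine Eq.trans ?_ h
      exact Finset.sum_congr rfl fun χ _ => by
        rw [charDeg_spec', Complex.conj_natCast]
    · exact fun h => absurd (Finset.mem_univ _) h
  have h1 := hn 1 (by simp [hp.ne_one])
  rw [hA'] at h1
  set T := (∑ χ ∈ A, (n χ : ℂ) * (χ : G → ℂ) 1) / (charDegree (χ₀ : G → ℂ) : ℂ) with hT
  have hTr : MemLocalRing M T := by
    rw [hT, Finset.sum_div]
    refine ring_sum hM fun χ hχ => ?_
    rw [charDeg_spec', mul_div_assoc]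
    refine ring_mul hM (ring_natCast hM _) (ring_natDiv hM (charDeg_pos χ₀).ne' (charDeg_pos χ).ne' ?_)
    have := le_defect_add hM hB ((hmem χ).1 hχ)
    omega
  have hTu : ¬ MemLocalIdeal M T := by
    intro hi
    refine hg.2.1 ?_
    have h2 := hn g (regular_of_unit hM hB hg.2.1)
    rw [hA'] at h2
    have hd' : blockDefect p B ≤
        (Nat.card (Subgroup.centralizer ({g⁻¹} : Set G))).factorization p := by
      rw [centralizer_inv]; exact (blockDefect_eq hM hB hg).le
    have h3 : MemLocalIdeal M (((S : Subgroup G).index : ℂ) * blockCoeff B g) := by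
      rw [h2]
      have e : ∑ χ ∈ A, (n χ : ℂ) * (χ : G → ℂ) g⁻¹ =
          (∑ χ ∈ A, (n χ : ℂ) * ((χ : G → ℂ) g⁻¹ - ((charDegree (χ : G → ℂ) : ℕ) : ℂ) /
            ((charDegree (χ₀ : G → ℂ) : ℕ) : ℂ) * (χ₀ : G → ℂ) g⁻¹)) +
            T * (χ₀ : G → ℂ) g⁻¹ := by
        rw [hT, Finset.sum_div, Finset.sum_mul, ← Finset.sum_add_distrib]
        exact Finset.sum_congr rfl fun χ _ => by rw [← charDeg_spec']; ring
      rw [e]
      exact ideal_add hM (ideal_sum hM fun χ hχ => ideal_mul_left hM (ring_natCast hM _)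
        (value_proportional hM hB hχ₀ ((hmem χ).1 hχ) hd'))
        (ideal_mul_right hM hi (irr_ring hM χ₀ _))
    have h4 := ideal_mul_left hM (ring_inv_natCast hM S.not_dvd_index) h3
    rwa [← mul_assoc, inv_mul_cancel₀ (Nat.cast_ne_zero.2 Subgroup.index_ne_zero_of_finite),
      one_mul] at h4
  have hda : d ≤ a := hd ▸ blockDefect_le B
  have hp0 : (p : ℂ) ≠ 0 := Nat.cast_ne_zero.2 hp.ne_zero
  have hsum' : ∑ χ ∈ A, cof p (S : Subgroup G) d χ =
      T * (((charDegree (χ₀ : G → ℂ) * p ^ d : ℕ) : ℂ) / (Nat.card G : ℕ)) := by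
    have h5 : ∑ χ ∈ A, (χ : G → ℂ) 1 * ∑ s : (S : Subgroup G), (χ : G → ℂ) s =
        ((p ^ a : ℕ) : ℂ) * ∑ χ ∈ A, (n χ : ℂ) * (χ : G → ℂ) 1 := by
      rw [hsum, ← hSi, mul_assoc, h1]
      simp
    simp only [cof, ← Finset.sum_div]
    have e : ((p ^ a : ℕ) : ℂ) = (p : ℂ) ^ (a - d) * (p : ℂ) ^ d := by
      rw [← pow_add, Nat.sub_add_cancel hda, Nat.cast_pow]
    rw [h5, hT, e, ← ha, Nat.cast_mul, Nat.cast_pow]
    have := pow_ne_zero (a - d) hp0
    have h6 : (charDegree (χ₀ : G → ℂ) : ℂ) ≠ 0 := Nat.cast_ne_zero.2 (charDeg_pos χ₀).ne'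
    field_simp
  rw [hsum']
  have hne := Nat.mul_ne_zero (charDeg_pos χ₀).ne' (pow_ne_zero d hp.ne_zero)
  have hf : (charDegree (χ₀ : G → ℂ) * p ^ d).factorization p = a := by
    rw [Nat.factorization_mul (charDeg_pos χ₀).ne' (pow_ne_zero _ hp.ne_zero), Finsupp.add_apply,
      hp.factorization_pow, Finsupp.single_eq_same]
    omega
  exact ideal_notMem_mul hM hTr (ring_natDiv hM Nat.card_pos.ne' hne hf.ge) hTu
    (natDiv_notMem hM Nat.card_pos.ne' hne hf.symm)

/-- The count of the blocks with a normal defect group. -/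
theorem card_eq_rank (hM : IsPModular p M) [D.Normal] (hD : IsPGroup p D) (S : Sylow p G)
    {ι : Type v} [Fintype ι] [DecidableEq ι] (K : ι → ConjClasses G) (hKinj : Function.Injective K)
    (hK : ∀ C : ConjClasses G, (∃ i, K i = C) ↔ ∃ x ∈ C.carrier, ¬ p ∣ orderOf x ∧
      ∃ Q : Sylow p (Subgroup.centralizer ({x} : Set G)),
        (Q : Subgroup (Subgroup.centralizer ({x} : Set G))).map
          (Subgroup.centralizer ({x} : Set G)).subtype = D) :
    Nat.card {B : Set (IrrCharacter G) // IsPBlock M B ∧ IsDefectGroup p M B D} =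
      (Matrix.of fun i j : ι => ((Nat.card {yz : G × G // yz.1 ∈ (K i).carrier ∧
        yz.2 ∈ (K j).carrier ∧ yz.2 * yz.1⁻¹ ∈ (S : Subgroup G)} /
        p ^ ((Nat.card G).factorization p - (Nat.card D).factorization p) : ℕ) : ZMod p)).rank := by
  classical
  letI := resInst hM
  haveI : CharP (ResField hM) p := resField_charP hM
  cases nonempty_fintype (ConjClasses G)
  have hp : p.Prime := Fact.out
  set a := (Nat.card G).factorization p with ha
  set d := (Nat.card D).factorization p with hd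
  have hda : d ≤ a :=
    (Nat.factorization_le_iff_dvd Nat.card_pos.ne' Nat.card_pos.ne').2
      (Subgroup.card_subgroup_dvd_card D) p
  have hp0 : (p : ℂ) ≠ 0 := Nat.cast_ne_zero.2 hp.ne_zero
  -- the classes
  let Good : G → Prop := fun x => ¬ p ∣ orderOf x ∧ D ≤ Subgroup.centralizer ({x} : Set G) ∧
    (Nat.card (Subgroup.centralizer ({x} : Set G))).factorization p = d
  have hgood_iff : ∀ x, Good x ↔ ¬ p ∣ orderOf x ∧
      ∃ Q : Sylow p (Subgroup.centralizer ({x} : Set G)),
        (Q : Subgroup (Subgroup.centralizer ({x} : Set G))).map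
          (Subgroup.centralizer ({x} : Set G)).subtype = D := by
    intro x
    refine and_congr_right fun _ => ⟨?_, ?_⟩
    · rintro ⟨hle, hf⟩
      obtain ⟨Q, hQ⟩ := exists_csyl_ge hD hle
      refine ⟨Q, (Subgroup.eq_of_le_of_card_ge hQ ?_).symm⟩
      show Nat.card (csyl Q) ≤ Nat.card D
      obtain ⟨k, hk⟩ := IsPGroup.iff_card.1 hD
      rw [card_csyl, hf, hd, hk, hp.factorization_pow, Finsupp.single_eq_same]
    · rintro ⟨Q, hQ⟩
      have h1 : csyl Q = D := hQ
      refine ⟨h1 ▸ csyl_le Q, ?_⟩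
      rw [hd, ← h1, card_csyl, hp.factorization_pow, Finsupp.single_eq_same]
  have hGoodC : ∀ x c : G, Good x → Good (c * x * c⁻¹) := by
    rintro x c ⟨h1, h2, h3⟩
    refine ⟨by rwa [← MulAut.conj_apply, MulEquiv.orderOf_eq], fun v hv => ?_,
      by rw [card_centralizer_conj]; exact h3⟩
    have hv' : c⁻¹ * v * c ∈ D := by simpa using ‹D.Normal›.conj_mem v hv c⁻¹
    have h := Subgroup.mem_centralizer_singleton_iff.1 (h2 hv')
    rw [Subgroup.mem_centralizer_singleton_iff]
    calc v * (c * x * c⁻¹) = c * (c⁻¹ * v * c * x) * c⁻¹ := by group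
      _ = c * (x * (c⁻¹ * v * c)) * c⁻¹ := by rw [h]
      _ = _ := by group
  let xr : ι → G := fun i => (K i).out
  have hxr : ∀ i, K i = ConjClasses.mk (xr i) := fun i => (Quotient.out_eq _).symm
  have hgood : ∀ i, Good (xr i) := fun i => by
    obtain ⟨x, hx, hx'⟩ := (hK (K i)).1 ⟨i, rfl⟩
    rw [hxr i, ConjClasses.mem_carrier_iff_mk_eq, ConjClasses.mk_eq_mk_iff_isConj] at hx
    obtain ⟨c, hc⟩ := isConj_iff.1 hx
    rw [← hc]
    exact hGoodC x c ((hgood_iff x).2 hx')
  have hof : ∀ x, Good x → ∃ i, K i = ConjClasses.mk x := fun x hx =>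
    (hK _).2 ⟨x, ConjClasses.mem_carrier_iff_mk_eq.2 rfl, (hgood_iff x).1 hx⟩
  have hginv : ∀ {x}, Good x → Good x⁻¹ := fun {x} h => by
    refine ⟨by rw [orderOf_inv]; exact h.1, ?_, ?_⟩ <;> rw [centralizer_inv]
    exacts [h.2.1, h.2.2]
  choose σ hσ using fun i => hof _ (hginv (hgood i))
  -- the blocks
  set 𝔅 := {B : Set (IrrCharacter G) // IsPBlock M B ∧ IsDefectGroup p M B D}
  haveI : Finite 𝔅 := Subtype.finite
  cases nonempty_fintype 𝔅
  have hdef : ∀ B : 𝔅, blockDefect p B.1 = d := fun B => (defectGroup_iff hM hD B.2.1).1 B.2.2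
  choose χ₀ hχ₀ using fun B : 𝔅 => pblock_nonempty hM B.2.1
  letI : ∀ B : 𝔅, DecidablePred (· ∈ B.1) := fun B => Classical.decPred _
  let cB : 𝔅 → ℂ := fun B => ∑ χ ∈ Finset.univ.filter (· ∈ B.1), cof p (S : Subgroup G) d χ
  have hcBr : ∀ B, MemLocalRing M (cB B) := fun B => ring_sum hM fun χ hχ =>
    ring_cof hM S B.2.1 (hdef B) (Finset.mem_filter.1 hχ).2
  have hcBu : ∀ B, ¬ MemLocalIdeal M (cB B) := fun B => sum_cof_unit hM S B.2.1 (hdef B)
  -- the idempotents separate
  have hsep : ∀ B B' : 𝔅, MemLocalIdeal M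
      ((∑ i, centralChar (χ₀ B : G → ℂ) (xr i) * blockCoeff B'.1 (xr i)) -
        (if B = B' then 1 else 0)) := by
    intro B B'
    have e : blockInd B'.1 (χ₀ B) = if B = B' then 1 else 0 := by
      split_ifs with h
      · rw [← h, blockInd_of_mem (hχ₀ B)]
      · refine blockInd_of_notMem fun hm => h (Subtype.ext ?_)
        rw [pblock_eq_blockOf hM B.2.1 (hχ₀ B), pblock_eq_blockOf hM B'.2.1 hm]
    rw [← e, eq_sum_centralChar (blockInd B'.1) (χ₀ B)]
    have hsplit : ∑ C : ConjClasses G, coeffFun (blockInd B'.1) C.out *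
        centralChar (χ₀ B : G → ℂ) C.out =
        (∑ C ∈ Finset.univ.image K, coeffFun (blockInd B'.1) C.out *
          centralChar (χ₀ B : G → ℂ) C.out) +
        ∑ C ∈ (Finset.univ : Finset (ConjClasses G)) \ Finset.univ.image K,
          coeffFun (blockInd B'.1) C.out * centralChar (χ₀ B : G → ℂ) C.out := by
      rw [← Finset.sum_union Finset.disjoint_sdiff, Finset.union_sdiff_of_subset
        (Finset.subset_univ _)]
    rw [hsplit, Finset.sum_image (fun i _ j _ h => hKinj h)]
    rw [show (∑ i, centralChar (χ₀ B : G → ℂ) (xr i) * blockCoeff B'.1 (xr i)) =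
      ∑ i, coeffFun (blockInd B'.1) (K i).out * centralChar (χ₀ B : G → ℂ) (K i).out from
      Finset.sum_congr rfl fun i _ => by rw [blockCoeff_eq, mul_comm]]
    rw [sub_add_cancel_left]
    refine ideal_neg (ideal_sum hM fun C hC => ?_)
    rw [← blockCoeff_eq, mul_comm]
    by_cases hreg : ¬ p ∣ orderOf C.out ∧
        (Nat.card (Subgroup.centralizer ({C.out} : Set G))).factorization p = d
    · refine ideal_mul_right hM (centralChar_ideal_of_normal hM hD (fun hcen => ?_) (χ₀ B))
        (blockCoeff_ring hM B'.2.1 _)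
      obtain ⟨i, hi⟩ := hof C.out ⟨hreg.1, fun v hv =>
        Subgroup.mem_centralizer_singleton_iff.2 (Subgroup.mem_centralizer_iff.1 hcen v hv), hreg.2⟩
      refine (Finset.mem_sdiff.1 hC).2 (Finset.mem_image.2 ⟨i, Finset.mem_univ _, ?_⟩)
      exact hi.trans (Quotient.out_eq C)
    · exact DefCls.term_ideal hM B.2.1 B'.2.1 (hdef B) (hdef B') (hχ₀ B) hreg
  -- the entries
  let z : ι → ι → ℂ := fun i j => ∑ χ : IrrCharacter G,
    centralChar (χ : G → ℂ) (xr j) * centralChar (χ : G → ℂ) (xr i)⁻¹ * cof p (S : Subgroup G) d χ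
  have hterm : ∀ i j (χ : IrrCharacter G), _ := fun i j χ =>
    term_class hM S hda (hginv (hgood i)).2.2 (hgood j).2.2 χ
  have hzr : ∀ i j, MemLocalRing M (z i j) := fun i j => ring_sum hM fun χ _ => (hterm i j χ).1
  set N : ι → ι → ℕ := fun i j => Nat.card {yz : G × G // yz.1 ∈ (K i).carrier ∧
    yz.2 ∈ (K j).carrier ∧ yz.2 * yz.1⁻¹ ∈ (S : Subgroup G)} with hN
  have hNz : ∀ i j, (N i j : ℂ) = (p : ℂ) ^ (a - d) * z i j := by
    intro i j
    have e : N i j = Nat.card {yz : G × G // IsConj (xr i) yz.1 ∧ IsConj (xr j) yz.2 ∧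
        yz.2 * yz.1⁻¹ ∈ (S : Subgroup G)} := by
      have hh : ∀ (l : ι) (g : G), g ∈ (K l).carrier ↔ IsConj (xr l) g := fun l g => by
        rw [hxr l, ConjClasses.mem_carrier_iff_mk_eq, ConjClasses.mk_eq_mk_iff_isConj]
        exact ⟨fun h => h.symm, fun h => h.symm⟩
      exact Nat.card_congr (Equiv.subtypeEquivRight fun yz => by rw [hh, hh])
    rw [e, card_pairs]
    simp only [z]
    rw [Finset.mul_sum]
    refine Finset.sum_congr rfl fun χ _ => ?_
    rw [cof, ← ha]
    have := pow_ne_zero (a - d) hp0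
    field_simp
  have hdvd : ∀ i j, p ^ (a - d) ∣ N i j := by
    intro i j
    by_contra hnd
    have hN0 : N i j ≠ 0 := fun h => hnd (h ▸ dvd_zero _)
    have hlt : (N i j).factorization p < (p ^ (a - d)).factorization p := by
      rw [hp.factorization_pow, Finsupp.single_eq_same]
      by_contra h
      exact hnd ((hp.pow_dvd_iff_le_factorization hN0).2 (not_lt.1 h))
    have h := ideal_mul_left hM (hzr i j) (ideal_natDiv hM hN0 (pow_ne_zero _ hp.ne_zero) hlt)
    rw [Nat.cast_pow, ← mul_div_assoc, mul_comm (z i j), ← hNz,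
      div_self (Nat.cast_ne_zero.2 hN0)] at h
    exact ideal_one hM h
  have hz : ∀ i j, ((N i j / p ^ (a - d) : ℕ) : ℂ) = z i j := fun i j => by
    rw [Nat.cast_div (hdvd i j) (by simp [hp0]), Nat.cast_pow, hNz,
      mul_div_cancel_left₀ _ (pow_ne_zero _ hp0)]
  -- the entries modulo the ideal
  have hentry : ∀ i j, MemLocalIdeal M (z i j -
      ∑ B : 𝔅, centralChar (χ₀ B : G → ℂ) (xr i)⁻¹ *
        (cB B * centralChar (χ₀ B : G → ℂ) (xr j))) := by
    intro i j
    let t : IrrCharacter G → ℂ := fun χ => centralChar (χ : G → ℂ) (xr j) *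
      centralChar (χ : G → ℂ) (xr i)⁻¹ * cof p (S : Subgroup G) d χ
    let Sg : Finset (IrrCharacter G) := Finset.univ.filter fun χ => ∃ B : 𝔅, χ ∈ B.1
    have hout : ∀ χ ∉ Sg, MemLocalIdeal M (t χ) := by
      intro χ hχ
      set B₁ := blockOf M (χ : G → ℂ)
      have hB₁ : IsPBlock M B₁ := isPBlock_blockOf χ
      by_cases heq : d + (charDegree (χ : G → ℂ)).factorization p = a
      · have hlt : d < blockDefect p B₁ := lt_of_le_of_ne (defect_ge hM hD hB₁) fun he =>
          hχ (Finset.mem_filter.2 ⟨Finset.mem_univ _, ⟨B₁, hB₁,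
            (defectGroup_iff hM hD hB₁).2 he.symm⟩, mem_blockOf_self hM χ⟩)
        have hω := omega_ideal_of_small hM hB₁ (mem_blockOf_self hM χ) (g := xr j)
          (by rw [(hgood j).2.2]; exact hlt)
        refine ideal_mul_right hM (ideal_mul_right hM hω (centralChar_ring hM χ _)) ?_
        obtain ⟨m, hm⟩ := cof_eq S hda χ
        rw [hm, Nat.cast_mul (charDegree (χ : G → ℂ) * p ^ d), mul_div_right_comm]
        refine ring_mul hM (ring_natDiv hM Nat.card_pos.ne'
          (Nat.mul_ne_zero (charDeg_pos χ).ne' (pow_ne_zero _ hp.ne_zero)) ?_) (ring_natCast hM m)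
        rw [Nat.factorization_mul (charDeg_pos χ).ne' (pow_ne_zero _ hp.ne_zero), Finsupp.add_apply,
          hp.factorization_pow, Finsupp.single_eq_same, ← ha]
        omega
      · exact (hterm i j χ).2 heq
    have hSg : ∑ χ ∈ Sg, t χ = ∑ B : 𝔅, ∑ χ ∈ Finset.univ.filter (· ∈ B.1), t χ := by
      rw [← Finset.sum_biUnion]
      · refine Finset.sum_congr ?_ fun _ _ => rfl
        ext χ
        simp [Sg]
      · intro B _ B' _ hne
        refine Finset.disjoint_left.2 fun χ h h' => hne (Subtype.ext ?_)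
        rw [pblock_eq_blockOf hM B.2.1 (Finset.mem_filter.1 h).2,
          pblock_eq_blockOf hM B'.2.1 (Finset.mem_filter.1 h').2]
    have hzt : z i j = ∑ χ ∈ Sg, t χ + ∑ χ ∈ Finset.univ \ Sg, t χ := by
      rw [← Finset.sum_union Finset.disjoint_sdiff,
        Finset.union_sdiff_of_subset (Finset.subset_univ _)]
    rw [hzt, hSg, add_sub_right_comm, ← Finset.sum_sub_distrib]
    refine ideal_add hM (ideal_sum hM fun B _ => ?_)
      (ideal_sum hM fun χ hχ => hout χ (Finset.mem_sdiff.1 hχ).2)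
    simp only [cB, Finset.mul_sum, Finset.sum_mul, ← Finset.sum_sub_distrib]
    refine ideal_sum hM fun χ hχ => ?_
    have hχB := (Finset.mem_filter.1 hχ).2
    have hsame := pblock_sameBlock hM B.2.1 (hχ₀ B) hχB
    rw [show t χ - centralChar (χ₀ B : G → ℂ) (xr i)⁻¹ *
        (cof p (S : Subgroup G) d χ * centralChar (χ₀ B : G → ℂ) (xr j)) =
        ((centralChar (χ : G → ℂ) (xr j) - centralChar (χ₀ B : G → ℂ) (xr j)) *
          centralChar (χ : G → ℂ) (xr i)⁻¹ + centralChar (χ₀ B : G → ℂ) (xr j) *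
          (centralChar (χ : G → ℂ) (xr i)⁻¹ - centralChar (χ₀ B : G → ℂ) (xr i)⁻¹)) *
          cof p (S : Subgroup G) d χ by simp only [t]; ring]
    exact ideal_mul_right hM (ideal_add hM
      (ideal_mul_right hM (ideal_sub_comm (hsame (xr j))) (centralChar_ring hM χ _))
      (ideal_mul_left hM (centralChar_ring hM _ _) (ideal_sub_comm (hsame (xr i)⁻¹))))
      (ring_cof hM S B.2.1 (hdef B) hχB)
  -- the matrices over the residue field
  let U : Matrix ι 𝔅 (ResField hM) :=
    Matrix.of fun i B => red hM (centralChar (χ₀ B : G → ℂ) (xr i)⁻¹)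
  let V : Matrix 𝔅 ι (ResField hM) :=
    Matrix.of fun B j => red hM (cB B) * red hM (centralChar (χ₀ B : G → ℂ) (xr j))
  let L : Matrix 𝔅 ι (ResField hM) := Matrix.of fun B i => red hM (blockCoeff B.1 (xr i)⁻¹)
  let R : Matrix ι 𝔅 (ResField hM) :=
    Matrix.of fun j B => red hM (blockCoeff B.1 (xr j)) * (red hM (cB B))⁻¹
  have hring : ∀ (B B' : 𝔅), MemLocalRing M
      (∑ i, centralChar (χ₀ B : G → ℂ) (xr i) * blockCoeff B'.1 (xr i)) := fun B B' =>
    ring_sum hM fun i _ => ring_mul hM (centralChar_ring hM _ _) (blockCoeff_ring hM B'.2.1 _)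
  have hδ : ∀ B B' : 𝔅, ∑ i, red hM (centralChar (χ₀ B : G → ℂ) (xr i)) *
      red hM (blockCoeff B'.1 (xr i)) = if B = B' then 1 else 0 := by
    intro B B'
    simp only [← red_mul hM (centralChar_ring hM _ _) (blockCoeff_ring hM B'.2.1 _)]
    rw [← red_sum hM fun i _ => ring_mul hM (centralChar_ring hM _ _)
      (blockCoeff_ring hM B'.2.1 _)]
    rw [(red_eq_red hM (hring B B') (by split_ifs; exacts [ring_one hM, ring_zero hM])).2
      (hsep B B')]
    split_ifs
    exacts [red_one hM, red_zero hM]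
  have hσinj : Function.Injective σ := fun i j h => hKinj (by
    have := (hσ i).symm.trans ((congrArg K h).trans (hσ j))
    rw [hxr i, hxr j, ConjClasses.mk_eq_mk_iff_isConj]
    rw [ConjClasses.mk_eq_mk_iff_isConj] at this
    obtain ⟨c, hc⟩ := isConj_iff.1 this
    exact isConj_iff.2 ⟨c, by have := congrArg (·⁻¹) hc; simpa [mul_assoc] using this⟩)
  have hcls : ∀ (f : G → ℂ), IsClassFunction G f → ∀ i, f (xr i)⁻¹ = f (xr (σ i)) := by
    intro f hf i
    have h := (hσ i).symm.trans (hxr (σ i))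
    rw [ConjClasses.mk_eq_mk_iff_isConj] at h
    exact Cfsg.Agent.Char.IsClass.eq_of_isConj hf h
  have hLU : L * U = 1 := by
    ext B B'
    rw [Matrix.mul_apply, Matrix.one_apply, if_congr (eq_comm (a := B)) rfl rfl, ← hδ B' B,
      ← (Finite.injective_iff_bijective.1 hσinj).sum_comp
        (fun i => red hM (centralChar (χ₀ B' : G → ℂ) (xr i)) * red hM (blockCoeff B.1 (xr i)))]
    refine Finset.sum_congr rfl fun i _ => ?_
    simp only [L, U, Matrix.of_apply]
    rw [mul_comm, hcls _ (blockCoeff_classFun B.1) i,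
      hcls (fun g => centralChar (χ₀ B' : G → ℂ) g) (centralChar_isClassFun _) i]
  have hVR : V * R = 1 := by
    ext B B'
    rw [Matrix.mul_apply, Matrix.one_apply]
    simp only [V, R, Matrix.of_apply]
    rw [Finset.sum_congr rfl (fun j _ => show _ = red hM (cB B) * (red hM (cB B'))⁻¹ *
      (red hM (centralChar (χ₀ B : G → ℂ) (xr j)) * red hM (blockCoeff B'.1 (xr j))) by ring),
      ← Finset.mul_sum, hδ]
    split_ifs with h
    · subst h
      rw [mul_one, mul_inv_cancel₀]
      exact fun h0 => hcBu B ((red_eq_zero hM (hcBr B)).1 h0)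
    · rw [mul_zero]
  set A := Matrix.of fun i j : ι => ((N i j / p ^ (a - d) : ℕ) : ZMod p) with hA
  have hAmap : A.map (ZMod.castHom dvd_rfl (ResField hM)) = U * V := by
    ext i j
    rw [Matrix.map_apply, hA, Matrix.of_apply, map_natCast, Matrix.mul_apply]
    simp only [U, V, Matrix.of_apply]
    rw [← Res.red_natCast hM, hz,
      (red_eq_red hM (hzr i j) (ring_sum hM fun B _ => ring_mul hM (centralChar_ring hM _ _)
        (ring_mul hM (hcBr B) (centralChar_ring hM _ _)))).2 (hentry i j),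
      red_sum hM fun B _ => ring_mul hM (centralChar_ring hM _ _)
        (ring_mul hM (hcBr B) (centralChar_ring hM _ _))]
    exact Finset.sum_congr rfl fun B _ => by
      rw [red_mul hM (centralChar_ring hM _ _) (ring_mul hM (hcBr B) (centralChar_ring hM _ _)),
        red_mul hM (hcBr B) (centralChar_ring hM _ _)]
  rw [Nat.card_eq_fintype_card, ← rank_map_field (ZMod.castHom dvd_rfl (ResField hM)) A, hAmap,
    rank_of_sandwich hLU hVR]

end Cfsg.Agent.Char.NDC
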