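import Cfsg.Agent.Lib.Grp.PSolvable
import Cfsg.Agent.Lib.Grp.Coprime
import Cfsg.Agent.Lib.Grp.Frattini
import Cfsg.Agent.Lib.Grp.PComplement

/-!
Sylow subgroups for one prime normalizing Sylow subgroups for another.
-/

namespace Cfsg.Agent.Char.NormSylow

open scoped Pointwise

universe u

variable {G : Type u} [Group G] [Finite G] {p q : ℕ} [Fact p.Prime] [Fact q.Prime]

/-- A subgroup of index prime to `p` contains a Sylow `p`-subgroup. -/
theorem exists_sylow_le {H : Subgroup G} (hH : ¬ p ∣ H.index) :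
    ∃ P : Sylow p G, (P : Subgroup G) ≤ H := by
  obtain ⟨P₀⟩ : Nonempty (Sylow p H) := Sylow.nonempty
  refine ⟨(P₀.isPGroup'.map H.subtype).toSylow ?_, ?_⟩
  · rw [Subgroup.index_map_subtype]
    exact fun h => ((Fact.out : p.Prime).dvd_mul.1 h).elim P₀.not_dvd_index hH
  · exact Subgroup.map_subtype_le _

theorem exists_iff :
    (∃ (P : Sylow p G) (Q : Sylow q G), (P : Subgroup G) ≤ Subgroup.normalizer ((Q : Subgroup G) : Set G)) ↔
      ∃ Q : Sylow q G, ¬ p ∣ (Subgroup.normalizer ((Q : Subgroup G) : Set G)).index := by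
  constructor
  · rintro ⟨P, Q, h⟩
    exact ⟨Q, fun hd => P.not_dvd_index (hd.trans (Subgroup.index_dvd_of_le h))⟩
  · rintro ⟨Q, h⟩
    obtain ⟨P, hP⟩ := exists_sylow_le h
    exact ⟨P, Q, hP⟩

theorem index_smul (a : G) (K : Subgroup G) : (MulAut.conj a • K).index = K.index :=
  Subgroup.index_map_equiv K (MulAut.conj a)

theorem normalizer_smul (a : G) (K : Subgroup G) :
    Subgroup.normalizer ((MulAut.conj a • K : Subgroup G) : Set G) =
      MulAut.conj a • Subgroup.normalizer (K : Set G) :=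
  (Subgroup.map_normalizer_eq_of_bijective K (f := (MulAut.conj a : G ≃* G).toMonoidHom)
    (MulAut.conj a : G ≃* G).bijective).symm

theorem index_normalizer_eq (Q Q' : Sylow q G) :
    (Subgroup.normalizer ((Q : Subgroup G) : Set G)).index =
      (Subgroup.normalizer ((Q' : Subgroup G) : Set G)).index := by
  obtain ⟨a, rfl⟩ := MulAction.exists_smul_eq G Q Q'
  rw [Sylow.coe_subgroup_smul, normalizer_smul, index_smul]

omit [Fact p.Prime] [Fact q.Prime] in
theorem relIndex_sup_normal (H N : Subgroup G) [N.Normal] : H.relIndex (N ⊔ H) = H.relIndex N := by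
  have e1 := Cfsg.Agent.Grp.card_mul_relIndex (le_sup_right : H ≤ N ⊔ H)
  have e2 := Cfsg.Agent.Grp.card_mul_relIndex (le_sup_left : N ≤ N ⊔ H)
  have e3 := Cfsg.Agent.Grp.card_mul_relIndex (inf_le_left : H ⊓ N ≤ H)
  have e4 := Cfsg.Agent.Grp.card_mul_relIndex (inf_le_right : H ⊓ N ≤ N)
  rw [Subgroup.inf_relIndex_left] at e3
  rw [Subgroup.inf_relIndex_right] at e4
  rw [Subgroup.relIndex_sup_left] at e2
  refine Nat.eq_of_mul_eq_mul_left (Nat.card_pos (α := H)) ?_
  rw [e1, ← e2, ← e3, ← e4]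
  ring

/-- The normalizer of a Sylow image is covered by the normalizer and the kernel. -/
theorem comap_normalizer_le (N : Subgroup G) [N.Normal] (Q : Sylow q G) :
    (Subgroup.normalizer (((Q : Subgroup G).map (QuotientGroup.mk' N) : Subgroup (G ⧸ N)) : Set (G ⧸ N))).comap
      (QuotientGroup.mk' N) ≤ N ⊔ Subgroup.normalizer ((Q : Subgroup G) : Set G) := by
  intro g hg
  rw [Subgroup.mem_comap] at hg
  set M := N ⊔ (Q : Subgroup G) with hM
  have hMeq : ((Q : Subgroup G).map (QuotientGroup.mk' N)).comap (QuotientGroup.mk' N) = M := by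
    rw [Subgroup.comap_map_eq, QuotientGroup.ker_mk', sup_comm]
  have hgM : ∀ x ∈ M, g * x * g⁻¹ ∈ M := by
    intro x hx
    rw [← hMeq, Subgroup.mem_comap] at hx ⊢
    rw [map_mul, map_mul, map_inv]
    exact (Subgroup.mem_normalizer_iff.1 hg _).1 hx
  have hQ : ((Q : Subgroup G)) ≤ M := le_sup_right
  have hQ' : ((g • Q : Sylow q G) : Subgroup G) ≤ M := by
    intro x hx
    rw [Sylow.coe_subgroup_smul, Subgroup.mem_pointwise_smul_iff_inv_smul_mem] at hx
    have := hgM _ (hQ hx)
    simpa [MulAut.smul_def, mul_assoc] using this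
  obtain ⟨m, hm⟩ := MulAction.exists_smul_eq M (Q.subtype hQ) ((g • Q).subtype hQ')
  have hm' : (m : G) • Q = g • Q := by
    rw [Sylow.smul_subtype hQ m] at hm
    exact Sylow.subtype_injective hm
  have hn : (m : G)⁻¹ * g ∈ Subgroup.normalizer ((Q : Subgroup G) : Set G) := by
    refine Sylow.smul_eq_iff_mem_normalizer.1 ?_
    rw [mul_smul, ← hm', inv_smul_smul]
  have hmle : M ≤ N ⊔ Subgroup.normalizer ((Q : Subgroup G) : Set G) :=
    sup_le_sup_left Subgroup.le_normalizer N
  have := Subgroup.mul_mem _ (hmle m.2) (Subgroup.mem_sup_right (S := N) hn)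
  simpa using this

/-- Lifting from a quotient. -/
theorem step (N : Subgroup G) [N.Normal]
    (h : ∃ Qb : Sylow q (G ⧸ N), ¬ p ∣ (Subgroup.normalizer ((Qb : Subgroup (G ⧸ N)) : Set (G ⧸ N))).index)
    (Q : Sylow q G) (hN : ¬ p ∣ (Subgroup.normalizer ((Q : Subgroup G) : Set G)).relIndex N) :
    ¬ p ∣ (Subgroup.normalizer ((Q : Subgroup G) : Set G)).index := by
  obtain ⟨Qb, hQb⟩ := h
  set Qi := Q.mapSurjective (QuotientGroup.mk'_surjective N)
  rw [index_normalizer_eq Qb Qi, Sylow.coe_mapSurjective,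
    ← Subgroup.index_comap_of_surjective _ (QuotientGroup.mk'_surjective N)] at hQb
  have h1 : ¬ p ∣ (N ⊔ Subgroup.normalizer ((Q : Subgroup G) : Set G)).index :=
    fun hd => hQb (hd.trans (Subgroup.index_dvd_of_le (comap_normalizer_le N Q)))
  rw [← Subgroup.relIndex_mul_index (le_sup_right (a := N))]
  intro hd
  rcases (Fact.out : p.Prime).dvd_mul.1 hd with hd | hd
  · apply hN
    rwa [relIndex_sup_normal] at hd
  · exact h1 hd

theorem relIndex_dvd_card (H K : Subgroup G) : H.relIndex K ∣ Nat.card K :=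
  Subgroup.relIndex_dvd_card H K

theorem not_dvd_of_le {H K : Subgroup G} (h : K ≤ H) : ¬ p ∣ H.relIndex K := by
  rw [Subgroup.relIndex_eq_one.2 h]
  exact (Fact.out : p.Prime).one_lt.ne' ∘ Nat.dvd_one.1

end Cfsg.Agent.Char.NormSylow
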