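import Cfsg.Agent.Lib.Char.ExtendMain
import Cfsg.Agent.Lib.Char.Galois
import Cfsg.Agent.Lib.Block.SchurIndicator
import Cfsg.Agent.Lib.Char.Average
import Mathlib.GroupTheory.Sylow

/-!
Characters fixed by a Galois automorphism of two-power order inverting the odd roots of unity,
over a fixed character of a normal subgroup of odd index.
-/

set_option autoImplicit false

namespace Cfsg.Agent.Char.OddFixed

open scoped ComplexConjugate
open Cfsg

universe u

/-- `g ↦ g ^ k` has two-power order and inverts the elements of odd order. -/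
structure Setup (G : Type u) [Group G] (k e : ℕ) : Prop where
  cop : k.Coprime (Nat.card G)
  pow : k ^ (2 ^ e) ≡ 1 [MOD Nat.card G]
  odd_inv : ∀ g : G, Odd (orderOf g) → g ^ k = g⁻¹

variable {G : Type u} [Group G] {k e : ℕ}

theorem Setup.sub (h : Setup G k e) (H : Subgroup G) : Setup H k e where
  cop := h.cop.coprime_dvd_right H.card_subgroup_dvd_card
  pow := h.pow.of_dvd H.card_subgroup_dvd_card
  odd_inv x hx := Subtype.ext (by
    simpa using h.odd_inv (x : G) (by rwa [Subgroup.orderOf_coe]))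

theorem pow_k_mul_mem [Finite G] (h : Setup G k e) (N : Subgroup G) [hN : N.Normal]
    (hodd : Odd N.index) (g : G) : g ^ k * g ∈ N := by
  obtain ⟨s, t, ht2, ho⟩ := Nat.exists_eq_pow_mul_and_not_dvd (orderOf_pos g).ne' 2 (by norm_num)
  have hcop : Nat.Coprime (2 ^ s) N.index := Nat.Coprime.pow_left _ hodd.coprime_two_left
  obtain ⟨a, ha1, ha0⟩ := Nat.chineseRemainder hcop 0 1
  obtain ⟨c, rfl⟩ := (Nat.modEq_zero_iff_dvd).mp ha1
  set g' := g ^ (2 ^ s * c) with hg'
  have hodd' : Odd (orderOf g') := by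
    refine Odd.of_dvd_nat (Nat.odd_iff.mpr (Nat.two_dvd_ne_zero.mp ht2)) ?_
    refine orderOf_dvd_of_pow_eq_one ?_
    rw [hg', ← pow_mul, show 2 ^ s * c * t = orderOf g * c by rw [ho]; ring, pow_mul,
      pow_orderOf_eq_one, one_pow]
  rw [← QuotientGroup.eq_one_iff, QuotientGroup.mk_mul, QuotientGroup.mk_pow]
  have hq : ((g' : G) : G ⧸ N) = (g : G ⧸ N) := by
    rw [hg', QuotientGroup.mk_pow]
    conv_rhs => rw [← pow_one (g : G ⧸ N)]
    refine pow_eq_pow_iff_modEq.mpr (ha0.of_dvd ?_)
    rw [Subgroup.index_eq_card]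
    exact orderOf_dvd_natCard _
  rw [← hq, ← QuotientGroup.mk_pow, h.odd_inv g' hodd', QuotientGroup.mk_inv, inv_mul_cancel]

/-- The Galois automorphism on irreducible characters. -/
noncomputable def sig [Finite G] (h : Setup G k e) (χ : IrrCharacter G) : IrrCharacter G :=
  ⟨fun g => (χ : G → ℂ) (g ^ k), IsIrr.pow_map χ.2 h.cop⟩

theorem sig_iterate [Finite G] (h : Setup G k e) (j : ℕ) (χ : IrrCharacter G) (g : G) :
    (((sig h)^[j] χ : IrrCharacter G) : G → ℂ) g = (χ : G → ℂ) (g ^ k ^ j) := by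
  induction j generalizing g with
  | zero => simp
  | succ j ih =>
    rw [Function.iterate_succ_apply']
    show (((sig h)^[j] χ : IrrCharacter G) : G → ℂ) (g ^ k) = _
    rw [ih, ← pow_mul, pow_succ, mul_comm]

theorem sig_period [Finite G] (h : Setup G k e) : (sig h)^[2 ^ e] = id := by
  funext χ
  refine Subtype.ext (funext fun g => ?_)
  rw [sig_iterate]
  show (χ : G → ℂ) _ = (χ : G → ℂ) g
  have h1 : g ^ k ^ (2 ^ e) = g ^ 1 :=
    pow_eq_pow_iff_modEq.mpr (h.pow.of_dvd (orderOf_dvd_natCard g))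
  rw [h1, pow_one]

/-- A map of two-power order preserving weights has the same weight on its fixed points. -/
theorem sum_fixed {α : Type*} [Fintype α] [DecidableEq α] : ∀ (e : ℕ) (f : α → α),
    f^[2 ^ e] = id → ∀ w : α → ZMod 2, (∀ x, w (f x) = w x) →
    ∑ x, w x = ∑ x ∈ Finset.univ.filter (fun x => f x = x), w x := by
  intro e
  induction e with
  | zero =>
    intro f hf w _
    rw [pow_zero, Function.iterate_one] at hf
    simp [hf]
  | succ e ih =>
    intro f hf w hw
    have hg : (fun x => f (f x))^[2 ^ e] = id := by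
      rw [show (fun x => f (f x)) = f^[2] from rfl, ← Function.iterate_mul, ← pow_succ']
      exact hf
    rw [ih _ hg w fun x => by rw [hw, hw],
      ← Finset.sum_filter_add_sum_filter_not (Finset.univ.filter fun x => f (f x) = x)
      (fun x => f x = x)]
    have h0 : ∑ x ∈ (Finset.univ.filter fun x => f (f x) = x).filter (fun x => ¬ f x = x), w x
        = 0 := by
      refine Finset.sum_involution (fun x _ => f x) (fun x _ => ?_) (fun x hx _ => ?_)
        (fun x hx => ?_) fun x hx => ?_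
      · rw [hw]; exact CharTwo.add_self_eq_zero _
      · exact (Finset.mem_filter.mp hx).2
      · simp only [Finset.mem_filter, Finset.mem_univ, true_and] at hx ⊢
        refine ⟨by rw [hx.1], ?_⟩
        rw [hx.1]
        exact fun h => hx.2 h.symm
      · simp only [Finset.mem_filter, Finset.mem_univ, true_and] at hx
        exact hx.1
    rw [h0, add_zero, Finset.filter_filter]
    refine Finset.sum_congr (Finset.filter_congr fun x _ => ?_) fun _ _ => rfl
    exact ⟨fun h => h.2, fun h => ⟨by simp [h], h⟩⟩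

variable [Fintype G] (N : Subgroup G) [hN : N.Normal] [Fintype N]

/-- A real character constant on the cosets of a subgroup of odd index: degree and
principal multiplicity have the same parity. -/
theorem parity (hodd : Odd N.index) {F : G → ℂ} (hF : IsCharacter G F)
    (hN' : ∀ (n : N) (g : G), F ((n : G) * g) = F g) (hr : ∀ g, conj (F g) = F g) :
    ∃ d j : ℕ, F 1 = (d : ℂ) ∧ classInner F (fun _ => 1) = (j : ℂ) ∧
      (d : ZMod 2) = (j : ZMod 2) := by
  classical
  obtain ⟨a, ha, hd⟩ := IsChar.exists_decomp_inner hF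
  choose d hd0 hd' using fun φ : IrrCharacter G => IsIrr.one_eq_pos φ.2
  have hsum : F 1 = ((∑ φ, a φ * d φ : ℕ) : ℂ) := by
    have h1 := congrFun hd 1
    rw [sum_irr_apply] at h1
    rw [h1, Nat.cast_sum]
    exact Finset.sum_congr rfl fun φ _ => by rw [hd', Nat.cast_mul]
  set one : IrrCharacter G := ⟨fun _ => 1, isIrr_one⟩ with hone
  refine ⟨_, a one, hsum, ha one, ?_⟩
  have hd1 : d one = 1 := by
    have := hd' one
    change (1 : ℂ) = _ at this
    exact_mod_cast this.symm
  rw [Nat.cast_sum, ← Finset.add_sum_erase _ _ (Finset.mem_univ one), hd1, mul_one]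
  let c : IrrCharacter G → IrrCharacter G :=
    fun φ => ⟨fun g => conj ((φ : G → ℂ) g), IsIrr.conj φ.2⟩
  have hcc : ∀ φ, c (c φ) = φ := fun φ => Subtype.ext (funext fun g => Complex.conj_conj _)
  have hac : ∀ φ, a (c φ) = a φ := fun φ => by
    have h1 : classInner F ((c φ : IrrCharacter G) : G → ℂ) = conj (classInner F (φ : G → ℂ)) := by
      simp only [classInner, map_mul, map_inv₀, map_natCast, map_sum]
      congr 1
      exact Finset.sum_congr rfl fun g _ => by rw [hr g]
    rw [ha, ha, map_natCast] at h1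
    exact_mod_cast h1
  have hdc : ∀ φ, d (c φ) = d φ := fun φ => by
    have h1 := hd' (c φ)
    change conj ((φ : G → ℂ) 1) = _ at h1
    rw [hd', map_natCast] at h1
    exact_mod_cast h1.symm
  have hfix : ∀ φ, a φ ≠ 0 → c φ = φ → φ = one := by
    intro φ hφ hcφ
    have hav : avgN N F = F := funext fun g => by
      simp only [avgN, hN', Finset.sum_const, Finset.card_univ, nsmul_eq_mul,
        ← Nat.card_eq_fintype_card]
      rw [inv_mul_cancel_left₀ (Nat.cast_ne_zero.mpr Nat.card_pos.ne')]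
    have hker : ∀ n : N, (φ : G → ℂ) n = (φ : G → ℂ) 1 := by
      rcases avgN_irr N φ.2 with ⟨-, he⟩ | ⟨hk, -⟩
      · exfalso
        refine hφ ?_
        have h1 := classInner_avgN N F (φ : G → ℂ)
        rw [hav, he, classInner_zero_right, ha] at h1
        exact_mod_cast h1
      · exact hk
    haveI : Fintype (G ⧸ N) := Fintype.ofFinite _
    obtain ⟨ψ, hψ, hψe⟩ := IsIrr.exists_factor_quotient φ.2 N fun x hx => hker ⟨x, hx⟩
    have h := Cfsg.Agent.Block.FS.eq_one_of_real_of_odd (G := G ⧸ N)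
      (by rwa [← Subgroup.index_eq_card]) ⟨ψ, hψ⟩
      (fun q => by
        induction q using QuotientGroup.induction_on with
        | H g =>
          show conj (ψ (g : G ⧸ N)) = ψ (g : G ⧸ N)
          rw [hψe]
          exact congrFun (congrArg Subtype.val hcφ) g)
    refine Subtype.ext (funext fun g => ?_)
    show (φ : G → ℂ) g = 1
    rw [← hψe g]
    exact congrFun h _
  have h0 : ∑ φ ∈ Finset.univ.erase one, ((a φ * d φ : ℕ) : ZMod 2) = 0 := by
    refine Finset.sum_involution (fun φ _ => c φ) (fun φ _ => ?_) (fun φ hφ hne h => ?_)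
      (fun φ hφ => ?_) (fun φ _ => hcc φ)
    · rw [hac, hdc]; exact CharTwo.add_self_eq_zero _
    · refine (Finset.mem_erase.mp hφ).1 (hfix φ (fun h0 => hne ?_) h)
      rw [h0, zero_mul, Nat.cast_zero]
    · refine Finset.mem_erase.mpr ⟨fun h => (Finset.mem_erase.mp hφ).1 ?_, Finset.mem_univ _⟩
      rw [← hcc φ, h]
      exact Subtype.ext (funext fun g => map_one _)
  rw [h0, add_zero]

/-- Uniqueness of the fixed character over a given constituent. -/
theorem unique (h : Setup G k e) (hodd : Odd N.index) {θ : N → ℂ} (hθ : IsIrrCharacter N θ)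
    {χ χ' : G → ℂ} (hχ : IsIrrCharacter G χ) (hχ' : IsIrrCharacter G χ')
    (hc : classInner (fun n : N => χ n) θ ≠ 0) (hc' : classInner (fun n : N => χ' n) θ ≠ 0)
    (hf : ∀ g, χ (g ^ k) = χ g) (hf' : ∀ g, χ' (g ^ k) = χ' g) : χ = χ' := by
  classical
  set ξ : G → ℂ := χ * fun g => conj (χ' g) with hξ
  set F := avgN N ξ with hF
  have hξc : IsCharacter G ξ :=
    IsChar.mul (IsIrr.isCharacter hχ) (IsChar.conj (IsIrr.isCharacter hχ'))
  have hFc : IsCharacter G F := IsChar.avgN N hξc
  have hFk : ∀ g, F (g ^ k) = F g := fun g => by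
    simp only [hF, avgN]
    congr 1
    have hfib : ∀ n : N, ((n : G) * g) ^ k * (g ^ k)⁻¹ ∈ N := fun n => by
      rw [← QuotientGroup.eq_one_iff, QuotientGroup.mk_mul, QuotientGroup.mk_inv,
        QuotientGroup.mk_pow, QuotientGroup.mk_pow, QuotientGroup.mk_mul,
        (QuotientGroup.eq_one_iff _).mpr n.2, one_mul, mul_inv_cancel]
    let φ : N → N := fun n => ⟨_, hfib n⟩
    have hφ : Function.Bijective φ := by
      refine Finite.injective_iff_bijective.mp fun a b hab => ?_
      have h1 : ((a : G) * g) ^ k = ((b : G) * g) ^ k := by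
        have := congrArg (fun x : N => (x : G) * g ^ k) hab
        simpa [φ] using this
      exact Subtype.ext (mul_right_cancel ((powCoprime (G := G) h.cop.symm).injective h1))
    refine (Fintype.sum_bijective φ hφ _ _ fun n => ?_).symm
    show ξ ((n : G) * g) = ξ (_ * _)
    rw [show ((φ n : N) : G) = ((n : G) * g) ^ k * (g ^ k)⁻¹ from rfl, inv_mul_cancel_right]
    simp only [hξ, Pi.mul_apply, hf, hf']
  have hreal : ∀ g, conj (F g) = F g := fun g => by
    rw [← IsChar.apply_inv hFc, ← hFk g]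
    have h1 := avgN_mul_left N ξ ⟨g ^ k * g, pow_k_mul_mem h N hodd g⟩ g⁻¹
    rw [← hF] at h1
    simpa [mul_assoc] using h1.symm
  obtain ⟨d, j, hd, hj, hdj⟩ := parity N hodd hFc (fun n g => avgN_mul_left N ξ n g) hreal
  obtain ⟨a, ha⟩ := IsChar.classInner_nat (IsChar.res (IsIrr.isCharacter hχ) N) (IsIrr.isCharacter hθ)
  obtain ⟨b, hb⟩ := IsChar.classInner_nat (IsChar.res (IsIrr.isCharacter hχ') N) (IsIrr.isCharacter hθ)
  obtain ⟨m, hm⟩ : ∃ m : ℕ, (inertia N θ).index = m := ⟨_, rfl⟩
  have hθ0 := IsIrr.one_ne_zero hθ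
  have hab : Odd (a * m) ∧ Odd (b * m) := by
    constructor
    · obtain ⟨r, hr, hrd⟩ := Ext.ratio_dvd_index' hχ hθ hc
      have h1 := clifford_one N hχ hθ hc
      rw [hr, hm, ha] at h1
      have h2 : r = a * m := by exact_mod_cast mul_right_cancel₀ hθ0 h1
      exact h2 ▸ Odd.of_dvd_nat hodd hrd
    · obtain ⟨r, hr, hrd⟩ := Ext.ratio_dvd_index' hχ' hθ hc'
      have h1 := clifford_one N hχ' hθ hc'
      rw [hr, hm, hb] at h1
      have h2 : r = b * m := by exact_mod_cast mul_right_cancel₀ hθ0 h1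
      exact h2 ▸ Odd.of_dvd_nat hodd hrd
  have hd2 : d = a * m * b := by
    have h1 : F 1 = classInner (fun n : N => χ n) (fun n : N => χ' n) := by
      rw [hF, avgN_one_eq]
      simp [classInner, hξ]
    rw [hd, clifford N hχ hθ hc, ha, classInner_smul_left, classInner_sum_left,
      Finset.sum_congr rfl (g := fun _ => (b : ℂ)) fun ψ hψ => by
        obtain ⟨g, rfl⟩ := (mem_conjOrbit N).mp hψ
        rw [← classInner_conj_symm, classInner_res_conjN N (IsIrr.classFun hχ'), hb, map_natCast],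
      Finset.sum_const, card_conjOrbit, hm, nsmul_eq_mul] at h1
    rw [mul_assoc]
    exact_mod_cast h1
  have hj1 : classInner χ χ' = (j : ℂ) := by
    rw [← hj, hF, classInner_avgN]
    have : avgN N (fun _ : G => (1 : ℂ)) = fun _ => 1 := funext fun g => by simp [avgN]
    rw [this]
    simp [classInner, hξ]
  by_contra hne
  rw [classInner_irr_ne hχ hχ' hne] at hj1
  have hj0 : j = 0 := by exact_mod_cast hj1.symm
  rw [hj0, Nat.cast_zero, ZMod.natCast_eq_zero_iff_even, hd2] at hdj
  have hbodd : Odd b := (Nat.odd_mul.mp hab.2).1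
  exact Nat.not_even_iff_odd.mpr (hab.1.mul hbodd) hdj

/-- Some character over a fixed character is fixed. -/
theorem exists_fixed (h : Setup G k e) (hodd : Odd N.index) {θ : N → ℂ} (hθ : IsIrrCharacter N θ)
    (hθk : ∀ n : N, θ (n ^ k) = θ n) :
    ∃ χ : G → ℂ, IsIrrCharacter G χ ∧ classInner (fun n : N => χ n) θ ≠ 0 ∧
      ∀ g, χ (g ^ k) = χ g := by
  classical
  choose a ha using fun χ : IrrCharacter G =>
    IsChar.classInner_nat (IsChar.res (IsIrr.isCharacter χ.2) N) (IsIrr.isCharacter hθ)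
  have hr : ∀ χ : IrrCharacter G, ∃ r : ℕ, a χ ≠ 0 → (χ : G → ℂ) 1 = (r : ℂ) * θ 1 := fun χ => by
    by_cases h0 : a χ = 0
    · exact ⟨0, fun h => absurd h0 h⟩
    · obtain ⟨r, hr, -⟩ := Ext.ratio_dvd_index' χ.2 hθ
        (by rw [ha χ]; exact_mod_cast h0)
      exact ⟨r, fun _ => hr⟩
  choose r hr using hr
  have hθ0 := IsIrr.one_ne_zero hθ
  have htot : (∑ χ, a χ * r χ : ℕ) = N.index := by
    have hdec := IsChar.exists_decomp_inner (isCharacter_indFun N (IsIrr.isCharacter hθ))
    obtain ⟨b, hb, hdec⟩ := hdec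
    have h1 := congrFun hdec 1
    rw [sum_irr_apply, indFun_one_eq] at h1
    have hba : ∀ χ, b χ = a χ := fun χ => by
      have h2 : classInner (indFun N θ) (χ : G → ℂ) = conj (a χ : ℂ) := by
        rw [classInner_indFun N θ (IsIrr.classFun χ.2), ← classInner_conj_symm, ha χ]
      rw [hb, map_natCast] at h2
      exact_mod_cast h2
    have h3 : ((∑ χ, a χ * r χ : ℕ) : ℂ) * θ 1 = (N.index : ℂ) * θ 1 := by
      rw [h1, Nat.cast_sum, Finset.sum_mul]
      refine Finset.sum_congr rfl fun χ _ => ?_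
      rw [hba]
      by_cases h0 : a χ = 0
      · simp [h0]
      · rw [hr χ h0]; push_cast; ring
    exact_mod_cast mul_right_cancel₀ hθ0 h3
  have hinvw : ∀ χ, a (sig h χ) = a χ ∧ (((a (sig h χ) * r (sig h χ) : ℕ)) : ZMod 2) =
      ((a χ * r χ : ℕ) : ZMod 2) := by
    intro χ
    have ha' : a (sig h χ) = a χ := by
      have hbij : Function.Bijective fun n : N => n ^ k :=
        (powCoprime (G := N) ((h.sub N).cop.symm)).bijective
      have h1 : classInner (fun n : N => ((sig h χ : IrrCharacter G) : G → ℂ) n) θ =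
          classInner (fun n : N => (χ : G → ℂ) n) θ := by
        simp only [classInner]
        congr 1
        refine Fintype.sum_bijective _ hbij _ _ fun n => ?_
        rw [hθk]
        rfl
      rw [ha, ha] at h1
      exact_mod_cast h1
    refine ⟨ha', ?_⟩
    by_cases h0 : a χ = 0
    · simp [ha', h0]
    · have h1 := hr (sig h χ) (ha' ▸ h0)
      have h2 : ((sig h χ : IrrCharacter G) : G → ℂ) 1 = (χ : G → ℂ) 1 := by
        show (χ : G → ℂ) (1 ^ k) = _
        rw [one_pow]
      rw [h2, hr χ h0] at h1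
      have h3 : r χ = r (sig h χ) := by exact_mod_cast mul_right_cancel₀ hθ0 h1
      rw [ha', h3]
  have hsum := sum_fixed e (sig h) (sig_period h) (fun χ => ((a χ * r χ : ℕ) : ZMod 2))
    fun χ => (hinvw χ).2
  rw [← Nat.cast_sum, htot] at hsum
  have h1 : (N.index : ZMod 2) = 1 := ZMod.natCast_eq_one_iff_odd.mpr hodd
  rw [h1] at hsum
  obtain ⟨χ, hχ, hne⟩ := Finset.exists_ne_zero_of_sum_ne_zero (hsum ▸ one_ne_zero)
  refine ⟨χ, χ.2, ?_, fun g => congrFun (congrArg Subtype.val (Finset.mem_filter.mp hχ).2) g⟩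
  rw [ha χ]
  intro h0
  refine hne ?_
  rw [Nat.cast_eq_zero.mp h0, zero_mul, Nat.cast_zero]

/-- An extension can be twisted to a fixed one. -/
theorem fixed_of_extension (h : Setup G k e) (hodd : Odd N.index) {θ : N → ℂ}
    (hθ : IsIrrCharacter N θ) (hθk : ∀ n : N, θ (n ^ k) = θ n)
    {η : G → ℂ} (hη : IsIrrCharacter G η) (hres : ∀ n : N, η n = θ n) :
    ∃ χ : G → ℂ, IsIrrCharacter G χ ∧ (∀ n : N, χ n = θ n) ∧ ∀ g, χ (g ^ k) = χ g := by
  classical
  have hη' : IsIrrCharacter G (fun g => η (g ^ k)) := IsIrr.pow_map hη h.cop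
  have hres' : ∀ n : N, η ((n : G) ^ k) = θ n := fun n => by
    rw [← hθk n, ← hres]
    simp
  have e1 : (fun n : N => η n) = θ := funext hres
  have e2 : (fun n : N => η ((n : G) ^ k)) = θ := funext hres'
  obtain ⟨hL, hmul⟩ := gallagher (N := N) hη hη' (e1.symm ▸ hθ)
    (by rw [e1, e2, classInner_self_irr hθ]; exact one_ne_zero)
  set L := avgN N ((fun g => η (g ^ k)) * fun g => conj (η g)) with hLdef
  have h1 := congrFun hmul 1
  simp only [Pi.mul_apply, one_pow] at h1
  have hL1 : L 1 = 1 := mul_left_cancel₀ (IsIrr.one_ne_zero hη) (by rw [h1, mul_one])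
  obtain ⟨l, hl⟩ := linearHom_of_isCharacter (IsIrr.isCharacter hL) hL1
  have hlN : ∀ m : N, l (m : G) = 1 := fun m => Units.ext (by
    rw [← congrFun hl (m : G), Units.val_one, ← hL1, ← mul_one (m : G)]
    exact avgN_mul_left N _ m 1)
  set μ := l ^ ((N.index + 1) / 2) with hμ
  have hμ2 : μ * μ = l := by
    refine MonoidHom.ext fun g => ?_
    rw [MonoidHom.mul_apply, hμ, MonoidHom.pow_apply, ← pow_add, ← two_mul,
      Nat.two_mul_div_two_of_even hodd.add_one, pow_succ, ← MonoidHom.pow_apply,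
      pow_index_eq_one l hlN, MonoidHom.one_apply, one_mul]
  have hμN : ∀ m : N, μ (m : G) = 1 := fun m => by simp [hμ, hlN]
  refine ⟨fun g => (μ g : ℂ) * η g, IsIrr.mul_linear hη μ, fun n => by simp [hμN, hres],
    fun g => ?_⟩
  have hk1 : μ (g ^ k) * μ g = 1 := by
    rw [← map_mul]
    exact hμN ⟨_, pow_k_mul_mem h N hodd g⟩
  have h2 : η (g ^ k) = η g * ((μ g : ℂ) * (μ g : ℂ)) := by
    have h3 := congrFun hmul g
    rw [Pi.mul_apply, congrFun hl g] at h3
    rw [← h3, ← Units.val_mul, ← MonoidHom.mul_apply, hμ2]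
  have h4 : (μ (g ^ k) : ℂ) * (μ g : ℂ) = 1 := by rw [← Units.val_mul, hk1, Units.val_one]
  show (μ (g ^ k) : ℂ) * η (g ^ k) = _
  rw [h2]
  linear_combination (η g * (μ g : ℂ)) * h4

omit [Fintype G] [Fintype N] in
/-- Fixed extensions exist to overgroups of prime-power index. -/
theorem ext_primePow (r : ℕ) [hr : Fact r.Prime] : ∀ (j : ℕ) {H : Type u} [Group H] [Finite H]
    (_ : Setup H k e) (M : Subgroup H) [M.Normal] (_ : M.index = r ^ j) (_ : Odd M.index)
    (θ : M → ℂ) (_ : IsIrrCharacter M θ) (_ : ∀ n : M, θ (n ^ k) = θ n)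
    (_ : ∀ t : H, Char.conjN M t θ = θ),
    ∃ η : H → ℂ, IsIrrCharacter H η ∧ (∀ n : M, η n = θ n) ∧ ∀ g, η (g ^ k) = η g := by
  intro j
  induction j with
  | zero =>
    intro H _ _ _ M _ hidx _ θ hθ hθk _
    rw [pow_zero, Subgroup.index_eq_one] at hidx
    subst hidx
    refine ⟨fun g => θ ⟨g, trivial⟩, ?_, fun n => rfl, fun g => ?_⟩
    · exact IsIrr.comp_mulEquiv Subgroup.topEquiv.symm hθ
    · exact hθk ⟨g, trivial⟩
  | succ j ih =>
    intro H _ _ hS M _ hidx hodd θ hθ hθk hinv
    classical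
    letI : Fintype H := Fintype.ofFinite _
    have hdvd : r ^ j ∣ Nat.card (H ⧸ M) := by
      rw [← Subgroup.index_eq_card, hidx, pow_succ]; exact Dvd.intro _ rfl
    obtain ⟨Kb, hKb⟩ := Sylow.exists_subgroup_card_pow_prime r hdvd
    have hKbi : Kb.index = r := by
      have h1 := Kb.card_mul_index
      rw [hKb, ← Subgroup.index_eq_card M, hidx, pow_succ] at h1
      exact Nat.eq_of_mul_eq_mul_left (pow_pos hr.out.pos j) h1
    haveI : Kb.Normal := by
      refine Subgroup.normal_of_index_eq_minFac_card ?_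
      rw [hKbi, ← Subgroup.index_eq_card M, hidx, hr.out.pow_minFac (Nat.succ_ne_zero j)]
    set K := Kb.comap (QuotientGroup.mk' M) with hK
    haveI : K.Normal := Subgroup.Normal.comap inferInstance _
    have hKi : K.index = r := by
      rw [hK, Subgroup.index_comap_of_surjective _ (QuotientGroup.mk'_surjective M), hKbi]
    have hMK : M ≤ K := fun x hx => by
      rw [hK, Subgroup.mem_comap, QuotientGroup.mk'_apply, (QuotientGroup.eq_one_iff x).mpr hx]
      exact Kb.one_mem
    haveI : (M.subgroupOf K).Normal := Subgroup.Normal.subgroupOf inferInstance _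
    have hrel : (M.subgroupOf K).index = r ^ j := by
      have h1 := Subgroup.relIndex_mul_index hMK
      rw [hKi, hidx, pow_succ] at h1
      exact Nat.eq_of_mul_eq_mul_right hr.out.pos h1
    have hoddK : Odd (M.subgroupOf K).index := by
      rw [hrel]
      rw [hidx, pow_succ] at hodd
      exact (Nat.odd_mul.mp hodd).1
    set eM : M.subgroupOf K ≃* M := Subgroup.subgroupOfEquivOfLe hMK with heM
    have hθ'i : IsIrrCharacter (M.subgroupOf K) (fun x => θ (eM x)) := IsIrr.comp_mulEquiv eM hθ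
    obtain ⟨η, hη, hηres, hηk⟩ := ih (hS.sub K) (M.subgroupOf K) hrel hoddK _ hθ'i
      (fun n => by rw [map_pow]; exact hθk _)
      (fun t => funext fun n => by
        exact congrFun (hinv (t : H)) (eM n))
    letI : Fintype K := Fintype.ofFinite _
    letI : Fintype (M.subgroupOf K) := Fintype.ofFinite _
    have hinvK : ∀ t : H, Char.conjN K t η = η := by
      intro t
      have hci := IsIrr.conjN K hη t
      have hres1 : (fun n : M.subgroupOf K => Char.conjN K t η (n : K)) =
          fun n => θ (eM n) := funext fun n => by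
        rw [Char.conjN_apply]
        have hm : t * ((n : K) : H) * t⁻¹ ∈ M := ‹M.Normal›.conj_mem _ n.2 t
        have h1 := hηres ⟨⟨t * ((n : K) : H) * t⁻¹, hMK hm⟩, hm⟩
        exact h1.trans (congrFun (hinv t) ⟨((n : K) : H), n.2⟩)
      refine unique (M.subgroupOf K) (hS.sub K) hoddK hθ'i hci hη ?_ ?_ (fun g => ?_) hηk
      · rw [hres1, classInner_self_irr hθ'i]; exact one_ne_zero
      · rw [show (fun n : M.subgroupOf K => η n) = fun n => θ (eM n) from funext hηres,
          classInner_self_irr hθ'i]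
        exact one_ne_zero
      · rw [Char.conjN_eq_comp]
        show η (conjEquivN K t (g ^ k)) = η (conjEquivN K t g)
        rw [map_pow]
        exact hηk _
    obtain ⟨d, ρ, hρ, hρc, -, -⟩ := IsIrr.exists_rep hη
    haveI := hρ
    have hinvρ : ∀ (t : H) (m : K), ρ.character (conjEquivN K t m) = ρ.character m := fun t m => by
      rw [hρc]
      have := congrFun (hinvK t) m
      rwa [Char.conjN_eq_comp] at this
    have hcyc : IsCyclic (H ⧸ K) :=
      isCyclic_of_prime_card (p := r) (by rw [← Subgroup.index_eq_card, hKi])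
    obtain ⟨ν, hν, hνres⟩ := Ext.exists_extension K ρ hinvρ (Ext.cyclic_mem K ρ hinvρ hcyc)
    letI : Fintype M := Fintype.ofFinite _
    refine fixed_of_extension M hS hodd hθ hθk hν fun n => ?_
    rw [show (n : H) = ((⟨n, hMK n.2⟩ : K) : H) from rfl, hνres, hρc]
    exact hηres ⟨⟨n, hMK n.2⟩, n.2⟩

/-- An invariant fixed character has a fixed extension. -/
theorem exists_fixed_extension (h : Setup G k e) (hodd : Odd N.index) {θ : N → ℂ}
    (hθ : IsIrrCharacter N θ) (hθk : ∀ n : N, θ (n ^ k) = θ n)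
    (hinv : ∀ (g : G) (n : N), θ ⟨g * n * g⁻¹, hN.conj_mem n n.2 g⟩ = θ n) :
    ∃ χ : G → ℂ, IsIrrCharacter G χ ∧ (∀ n : N, χ n = θ n) ∧ ∀ g, χ (g ^ k) = χ g := by
  classical
  obtain ⟨d, -, hd⟩ := IsIrr.one_eq_pos hθ
  obtain ⟨η, hη, hres⟩ := Ext.exists_extension_of_witness hθ hinv hd fun r hr => by
    haveI := Fact.mk hr
    let S : Sylow r (G ⧸ N) := default
    set H := (S : Subgroup (G ⧸ N)).comap (QuotientGroup.mk' N) with hH
    have hNH : N ≤ H := fun x hx => by
      rw [hH, Subgroup.mem_comap, QuotientGroup.mk'_apply, (QuotientGroup.eq_one_iff x).mpr hx]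
      exact (S : Subgroup (G ⧸ N)).one_mem
    have hHi : H.index = (S : Subgroup (G ⧸ N)).index :=
      Subgroup.index_comap_of_surjective _ (QuotientGroup.mk'_surjective N)
    haveI : (N.subgroupOf H).Normal := Subgroup.Normal.subgroupOf inferInstance _
    obtain ⟨j, hj⟩ : ∃ j, (N.subgroupOf H).index = r ^ j := by
      obtain ⟨j, hj⟩ := IsPGroup.iff_card.mp S.isPGroup'
      refine ⟨j, ?_⟩
      have h1 := Subgroup.relIndex_mul_index hNH
      rw [hHi, Subgroup.index_eq_card N, ← (S : Subgroup (G ⧸ N)).card_mul_index, hj] at h1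
      exact Nat.eq_of_mul_eq_mul_right
        (Nat.pos_of_ne_zero Subgroup.index_ne_zero_of_finite) h1
    have hoddH : Odd (N.subgroupOf H).index :=
      Odd.of_dvd_nat hodd (Subgroup.relIndex_dvd_index_of_normal N H)
    let eN : N.subgroupOf H ≃* N := Subgroup.subgroupOfEquivOfLe hNH
    obtain ⟨η, hη, hres, -⟩ := ext_primePow (k := k) (e := e) r j (h.sub H) (N.subgroupOf H) hj
      hoddH (fun x => θ (eN x)) (IsIrr.comp_mulEquiv eN hθ)
      (fun n => by rw [map_pow]; exact hθk _)
      (fun t => funext fun n => by exact hinv (t : G) (eN n))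
    refine Or.inr (Or.inr ⟨H, hNH, η, ?_, hη, fun m => hres ⟨⟨m, hNH m.2⟩, m.2⟩⟩)
    rw [hHi]
    exact S.not_dvd_index
  exact fixed_of_extension N h hodd hθ hθk hη hres

end Cfsg.Agent.Char.OddFixed
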