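import Cfsg.Agent.Lib.Char.Schur
import Cfsg.Agent.Lib.Char.Constituent

/-!
The complex group algebra: block idempotents of irreducible characters, averaging over conjugates,
transport along automorphisms and twisting by linear characters.
-/

namespace Cfsg.Agent.Char.OddMagic

open Cfsg Module

set_option linter.unusedSectionVars false
set_option linter.style.haveILetI false

universe u

variable {K : Type u} [Group K] [Fintype K]

/-- The basis element of a group element. -/
noncomputable abbrev el (k : K) : MonoidAlgebra ℂ K := MonoidAlgebra.single k 1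

theorem el_mul (a b : K) : el a * el b = el (a * b) := by
  simp [el, MonoidAlgebra.single_mul_single]

theorem el_one : el (1 : K) = 1 := rfl

theorem el_mul_inv (a : K) : el a * el a⁻¹ = 1 := by rw [el_mul, mul_inv_cancel, el_one]

theorem el_inv_mul (a : K) : el a⁻¹ * el a = 1 := by rw [el_mul, inv_mul_cancel, el_one]

theorem eq_sum (a : MonoidAlgebra ℂ K) : a = ∑ k : K, a.coeff k • el k := by
  classical
  ext x
  simp [MonoidAlgebra.coeff_sum, MonoidAlgebra.coeff_smul, el, Finsupp.single_apply]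

/-- A function extended linearly to the group algebra. -/
noncomputable def tv (f : K → ℂ) : MonoidAlgebra ℂ K →ₗ[ℂ] ℂ where
  toFun a := ∑ k : K, a.coeff k * f k
  map_add' a b := by
    simp [MonoidAlgebra.coeff_add, add_mul, Finset.sum_add_distrib]
  map_smul' c a := by
    simp [MonoidAlgebra.coeff_smul, Finset.mul_sum, mul_assoc]

theorem tv_el (f : K → ℂ) (k : K) : tv f (el k) = f k := by
  classical
  simp [tv, el, Finsupp.single_apply]

theorem trace_alg {V : Type*} [AddCommGroup V] [Module ℂ V] [FiniteDimensional ℂ V]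
    (ρ : Representation ℂ K V) (a : MonoidAlgebra ℂ K) :
    LinearMap.trace ℂ V (ρ.asAlgebraHom a) = tv ρ.character a := by
  conv_lhs => rw [eq_sum a]
  simp [tv, el, map_sum, map_smul, Representation.asAlgebraHom_single_one, Representation.character]

/-- A chosen dimension for an irreducible character. -/
noncomputable def dimOf (θ : IrrCharacter K) : ℕ := Classical.choose θ.2

/-- A chosen representation affording an irreducible character. -/
noncomputable def repOf (θ : IrrCharacter K) : Representation ℂ K (Fin (dimOf θ) → ℂ) :=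
  Classical.choose (Classical.choose_spec θ.2)

instance repOf_irreducible (θ : IrrCharacter K) : (repOf θ).IsIrreducible :=
  (Classical.choose_spec (Classical.choose_spec θ.2)).1

theorem repOf_character (θ : IrrCharacter K) : (repOf θ).character = (θ : K → ℂ) :=
  (Classical.choose_spec (Classical.choose_spec θ.2)).2

theorem dimOf_eq (θ : IrrCharacter K) : (θ : K → ℂ) 1 = (dimOf θ : ℂ) := by
  rw [← repOf_character θ, Representation.char_one, Module.finrank_fin_fun]

/-- The image in a chosen irreducible representation. -/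
noncomputable def img (θ : IrrCharacter K) : MonoidAlgebra ℂ K →ₐ[ℂ] End ℂ (Fin (dimOf θ) → ℂ) :=
  (repOf θ).asAlgebraHom

theorem img_el (θ : IrrCharacter K) (k : K) : img θ (el k) = repOf θ k := by
  simp [img, el, Representation.asAlgebraHom_single_one]

theorem tv_img (θ : IrrCharacter K) (a : MonoidAlgebra ℂ K) :
    LinearMap.trace ℂ _ (img θ a) = tv (θ : K → ℂ) a := by
  rw [img, trace_alg, repOf_character]

theorem coeff_eq (c : MonoidAlgebra ℂ K) (g : K) : (Nat.card K : ℂ) * c.coeff g =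
    ∑ θ : IrrCharacter K, (θ : K → ℂ) 1 * tv (θ : K → ℂ) (c * el g⁻¹) := by
  classical
  have hrhs : ∀ θ : IrrCharacter K, tv (θ : K → ℂ) (c * el g⁻¹) =
      ∑ k : K, c.coeff k * (θ : K → ℂ) (k * g⁻¹) := by
    intro θ
    conv_lhs => rw [eq_sum c]
    simp only [Finset.sum_mul, smul_mul_assoc, el_mul, map_sum, map_smul, tv_el, smul_eq_mul]
  have h2 : ∀ k : K, ∑ θ : IrrCharacter K, (θ : K → ℂ) 1 * (c.coeff k * (θ : K → ℂ) (k * g⁻¹)) =
      c.coeff k * (if k = g then (Nat.card K : ℂ) else 0) := by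
    intro k
    refine (Finset.sum_congr rfl fun θ _ => mul_left_comm _ (c.coeff k) _).trans ?_
    rw [← Finset.mul_sum, regular_expansion (k * g⁻¹)]
    simp [mul_inv_eq_one]
  simp only [hrhs, Finset.mul_sum]
  rw [Finset.sum_comm, Finset.sum_congr rfl fun k _ => h2 k]
  simp [mul_comm]

theorem alg_ext {a b : MonoidAlgebra ℂ K} (h : ∀ θ : IrrCharacter K, img θ a = img θ b) :
    a = b := by
  ext g
  refine mul_left_cancel₀ (Nat.cast_ne_zero.2 (Nat.card_pos (α := K)).ne') ?_
  rw [coeff_eq, coeff_eq]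
  refine Finset.sum_congr rfl fun θ _ => ?_
  rw [← tv_img, ← tv_img, map_mul (img θ), map_mul (img θ), h θ]

theorem img_sum_classFun (θ : IrrCharacter K) {f : K → ℂ} (hf : IsClassFunction K f) :
    img θ (∑ k : K, f k • el k) =
      ((∑ k : K, f k * (θ : K → ℂ) k) / (θ : K → ℂ) 1) • 1 := by
  simp only [map_sum, map_smul, img_el]
  rw [sum_smul_rep_scalar (repOf θ) hf, repOf_character, dimOf_eq, Module.finrank_fin_fun]
  rfl

/-- The block idempotent of an irreducible character. -/
noncomputable def blk (θ : IrrCharacter K) : MonoidAlgebra ℂ K :=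
  ∑ k : K, ((θ : K → ℂ) 1 / (Nat.card K : ℂ) * (θ : K → ℂ) k⁻¹) • el k

theorem img_blk (φ θ : IrrCharacter K) [Decidable (φ = θ)] :
    img φ (blk θ) = if φ = θ then 1 else 0 := by
  rw [blk, img_sum_classFun φ (f := fun k => (θ : K → ℂ) 1 / (Nat.card K : ℂ) * (θ : K → ℂ) k⁻¹)
    (fun g h => by
      show _ * (θ : K → ℂ) (h * g * h⁻¹)⁻¹ = _ * (θ : K → ℂ) g⁻¹
      rw [show (h * g * h⁻¹)⁻¹ = h * g⁻¹ * h⁻¹ by group, IsIrr.classFun θ.2 g⁻¹ h])]
  have h1 : ∑ k : K, (θ : K → ℂ) 1 / (Nat.card K : ℂ) * (θ : K → ℂ) k⁻¹ * (φ : K → ℂ) k =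
      (θ : K → ℂ) 1 * classInner (φ : K → ℂ) (θ : K → ℂ) := by
    rw [classInner_eq_inv_card_sum_inv (IsIrr.isCharacter θ.2), ← mul_assoc, Finset.mul_sum]
    exact Finset.sum_congr rfl fun k _ => by ring
  rw [h1]
  split_ifs with h
  · subst h
    rw [classInner_self_irr φ.2, mul_one, div_self (IsIrr.one_ne_zero φ.2), one_smul]
  · rw [classInner_irr_ne φ.2 θ.2 (fun h' => h (Subtype.ext h')), mul_zero, zero_div, zero_smul]

theorem blk_comm (θ : IrrCharacter K) (a : MonoidAlgebra ℂ K) : blk θ * a = a * blk θ := by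
  classical
  refine alg_ext fun φ => ?_
  rw [map_mul, map_mul, img_blk]
  split_ifs <;> simp

theorem blk_idem (θ : IrrCharacter K) : blk θ * blk θ = blk θ := by
  classical
  refine alg_ext fun φ => ?_
  rw [map_mul, img_blk]
  split_ifs <;> simp

theorem blk_orth {θ φ : IrrCharacter K} (h : θ ≠ φ) : blk θ * blk φ = 0 := by
  classical
  refine alg_ext fun ψ => ?_
  rw [map_mul, img_blk, img_blk, map_zero]
  split_ifs with h1 h2 <;> simp_all

theorem sum_blk : ∑ θ : IrrCharacter K, blk θ = 1 := by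
  classical
  refine alg_ext fun ψ => ?_
  rw [map_sum, map_one, Finset.sum_eq_single ψ]
  · rw [img_blk, if_pos rfl]
  · intro b _ hb; rw [img_blk, if_neg (Ne.symm hb)]
  · exact fun h => absurd (Finset.mem_univ _) h

/-- Elements in one block are equal when their images agree there. -/
theorem blk_ext {θ : IrrCharacter K} {a b : MonoidAlgebra ℂ K} (ha : a * blk θ = a)
    (hb : b * blk θ = b) (h : img θ a = img θ b) : a = b := by
  classical
  refine alg_ext fun φ => ?_
  by_cases hφ : φ = θ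
  · subst hφ; exact h
  · rw [← ha, ← hb, map_mul, map_mul, img_blk, if_neg hφ, mul_zero, mul_zero]

theorem tv_blk_left (φ θ : IrrCharacter K) [Decidable (φ = θ)] (a : MonoidAlgebra ℂ K) :
    tv (φ : K → ℂ) (blk θ * a) = if φ = θ then tv (φ : K → ℂ) a else 0 := by
  rw [← tv_img, map_mul (img φ), img_blk]
  split_ifs
  · rw [one_mul, tv_img]
  · simp

theorem tv_mul_comm (θ : IrrCharacter K) (a b : MonoidAlgebra ℂ K) :
    tv (θ : K → ℂ) (a * b) = tv (θ : K → ℂ) (b * a) := by
  rw [← tv_img, ← tv_img, map_mul (img θ), map_mul (img θ), LinearMap.trace_mul_comm]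

/-- Averaging over all conjugates lands in the scalars of each block. -/
theorem conj_sum (θ : IrrCharacter K) (a : MonoidAlgebra ℂ K) :
    (∑ g : K, el g * a * el g⁻¹) * blk θ =
      ((Nat.card K : ℂ) * tv (θ : K → ℂ) a / (θ : K → ℂ) 1) • blk θ := by
  classical
  refine blk_ext (θ := θ) (by rw [mul_assoc, blk_idem]) (by rw [smul_mul_assoc, blk_idem]) ?_
  rw [map_mul, map_smul, img_blk, if_pos rfl, mul_one, map_sum]
  simp only [map_mul, img_el]
  set T := ∑ g : K, repOf θ g * img θ a * repOf θ g⁻¹ with hT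
  have hcomm : ∀ x, T ∘ₗ repOf θ x = repOf θ x ∘ₗ T := by
    intro x
    show T * repOf θ x = repOf θ x * T
    rw [hT, Finset.sum_mul, Finset.mul_sum]
    refine (Fintype.sum_equiv (Equiv.mulLeft x) _ _ fun g => ?_).symm
    simp only [Equiv.coe_mulLeft, mul_inv_rev, mul_assoc, ← map_mul, inv_mul_cancel, mul_one]
    simp only [← mul_assoc, ← map_mul]
  obtain ⟨c, hc⟩ := schur_scalar (repOf θ) T hcomm
  have htr : LinearMap.trace ℂ _ T = (Nat.card K : ℂ) * tv (θ : K → ℂ) a := by
    rw [hT, map_sum]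
    have : ∀ g : K, LinearMap.trace ℂ _ (repOf θ g * img θ a * repOf θ g⁻¹) =
        tv (θ : K → ℂ) a := by
      intro g
      rw [LinearMap.trace_mul_comm, ← mul_assoc, ← map_mul, inv_mul_cancel, map_one, one_mul,
        tv_img]
    rw [Finset.sum_congr rfl fun g _ => this g, Finset.sum_const, Finset.card_univ,
      ← Nat.card_eq_fintype_card, nsmul_eq_mul]
  rw [hc, map_smul, LinearMap.trace_id, Module.finrank_fin_fun, smul_eq_mul] at htr
  rw [hc, ← htr, dimOf_eq, mul_div_assoc, div_self, mul_one]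
  · rfl
  · rw [← dimOf_eq]; exact IsIrr.one_ne_zero θ.2

theorem exists_tv_ne_zero (θ : IrrCharacter K) {u : MonoidAlgebra ℂ K} (hu : u * blk θ = u)
    (h0 : u ≠ 0) : ∃ g : K, tv (θ : K → ℂ) (u * el g) ≠ 0 := by
  classical
  by_contra hc
  push Not at hc
  refine h0 ?_
  ext g
  have h1 := coeff_eq u g
  rw [Finset.sum_eq_zero fun φ _ => ?_] at h1
  · simpa [Nat.card_pos.ne'] using h1
  · by_cases hφ : φ = θ
    · subst hφ; rw [hc, mul_zero]
    · rw [← hu, ← blk_comm θ, mul_assoc, tv_blk_left, if_neg hφ, mul_zero]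

/-- Transport of group algebra elements along an automorphism. -/
noncomputable def tr (f : K ≃* K) : MonoidAlgebra ℂ K →ₐ[ℂ] MonoidAlgebra ℂ K :=
  MonoidAlgebra.lift ℂ (MonoidAlgebra ℂ K) K ((MonoidAlgebra.of ℂ K).comp f.toMonoidHom)

theorem tr_el (f : K ≃* K) (k : K) : tr f (el k) = el (f k) := by
  simp [tr, el, MonoidAlgebra.lift_single]

theorem tr_blk (f : K ≃* K) {θ θ' : IrrCharacter K}
    (h : ∀ k, (θ' : K → ℂ) (f k) = (θ : K → ℂ) k) : tr f (blk θ) = blk θ' := by
  rw [blk, blk, map_sum]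
  refine Fintype.sum_equiv f.toEquiv _ _ fun k => ?_
  rw [map_smul, tr_el]
  simp [← h]

theorem tv_tr (f : K ≃* K) {θ θ' : IrrCharacter K}
    (h : ∀ k, (θ' : K → ℂ) (f k) = (θ : K → ℂ) k) (a : MonoidAlgebra ℂ K) :
    tv (θ' : K → ℂ) (tr f a) = tv (θ : K → ℂ) a := by
  conv_lhs => rw [eq_sum a]
  simp only [map_sum, map_smul, tr_el, tv_el, smul_eq_mul, h]
  rfl

/-- Twisting by a linear character. -/
noncomputable def twist (m : K →* ℂˣ) : MonoidAlgebra ℂ K →ₐ[ℂ] MonoidAlgebra ℂ K :=
  MonoidAlgebra.lift ℂ (MonoidAlgebra ℂ K) K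
    { toFun := fun k => ((m k : ℂˣ) : ℂ) • el k
      map_one' := by simp [el_one]
      map_mul' := fun a b => by
        simp only [map_mul, Units.val_mul, smul_mul_smul_comm, el_mul] }

theorem twist_el (m : K →* ℂˣ) (k : K) : twist m (el k) = ((m k : ℂˣ) : ℂ) • el k := by
  simp [twist, el, MonoidAlgebra.lift_single]

theorem twist_blk (m : K →* ℂˣ) {θ φ : IrrCharacter K}
    (h : ∀ k, (φ : K → ℂ) k * ((m k : ℂˣ) : ℂ) = (θ : K → ℂ) k) :
    twist m (blk θ) = blk φ := by
  rw [blk, blk, map_sum]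
  refine Finset.sum_congr rfl fun k _ => ?_
  rw [map_smul, twist_el, smul_smul]
  congr 1
  have h1 := h k⁻¹
  have h2 := h 1
  rw [map_one, Units.val_one, mul_one] at h2
  rw [← h1, h2, map_inv, Units.val_inv_eq_inv_val]
  field_simp [(m k).ne_zero]

end Cfsg.Agent.Char.OddMagic
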