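import Cfsg.Agent.Lib.Char.OddMagicDelta
import Cfsg.Agent.Lib.Char.Integral
import Cfsg.Agent.Lib.Char.Clifford

/-!
The correspondence of invariant characters through an abelian section of odd order.
-/

namespace Cfsg.Agent.Char.OddMagic

open Cfsg Module

set_option linter.unusedSectionVars false
set_option linter.style.haveILetI false

universe u v

variable {G : Type u} [Group G] [Fintype G] {K H : Subgroup G} [K.Normal] [Fintype K] [Fintype H]
  {S : Type v} [Group S] [Fintype S] {M : Mag K S}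

/-- Operators on the whole group extending those of the section. -/
structure Extended (K H : Subgroup G) [K.Normal] [Fintype K] (M : Mag K S) (act : S →* MulAut G) :
    Prop where
  res : ∀ (s : S) (k : K), act s (k : G) = (M.act s k : G)
  mapH : ∀ s : S, ∀ h ∈ H, act s h ∈ H

/-- Invariant characters. -/
def Inv (act : S →* MulAut G) (χ : IrrCharacter G) : Prop :=
  ∀ s g, (χ : G → ℂ) (act s g) = (χ : G → ℂ) g

/-- Invariant characters of the covering subgroup. -/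
def InvH {act : S →* MulAut G} (he : Extended K H M act) (ψ : IrrCharacter H) : Prop :=
  ∀ s (h : H), (ψ : H → ℂ) ⟨act s h, he.mapH s h h.2⟩ = (ψ : H → ℂ) h

theorem blk_sum_tv (θ : IrrCharacter K) (f : K → ℂ) :
    tv f (blk θ) = (θ : K → ℂ) 1 * classInner f (θ : K → ℂ) := by
  rw [classInner_eq_inv_card_sum_inv (IsIrr.isCharacter θ.2), blk, map_sum, Finset.mul_sum,
    Finset.mul_sum]
  refine Finset.sum_congr rfl fun k _ => ?_
  rw [map_smul, tv_el, smul_eq_mul]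
  ring

theorem trace_kalg (χ : IrrCharacter G) (a : MonoidAlgebra ℂ K) :
    (kalg (matOf χ) a).trace = tv (fun k : K => (χ : G → ℂ) k) a := by
  conv_lhs => rw [eq_sum a]
  conv_rhs => rw [eq_sum a]
  simp only [map_sum, map_smul, Matrix.trace_sum, Matrix.trace_smul, tv_el, kalg_el, trace_matOf]

theorem delta_apply (χ : IrrCharacter G) (h : H) :
    delta H M χ h = tv (fun k : K => (χ : G → ℂ) ((h : G) * k)) M.rr := by
  rw [delta]
  conv_lhs => rw [eq_sum M.rr]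
  conv_rhs => rw [eq_sum M.rr]
  simp only [map_sum, map_smul, Matrix.trace_sum, Matrix.trace_smul, Finset.mul_sum, tv_el, kalg_el,
    ← map_mul, trace_matOf, mul_smul_comm, smul_eq_mul]

theorem Sect.tr_eF_all (hs : Sect K H M) (g : G) :
    tr (MulAut.conjNormal g : K ≃* K) M.eF = M.eF := by
  obtain ⟨k, hk, h, hh, rfl⟩ := hs.cover g
  rw [map_mul, show ((MulAut.conjNormal k : MulAut K) * MulAut.conjNormal h : K ≃* K) =
    (MulAut.conjNormal h : K ≃* K).trans (MulAut.conjNormal k) from rfl, ← Mag.tr_tr, hs.tr_eF hh]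
  have h1 : ∀ a : MonoidAlgebra ℂ K, tr (MulAut.conjNormal k : K ≃* K) a =
      el ⟨k, hk⟩ * a * el (⟨k, hk⟩ : K)⁻¹ := by
    intro a
    conv_lhs => rw [eq_sum a]
    conv_rhs => rw [eq_sum a]
    simp only [map_sum, map_smul, tr_el, Finset.mul_sum, Finset.sum_mul, mul_smul_comm,
      smul_mul_assoc, el_mul]
    refine Finset.sum_congr rfl fun x _ => ?_
    congr 2
  rw [h1, ← M.eF_comm, mul_assoc, el_mul_inv, mul_one]

theorem Sect.good_iff (hs : Sect K H M) (χ : IrrCharacter G) :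
    (Good M χ ↔ tv (fun k : K => (χ : G → ℂ) k) M.eF ≠ 0) ∧
      (Good M χ → tv (fun k : K => (χ : G → ℂ) k) M.eF = (χ : G → ℂ) 1) := by
  have h1 : Good M χ → tv (fun k : K => (χ : G → ℂ) k) M.eF = (χ : G → ℂ) 1 := fun hg => by
    rw [← trace_kalg, hg, Matrix.trace_one, Fintype.card_fin, dimOf_eq]
  refine ⟨⟨fun hg => by rw [h1 hg]; exact IsIrr.one_ne_zero χ.2, fun hne => ?_⟩, h1⟩
  set E := kalg (matOf χ) M.eF
  let e : End ℂ (Fin (dimOf χ) → ℂ) := Matrix.toLinAlgEquiv' E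
  have hcomm : ∀ g, e ∘ₗ repOf χ g = repOf χ g ∘ₗ e := by
    intro g
    show e * repOf χ g = repOf χ g * e
    have h2 : repOf χ g = Matrix.toLinAlgEquiv' (matOf χ g) :=
      ((Matrix.toLinAlgEquiv' : Matrix (Fin (dimOf χ)) (Fin (dimOf χ)) ℂ ≃ₐ[ℂ] _).apply_symm_apply
        (repOf χ g)).symm
    rw [h2]
    show Matrix.toLinAlgEquiv' E * _ = _ * Matrix.toLinAlgEquiv' E
    rw [← map_mul, ← map_mul, kalg_conj, hs.tr_eF_all]
  obtain ⟨c, hc⟩ := schur_scalar (repOf χ) e hcomm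
  have hE : E = c • 1 := by
    apply (Matrix.toLinAlgEquiv' : Matrix (Fin (dimOf χ)) (Fin (dimOf χ)) ℂ ≃ₐ[ℂ] _).injective
    rw [map_smul, map_one]
    exact hc
  have hidem : E * E = E := by
    rw [← map_mul]
    congr 1
    rw [Mag.eF, Finset.mul_sum]
    exact Finset.sum_congr rfl fun θ _ => M.sum_mul_blk_fix _ (fun θ => blk_idem θ.1) θ
  have hc0 : c ≠ 0 := by
    intro h0
    refine hne ?_
    show tv _ M.eF = 0
    rw [← trace_kalg]
    show E.trace = 0
    rw [hE, h0, zero_smul, Matrix.trace_zero]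
  show E = 1
  have h3 : c • E = E := by
    conv_rhs => rw [← hidem]; arg 1; rw [hE]
    rw [smul_mul_assoc, one_mul]
  rw [hE, smul_smul] at h3
  have h4 : (c * c - c) • (1 : Matrix (Fin (dimOf χ)) (Fin (dimOf χ)) ℂ) = 0 := by
    rw [sub_smul, h3, sub_self]
  have h5 := congrArg Matrix.trace h4
  rw [Matrix.trace_smul, Matrix.trace_one, Fintype.card_fin, Matrix.trace_zero, smul_eq_mul,
    ← dimOf_eq, mul_eq_zero, or_iff_left (IsIrr.one_ne_zero χ.2), sub_eq_zero] at h5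
  rw [hE, (mul_eq_left₀ hc0).1 h5, one_smul]

theorem tv_eF_nat (f : K → ℂ) (hf : IsCharacter K f) :
    ∃ a : M.Fix → ℕ, (∀ θ, classInner f (θ.1 : K → ℂ) = a θ) ∧
      tv f M.eF = ∑ θ : M.Fix, (θ.1 : K → ℂ) 1 * (a θ : ℂ) := by
  obtain ⟨a, ha, -⟩ := IsChar.exists_decomp_inner hf
  refine ⟨fun θ => a θ.1, fun θ => ha θ.1, ?_⟩
  rw [Mag.eF, map_sum]
  exact Finset.sum_congr rfl fun θ _ => by rw [blk_sum_tv, ha]

theorem Sect.good_of_constituent (hs : Sect K H M) {χ : IrrCharacter G} {θ : M.Fix}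
    (hθ : classInner (fun k : K => (χ : G → ℂ) k) (θ.1 : K → ℂ) ≠ 0) : Good M χ := by
  classical
  refine (hs.good_iff χ).1.2 ?_
  obtain ⟨a, ha, he⟩ := tv_eF_nat (M := M) _ (IsChar.res (IsIrr.isCharacter χ.2) K)
  have he' : tv (fun k : K => (χ : G → ℂ) k) M.eF = ∑ θ : M.Fix, (θ.1 : K → ℂ) 1 * (a θ : ℂ) := he
  rw [he']
  have h1 : ∀ θ : M.Fix, (θ.1 : K → ℂ) 1 * (a θ : ℂ) = ((dimOf θ.1 * a θ : ℕ) : ℂ) := fun θ => by
    rw [dimOf_eq, Nat.cast_mul]
  rw [Finset.sum_congr rfl fun θ _ => h1 θ, ← Nat.cast_sum, Nat.cast_ne_zero]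
  intro h0
  have h2 := Finset.sum_eq_zero_iff.1 h0 θ (Finset.mem_univ _)
  rcases mul_eq_zero.1 h2 with h | h
  · exact IsIrr.one_ne_zero θ.1.2 (by rw [dimOf_eq, h, Nat.cast_zero])
  · exact hθ ((ha θ).trans (by rw [h, Nat.cast_zero]))

theorem delta_comp {act : S →* MulAut G} (he : Extended K H M act) {χ χ' : IrrCharacter G} (s : S)
    (hχ : ∀ g, (χ' : G → ℂ) g = (χ : G → ℂ) (act s g)) (h : H) :
    delta H M χ' h = delta H M χ ⟨act s h, he.mapH s h h.2⟩ := by
  rw [delta_apply, delta_apply]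
  simp only [hχ, map_mul, he.res]
  have h1 : tr (M.act s) M.rr = M.rr := Mag.Compat.tr_rr M (M.actCompat s)
  conv_rhs => rw [← h1, eq_sum M.rr]
  conv_lhs => rw [eq_sum M.rr]
  simp only [map_sum, map_smul, tr_el, tv_el]

theorem Sect.good_comp (hs : Sect K H M) {act : S →* MulAut G} (he : Extended K H M act)
    {χ χ' : IrrCharacter G} (s : S) (hχ : ∀ g, (χ' : G → ℂ) g = (χ : G → ℂ) (act s g))
    (hg : Good M χ) : Good M χ' := by
  refine (hs.good_iff χ').1.2 ?_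
  have h1 : tr (M.act s) M.eF = M.eF := Mag.Compat.tr_eF M (M.actCompat s)
  have h2 : tv (fun k : K => (χ' : G → ℂ) k) M.eF = tv (fun k : K => (χ : G → ℂ) k) M.eF := by
    conv_rhs => rw [← h1, eq_sum M.eF]
    conv_lhs => rw [eq_sum M.eF]
    simp only [map_sum, map_smul, tr_el, tv_el, hχ, he.res]
  rw [h2]
  exact (hs.good_iff χ).1.1 hg

/-- The bottom inside the covering subgroup. -/
def Sect.incl (hs : Sect K H M) : M.L →* H where
  toFun l := ⟨((l : K) : G), (hs.inter _).2 l.2⟩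
  map_one' := rfl
  map_mul' _ _ := rfl

theorem Sect.rest_zero (hs : Sect K H M) [Fintype M.L] {χ : IrrCharacter G} (hg : Good M χ)
    {ψ : IrrCharacter H} {φ : IrrCharacter M.L} (hφ : M.FixedL φ)
    (hψφ : classInner (fun l : M.L => (ψ : H → ℂ) (hs.incl l)) (φ : M.L → ℂ) ≠ 0) :
    classInner (part H χ (1 - M.pp)) (ψ : H → ℂ) = 0 := by
  classical
  obtain ⟨-, -, hrest⟩ := hs.parts_isChar χ
  obtain ⟨a, ha, hd⟩ := IsChar.exists_decomp_inner hrest
  have h0 : classInner (fun l : M.L => part H χ (1 - M.pp) (hs.incl l)) (φ : M.L → ℂ) = 0 := by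
    have h1 : kalg (matOf χ) (M.sub (blk φ) * (1 - M.pp)) = 0 := by
      have hcomm : M.sub (blk φ) * M.pp = M.pp * M.sub (blk φ) := by
        rw [blk, map_sum, Finset.sum_mul, Finset.mul_sum]
        refine Finset.sum_congr rfl fun l _ => ?_
        rw [map_smul, M.sub_el, smul_mul_assoc, mul_smul_comm, M.pp_comm_el l.2]
      rw [mul_sub, mul_one, hcomm, M.pp_fixed hφ, map_sub, map_mul _ (M.sub (blk φ)), show kalg (K := K) (matOf χ) M.eF = 1 from hg,
        mul_one, sub_self]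
    have h2 := congrArg Matrix.trace h1
    rw [Matrix.trace_zero, blk, map_sum, Finset.sum_mul, map_sum, Matrix.trace_sum] at h2
    simp only [map_smul, smul_mul_assoc, M.sub_el, map_mul, kalg_el, Matrix.trace_smul,
      smul_eq_mul] at h2
    rw [classInner_eq_inv_card_sum_inv (IsIrr.isCharacter φ.2)]
    refine mul_eq_zero_of_right _ (mul_left_cancel₀
      (div_ne_zero (IsIrr.one_ne_zero φ.2) (Nat.cast_ne_zero.2 (Nat.card_pos (α := M.L)).ne')) ?_)
    rw [mul_zero, Finset.mul_sum, ← h2]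
    refine Finset.sum_congr rfl fun l _ => ?_
    show _ = _ * (matOf χ ((l : K) : G) * kalg (matOf χ) (1 - M.pp)).trace
    rw [show part H χ (1 - M.pp) (hs.incl l) =
      (matOf χ ((l : K) : G) * kalg (matOf χ) (1 - M.pp)).trace from rfl]
    ring
  by_contra hne
  have hψdec : ∀ ψ' : IrrCharacter H, ∃ b : ℕ,
      classInner (fun l : M.L => (ψ' : H → ℂ) (hs.incl l)) (φ : M.L → ℂ) = b := fun ψ' =>
    IsChar.classInner_nat (IsChar.comp hs.incl (IsIrr.isCharacter ψ'.2)) (IsIrr.isCharacter φ.2)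
  choose b hb using hψdec
  have h3 : classInner (fun l : M.L => part H χ (1 - M.pp) (hs.incl l)) (φ : M.L → ℂ) =
      ((∑ ψ' : IrrCharacter H, a ψ' * b ψ' : ℕ) : ℂ) := by
    rw [show (fun l : M.L => part H χ (1 - M.pp) (hs.incl l)) =
      ∑ ψ' : IrrCharacter H, (a ψ' : ℂ) • (fun l : M.L => (ψ' : H → ℂ) (hs.incl l)) from
      funext fun l => by rw [hd]; simp [Finset.sum_apply], classInner_sum_left, Nat.cast_sum]
    exact Finset.sum_congr rfl fun ψ' _ => by rw [classInner_smul_left, hb, Nat.cast_mul]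
  rw [h0, eq_comm, Nat.cast_eq_zero] at h3
  rcases mul_eq_zero.1 (Finset.sum_eq_zero_iff.1 h3 ψ (Finset.mem_univ _)) with h | h
  · exact hne (by rw [ha, h, Nat.cast_zero])
  · exact hψφ (by rw [hb, h, Nat.cast_zero])

/-- Odd multiplicity among invariant characters detects the signed restriction. -/
theorem Sect.odd_iff (hs : Sect K H M) [Fintype M.L] {χ : IrrCharacter G} (hg : Good M χ)
    {ψ₀ : IrrCharacter H} {ε : ℂ} (hε : ε = 1 ∨ ε = -1)
    (hδ : delta H M χ = ε • (ψ₀ : H → ℂ)) {ψ : IrrCharacter H} {φ : IrrCharacter M.L}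
    (hφ : M.FixedL φ)
    (hψφ : classInner (fun l : M.L => (ψ : H → ℂ) (hs.incl l)) (φ : M.L → ℂ) ≠ 0) {m : ℕ}
    (hm : classInner (fun h : H => (χ : G → ℂ) h) (ψ : H → ℂ) = m) : Odd m ↔ ψ = ψ₀ := by
  classical
  obtain ⟨hp, hn, -⟩ := hs.parts_isChar χ
  obtain ⟨p, hp'⟩ := IsChar.classInner_nat hp (IsIrr.isCharacter ψ.2)
  obtain ⟨q, hq'⟩ := IsChar.classInner_nat hn (IsIrr.isCharacter ψ.2)
  rw [Sect.res_eq (M := M) χ, classInner_add_left, classInner_add_left, hp', hq',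
    hs.rest_zero hg hφ hψφ, add_zero] at hm
  have hd : (p : ℂ) - q = if ψ = ψ₀ then ε else 0 := by
    rw [← hp', ← hq', ← classInner_sub_left, ← Sect.delta_eq, hδ, classInner_smul_left]
    split_ifs with h
    · subst h; rw [classInner_self_irr ψ.2, mul_one]
    · rw [classInner_irr_ne ψ₀.2 ψ.2 fun h' => h (Subtype.ext h').symm, mul_zero]
  have hmN : p + q = m := by exact_mod_cast hm
  constructor
  · intro hodd
    by_contra hne
    rw [if_neg hne, sub_eq_zero, Nat.cast_inj] at hd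
    rw [← hmN, hd] at hodd
    exact Nat.not_odd_iff_even.2 ⟨q, rfl⟩ hodd
  · intro he
    rw [if_pos he] at hd
    rw [← hmN]
    rcases hε with rfl | rfl
    · have h1 : p = q + 1 := by
        have : ((p : ℕ) : ℂ) = ((q + 1 : ℕ) : ℂ) := by push_cast; linear_combination hd
        exact_mod_cast this
      exact ⟨q, by omega⟩
    · have h1 : q = p + 1 := by
        have : ((q : ℕ) : ℂ) = ((p + 1 : ℕ) : ℂ) := by push_cast; linear_combination -hd
        exact_mod_cast this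
      exact ⟨p, by omega⟩

theorem Sect.eq_of_delta (hs : Sect K H M) {χ χ' : IrrCharacter G} (hg : Good M χ)
    (hg' : Good M χ') {ψ : IrrCharacter H} {ε ε' : ℂ} (hε : ε ≠ 0) (hε' : ε' ≠ 0)
    (h : delta H M χ = ε • (ψ : H → ℂ)) (h' : delta H M χ' = ε' • (ψ : H → ℂ)) : χ = χ' := by
  classical
  by_contra hne
  have h1 := sum_delta hs hg hg'
  rw [if_neg hne, h, h'] at h1
  have h2 : ∑ x : H, (ε • (ψ : H → ℂ)) x * (ε' • (ψ : H → ℂ)) x⁻¹ = ε * ε' * (Nat.card H : ℂ) := by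
    have h3 := classInner_self_irr ψ.2
    rw [classInner_eq_inv_card_sum_inv (IsIrr.isCharacter ψ.2),
      inv_mul_eq_one₀ (Nat.cast_ne_zero.2 Nat.card_pos.ne')] at h3
    rw [h3, Finset.mul_sum]
    exact Finset.sum_congr rfl fun x _ => by simp only [Pi.smul_apply, smul_eq_mul]; ring
  exact mul_ne_zero (mul_ne_zero hε hε') (Nat.cast_ne_zero.2 Nat.card_pos.ne') (h2.symm.trans h1)

/-- Each invariant character below determines the constituent. -/
theorem Sect.forward (hs : Sect K H M) [Fintype M.L] {act : S →* MulAut G}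
    (he : Extended K H M act) {χ : IrrCharacter G} (hg : Good M χ) (hinv : Inv act χ)
    (hbelow : ∀ ψ : IrrCharacter H, InvH he ψ → ∃ φ : IrrCharacter M.L, M.FixedL φ ∧
      classInner (fun l : M.L => (ψ : H → ℂ) (hs.incl l)) (φ : M.L → ℂ) ≠ 0) :
    ∃ ψ₀ : IrrCharacter H, InvH he ψ₀ ∧
      (∃ m : ℕ, classInner (fun h : H => (χ : G → ℂ) h) (ψ₀ : H → ℂ) = m ∧ Odd m) ∧
      ∀ ψ : IrrCharacter H, InvH he ψ →
        (∃ m : ℕ, classInner (fun h : H => (χ : G → ℂ) h) (ψ : H → ℂ) = m ∧ Odd m) → ψ = ψ₀ := by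
  obtain ⟨ψ₀, ε, hε, hδ⟩ := hs.delta_irr hg
  have hε0 : ε ≠ 0 := by rcases hε with rfl | rfl <;> norm_num
  have hψ₀ : InvH he ψ₀ := fun s h => by
    have h1 := delta_comp he (χ := χ) (χ' := χ) s (fun g => (hinv s g).symm) h
    rw [hδ] at h1
    exact (mul_left_cancel₀ hε0 h1).symm
  refine ⟨ψ₀, hψ₀, ?_, fun ψ hψ ⟨m, hm, hodd⟩ => ?_⟩
  · obtain ⟨φ, hφ, hψφ⟩ := hbelow ψ₀ hψ₀
    obtain ⟨m, hm⟩ := IsChar.classInner_nat (IsChar.res (IsIrr.isCharacter χ.2) H)
      (IsIrr.isCharacter ψ₀.2)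
    exact ⟨m, hm, (hs.odd_iff hg hε hδ hφ hψφ hm).2 rfl⟩
  · obtain ⟨φ, hφ, hψφ⟩ := hbelow ψ hψ
    exact (hs.odd_iff hg hε hδ hφ hψφ hm).1 hodd

theorem Sect.injective (hs : Sect K H M) [Fintype M.L] {χ χ' : IrrCharacter G} (hg : Good M χ)
    (hg' : Good M χ') {ψ : IrrCharacter H} {φ : IrrCharacter M.L} (hφ : M.FixedL φ)
    (hψφ : classInner (fun l : M.L => (ψ : H → ℂ) (hs.incl l)) (φ : M.L → ℂ) ≠ 0) {m m' : ℕ}
    (hm : classInner (fun h : H => (χ : G → ℂ) h) (ψ : H → ℂ) = m) (ho : Odd m)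
    (hm' : classInner (fun h : H => (χ' : G → ℂ) h) (ψ : H → ℂ) = m') (ho' : Odd m') : χ = χ' := by
  obtain ⟨a, ε, hε, hδ⟩ := hs.delta_irr hg
  obtain ⟨a', ε', hε', hδ'⟩ := hs.delta_irr hg'
  obtain rfl := (hs.odd_iff hg hε hδ hφ hψφ hm).1 ho
  obtain rfl := (hs.odd_iff hg' hε' hδ' hφ hψφ hm').1 ho'
  exact hs.eq_of_delta hg hg' (by rcases hε with rfl | rfl <;> norm_num)
    (by rcases hε' with rfl | rfl <;> norm_num) hδ hδ'

end Cfsg.Agent.Char.OddMagic
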