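import Cfsg.Agent.Lib.Char.OddMagicNorm

/-!
The signed restriction of an irreducible character is a signed irreducible character.
-/

namespace Cfsg.Agent.Char.OddMagic

open Cfsg Module

set_option linter.unusedSectionVars false
set_option linter.style.haveILetI false

universe u v

/-- An idempotent commuting with a matrix representation cuts out a character. -/
theorem isChar_idem {H : Type u} [Group H] [Finite H] {m : ℕ}
    (ρ : H →* Matrix (Fin m) (Fin m) ℂ) (E : Matrix (Fin m) (Fin m) ℂ) (hE : E * E = E)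
    (hc : ∀ h, ρ h * E = E * ρ h) : IsCharacter H (fun h => (ρ h * E).trace) := by
  classical
  let R : Representation ℂ H (Fin m → ℂ) :=
    (Matrix.toLinAlgEquiv' : Matrix (Fin m) (Fin m) ℂ ≃ₐ[ℂ] _).toMonoidHom.comp ρ
  let e : End ℂ (Fin m → ℂ) := Matrix.toLinAlgEquiv' E
  let W := LinearMap.range e
  have hmap : ∀ h, ∀ x ∈ W, R h x ∈ W := by
    rintro h _ ⟨y, rfl⟩
    refine ⟨R h y, ?_⟩
    show (e * R h) y = (R h * e) y
    congr 1
    show Matrix.toLinAlgEquiv' E * Matrix.toLinAlgEquiv' (ρ h) =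
      Matrix.toLinAlgEquiv' (ρ h) * Matrix.toLinAlgEquiv' E
    rw [← map_mul, ← map_mul, hc]
  let R' : Representation ℂ H W :=
    { toFun := fun h => (R h).restrict (hmap h)
      map_one' := LinearMap.ext fun x => Subtype.ext (by simp [LinearMap.restrict_apply])
      map_mul' := fun a b => LinearMap.ext fun x => Subtype.ext (by
        simp [LinearMap.restrict_apply]) }
  convert isCharacter_character R' using 1
  funext h
  have hfix : ∀ x ∈ W, e x = x := by
    rintro _ ⟨y, rfl⟩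
    show (e * e) y = e y
    rw [show e * e = e by show Matrix.toLinAlgEquiv' E * Matrix.toLinAlgEquiv' E = _; rw [← map_mul, hE]]
  have hmem : ∀ x, (R h * e) x ∈ W := fun x => hmap h _ ⟨x, rfl⟩
  have h1 := LinearMap.trace_restrict_eq_of_forall_mem W (R h * e) hmem
  have h2 : (R h * e).restrict (fun x (_ : x ∈ W) => hmem x) = R' h :=
    LinearMap.ext fun x => Subtype.ext (by
      show R h (e (x : Fin m → ℂ)) = R h x
      rw [hfix _ x.2])
  have h3 : R'.character h = LinearMap.trace ℂ W (R' h) := rfl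
  have h4 : (R h * e : End ℂ (Fin m → ℂ)) = Matrix.toLinAlgEquiv' (ρ h * E) :=
    (map_mul (Matrix.toLinAlgEquiv' : Matrix (Fin m) (Fin m) ℂ ≃ₐ[ℂ] _) (ρ h) E).symm
  rw [h3, ← h2, h1, h4]
  exact (Matrix.trace_toLin'_eq (ρ h * E)).symm

variable {G : Type u} [Group G] [Fintype G] {K H : Subgroup G} [K.Normal] [Fintype K] [Fintype H]
  {S : Type v} [Group S] [Fintype S] {M : Mag K S}

/-- The matrices of a chosen representation. -/
noncomputable def matOf (χ : IrrCharacter G) : G →* Matrix (Fin (dimOf χ)) (Fin (dimOf χ)) ℂ :=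
  (LinearMap.toMatrixAlgEquiv' : _ ≃ₐ[ℂ] Matrix (Fin (dimOf χ)) (Fin (dimOf χ)) ℂ).toMonoidHom.comp
    (repOf χ)

theorem trace_matOf (χ : IrrCharacter G) (g : G) : (matOf χ g).trace = (χ : G → ℂ) g := by
  rw [← repOf_character χ]
  show _ = LinearMap.trace ℂ _ (repOf χ g)
  rw [LinearMap.trace_eq_matrix_trace ℂ (Pi.basisFun ℂ (Fin (dimOf χ))), LinearMap.toMatrix_eq_toMatrix']
  rfl

variable (M) in
/-- All constituents on the section are fixed. -/
def Good (χ : IrrCharacter G) : Prop := kalg (K := K) (matOf χ) M.eF = 1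

variable (H M) in
/-- The signed restriction. -/
noncomputable def delta (χ : IrrCharacter G) (h : H) : ℂ :=
  (matOf χ (h : G) * kalg (matOf χ) M.rr).trace

theorem sum_sum_cover {A : Type*} [AddCommMonoid A] (hs : Sect K H M) (F : G → A) :
    ∑ h : H, ∑ k : K, F ((h : G) * k) = Nat.card M.L • ∑ g : G, F g := by
  classical
  rw [← Fintype.sum_prod_type', ← Finset.sum_fiberwise (Finset.univ : Finset (H × K))
    (fun x => (x.1 : G) * x.2), Finset.smul_sum]
  refine Finset.sum_congr rfl fun g _ => ?_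
  obtain ⟨k₀, hk₀, h₀, hh₀, rfl⟩ := hs.cover g
  have hk₁ : h₀⁻¹ * k₀ * h₀ ∈ K := by
    simpa using Subgroup.Normal.conj_mem inferInstance k₀ hk₀ h₀⁻¹
  set fib := Finset.univ.filter fun x : H × K => (x.1 : G) * x.2 = k₀ * h₀
  have hval : ∀ x ∈ fib, F ((x.1 : G) * x.2) = F (k₀ * h₀) := fun x hx => by
    rw [(Finset.mem_filter.1 hx).2]
  rw [Finset.sum_congr rfl hval, Finset.sum_const]
  congr 1
  rw [← Fintype.card_coe, ← Nat.card_eq_fintype_card]
  refine Nat.card_congr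
    { toFun := fun x => ⟨⟨h₀⁻¹ * k₀ * h₀, hk₁⟩ * x.1.2⁻¹, ?_⟩
      invFun := fun l => ⟨(⟨h₀, hh₀⟩ * ⟨((l : K) : G), (hs.inter l).2 l.2⟩,
        (l : K)⁻¹ * ⟨h₀⁻¹ * k₀ * h₀, hk₁⟩), ?_⟩
      left_inv := ?_
      right_inv := ?_ }
  · have hx := (Finset.mem_filter.1 x.2).2
    rw [← hs.inter]
    have : ((⟨h₀⁻¹ * k₀ * h₀, hk₁⟩ * x.1.2⁻¹ : K) : G) = h₀⁻¹ * (x.1.1 : G) := by
      rw [Subgroup.coe_mul, Subgroup.coe_inv, eq_mul_inv_iff_mul_eq.2 hx]
      group
    rw [this]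
    exact mul_mem (inv_mem hh₀) x.1.1.2
  · refine Finset.mem_filter.2 ⟨Finset.mem_univ _, ?_⟩
    simp only [Subgroup.coe_mul, Subgroup.coe_inv]
    group
  · intro x
    have hx := (Finset.mem_filter.1 x.2).2
    refine Subtype.ext (Prod.ext (Subtype.ext ?_) (Subtype.ext ?_))
    · simp only [Subgroup.coe_mul, Subgroup.coe_inv]
      rw [eq_mul_inv_iff_mul_eq.2 hx]
      group
    · simp only [Subgroup.coe_mul, Subgroup.coe_inv]
      group
  · intro l
    refine Subtype.ext (Subtype.ext ?_)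
    simp only [Subgroup.coe_mul, Subgroup.coe_inv]
    group

theorem sum_Pj {m n : ℕ} (α : MonoidAlgebra ℂ K →ₐ[ℂ] Matrix (Fin m) (Fin m) ℂ)
    (β : MonoidAlgebra ℂ K →ₐ[ℂ] Matrix (Fin n) (Fin n) ℂ) [Fintype M.L] :
    ∑ c : M.D, Pj α β (c : K →* ℂˣ) = (Nat.card M.L : ℂ)⁻¹ • ∑ l : M.L, Ad α β (l : K) := by
  classical
  simp only [Pj, ← Finset.smul_sum]
  rw [Finset.sum_comm]
  have h1 : ∀ k : K, ∑ c : M.D, ((((c : K →* ℂˣ) k : ℂˣ) : ℂ))⁻¹ • Ad α β k =
      if k ∈ M.L then (Nat.card M.D : ℂ) • Ad α β k else 0 := by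
    intro k
    have h2 : ∑ m : M.D, (((m : K →* ℂˣ) k : ℂˣ) : ℂ)⁻¹ =
        ∑ m : M.D, (((m : K →* ℂˣ) k : ℂˣ) : ℂ) :=
      Fintype.sum_equiv (Equiv.inv M.D) _ _ fun m => by simp
    rw [← Finset.sum_smul, h2, M.sum_dual]
    split_ifs <;> simp
  rw [Finset.sum_congr rfl fun k _ => h1 k, M.sum_L, ← Finset.smul_sum, smul_smul]
  congr 1
  rw [← M.card_D_mul, mul_inv, mul_right_comm,
    inv_mul_cancel₀ (Nat.cast_ne_zero.2 Nat.card_pos.ne'), one_mul]

/-- The signed restrictions are orthonormal. -/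
theorem sum_delta (hs : Sect K H M) {χ φ : IrrCharacter G} (hχ : Good M χ) (hφ : Good M φ)
    [Decidable (χ = φ)] :
    ∑ h : H, delta H M χ h * delta H M φ h⁻¹ =
      if χ = φ then (Nat.card H : ℂ) else 0 := by
  classical
  set ρ := matOf χ
  set σ := matOf φ
  have hF : ∀ g : G, LinearMap.trace ℂ _ (Jop (M := M) ρ σ * AdG ρ σ g) =
      (ρ g * kalg ρ M.rr).trace * (σ g⁻¹ * kalg σ M.rr).trace := by
    intro g
    rw [Jop, Lf, Rt, AdG, Opr_mul, Opr_mul, mul_one, mul_one, trace_Opr, Matrix.trace_mul_comm]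
  have hlsub : ∀ l : M.L, ((l : K) : G) ∈ H := fun l => (hs.inter _).2 l.2
  have h1 : ∀ l : M.L, ∑ h : H, LinearMap.trace ℂ _ (Jop (M := M) ρ σ * AdG ρ σ ((h : G) * (l : K))) =
      ∑ h : H, delta H M χ h * delta H M φ h⁻¹ := fun l => by
    refine Fintype.sum_equiv (Equiv.mulRight (⟨_, hlsub l⟩ : H)) _ _ fun h => ?_
    rw [hF, Equiv.coe_mulRight, delta, delta, Subgroup.coe_inv, Subgroup.coe_mul]
  have h2 : (Nat.card M.L : ℂ) * ∑ h : H, delta H M χ h * delta H M φ h⁻¹ =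
      (Nat.card M.L : ℂ) * ((Nat.card K : ℂ)⁻¹ *
        ∑ h : H, ∑ k : K, (χ : G → ℂ) ((h : G) * k) * (φ : G → ℂ) ((h : G) * k)⁻¹) := by
    have h3 : ∀ h : H, ∑ l : M.L, LinearMap.trace ℂ _
        (Jop (M := M) ρ σ * AdG ρ σ ((h : G) * (l : K))) = (Nat.card M.L : ℂ) *
          ((Nat.card K : ℂ)⁻¹ * ∑ k : K, (χ : G → ℂ) ((h : G) * k) * (φ : G → ℂ) ((h : G) * k)⁻¹) := by
      intro h
      have h4 := hs.sum_trace ρ σ hχ hφ h.2
      rw [← map_sum, ← Finset.mul_sum, sum_Pj, mul_smul_comm, map_smul, smul_eq_mul,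
        inv_mul_eq_iff_eq_mul₀ (Nat.cast_ne_zero.2 Nat.card_pos.ne')] at h4
      rw [← map_sum, ← Finset.mul_sum]
      simp only [← AdG_mul, AdG_coe, ← Finset.mul_sum]
      rw [← mul_assoc, h4]
      congr 1
      rw [Pj, mul_smul_comm, map_smul, smul_eq_mul]
      congr 1
      rw [Finset.mul_sum, map_sum]
      refine Finset.sum_congr rfl fun k _ => ?_
      rw [MonoidHom.one_apply, Units.val_one, inv_one, one_smul, ← AdG_coe, AdG_mul, AdG, trace_Opr,
        trace_matOf, trace_matOf]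
    have h5 : ∑ h : H, ∑ l : M.L, LinearMap.trace ℂ _
        (Jop (M := M) ρ σ * AdG ρ σ ((h : G) * (l : K))) =
        (Nat.card M.L : ℂ) * ∑ h : H, delta H M χ h * delta H M φ h⁻¹ := by
      rw [Finset.sum_comm, Finset.sum_congr rfl fun l _ => h1 l, Finset.sum_const, Finset.card_univ,
        ← Nat.card_eq_fintype_card, nsmul_eq_mul]
    rw [← h5, Finset.sum_congr rfl fun h _ => h3 h, ← Finset.mul_sum, ← Finset.mul_sum]
  rw [mul_right_inj' (Nat.cast_ne_zero.2 Nat.card_pos.ne')] at h2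
  rw [h2, sum_sum_cover hs (fun g => (χ : G → ℂ) g * (φ : G → ℂ) g⁻¹), nsmul_eq_mul]
  have hcount := sum_sum_cover hs (fun _ => (1 : ℂ))
  simp only [Finset.sum_const, Finset.card_univ, nsmul_eq_mul, mul_one,
    ← Nat.card_eq_fintype_card] at hcount
  have horth : ∑ g : G, (χ : G → ℂ) g * (φ : G → ℂ) g⁻¹ =
      if χ = φ then (Nat.card G : ℂ) else 0 := by
    have h6 := classInner_eq_inv_card_sum_inv (χ := (χ : G → ℂ)) (IsIrr.isCharacter φ.2)
    have hG : (Nat.card G : ℂ) ≠ 0 := Nat.cast_ne_zero.2 Nat.card_pos.ne'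
    split_ifs with he
    · subst he
      rw [classInner_self_irr χ.2] at h6
      exact ((inv_mul_eq_one₀ hG).1 h6.symm).symm
    · rw [classInner_irr_ne χ.2 φ.2 fun h => he (Subtype.ext h)] at h6
      exact (mul_eq_zero.1 h6.symm).resolve_left (inv_ne_zero hG)
  rw [horth]
  split_ifs
  · rw [← hcount, mul_comm (Nat.card H : ℂ), inv_mul_cancel_left₀
      (Nat.cast_ne_zero.2 (Nat.card_pos (α := K)).ne')]
  · rw [mul_zero, mul_zero]

variable (H M) in
/-- The plus part, the minus part and the rest. -/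
noncomputable def part (χ : IrrCharacter G) (E : MonoidAlgebra ℂ K) (h : H) : ℂ :=
  (matOf χ (h : G) * kalg (matOf χ) E).trace

theorem part_isChar (χ : IrrCharacter G) {E : MonoidAlgebra ℂ K} (hE : E * E = E)
    (hc : ∀ h ∈ H, tr (MulAut.conjNormal h : K ≃* K) E = E) :
    IsCharacter H (part H χ E) :=
  isChar_idem ((matOf χ).comp H.subtype) _ (by rw [← map_mul, hE]) fun h => by
    show matOf χ (h : G) * _ = _ * matOf χ (h : G)
    rw [kalg_conj, hc _ h.2]

theorem half_idem_add : ((1 : ℂ) / 2) • (M.pp + M.rr) * (((1 : ℂ) / 2) • (M.pp + M.rr)) =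
    ((1 : ℂ) / 2) • (M.pp + M.rr) := by
  rw [smul_mul_smul_comm, add_mul, mul_add, mul_add, M.pp_sq, M.pp_rr, M.rr_pp, M.rr_sq,
    add_comm M.rr M.pp, ← two_smul ℂ, smul_smul]
  norm_num

theorem half_idem_sub : ((1 : ℂ) / 2) • (M.pp - M.rr) * (((1 : ℂ) / 2) • (M.pp - M.rr)) =
    ((1 : ℂ) / 2) • (M.pp - M.rr) := by
  rw [smul_mul_smul_comm, sub_mul, mul_sub, mul_sub, M.pp_sq, M.pp_rr, M.rr_pp, M.rr_sq,
    show M.pp - M.rr - (M.rr - M.pp) = (2 : ℂ) • (M.pp - M.rr) by module, smul_smul]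
  norm_num

theorem part_linear (χ : IrrCharacter G) (a : ℂ) (E F : MonoidAlgebra ℂ K) :
    part H χ (a • E + F) = a • part H χ E + part H χ F := by
  funext h
  simp [part, map_add, map_smul, mul_add, Matrix.trace_add, Matrix.trace_smul]

theorem Sect.parts_isChar (hs : Sect K H M) (χ : IrrCharacter G) :
    IsCharacter H (part H χ (((1 : ℂ) / 2) • (M.pp + M.rr))) ∧
      IsCharacter H (part H χ (((1 : ℂ) / 2) • (M.pp - M.rr))) ∧
      IsCharacter H (part H χ (1 - M.pp)) := by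
  refine ⟨part_isChar χ half_idem_add fun h hh => ?_, part_isChar χ half_idem_sub fun h hh => ?_,
    part_isChar χ ?_ fun h hh => ?_⟩
  · rw [map_smul, map_add, hs.tr_pp hh, hs.tr_rr hh]
  · rw [map_smul, map_sub, hs.tr_pp hh, hs.tr_rr hh]
  · rw [sub_mul, one_mul, mul_sub, mul_one, M.pp_sq, sub_self, sub_zero]
  · rw [map_sub, map_one, hs.tr_pp hh]

theorem Sect.delta_eq (χ : IrrCharacter G) :
    delta H M χ = part H χ (((1 : ℂ) / 2) • (M.pp + M.rr)) -
      part H χ (((1 : ℂ) / 2) • (M.pp - M.rr)) := by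
  funext h
  simp only [part, delta, Pi.sub_apply, ← Matrix.trace_sub, ← mul_sub, ← map_sub, ← smul_sub]
  congr 3
  module

theorem Sect.res_eq (χ : IrrCharacter G) :
    (fun h : H => (χ : G → ℂ) h) = part H χ (((1 : ℂ) / 2) • (M.pp + M.rr)) +
      part H χ (((1 : ℂ) / 2) • (M.pp - M.rr)) + part H χ (1 - M.pp) := by
  funext h
  simp only [part, Pi.add_apply, ← Matrix.trace_add, ← mul_add, ← map_add]
  rw [show ((1 : ℂ) / 2) • (M.pp + M.rr) + ((1 : ℂ) / 2) • (M.pp - M.rr) + (1 - M.pp) = 1 by module,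
    map_one, mul_one, trace_matOf]

theorem Sect.delta_irr (hs : Sect K H M) {χ : IrrCharacter G} (hχ : Good M χ) :
    ∃ (ψ : IrrCharacter H) (ε : ℂ), (ε = 1 ∨ ε = -1) ∧ delta H M χ = ε • (ψ : H → ℂ) := by
  classical
  obtain ⟨hp, hm, -⟩ := hs.parts_isChar χ
  have hg : IsGeneralizedCharacter H (delta H M χ) := ⟨_, _, hp, hm, Sect.delta_eq χ⟩
  have hn : classInner (delta H M χ) (delta H M χ) = 1 := by
    rw [Sect.delta_eq χ, classInner_sub_right,
      classInner_eq_inv_card_sum_inv hp, classInner_eq_inv_card_sum_inv hm, ← mul_sub,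
      ← Finset.sum_sub_distrib, ← Sect.delta_eq χ]
    simp only [← mul_sub]
    have h1 := sum_delta hs hχ hχ
    rw [if_pos rfl] at h1
    rw [Finset.sum_congr rfl (fun h _ => by rw [show part H χ (((1 : ℂ) / 2) • (M.pp + M.rr)) h⁻¹ -
      part H χ (((1 : ℂ) / 2) • (M.pp - M.rr)) h⁻¹ = delta H M χ h⁻¹ from
      (congrFun (Sect.delta_eq χ) h⁻¹).symm]), h1,
      inv_mul_cancel₀ (Nat.cast_ne_zero.2 Nat.card_pos.ne')]
  rcases IsGenChar.norm_one hg hn with h | h
  · exact ⟨⟨_, h⟩, 1, Or.inl rfl, (one_smul _ _).symm⟩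
  · exact ⟨⟨_, h⟩, -1, Or.inr rfl, by simp⟩

end Cfsg.Agent.Char.OddMagic
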