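import Cfsg.Agent.Lib.Char.OddMagicOperator
import Cfsg.Agent.Lib.Char.CharProj

/-!
Radical sections act trivially on the invariant constituents of the bottom of the section.
-/

namespace Cfsg.Agent.Char.OddMagic

open Cfsg Module

set_option linter.unusedSectionVars false
set_option linter.style.haveILetI false

universe u v

variable {K : Type u} [Group K] [Fintype K] {S : Type v} [Group S] [Fintype S] (M : Mag K S)

namespace Mag

/-- The group algebra of the bottom inside the group algebra. -/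
noncomputable def sub : MonoidAlgebra ℂ M.L →ₐ[ℂ] MonoidAlgebra ℂ K :=
  MonoidAlgebra.lift ℂ (MonoidAlgebra ℂ K) M.L ((MonoidAlgebra.of ℂ K).comp M.L.subtype)

theorem sub_el (l : M.L) : M.sub (el l) = el (l : K) := by
  simp [sub, el, MonoidAlgebra.lift_single]

noncomputable instance finD : Fintype M.D := by
  haveI : Finite (K →* ℂˣ) := by
    have h : ∀ m : K →* ℂˣ, ∀ k, (m k : ℂ) ∈ Polynomial.nthRootsFinset (Nat.card K) (1 : ℂ) := by
      intro m k
      rw [Polynomial.mem_nthRootsFinset (Nat.card_pos (α := K)), ← Units.val_pow_eq_pow_val,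
        ← map_pow, pow_card_eq_one', map_one, Units.val_one]
    refine Finite.of_injective (fun m k => (⟨_, h m k⟩ :
      Polynomial.nthRootsFinset (Nat.card K) (1 : ℂ))) fun m m' he => ?_
    ext k
    exact congrArg Subtype.val (congrFun he k)
  exact Fintype.ofFinite _

open Classical in
theorem sum_dual (k : K) : ∑ m : M.D, (((m : K →* ℂˣ) k : ℂˣ) : ℂ) =
    if k ∈ M.L then (Nat.card M.D : ℂ) else 0 := by
  split_ifs with h
  · simp [Finset.sum_congr rfl fun (m : M.D) _ => congrArg (fun z : ℂˣ => (z : ℂ)) (m.2 k h),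
      Nat.card_eq_fintype_card]
  · haveI := M.normal
    obtain ⟨l, hl⟩ : ∃ l : K ⧸ M.L →* ℂˣ, l (QuotientGroup.mk' M.L k) ≠ 1 := by
      by_contra hc
      push Not at hc
      refine h ((QuotientGroup.eq_one_iff k).1 (eq_one_of_forall_linear ?_ hc))
      intro x y
      induction x using QuotientGroup.induction_on with
      | _ a =>
        induction y using QuotientGroup.induction_on with
        | _ b =>
          refine QuotientGroup.eq.2 ?_
          have := M.comm b⁻¹ a⁻¹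
          simpa [mul_assoc] using this
    let m₀ : M.D := ⟨l.comp (QuotientGroup.mk' M.L), fun x hx => by
      show l (QuotientGroup.mk' M.L x) = 1
      rw [QuotientGroup.mk'_apply, (QuotientGroup.eq_one_iff x).2 hx, map_one]⟩
    have hm : (((m₀ : K →* ℂˣ) k : ℂˣ) : ℂ) ≠ 1 := fun h1 => hl (Units.ext h1)
    have h1 : (((m₀ : K →* ℂˣ) k : ℂˣ) : ℂ) * ∑ m : M.D, (((m : K →* ℂˣ) k : ℂˣ) : ℂ) =
        1 * ∑ m : M.D, (((m : K →* ℂˣ) k : ℂˣ) : ℂ) := by
      rw [one_mul, Finset.mul_sum]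
      exact Fintype.sum_equiv (Equiv.mulLeft m₀) _ _ fun m => by simp
    exact (mul_eq_mul_right_iff.1 h1).resolve_left hm

theorem card_D_mul : (Nat.card M.D : ℂ) * (Nat.card M.L : ℂ) = (Nat.card K : ℂ) := by
  classical
  have h1 : ∑ k : K, ∑ m : M.D, (((m : K →* ℂˣ) k : ℂˣ) : ℂ) =
      (Nat.card M.D : ℂ) * (Nat.card M.L : ℂ) := by
    simp only [M.sum_dual]
    rw [← Finset.sum_filter, Finset.sum_const, nsmul_eq_mul, mul_comm,
      show (Finset.univ.filter (· ∈ M.L)).card = Nat.card M.L by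
        rw [Nat.card_eq_fintype_card, Fintype.card_subtype]]
  rw [← h1, Finset.sum_comm, Finset.sum_eq_single (1 : M.D)]
  · simp [Nat.card_eq_fintype_card]
  · intro m _ hm
    exact linear_sum _ fun h => hm (Subtype.ext h)
  · exact fun h => absurd (Finset.mem_univ _) h

theorem sum_L {A : Type*} [AddCommMonoid A] (F : K → A) [DecidablePred (· ∈ M.L)] [Fintype M.L] :
    ∑ k : K, (if k ∈ M.L then F k else 0) = ∑ l : M.L, F l := by
  rw [← Finset.sum_filter]
  exact Finset.sum_subtype _ (by simp) F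

/-- The component of an element in a line. -/
noncomputable def comp (θ : IrrCharacter K) (m : K →* ℂˣ) (a : MonoidAlgebra ℂ K) :
    MonoidAlgebra ℂ K :=
  (Nat.card K : ℂ)⁻¹ • ((∑ k : K, ((m k : ℂˣ) : ℂ)⁻¹ • (el k * a * el k⁻¹)) * blk θ)

theorem comp_line (θ : IrrCharacter K) (m : K →* ℂˣ) (a : MonoidAlgebra ℂ K) :
    InLine θ m (comp θ m a) := by
  refine InLine.smul ⟨by rw [mul_assoc, blk_idem], fun x => ?_⟩ _
  rw [← mul_assoc, mul_assoc _ (blk θ), blk_comm, ← mul_assoc, ← smul_mul_assoc,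
    Finset.mul_sum, Finset.sum_mul _ _ (el x), Finset.smul_sum]
  congr 1
  refine Fintype.sum_equiv (Equiv.mulLeft x) _ _ fun k => ?_
  simp only [Equiv.coe_mulLeft, mul_smul_comm, smul_mul_assoc, smul_smul, map_mul, Units.val_mul,
    mul_inv_rev]
  congr 1
  · field_simp [(m x).ne_zero]
  · rw [← el_mul x k, ← el_mul k⁻¹ x⁻¹]
    simp only [mul_assoc, el_inv_mul, mul_one]

theorem sum_comp (θ : IrrCharacter K) {a : MonoidAlgebra ℂ K}
    (ha : ∀ l ∈ M.L, el l * a = a * el l) :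
    ∑ m : M.D, comp θ (m : K →* ℂˣ) a = a * blk θ := by
  classical
  simp only [comp, ← Finset.smul_sum, ← Finset.sum_mul]
  rw [Finset.sum_comm]
  have h1 : ∀ k : K, ∑ m : M.D, (((m : K →* ℂˣ) k : ℂˣ) : ℂ)⁻¹ • (el k * a * el k⁻¹) =
      (if k ∈ M.L then (Nat.card M.D : ℂ) • a else 0) := by
    intro k
    have h2 : ∑ m : M.D, (((m : K →* ℂˣ) k : ℂˣ) : ℂ)⁻¹ =
        ∑ m : M.D, (((m : K →* ℂˣ) k : ℂˣ) : ℂ) :=
      Fintype.sum_equiv (Equiv.inv M.D) _ _ fun m => by simp
    rw [← Finset.sum_smul, h2, M.sum_dual]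
    split_ifs with h
    · rw [ha k h, mul_assoc, el_mul_inv, mul_one]
    · rw [zero_smul]
  rw [Finset.sum_congr rfl fun k _ => h1 k, ← Finset.sum_filter, Finset.sum_const,
    show (Finset.univ.filter (· ∈ M.L)).card = Nat.card M.L by
      rw [Nat.card_eq_fintype_card, Fintype.card_subtype],
    ← Nat.cast_smul_eq_nsmul ℂ, smul_smul, mul_comm (Nat.card M.L : ℂ), M.card_D_mul,
    smul_mul_assoc, smul_smul, inv_mul_cancel₀ (Nat.cast_ne_zero.2 (Nat.card_pos (α := K)).ne'),
    one_smul]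

theorem rad_commute (θ : M.Fix) {r : M.Lam θ.1} (hr : r ∈ M.rad θ.1) {a : MonoidAlgebra ℂ K}
    (ha : ∀ l ∈ M.L, el l * a = a * el l) :
    M.sg θ r * a * blk θ.1 = a * M.sg θ r * blk θ.1 := by
  have hzb : a * M.sg θ r * blk θ.1 = a * blk θ.1 * M.sg θ r := by
    rw [mul_assoc, mul_assoc, blk_comm]
  rw [mul_assoc, hzb, ← M.sum_comp θ.1 ha, Finset.mul_sum, Finset.sum_mul]
  refine Finset.sum_congr rfl fun m _ => ?_
  by_cases h0 : comp θ.1 (m : K →* ℂˣ) a = 0
  · rw [h0, mul_zero, zero_mul]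
  · have hm : (m : K →* ℂˣ) ∈ M.Lam θ.1 := ⟨m.2, _, h0, comp_line _ _ _⟩
    rw [M.com_spec (b := ⟨_, hm⟩) (M.sg_line θ r) (comp_line _ _ _), hr ⟨_, hm⟩, one_smul]

theorem tr_act_el_mem (s : S) {l : K} (hl : l ∈ M.L) : M.act s l ∈ M.L := M.actL s l hl

/-- A fixed character of the bottom. -/
def FixedL (φ : IrrCharacter M.L) : Prop :=
  ∀ (s : S) (l : M.L), (φ : M.L → ℂ) ⟨M.act s l, M.actL s l l.2⟩ = (φ : M.L → ℂ) l

theorem tr_sub_blk {φ : IrrCharacter M.L} (hφ : M.FixedL φ) (s : S) [Fintype M.L] :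
    tr (M.act s) (M.sub (blk φ)) = M.sub (blk φ) := by
  simp only [blk, map_sum, map_smul, sub_el, tr_el]
  let e : M.L ≃ M.L := Equiv.ofBijective (fun l => ⟨M.act s l, M.actL s l l.2⟩)
    (Finite.injective_iff_bijective.1 fun a b h =>
      Subtype.ext ((M.act s).injective (congrArg Subtype.val h)))
  refine Fintype.sum_equiv e _ _ fun l => ?_
  have h1 := hφ s l⁻¹
  have h2 : (e l)⁻¹ = ⟨M.act s (l⁻¹ : M.L), M.actL s _ (l⁻¹).2⟩ :=
    Subtype.ext (map_inv (M.act s) (l : K)).symm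
  rw [h2, h1]
  rfl

theorem sum_mul_blk [Fintype M.L] (φ : IrrCharacter M.L) {f : M.L → ℂ}
    (hf : IsClassFunction M.L f) : (∑ l : M.L, f l • el l) * blk φ =
      ((∑ l : M.L, f l * (φ : M.L → ℂ) l) / (φ : M.L → ℂ) 1) • blk φ := by
  classical
  refine blk_ext (θ := φ) (by rw [mul_assoc, blk_idem]) (by rw [smul_mul_assoc, blk_idem]) ?_
  rw [map_mul, map_smul, img_blk, if_pos rfl, mul_one, img_sum_classFun φ hf]

/-- Radical sections are trivial on fixed constituents of the bottom. -/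
theorem sg_rad_fixed [Fintype M.L] (θ : M.Fix) {φ : IrrCharacter M.L} (hφ : M.FixedL φ)
    {r : M.Lam θ.1} (hr : r ∈ M.rad θ.1) :
    M.sg θ r * M.sub (blk φ) = M.sub (blk φ) * blk θ.1 := by
  classical
  set f := M.sub (blk φ) with hf
  have hfcomm : ∀ l ∈ M.L, el l * f = f * el l := fun l hl => by
    rw [hf, show el l = M.sub (el ⟨l, hl⟩) from (M.sub_el ⟨l, hl⟩).symm, ← map_mul, ← map_mul,
      blk_comm]
  by_cases hfe : f * blk θ.1 = 0
  · rw [hfe, ← M.sg_blk θ r, mul_assoc, blk_comm, hfe, mul_zero]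
  -- every radical section is a scalar on the component
  have hkey : ∀ q ∈ M.rad θ.1, ∃ c : ℂ, M.sg θ q * f = c • (f * blk θ.1) := by
    intro q hq
    set z := M.sg θ q
    let f₁ : M.L → ℂ := fun l => (θ.1 : K → ℂ) (l : K)⁻¹
    let f₂ : M.L → ℂ := fun l => tv (θ.1 : K → ℂ) (el (l : K)⁻¹ * z)
    have hf₁ : IsClassFunction M.L f₁ := fun a b => by
      show (θ.1 : K → ℂ) (((b * a * b⁻¹ : M.L) : K))⁻¹ = _
      rw [Subgroup.coe_mul, Subgroup.coe_mul, Subgroup.coe_inv,
        show ((b : K) * (a : K) * (b : K)⁻¹)⁻¹ = (b : K) * (a : K)⁻¹ * (b : K)⁻¹ by group,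
        IsIrr.classFun θ.1.2]
    have hf₂ : IsClassFunction M.L f₂ := fun a b => by
      show tv (θ.1 : K → ℂ) (el (((b * a * b⁻¹ : M.L) : K))⁻¹ * z) =
        tv (θ.1 : K → ℂ) (el (a : K)⁻¹ * z)
      rw [Subgroup.coe_mul, Subgroup.coe_mul, Subgroup.coe_inv,
        show ((b : K) * (a : K) * (b : K)⁻¹)⁻¹ = (b : K) * ((a : K)⁻¹ * (b : K)⁻¹) by group,
        ← el_mul, ← el_mul, mul_assoc, tv_mul_comm, mul_assoc, mul_assoc,
        (M.sg_line θ q).commute (k := (b : K)) (q.2.1 b b.2) |>.symm,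
        ← mul_assoc (el (b : K)⁻¹), el_inv_mul, one_mul]
    have hstep : z * M.sub (∑ l : M.L, f₁ l • el l) * blk θ.1 =
        M.sub (∑ l : M.L, f₂ l • el l) * blk θ.1 := by
      have hL : ∀ g : K, ∀ x ∈ M.L, el x * (∑ l : M.L, el (l : K) * el g * el (l : K)⁻¹) =
          (∑ l : M.L, el (l : K) * el g * el (l : K)⁻¹) * el x := by
        intro g x hx
        rw [Finset.mul_sum, Finset.sum_mul]
        refine Fintype.sum_equiv (Equiv.mulLeft (⟨x, hx⟩ : M.L)) _ _ fun l => ?_
        simp only [Equiv.coe_mulLeft, Subgroup.coe_mul, el_mul]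
        congr 1
        group
      have h1 : ∑ g : K, z * (∑ l : M.L, el (l : K) * el g * el (l : K)⁻¹) * blk θ.1 * el g⁻¹ =
          ∑ g : K, (∑ l : M.L, el (l : K) * el g * el (l : K)⁻¹) * z * blk θ.1 * el g⁻¹ :=
        Finset.sum_congr rfl fun g _ => by rw [M.rad_commute θ hq (hL g)]
      have hl : ∀ l : M.L, z * el (l : K) = el (l : K) * z := fun l =>
        ((M.sg_line θ q).commute (q.2.1 l l.2)).symm
      have h2 : ∑ g : K, z * (∑ l : M.L, el (l : K) * el g * el (l : K)⁻¹) * blk θ.1 * el g⁻¹ =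
          ((Nat.card K : ℂ) / (θ.1 : K → ℂ) 1) • (z * M.sub (∑ l : M.L, f₁ l • el l) * blk θ.1) := by
        have hg : ∀ g : K, z * (∑ l : M.L, el (l : K) * el g * el (l : K)⁻¹) * blk θ.1 * el g⁻¹ =
            ∑ l : M.L, z * (el (l : K) * ((el g * el (l : K)⁻¹ * el g⁻¹) * blk θ.1)) := by
          intro g
          rw [mul_assoc _ (blk θ.1), blk_comm, ← mul_assoc, Finset.mul_sum, Finset.sum_mul,
            Finset.sum_mul]
          simp only [mul_assoc]
        rw [Finset.sum_congr rfl fun g _ => hg g, Finset.sum_comm]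
        simp only [← Finset.mul_sum, ← Finset.sum_mul, conj_sum, tv_el, mul_smul_comm]
        rw [map_sum, Finset.mul_sum, Finset.sum_mul, Finset.smul_sum]
        refine Finset.sum_congr rfl fun l _ => ?_
        rw [map_smul, sub_el, mul_smul_comm, smul_mul_assoc, smul_smul, mul_assoc]
        congr 1
        ring
      have h3 : ∑ g : K, (∑ l : M.L, el (l : K) * el g * el (l : K)⁻¹) * z * blk θ.1 * el g⁻¹ =
          ((Nat.card K : ℂ) / (θ.1 : K → ℂ) 1) • (M.sub (∑ l : M.L, f₂ l • el l) * blk θ.1) := by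
        have hg : ∀ g : K, (∑ l : M.L, el (l : K) * el g * el (l : K)⁻¹) * z * blk θ.1 * el g⁻¹ =
            ∑ l : M.L, el (l : K) * ((el g * (el (l : K)⁻¹ * z) * el g⁻¹) * blk θ.1) := by
          intro g
          rw [mul_assoc _ (blk θ.1), blk_comm, ← mul_assoc, Finset.sum_mul, Finset.sum_mul,
            Finset.sum_mul]
          simp only [mul_assoc]
        rw [Finset.sum_congr rfl fun g _ => hg g, Finset.sum_comm]
        simp only [← Finset.mul_sum, ← Finset.sum_mul, conj_sum, mul_smul_comm]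
        rw [map_sum, Finset.sum_mul, Finset.smul_sum]
        refine Finset.sum_congr rfl fun l _ => ?_
        rw [map_smul, sub_el, smul_mul_assoc, smul_smul]
        congr 1
        ring
      rw [h2, h3] at h1
      exact smul_right_injective _ (div_ne_zero
        (Nat.cast_ne_zero.2 (Nat.card_pos (α := K)).ne') (IsIrr.one_ne_zero θ.1.2)) h1
    have hc₁ : ∑ l : M.L, f₁ l * (φ : M.L → ℂ) l ≠ 0 := by
      intro h0
      refine hfe (blk_ext (θ := θ.1) (by rw [mul_assoc, blk_idem]) (zero_mul _) ?_)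
      rw [map_zero, map_mul, img_blk, if_pos rfl, mul_one]
      have hidem : IsIdempotentElem (img θ.1 f) := by
        show img θ.1 f * img θ.1 f = img θ.1 f
        rw [← map_mul, hf, ← map_mul M.sub, blk_idem]
      have htr : LinearMap.trace ℂ _ (img θ.1 f) = 0 := by
        rw [tv_img, hf, blk, map_sum, map_sum]
        simp only [map_smul, sub_el, tv_el, smul_eq_mul]
        have : ∑ l : M.L, (φ : M.L → ℂ) 1 / (Nat.card M.L : ℂ) * (φ : M.L → ℂ) l⁻¹ *
            (θ.1 : K → ℂ) l = (φ : M.L → ℂ) 1 / (Nat.card M.L : ℂ) *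
              ∑ l : M.L, f₁ l * (φ : M.L → ℂ) l := by
          rw [Finset.mul_sum]
          refine Fintype.sum_equiv (Equiv.inv M.L) _ _ fun l => ?_
          simp only [Equiv.inv_apply, f₁, Subgroup.coe_inv, inv_inv]
          ring
        rw [this, h0, mul_zero]
      obtain ⟨p, hp⟩ := (LinearMap.isProj_range_iff_isIdempotentElem _).2 hidem
      have h5 := LinearMap.IsProj.trace ((LinearMap.isProj_range_iff_isIdempotentElem _).2 hidem)
      rw [htr] at h5
      have h6 : finrank ℂ (LinearMap.range (img θ.1 f)) = 0 := by exact_mod_cast h5.symm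
      rwa [Submodule.finrank_eq_zero, LinearMap.range_eq_bot] at h6
    have h4 := congrArg (fun x => x * f) hstep
    simp only [mul_assoc, blk_comm θ.1 f] at h4
    simp only [← mul_assoc] at h4
    rw [mul_assoc z, hf, ← map_mul, ← map_mul, M.sum_mul_blk φ hf₁, M.sum_mul_blk φ hf₂, map_smul,
      map_smul, ← hf, mul_smul_comm, smul_mul_assoc, smul_mul_assoc, mul_assoc, ← blk_comm θ.1 f,
      ← mul_assoc, M.sg_blk, blk_comm θ.1 f] at h4
    set c₁ := (∑ l : M.L, f₁ l * (φ : M.L → ℂ) l) / (φ : M.L → ℂ) 1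
    set c₂ := (∑ l : M.L, f₂ l * (φ : M.L → ℂ) l) / (φ : M.L → ℂ) 1
    refine ⟨c₁⁻¹ * c₂, ?_⟩
    rw [← smul_smul, ← h4, smul_smul,
      inv_mul_cancel₀ (div_ne_zero hc₁ (IsIrr.one_ne_zero φ.2)), one_smul]
  choose c hc using fun q : M.rad θ.1 => hkey q.1 q.2
  have hinj := smul_left_injective ℂ hfe
  have hcmul : ∀ q q' : M.rad θ.1, c (q * q') = c q * c q' := by
    intro q q'
    refine hinj ?_
    have h1 : M.sg θ (q * q' : M.rad θ.1).1 * f = M.sg θ q.1 * (M.sg θ q'.1 * f) := by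
      rw [← mul_assoc, M.sg_mul, M.cc_rad_left q'.2, one_smul]
      rfl
    show c (q * q') • (f * blk θ.1) = (c q * c q') • (f * blk θ.1)
    rw [← hc, h1, hc, mul_smul_comm, ← mul_assoc, hc, smul_mul_assoc, mul_assoc, blk_idem,
      smul_smul, mul_comm]
  have hc1 : c 1 = 1 := by
    refine hinj ?_
    show c 1 • (f * blk θ.1) = (1 : ℂ) • (f * blk θ.1)
    rw [← hc, OneMemClass.coe_one, M.sg_one, blk_comm, one_smul]
  let chom : M.rad θ.1 →* ℂ := { toFun := c, map_one' := hc1, map_mul' := hcmul }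
  let act : S → M.rad θ.1 → M.rad θ.1 := fun s q =>
    ⟨(M.actCompat s).lam M (θ.2 s) q.1, (Compat.mem_rad_iff M (M.actCompat s) (θ.2 s) q.1).2 q.2⟩
  have hcact : ∀ s q, c (act s q) = c q := by
    intro s q
    refine hinj ?_
    show c (act s q) • (f * blk θ.1) = c q • (f * blk θ.1)
    have h1 := congrArg (tr (M.act s)) (hc q)
    rw [map_smul, map_mul, map_mul, tr_blk _ (θ.2 s), hf, M.tr_sub_blk hφ, ← hf] at h1
    rw [← h1, ← hc]
    show _ = tr (M.act s) (M.sg θ q.1) * f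
    rw [show tr (M.act s) (M.sg θ q.1) = M.sg θ ((M.actCompat s).lam M (θ.2 s) q.1) from
      Compat.tr_sg M (M.actCompat s) (θ.2 s) q.1]
  set q : M.rad θ.1 := ⟨r, hr⟩
  have hprod : (∏ s : S, act s q) = 1 := by
    have hmem : ((((∏ s : S, act s q : M.rad θ.1) : M.Lam θ.1) : K →* ℂˣ)) ∈ M.D :=
      (∏ s : S, act s q : M.rad θ.1).1.2.1
    refine Subtype.ext (Subtype.ext (M.fixed_eq_one hmem fun t => ?_))
    have h2 : (M.actCompat t).lam M (θ.2 t) (∏ s : S, act s q : M.rad θ.1).1 =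
        (∏ s : S, act s q : M.rad θ.1).1 := by
      rw [SubmonoidClass.coe_finsetProd, map_prod]
      refine Fintype.prod_equiv (Equiv.mulLeft t) _ _ fun s => ?_
      refine Subtype.ext (MonoidHom.ext fun k => ?_)
      show (r : K →* ℂˣ) ((M.act s).symm ((M.act t).symm k)) = (r : K →* ℂˣ) ((M.act (t * s)).symm k)
      rw [map_mul]
      rfl
    exact congrArg (fun x : M.Lam θ.1 => (x : K →* ℂˣ)) h2
  have h3 : c q ^ Fintype.card S = 1 := by
    have h4 : chom (∏ s : S, act s q) = chom 1 := by rw [hprod]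
    rw [map_prod, map_one] at h4
    simpa [chom, hcact] using h4
  have h4 : c q ^ Nat.card K = 1 := by
    have h5 : chom (q ^ Nat.card K) = chom 1 :=
      congrArg chom (Subtype.ext (M.pow_card_lam q.1))
    rwa [map_pow, map_one] at h5
  have h5 := Nat.dvd_gcd (orderOf_dvd_of_pow_eq_one h4) (orderOf_dvd_of_pow_eq_one h3)
  rw [← Nat.card_eq_fintype_card, M.coprime, Nat.dvd_one, orderOf_eq_one_iff] at h5
  rw [show M.sg θ r * f = c q • (f * blk θ.1) from hc q, h5, one_smul]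

/-- The averaged radical section is trivial on fixed constituents of the bottom. -/
theorem pr_fixed [Fintype M.L] (θ : M.Fix) {φ : IrrCharacter M.L} (hφ : M.FixedL φ) :
    M.pr θ * M.sub (blk φ) = M.sub (blk φ) * blk θ.1 := by
  classical
  rw [pr, smul_mul_assoc, Finset.sum_mul,
    Finset.sum_congr rfl fun r hr => M.sg_rad_fixed θ hφ (Finset.mem_filter.1 hr).2,
    Finset.sum_const, ← Nat.cast_smul_eq_nsmul ℂ, smul_smul,
    show (Finset.univ.filter (· ∈ M.rad θ.1)).card = Nat.card (M.rad θ.1) by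
      rw [Nat.card_eq_fintype_card, Fintype.card_subtype],
    inv_mul_cancel₀ (Nat.cast_ne_zero.2 Nat.card_pos.ne'), one_smul]

end Mag

end Cfsg.Agent.Char.OddMagic
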