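import Cfsg.Agent.Lib.Char.OddMagicFixed

/-!
The global involutive operator over all fixed characters, and twists between fixed characters.
-/

namespace Cfsg.Agent.Char.OddMagic

open Cfsg Module

set_option linter.unusedSectionVars false
set_option linter.style.haveILetI false

universe u v

variable {K : Type u} [Group K] [Fintype K] {S : Type v} [Group S] [Fintype S] (M : Mag K S)

namespace Mag

noncomputable instance : Fintype M.Fix := Fintype.ofFinite _

/-- The idempotent of the fixed characters. -/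
noncomputable def eF : MonoidAlgebra ℂ K := ∑ θ : M.Fix, blk θ.1

/-- The global operator. -/
noncomputable def rr : MonoidAlgebra ℂ K := ∑ θ : M.Fix, M.op θ

/-- Its square. -/
noncomputable def pp : MonoidAlgebra ℂ K := ∑ θ : M.Fix, M.pr θ

theorem sum_mul_blk_fix (f : M.Fix → MonoidAlgebra ℂ K) (hf : ∀ θ, f θ * blk θ.1 = f θ)
    (θ : M.Fix) : (∑ θ, f θ) * blk θ.1 = f θ := by
  classical
  rw [Finset.sum_mul, Finset.sum_eq_single θ]
  · exact hf θ
  · intro b _ hb
    rw [← hf b, mul_assoc, blk_orth fun h => hb (Subtype.ext h), mul_zero]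
  · exact fun h => absurd (Finset.mem_univ _) h

theorem rr_blk (θ : M.Fix) : M.rr * blk θ.1 = M.op θ := M.sum_mul_blk_fix _ M.op_blk θ

theorem pp_blk (θ : M.Fix) : M.pp * blk θ.1 = M.pr θ := M.sum_mul_blk_fix _ M.pr_blk θ

theorem rr_eF : M.rr * M.eF = M.rr := by
  rw [eF, Finset.mul_sum]; exact Finset.sum_congr rfl fun θ _ => M.rr_blk θ

theorem eF_comm (a : MonoidAlgebra ℂ K) : M.eF * a = a * M.eF := by
  rw [eF, Finset.sum_mul, Finset.mul_sum]; exact Finset.sum_congr rfl fun θ _ => blk_comm _ _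

theorem rr_sq : M.rr * M.rr = M.pp := by
  conv_lhs => arg 2; rw [rr]
  rw [Finset.mul_sum]
  refine Finset.sum_congr rfl fun θ _ => ?_
  rw [← M.op_blk θ, ← mul_assoc, mul_assoc M.rr, M.op_blk θ,
    show M.rr * M.op θ = M.op θ * M.op θ by
      rw [← M.op_blk θ, ← blk_comm, ← mul_assoc, M.rr_blk, blk_comm, M.op_blk], M.op_sq]

theorem pp_rr : M.pp * M.rr = M.rr := by
  conv_lhs => arg 2; rw [rr]
  rw [Finset.mul_sum]
  refine Finset.sum_congr rfl fun θ _ => ?_
  rw [← M.op_blk θ, ← blk_comm, ← mul_assoc, M.pp_blk, blk_comm, M.op_blk, M.pr_op]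

theorem rr_pp : M.rr * M.pp = M.rr := by
  rw [← M.rr_sq, ← mul_assoc, M.rr_sq, M.pp_rr]

theorem pp_sq : M.pp * M.pp = M.pp := by
  rw [show M.pp * M.pp = (M.rr * M.rr) * M.pp by rw [M.rr_sq], mul_assoc, M.rr_pp, M.rr_sq]

theorem rr_comm_el {l : K} (hl : l ∈ M.L) : el l * M.rr = M.rr * el l := by
  rw [rr, Finset.mul_sum, Finset.sum_mul]
  exact Finset.sum_congr rfl fun θ _ => M.op_comm_el θ hl

theorem pp_comm_el {l : K} (hl : l ∈ M.L) : el l * M.pp = M.pp * el l := by
  rw [pp, Finset.mul_sum, Finset.sum_mul]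
  exact Finset.sum_congr rfl fun θ _ => M.pr_comm_el θ hl

theorem pp_fixed [Fintype M.L] {φ : IrrCharacter M.L} (hφ : M.FixedL φ) :
    M.pp * M.sub (blk φ) = M.sub (blk φ) * M.eF := by
  rw [pp, eF, Finset.sum_mul, Finset.mul_sum]
  exact Finset.sum_congr rfl fun θ _ => M.pr_fixed θ hφ

/-- The image of a fixed character under a compatible automorphism. -/
noncomputable def Compat.fixMap (c : M.Compat) (θ : M.Fix) : M.Fix :=
  ⟨⟨fun k => (θ.1 : K → ℂ) (c.f.symm k),
      IsIrr.comp_surjective c.f.symm.toMonoidHom c.f.symm.surjective θ.1.2⟩,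
    fun s k => by
      show (θ.1 : K → ℂ) (c.f.symm (M.act s k)) = (θ.1 : K → ℂ) (c.f.symm k)
      have h := (Compat.symm M c).comm s k
      rw [show (Compat.symm M c).f = c.f.symm from rfl] at h
      rw [h]
      exact θ.2 _ _⟩

theorem Compat.fixMap_maps (c : M.Compat) (θ : M.Fix) : Maps c.f θ.1 (c.fixMap M θ).1 := fun k => by
  show (θ.1 : K → ℂ) (c.f.symm (c.f k)) = _
  rw [MulEquiv.symm_apply_apply]

theorem Compat.fixMap_bijective (c : M.Compat) : Function.Bijective (c.fixMap M) := by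
  refine Finite.injective_iff_bijective.1 fun a b h => Subtype.ext (Subtype.ext (funext fun k => ?_))
  have h1 := congrArg (fun x : M.Fix => (x.1 : K → ℂ) (c.f k)) h
  simpa [Compat.fixMap] using h1

theorem Compat.tr_eF (c : M.Compat) : tr c.f M.eF = M.eF := by
  rw [eF, map_sum]
  exact Fintype.sum_bijective _ (Compat.fixMap_bijective M c) _ _ fun θ =>
    tr_blk _ (Compat.fixMap_maps M c θ)

theorem Compat.tr_rr (c : M.Compat) : tr c.f M.rr = M.rr := by
  rw [rr, map_sum]
  exact Fintype.sum_bijective _ (Compat.fixMap_bijective M c) _ _ fun θ =>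
    Compat.tr_op M c (Compat.fixMap_maps M c θ)

theorem Compat.tr_pp (c : M.Compat) : tr c.f M.pp = M.pp := by
  rw [pp, map_sum]
  exact Fintype.sum_bijective _ (Compat.fixMap_bijective M c) _ _ fun θ =>
    Compat.tr_pr M c (Compat.fixMap_maps M c θ)

theorem mem_of_coprime_pow {A : Type*} [Group A] {St : Subgroup A} {a : A} {i j : ℕ}
    (hij : i.Coprime j) (hi : a ^ i = 1) (hj : a ^ j ∈ St) : a ∈ St := by
  have h : a = (a ^ i) ^ i.gcdA j * (a ^ j) ^ i.gcdB j := by
    rw [← zpow_natCast a i, ← zpow_natCast a j, ← zpow_mul, ← zpow_mul, ← zpow_add,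
      ← Nat.gcd_eq_gcd_ab, hij, Nat.cast_one, zpow_one]
  rw [h, hi, one_zpow, one_mul]
  exact zpow_mem hj _

/-- A twist between two fixed characters by a character of the section is trivial. -/
theorem twist_fix {θ φ : M.Fix} {m : K →* ℂˣ} (hm : m ∈ M.D)
    (h : ∀ k, (φ.1 : K → ℂ) k * ((m k : ℂˣ) : ℂ) = (θ.1 : K → ℂ) k) :
    θ = φ ∧ m ∈ M.Lam θ.1 := by
  let St : Subgroup (K →* ℂˣ) :=
    { carrier := {n | ∀ k, (φ.1 : K → ℂ) k * ((n k : ℂˣ) : ℂ) = (φ.1 : K → ℂ) k}
      one_mem' := fun k => by simp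
      mul_mem' := fun {a b} ha hb k => by
        rw [MonoidHom.mul_apply, Units.val_mul, ← mul_assoc, ha k, hb k]
      inv_mem' := fun {a} ha k => by
        rw [MonoidHom.inv_apply, Units.val_inv_eq_inv_val]
        conv_lhs => rw [← ha k]
        rw [mul_assoc, mul_inv_cancel₀ (a k).ne_zero, mul_one] }
  have hst : ∀ s : S, m⁻¹ * push (M.act s) m ∈ St := by
    intro s k
    have h1 := h ((M.act s).symm k)
    have hφ : (φ.1 : K → ℂ) ((M.act s).symm k) = (φ.1 : K → ℂ) k := by
      conv_rhs => rw [← MulEquiv.apply_symm_apply (M.act s) k, φ.2 s]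
    have hθ : (θ.1 : K → ℂ) ((M.act s).symm k) = (θ.1 : K → ℂ) k := by
      conv_rhs => rw [← MulEquiv.apply_symm_apply (M.act s) k, θ.2 s]
    rw [hφ, hθ, ← h k] at h1
    rw [MonoidHom.mul_apply, MonoidHom.inv_apply, Units.val_mul, Units.val_inv_eq_inv_val,
      push_apply, ← mul_assoc, mul_right_comm, h1, mul_assoc, mul_inv_cancel₀ (m k).ne_zero,
      mul_one]
  have hN : ∏ s : S, push (M.act s) m = 1 := by
    refine M.fixed_eq_one (Subgroup.prod_mem _ fun s _ => Compat.push_mem M (M.actCompat s) hm)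
      fun t => MonoidHom.ext fun k => ?_
    rw [push_apply, MonoidHom.finsetProd_apply, MonoidHom.finsetProd_apply]
    refine Fintype.prod_equiv (Equiv.mulLeft t) _ _ fun s => ?_
    rw [Equiv.coe_mulLeft, push_apply, push_apply, map_mul]
    rfl
  have hpow : m ^ Fintype.card S ∈ St := by
    have h2 : ∏ s : S, (m⁻¹ * push (M.act s) m) ∈ St := Subgroup.prod_mem _ fun s _ => hst s
    rw [Finset.prod_mul_distrib, hN] at h2
    convert inv_mem h2 using 1
    ext k
    simp
  have hmSt : m ∈ St := mem_of_coprime_pow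
    (M.coprime) (pow_card_hom m) (by rwa [Nat.card_eq_fintype_card])
  have he : θ = φ := by
    refine Subtype.ext (Subtype.ext (funext fun k => ?_))
    rw [← h k, hmSt k]
  subst he
  exact ⟨rfl, hm, exists_line θ.1 m hmSt⟩

end Mag

end Cfsg.Agent.Char.OddMagic
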