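import Cfsg.Agent.Lib.Char.OddMagicAlgebra

/-!
Eigenlines in the centralizer of a normal subgroup inside one block of the group algebra, for an
abelian section, and their commutator pairing.
-/

namespace Cfsg.Agent.Char.OddMagic

open Cfsg Module

set_option linter.unusedSectionVars false
set_option linter.style.haveILetI false

universe u v

variable {K : Type u} [Group K] [Fintype K]

/-- An eigenvector for conjugation, inside a block. -/
def InLine (θ : IrrCharacter K) (m : K →* ℂˣ) (a : MonoidAlgebra ℂ K) : Prop :=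
  a * blk θ = a ∧ ∀ k : K, el k * a = ((m k : ℂˣ) : ℂ) • (a * el k)

theorem inLine_zero (θ : IrrCharacter K) (m : K →* ℂˣ) : InLine θ m 0 :=
  ⟨zero_mul _, fun k => by simp⟩

theorem inLine_blk (θ : IrrCharacter K) : InLine θ 1 (blk θ) :=
  ⟨blk_idem θ, fun k => by rw [MonoidHom.one_apply, Units.val_one, one_smul, blk_comm]⟩

theorem InLine.smul {θ : IrrCharacter K} {m : K →* ℂˣ} {a : MonoidAlgebra ℂ K}
    (h : InLine θ m a) (c : ℂ) : InLine θ m (c • a) :=
  ⟨by rw [smul_mul_assoc, h.1], fun k => by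
    rw [mul_smul_comm, h.2, smul_mul_assoc, smul_comm]⟩

theorem InLine.mul {θ : IrrCharacter K} {m m' : K →* ℂˣ} {a b : MonoidAlgebra ℂ K}
    (ha : InLine θ m a) (hb : InLine θ m' b) : InLine θ (m * m') (a * b) :=
  ⟨by rw [mul_assoc, hb.1], fun k => by
    rw [← mul_assoc, ha.2, smul_mul_assoc, mul_assoc, hb.2, mul_smul_comm, smul_smul,
      MonoidHom.mul_apply, Units.val_mul, mul_assoc]⟩

theorem InLine.commute {θ : IrrCharacter K} {m : K →* ℂˣ} {a : MonoidAlgebra ℂ K}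
    (h : InLine θ m a) {k : K} (hk : m k = 1) : el k * a = a * el k := by
  rw [h.2, hk, Units.val_one, one_smul]

theorem InLine.conj_eq {θ : IrrCharacter K} {m : K →* ℂˣ} {a : MonoidAlgebra ℂ K}
    (h : InLine θ m a) (k : K) : el k * a * el k⁻¹ = ((m k : ℂˣ) : ℂ) • a := by
  rw [h.2, smul_mul_assoc, mul_assoc, el_mul_inv, mul_one]

theorem InLine.mul_el {θ : IrrCharacter K} {m : K →* ℂˣ} {a : MonoidAlgebra ℂ K}
    (h : InLine θ m a) (k : K) : a * el k = ((m k : ℂˣ) : ℂ)⁻¹ • (el k * a) := by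
  rw [h.2, smul_smul, inv_mul_cancel₀ (m k).ne_zero, one_smul]

theorem blk_ne_zero (θ : IrrCharacter K) : blk θ ≠ (0 : MonoidAlgebra ℂ K) := by
  classical
  intro h
  have h1 := congrArg (fun a => tv (θ : K → ℂ) (a * 1)) h
  simp only [zero_mul, map_zero] at h1
  rw [tv_blk_left, if_pos rfl, ← el_one, tv_el] at h1
  exact IsIrr.one_ne_zero θ.2 h1

/-- Elements commuting with the whole group are scalars in the block. -/
theorem inLine_one_scalar {θ : IrrCharacter K} {a : MonoidAlgebra ℂ K} (h : InLine θ 1 a) :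
    ∃ c : ℂ, a = c • blk θ := by
  refine ⟨(Nat.card K : ℂ)⁻¹ * ((Nat.card K : ℂ) * tv (θ : K → ℂ) a / (θ : K → ℂ) 1), ?_⟩
  have h1 := conj_sum θ a
  simp only [h.conj_eq, MonoidHom.one_apply, Units.val_one, one_smul, Finset.sum_const,
    Finset.card_univ, smul_mul_assoc, h.1] at h1
  rw [← Nat.card_eq_fintype_card, ← Nat.cast_smul_eq_nsmul ℂ] at h1
  rw [← smul_smul, ← h1, smul_smul,
    inv_mul_cancel₀ (Nat.cast_ne_zero.2 (Nat.card_pos (α := K)).ne'), one_smul]

theorem InLine.exists_inv {θ : IrrCharacter K} {m : K →* ℂˣ} {a : MonoidAlgebra ℂ K}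
    (h : InLine θ m a) (h0 : a ≠ 0) :
    ∃ b, InLine θ m⁻¹ b ∧ a * b = blk θ ∧ b * a = blk θ := by
  obtain ⟨g, hg⟩ := exists_tv_ne_zero θ h.1 h0
  set b₀ := (∑ k : K, ((m k : ℂˣ) : ℂ) • (el k * el g * el k⁻¹)) * blk θ with hb₀
  have hb₀line : InLine θ m⁻¹ b₀ := by
    refine ⟨by rw [hb₀, mul_assoc, blk_idem], fun x => ?_⟩
    rw [hb₀, ← mul_assoc, mul_assoc _ (blk θ), blk_comm, ← mul_assoc, ← smul_mul_assoc,
      Finset.mul_sum, Finset.sum_mul _ _ (el x), Finset.smul_sum]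
    congr 1
    refine Fintype.sum_equiv (Equiv.mulLeft x) _ _ fun k => ?_
    simp only [Equiv.coe_mulLeft, mul_smul_comm, smul_mul_assoc, smul_smul, el_mul,
      MonoidHom.inv_apply, map_mul, Units.val_mul, mul_inv_rev, Units.val_inv_eq_inv_val]
    congr 1
    · field_simp [(m x).ne_zero]
    · congr 1; group
  have hab : a * b₀ = ((Nat.card K : ℂ) * tv (θ : K → ℂ) (a * el g) / (θ : K → ℂ) 1) • blk θ := by
    rw [← conj_sum, hb₀, ← mul_assoc, Finset.mul_sum]
    congr 1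
    refine Finset.sum_congr rfl fun k _ => ?_
    rw [mul_smul_comm, ← mul_assoc, ← mul_assoc, h.mul_el, smul_mul_assoc, smul_mul_assoc,
      smul_smul, mul_inv_cancel₀ (m k).ne_zero, one_smul, mul_assoc (el k) a]
  set c := (Nat.card K : ℂ) * tv (θ : K → ℂ) (a * el g) / (θ : K → ℂ) 1
  have hc : c ≠ 0 := div_ne_zero (mul_ne_zero (Nat.cast_ne_zero.2 (Nat.card_pos (α := K)).ne') hg)
    (IsIrr.one_ne_zero θ.2)
  refine ⟨c⁻¹ • b₀, hb₀line.smul _, ?_, ?_⟩
  · rw [mul_smul_comm, hab, smul_smul, inv_mul_cancel₀ hc, one_smul]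
  have hab' : a * (c⁻¹ • b₀) = blk θ := by
    rw [mul_smul_comm, hab, smul_smul, inv_mul_cancel₀ hc, one_smul]
  have hba := (hb₀line.smul c⁻¹).mul h
  rw [show m⁻¹ * m = 1 from inv_mul_cancel m] at hba
  obtain ⟨d, hd⟩ := inLine_one_scalar hba
  have h2 : d • a = (1 : ℂ) • a := by
    rw [one_smul]
    conv_rhs => rw [← h.1, ← blk_comm, ← hab', mul_assoc, hd, mul_smul_comm, h.1]
  rw [hd, smul_left_injective ℂ h0 h2, one_smul]

theorem InLine.mul_ne_zero' {θ : IrrCharacter K} {m m' : K →* ℂˣ} {a b : MonoidAlgebra ℂ K}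
    (ha : InLine θ m a) (hb : InLine θ m' b) (ha0 : a ≠ 0) (hb0 : b ≠ 0) : a * b ≠ 0 := by
  intro h
  obtain ⟨a', -, -, ha'⟩ := ha.exists_inv ha0
  refine hb0 ?_
  rw [← hb.1, ← blk_comm, ← ha', mul_assoc, h, mul_zero]

/-- Lines are one-dimensional. -/
theorem InLine.unique {θ : IrrCharacter K} {m : K →* ℂˣ} {a b : MonoidAlgebra ℂ K}
    (ha : InLine θ m a) (hb : InLine θ m b) (ha0 : a ≠ 0) : ∃ c : ℂ, b = c • a := by
  obtain ⟨a', hl, ha', -⟩ := ha.exists_inv ha0
  have h1 := hl.mul hb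
  rw [show m⁻¹ * m = 1 from inv_mul_cancel m] at h1
  obtain ⟨c, hc⟩ := inLine_one_scalar h1
  exact ⟨c, by rw [← hb.1, ← blk_comm, ← ha', mul_assoc, hc, mul_smul_comm, ha.1]⟩

/-- A character fixed by a linear twist has a nonzero line. -/
theorem exists_line (θ : IrrCharacter K) (m : K →* ℂˣ)
    (h : ∀ k, (θ : K → ℂ) k * ((m k : ℂˣ) : ℂ) = (θ : K → ℂ) k) :
    ∃ a, a ≠ 0 ∧ InLine θ m a := by
  have hline : ∀ g : K, InLine θ m
      ((∑ k : K, ((m k : ℂˣ) : ℂ)⁻¹ • (el k * el g * el k⁻¹)) * blk θ) := by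
    intro g
    refine ⟨by rw [mul_assoc, blk_idem], fun x => ?_⟩
    rw [← mul_assoc, mul_assoc _ (blk θ), blk_comm, ← mul_assoc, ← smul_mul_assoc,
      Finset.mul_sum, Finset.sum_mul _ _ (el x), Finset.smul_sum]
    congr 1
    refine Fintype.sum_equiv (Equiv.mulLeft x) _ _ fun k => ?_
    simp only [Equiv.coe_mulLeft, mul_smul_comm, smul_mul_assoc, smul_smul, el_mul, map_mul,
      Units.val_mul, mul_inv_rev]
    congr 1
    · field_simp [(m x).ne_zero]
    · congr 1; group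
  by_contra hc
  push Not at hc
  have h0 : ∀ g : K, (∑ k : K, ((m k : ℂˣ) : ℂ)⁻¹ • (el k * el g * el k⁻¹)) * blk θ = 0 :=
    fun g => by_contra fun hne => hc _ hne (hline g)
  have h1 : ∑ g : K, (∑ k : K, ((m k : ℂˣ) : ℂ)⁻¹ • (el k * el g * el k⁻¹)) * blk θ * el g⁻¹ = 0 :=
    Finset.sum_eq_zero fun g _ => by rw [h0 g, zero_mul]
  have h2 : ∑ g : K, (∑ k : K, ((m k : ℂˣ) : ℂ)⁻¹ • (el k * el g * el k⁻¹)) * blk θ * el g⁻¹ =
      ∑ k : K, ((m k : ℂˣ) : ℂ)⁻¹ • (el k * ((∑ g : K, el g * el k⁻¹ * el g⁻¹) * blk θ)) := by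
    have : ∀ g : K, (∑ k : K, ((m k : ℂˣ) : ℂ)⁻¹ • (el k * el g * el k⁻¹)) * blk θ * el g⁻¹ =
        ∑ k : K, ((m k : ℂˣ) : ℂ)⁻¹ • (el k * ((el g * el k⁻¹ * el g⁻¹) * blk θ)) := by
      intro g
      rw [mul_assoc, blk_comm, ← mul_assoc, Finset.sum_mul, Finset.sum_mul]
      simp only [smul_mul_assoc, mul_assoc]
    rw [Finset.sum_congr rfl fun g _ => this g, Finset.sum_comm]
    simp only [Finset.sum_mul, Finset.mul_sum, Finset.smul_sum]
  rw [h2] at h1
  simp only [conj_sum, tv_el, mul_smul_comm, smul_smul] at h1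
  have hK : (Nat.card K : ℂ) ≠ 0 := Nat.cast_ne_zero.2 (Nat.card_pos (α := K)).ne'
  have h3 : ∑ k : K, (((m k : ℂˣ) : ℂ)⁻¹ * ((Nat.card K : ℂ) * (θ : K → ℂ) k⁻¹ / (θ : K → ℂ) 1)) •
      (el k * blk θ) = ((Nat.card K : ℂ) / (θ : K → ℂ) 1) ^ 2 • blk θ := by
    conv_rhs => rw [← blk_idem θ]; arg 2; arg 1; rw [blk]
    rw [Finset.sum_mul, Finset.smul_sum]
    refine Finset.sum_congr rfl fun k _ => ?_
    rw [smul_mul_assoc, smul_smul]
    congr 1
    have h4 := h k⁻¹
    rw [map_inv, Units.val_inv_eq_inv_val] at h4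
    have h5 := IsIrr.one_ne_zero θ.2
    rw [show ((m k : ℂˣ) : ℂ)⁻¹ * ((Nat.card K : ℂ) * (θ : K → ℂ) k⁻¹ / (θ : K → ℂ) 1) =
      (Nat.card K : ℂ) / (θ : K → ℂ) 1 * ((θ : K → ℂ) k⁻¹ * ((m k : ℂˣ) : ℂ)⁻¹) by ring, h4]
    field_simp
  rw [h3, smul_eq_zero] at h1
  rcases h1 with h1 | h1
  · exact div_ne_zero hK (IsIrr.one_ne_zero θ.2) (pow_eq_zero_iff two_ne_zero |>.1 h1)
  · exact blk_ne_zero θ h1

/-- The data of an abelian section of odd order with coprime operators acting without fixed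
points. -/
structure Mag (K : Type u) (S : Type v) [Group K] [Group S] where
  L : Subgroup K
  act : S →* MulAut K
  normal : L.Normal
  comm : ∀ a b : K, a * b * a⁻¹ * b⁻¹ ∈ L
  oddK : Odd (Nat.card K)
  coprime : (Nat.card K).Coprime (Nat.card S)
  actL : ∀ (s : S), ∀ l ∈ L, act s l ∈ L
  fpf : ∀ k : K, (∀ s : S, act s k * k⁻¹ ∈ L) → k ∈ L

variable {S : Type v} [Group S] [Fintype S] (M : Mag K S)

namespace Mag

/-- Linear characters of the section. -/
def D : Subgroup (K →* ℂˣ) where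
  carrier := {m | ∀ l ∈ M.L, m l = 1}
  one_mem' _ _ := rfl
  mul_mem' ha hb l hl := by rw [MonoidHom.mul_apply, ha l hl, hb l hl, one_mul]
  inv_mem' ha l hl := by rw [MonoidHom.inv_apply, ha l hl, inv_one]

theorem mem_D {m : K →* ℂˣ} : m ∈ M.D ↔ ∀ l ∈ M.L, m l = 1 := Iff.rfl

theorem pow_card_hom (m : K →* ℂˣ) : m ^ Nat.card K = 1 := by
  ext k
  simp [← map_pow, pow_card_eq_one']

/-- Transport of a linear character. -/
def push (f : K ≃* K) (m : K →* ℂˣ) : K →* ℂˣ := m.comp f.symm.toMonoidHom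

theorem push_apply (f : K ≃* K) (m : K →* ℂˣ) (k : K) : push f m k = m (f.symm k) := rfl

theorem push_mul (f : K ≃* K) (m m' : K →* ℂˣ) : push f (m * m') = push f m * push f m' := rfl

theorem fixed_eq_one {m : K →* ℂˣ} (hm : m ∈ M.D) (hfix : ∀ s : S, push (M.act s) m = m) :
    m = 1 := by
  classical
  haveI := M.normal
  letI : CommGroup (K ⧸ M.L) :=
    { (inferInstance : Group (K ⧸ M.L)) with
      mul_comm := by
        intro x y
        induction x using QuotientGroup.induction_on with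
        | _ a =>
          induction y using QuotientGroup.induction_on with
          | _ b =>
            refine QuotientGroup.eq.2 ?_
            have := M.comm b⁻¹ a⁻¹
            simpa [mul_assoc] using this }
  ext k
  have hfix' : ∀ (s : S) (x : K), m (M.act s x) = m x := fun s x => by
    conv_lhs => rw [← hfix s, push_apply, MulEquiv.symm_apply_apply]
  let q : K →* K ⧸ M.L := QuotientGroup.mk' M.L
  let mq : K ⧸ M.L →* ℂˣ := QuotientGroup.lift M.L m fun l hl => hm l hl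
  let fq : S → (K ⧸ M.L →* K ⧸ M.L) := fun t =>
    QuotientGroup.map M.L M.L (M.act t).toMonoidHom fun l hl => M.actL t l hl
  obtain ⟨r, hr⟩ := QuotientGroup.mk'_surjective M.L (∏ s : S, q (M.act s k))
  have hrL : r ∈ M.L := by
    refine M.fpf r fun t => ?_
    rw [← QuotientGroup.eq_one_iff, QuotientGroup.mk_mul, QuotientGroup.mk_inv, mul_inv_eq_one]
    show fq t (q r) = q r
    rw [hr, map_prod]
    refine Fintype.prod_equiv (Equiv.mulLeft t) _ _ fun s => ?_
    simp only [Equiv.coe_mulLeft, map_mul, MulAut.mul_apply]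
    rfl
  have h1 : (m k) ^ Fintype.card S = 1 := by
    have h2 : mq (∏ s : S, q (M.act s k)) = mq (q r) := by rw [← hr]
    have hlift : ∀ x, mq (q x) = m x := fun x => rfl
    rw [map_prod] at h2
    simp only [hlift, hfix', Finset.prod_const, Finset.card_univ, hm r hrL] at h2
    exact h2
  have h3 : (m k) ^ Nat.card K = 1 := by rw [← map_pow, pow_card_eq_one', map_one]
  have h4 := Nat.dvd_gcd (orderOf_dvd_of_pow_eq_one h3) (orderOf_dvd_of_pow_eq_one h1)
  rw [← Nat.card_eq_fintype_card, M.coprime, Nat.dvd_one, orderOf_eq_one_iff] at h4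
  rw [h4]; rfl

/-- The linear characters of the section carrying a nonzero line. -/
def Lam (θ : IrrCharacter K) : Subgroup (K →* ℂˣ) where
  carrier := {m | m ∈ M.D ∧ ∃ a, a ≠ 0 ∧ InLine θ m a}
  one_mem' := ⟨one_mem _, blk θ, blk_ne_zero θ, inLine_blk θ⟩
  mul_mem' := fun ⟨ha, a, a0, al⟩ ⟨hb, b, b0, bl⟩ =>
    ⟨mul_mem ha hb, a * b, al.mul_ne_zero' bl a0 b0, al.mul bl⟩
  inv_mem' := fun ⟨ha, a, a0, al⟩ => by
    obtain ⟨b, bl, hab, -⟩ := al.exists_inv a0
    exact ⟨inv_mem ha, b, fun h => blk_ne_zero θ (by rw [← hab, h, mul_zero]), bl⟩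

theorem pow_card_lam {θ : IrrCharacter K} (a : M.Lam θ) : a ^ Nat.card K = 1 :=
  Subtype.ext (pow_card_hom (a : K →* ℂˣ))

/-- A chosen element of a line. -/
noncomputable def bas (θ : IrrCharacter K) (a : M.Lam θ) : MonoidAlgebra ℂ K :=
  Classical.choose a.2.2

theorem bas_ne {θ : IrrCharacter K} (a : M.Lam θ) : M.bas θ a ≠ 0 :=
  (Classical.choose_spec a.2.2).1

theorem bas_line {θ : IrrCharacter K} (a : M.Lam θ) :
    InLine θ (a : K →* ℂˣ) (M.bas θ a) := (Classical.choose_spec a.2.2).2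

theorem exists_com {θ : IrrCharacter K} (a b : M.Lam θ) :
    ∃ c : ℂ, M.bas θ a * M.bas θ b = c • (M.bas θ b * M.bas θ a) := by
  have h := (M.bas_line a).mul (M.bas_line b)
  rw [mul_comm (a : K →* ℂˣ)] at h
  exact ((M.bas_line b).mul (M.bas_line a)).unique h
    ((M.bas_line b).mul_ne_zero' (M.bas_line a) (M.bas_ne b) (M.bas_ne a))

/-- The commutator pairing of lines. -/
noncomputable def com (θ : IrrCharacter K) (a b : M.Lam θ) : ℂ :=
  Classical.choose (M.exists_com a b)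

theorem com_spec {θ : IrrCharacter K} {a b : M.Lam θ} {x y : MonoidAlgebra ℂ K}
    (hx : InLine θ (a : K →* ℂˣ) x) (hy : InLine θ (b : K →* ℂˣ) y) :
    x * y = M.com θ a b • (y * x) := by
  obtain ⟨c, rfl⟩ := (M.bas_line a).unique hx (M.bas_ne a)
  obtain ⟨d, rfl⟩ := (M.bas_line b).unique hy (M.bas_ne b)
  rw [smul_mul_smul_comm, smul_mul_smul_comm, Classical.choose_spec (M.exists_com a b), smul_smul,
    smul_smul, ← com]
  congr 1
  ring

theorem com_eq_of {θ : IrrCharacter K} {a b : M.Lam θ} {x y : MonoidAlgebra ℂ K} {c : ℂ}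
    (hx : InLine θ (a : K →* ℂˣ) x) (hy : InLine θ (b : K →* ℂˣ) y) (hx0 : x ≠ 0) (hy0 : y ≠ 0)
    (h : x * y = c • (y * x)) : M.com θ a b = c :=
  smul_left_injective ℂ (hy.mul_ne_zero' hx hy0 hx0) ((M.com_spec hx hy).symm.trans h)

theorem com_self {θ : IrrCharacter K} (a : M.Lam θ) : M.com θ a a = 1 :=
  M.com_eq_of (M.bas_line a) (M.bas_line a) (M.bas_ne a) (M.bas_ne a) (one_smul _ _).symm

theorem com_mul_left {θ : IrrCharacter K} (a b d : M.Lam θ) :
    M.com θ (a * b) d = M.com θ a d * M.com θ b d := by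
  refine M.com_eq_of (c := M.com θ a d * M.com θ b d)
    ((M.bas_line a).mul (M.bas_line b)) (M.bas_line d)
    ((M.bas_line a).mul_ne_zero' (M.bas_line b) (M.bas_ne a) (M.bas_ne b)) (M.bas_ne d) ?_
  rw [mul_assoc, M.com_spec (M.bas_line b) (M.bas_line d), mul_smul_comm, ← mul_assoc,
    M.com_spec (M.bas_line a) (M.bas_line d), smul_mul_assoc, smul_smul, mul_assoc,
    mul_comm (M.com θ b d)]

theorem com_swap {θ : IrrCharacter K} (a b : M.Lam θ) : M.com θ a b * M.com θ b a = 1 := by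
  have h := M.com_spec (M.bas_line a) (M.bas_line b)
  rw [M.com_spec (M.bas_line b) (M.bas_line a), smul_smul] at h
  exact (smul_left_injective ℂ
    ((M.bas_line a).mul_ne_zero' (M.bas_line b) (M.bas_ne a) (M.bas_ne b))
    ((one_smul ℂ _).trans h)).symm

theorem com_ne_zero {θ : IrrCharacter K} (a b : M.Lam θ) : M.com θ a b ≠ 0 := fun h => by
  simpa [h] using M.com_swap a b

theorem com_mul_right {θ : IrrCharacter K} (a b d : M.Lam θ) :
    M.com θ a (b * d) = M.com θ a b * M.com θ a d := by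
  have e : M.com θ (b * d) a = M.com θ b a * M.com θ d a := M.com_mul_left b d a
  have h1 := M.com_swap a (b * d)
  rw [e] at h1
  have h2 := M.com_swap a b
  have h3 := M.com_swap a d
  refine mul_right_cancel₀ (mul_ne_zero (M.com_ne_zero b a) (M.com_ne_zero d a)) ?_
  linear_combination h1 - M.com θ a d * M.com θ d a * h2 - h3

theorem com_one_left {θ : IrrCharacter K} (a : M.Lam θ) : M.com θ 1 a = 1 := by
  have h := M.com_mul_left 1 1 a
  rw [one_mul] at h
  exact (mul_eq_left₀ (M.com_ne_zero 1 a)).1 h.symm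

theorem com_pow_left {θ : IrrCharacter K} (a b : M.Lam θ) (j : ℕ) :
    M.com θ (a ^ j) b = M.com θ a b ^ j := by
  induction j with
  | zero => rw [pow_zero, pow_zero, M.com_one_left]
  | succ j ih => rw [pow_succ, pow_succ, M.com_mul_left, ih]

theorem com_pow_card {θ : IrrCharacter K} (a b : M.Lam θ) : M.com θ a b ^ Nat.card K = 1 := by
  rw [← M.com_pow_left, M.pow_card_lam, M.com_one_left]

end Mag

end Cfsg.Agent.Char.OddMagic
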