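import Cfsg.Agent.Lib.Char.OddMagicOps

/-!
The trace computation: the signed restriction through the involutive operator preserves inner
products.
-/

namespace Cfsg.Agent.Char.OddMagic

open Cfsg Module

set_option linter.unusedSectionVars false
set_option linter.style.haveILetI false

universe u v

variable {G : Type u} [Group G] [Fintype G] (K H : Subgroup G) [K.Normal] [Fintype K]
  {S : Type v} [Group S] [Fintype S] (M : Mag K S)

/-- A subgroup covering the quotient by the section, acting compatibly. -/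
structure Sect : Prop where
  oddG : Odd (Nat.card G)
  cover : ∀ g : G, ∃ k ∈ K, ∃ h ∈ H, g = k * h
  inter : ∀ k : K, (k : G) ∈ H ↔ k ∈ M.L
  conj : ∀ h ∈ H, ∃ (c : M.Compat) (l : K), l ∈ M.L ∧
    ∀ k : K, MulAut.conjNormal h k = l * c.f k * l⁻¹

variable {K H M}

theorem tr_conj {h : G} {c : M.Compat} {l : K}
    (hc : ∀ k : K, MulAut.conjNormal h k = l * c.f k * l⁻¹) (a : MonoidAlgebra ℂ K) :
    tr (MulAut.conjNormal h) a = el l * tr c.f a * el l⁻¹ := by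
  conv_lhs => rw [eq_sum a]
  conv_rhs => rw [eq_sum a]
  simp only [map_sum, map_smul, tr_el, hc, Finset.mul_sum, Finset.sum_mul, mul_smul_comm,
    smul_mul_assoc, el_mul]

theorem Sect.tr_rr (hs : Sect K H M) {h : G} (hh : h ∈ H) :
    tr (MulAut.conjNormal h : K ≃* K) M.rr = M.rr := by
  obtain ⟨c, l, hl, hc⟩ := hs.conj h hh
  rw [tr_conj hc, Mag.Compat.tr_rr, M.rr_comm_el hl, mul_assoc, el_mul_inv, mul_one]

theorem Sect.tr_pp (hs : Sect K H M) {h : G} (hh : h ∈ H) :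
    tr (MulAut.conjNormal h : K ≃* K) M.pp = M.pp := by
  obtain ⟨c, l, hl, hc⟩ := hs.conj h hh
  rw [tr_conj hc, Mag.Compat.tr_pp, M.pp_comm_el hl, mul_assoc, el_mul_inv, mul_one]

theorem Sect.tr_eF (hs : Sect K H M) {h : G} (hh : h ∈ H) :
    tr (MulAut.conjNormal h : K ≃* K) M.eF = M.eF := by
  obtain ⟨c, l, hl, hc⟩ := hs.conj h hh
  rw [tr_conj hc, Mag.Compat.tr_eF, ← M.eF_comm, mul_assoc, el_mul_inv, mul_one]

theorem Sect.exists_image (hs : Sect K H M) {h : G} (hh : h ∈ H) (θ : M.Fix) :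
    ∃ θ' : M.Fix, Mag.Maps (MulAut.conjNormal h : K ≃* K) θ.1 θ'.1 := by
  obtain ⟨c, l, hl, hc⟩ := hs.conj h hh
  refine ⟨c.fixMap M θ, fun k => ?_⟩
  rw [hc, IsIrr.classFun (c.fixMap M θ).1.2]
  exact Mag.Compat.fixMap_maps M c θ k

theorem Sect.exists_lam (hs : Sect K H M) {h : G} (hh : h ∈ H) {θ : M.Fix}
    (hm : Mag.Maps (MulAut.conjNormal h : K ≃* K) θ.1 θ.1) (a : M.Lam θ.1) :
    ∃ b : M.Lam θ.1, (b : K →* ℂˣ) = Mag.push (MulAut.conjNormal h : K ≃* K) a ∧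
      tr (MulAut.conjNormal h : K ≃* K) (M.sg θ a) = M.sg θ b ∧
      (b ∈ M.rad θ.1 ↔ a ∈ M.rad θ.1) := by
  obtain ⟨c, l, hl, hc⟩ := hs.conj h hh
  have hcm : Mag.Maps c.f θ.1 θ.1 := fun k => by
    rw [← IsIrr.classFun θ.1.2 (c.f k) l, ← hc]
    exact hm k
  refine ⟨c.lam M hcm a, MonoidHom.ext fun k => ?_, ?_, Mag.Compat.mem_rad_iff M c hcm a⟩
  · obtain ⟨y, rfl⟩ := (MulAut.conjNormal h : K ≃* K).surjective k
    rw [Mag.push_apply, MulEquiv.symm_apply_apply, hc]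
    show Mag.push c.f (a : K →* ℂˣ) _ = _
    rw [map_mul, map_mul, mul_comm (Mag.push c.f (a : K →* ℂˣ) l), mul_assoc, ← map_mul,
      mul_inv_cancel, map_one, mul_one, Mag.push_apply, MulEquiv.symm_apply_apply]
  · rw [tr_conj hc, Mag.Compat.tr_sg M c hcm, (M.sg_line θ _).commute ((c.lam M hcm a).2.1 l hl), mul_assoc,
      el_mul_inv, mul_one]

/-- A representation extended to the group algebra of the subgroup. -/
noncomputable def kalg {m : ℕ} (ρ : G →* Matrix (Fin m) (Fin m) ℂ) :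
    MonoidAlgebra ℂ K →ₐ[ℂ] Matrix (Fin m) (Fin m) ℂ :=
  MonoidAlgebra.lift ℂ _ K (ρ.comp K.subtype)

theorem kalg_el {m : ℕ} (ρ : G →* Matrix (Fin m) (Fin m) ℂ) (k : K) :
    kalg (K := K) ρ (el k) = ρ k := by
  simp [kalg, el, MonoidAlgebra.lift_single]

theorem kalg_conj {m : ℕ} (ρ : G →* Matrix (Fin m) (Fin m) ℂ) (g : G) (a : MonoidAlgebra ℂ K) :
    ρ g * kalg ρ a = kalg ρ (tr (MulAut.conjNormal g : K ≃* K) a) * ρ g := by
  conv_lhs => rw [eq_sum a]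
  conv_rhs => rw [eq_sum a]
  simp only [map_sum, map_smul, tr_el, kalg_el, Finset.mul_sum, Finset.sum_mul, mul_smul_comm,
    smul_mul_assoc, ← map_mul, MulAut.conjNormal_apply, mul_assoc, inv_mul_cancel, mul_one]

variable {m n : ℕ} (ρ : G →* Matrix (Fin m) (Fin m) ℂ) (σ : G →* Matrix (Fin n) (Fin n) ℂ)

/-- Conjugation by group elements. -/
noncomputable def AdG (g : G) : End ℂ (Matrix (Fin m) (Fin n) ℂ) := Opr (ρ g) (σ g⁻¹)

theorem AdG_mul (a b : G) : AdG ρ σ a * AdG ρ σ b = AdG ρ σ (a * b) := by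
  rw [AdG, AdG, AdG, Opr_mul, ← map_mul, ← map_mul, mul_inv_rev]

theorem AdG_coe (k : K) : AdG ρ σ (k : G) = Ad (kalg ρ) (kalg σ) k := by
  rw [AdG, Ad, kalg_el, kalg_el, Subgroup.coe_inv]

theorem AdG_Lf (g : G) (a : MonoidAlgebra ℂ K) :
    AdG ρ σ g * Lf (kalg ρ) a = Lf (kalg ρ) (tr (MulAut.conjNormal g : K ≃* K) a) * AdG ρ σ g := by
  rw [AdG, Lf, Lf, Opr_mul, Opr_mul, kalg_conj, one_mul, mul_one]

theorem AdG_Rt (g : G) (a : MonoidAlgebra ℂ K) :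
    AdG ρ σ g * Rt (kalg σ) a = Rt (kalg σ) (tr (MulAut.conjNormal g : K ≃* K) a) * AdG ρ σ g := by
  rw [AdG, Rt, Rt, Opr_mul, Opr_mul, one_mul, mul_one]
  congr 1
  have h := kalg_conj σ g a
  calc kalg σ a * σ g⁻¹ = σ g⁻¹ * (σ g * kalg σ a) * σ g⁻¹ := by
        rw [← mul_assoc, ← map_mul, inv_mul_cancel, map_one, one_mul]
    _ = _ := by rw [h, mul_assoc, mul_assoc, ← map_mul, mul_inv_cancel, map_one, mul_one]

theorem AdG_Pj_one (g : G) :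
    AdG ρ σ g * Pj (kalg ρ) (kalg σ) (1 : K →* ℂˣ) =
      Pj (kalg ρ) (kalg σ) (1 : K →* ℂˣ) * AdG ρ σ g := by
  rw [Pj, mul_smul_comm, smul_mul_assoc, Finset.mul_sum, Finset.sum_mul]
  congr 1
  refine Fintype.sum_equiv (MulAut.conjNormal g : K ≃* K).toEquiv _ _ fun k => ?_
  simp only [MonoidHom.one_apply, Units.val_one, inv_one, one_smul, ← AdG_coe, AdG_mul,
    MulEquiv.toEquiv_eq_coe, MulEquiv.coe_toEquiv, MulAut.conjNormal_apply, mul_assoc,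
    inv_mul_cancel, mul_one]

/-- The block projection on both sides. -/
noncomputable def Qb (θ : M.Fix) : End ℂ (Matrix (Fin m) (Fin n) ℂ) :=
  Lf (kalg ρ) (blk θ.1) * Rt (kalg σ) (blk θ.1)

/-- The two-sided operator. -/
noncomputable def Jop : End ℂ (Matrix (Fin m) (Fin n) ℂ) :=
  Lf (kalg ρ) M.rr * Rt (kalg σ) M.rr

theorem LR_mul (a b c d : MonoidAlgebra ℂ K) :
    (Lf (kalg ρ) a * Rt (kalg σ) b : End ℂ (Matrix (Fin m) (Fin n) ℂ)) *
      (Lf (kalg ρ) c * Rt (kalg σ) d) = Lf (kalg ρ) (a * c) * Rt (kalg σ) (d * b) := by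
  simp only [Lf, Rt, Opr_mul, one_mul, mul_one, map_mul]

theorem Qb_mul (θ φ : M.Fix) : Qb (M := M) ρ σ θ * Qb ρ σ φ =
    Lf (kalg ρ) (blk θ.1 * blk φ.1) * Rt (kalg σ) (blk φ.1 * blk θ.1) := LR_mul ρ σ _ _ _ _

theorem Qb_idem (θ : M.Fix) : Qb (M := M) ρ σ θ * Qb ρ σ θ = Qb ρ σ θ := by
  rw [Qb_mul, blk_idem, Qb]

theorem Qb_orth {θ φ : M.Fix} (h : θ ≠ φ) : Qb (M := M) ρ σ θ * Qb ρ σ φ = 0 := by
  rw [Qb_mul, blk_orth fun h' => h (Subtype.ext h'), show (Lf (kalg ρ) (0 : MonoidAlgebra ℂ K) :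
    End ℂ (Matrix (Fin m) (Fin n) ℂ)) = 0 from LinearMap.ext fun X => by simp [Lf, Opr_apply],
    zero_mul]

theorem Jop_Qb (θ : M.Fix) : Jop (M := M) ρ σ * Qb ρ σ θ = Qb ρ σ θ * Jop (M := M) ρ σ := by
  rw [Jop, Qb, LR_mul, LR_mul, blk_comm]

theorem AdG_Qb {g : G} {θ θ' : M.Fix}
    (h : Mag.Maps (MulAut.conjNormal g : K ≃* K) θ.1 θ'.1) :
    AdG ρ σ g * Qb (M := M) ρ σ θ = Qb ρ σ θ' * AdG ρ σ g := by
  rw [Qb, Qb, ← mul_assoc, AdG_Lf, mul_assoc, AdG_Rt, ← mul_assoc, tr_blk _ h]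

theorem Qb_Pj_eq_zero {θ : M.Fix} {c : M.D} (hc : (c : K →* ℂˣ) ∉ M.Lam θ.1) :
    Qb (M := M) ρ σ θ * Pj (kalg ρ) (kalg σ) (c : K →* ℂˣ) = 0 := by
  rw [Qb, Lf_Rt, mul_assoc, Lf_Pj, ← mul_assoc, Rt_mul]
  let φ : IrrCharacter K := ⟨fun k => (((c : K →* ℂˣ)⁻¹ k : ℂˣ) : ℂ) * (θ.1 : K → ℂ) k,
    IsIrr.mul_linear θ.1.2 _⟩
  have hφ : ∀ k, (φ : K → ℂ) k * (((c : K →* ℂˣ) k : ℂˣ) : ℂ) = (θ.1 : K → ℂ) k := fun k => by
    show _ * _ * _ = _
    rw [mul_right_comm, ← Units.val_mul, MonoidHom.inv_apply, inv_mul_cancel, Units.val_one, one_mul]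
  have hne : φ ≠ θ.1 := fun he => hc (Mag.twist_fix M c.2 (θ := θ) (φ := θ) (by
    intro k; have := hφ k; rwa [he] at this)).2
  rw [twist_blk _ hφ, blk_orth hne, show (Rt (kalg σ) (0 : MonoidAlgebra ℂ K) :
    End ℂ (Matrix (Fin m) (Fin n) ℂ)) = 0 from LinearMap.ext fun X => by simp [Rt, Opr_apply],
    zero_mul]

theorem Pj_eq_sum (hρ : kalg (K := K) ρ M.eF = 1) (hσ : kalg (K := K) σ M.eF = 1) (c : M.D) :
    Pj (kalg ρ) (kalg σ) (c : K →* ℂˣ) =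
      ∑ θ : M.Fix, Qb (M := M) ρ σ θ * Pj (kalg ρ) (kalg σ) (c : K →* ℂˣ) := by
  classical
  set P := Pj (kalg ρ) (kalg σ) (c : K →* ℂˣ)
  have h1 : (1 : End ℂ (Matrix (Fin m) (Fin n) ℂ)) =
      Lf (kalg ρ) M.eF * Rt (kalg σ) M.eF := by
    rw [Lf, Rt, hρ, hσ, Opr_mul, one_mul, one_mul, Opr_one]
  conv_lhs => rw [← one_mul P, h1, Mag.eF, Lf_sum, Rt_sum, Finset.sum_mul_sum, Finset.sum_mul]
  refine Finset.sum_congr rfl fun θ _ => ?_
  rw [Finset.sum_mul, Finset.sum_eq_single θ]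
  · rfl
  · intro φ _ hne
    rw [Lf_Rt, mul_assoc, Lf_Pj, ← mul_assoc, Rt_mul]
    let χ : IrrCharacter K := ⟨fun k => (((c : K →* ℂˣ)⁻¹ k : ℂˣ) : ℂ) * (θ.1 : K → ℂ) k,
      IsIrr.mul_linear θ.1.2 _⟩
    have hχ : ∀ k, (χ : K → ℂ) k * (((c : K →* ℂˣ) k : ℂˣ) : ℂ) = (θ.1 : K → ℂ) k := fun k => by
      show _ * _ * _ = _
      rw [mul_right_comm, ← Units.val_mul, MonoidHom.inv_apply, inv_mul_cancel, Units.val_one, one_mul]
    have hne' : χ ≠ φ.1 := fun he => hne (Mag.twist_fix M c.2 (θ := θ) (φ := φ) (by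
      intro k; rw [← hχ k, he])).1.symm
    rw [twist_blk _ hχ, blk_orth hne', show (Rt (kalg σ) (0 : MonoidAlgebra ℂ K) :
      End ℂ (Matrix (Fin m) (Fin n) ℂ)) = 0 from LinearMap.ext fun X => by simp [Rt, Opr_apply],
      zero_mul]
  · exact fun h => absurd (Finset.mem_univ _) h

theorem trace_offdiag {θ : M.Fix} {a : M.Lam θ.1} (ha : a ≠ 1) (g : G) :
    LinearMap.trace ℂ _ (Lf (kalg ρ) (M.sg θ a) * Qb (M := M) ρ σ θ *
      Pj (kalg ρ) (kalg σ) (1 : K →* ℂˣ) * AdG ρ σ g) = 0 := by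
  classical
  set P₁ := Pj (kalg ρ) (kalg σ) (1 : K →* ℂˣ)
  set L₁ := (Lf (kalg ρ) (M.sg θ a) : End ℂ (Matrix (Fin m) (Fin n) ℂ))
  have h1 : L₁ * Qb (M := M) ρ σ θ * P₁ * AdG ρ σ g =
      (L₁ * Qb (M := M) ρ σ θ * P₁ * AdG ρ σ g) * P₁ := by
    conv_lhs => rw [show P₁ = P₁ * P₁ from (Pj_one_idem _ _).symm]
    simp only [mul_assoc]
    rw [AdG_Pj_one]
  rw [h1, LinearMap.trace_mul_comm, ← mul_assoc, ← mul_assoc, ← mul_assoc,
    show P₁ * L₁ = L₁ * Pj (kalg ρ) (kalg σ) ((a : K →* ℂˣ)⁻¹ * 1) from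
      Pj_Lf _ _ (M.sg_line θ a) 1, mul_assoc L₁,
    show Pj (kalg ρ) (kalg σ) ((a : K →* ℂˣ)⁻¹ * 1) * Qb (M := M) ρ σ θ =
      Qb ρ σ θ * Pj (kalg ρ) (kalg σ) ((a : K →* ℂˣ)⁻¹ * 1) from
      Pj_comm_central _ _ (blk_comm θ.1) _, mul_assoc L₁, mul_assoc (Qb ρ σ θ), Pj_mul, if_neg]
  · simp
  · intro he
    refine ha (Subtype.ext (MonoidHom.ext fun k => ?_))
    have h2 := congrArg (fun f : K →* ℂˣ => f k) he
    simpa using h2

theorem Sect.eq_one_of_odd (hs : Sect K H M) {h : G} (hh : h ∈ H) {θ : M.Fix}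
    (hm : Mag.Maps (MulAut.conjNormal h : K ≃* K) θ.1 θ.1) {a b : M.Lam θ.1}
    (hb : (b : K →* ℂˣ) = Mag.push (MulAut.conjNormal h : K ≃* K) a)
    (hab : a * b ∈ M.rad θ.1) : a ∈ M.rad θ.1 := by
  choose f hf hfs hfr using fun x => hs.exists_lam hh hm x
  have hfa : f a = b := Subtype.ext ((hf a).trans hb.symm)
  have hmul : ∀ x y, f (x * y) = f x * f y := fun x y => Subtype.ext (by
    rw [hf, Subgroup.coe_mul, Mag.push_mul, Subgroup.coe_mul, hf, hf])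
  have hiter : ∀ j : ℕ, (((f^[j]) a : M.Lam θ.1) : K →* ℂˣ) =
      Mag.push (MulAut.conjNormal (h ^ j) : K ≃* K) a := by
    intro j
    induction j with
    | zero => rw [Function.iterate_zero_apply, pow_zero, map_one]; rfl
    | succ j ih =>
      rw [Function.iterate_succ_apply', hf, ih, pow_succ', map_mul]
      rfl
  have hpar : ∀ j : ℕ, a * (f^[2 * j + 1]) a ∈ M.rad θ.1 ∧ a⁻¹ * (f^[2 * j]) a ∈ M.rad θ.1 := by
    intro j
    have hstep : ∀ x, a⁻¹ * x ∈ M.rad θ.1 → a * f x ∈ M.rad θ.1 := by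
      intro x hx
      have h1 := (hfr (a⁻¹ * x)).2 hx
      have h2 : a * f x = (a * f a) * f (a⁻¹ * x) := by
        rw [mul_assoc, ← hmul, mul_inv_cancel_left]
      rw [h2, hfa]
      exact mul_mem hab h1
    have hstep' : ∀ x, a * x ∈ M.rad θ.1 → a⁻¹ * f x ∈ M.rad θ.1 := by
      intro x hx
      have h1 := (hfr (a * x)).2 hx
      have h2 : a⁻¹ * f x = (a * f a)⁻¹ * f (a * x) := by
        rw [hmul, mul_inv_rev, mul_comm (f a)⁻¹, mul_assoc, inv_mul_cancel_left]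
      rw [h2, hfa]
      exact mul_mem (inv_mem hab) h1
    induction j with
    | zero =>
      have h0 : a⁻¹ * a ∈ M.rad θ.1 := by rw [inv_mul_cancel]; exact one_mem _
      exact ⟨hstep a h0, h0⟩
    | succ j ih =>
      have h1 := hstep' _ ih.1
      rw [← Function.iterate_succ_apply' f] at h1
      refine ⟨?_, h1⟩
      have h3 := hstep _ h1
      rwa [← Function.iterate_succ_apply' f] at h3
  obtain ⟨j, hj⟩ := hs.oddG
  have hper : (f^[2 * j + 1]) a = a := Subtype.ext (by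
    rw [hiter, ← hj, pow_card_eq_one', map_one]; rfl)
  have h2 := (hpar j).1
  rw [hper, ← pow_two] at h2
  exact Mag.mem_of_coprime_pow M.oddK.coprime_two_right (M.pow_card_lam a) h2

theorem Sect.sum_trace (hs : Sect K H M) (hρ : kalg (K := K) ρ M.eF = 1)
    (hσ : kalg (K := K) σ M.eF = 1) {h : G} (hh : h ∈ H) :
    ∑ c : M.D, LinearMap.trace ℂ _
      (Jop (M := M) ρ σ * AdG ρ σ h * Pj (kalg ρ) (kalg σ) (c : K →* ℂˣ)) =
    LinearMap.trace ℂ _ (AdG ρ σ h * Pj (kalg ρ) (kalg σ) (1 : K →* ℂˣ)) := by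
  classical
  set A := AdG ρ σ h with hA
  set J := Jop (M := M) ρ σ with hJ
  set P₁ := Pj (kalg ρ) (kalg σ) (1 : K →* ℂˣ) with hP₁
  rw [Finset.sum_congr rfl fun (c : M.D) _ => by rw [Pj_eq_sum ρ σ hρ hσ c]]
  conv_rhs => rw [show P₁ = ∑ θ : M.Fix, Qb (M := M) ρ σ θ * P₁ from
    Pj_eq_sum ρ σ hρ hσ (1 : M.D)]
  simp only [Finset.mul_sum, map_sum]
  rw [Finset.sum_comm]
  refine Finset.sum_congr rfl fun θ _ => ?_
  obtain ⟨θ', hθ'⟩ := hs.exists_image hh θ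
  set Q := Qb (M := M) ρ σ θ with hQ
  by_cases hfix : θ' = θ
  · subst hfix
    have hAQ : A * Q = Q * A := AdG_Qb ρ σ hθ'
    have hAP : A * P₁ = P₁ * A := AdG_Pj_one ρ σ h
    set t := LinearMap.trace ℂ _ (A * (Q * P₁)) with ht
    have ht' : t = LinearMap.trace ℂ _ (Q * P₁ * A) := by
      rw [ht, ← mul_assoc, hAQ, mul_assoc, hAP, ← mul_assoc]
    have hterm : ∀ a : M.Lam θ'.1, LinearMap.trace ℂ _
        (J * A * (Q * Pj (kalg ρ) (kalg σ) (a : K →* ℂˣ))) =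
          if a ∈ M.rad θ'.1 then (Nat.card (M.rad θ'.1) : ℂ)⁻¹ * t else 0 := by
      intro a
      obtain ⟨b, hb, hbs, hbr⟩ := hs.exists_lam hh hθ' a
      have hinv : M.sg θ' a * M.sg θ' a⁻¹ = blk θ'.1 := by
        have hcs : M.cc θ'.1 a⁻¹ a = 1 := by
          simpa [M.cc_self, M.cc_one_left] using (M.cc_mul_left θ'.1 a⁻¹ a a).symm
        rw [M.sg_mul, hcs, mul_inv_cancel, M.sg_one, one_smul]
      have hQP : Q * Pj (kalg ρ) (kalg σ) (a : K →* ℂˣ) =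
          Lf (kalg ρ) (M.sg θ' a) * (Q * P₁) * Lf (kalg ρ) (M.sg θ' a⁻¹) := by
        have e1 : (Lf (kalg ρ) (M.sg θ' a) : End ℂ (Matrix (Fin m) (Fin n) ℂ)) * Q =
            Q * Lf (kalg ρ) (M.sg θ' a) := by
          rw [hQ, Qb, ← mul_assoc, Lf_mul, M.sg_blk, mul_assoc, ← Lf_Rt, ← mul_assoc, Lf_mul,
            M.blk_sg]
        have e2 : Lf (kalg ρ) (M.sg θ' a) * P₁ =
            Pj (kalg ρ) (kalg σ) (a : K →* ℂˣ) * Lf (kalg ρ) (M.sg θ' a) := by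
          rw [Pj_Lf _ _ (M.sg_line θ' a), show (a : K →* ℂˣ)⁻¹ * (a : K →* ℂˣ) = 1 by ext; simp]
        rw [← mul_assoc, e1, mul_assoc Q, e2, mul_assoc, mul_assoc, Lf_mul, hinv]
        have e3 : Q * Lf (kalg ρ) (blk θ'.1) = Q := by
          rw [hQ, Qb, mul_assoc, ← Lf_Rt, ← mul_assoc, Lf_mul, blk_idem]
        have e4 : Pj (kalg ρ) (kalg σ) (a : K →* ℂˣ) * Lf (kalg ρ) (blk θ'.1) =
            Lf (kalg ρ) (blk θ'.1) * Pj (kalg ρ) (kalg σ) (a : K →* ℂˣ) := by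
          rw [Pj_Lf _ _ (inLine_blk θ'.1), show (1 : K →* ℂˣ)⁻¹ * (a : K →* ℂˣ) = a by ext; simp]
        rw [e4, ← mul_assoc, e3]
      have hAL : A * Lf (kalg ρ) (M.sg θ' a) = Lf (kalg ρ) (M.sg θ' b) * A := by
        rw [hA, AdG_Lf, hbs]
      have hJL : J * Lf (kalg ρ) (M.sg θ' b) * (Q * P₁) =
          Lf (kalg ρ) (M.sg θ' b⁻¹ * M.pr θ') * (Q * P₁) := by
        have f1 : M.rr * M.sg θ' b = M.sg θ' b⁻¹ * M.op θ' := by
          rw [← M.op_sg, ← M.rr_blk θ', mul_assoc, M.blk_sg]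
        have f2 : blk θ'.1 * M.rr = M.op θ' := by rw [blk_comm, M.rr_blk]
        have f3 : M.sg θ' b⁻¹ * M.op θ' * blk θ'.1 * M.op θ' * blk θ'.1 =
            M.sg θ' b⁻¹ * M.pr θ' * blk θ'.1 := by
          rw [mul_assoc (M.sg θ' b⁻¹) (M.op θ'), M.op_blk, mul_assoc (M.sg θ' b⁻¹),
            M.op_sq]
        calc J * Lf (kalg ρ) (M.sg θ' b) * (Q * P₁)
            = (Lf (kalg ρ) M.rr * Rt (kalg σ) M.rr) *
                (Lf (kalg ρ) (M.sg θ' b) * Rt (kalg σ) 1) *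
                (Lf (kalg ρ) (blk θ'.1) * Rt (kalg σ) (blk θ'.1)) * P₁ := by
              rw [hJ, Jop, hQ, Qb, show (Rt (kalg σ) (1 : MonoidAlgebra ℂ K) :
                End ℂ (Matrix (Fin m) (Fin n) ℂ)) = 1 by rw [Rt, map_one, Opr_one], mul_one,
                ← mul_assoc _ _ P₁]
          _ = Lf (kalg ρ) (M.rr * M.sg θ' b * blk θ'.1) * (Rt (kalg σ) (M.op θ') * P₁) := by
              rw [LR_mul, LR_mul, one_mul, f2, mul_assoc]
          _ = Lf (kalg ρ) (M.rr * M.sg θ' b * blk θ'.1 * M.op θ') * P₁ := by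
              rw [← Lf_Pj_one, ← mul_assoc, Lf_mul]
          _ = Lf (kalg ρ) (M.sg θ' b⁻¹ * M.pr θ' * blk θ'.1) * P₁ := by
              rw [f1]
              congr 2
              calc M.sg θ' b⁻¹ * M.op θ' * blk θ'.1 * M.op θ'
                  = M.sg θ' b⁻¹ * M.op θ' * blk θ'.1 * (M.op θ' * blk θ'.1) := by rw [M.op_blk]
                _ = _ := by rw [← mul_assoc, f3]
          _ = Lf (kalg ρ) (M.sg θ' b⁻¹ * M.pr θ') * (Q * P₁) := by
              rw [hQ, Qb, mul_assoc (Lf (kalg ρ) (blk θ'.1)), ← Lf_Pj_one,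
                ← mul_assoc (Lf (kalg ρ) (blk θ'.1)), Lf_mul, blk_idem, ← mul_assoc, Lf_mul]
      have hT : LinearMap.trace ℂ _ (J * A * (Q * Pj (kalg ρ) (kalg σ) (a : K →* ℂˣ))) =
          LinearMap.trace ℂ _ (Lf (kalg ρ) (M.sg θ' a⁻¹ * (M.sg θ' b⁻¹ * M.pr θ')) * Q * P₁ * A) := by
        rw [hQP, ← mul_assoc (J * A), LinearMap.trace_mul_comm]
        congr 1
        calc Lf (kalg ρ) (M.sg θ' a⁻¹) * (J * A * (Lf (kalg ρ) (M.sg θ' a) * (Q * P₁)))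
            = Lf (kalg ρ) (M.sg θ' a⁻¹) * (J * Lf (kalg ρ) (M.sg θ' b) * (A * (Q * P₁))) := by
              rw [mul_assoc J A, ← mul_assoc A, hAL, mul_assoc, mul_assoc J]
          _ = Lf (kalg ρ) (M.sg θ' a⁻¹) * ((J * Lf (kalg ρ) (M.sg θ' b) * (Q * P₁)) * A) := by
              rw [← mul_assoc A Q, hAQ, mul_assoc Q A, hAP, ← mul_assoc Q, mul_assoc (J * _)]
          _ = _ := by
              rw [hJL, ← mul_assoc, ← mul_assoc, ← mul_assoc, Lf_mul]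
      rw [hT, show M.sg θ' a⁻¹ * (M.sg θ' b⁻¹ * M.pr θ') =
        M.cc θ'.1 b⁻¹ a⁻¹ • (M.sg θ' (a⁻¹ * b⁻¹) * M.pr θ') by
          rw [← mul_assoc, M.sg_mul, smul_mul_assoc]]
      split_ifs with har
      · have hbr' := hbr.2 har
        have hprE : M.pr θ' = (Nat.card (M.rad θ'.1) : ℂ)⁻¹ •
            ∑ r ∈ Finset.univ.filter (· ∈ M.rad θ'.1), M.sg θ' r := by
          rw [Mag.pr]
        rw [M.sg_rad_pr θ' (mul_mem (inv_mem har) (inv_mem hbr')),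
          M.cc_rad_left (inv_mem hbr'), one_smul, hprE, Lf_smul, Lf_sum, smul_mul_assoc,
          smul_mul_assoc, smul_mul_assoc, Finset.sum_mul, Finset.sum_mul, Finset.sum_mul, map_smul,
          map_sum, smul_eq_mul]
        rw [Finset.sum_eq_single (1 : M.Lam θ'.1)]
        · rw [M.sg_one, ht']
          congr 2
          have e3 : (Lf (kalg ρ) (blk θ'.1) : End ℂ (Matrix (Fin m) (Fin n) ℂ)) * Q = Q := by
            rw [hQ, Qb, ← mul_assoc, Lf_mul, blk_idem]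
          rw [e3]
        · intro r _ hr
          exact trace_offdiag ρ σ hr h
        · intro hn
          exact absurd (Finset.mem_filter.2 ⟨Finset.mem_univ _, one_mem _⟩) hn
      · have hne : ∀ r ∈ Finset.univ.filter (· ∈ M.rad θ'.1), a⁻¹ * b⁻¹ * r ≠ 1 := by
          intro r hr he
          refine har (hs.eq_one_of_odd hh hθ' hb ?_)
          have h1 : a * b = r := by
            rw [← mul_inv, inv_mul_eq_one] at he
            exact he
          rw [h1]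
          exact (Finset.mem_filter.1 hr).2
        rw [Mag.pr, mul_smul_comm, smul_smul, Finset.mul_sum, Lf_smul, Lf_sum, smul_mul_assoc,
          smul_mul_assoc, smul_mul_assoc, Finset.sum_mul, Finset.sum_mul, Finset.sum_mul, map_smul,
          map_sum, Finset.sum_eq_zero fun r hr => ?_, smul_zero]
        rw [M.sg_mul, Lf_smul, smul_mul_assoc, smul_mul_assoc, smul_mul_assoc, map_smul,
          trace_offdiag ρ σ (hne r hr) h, smul_zero]
    have hzero : ∀ c : M.D, (c : K →* ℂˣ) ∉ M.Lam θ'.1 →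
        LinearMap.trace ℂ _ (J * A * (Q * Pj (kalg ρ) (kalg σ) (c : K →* ℂˣ))) = 0 := fun c hc => by
      rw [Qb_Pj_eq_zero ρ σ hc, mul_zero, map_zero]
    rw [← Finset.sum_subset (Finset.filter_subset (fun c : M.D => (c : K →* ℂˣ) ∈ M.Lam θ'.1) _)
      (fun c _ hc => hzero c fun h' => hc (Finset.mem_filter.2 ⟨Finset.mem_univ _, h'⟩))]
    have hbij : ∑ c ∈ Finset.univ.filter (fun c : M.D => (c : K →* ℂˣ) ∈ M.Lam θ'.1),
        LinearMap.trace ℂ _ (J * A * (Q * Pj (kalg ρ) (kalg σ) (c : K →* ℂˣ))) =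
        ∑ a : M.Lam θ'.1, (if a ∈ M.rad θ'.1 then (Nat.card (M.rad θ'.1) : ℂ)⁻¹ * t else 0) :=
      Finset.sum_bij'
        (fun (c : M.D) hc => (⟨(c : K →* ℂˣ), (Finset.mem_filter.1 hc).2⟩ : M.Lam θ'.1))
        (fun (a : M.Lam θ'.1) _ => (⟨(a : K →* ℂˣ), a.2.1⟩ : M.D)) (fun _ _ => Finset.mem_univ _)
        (fun a _ => Finset.mem_filter.2 ⟨Finset.mem_univ _, a.2⟩) (fun _ _ => rfl) (fun _ _ => rfl)
        (fun c hc => hterm ⟨(c : K →* ℂˣ), (Finset.mem_filter.1 hc).2⟩)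
    rw [hbij,
      ← Finset.sum_filter, Finset.sum_const, nsmul_eq_mul,
      show (Finset.univ.filter (· ∈ M.rad θ'.1)).card = Nat.card (M.rad θ'.1) by
        rw [Nat.card_eq_fintype_card, Fintype.card_subtype],
      ← mul_assoc, mul_inv_cancel₀ (Nat.cast_ne_zero.2 Nat.card_pos.ne'), one_mul]
  · have hz : ∀ X : End ℂ (Matrix (Fin m) (Fin n) ℂ), X * Q = Q * X →
        ∀ B : End ℂ (Matrix (Fin m) (Fin n) ℂ), B * Q = Qb ρ σ θ' * B →
        LinearMap.trace ℂ _ (B * (Q * X)) = 0 := by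
      intro X hX B hB
      have h1 : B * (Q * X) = B * Q * X * Q := by
        rw [mul_assoc (B * Q), hX, mul_assoc, ← mul_assoc Q Q, hQ, Qb_idem]
      rw [h1, LinearMap.trace_mul_comm, ← mul_assoc, hB, ← mul_assoc, hQ,
        Qb_orth ρ σ (Ne.symm hfix), zero_mul, zero_mul, map_zero]
    rw [hz P₁ (Pj_comm_central _ _ (blk_comm θ.1) _) A (AdG_Qb ρ σ hθ'),
      Finset.sum_eq_zero fun c _ => ?_]
    refine hz _ (Pj_comm_central _ _ (blk_comm θ.1) _) (J * A) ?_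
    rw [mul_assoc, hQ, AdG_Qb ρ σ hθ', ← mul_assoc, Jop_Qb, mul_assoc]

end Cfsg.Agent.Char.OddMagic
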