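import Cfsg.Agent.Lib.Char.OddMagicCorr

/-!
Surjectivity of the correspondence, by parity.
-/

namespace Cfsg.Agent.Char.OddMagic

open Cfsg Module

set_option linter.unusedSectionVars false
set_option linter.style.haveILetI false

universe u v

namespace Mag

variable {K : Type u} [Group K] [Fintype K] {S : Type v} [Group S] [Fintype S] (M : Mag K S)
  [Fintype M.L]

theorem twist_of_common {θ θ' : IrrCharacter K} {φ : IrrCharacter M.L}
    (h : classInner (fun l : M.L => (θ : K → ℂ) l) (φ : M.L → ℂ) ≠ 0)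
    (h' : classInner (fun l : M.L => (θ' : K → ℂ) l) (φ : M.L → ℂ) ≠ 0) :
    ∃ m ∈ M.D, ∀ k, (θ : K → ℂ) k * ((m k : ℂˣ) : ℂ) = (θ' : K → ℂ) k := by
  classical
  by_contra hc
  push Not at hc
  let ch : M.D → K → ℂ := fun m k => (((m : K →* ℂˣ) k : ℂˣ) : ℂ) * (θ : K → ℂ) k
  have h0 : ∀ m : M.D, classInner (ch m) (θ' : K → ℂ) = 0 := fun m => by
    refine classInner_irr_ne (IsIrr.mul_linear θ.2 (m : K →* ℂˣ)) θ'.2 fun he => ?_
    obtain ⟨k, hk⟩ := hc m m.2
    exact hk (by rw [mul_comm]; exact congrFun he k)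
  have h1 : ∑ m : M.D, classInner (ch m) (θ' : K → ℂ) = (Nat.card K : ℂ)⁻¹ * (Nat.card M.D : ℂ) *
      ∑ l : M.L, (θ : K → ℂ) l * (θ' : K → ℂ) (l : K)⁻¹ := by
    simp only [classInner_eq_inv_card_sum_inv (IsIrr.isCharacter θ'.2)]
    rw [← Finset.mul_sum, Finset.sum_comm, mul_assoc]
    congr 1
    have h2 : ∀ k : K, ∑ m : M.D, ch m k * (θ' : K → ℂ) k⁻¹ =
        (if k ∈ M.L then (Nat.card M.D : ℂ) * ((θ : K → ℂ) k * (θ' : K → ℂ) k⁻¹) else 0) := by
      intro k
      simp only [ch, mul_assoc, ← Finset.sum_mul, M.sum_dual]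
      split_ifs <;> simp
    rw [Finset.sum_congr rfl fun k _ => h2 k, M.sum_L, ← Finset.mul_sum]
  rw [Finset.sum_eq_zero fun m _ => h0 m, eq_comm, mul_eq_zero] at h1
  rcases h1 with h1 | h1
  · exact mul_ne_zero (inv_ne_zero (Nat.cast_ne_zero.2 (Nat.card_pos (α := K)).ne'))
      (Nat.cast_ne_zero.2 Nat.card_pos.ne') h1
  have hA : IsCharacter M.L (fun l : M.L => (θ : K → ℂ) l) :=
    IsChar.res (IsIrr.isCharacter θ.2) M.L
  have hB : IsCharacter M.L (fun l : M.L => (θ' : K → ℂ) l) :=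
    IsChar.res (IsIrr.isCharacter θ'.2) M.L
  obtain ⟨a, ha, hda⟩ := IsChar.exists_decomp_inner hA
  obtain ⟨b, hb, hdb⟩ := IsChar.exists_decomp_inner hB
  have h3 : classInner (fun l : M.L => (θ : K → ℂ) l) (fun l : M.L => (θ' : K → ℂ) l) = 0 := by
    rw [classInner_eq_inv_card_sum_inv hB]
    exact mul_eq_zero_of_right _ h1
  rw [hda, hdb, classInner_sum_sum] at h3
  have h4 : ((∑ ψ : IrrCharacter M.L, a ψ * b ψ : ℕ) : ℂ) = 0 := by simpa using h3
  rw [Nat.cast_eq_zero] at h4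
  rcases mul_eq_zero.1 (Finset.sum_eq_zero_iff.1 h4 φ (Finset.mem_univ _)) with h5 | h5
  · exact h (by rw [ha, h5, Nat.cast_zero])
  · exact h' (by rw [hb, h5, Nat.cast_zero])

theorem exists_above (φ : IrrCharacter M.L) :
    ∃ θ : IrrCharacter K, classInner (fun l : M.L => (θ : K → ℂ) l) (φ : M.L → ℂ) ≠ 0 := by
  have h1 : indFun M.L (φ : M.L → ℂ) 1 ≠ 0 := by
    rw [indFun_one_eq]
    exact mul_ne_zero (Nat.cast_ne_zero.2 Subgroup.index_ne_zero_of_finite) (IsIrr.one_ne_zero φ.2)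
  obtain ⟨θ, hθ⟩ := IsChar.exists_constituent' (isCharacter_indFun M.L (IsIrr.isCharacter φ.2)) h1
  refine ⟨θ, fun h0 => hθ ?_⟩
  rw [classInner_indFun M.L _ (IsIrr.classFun θ.2), ← classInner_conj_symm, h0, map_zero]

theorem exists_fix_above {φ : IrrCharacter M.L} (hφ : M.FixedL φ) :
    ∃ θ : M.Fix, classInner (fun l : M.L => (θ.1 : K → ℂ) l) (φ : M.L → ℂ) ≠ 0 := by
  classical
  obtain ⟨χ, hχ⟩ := M.exists_above φ
  have hmv : ∀ t : S, ∃ m ∈ M.D, ∀ k,
      (χ : K → ℂ) k * ((m k : ℂˣ) : ℂ) = (χ : K → ℂ) ((M.act t).symm k) := by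
    intro t
    refine M.twist_of_common (θ' := ⟨fun k => (χ : K → ℂ) ((M.act t).symm k),
      IsIrr.comp_surjective (M.act t).symm.toMonoidHom (M.act t).symm.surjective χ.2⟩) hχ ?_
    have h1 : ∀ l : M.L, (M.act t).symm (l : K) = M.act t⁻¹ l := fun l => by
      rw [map_inv]; rfl
    let e : M.L →* M.L :=
      { toFun := fun l => ⟨M.act t⁻¹ l, M.actL _ l l.2⟩
        map_one' := Subtype.ext (map_one (M.act t⁻¹))
        map_mul' := fun a b => Subtype.ext (map_mul (M.act t⁻¹) _ _) }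
    have hes : Function.Surjective e := fun l => ⟨⟨M.act t l, M.actL t l l.2⟩, Subtype.ext (by
      show M.act t⁻¹ (M.act t l) = l
      rw [map_inv]
      exact (M.act t).symm_apply_apply l)⟩
    have h2 := classInner_comp_surjective e hes (fun l : M.L => (χ : K → ℂ) l) (φ : M.L → ℂ)
    have h3 : (fun l : M.L => (φ : M.L → ℂ) (e l)) = (φ : M.L → ℂ) := funext fun l => hφ t⁻¹ l
    rw [h3] at h2
    show classInner (fun l : M.L => (χ : K → ℂ) ((M.act t).symm (l : K))) _ ≠ 0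
    simp only [h1]
    exact fun h0 => hχ (h2.symm.trans h0)
  choose μ hμD hμ using hmv
  let St : Subgroup (K →* ℂˣ) :=
    { carrier := {n | ∀ k, (χ : K → ℂ) k * ((n k : ℂˣ) : ℂ) = (χ : K → ℂ) k}
      one_mem' := fun k => by simp
      mul_mem' := fun {a b} ha hb k => by
        rw [MonoidHom.mul_apply, Units.val_mul, ← mul_assoc, ha k, hb k]
      inv_mem' := fun {a} ha k => by
        rw [MonoidHom.inv_apply, Units.val_inv_eq_inv_val]
        conv_lhs => rw [← ha k]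
        rw [mul_assoc, mul_inv_cancel₀ (a k).ne_zero, mul_one] }
  have hco : ∀ t s : S, ∀ k, (χ : K → ℂ) k * (((μ (t * s)) k : ℂˣ) : ℂ) =
      (χ : K → ℂ) k * ((((μ t) k : ℂˣ) : ℂ) * (((μ s) ((M.act t).symm k) : ℂˣ) : ℂ)) := by
    intro t s k
    rw [hμ, ← mul_assoc, hμ, hμ, map_mul]
    rfl
  let N : K →* ℂˣ := ∏ s : S, μ s
  have hkey : ∀ t : S, ∀ k, (χ : K → ℂ) k *
      (((N k : ℂˣ) : ℂ)) = (χ : K → ℂ) k * ((((μ t) k : ℂˣ) : ℂ) ^ Fintype.card S *
        ((N ((M.act t).symm k) : ℂˣ) : ℂ)) := by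
    intro t k
    have h1 : ∀ s : S, μ (t * s) * (μ t * push (M.act t) (μ s))⁻¹ ∈ St := fun s x => by
      rw [MonoidHom.mul_apply, MonoidHom.inv_apply, MonoidHom.mul_apply, push_apply, Units.val_mul,
        ← mul_assoc, hco, mul_assoc, Units.val_inv_eq_inv_val, Units.val_mul, mul_inv_cancel₀
          (mul_ne_zero (Units.ne_zero _) (Units.ne_zero _)), mul_one]
    have h2 := Subgroup.prod_mem St (t := Finset.univ) fun s (_ : s ∈ Finset.univ) => h1 s
    have h3 := h2 k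
    rw [MonoidHom.finsetProd_apply] at h3
    simp only [MonoidHom.mul_apply, MonoidHom.inv_apply, push_apply, Units.coe_prod,
      Units.val_mul, Units.val_inv_eq_inv_val, Units.val_pow_eq_pow_val, Finset.prod_mul_distrib, Finset.prod_inv_distrib,
      Finset.prod_const, Finset.card_univ] at h3
    have h4 : ∏ s : S, (((μ (t * s)) k : ℂˣ) : ℂ) = ((N k : ℂˣ) : ℂ) := by
      rw [MonoidHom.finsetProd_apply, Units.coe_prod]
      exact Fintype.prod_equiv (Equiv.mulLeft t) _ _ fun s => rfl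
    have h5 : ∏ s : S, (((μ s) ((M.act t).symm k) : ℂˣ) : ℂ) =
        ((N ((M.act t).symm k) : ℂˣ) : ℂ) := by
      rw [MonoidHom.finsetProd_apply, Units.coe_prod]
    rw [h4, h5, ← mul_assoc, ← div_eq_mul_inv, div_eq_iff (mul_ne_zero (pow_ne_zero _ (Units.ne_zero _)) (Units.ne_zero _))] at h3
    exact h3
  obtain ⟨j, hj⟩ : ∃ j, Fintype.card S * j % Nat.card K = 1 % Nat.card K := by
    rcases Nat.lt_or_ge 1 (Nat.card K) with h1 | h1
    · obtain ⟨j, -, hj⟩ := Nat.exists_mul_mod_eq_one_of_coprime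
        (show (Fintype.card S).Coprime (Nat.card K) by
          rw [← Nat.card_eq_fintype_card]; exact M.coprime.symm) h1
      exact ⟨j, by rw [hj, Nat.mod_eq_of_lt h1]⟩
    · exact ⟨0, by rw [show Nat.card K = 1 by have := Nat.card_pos (α := K); omega, Nat.mod_one,
        Nat.mod_one]⟩
  let n : K →* ℂˣ := N ^ j
  let θ₀ : IrrCharacter K := ⟨fun k => ((n k : ℂˣ) : ℂ) * (χ : K → ℂ) k, IsIrr.mul_linear χ.2 n⟩
  have hμj : ∀ t k, (((μ t) k : ℂˣ) : ℂ) ^ (Fintype.card S * j) = (((μ t) k : ℂˣ) : ℂ) := by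
    intro t k
    have h1 : (μ t) k ^ (Fintype.card S * j) = (μ t) k := by
      have h2 : (μ t) k ^ Nat.card K = 1 := by rw [← map_pow, pow_card_eq_one', map_one]
      rw [pow_eq_pow_mod _ h2, hj, ← pow_eq_pow_mod _ h2, pow_one]
    exact_mod_cast congrArg Units.val h1
  have hfix : ∀ t, Maps (M.act t) θ₀ θ₀ := by
    intro t k
    set x := M.act t k
    have hx : (M.act t).symm x = k := MulEquiv.symm_apply_apply _ _
    show ((n x : ℂˣ) : ℂ) * (χ : K → ℂ) x = ((n k : ℂˣ) : ℂ) * (χ : K → ℂ) k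
    simp only [n, MonoidHom.pow_apply, Units.val_pow_eq_pow_val]
    by_cases h0 : (χ : K → ℂ) x = 0
    · have h1 := hμ t x
      rw [hx, h0, zero_mul] at h1
      rw [h0, ← h1]
      simp
    have h1 := hkey t x
    rw [hx] at h1
    rw [mul_left_cancel₀ h0 h1, mul_pow, ← pow_mul, hμj]
    have h2 := hμ t x
    rw [hx] at h2
    rw [← h2]
    ring
  refine ⟨⟨θ₀, hfix⟩, ?_⟩
  have hn : n ∈ M.D := Subgroup.pow_mem _ (Subgroup.prod_mem _ fun s _ => hμD s) j
  show classInner (fun l : M.L => ((n (l : K) : ℂˣ) : ℂ) * (χ : K → ℂ) l) _ ≠ 0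
  simp only [fun l : M.L => hn (l : K) l.2, Units.val_one, one_mul]
  exact hχ

omit [Fintype M.L] in
include M in
theorem odd_degree (θ : IrrCharacter K) : Odd (dimOf θ) :=
  Odd.of_dvd_nat M.oddK (IsIrr.degree_dvd_card θ.2 (dimOf_eq θ))

theorem fix_sum_odd {φ : IrrCharacter M.L} (hφ : M.FixedL φ) (b : M.Fix → ℕ)
    (hb : ∀ θ : M.Fix, classInner (fun l : M.L => (θ.1 : K → ℂ) l) (φ : M.L → ℂ) = b θ) :
    Odd (∑ θ : M.Fix, dimOf θ.1 * b θ) := by
  classical
  obtain ⟨θ₀, hθ₀⟩ := M.exists_fix_above hφ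
  rw [Finset.sum_eq_single θ₀ (fun θ _ hne => by
    by_contra h0
    have hbθ : b θ ≠ 0 := fun h => h0 (by rw [h, mul_zero])
    obtain ⟨m, hm, hm'⟩ := M.twist_of_common
      (show classInner (fun l : M.L => (θ.1 : K → ℂ) l) (φ : M.L → ℂ) ≠ 0 by
        rw [hb]; exact Nat.cast_ne_zero.2 hbθ) hθ₀
    exact hne (M.twist_fix hm hm').1.symm) (fun h => absurd (Finset.mem_univ _) h)]
  refine Odd.mul (M.odd_degree θ₀.1) ?_
  obtain ⟨a, ha, hda⟩ := IsChar.exists_decomp_inner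
    (isCharacter_indFun M.L (IsIrr.isCharacter φ.2))
  have hab : ∀ θ : IrrCharacter K, a θ ≠ 0 → a θ * dimOf θ = b θ₀ * dimOf θ₀.1 := by
    intro θ hθ
    have h1 : classInner (fun l : M.L => (θ : K → ℂ) l) (φ : M.L → ℂ) = (a θ : ℂ) := by
      rw [← classInner_conj_symm, ← classInner_indFun M.L _ (IsIrr.classFun θ.2), ha, map_natCast]
    obtain ⟨m, hm, hm'⟩ := M.twist_of_common hθ₀ (by rw [h1]; exact Nat.cast_ne_zero.2 hθ)
    have h2 : (θ : K → ℂ) 1 = (θ₀.1 : K → ℂ) 1 := by rw [← hm' 1]; simp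
    have h3 : (fun l : M.L => (θ : K → ℂ) l) = fun l : M.L => (θ₀.1 : K → ℂ) l :=
      funext fun l => by rw [← hm' l, hm l l.2, Units.val_one, mul_one]
    rw [h3, hb] at h1
    rw [dimOf_eq, dimOf_eq, Nat.cast_inj] at h2
    rw [h2, Nat.cast_inj.1 h1]
  have hdeg : (M.L.index * dimOf φ : ℕ) = ∑ θ : IrrCharacter K, a θ * dimOf θ := by
    have h1 := congrFun hda 1
    rw [indFun_one_eq, dimOf_eq] at h1
    simp only [Finset.sum_apply, Pi.smul_apply, smul_eq_mul, dimOf_eq] at h1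
    exact_mod_cast h1
  have hoddL : Odd (Nat.card M.L) := Odd.of_dvd_nat M.oddK (Subgroup.card_subgroup_dvd_card _)
  have hodd : Odd (M.L.index * dimOf φ) :=
    Odd.mul (Odd.of_dvd_nat M.oddK M.L.index_dvd_card)
      (hoddL.of_dvd_nat (IsIrr.degree_dvd_card φ.2 (dimOf_eq φ)))
  rw [hdeg, ← Finset.sum_subset (Finset.filter_subset (fun θ => a θ ≠ 0) Finset.univ)
    (fun θ _ hθ => by
      rw [show a θ = 0 by simpa using hθ, zero_mul]),
    Finset.sum_congr rfl fun θ hθ => hab θ (Finset.mem_filter.1 hθ).2, Finset.sum_const,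
    smul_eq_mul] at hodd
  exact (Nat.odd_mul.1 (Nat.odd_mul.1 hodd).2).1

end Mag

variable {G : Type u} [Group G] [Fintype G] {K H : Subgroup G} [K.Normal] [Fintype K] [Fintype H]
  {S : Type v} [Group S] [Fintype S] {M : Mag K S} [Fintype M.L]

theorem Sect.inner_ind (hs : Sect K H M) {ψ : H → ℂ} (hψ : IsCharacter H ψ)
    {θ : K → ℂ} (hθ : IsCharacter K θ) :
    classInner (fun k : K => indFun H ψ k) θ =
      classInner (fun l : M.L => ψ (hs.incl l)) (fun l : M.L => θ l) := by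
  classical
  rw [classInner_eq_inv_card_sum_inv hθ, classInner_eq_inv_card_sum_inv (IsChar.res hθ M.L)]
  simp only [indFun]
  have h1 : ∀ y : G, ∑ k : K, extendByZero H ψ (y⁻¹ * (k : G) * y) * θ k⁻¹ =
      ∑ k : K, (if (k : G) ∈ H then extendByZero H ψ (k : G) *
        θ (MulAut.conjNormal y k)⁻¹ else 0) := by
    intro y
    refine Fintype.sum_equiv (MulAut.conjNormal y⁻¹ : K ≃* K).toEquiv _ _ fun k => ?_
    have e1 : ((MulAut.conjNormal y⁻¹ k : K) : G) = y⁻¹ * k * y := by simp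
    have e2 : MulAut.conjNormal y (MulAut.conjNormal y⁻¹ k) = k := by
      rw [← MulAut.mul_apply, ← map_mul, mul_inv_cancel, map_one, MulAut.one_apply]
    simp only [MulEquiv.toEquiv_eq_coe, MulEquiv.coe_toEquiv, e1, e2]
    split_ifs with hm
    · rfl
    · rw [extendByZero_not_mem _ hm, zero_mul]
  have h2 : ∀ (h : H) (k' : K), ∑ k : K, (if (k : G) ∈ H then extendByZero H ψ (k : G) *
      θ (MulAut.conjNormal ((h : G) * k') k)⁻¹ else 0) =
      ∑ l : M.L, ψ (hs.incl l) * θ ((l : K))⁻¹ := by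
    intro h k'
    simp only [hs.inter]
    rw [M.sum_L]
    obtain ⟨c, l₀, hl₀, hc⟩ := hs.conj h h.2
    have hθk : ∀ k : K, θ (MulAut.conjNormal ((h : G) * k') k)⁻¹ =
        θ (MulAut.conjNormal (h : G) k)⁻¹ := by
      intro k
      rw [map_mul, MulAut.mul_apply, show MulAut.conjNormal (k' : G) k = k' * k * k'⁻¹ from
        Subtype.ext (by simp), map_mul, map_mul, map_inv,
        show ((MulAut.conjNormal (h : G)) k' * MulAut.conjNormal (h : G) k *
          ((MulAut.conjNormal (h : G)) k')⁻¹)⁻¹ = (MulAut.conjNormal (h : G)) k' *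
          (MulAut.conjNormal (h : G) k)⁻¹ * ((MulAut.conjNormal (h : G)) k')⁻¹ by group,
        IsChar.classFun hθ]
    have hmem : ∀ l : M.L, MulAut.conjNormal (h : G) (l : K) ∈ M.L := fun l => by
      rw [← hs.inter]
      simp only [MulAut.conjNormal_apply]
      exact mul_mem (mul_mem h.2 ((hs.inter _).2 l.2)) (inv_mem h.2)
    let e : M.L ≃ M.L := Equiv.ofBijective (fun l => ⟨_, hmem l⟩)
      (Finite.injective_iff_bijective.1 fun a b hab =>
        Subtype.ext ((MulAut.conjNormal (h : G)).injective (congrArg Subtype.val hab)))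
    refine Fintype.sum_equiv e _ _ fun l => ?_
    rw [hθk, extendByZero_of_mem _ ((hs.inter _).2 l.2)]
    congr 1
    rw [show hs.incl (e l) = h * hs.incl l * h⁻¹ from Subtype.ext (by
      simp [e, Sect.incl]), IsChar.classFun hψ]
    rfl
  set T := ∑ l : M.L, ψ (hs.incl l) * θ ((l : K))⁻¹
  have h3 := sum_sum_cover hs (fun y : G => ∑ k : K, (if (k : G) ∈ H then
    extendByZero H ψ (k : G) * θ (MulAut.conjNormal y k)⁻¹ else 0))
  simp only [h2, Finset.sum_const, Finset.card_univ, ← Nat.card_eq_fintype_card,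
    nsmul_eq_mul] at h3
  simp only [mul_assoc, Finset.sum_mul, ← Finset.mul_sum]
  rw [Finset.sum_comm]
  simp only [← mul_assoc] at h1 ⊢
  rw [Finset.sum_congr rfl fun y _ => h1 y]
  have hL : (Nat.card M.L : ℂ) ≠ 0 := Nat.cast_ne_zero.2 Nat.card_pos.ne'
  have hH : (Nat.card H : ℂ) ≠ 0 := Nat.cast_ne_zero.2 Nat.card_pos.ne'
  have hK : (Nat.card K : ℂ) ≠ 0 := Nat.cast_ne_zero.2 Nat.card_pos.ne'
  rw [show (∑ y : G, ∑ k : K, (if (k : G) ∈ H then extendByZero H ψ (k : G) *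
    θ (MulAut.conjNormal y k)⁻¹ else 0)) = (Nat.card M.L : ℂ)⁻¹ *
      ((Nat.card H : ℂ) * ((Nat.card K : ℂ) * T)) by rw [h3, inv_mul_cancel_left₀ hL]]
  field_simp
  simp [T]

theorem Sect.onto (hs : Sect K H M) {act : S →* MulAut G} (he : Extended K H M act)
    (ψ : IrrCharacter H) (hψ : InvH he ψ)
    (hconst : ∀ φ : IrrCharacter M.L,
      classInner (fun l : M.L => (ψ : H → ℂ) (hs.incl l)) (φ : M.L → ℂ) ≠ 0 → M.FixedL φ) :
    ∃ χ : IrrCharacter G, Inv act χ ∧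
      ∃ m : ℕ, classInner (fun h : H => (χ : G → ℂ) h) (ψ : H → ℂ) = m ∧ Odd m := by
  classical
  have hψL : IsCharacter M.L (fun l : M.L => (ψ : H → ℂ) (hs.incl l)) :=
    IsChar.comp hs.incl (IsIrr.isCharacter ψ.2)
  obtain ⟨a, ha, hda⟩ := IsChar.exists_decomp_inner hψL
  have hb : ∀ (θ : M.Fix) (φ : IrrCharacter M.L), ∃ b : ℕ,
      classInner (fun l : M.L => (θ.1 : K → ℂ) l) (φ : M.L → ℂ) = b := fun θ φ =>
    IsChar.classInner_nat (IsChar.res (IsIrr.isCharacter θ.1.2) M.L) (IsIrr.isCharacter φ.2)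
  choose b hb using hb
  have hind := isCharacter_indFun H (IsIrr.isCharacter ψ.2)
  obtain ⟨m, hm, hdm⟩ := IsChar.exists_decomp_inner hind
  have hmχ : ∀ χ : IrrCharacter G, classInner (fun h : H => (χ : G → ℂ) h) (ψ : H → ℂ) = m χ := by
    intro χ
    rw [← classInner_conj_symm, ← classInner_indFun H _ (IsIrr.classFun χ.2), hm, map_natCast]
  have hX : tv (fun k : K => indFun H (ψ : H → ℂ) k) M.eF =
      ((∑ φ : IrrCharacter M.L, a φ * ∑ θ : M.Fix, dimOf θ.1 * b θ φ : ℕ) : ℂ) := by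
    rw [Mag.eF, map_sum]
    simp only [blk_sum_tv]
    push_cast
    simp only [Finset.mul_sum]
    rw [Finset.sum_comm (γ := IrrCharacter M.L)]
    refine Finset.sum_congr rfl fun θ _ => ?_
    rw [hs.inner_ind (IsIrr.isCharacter ψ.2) (IsIrr.isCharacter θ.1.2), hda]
    have hdb : (fun l : M.L => (θ.1 : K → ℂ) l) =
        ∑ φ : IrrCharacter M.L, (b θ φ : ℂ) • (φ : M.L → ℂ) := by
      conv_lhs => rw [classFunction_expansion
        (IsChar.classFun (IsChar.res (IsIrr.isCharacter θ.1.2) M.L))]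
      exact Finset.sum_congr rfl fun φ _ => by rw [hb]
    rw [hdb, classInner_sum_sum, Finset.mul_sum]
    exact Finset.sum_congr rfl fun φ _ => by rw [dimOf_eq, map_natCast]; ring
  have hodd : Odd (∑ φ : IrrCharacter M.L, a φ * ∑ θ : M.Fix, dimOf θ.1 * b θ φ) := by
    have h1 : ∀ φ : IrrCharacter M.L,
        (((a φ * ∑ θ : M.Fix, dimOf θ.1 * b θ φ : ℕ) : ZMod 2)) = ((a φ * dimOf φ : ℕ) : ZMod 2) := by
      intro φ
      by_cases h0 : a φ = 0
      · simp [h0]
      have hφ := hconst φ (by rw [ha]; exact Nat.cast_ne_zero.2 h0)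
      rw [Nat.cast_mul, Nat.cast_mul, (ZMod.natCast_eq_one_iff_odd).2
        (M.fix_sum_odd hφ (fun θ => b θ φ) fun θ => hb θ φ), (ZMod.natCast_eq_one_iff_odd).2
        (Odd.of_dvd_nat (Odd.of_dvd_nat M.oddK (Subgroup.card_subgroup_dvd_card _))
          (IsIrr.degree_dvd_card φ.2 (dimOf_eq φ)))]
    rw [← ZMod.natCast_eq_one_iff_odd, Nat.cast_sum, Finset.sum_congr rfl fun φ _ => h1 φ,
      ← Nat.cast_sum, ZMod.natCast_eq_one_iff_odd]
    have hdeg : dimOf ψ = ∑ φ : IrrCharacter M.L, a φ * dimOf φ := by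
      have h2 := congrFun hda 1
      simp only [map_one, Finset.sum_apply, Pi.smul_apply, smul_eq_mul, dimOf_eq] at h2
      exact_mod_cast h2
    rw [← hdeg]
    exact (hs.oddG.of_dvd_nat (Subgroup.card_subgroup_dvd_card _)).of_dvd_nat
      (IsIrr.degree_dvd_card ψ.2 (dimOf_eq ψ))
  obtain ⟨χ, hgood, hmodd⟩ : ∃ χ : IrrCharacter G, Good M χ ∧ Odd (m χ) := by
    by_contra hc
    push Not at hc
    have h1 : tv (fun k : K => indFun H (ψ : H → ℂ) k) M.eF =
        ((∑ χ ∈ Finset.univ.filter (fun χ => Good M χ), m χ * dimOf χ : ℕ) : ℂ) := by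
      rw [Nat.cast_sum]
      have h2 : tv (fun k : K => indFun H (ψ : H → ℂ) k) M.eF =
          ∑ χ : IrrCharacter G, (m χ : ℂ) * tv (fun k : K => (χ : G → ℂ) k) M.eF := by
        conv_lhs => rw [eq_sum M.eF]
        conv_rhs => arg 2; ext χ; rw [eq_sum M.eF]
        simp only [map_sum, map_smul, tv_el, smul_eq_mul, Finset.mul_sum]
        rw [Finset.sum_comm]
        refine Finset.sum_congr rfl fun k _ => ?_
        rw [hdm]
        simp only [Finset.sum_apply, Pi.smul_apply, smul_eq_mul, Finset.mul_sum]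
        exact Finset.sum_congr rfl fun χ _ => by ring
      rw [h2, Finset.sum_filter]
      refine Finset.sum_congr rfl fun χ _ => ?_
      split_ifs with hg
      · rw [(hs.good_iff χ).2 hg, dimOf_eq, Nat.cast_mul]
      · rw [not_not.1 (fun h => hg ((hs.good_iff χ).1.2 h)), mul_zero]
    rw [hX, Nat.cast_inj] at h1
    rw [h1] at hodd
    refine Nat.not_odd_iff_even.2 (Finset.even_sum _ fun χ hχ => ?_) hodd
    exact (Nat.not_odd_iff_even.1 (hc χ (Finset.mem_filter.1 hχ).2)).mul_right _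
  obtain ⟨φ, hφ⟩ := IsChar.exists_constituent' hψL (by
    show (ψ : H → ℂ) (hs.incl 1) ≠ 0
    rw [map_one]; exact IsIrr.one_ne_zero ψ.2)
  obtain ⟨ψ₀, ε, hε, hδ⟩ := hs.delta_irr hgood
  obtain rfl := (hs.odd_iff hgood hε hδ (hconst φ hφ) hφ (hmχ χ)).1 hmodd
  refine ⟨χ, fun s g => ?_, m χ, hmχ χ, hmodd⟩
  let χ' : IrrCharacter G := ⟨fun g => (χ : G → ℂ) (act s g),
    IsIrr.comp_surjective (act s).toMonoidHom (act s).surjective χ.2⟩
  have hδ' : delta H M χ' = ε • (ψ : H → ℂ) := funext fun h => by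
    rw [delta_comp he (χ := χ) (χ' := χ') s (fun _ => rfl), hδ]
    simp only [Pi.smul_apply, hψ s h]
  have hε0 : ε ≠ 0 := by rcases hε with rfl | rfl <;> norm_num
  have heq := hs.eq_of_delta (hs.good_comp he (χ := χ) (χ' := χ') s (fun _ => rfl) hgood) hgood
    hε0 hε0 hδ' hδ
  exact congrArg (fun x : IrrCharacter G => (x : G → ℂ) g) heq

end Cfsg.Agent.Char.OddMagic
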