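import Cfsg.Agent.Lib.Char.OddMagicSection

/-!
The involutive operator of a fixed character of an abelian section: the normalised sum of the
canonical section over all lines.
-/

namespace Cfsg.Agent.Char.OddMagic

open Cfsg Module

set_option linter.unusedSectionVars false
set_option linter.style.haveILetI false

universe u v

variable {K : Type u} [Group K] [Fintype K] {S : Type v} [Group S] [Fintype S] (M : Mag K S)

namespace Mag

/-- The canonical element of a line. -/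
noncomputable def sg (θ : M.Fix) (a : M.Lam θ.1) : MonoidAlgebra ℂ K := (M.sigma θ a).1.2

theorem sg_line (θ : M.Fix) (a : M.Lam θ.1) : InLine θ.1 (a : K →* ℂˣ) (M.sg θ a) := by
  have h := (M.sigma θ a).2
  rwa [sigma_fst] at h

theorem sg_blk (θ : M.Fix) (a : M.Lam θ.1) : M.sg θ a * blk θ.1 = M.sg θ a := (M.sg_line θ a).1

theorem blk_sg (θ : M.Fix) (a : M.Lam θ.1) : blk θ.1 * M.sg θ a = M.sg θ a := by
  rw [blk_comm, M.sg_blk]

theorem sg_mul (θ : M.Fix) (a b : M.Lam θ.1) :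
    M.sg θ a * M.sg θ b = M.cc θ.1 b a • M.sg θ (a * b) := by
  have h : M.sg θ (a * b) = M.cc θ.1 a b • (M.sg θ a * M.sg θ b) := by
    rw [sg, sigma_mul, E_mul_snd, sigma_fst, sigma_fst]
    rfl
  rw [h, smul_smul, mul_comm (M.cc θ.1 b a), M.cc_swap_mul, one_smul]

theorem sg_one (θ : M.Fix) : M.sg θ 1 = blk θ.1 := by
  have h : M.sigma θ 1 = 1 := M.root_unique (M.sigma_fst θ 1) (M.sigma_pow θ 1) (M.sigma_norm θ 1)
    (one_pow _) (map_one _)
  rw [sg, h]
  rfl

noncomputable instance (θ : IrrCharacter K) : Fintype (M.Lam θ) := by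
  haveI : Finite (K →* ℂˣ) := by
    have h : ∀ m : K →* ℂˣ, ∀ k, (m k : ℂ) ∈ Polynomial.nthRootsFinset (Nat.card K) (1 : ℂ) := by
      intro m k
      rw [Polynomial.mem_nthRootsFinset (Nat.card_pos (α := K)), ← Units.val_pow_eq_pow_val,
        ← map_pow, pow_card_eq_one', map_one, Units.val_one]
    refine Finite.of_injective (fun m k => (⟨_, h m k⟩ :
      Polynomial.nthRootsFinset (Nat.card K) (1 : ℂ))) fun m m' he => ?_
    ext k
    exact congrArg Subtype.val (congrFun he k)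
  exact Fintype.ofFinite _

/-- The radical of the pairing. -/
def rad (θ : IrrCharacter K) : Subgroup (M.Lam θ) where
  carrier := {a | ∀ b, M.com θ a b = 1}
  one_mem' b := M.com_one_left b
  mul_mem' ha hb d := by rw [M.com_mul_left, ha d, hb d, one_mul]
  inv_mem' {a} ha d := by
    have h := M.com_mul_left a⁻¹ a d
    rw [inv_mul_cancel, M.com_one_left, ha d, mul_one] at h
    exact h.symm

theorem cc_rad_left {θ : IrrCharacter K} {r : M.Lam θ} (hr : r ∈ M.rad θ) (a : M.Lam θ) :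
    M.cc θ r a = 1 := by rw [cc, hr a, one_pow]

theorem cc_rad_right {θ : IrrCharacter K} {r : M.Lam θ} (hr : r ∈ M.rad θ) (a : M.Lam θ) :
    M.cc θ a r = 1 := by
  simpa [M.cc_rad_left hr a] using M.cc_swap_mul θ r a

open Classical in
theorem sum_cc (θ : IrrCharacter K) (s : M.Lam θ) :
    ∑ a : M.Lam θ, M.cc θ s a = if s ∈ M.rad θ then (Nat.card (M.Lam θ) : ℂ) else 0 := by
  split_ifs with h
  · simp [M.cc_rad_left h, Nat.card_eq_fintype_card]
  · obtain ⟨b, hb⟩ : ∃ b, M.com θ s b ≠ 1 := by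
      by_contra hc
      push Not at hc
      exact h hc
    have hb' : M.cc θ s b ≠ 1 := fun h => hb ((M.cc_eq_one_iff θ s b).1 h)
    have h1 : M.cc θ s b * ∑ a : M.Lam θ, M.cc θ s a = 1 * ∑ a : M.Lam θ, M.cc θ s a := by
      rw [one_mul, Finset.mul_sum]
      refine Fintype.sum_equiv (Equiv.mulLeft b) _ _ fun a => ?_
      rw [Equiv.coe_mulLeft, M.cc_mul_right]
    exact (mul_eq_mul_right_iff.1 h1).resolve_left hb'

open Classical in
/-- The averaged radical section. -/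
noncomputable def pr (θ : M.Fix) : MonoidAlgebra ℂ K :=
  (Nat.card (M.rad θ.1) : ℂ)⁻¹ • ∑ r ∈ Finset.univ.filter (· ∈ M.rad θ.1), M.sg θ r

/-- The sum of the section. -/
noncomputable def op0 (θ : M.Fix) : MonoidAlgebra ℂ K := ∑ a : M.Lam θ.1, M.sg θ a

/-- The normalisation. -/
noncomputable def opw (θ : M.Fix) : ℂ :=
  ((Real.sqrt ((Nat.card (M.Lam θ.1) * Nat.card (M.rad θ.1) : ℕ) : ℝ) : ℝ) : ℂ)

theorem opw_sq (θ : M.Fix) :
    M.opw θ * M.opw θ = (Nat.card (M.Lam θ.1) : ℂ) * (Nat.card (M.rad θ.1) : ℂ) := by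
  rw [opw, ← Complex.ofReal_mul, Real.mul_self_sqrt (Nat.cast_nonneg _)]
  push_cast
  rfl

theorem opw_ne_zero (θ : M.Fix) : M.opw θ ≠ 0 := fun h => by
  have := M.opw_sq θ
  rw [h, mul_zero] at this
  exact mul_ne_zero (Nat.cast_ne_zero.2 Nat.card_pos.ne') (Nat.cast_ne_zero.2 Nat.card_pos.ne')
    this.symm

/-- The involutive operator. -/
noncomputable def op (θ : M.Fix) : MonoidAlgebra ℂ K := (M.opw θ)⁻¹ • M.op0 θ

open Classical in
theorem pr_eq (θ : M.Fix) : (Nat.card (M.rad θ.1) : ℂ) • M.pr θ =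
    ∑ r ∈ Finset.univ.filter (· ∈ M.rad θ.1), M.sg θ r := by
  rw [pr, smul_smul, mul_inv_cancel₀ (Nat.cast_ne_zero.2 Nat.card_pos.ne'), one_smul]

theorem op0_sq (θ : M.Fix) :
    M.op0 θ * M.op0 θ = ((Nat.card (M.Lam θ.1) : ℂ) * (Nat.card (M.rad θ.1) : ℂ)) • M.pr θ := by
  classical
  rw [op0, Finset.sum_mul]
  simp only [Finset.mul_sum, M.sg_mul]
  have h1 : ∀ a : M.Lam θ.1, ∑ b : M.Lam θ.1, M.cc θ.1 b a • M.sg θ (a * b) =
      ∑ s : M.Lam θ.1, M.cc θ.1 s a • M.sg θ s := by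
    intro a
    refine Fintype.sum_equiv (Equiv.mulLeft a) _ _ fun b => ?_
    rw [Equiv.coe_mulLeft, M.cc_mul_left, M.cc_self, one_mul]
  rw [Finset.sum_congr rfl fun a _ => h1 a, Finset.sum_comm]
  simp only [← Finset.sum_smul, M.sum_cc]
  rw [← smul_smul, M.pr_eq, Finset.smul_sum, Finset.sum_filter]
  refine Finset.sum_congr rfl fun s _ => ?_
  split_ifs <;> simp

theorem op_sq (θ : M.Fix) : M.op θ * M.op θ = M.pr θ := by
  rw [op, smul_mul_smul_comm, op0_sq, smul_smul, ← mul_inv, M.opw_sq, inv_mul_cancel₀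
    (mul_ne_zero (Nat.cast_ne_zero.2 Nat.card_pos.ne') (Nat.cast_ne_zero.2 Nat.card_pos.ne')),
    one_smul]

theorem sg_rad_pr (θ : M.Fix) {r : M.Lam θ.1} (hr : r ∈ M.rad θ.1) :
    M.sg θ r * M.pr θ = M.pr θ := by
  classical
  rw [pr, mul_smul_comm, Finset.mul_sum]
  congr 1
  refine Finset.sum_bij' (fun x _ => r * x) (fun x _ => r⁻¹ * x) ?_ ?_ ?_ ?_ ?_
  · intro x hx; simp only [Finset.mem_filter, Finset.mem_univ, true_and] at hx ⊢
    exact mul_mem hr hx
  · intro x hx; simp only [Finset.mem_filter, Finset.mem_univ, true_and] at hx ⊢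
    exact mul_mem (inv_mem hr) hx
  · intro x _; exact inv_mul_cancel_left r x
  · intro x _; exact mul_inv_cancel_left r x
  · intro x _; rw [M.sg_mul, M.cc_rad_right hr, one_smul]

theorem sg_pr_comm (θ : M.Fix) (a : M.Lam θ.1) : M.sg θ a * M.pr θ = M.pr θ * M.sg θ a := by
  classical
  rw [pr, mul_smul_comm, smul_mul_assoc, Finset.mul_sum, Finset.sum_mul]
  congr 1
  refine Finset.sum_congr rfl fun r hr => ?_
  rw [M.sg_mul, M.sg_mul, M.cc_rad_left (Finset.mem_filter.1 hr).2,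
    M.cc_rad_right (Finset.mem_filter.1 hr).2, mul_comm a]

theorem pr_blk (θ : M.Fix) : M.pr θ * blk θ.1 = M.pr θ := by
  classical
  rw [pr, smul_mul_assoc, Finset.sum_mul]
  simp only [M.sg_blk]

theorem op_blk (θ : M.Fix) : M.op θ * blk θ.1 = M.op θ := by
  rw [op, op0, smul_mul_assoc, Finset.sum_mul]
  simp only [M.sg_blk]

theorem pr_op (θ : M.Fix) : M.pr θ * M.op θ = M.op θ := by
  classical
  have h0 : M.pr θ * M.op0 θ = M.op0 θ := by
    have h1 : ∀ r ∈ Finset.univ.filter (· ∈ M.rad θ.1), M.sg θ r * M.op0 θ = M.op0 θ := by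
      intro r hr
      rw [op0, Finset.mul_sum]
      refine Fintype.sum_equiv (Equiv.mulLeft r) _ _ fun a => ?_
      rw [Equiv.coe_mulLeft, M.sg_mul, M.cc_rad_right (Finset.mem_filter.1 hr).2, one_smul]
    rw [pr, smul_mul_assoc, Finset.sum_mul, Finset.sum_congr rfl h1, Finset.sum_const,
      ← Nat.cast_smul_eq_nsmul ℂ, smul_smul, show (Finset.univ.filter (· ∈ M.rad θ.1)).card =
        Nat.card (M.rad θ.1) by rw [Nat.card_eq_fintype_card, Fintype.card_subtype],
      inv_mul_cancel₀ (Nat.cast_ne_zero.2 Nat.card_pos.ne'), one_smul]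
  rw [op, mul_smul_comm, h0]

theorem op_pr (θ : M.Fix) : M.op θ * M.pr θ = M.op θ := by
  have h : M.op θ * M.pr θ = M.pr θ * M.op θ := by
    rw [← M.op_sq, mul_assoc]
  rw [h, M.pr_op]

theorem pr_sq (θ : M.Fix) : M.pr θ * M.pr θ = M.pr θ := by
  rw [show M.pr θ * M.pr θ = (M.op θ * M.op θ) * M.pr θ by rw [M.op_sq], mul_assoc, M.op_pr,
    M.op_sq]

/-- The operator inverts lines. -/
theorem op_sg (θ : M.Fix) (b : M.Lam θ.1) : M.op θ * M.sg θ b = M.sg θ b⁻¹ * M.op θ := by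
  rw [op, smul_mul_assoc, mul_smul_comm, op0, Finset.sum_mul, Finset.mul_sum]
  congr 1
  simp only [M.sg_mul]
  refine Fintype.sum_equiv (Equiv.mulRight (b * b)) _ _ fun a => ?_
  rw [Equiv.coe_mulRight, show b⁻¹ * (a * (b * b)) = a * b by
    rw [mul_left_comm, inv_mul_cancel_left]]
  congr 1
  have hcs : M.cc θ.1 b b⁻¹ = 1 := by
    simpa [M.cc_self, M.cc_one_right] using (M.cc_mul_right θ.1 b b b⁻¹).symm
  rw [M.cc_mul_left, M.cc_mul_left, hcs, one_mul, mul_one]
  have h1 := M.cc_swap_mul θ.1 b a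
  have h2 : M.cc θ.1 a b * M.cc θ.1 a b⁻¹ = 1 := by
    rw [← M.cc_mul_right, mul_inv_cancel, M.cc_one_right]
  calc M.cc θ.1 b a = M.cc θ.1 b a * (M.cc θ.1 a b * M.cc θ.1 a b⁻¹) := by rw [h2, mul_one]
    _ = _ := by rw [← mul_assoc, h1, one_mul]

theorem op_comm_el (θ : M.Fix) {l : K} (hl : l ∈ M.L) : el l * M.op θ = M.op θ * el l := by
  rw [op, mul_smul_comm, smul_mul_assoc, op0, Finset.mul_sum, Finset.sum_mul]
  congr 1
  exact Finset.sum_congr rfl fun a _ => (M.sg_line θ a).commute (a.2.1 l hl)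

theorem pr_comm_el (θ : M.Fix) {l : K} (hl : l ∈ M.L) : el l * M.pr θ = M.pr θ * el l := by
  classical
  rw [pr, mul_smul_comm, smul_mul_assoc, Finset.mul_sum, Finset.sum_mul]
  congr 1
  exact Finset.sum_congr rfl fun a _ => (M.sg_line θ a).commute (a.2.1 l hl)

theorem Compat.tr_sg (c : M.Compat) {θ θ' : M.Fix} (h : Maps c.f θ.1 θ'.1) (a : M.Lam θ.1) :
    tr c.f (M.sg θ a) = M.sg θ' (c.lam M h a) :=
  congrArg (fun x : M.E θ'.1 => x.1.2) (Compat.sigma M c h a)

/-- The inverse of a compatible automorphism. -/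
def Compat.symm (c : M.Compat) : M.Compat where
  f := c.f.symm
  perm := c.perm.symm
  mapL l hl := by
    have hsub : M.L.map c.f.toMonoidHom ≤ M.L := by
      rintro _ ⟨x, hx, rfl⟩; exact c.mapL x hx
    have heq : M.L.map c.f.toMonoidHom = M.L :=
      Subgroup.eq_of_le_of_card_ge hsub (by rw [Subgroup.card_map_of_injective c.f.injective])
    rw [← heq] at hl
    obtain ⟨x, hx, rfl⟩ := hl
    simpa using hx
  comm s k := by
    apply c.f.injective
    rw [c.comm, MulEquiv.apply_symm_apply, MulEquiv.apply_symm_apply, Equiv.apply_symm_apply]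

theorem maps_symm {f : K ≃* K} {θ θ' : IrrCharacter K} (h : Maps f θ θ') : Maps f.symm θ' θ :=
  fun k => by
    have := h (f.symm k)
    rw [MulEquiv.apply_symm_apply] at this
    exact this.symm

/-- The transported index, as a bijection. -/
noncomputable def Compat.lamEquiv (c : M.Compat) {θ θ' : IrrCharacter K} (h : Maps c.f θ θ') :
    M.Lam θ ≃* M.Lam θ' where
  toFun := c.lam M h
  invFun := (Compat.symm M c).lam M (maps_symm h)
  left_inv a := Subtype.ext (MonoidHom.ext fun k => by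
    show (a : K →* ℂˣ) (c.f.symm (c.f k)) = _
    rw [MulEquiv.symm_apply_apply])
  right_inv a := Subtype.ext (MonoidHom.ext fun k => by
    show (a : K →* ℂˣ) (c.f (c.f.symm k)) = _
    rw [MulEquiv.apply_symm_apply])
  map_mul' := map_mul (c.lam M h)

theorem Compat.mem_rad_iff (c : M.Compat) {θ θ' : IrrCharacter K} (h : Maps c.f θ θ')
    (a : M.Lam θ) : c.lam M h a ∈ M.rad θ' ↔ a ∈ M.rad θ := by
  constructor
  · intro ha b
    rw [← Compat.com_eq M c h]
    exact ha _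
  · intro ha b
    obtain ⟨b, rfl⟩ := (Compat.lamEquiv M c h).surjective b
    exact (Compat.com_eq M c h a b).trans (ha b)

theorem Compat.card_rad (c : M.Compat) {θ θ' : IrrCharacter K} (h : Maps c.f θ θ') :
    Nat.card (M.rad θ') = Nat.card (M.rad θ) :=
  (Nat.card_congr ((Compat.lamEquiv M c h).toEquiv.subtypeEquiv fun a =>
    (Compat.mem_rad_iff M c h a).symm)).symm

theorem Compat.tr_pr (c : M.Compat) {θ θ' : M.Fix} (h : Maps c.f θ.1 θ'.1) :
    tr c.f (M.pr θ) = M.pr θ' := by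
  classical
  rw [pr, pr, map_smul, map_sum, Compat.card_rad M c h]
  congr 1
  refine Finset.sum_equiv (Compat.lamEquiv M c h).toEquiv (fun a => ?_) fun a _ => Compat.tr_sg M c h a
  simp only [Finset.mem_filter, Finset.mem_univ, true_and]
  exact (Compat.mem_rad_iff M c h a).symm

theorem Compat.tr_op (c : M.Compat) {θ θ' : M.Fix} (h : Maps c.f θ.1 θ'.1) :
    tr c.f (M.op θ) = M.op θ' := by
  have h1 : M.opw θ' = M.opw θ := by
    rw [opw, opw, Compat.card_rad M c h, Nat.card_congr (Compat.lamEquiv M c h).symm.toEquiv]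
  rw [op, op, map_smul, h1, op0, op0, map_sum]
  congr 1
  exact Fintype.sum_equiv (Compat.lamEquiv M c h).toEquiv _ _ fun a => Compat.tr_sg M c h a

end Mag

end Cfsg.Agent.Char.OddMagic
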