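import Cfsg.Agent.Lib.Char.OddMagicGlobal

/-!
Operators on homomorphism spaces: conjugation, eigenprojections for linear characters of the
section, and their interaction with the lines.
-/

namespace Cfsg.Agent.Char.OddMagic

open Cfsg Module

set_option linter.unusedSectionVars false
set_option linter.style.haveILetI false

universe u v

variable {m n : ℕ}

/-- Two-sided multiplication on rectangular matrices. -/
noncomputable def Opr (A : Matrix (Fin m) (Fin m) ℂ) (B : Matrix (Fin n) (Fin n) ℂ) :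
    End ℂ (Matrix (Fin m) (Fin n) ℂ) where
  toFun X := A * X * B
  map_add' X Y := by rw [Matrix.mul_add, Matrix.add_mul]
  map_smul' c X := by simp

theorem Opr_apply (A : Matrix (Fin m) (Fin m) ℂ) (B : Matrix (Fin n) (Fin n) ℂ)
    (X : Matrix (Fin m) (Fin n) ℂ) : Opr A B X = A * X * B := rfl

theorem Opr_mul (A A' : Matrix (Fin m) (Fin m) ℂ) (B B' : Matrix (Fin n) (Fin n) ℂ) :
    Opr A B * Opr A' B' = Opr (A * A') (B' * B) :=
  LinearMap.ext fun X => by simp [Opr_apply, Matrix.mul_assoc]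

theorem Opr_one : Opr (1 : Matrix (Fin m) (Fin m) ℂ) (1 : Matrix (Fin n) (Fin n) ℂ) = 1 :=
  LinearMap.ext fun X => by simp [Opr_apply]

theorem Opr_smul_left (c : ℂ) (A : Matrix (Fin m) (Fin m) ℂ) (B : Matrix (Fin n) (Fin n) ℂ) :
    Opr (c • A) B = c • Opr A B :=
  LinearMap.ext fun X => by simp [Opr_apply]

theorem Opr_smul_right (c : ℂ) (A : Matrix (Fin m) (Fin m) ℂ) (B : Matrix (Fin n) (Fin n) ℂ) :
    Opr A (c • B) = c • Opr A B :=
  LinearMap.ext fun X => by simp [Opr_apply]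

theorem trace_Opr (A : Matrix (Fin m) (Fin m) ℂ) (B : Matrix (Fin n) (Fin n) ℂ) :
    LinearMap.trace ℂ _ (Opr A B) = A.trace * B.trace := by
  rw [LinearMap.trace_eq_matrix_trace ℂ (Matrix.stdBasis ℂ (Fin m) (Fin n))]
  simp only [Matrix.trace, Matrix.diag_apply, Fintype.sum_prod_type, LinearMap.toMatrix_apply,
    Finset.sum_mul_sum]
  refine Finset.sum_congr rfl fun i _ => Finset.sum_congr rfl fun j _ => ?_
  rw [Matrix.stdBasis_eq_single]
  simp [Opr_apply, Matrix.stdBasis, Matrix.mul_apply, Matrix.single, ite_and, Finset.sum_ite_eq]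

variable {K : Type u} [Group K] [Fintype K]
  (α : MonoidAlgebra ℂ K →ₐ[ℂ] Matrix (Fin m) (Fin m) ℂ)
  (β : MonoidAlgebra ℂ K →ₐ[ℂ] Matrix (Fin n) (Fin n) ℂ)

/-- Left multiplication. -/
noncomputable def Lf (a : MonoidAlgebra ℂ K) : End ℂ (Matrix (Fin m) (Fin n) ℂ) := Opr (α a) 1

/-- Right multiplication. -/
noncomputable def Rt (a : MonoidAlgebra ℂ K) : End ℂ (Matrix (Fin m) (Fin n) ℂ) := Opr 1 (β a)

/-- Conjugation. -/
noncomputable def Ad (k : K) : End ℂ (Matrix (Fin m) (Fin n) ℂ) := Opr (α (el k)) (β (el k⁻¹))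

/-- The eigenprojection. -/
noncomputable def Pj (c : K →* ℂˣ) : End ℂ (Matrix (Fin m) (Fin n) ℂ) :=
  (Nat.card K : ℂ)⁻¹ • ∑ k : K, ((c k : ℂˣ) : ℂ)⁻¹ • Ad α β k

theorem Lf_mul (a b : MonoidAlgebra ℂ K) :
    (Lf α a * Lf α b : End ℂ (Matrix (Fin m) (Fin n) ℂ)) = Lf α (a * b) := by
  rw [Lf, Lf, Lf, Opr_mul, map_mul, mul_one]

theorem Rt_mul (a b : MonoidAlgebra ℂ K) :
    (Rt β a * Rt β b : End ℂ (Matrix (Fin m) (Fin n) ℂ)) = Rt β (b * a) := by
  rw [Rt, Rt, Rt, Opr_mul, map_mul, mul_one]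

theorem Lf_Rt (a b : MonoidAlgebra ℂ K) :
    (Lf α a * Rt β b : End ℂ (Matrix (Fin m) (Fin n) ℂ)) = Rt β b * Lf α a := by
  rw [Lf, Rt, Opr_mul, Opr_mul, one_mul, mul_one, one_mul, mul_one]

theorem Lf_one : (Lf α 1 : End ℂ (Matrix (Fin m) (Fin n) ℂ)) = 1 := by
  rw [Lf, map_one, Opr_one]

theorem Lf_smul (c : ℂ) (a : MonoidAlgebra ℂ K) :
    (Lf α (c • a) : End ℂ (Matrix (Fin m) (Fin n) ℂ)) = c • Lf α a := by
  rw [Lf, Lf, map_smul, Opr_smul_left]

theorem Rt_smul (c : ℂ) (a : MonoidAlgebra ℂ K) :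
    (Rt β (c • a) : End ℂ (Matrix (Fin m) (Fin n) ℂ)) = c • Rt β a := by
  rw [Rt, Rt, map_smul, Opr_smul_right]

theorem Lf_sum {ι : Type*} (s : Finset ι) (f : ι → MonoidAlgebra ℂ K) :
    (Lf α (∑ i ∈ s, f i) : End ℂ (Matrix (Fin m) (Fin n) ℂ)) = ∑ i ∈ s, Lf α (f i) :=
  LinearMap.ext fun X => by simp [Lf, Opr_apply, map_sum, Matrix.sum_mul, LinearMap.sum_apply]

theorem Rt_sum {ι : Type*} (s : Finset ι) (f : ι → MonoidAlgebra ℂ K) :
    (Rt β (∑ i ∈ s, f i) : End ℂ (Matrix (Fin m) (Fin n) ℂ)) = ∑ i ∈ s, Rt β (f i) :=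
  LinearMap.ext fun X => by simp [Rt, Opr_apply, map_sum, Matrix.mul_sum, LinearMap.sum_apply]

theorem Ad_mul (a b : K) : Ad α β a * Ad α β b = Ad α β (a * b) := by
  rw [Ad, Ad, Ad, Opr_mul, ← map_mul, ← map_mul, el_mul, el_mul, mul_inv_rev]

theorem Ad_Lf {θ : IrrCharacter K} {c : K →* ℂˣ} {a : MonoidAlgebra ℂ K} (h : InLine θ c a)
    (k : K) : Ad α β k * Lf α a = ((c k : ℂˣ) : ℂ) • (Lf α a * Ad α β k) := by
  rw [Ad, Lf, Opr_mul, Opr_mul, ← map_mul, ← map_mul, h.2, map_smul, Opr_smul_left, one_mul,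
    mul_one]

theorem Pj_Lf {θ : IrrCharacter K} {c : K →* ℂˣ} {a : MonoidAlgebra ℂ K} (h : InLine θ c a)
    (d : K →* ℂˣ) : Pj α β d * Lf α a = Lf α a * Pj α β (c⁻¹ * d) := by
  rw [Pj, Pj, smul_mul_assoc, mul_smul_comm, Finset.sum_mul, Finset.mul_sum]
  congr 1
  refine Finset.sum_congr rfl fun k _ => ?_
  rw [smul_mul_assoc, Ad_Lf α β h, smul_smul, mul_smul_comm, MonoidHom.mul_apply,
    MonoidHom.inv_apply, Units.val_mul, Units.val_inv_eq_inv_val, mul_inv, inv_inv, mul_comm]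

theorem Ad_Pj (c : K →* ℂˣ) (k : K) : Ad α β k * Pj α β c = ((c k : ℂˣ) : ℂ) • Pj α β c := by
  rw [Pj, mul_smul_comm, Finset.mul_sum, smul_comm ((c k : ℂˣ) : ℂ), Finset.smul_sum,
    Finset.smul_sum, Finset.smul_sum]
  refine Fintype.sum_equiv (Equiv.mulLeft k) _ _ fun x => ?_
  congr 1
  rw [mul_smul_comm, Ad_mul, Equiv.coe_mulLeft, smul_smul, map_mul, Units.val_mul, mul_inv,
    ← mul_assoc, mul_inv_cancel₀ (c k).ne_zero, one_mul]

theorem Pj_mul (c d : K →* ℂˣ) [Decidable (c = d)] :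
    Pj α β c * Pj α β d = if c = d then Pj α β d else 0 := by
  conv_lhs => rw [Pj]
  rw [smul_mul_assoc, Finset.sum_mul]
  simp only [smul_mul_assoc, Ad_Pj, smul_smul, ← Finset.sum_smul]
  split_ifs with h
  · subst h
    simp only [inv_mul_cancel₀ (Units.ne_zero _), Finset.sum_const, Finset.card_univ,
      nsmul_eq_mul, mul_one, ← Nat.card_eq_fintype_card]
    rw [inv_mul_cancel₀ (Nat.cast_ne_zero.2 (Nat.card_pos (α := K)).ne'), one_smul]
  · have h1 : ∑ k : K, ((c k : ℂˣ) : ℂ)⁻¹ * ((d k : ℂˣ) : ℂ) = 0 := by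
      have h2 := linear_sum (c⁻¹ * d) fun h' => h (by
        ext k
        have h3 := congrArg (fun f : K →* ℂˣ => ((f k : ℂˣ) : ℂ)) h'
        simp only [MonoidHom.mul_apply, MonoidHom.inv_apply, MonoidHom.one_apply, Units.val_mul,
          Units.val_one, Units.val_inv_eq_inv_val] at h3
        exact (inv_mul_eq_one₀ (c k).ne_zero).1 h3)
      simpa using h2
    rw [h1, mul_zero, zero_smul]

theorem Pj_one_idem : Pj α β 1 * Pj α β 1 = Pj α β 1 := by
  classical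
  rw [Pj_mul, if_pos rfl]

theorem Lf_el_Pj (c : K →* ℂˣ) (k : K) :
    Lf α (el k) * Pj α β c = ((c k : ℂˣ) : ℂ) • (Rt β (el k) * Pj α β c) := by
  have h1 : (Rt β (el k) * Ad α β k : End ℂ (Matrix (Fin m) (Fin n) ℂ)) = Lf α (el k) := by
    rw [Rt, Ad, Lf, Opr_mul, ← map_mul, el_inv_mul, map_one, one_mul]
  rw [← h1, mul_assoc, Ad_Pj, mul_smul_comm]

theorem Lf_Pj (c : K →* ℂˣ) (a : MonoidAlgebra ℂ K) :
    Lf α a * Pj α β c = Rt β (twist c a) * Pj α β c := by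
  conv_lhs => rw [eq_sum a]
  conv_rhs => rw [eq_sum a]
  simp only [map_sum, map_smul, Lf_sum, Rt_sum, Lf_smul, Rt_smul, twist_el, Finset.sum_mul,
    smul_mul_assoc, Lf_el_Pj, smul_smul]

theorem Lf_Pj_one (a : MonoidAlgebra ℂ K) : Lf α a * Pj α β 1 = Rt β a * Pj α β 1 := by
  rw [Lf_Pj, show twist (1 : K →* ℂˣ) a = a from ?_]
  conv_rhs => rw [eq_sum a]
  conv_lhs => rw [eq_sum a]
  simp only [map_sum, map_smul, twist_el, MonoidHom.one_apply, Units.val_one, one_smul]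

theorem Ad_comm_central {e : MonoidAlgebra ℂ K} (he : ∀ x, e * x = x * e) (k : K) :
    Ad α β k * (Lf α e * Rt β e) = (Lf α e * Rt β e) * Ad α β k := by
  rw [Lf, Rt, Ad, Opr_mul, Opr_mul, Opr_mul, mul_one, mul_one, ← map_mul, ← map_mul, ← map_mul,
    ← map_mul, he, he]

theorem Pj_comm_central {e : MonoidAlgebra ℂ K} (he : ∀ x, e * x = x * e) (c : K →* ℂˣ) :
    Pj α β c * (Lf α e * Rt β e) = (Lf α e * Rt β e) * Pj α β c := by
  rw [Pj, smul_mul_assoc, mul_smul_comm, Finset.sum_mul, Finset.mul_sum]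
  congr 1
  refine Finset.sum_congr rfl fun k _ => ?_
  rw [smul_mul_assoc, mul_smul_comm, Ad_comm_central α β he]

end Cfsg.Agent.Char.OddMagic
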