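import Cfsg.Agent.Lib.Char.OddMagicLines

/-!
The canonical invariant multiplicative section of the lines (half-commutator product and coprime
norm), equivariant under automorphisms compatible with the operators.
-/

namespace Cfsg.Agent.Char.OddMagic

open Cfsg Module

set_option linter.unusedSectionVars false
set_option linter.style.haveILetI false

universe u v

variable {K : Type u} [Group K] [Fintype K] {S : Type v} [Group S] [Fintype S] (M : Mag K S)

namespace Mag

/-- An automorphism of the group compatible with the section and the operators. -/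
structure Compat where
  f : K ≃* K
  perm : S ≃ S
  mapL : ∀ l ∈ M.L, f l ∈ M.L
  comm : ∀ s k, f (M.act s k) = M.act (perm s) (f k)

/-- The operators themselves are compatible. -/
def actCompat (t : S) : M.Compat where
  f := M.act t
  perm := (MulAut.conj t).toEquiv
  mapL := M.actL t
  comm s k := by
    simp [map_mul]

/-- An automorphism maps one character to another. -/
def Maps (f : K ≃* K) (θ θ' : IrrCharacter K) : Prop :=
  ∀ k, (θ' : K → ℂ) (f k) = (θ : K → ℂ) k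

theorem tr_line {f : K ≃* K} {θ θ' : IrrCharacter K} (h : Maps f θ θ') {m : K →* ℂˣ}
    {a : MonoidAlgebra ℂ K} (ha : InLine θ m a) : InLine θ' (push f m) (tr f a) := by
  refine ⟨by rw [← tr_blk f h, ← map_mul, ha.1], fun k => ?_⟩
  have h1 := congrArg (tr f) (ha.2 (f.symm k))
  rw [map_mul, map_smul, map_mul, tr_el, MulEquiv.apply_symm_apply] at h1
  rw [h1, push_apply]

theorem tr_tr (f g : K ≃* K) (a : MonoidAlgebra ℂ K) : tr f (tr g a) = tr (g.trans f) a := by
  rw [eq_sum a]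
  simp only [map_sum, map_smul, tr_el, MulEquiv.trans_apply]

theorem tr_refl (a : MonoidAlgebra ℂ K) : tr (MulEquiv.refl K) a = a := by
  rw [eq_sum a]
  simp only [map_sum, map_smul, tr_el, MulEquiv.refl_apply]

theorem tr_injective (f : K ≃* K) : Function.Injective (tr f) := fun a b h => by
  have h1 := congrArg (tr f.symm) h
  rwa [tr_tr, tr_tr, MulEquiv.self_trans_symm, tr_refl, tr_refl] at h1

theorem Compat.push_mem (c : M.Compat) {m : K →* ℂˣ} (hm : m ∈ M.D) : push c.f m ∈ M.D := by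
  intro l hl
  have hsub : M.L.map c.f.toMonoidHom ≤ M.L := by
    rintro _ ⟨x, hx, rfl⟩; exact c.mapL x hx
  have heq : M.L.map c.f.toMonoidHom = M.L :=
    Subgroup.eq_of_le_of_card_ge hsub (by rw [Subgroup.card_map_of_injective c.f.injective])
  rw [← heq] at hl
  obtain ⟨x, hx, rfl⟩ := hl
  rw [push_apply]
  simpa using hm x hx

theorem Compat.push_lam (c : M.Compat) {θ θ' : IrrCharacter K} (h : Maps c.f θ θ')
    (a : M.Lam θ) : push c.f (a : K →* ℂˣ) ∈ M.Lam θ' :=
  ⟨Compat.push_mem M c a.2.1, tr c.f (M.bas θ a), fun h0 => M.bas_ne a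
    (tr_injective c.f (by rw [h0, map_zero])), tr_line h (M.bas_line a)⟩

/-- The transported index. -/
def Compat.lam (c : M.Compat) {θ θ' : IrrCharacter K} (h : Maps c.f θ θ') :
    M.Lam θ →* M.Lam θ' where
  toFun a := ⟨push c.f (a : K →* ℂˣ), Compat.push_lam M c h a⟩
  map_one' := Subtype.ext (MonoidHom.ext fun _ => rfl)
  map_mul' _ _ := Subtype.ext (push_mul _ _ _)

theorem Compat.com_eq (c : M.Compat) {θ θ' : IrrCharacter K} (h : Maps c.f θ θ')
    (a b : M.Lam θ) : M.com θ' (c.lam M h a) (c.lam M h b) = M.com θ a b := by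
  refine M.com_eq_of (tr_line h (M.bas_line a)) (tr_line h (M.bas_line b))
    (fun h0 => M.bas_ne a (tr_injective c.f (by rw [h0, map_zero])))
    (fun h0 => M.bas_ne b (tr_injective c.f (by rw [h0, map_zero]))) ?_
  rw [← map_mul, ← map_mul, M.com_spec (M.bas_line a) (M.bas_line b), map_smul]

/-- Half of the exponent. -/
noncomputable def hw (K : Type u) : ℕ := (Nat.card K - 1) / 2

theorem two_hw (M : Mag K S) : 2 * hw K + 1 = Nat.card K := by
  obtain ⟨j, hj⟩ := M.oddK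
  simp only [hw, hj]
  omega

/-- The square root of the pairing. -/
noncomputable def cc (θ : IrrCharacter K) (a b : M.Lam θ) : ℂ := M.com θ a b ^ hw K

theorem cc_swap_mul (θ : IrrCharacter K) (a b : M.Lam θ) : M.cc θ a b * M.cc θ b a = 1 := by
  rw [cc, cc, ← mul_pow, M.com_swap, one_pow]

theorem cc_mul_left (θ : IrrCharacter K) (a b d : M.Lam θ) :
    M.cc θ (a * b) d = M.cc θ a d * M.cc θ b d := by
  rw [cc, cc, cc, M.com_mul_left, mul_pow]

theorem cc_mul_right (θ : IrrCharacter K) (a b d : M.Lam θ) :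
    M.cc θ a (b * d) = M.cc θ a b * M.cc θ a d := by
  rw [cc, cc, cc, M.com_mul_right, mul_pow]

theorem cc_self (θ : IrrCharacter K) (a : M.Lam θ) : M.cc θ a a = 1 := by
  rw [cc, M.com_self, one_pow]

theorem cc_one_left (θ : IrrCharacter K) (a : M.Lam θ) : M.cc θ 1 a = 1 := by
  rw [cc, M.com_one_left, one_pow]

theorem cc_one_right (θ : IrrCharacter K) (a : M.Lam θ) : M.cc θ a 1 = 1 := by
  simpa [M.cc_one_left] using M.cc_swap_mul θ a 1

theorem cc_ne_zero (θ : IrrCharacter K) (a b : M.Lam θ) : M.cc θ a b ≠ 0 := fun h => by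
  simpa [h] using M.cc_swap_mul θ a b

theorem cc_com (θ : IrrCharacter K) (a b : M.Lam θ) :
    M.cc θ a b * M.com θ a b = M.cc θ b a := by
  have h1 := M.cc_swap_mul θ a b
  have h2 : M.cc θ a b * M.com θ a b * M.cc θ a b = 1 := by
    have h3 := M.com_pow_card a b
    rw [← M.two_hw, pow_succ, two_mul, pow_add] at h3
    rw [cc]
    linear_combination h3
  refine mul_left_cancel₀ (M.cc_ne_zero θ a b) ?_
  rw [h1, mul_comm]
  exact h2

theorem cc_eq_one_iff (θ : IrrCharacter K) (a b : M.Lam θ) :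
    M.cc θ a b = 1 ↔ M.com θ a b = 1 := by
  refine ⟨fun h => ?_, fun h => by rw [cc, h, one_pow]⟩
  have h1 := M.cc_com θ a b
  rw [h, one_mul] at h1
  have h2 := M.cc_swap_mul θ a b
  rw [h, one_mul] at h2
  rw [h1, h2]

/-- Pairs of an index and an element of its line. -/
def E (θ : IrrCharacter K) : Type u :=
  {x : M.Lam θ × MonoidAlgebra ℂ K // InLine θ ((x.1 : M.Lam θ) : K →* ℂˣ) x.2}

noncomputable instance (θ : IrrCharacter K) : CommMonoid (M.E θ) where
  mul x y := ⟨(x.1.1 * y.1.1, M.cc θ x.1.1 y.1.1 • (x.1.2 * y.1.2)),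
    (x.2.mul y.2).smul _⟩
  one := ⟨(1, blk θ), inLine_blk θ⟩
  mul_assoc := by
    rintro ⟨⟨a, x⟩, hx⟩ ⟨⟨b, y⟩, hy⟩ ⟨⟨d, z⟩, hz⟩
    refine Subtype.ext (Prod.ext (mul_assoc a b d) ?_)
    show M.cc θ (a * b) d • ((M.cc θ a b • (x * y)) * z) =
      M.cc θ a (b * d) • (x * (M.cc θ b d • (y * z)))
    rw [smul_mul_assoc, mul_smul_comm, smul_smul, smul_smul, M.cc_mul_left, M.cc_mul_right,
      mul_assoc x y z]
    congr 1
    ring
  one_mul := by
    rintro ⟨⟨a, x⟩, hx⟩
    refine Subtype.ext (Prod.ext (one_mul a) ?_)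
    show M.cc θ 1 a • (blk θ * x) = x
    rw [M.cc_one_left, one_smul, blk_comm, hx.1]
  mul_one := by
    rintro ⟨⟨a, x⟩, hx⟩
    refine Subtype.ext (Prod.ext (mul_one a) ?_)
    show M.cc θ a 1 • (x * blk θ) = x
    rw [M.cc_one_right, one_smul, hx.1]
  mul_comm := by
    rintro ⟨⟨a, x⟩, hx⟩ ⟨⟨b, y⟩, hy⟩
    refine Subtype.ext (Prod.ext (mul_comm a b) ?_)
    show M.cc θ a b • (x * y) = M.cc θ b a • (y * x)
    rw [M.com_spec hx hy, smul_smul, M.cc_com]

theorem E_mul_fst {θ : IrrCharacter K} (x y : M.E θ) : (x * y).1.1 = x.1.1 * y.1.1 := rfl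

theorem E_mul_snd {θ : IrrCharacter K} (x y : M.E θ) :
    (x * y).1.2 = M.cc θ x.1.1 y.1.1 • (x.1.2 * y.1.2) := rfl

theorem E_one_snd (θ : IrrCharacter K) : (1 : M.E θ).1.2 = blk θ := rfl

/-- Projection to the index. -/
def efst (θ : IrrCharacter K) : M.E θ →* M.Lam θ where
  toFun x := x.1.1
  map_one' := rfl
  map_mul' _ _ := rfl

/-- A scalar of the block. -/
noncomputable def scal (θ : IrrCharacter K) : ℂ →* M.E θ where
  toFun c := ⟨(1, c • blk θ), (inLine_blk θ).smul c⟩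
  map_one' := Subtype.ext (Prod.ext rfl (one_smul _ _))
  map_mul' c d := Subtype.ext (Prod.ext (one_mul 1).symm (by
    show (c * d) • blk θ = M.cc θ 1 1 • ((c • blk θ) * (d • blk θ))
    rw [M.cc_one_left, one_smul, smul_mul_smul_comm, blk_idem]))

theorem scal_injective (θ : IrrCharacter K) : Function.Injective (M.scal θ) := fun _ _ h =>
  smul_left_injective ℂ (blk_ne_zero θ) (congrArg (fun x : M.E θ => x.1.2) h)

theorem scal_mul {θ : IrrCharacter K} (c : ℂ) (x : M.E θ) :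
    (M.scal θ c * x).1.2 = c • x.1.2 := by
  rw [E_mul_snd]
  show M.cc θ 1 x.1.1 • ((c • blk θ) * x.1.2) = _
  rw [M.cc_one_left, one_smul, smul_mul_assoc, blk_comm, x.2.1]

theorem scal_of_fst {θ : IrrCharacter K} (x : M.E θ) (h : x.1.1 = 1) :
    ∃ c, x = M.scal θ c := by
  obtain ⟨c, hc⟩ := inLine_one_scalar (θ := θ) (a := x.1.2) (by
    have := x.2; rwa [h] at this)
  exact ⟨c, Subtype.ext (Prod.ext h hc)⟩

/-- The transported pair. -/
noncomputable def Compat.emap (c : M.Compat) {θ θ' : IrrCharacter K} (h : Maps c.f θ θ') :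
    M.E θ →* M.E θ' where
  toFun x := ⟨(c.lam M h x.1.1, tr c.f x.1.2), tr_line h x.2⟩
  map_one' := Subtype.ext (Prod.ext (map_one (c.lam M h)) (tr_blk c.f h))
  map_mul' x y := Subtype.ext (Prod.ext (map_mul (c.lam M h) _ _) (by
    show tr c.f (M.cc θ x.1.1 y.1.1 • (x.1.2 * y.1.2)) =
      M.cc θ' (c.lam M h x.1.1) (c.lam M h y.1.1) • (tr c.f x.1.2 * tr c.f y.1.2)
    rw [map_smul, map_mul, cc, cc, Compat.com_eq]))

theorem Compat.emap_scal (c : M.Compat) {θ θ' : IrrCharacter K} (h : Maps c.f θ θ') (z : ℂ) :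
    c.emap M h (M.scal θ z) = M.scal θ' z :=
  Subtype.ext (Prod.ext (map_one (c.lam M h)) (by
    show tr c.f (z • blk θ) = z • blk θ'
    rw [map_smul, tr_blk c.f h]))

/-- The characters of the group fixed by the operators. -/
abbrev Fix := {θ : IrrCharacter K // ∀ s, Maps (M.act s) θ θ}

/-- The operators acting on pairs. -/
noncomputable def eact (θ : M.Fix) (s : S) : M.E θ.1 →* M.E θ.1 :=
  (M.actCompat s).emap M (θ.2 s)

theorem eact_mul (θ : M.Fix) (s t : S) (x : M.E θ.1) :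
    M.eact θ s (M.eact θ t x) = M.eact θ (s * t) x := by
  refine Subtype.ext (Prod.ext (Subtype.ext (MonoidHom.ext fun k => ?_)) ?_)
  · show (x.1.1 : K →* ℂˣ) ((M.act t).symm ((M.act s).symm k)) =
      (x.1.1 : K →* ℂˣ) ((M.act (s * t)).symm k)
    rw [map_mul]
    rfl
  · show tr (M.act s) (tr (M.act t) x.1.2) = tr (M.act (s * t)) x.1.2
    rw [tr_tr, map_mul]
    rfl

/-- The norm over the operators. -/
noncomputable def norm (θ : M.Fix) : M.E θ.1 →* M.E θ.1 where
  toFun x := ∏ s : S, M.eact θ s x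
  map_one' := by simp
  map_mul' x y := by simp [Finset.prod_mul_distrib]

theorem norm_apply (θ : M.Fix) (x : M.E θ.1) : M.norm θ x = ∏ s : S, M.eact θ s x := rfl

theorem norm_fst (θ : M.Fix) (x : M.E θ.1) : (M.norm θ x).1.1 = 1 := by
  have hfix : ∀ t, M.eact θ t (M.norm θ x) = M.norm θ x := by
    intro t
    rw [norm_apply, map_prod]
    exact Fintype.prod_equiv (Equiv.mulLeft t) _ _ fun s => M.eact_mul θ t s x
  refine Subtype.ext (M.fixed_eq_one (M.norm θ x).1.1.2.1 fun t => ?_)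
  exact congrArg (fun y : M.E θ.1 => (y.1.1 : K →* ℂˣ)) (hfix t)

theorem norm_scal (θ : M.Fix) (c : ℂ) : M.norm θ (M.scal θ.1 c) = M.scal θ.1 (c ^ Fintype.card S) := by
  rw [norm_apply, Finset.prod_congr rfl (fun s _ => show M.eact θ s (M.scal θ.1 c) = M.scal θ.1 c from
      (M.actCompat s).emap_scal M (θ.2 s) c),
    Finset.prod_const, Finset.card_univ, map_pow]

theorem E_pow_fst {θ : IrrCharacter K} (x : M.E θ) (j : ℕ) : (x ^ j).1.1 = x.1.1 ^ j :=
  map_pow (M.efst θ) x j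

theorem exists_root {θ : IrrCharacter K} (a : M.Lam θ) :
    ∃ x : M.E θ, x.1.1 = a ∧ x ^ Nat.card K = 1 := by
  let x₀ : M.E θ := ⟨(a, M.bas θ a), M.bas_line a⟩
  obtain ⟨c, hc⟩ := M.scal_of_fst (x₀ ^ Nat.card K) (by rw [E_pow_fst, M.pow_card_lam])
  have hc0 : c ≠ 0 := by
    intro h
    obtain ⟨b, bl, hab, -⟩ := (M.bas_line a).exists_inv (M.bas_ne a)
    let y₀ : M.E θ := ⟨(a⁻¹, b), by simpa using bl⟩
    have hxy : x₀ * y₀ = M.scal θ (M.cc θ a a⁻¹) := Subtype.ext (Prod.ext (mul_inv_cancel a) (by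
      show M.cc θ a a⁻¹ • (M.bas θ a * b) = _
      rw [hab]; rfl))
    have h1 := congrArg (· ^ Nat.card K) hxy
    simp only [mul_pow, hc, h, ← map_pow] at h1
    have h2 : (M.scal θ 0 * y₀ ^ Nat.card K).1.2 = (M.scal θ (M.cc θ a a⁻¹ ^ Nat.card K)).1.2 :=
      congrArg (fun x : M.E θ => x.1.2) h1
    rw [scal_mul, zero_smul] at h2
    exact smul_ne_zero (pow_ne_zero _ (M.cc_ne_zero θ a a⁻¹)) (blk_ne_zero θ) h2.symm
  obtain ⟨d, hd⟩ := IsAlgClosed.exists_pow_nat_eq c (Nat.card_pos (α := K))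
  refine ⟨M.scal θ d⁻¹ * x₀, one_mul _, ?_⟩
  rw [mul_pow, hc, ← map_pow, ← map_mul, inv_pow, hd, inv_mul_cancel₀ hc0, map_one]

theorem root_unique {θ : M.Fix} {x y : M.E θ.1} (hfst : x.1.1 = y.1.1)
    (hx : x ^ Nat.card K = 1) (hxn : M.norm θ x = 1) (hy : y ^ Nat.card K = 1)
    (hyn : M.norm θ y = 1) : x = y := by
  have hy0 : y * y ^ (Nat.card K - 1) = 1 := by
    rw [← pow_succ', Nat.sub_add_cancel (Nat.card_pos (α := K)), hy]
  obtain ⟨c, hc⟩ := M.scal_of_fst (x * y ^ (Nat.card K - 1)) (by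
    rw [E_mul_fst, hfst, ← E_mul_fst, hy0]; rfl)
  have h1 : M.scal θ.1 (c ^ Nat.card K) = 1 := by
    rw [map_pow, ← hc, mul_pow, hx, ← pow_mul, mul_comm (_ - 1), pow_mul, hy, one_pow, one_mul]
  have h2 : M.scal θ.1 (c ^ Fintype.card S) = 1 := by
    rw [← M.norm_scal, ← hc, map_mul, hxn, map_pow, hyn, one_pow, one_mul]
  have h3 : c ^ Nat.card K = 1 := M.scal_injective θ.1 (h1.trans (map_one _).symm)
  have h4 : c ^ Fintype.card S = 1 := M.scal_injective θ.1 (h2.trans (map_one _).symm)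
  have h5 := Nat.dvd_gcd (orderOf_dvd_of_pow_eq_one h3) (orderOf_dvd_of_pow_eq_one h4)
  rw [← Nat.card_eq_fintype_card, M.coprime, Nat.dvd_one, orderOf_eq_one_iff] at h5
  calc x = x * (y ^ (Nat.card K - 1) * y) := by rw [mul_comm (y ^ _), hy0, mul_one]
    _ = M.scal θ.1 c * y := by rw [← mul_assoc, hc]
    _ = y := by rw [h5, map_one, one_mul]

theorem exists_sigma (θ : M.Fix) (a : M.Lam θ.1) :
    ∃ x : M.E θ.1, x.1.1 = a ∧ x ^ Nat.card K = 1 ∧ M.norm θ x = 1 := by
  obtain ⟨x, hxa, hx⟩ := M.exists_root a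
  obtain ⟨z, hz⟩ := M.scal_of_fst (M.norm θ x) (M.norm_fst θ x)
  have hzn : z ^ Nat.card K = 1 :=
    M.scal_injective θ.1 (by rw [map_pow, ← hz, ← map_pow, hx, map_one, map_one])
  have hcop : (Fintype.card S).Coprime (Nat.card K) := by
    rw [← Nat.card_eq_fintype_card]; exact M.coprime.symm
  obtain ⟨j, hj⟩ : ∃ j, ((Nat.card K - 1) * j * Fintype.card S + 1) % Nat.card K = 0 := by
    rcases Nat.lt_or_ge 1 (Nat.card K) with h1 | h1
    · obtain ⟨j, -, hj⟩ := Nat.exists_mul_mod_eq_one_of_coprime hcop h1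
      have h2 : j * Fintype.card S ≡ 1 [MOD Nat.card K] := by
        rw [Nat.ModEq, mul_comm, hj, Nat.one_mod_eq_one.2 h1.ne']
      have h3 := (h2.mul_left (Nat.card K - 1)).add_right 1
      rw [← mul_assoc, mul_one, Nat.sub_add_cancel h1.le] at h3
      exact ⟨j, Eq.trans h3 (Nat.mod_self _)⟩
    · exact ⟨0, by rw [show Nat.card K = 1 by have := Nat.card_pos (α := K); omega, Nat.mod_one]⟩
  refine ⟨M.scal θ.1 (z ^ ((Nat.card K - 1) * j)) * x, (one_mul _).trans hxa, ?_, ?_⟩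
  · rw [mul_pow, hx, mul_one, ← map_pow, ← pow_mul, mul_comm, pow_mul, hzn, one_pow, map_one]
  · rw [map_mul, M.norm_scal, hz, ← map_mul, ← pow_mul, ← pow_succ]
    have h1 : ((Nat.card K - 1) * j * Fintype.card S + 1) % Nat.card K = 0 :=
      hj
    rw [← Nat.div_add_mod ((Nat.card K - 1) * j * Fintype.card S + 1) (Nat.card K), h1, add_zero,
      pow_mul, hzn, one_pow, map_one]

/-- The canonical section. -/
noncomputable def sigma (θ : M.Fix) (a : M.Lam θ.1) : M.E θ.1 :=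
  Classical.choose (M.exists_sigma θ a)

theorem sigma_fst (θ : M.Fix) (a : M.Lam θ.1) : (M.sigma θ a).1.1 = a :=
  (Classical.choose_spec (M.exists_sigma θ a)).1

theorem sigma_pow (θ : M.Fix) (a : M.Lam θ.1) : M.sigma θ a ^ Nat.card K = 1 :=
  (Classical.choose_spec (M.exists_sigma θ a)).2.1

theorem sigma_norm (θ : M.Fix) (a : M.Lam θ.1) : M.norm θ (M.sigma θ a) = 1 :=
  (Classical.choose_spec (M.exists_sigma θ a)).2.2

theorem sigma_mul (θ : M.Fix) (a b : M.Lam θ.1) :
    M.sigma θ (a * b) = M.sigma θ a * M.sigma θ b :=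
  M.root_unique (by rw [sigma_fst, E_mul_fst, sigma_fst, sigma_fst]) (M.sigma_pow θ _)
    (M.sigma_norm θ _) (by rw [mul_pow, sigma_pow, sigma_pow, one_mul])
    (by rw [map_mul, sigma_norm, sigma_norm, one_mul])

theorem Compat.sigma (c : M.Compat) {θ θ' : M.Fix} (h : Maps c.f θ.1 θ'.1) (a : M.Lam θ.1) :
    c.emap M h (M.sigma θ a) = M.sigma θ' (c.lam M h a) := by
  refine M.root_unique ?_ (by rw [← map_pow, sigma_pow, map_one]) ?_ (M.sigma_pow θ' _)
    (M.sigma_norm θ' _)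
  · show c.lam M h (M.sigma θ a).1.1 = _
    rw [sigma_fst, sigma_fst]
  have hcomm : ∀ (s : S) (x : M.E θ.1),
      c.emap M h (M.eact θ s x) = M.eact θ' (c.perm s) (c.emap M h x) := by
    intro s x
    have hf : (M.act s).trans c.f = c.f.trans (M.act (c.perm s)) :=
      MulEquiv.ext fun k => c.comm s k
    refine Subtype.ext (Prod.ext (Subtype.ext (MonoidHom.ext fun k => ?_)) ?_)
    · show (x.1.1 : K →* ℂˣ) ((M.act s).symm (c.f.symm k)) =
        (x.1.1 : K →* ℂˣ) (c.f.symm ((M.act (c.perm s)).symm k))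
      exact congrArg _ (congrArg (fun e : K ≃* K => e.symm k) hf)
    · show tr c.f (tr (M.act s) x.1.2) = tr (M.act (c.perm s)) (tr c.f x.1.2)
      rw [tr_tr, tr_tr, hf]
  rw [norm_apply, ← Equiv.prod_comp c.perm, Finset.prod_congr rfl fun s _ => (hcomm s _).symm,
    ← map_prod, ← norm_apply, sigma_norm, map_one]

end Mag

end Cfsg.Agent.Char.OddMagic
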