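import Cfsg.Agent.Lib.Char.PGroupFieldAct
import Cfsg.Agent.Lib.Char.BrauerInduction
import Cfsg.Agent.Lib.Grp.Frattini

/-!
Schur's bound for the order of a `p`-group with a faithful irreducible character of given degree
and number of conjugates.
-/

set_option autoImplicit false
set_option linter.unusedSectionVars false

namespace Cfsg.Agent.Char.PField

open scoped ComplexConjugate
open Cfsg

universe u

theorem arith_same {p f' a' t a : ℕ} (hp : 2 ≤ p) (hf : 0 < f') (ha : a ≤ 1 + p * a')
    (hb : (p - 1) * a' ≤ (f' - 1) + (p - 1) * (t + 1) * f') :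
    (p - 1) * a ≤ (p * f' - 1) + (p - 1) * (t + 1) * (p * f') := by
  obtain ⟨q, rfl⟩ : ∃ q, p = q + 2 := Nat.exists_eq_add_of_le' hp
  obtain ⟨g, rfl⟩ : ∃ g, f' = g + 1 := Nat.exists_eq_add_of_le' hf
  rw [show (q + 2) * (g + 1) - 1 = (q + 2) * g + q + 1 by rw [mul_add, mul_one]; omega]
  rw [show q + 2 - 1 = q + 1 by omega, show g + 1 - 1 = g by omega] at *
  nlinarith [Nat.mul_le_mul_left (q + 1) ha, Nat.mul_le_mul_left (q + 2) hb]

theorem arith_step {p f' a' t a : ℕ} (hp : 2 ≤ p) (hf : 0 < f') (ha : a ≤ 1 + a')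
    (hb : (p - 1) * a' ≤ (f' - 1) + (p - 1) * (t + 1 + 1) * f') :
    (p - 1) * a ≤ (p * f' - 1) + (p - 1) * (t + 1) * (p * f') := by
  obtain ⟨q, rfl⟩ : ∃ q, p = q + 2 := Nat.exists_eq_add_of_le' hp
  obtain ⟨g, rfl⟩ : ∃ g, f' = g + 1 := Nat.exists_eq_add_of_le' hf
  rw [show (q + 2) * (g + 1) - 1 = (q + 2) * g + q + 1 by rw [mul_add, mul_one]; omega]
  rw [show q + 2 - 1 = q + 1 by omega, show g + 1 - 1 = g by omega] at *
  nlinarith [Nat.mul_le_mul_left (q + 1) ha, Nat.zero_le (q * t), Nat.zero_le (q * g), Nat.zero_le (t * g),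
    Nat.zero_le (q * t * g), Nat.zero_le (q * q), Nat.zero_le (q * q * t), Nat.zero_le (q * q * g),
    Nat.zero_le (q * q * t * g)]

variable {G : Type u} [Group G]

/-- An element prime power with exponent prime to `p` stays in a subgroup. -/
theorem pow_mem_iff_mem [Finite G] {p : ℕ} (hp : p.Prime) (hG : IsPGroup p G) {k : ℕ} (hk : ¬ p ∣ k)
    (M : Subgroup G) (x : G) : x ^ k ∈ M ↔ x ∈ M := by
  refine ⟨fun h => ?_, fun h => pow_mem h k⟩
  haveI := Fact.mk hp
  obtain ⟨i, hi⟩ := IsPGroup.iff_orderOf.1 hG x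
  have hc : k.Coprime (orderOf x) := by
    rw [hi]; exact ((hp.coprime_iff_not_dvd.2 hk).symm).pow_right i
  obtain ⟨j, hj⟩ := exists_pow_eq_self_of_coprime hc
  rw [← hj]
  exact pow_mem h j

theorem indFun_twist [Fintype G] {p : ℕ} (hp : p.Prime) (hG : IsPGroup p G) {k : ℕ} (hk : ¬ p ∣ k)
    (M : Subgroup G) (θ : M → ℂ) :
    indFun M (fun x => θ (x ^ k)) = fun g => indFun M θ (g ^ k) := by
  funext g
  simp only [indFun]
  congr 1
  refine Finset.sum_congr rfl fun x _ => ?_
  have e : x⁻¹ * g ^ k * x = (x⁻¹ * g * x) ^ k := by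
    have h := conj_pow (i := k) (a := x⁻¹) (b := g)
    rw [inv_inv] at h
    exact h.symm
  rw [e]
  by_cases h : x⁻¹ * g * x ∈ M
  · rw [extendByZero_of_mem _ h, extendByZero_of_mem _ (pow_mem h k)]
    exact congrArg θ (Subtype.ext (by simp))
  · rw [extendByZero_not_mem _ h, extendByZero_not_mem _ fun h' => h ((pow_mem_iff_mem hp hG hk M _).1 h')]

theorem bound {p : ℕ} (hp : p.Prime) : ∀ (n : ℕ) (P : Type u) [Group P] [Fintype P], Nat.card P ≤ n →
    IsPGroup p P → ∀ (χ : P → ℂ), IsIrrCharacter P χ → (∀ g, χ g = χ 1 → g = 1) → ∀ a f t : ℕ,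
    Nat.card P = p ^ a → 0 < a → χ 1 = (f : ℂ) → (Orb p χ).ncard = (p - 1) * p ^ t →
    (p - 1) * a ≤ (f - 1) + (p - 1) * (t + 1) * f := by
  intro n
  induction n using Nat.strong_induction_on with
  | _ n ih =>
  intro P _ _ hn hP χ hχ hfaith a f t hcard ha hf ht
  classical
  haveI := Fact.mk hp
  have hp2 := hp.two_le
  have hm : ∀ g : P, g ^ (p ^ a) = 1 := fun g => hcard ▸ pow_card_eq_one'
  by_cases hf1 : f = 1
  · -- a faithful linear character
    subst hf1
    rw [Nat.cast_one] at hf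
    obtain ⟨l, hl⟩ := linearHom_of_isCharacter (IsIrr.isCharacter hχ) hf
    have hinj : Function.Injective ((Units.coeHom ℂ).comp l) := by
      rw [← MonoidHom.ker_eq_bot_iff, eq_bot_iff]
      intro g hg
      rw [MonoidHom.mem_ker, MonoidHom.comp_apply, Units.coeHom_apply] at hg
      exact Subgroup.mem_bot.2 (hfaith g (by rw [hl]; simpa using hg))
    haveI : IsCyclic P := isCyclic_of_subgroup_isDomain ((Units.coeHom ℂ).comp l) hinj
    obtain ⟨g, hg⟩ := IsCyclic.exists_generator (α := P)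
    have hog : orderOf g = p ^ a := by rw [← hcard]; exact orderOf_eq_card_of_forall_mem_zpowers hg
    haveI : NeZero (p ^ a) := ⟨(pow_pos hp.pos a).ne'⟩
    letI := twAct hm
    have hbot : MulAction.stabilizer (ZMod (p ^ a))ˣ χ = ⊥ := by
      rw [eq_bot_iff]
      intro u hu
      have h1 : χ (g ^ (u : ZMod (p ^ a)).val) = χ (g ^ 1) := by rw [pow_one]; exact congrFun hu g
      rw [hl] at h1
      have h2 : g ^ (u : ZMod (p ^ a)).val = g ^ 1 := hinj (by simpa using h1)
      rw [pow_eq_pow_iff_modEq, hog, ← ZMod.natCast_eq_natCast_iff, ZMod.natCast_val, ZMod.cast_id,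
        Nat.cast_one] at h2
      exact Subgroup.mem_bot.2 (Units.ext h2)
    rw [ncard_orb hm χ, hbot, Subgroup.index_bot, Nat.card_eq_fintype_card,
      ZMod.card_units_eq_totient, Nat.totient_prime_pow hp ha, mul_comm] at ht
    have h3 : a - 1 = t :=
      Nat.pow_right_injective hp2 (Nat.eq_of_mul_eq_mul_left (by omega) ht)
    subst h3
    rw [show a - 1 + 1 = a by omega, mul_one]
    exact Nat.le_add_left _ _
  -- induced from a maximal subgroup
  haveI := hP.isNilpotent
  obtain ⟨H, l, hHl⟩ := Cfsg.Agent.Char.Brauer.monomial inferInstance hχ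
  have hHtop : H ≠ ⊤ := by
    intro h
    subst h
    refine hf1 (Nat.cast_injective (R := ℂ) ?_)
    rw [← hf, hHl, indFun_one_eq, Subgroup.index_top]
    simp
  obtain ⟨M, hM, hHM⟩ := (eq_top_or_exists_le_coatom H).resolve_left hHtop
  haveI : M.Normal := Subgroup.NormalizerCondition.normal_of_coatom _ Group.normalizerCondition_of_isNilpotent hM
  have hidx : M.index = p := by
    have h1 := Cfsg.Agent.Grp.normal_index_prime_of_coatom hM
    obtain ⟨i, hi⟩ := hP.index M
    exact (Nat.prime_dvd_prime_iff_eq h1 hp).1 (h1.dvd_of_dvd_pow (dvd_of_eq hi))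
  have hvan : ∀ g, g ∉ M → χ g = 0 := fun g hg => by
    rw [hHl]
    refine indFun_eq_zero_of_not_conj H _ fun x hx => (hg ?_).elim
    have h2 := (inferInstance : M.Normal).conj_mem _ (hHM hx) x
    simpa [mul_assoc] using h2
  letI : Fintype M := Fintype.ofFinite _
  have hresc : IsCharacter M (fun m : M => χ m) := IsChar.comp M.subtype (IsIrr.isCharacter hχ)
  obtain ⟨φ, hφc⟩ := IsChar.exists_constituent' hresc (IsIrr.one_ne_zero hχ)
  set θ : M → ℂ := (φ : M → ℂ) with hθdef
  have hθ : IsIrrCharacter M θ := φ.2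
  obtain ⟨e, he, -⟩ := IsChar.exists_decomp_inner hresc
  have hnorm : classInner (fun m : M => χ m) (fun m : M => χ m) = (p : ℂ) := by
    have h := classInner_self_irr hχ
    rw [classInner, inv_mul_eq_iff_eq_mul₀ (Nat.cast_ne_zero.mpr Nat.card_pos.ne'), mul_one] at h
    have hs : ∑ g : P, χ g * conj (χ g) = ∑ m : M, χ m * conj (χ m) := by
      rw [← Finset.sum_subset (Finset.subset_univ (Finset.univ.filter fun g : P => g ∈ M))
        fun g _ hg => by rw [hvan g (by simpa using hg), zero_mul]]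
      exact Finset.sum_subtype _ (fun g => by simp) _
    rw [classInner, ← hs, h, ← M.card_mul_index, hidx, Nat.cast_mul,
      inv_mul_cancel_left₀ (Nat.cast_ne_zero.mpr Nat.card_pos.ne')]
  have hklif := clifford M hχ hθ hφc
  have horbcard : (conjOrbit M θ).card = M.index := by
    have hsum : classInner (fun m : M => χ m) (fun m : M => χ m) =
        (((e φ) ^ 2 * (conjOrbit M θ).card : ℕ) : ℂ) := by
      conv_lhs => arg 1; rw [hklif]
      rw [classInner_smul_left, classInner_sum_left,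
        Finset.sum_congr rfl fun ψ hψ => (show classInner ψ (fun m : M => χ m) = (e φ : ℂ) by
          obtain ⟨g, rfl⟩ := (mem_conjOrbit M).1 hψ
          rw [← classInner_conj_symm, classInner_res_conjN M (IsIrr.classFun hχ), he φ, Complex.conj_natCast]),
        Finset.sum_const, he φ, nsmul_eq_mul]
      push_cast
      ring
    rw [hnorm, Nat.cast_inj] at hsum
    have he1 : e φ = 1 := by
      have h1 : (e φ) ^ 2 ∣ p := ⟨_, hsum⟩
      rcases (Nat.dvd_prime hp).1 (dvd_trans (dvd_pow_self _ two_ne_zero) h1) with h | h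
      · exact h
      · exfalso
        rw [h] at h1
        have := Nat.le_of_dvd hp.pos h1
        nlinarith
    rw [he1, one_pow, one_mul] at hsum
    rw [← hsum, hidx]
  have hT : inertia M θ = M := by
    rw [card_conjOrbit] at horbcard
    have hle : M ≤ inertia M θ := le_inertia M (IsIrr.classFun hθ)
    have h1 := Subgroup.relIndex_mul_index hle
    rw [horbcard] at h1
    exact (le_antisymm (Subgroup.relIndex_eq_one.1 ((Nat.mul_eq_right (by omega)).1 h1)) hle)
  have hind : indFun M θ = χ := eq_of_constituent_irr (indFun_irr_of_inertia_eq M hθ hT) hχ (by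
    rw [classInner_indFun M θ (IsIrr.classFun hχ), ← classInner_conj_symm]
    exact fun h => hφc ((map_eq_zero _).1 h))
  obtain ⟨f', hf'0, hf'⟩ := IsIrr.one_eq_pos hθ
  have hff : f = p * f' := by
    have h1 := congrFun hind 1
    rw [indFun_one_eq, hidx, hf', hf] at h1
    exact_mod_cast h1.symm
  -- the twists
  set K : Subgroup M := charKer (IsIrr.isCharacter hθ) with hK
  haveI : K.Normal := charKer_normal _
  have hθker : ∀ x ∈ K, θ x = θ 1 := fun x hx => (mem_charKer _).1 hx
  obtain ⟨θb, hθb, hfac⟩ := IsIrr.exists_factor_quotient hθ K hθker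
  have hfaithb : ∀ q, θb q = θb 1 → q = 1 := by
    intro q hq
    obtain ⟨x, rfl⟩ := QuotientGroup.mk'_surjective K q
    refine (QuotientGroup.eq_one_iff x).2 ((mem_charKer _).2 ?_)
    rw [← hfac x, ← hfac 1]
    exact hq
  obtain ⟨a', ha'⟩ := IsPGroup.iff_card.1 ((hP.to_subgroup M).to_quotient K)
  have hnontriv : Nontrivial (M ⧸ K) := by
    by_contra hnt
    haveI := not_nontrivial_iff_subsingleton.1 hnt
    have hM1 : ∀ x ∈ M, x = 1 := fun x hx => hfaith x (by
      have h1 : ∀ m : M, θ m = θ 1 := fun m => by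
        rw [← hfac m, ← hfac 1, Subsingleton.elim (m : M ⧸ K) ((1 : M) : M ⧸ K)]
      have h2 := congrFun (res_indFun M θ)
      rw [hind] at h2
      rw [h2 ⟨x, hx⟩]
      refine ((h2 1).trans ?_).symm
      simp only [Pi.smul_apply, Finset.sum_apply, smul_eq_mul]
      congr 1
      refine Finset.sum_congr rfl fun g _ => ?_
      rw [conjN_apply, conjN_apply, h1, h1 ⟨g * x * g⁻¹, _⟩])
    have hPab : ∀ x y : P, x * y = y * x := by
      have hMb : M = ⊥ := (Subgroup.eq_bot_iff_forall M).2 hM1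
      have hc : Nat.card P = p := by rw [← Subgroup.index_bot, ← hMb, hidx]
      haveI := isCyclic_of_prime_card hc
      exact fun x y => (IsCyclic.commGroup (α := P)).mul_comm x y
    exact hf1 (Nat.cast_injective (R := ℂ) (by rw [← hf, IsIrr.one_of_comm hPab hχ, Nat.cast_one]))
  have hfb : θb 1 = (f' : ℂ) := by rw [← hf', ← hfac 1]; rfl
  have ha'0 : 0 < a' := by
    by_contra h
    have := Finite.one_lt_card (α := M ⧸ K)
    rw [ha', show a' = 0 by omega, pow_zero] at this
    exact lt_irrefl 1 this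
  obtain ⟨t', ht'⟩ := exists_t hp ((hP.to_subgroup M).to_quotient K) hθb hfaithb
  have horbθ : (Orb p θ).ncard = (p - 1) * p ^ t' := by
    rw [← ht', ← ncard_orb_comp (QuotientGroup.mk' K) (QuotientGroup.mk'_surjective K) θb]
    congr 2
    funext x
    exact (hfac x).symm
  have hcardM : Nat.card M = p ^ (a - 1) := by
    refine Nat.eq_of_mul_eq_mul_right (show 0 < M.index by rw [hidx]; exact hp.pos) ?_
    rw [M.card_mul_index, hidx, hcard, ← pow_succ, show a - 1 + 1 = a by omega]
  have hlt : Nat.card (M ⧸ K) < n := by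
    refine lt_of_le_of_lt (Nat.le_of_dvd Nat.card_pos (Subgroup.card_quotient_dvd_card K)) (lt_of_lt_of_le ?_ hn)
    rw [hcard, hcardM]
    exact Nat.pow_lt_pow_right hp.one_lt (by omega)
  letI : Fintype (M ⧸ K) := Fintype.ofFinite _
  have hb := ih _ hlt (M ⧸ K) le_rfl ((hP.to_subgroup M).to_quotient K) θb hθb hfaithb a' f' t' ha'
    ha'0 hfb ht'
  -- compare the stabilisers
  have hmM : ∀ g : M, g ^ (p ^ a) = 1 := fun g => Subtype.ext (by simpa using hm g)
  haveI : NeZero (p ^ a) := ⟨(pow_pos hp.pos a).ne'⟩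
  letI actP := twAct hm
  letI actM := twAct hmM
  set Sθ := MulAction.stabilizer (ZMod (p ^ a))ˣ θ with hSθ
  set Sχ := MulAction.stabilizer (ZMod (p ^ a))ˣ χ with hSχ
  have hunit : ∀ u : (ZMod (p ^ a))ˣ, ¬ p ∣ (u : ZMod (p ^ a)).val := fun u hd =>
    hp.not_dvd_one (ZMod.val_coe_unit_coprime u ▸ Nat.dvd_gcd hd (dvd_pow_self p ha.ne'))
  have hindtw : ∀ u : (ZMod (p ^ a))ˣ, indFun M (u • θ) = u • χ := fun u => by
    rw [← hind]
    exact indFun_twist hp hP (hunit u) M θ
  have hSle : Sθ ≤ Sχ := fun u hu => by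
    have h : u • θ = θ := hu
    show u • χ = χ
    rw [← hindtw u, h, hind]
  set T : Set (M → ℂ) := MulAction.orbit Sχ θ with hTdef
  have hTcard : T.ncard = Sθ.relIndex Sχ := by
    rw [hTdef, ← MulAction.index_stabilizer, Subgroup.relIndex]
    congr 1
  have hTsub : T ⊆ ↑(conjOrbit M θ) := by
    rintro _ ⟨u, rfl⟩
    have hi : IsIrrCharacter M ((u : (ZMod (p ^ a))ˣ) • θ) :=
      IsIrr.pow_map hθ (by rw [hcardM]; exact ((hp.coprime_iff_not_dvd.2 (hunit u)).symm).pow_right _)
    rw [Finset.mem_coe, mem_conjOrbit]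
    by_contra hno
    have h1 := classInner_indFun_indFun_irr M hθ hi
    haveI : IsEmpty {x : P // Char.conjN M x θ = (u : (ZMod (p ^ a))ˣ) • θ} := ⟨fun x => hno ⟨x.1, x.2⟩⟩
    rw [Nat.card_of_isEmpty (α := {x : P // Char.conjN M x θ = (u : (ZMod (p ^ a))ˣ) • θ}), Nat.cast_zero,
      mul_zero, hindtw, show (u : (ZMod (p ^ a))ˣ) • χ = χ from u.2, hind, classInner_self_irr hχ] at h1
    exact one_ne_zero h1
  have hTle : Sθ.relIndex Sχ ≤ p := by
    rw [← hTcard]
    refine (Set.ncard_le_ncard hTsub (Finset.finite_toSet _)).trans ?_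
    rw [Set.ncard_coe_finset, horbcard, hidx]
  have hmul : Sθ.relIndex Sχ * ((p - 1) * p ^ t) = (p - 1) * p ^ t' := by
    rw [← ht, ← horbθ, ncard_orb hm χ, ncard_orb hmM θ]
    exact Subgroup.relIndex_mul_index hSle
  have hmul' : Sθ.relIndex Sχ * p ^ t = p ^ t' :=
    Nat.eq_of_mul_eq_mul_left (show 0 < p - 1 by omega) (by rw [← hmul]; ring)
  obtain ⟨i, -, hi⟩ := (Nat.dvd_prime_pow hp).1 ⟨p ^ t, hmul'.symm⟩
  have hi1 : i ≤ 1 := by
    by_contra h
    have : p ^ 2 ≤ p ^ i := Nat.pow_le_pow_right hp.pos (by omega)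
    rw [← hi] at this
    nlinarith
  rw [hff]
  rcases Nat.eq_zero_or_pos i with hi0 | hi0
  · -- the conjugates may have different kernels
    have ht0 : t' = t := by
      rw [hi, hi0, pow_zero, one_mul] at hmul'
      exact (Nat.pow_right_injective hp2 hmul').symm
    subst ht0
    refine arith_same hp2 hf'0 ?_ hb
    let r : P ⧸ M → P := fun q => q.out
    let ι : M →* (P ⧸ M → M ⧸ K) :=
      { toFun := fun x q => (conjEquivN M (r q) x : M)
        map_one' := by funext q; simp
        map_mul' := fun x y => by funext q; simp }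
    have hι : Function.Injective ι := by
      rw [← MonoidHom.ker_eq_bot_iff, eq_bot_iff]
      intro x hx
      refine Subgroup.mem_bot.2 (Subtype.ext (hfaith (x : P) ?_))
      have h2 := congrFun (res_indFun M θ)
      rw [hind] at h2
      rw [h2 x]
      refine ((h2 1).trans ?_).symm
      simp only [Pi.smul_apply, Finset.sum_apply, smul_eq_mul]
      congr 1
      refine Finset.sum_congr rfl fun g _ => ?_
      obtain ⟨m, hm', hg⟩ : ∃ m ∈ M, g = r (g : P ⧸ M) * m :=
        ⟨(r (g : P ⧸ M))⁻¹ * g, QuotientGroup.eq.1 (QuotientGroup.out_eq' _), by group⟩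
      rw [hg, conjN_mul, conjN_mem M (θ := conjN M (r (g : P ⧸ M)) θ)
        (IsIrr.classFun (IsIrr.conjN M hθ _)) hm', conjN_eq_comp]
      have h3 := congrFun (MonoidHom.mem_ker.1 hx) (g : P ⧸ M)
      simp only [map_one]
      exact ((mem_charKer _).1 ((QuotientGroup.eq_one_iff _).1 h3)).symm
    have hle := Nat.card_le_card_of_injective ι hι
    rw [Nat.card_fun, ← Subgroup.index_eq_card M, hidx, hcardM, ha', ← pow_mul] at hle
    have := (Nat.pow_le_pow_iff_right hp.one_lt).1 hle
    rw [mul_comm p a']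
    omega
  · -- every conjugate is a twist
    have hi' : i = 1 := by omega
    subst hi'
    rw [pow_one] at hi
    have ht1 : t' = t + 1 := by
      rw [hi, ← pow_succ'] at hmul'
      exact (Nat.pow_right_injective hp2 hmul').symm
    subst ht1
    refine arith_step hp2 hf'0 ?_ hb
    have hTeq : T = ↑(conjOrbit M θ) := by
      refine Set.eq_of_subset_of_ncard_le hTsub ?_ (Finset.finite_toSet _)
      rw [Set.ncard_coe_finset, horbcard, hTcard, hi, hidx]
    have hKbot : K = ⊥ := by
      rw [eq_bot_iff]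
      intro x hx
      refine Subgroup.mem_bot.2 (Subtype.ext (hfaith (x : P) ?_))
      have h2 := congrFun (res_indFun M θ)
      rw [hind] at h2
      rw [h2 x]
      refine ((h2 1).trans ?_).symm
      simp only [Pi.smul_apply, Finset.sum_apply, smul_eq_mul]
      congr 1
      refine Finset.sum_congr rfl fun g _ => ?_
      obtain ⟨u, hu⟩ : conjN M g θ ∈ T := by
        rw [hTeq, Finset.mem_coe, mem_conjOrbit]; exact ⟨g, rfl⟩
      rw [← hu]
      show θ ((1 : M) ^ ((u : (ZMod (p ^ a))ˣ) : ZMod (p ^ a)).val) =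
        θ (x ^ ((u : (ZMod (p ^ a))ˣ) : ZMod (p ^ a)).val)
      rw [one_pow, hθker _ (pow_mem hx _)]
    have he : Nat.card (M ⧸ K) = Nat.card M := by
      rw [← Subgroup.index_eq_card, hKbot, Subgroup.index_bot]
    rw [ha', hcardM] at he
    have := Nat.pow_right_injective hp2 he
    omega

end Cfsg.Agent.Char.PField
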