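import Cfsg.Agent.Lib.Char.Average
import Cfsg.Agent.Lib.Char.Kernel
import Cfsg.Agent.Lib.Char.Galois

/-!
Power twists of functions on a finite `p`-group and their orbits.
-/

set_option autoImplicit false
set_option linter.unusedSectionVars false

namespace Cfsg.Agent.Char.PField

open scoped ComplexConjugate
open Cfsg

universe u

variable {G : Type u} [Group G]

/-- The functions obtained by composing with powers prime to `p`. -/
def Orb (p : ℕ) (χ : G → ℂ) : Set (G → ℂ) := {ψ | ∃ k : ℕ, ¬ p ∣ k ∧ ψ = fun g => χ (g ^ k)}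

theorem self_mem {p : ℕ} (hp : p.Prime) (χ : G → ℂ) : χ ∈ Orb p χ :=
  ⟨1, hp.not_dvd_one, funext fun g => by rw [pow_one]⟩

variable {p m : ℕ}

/-- The action of the units modulo `p ^ m`. -/
@[reducible] def twAct [hp : Fact p.Prime] (hm : ∀ g : G, g ^ (p ^ m) = 1) :
    MulAction (ZMod (p ^ m))ˣ (G → ℂ) where
  smul u ψ := fun g => ψ (g ^ (u : ZMod (p ^ m)).val)
  one_smul ψ := by
    funext g
    show ψ (g ^ ((1 : (ZMod (p ^ m))ˣ) : ZMod (p ^ m)).val) = ψ g
    rw [Units.val_one]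
    rcases Nat.eq_zero_or_pos m with rfl | h
    · have h1 : g = 1 := by simpa using hm g
      rw [h1, one_pow]
    · haveI : Fact (1 < p ^ m) := ⟨Nat.one_lt_pow h.ne' hp.out.one_lt⟩
      rw [ZMod.val_one, pow_one]
  mul_smul u v ψ := by
    funext g
    show ψ (g ^ ((u * v : (ZMod (p ^ m))ˣ) : ZMod (p ^ m)).val) =
      ψ ((g ^ (u : ZMod (p ^ m)).val) ^ (v : ZMod (p ^ m)).val)
    rw [← pow_mul, Units.val_mul, ZMod.val_mul, ← pow_eq_pow_mod _ (hm g)]

theorem mem_orbit_iff [hp : Fact p.Prime] (hm : ∀ g : G, g ^ (p ^ m) = 1) (χ ψ : G → ℂ) :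
    letI := twAct hm
    ψ ∈ MulAction.orbit (ZMod (p ^ m))ˣ χ ↔ ψ ∈ Orb p χ := by
  letI := twAct hm
  haveI : NeZero (p ^ m) := ⟨(pow_pos hp.out.pos m).ne'⟩
  constructor
  · rintro ⟨u, rfl⟩
    rcases Nat.eq_zero_or_pos m with h0 | h
    · subst h0
      refine ⟨1, hp.out.not_dvd_one, funext fun g => ?_⟩
      have h1 : g = 1 := by simpa using hm g
      show χ (g ^ _) = _
      rw [h1, one_pow, one_pow]
    · refine ⟨(u : ZMod (p ^ m)).val, fun hd => ?_, rfl⟩
      have hc := ZMod.val_coe_unit_coprime u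
      exact hp.out.not_dvd_one (hc ▸ Nat.dvd_gcd hd (dvd_pow_self p h.ne'))
  · rintro ⟨k, hk, rfl⟩
    refine ⟨ZMod.unitOfCoprime k (((hp.out.coprime_iff_not_dvd.2 hk).symm).pow_right m), funext fun g => ?_⟩
    show χ (g ^ _) = _
    rw [ZMod.coe_unitOfCoprime, ZMod.val_natCast, ← pow_eq_pow_mod _ (hm g)]

theorem orb_eq [hp : Fact p.Prime] (hm : ∀ g : G, g ^ (p ^ m) = 1) (χ : G → ℂ) :
    letI := twAct hm
    Orb p χ = MulAction.orbit (ZMod (p ^ m))ˣ χ :=
  Set.ext fun ψ => (mem_orbit_iff hm χ ψ).symm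

theorem orb_finite [hp : Fact p.Prime] (hm : ∀ g : G, g ^ (p ^ m) = 1) (χ : G → ℂ) :
    (Orb p χ).Finite := by
  haveI : NeZero (p ^ m) := ⟨(pow_pos hp.out.pos m).ne'⟩
  letI := twAct hm
  rw [orb_eq hm χ]
  exact Set.finite_range _

theorem ncard_orb [hp : Fact p.Prime] (hm : ∀ g : G, g ^ (p ^ m) = 1) (χ : G → ℂ) :
    letI := twAct hm
    (Orb p χ).ncard = (MulAction.stabilizer (ZMod (p ^ m))ˣ χ).index := by
  letI := twAct hm
  rw [orb_eq hm χ, MulAction.index_stabilizer]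

/-- Composition with a surjection keeps the number of twists. -/
theorem ncard_orb_comp {Q : Type u} [Group Q] (π : G →* Q) (hπ : Function.Surjective π)
    (χ : Q → ℂ) : (Orb p (χ ∘ π)).ncard = (Orb p χ).ncard := by
  have h : Orb p (χ ∘ π) = (fun ψ : Q → ℂ => ψ ∘ π) '' Orb p χ := by
    ext ψ
    constructor
    · rintro ⟨k, hk, rfl⟩
      exact ⟨fun q => χ (q ^ k), ⟨k, hk, rfl⟩, funext fun g => by simp⟩
    · rintro ⟨_, ⟨k, hk, rfl⟩, rfl⟩
      exact ⟨k, hk, funext fun g => by simp⟩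
  rw [h, Set.ncard_image_of_injective _ fun a b e => funext fun q => by
    obtain ⟨g, rfl⟩ := hπ q; exact congrFun e g]

/-- A twist has the same kernel. -/
theorem twist_apply_eq_one [Finite G] {χ : G → ℂ} (hχ : IsCharacter G χ) (hp : p.Prime) (hG : IsPGroup p G)
    {k : ℕ} (hk : ¬ p ∣ k) (g : G) : χ (g ^ k) = χ 1 ↔ χ g = χ 1 := by
  rw [← mem_charKer hχ, ← mem_charKer hχ]
  refine ⟨fun h => ?_, fun h => pow_mem h k⟩
  haveI := Fact.mk hp
  obtain ⟨i, hi⟩ := IsPGroup.iff_orderOf.1 hG g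
  have hc : k.Coprime (orderOf g) := by
    rw [hi]; exact ((hp.coprime_iff_not_dvd.2 hk).symm).pow_right i
  obtain ⟨j, hj⟩ := exists_pow_eq_self_of_coprime hc
  rw [← hj]
  exact pow_mem h j

/-- A faithful irreducible character of a nontrivial `p`-group has `(p - 1) p ^ t` twists. -/
theorem exists_t [Finite G] (hp : p.Prime) (hG : IsPGroup p G) [Nontrivial G] {χ : G → ℂ}
    (hχ : IsIrrCharacter G χ) (hfaith : ∀ g, χ g = χ 1 → g = 1) :
    ∃ t : ℕ, (Orb p χ).ncard = (p - 1) * p ^ t := by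
  haveI := Fact.mk hp
  haveI := hG.center_nontrivial
  obtain ⟨m, hcard⟩ := IsPGroup.iff_card.1 hG
  have hm : ∀ g : G, g ^ (p ^ m) = 1 := fun g => hcard ▸ pow_card_eq_one'
  have hm0 : m ≠ 0 := fun h => by
    have := Finite.one_lt_card (α := G)
    rw [hcard, h, pow_zero] at this
    exact lt_irrefl 1 this
  haveI : NeZero (p ^ m) := ⟨(pow_pos hp.pos m).ne'⟩
  letI := twAct hm
  set S := MulAction.stabilizer (ZMod (p ^ m))ˣ χ with hS
  set π := ZMod.unitsMap (dvd_pow_self p hm0) with hπ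
  obtain ⟨z₀, hz₀⟩ : ∃ z : Subgroup.center G, orderOf z = p := by
    refine exists_prime_orderOf_dvd_card' p ?_
    obtain ⟨j, hj0, hj⟩ := (hG.to_subgroup (Subgroup.center G)).exists_card_eq.elim
      fun j hj => (⟨j, fun h => by
        have := Finite.one_lt_card (α := Subgroup.center G)
        rw [hj, h, pow_zero] at this
        exact lt_irrefl 1 this, hj⟩ : ∃ j, j ≠ 0 ∧ Nat.card (Subgroup.center G) = p ^ j)
    rw [hj]
    exact dvd_pow_self p hj0
  have hzo : orderOf (z₀ : G) = p := by rw [Subgroup.orderOf_coe]; exact hz₀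
  obtain ⟨c, -, hc⟩ := IsIrr.scalar_of_center hχ z₀.2
  have hker : S ≤ π.ker := by
    intro u hu
    have h1 : χ ((z₀ : G) ^ (u : ZMod (p ^ m)).val) = χ (z₀ : G) := congrFun hu (z₀ : G)
    set k := (u : ZMod (p ^ m)).val with hk
    have hpow : ∀ i : ℕ, χ ((z₀ : G) ^ i) = c ^ i * χ 1 := by
      intro i
      induction i with
      | zero => simp
      | succ i ih => rw [pow_succ', hc, ih, pow_succ']; ring
    have h1' := hpow 1
    rw [pow_one] at h1'
    rw [hpow k, h1'] at h1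
    have hcc : c ^ k = c := by simpa using mul_right_cancel₀ (IsIrr.one_ne_zero hχ) h1
    have hcp : c ^ p = 1 := mul_right_cancel₀ (IsIrr.one_ne_zero hχ)
      (by rw [← hpow p, ← hzo, pow_orderOf_eq_one, one_mul])
    have hc1 : c ≠ 1 := fun h => hp.ne_one (by
      rw [← hzo, hfaith (z₀ : G) (by rw [h1', h, one_pow, one_mul]), orderOf_one])
    have hco : orderOf c = p := orderOf_eq_prime hcp hc1
    have hmod : k ≡ 1 [MOD p] := hco ▸ (orderOf_pos_iff.1 (hco ▸ hp.pos)).pow_eq_pow_iff_modEq.1 (hcc.trans (pow_one c).symm)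
    rw [MonoidHom.mem_ker]
    refine Units.ext ?_
    simp only [hπ, ZMod.unitsMap_def, Units.coe_map, MonoidHom.coe_coe, Units.val_one]
    rw [ZMod.castHom_apply, ← ZMod.natCast_val, ← hk, ← Nat.cast_one, ZMod.natCast_eq_natCast_iff]
    exact hmod
  have hkidx : π.ker.index = p - 1 := by
    rw [Subgroup.index_ker, MonoidHom.range_eq_top.2 (ZMod.unitsMap_surjective _), Subgroup.card_top,
      Nat.card_eq_fintype_card, ZMod.card_units_eq_totient, Nat.totient_prime hp]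
  have hU : Nat.card (ZMod (p ^ m))ˣ = p ^ (m - 1) * (p - 1) := by
    rw [Nat.card_eq_fintype_card, ZMod.card_units_eq_totient,
      Nat.totient_prime_pow hp (Nat.pos_of_ne_zero hm0)]
  have h2 := S.index_dvd_card
  rw [hU, ← Subgroup.relIndex_mul_index hker, hkidx] at h2
  have hp1 : 0 < p - 1 := by have := hp.two_le; omega
  obtain ⟨t, -, ht⟩ := (Nat.dvd_prime_pow hp).1 (Nat.dvd_of_mul_dvd_mul_right hp1 h2)
  refine ⟨t, ?_⟩
  rw [ncard_orb hm χ, ← hS, ← Subgroup.relIndex_mul_index hker, hkidx, ht, mul_comm]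

end Cfsg.Agent.Char.PField
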