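import Cfsg.Agent.Lib.Char.NearConstant
import Cfsg.Agent.Lib.Char.ExtendMain
import Cfsg.Agent.Lib.Char.Galois
import Cfsg.Agent.Lib.Block.CoveringBasic
import Cfsg.Prelude.Def_Transfer

/-!
Characters of degree prime to `p` fixed by a Galois automorphism over a normal subgroup with cyclic
quotient of prime power order.
-/

namespace Cfsg.Agent.Char.PFixed

open scoped ComplexConjugate
open Cfsg

set_option linter.unusedSectionVars false

universe u

variable {G : Type u} [Group G] [Finite G]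

/-- The determinantal character of a Galois twist. -/
theorem detChar_ringAut {χ : G → ℂ} (h : IsIrrCharacter G χ) (σ : ℂ ≃+* ℂ) (g : G) :
    detChar (fun x => σ (χ x)) g = σ (detChar χ g) := by
  obtain ⟨n, ρ, hρ, rfl, -, hdet⟩ := IsIrr.exists_rep h
  have e : (galoisTwist σ ρ).character = fun x => σ (ρ.character x) :=
    funext (galoisTwist_character σ ρ)
  haveI : (galoisTwist σ ρ).IsIrreducible :=
    irreducible_of_character _ (e.symm ▸ IsIrr.map_ringAut h σ)
  rw [← e, detChar_eq (galoisTwist σ ρ) g, hdet g, detUnits_apply,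
    ← LinearMap.det_toMatrix', ← LinearMap.det_toMatrix' (f := ρ g)]
  rw [show LinearMap.toMatrix' (galoisTwist σ ρ g) = (LinearMap.toMatrix' (ρ g)).map σ from
    LinearMap.toMatrix'_toLin' _]
  exact (RingHom.map_det σ.toRingHom _).symm

theorem detChar_powMap {χ : G → ℂ} (h : IsIrrCharacter G χ) {k : ℕ}
    (hk : k.Coprime (Nat.card G)) {l : G →* ℂˣ} (hl : detChar χ = fun g => (l g : ℂ)) :
    detChar (fun x => χ (x ^ k)) = fun g => ((l ^ k) g : ℂ) := by
  obtain ⟨σ, hσ⟩ := exists_galois (G := G) k hk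
  funext g
  rw [show (fun x => χ (x ^ k)) = fun x => σ (χ x) from
    funext fun x => (hσ χ (IsIrr.isCharacter h) x).symm, detChar_ringAut h, hl]
  simp only
  rw [hσ (fun g => (l g : ℂ)) (IsIrr.isCharacter (isIrr_linear l)) g, map_pow,
    MonoidHom.pow_apply]

variable {N : Subgroup G} [hN : N.Normal] {p e k : ℕ} [hp : Fact p.Prime]

theorem coprime_of_fixed (hk₁ : ∀ g : G, (∃ j : ℕ, orderOf g = p ^ j) → g ^ k = g ^ (1 + p))
    (hk₂ : ∀ g : G, Nat.Coprime (orderOf g) p → g ^ k = g) : k.Coprime (Nat.card G) := by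
  refine Nat.coprime_of_dvd fun q hq hqk hqG => ?_
  haveI := Fact.mk hq
  obtain ⟨g, hg⟩ := exists_prime_orderOf_dvd_card' q hqG
  have h1 : g ^ k = 1 := orderOf_dvd_iff_pow_eq_one.1 (by rw [hg]; exact hqk)
  rcases eq_or_ne q p with rfl | hne
  · rw [hk₁ g ⟨1, by rw [hg, pow_one]⟩, ← orderOf_dvd_iff_pow_eq_one, hg] at h1
    have : q ∣ 1 := (Nat.dvd_add_left dvd_rfl).1 h1
    exact hq.not_dvd_one this
  · rw [hk₂ g (by rw [hg]; exact (Nat.coprime_primes hq hp.out).2 hne)] at h1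
    rw [h1, orderOf_one] at hg
    exact hq.one_lt.ne' hg.symm

/-- A linear character trivial on a normal subgroup of `p`-power index under the twist. -/
theorem lin_pow_eq (hidx : N.index = p ^ e)
    (hk₁ : ∀ g : G, (∃ j : ℕ, orderOf g = p ^ j) → g ^ k = g ^ (1 + p)) {l : G →* ℂˣ}
    (hl : ∀ n : N, l n = 1) : l ^ k = l ^ (1 + p) := by
  refine MonoidHom.ext fun g => ?_
  obtain ⟨u, v, huv, hc, hu, hv, -, -⟩ := Cfsg.Agent.Block.exists_pPart_zpowers (p := p) g
  have hlv : l v = 1 := hl ⟨v, Cfsg.Agent.Block.regular_mem_of_index_pPow hidx hv⟩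
  rw [MonoidHom.pow_apply, MonoidHom.pow_apply, ← huv, map_mul, hlv, mul_one, ← map_pow,
    hk₁ u hu, map_pow]

/-- Translates of a character of coprime degree are distinct. -/
theorem translate_inj {χ : G → ℂ} (hχ : IsIrrCharacter G χ) {d : ℕ} (hd : χ 1 = d)
    (hcop : Nat.Coprime N.index d) {l l' : G →* ℂˣ} (hl : ∀ n : N, l n = 1)
    (hl' : ∀ n : N, l' n = 1) (h : (fun g => (l g : ℂ) * χ g) = fun g => (l' g : ℂ) * χ g) :
    l = l' := by
  have h1 := congrArg detChar h
  rw [detChar_mul_linear hχ hd, detChar_mul_linear hχ hd] at h1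
  obtain ⟨δ, hδ⟩ := isCharacter_detChar hχ
  have h2 : (l * l'⁻¹) ^ d = 1 := MonoidHom.ext fun g => Units.ext (by
    have := congrFun h1 g
    simp only [hδ] at this
    have e' := mul_right_cancel₀ (δ g).ne_zero this
    rw [MonoidHom.pow_apply, MonoidHom.mul_apply, MonoidHom.inv_apply, mul_pow, inv_pow,
      Units.val_mul, Units.val_inv_eq_inv_val, Units.val_pow_eq_pow_val, Units.val_pow_eq_pow_val,
      e', mul_inv_cancel₀ (pow_ne_zero _ (l' g).ne_zero), MonoidHom.one_apply, Units.val_one])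
  have h3 : (l * l'⁻¹) ^ N.index = 1 := pow_index_eq_one _ fun n => by simp [hl n, hl' n]
  exact mul_inv_eq_one.1 (orderOf_eq_one_iff.1 (Nat.eq_one_of_dvd_coprimes hcop
    (orderOf_dvd_of_pow_eq_one h3) (orderOf_dvd_of_pow_eq_one h2)))

/-- A distinguished fixed extension. -/
theorem exists_fixed_ext (hgen : N = Cfsg.pResidual p G) (hidx : N.index = p ^ e)
    (hcyc : IsCyclic (G ⧸ N))
    (hk₁ : ∀ g : G, (∃ j : ℕ, orderOf g = p ^ j) → g ^ k = g ^ (1 + p))
    (hk₂ : ∀ g : G, Nat.Coprime (orderOf g) p → g ^ k = g)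
    {θ : N → ℂ} (hθ : IsIrrCharacter N θ) {d : ℕ} (hd : θ 1 = d) (hpd : ¬ p ∣ d)
    (hinv : ∀ (g : G) (n : N), θ ⟨g * n * g⁻¹, hN.conj_mem (n : G) n.2 g⟩ = θ n)
    (hfix : ∀ n : N, θ (n ^ k) = θ n) :
    ∃ χ : G → ℂ, IsIrrCharacter G χ ∧ (∀ n : N, χ n = θ n) ∧ ∀ g, χ (g ^ k) = χ g := by
  classical
  haveI := Fintype.ofFinite G
  haveI := Fintype.ofFinite N
  have hcop : Nat.Coprime N.index d := by
    rw [hidx]; exact Nat.Coprime.pow_left _ (hp.out.coprime_iff_not_dvd.2 hpd)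
  obtain ⟨η, hη, hres⟩ := NearConst.exists_ext hcyc hθ hinv
  obtain ⟨l₀, hl₀⟩ := isCharacter_detChar hη
  have hdetθ : ∀ m : N, detChar θ m = (l₀ m : ℂ) := fun m => by
    rw [detChar_comp hη N.subtype hθ hres m, hl₀]
    rfl
  set o := orderOf (fun m : N => (l₀ m : ℂ)) with ho
  have hop : Nat.Coprime N.index o := by
    rw [hidx]
    refine Nat.Coprime.pow_left _ (hp.out.coprime_iff_not_dvd.2 fun hdvd => ?_)
    set l₁ : N →* ℂˣ := l₀.comp N.subtype with hl₁
    have ho1 : o = orderOf l₁ := orderOf_unitsFun l₁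
    have hpow : l₁ ^ (o / p) = 1 := by
      have hle : N ≤ (l₀ ^ (o / p)).ker := by
        conv_lhs => rw [hgen]
        refine (Subgroup.closure_le _).2 fun g hg => MonoidHom.mem_ker.2 ?_
        have hgN : g ∈ N := hgen.symm ▸ Subgroup.subset_closure hg
        have h1 : l₁ ⟨g, hgN⟩ ^ o = 1 := by
          rw [ho1, ← MonoidHom.pow_apply, pow_orderOf_eq_one, MonoidHom.one_apply]
        have h2 : l₁ ⟨g, hgN⟩ ^ orderOf g = 1 := by
          rw [← map_pow, show (⟨g, hgN⟩ : N) ^ orderOf g = 1 from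
            Subtype.ext (pow_orderOf_eq_one g), map_one]
        have h3 : orderOf (l₁ ⟨g, hgN⟩) ∣ o / p := by
          refine (Nat.Coprime.coprime_dvd_left (orderOf_dvd_of_pow_eq_one h2) hg).dvd_of_dvd_mul_left ?_
          rw [Nat.mul_div_cancel' hdvd]
          exact orderOf_dvd_of_pow_eq_one h1
        exact orderOf_dvd_iff_pow_eq_one.1 h3
      exact MonoidHom.ext fun m => MonoidHom.mem_ker.1 (hle m.2)
    have h4 : orderOf l₁ ∣ o / p :=
      orderOf_dvd_of_pow_eq_one (MonoidHom.ext fun m => DFunLike.congr_fun hpow m)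
    rw [← ho1] at h4
    have ho0 : 0 < o := Nat.pos_of_ne_zero (ho1 ▸ orderOf_linear_ne_zero l₁)
    exact absurd (Nat.le_of_dvd (Nat.div_pos (Nat.le_of_dvd ho0 hdvd) hp.out.pos) h4)
      (not_le.2 (Nat.div_lt_self ho0 hp.out.one_lt))
  obtain ⟨μ, hμ, hμo⟩ := Ext.exists_linear_adjust l₀ (N := N) rfl hop
  obtain ⟨χ, hχ, hχres, hχdet⟩ := Ext.exists_ext_det hθ hd hcop hη hres μ fun m => by
    rw [hμ m, hdetθ m]
  refine ⟨χ, hχ, hχres, fun g => ?_⟩
  have hkG := coprime_of_fixed hk₁ hk₂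
  have hres' : ∀ n : N, χ ((n : G) ^ k) = θ n := fun n => by
    rw [← hfix n, ← hχres (n ^ k), SubmonoidClass.coe_pow]
  have hNfix : ∀ n : N, (μ ^ k) n = μ n := fun n => by
    have hle : N ≤ MonoidHom.eqLocus (μ ^ k) μ := by
      conv_lhs => rw [hgen]
      refine (Subgroup.closure_le _).2 fun x hx => ?_
      show (μ ^ k) x = μ x
      rw [MonoidHom.pow_apply, ← map_pow, hk₂ x hx]
    exact hle n.2
  have hμ' : μ ^ k = μ := Ext.linear_unique hNfix
    (hop.coprime_dvd_right ((orderOf_dvd_of_pow_eq_one (x := μ ^ k) (n := orderOf μ)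
      (MonoidHom.ext fun g => by
        have := DFunLike.congr_fun (pow_orderOf_eq_one μ) g
        simp only [MonoidHom.pow_apply, MonoidHom.one_apply] at this ⊢
        rw [← pow_mul, mul_comm, pow_mul, this, one_pow])).trans hμo.dvd))
    (hμo ▸ hop)
  have hdet : detChar (fun x => χ (x ^ k)) = detChar χ := by
    rw [detChar_powMap hχ hkG hχdet, hμ', hχdet]
  exact congrFun (Ext.ext_unique hθ hd hcop hχ (IsIrr.pow_map hχ hkG) hχres hres' hdet) g

/-- The number of `p`-torsion linear characters of a cyclic quotient. -/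
theorem card_torsion (hcyc : IsCyclic (G ⧸ N)) (hidx : N.index = p ^ e) (he : e ≠ 0) :
    Nat.card {l : G →* ℂˣ // (∀ n : N, l n = 1) ∧ l ^ p = 1} = p := by
  classical
  let eqv : {l : G →* ℂˣ // (∀ n : N, l n = 1) ∧ l ^ p = 1} ≃
      {x : (G ⧸ N) →* ℂˣ // x ^ p = 1} :=
    { toFun := fun l => ⟨QuotientGroup.lift N l.1 fun n hn => MonoidHom.mem_ker.2 (l.2.1 ⟨n, hn⟩),
        MonoidHom.ext fun q => by
          obtain ⟨g, rfl⟩ := QuotientGroup.mk_surjective q
          exact DFunLike.congr_fun l.2.2 g⟩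
      invFun := fun x => ⟨x.1.comp (QuotientGroup.mk' N), fun n => by
          rw [MonoidHom.comp_apply, QuotientGroup.mk'_apply, (QuotientGroup.eq_one_iff _).2 n.2,
            map_one],
        MonoidHom.ext fun g => DFunLike.congr_fun x.2 (g : G ⧸ N)⟩
      left_inv := fun l => Subtype.ext (MonoidHom.ext fun g => rfl)
      right_inv := fun x => Subtype.ext (MonoidHom.ext fun q => by
        obtain ⟨g, rfl⟩ := QuotientGroup.mk_surjective q
        rfl) }
  rw [Nat.card_congr eqv]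
  haveI := hcyc
  letI : CommGroup (G ⧸ N) := IsCyclic.commGroup
  obtain ⟨f⟩ := CommGroup.monoidHom_mulEquiv_of_hasEnoughRootsOfUnity (G ⧸ N) ℂ
  haveI : IsCyclic ((G ⧸ N) →* ℂˣ) := isCyclic_of_surjective f.symm f.symm.surjective
  haveI : Finite ((G ⧸ N) →* ℂˣ) := Finite.of_equiv _ f.symm.toEquiv
  have := IsCyclic.card_powMonoidHom_ker (G := (G ⧸ N) →* ℂˣ) p
  rw [Nat.card_congr f.toEquiv, ← Subgroup.index_eq_card, hidx,
    Nat.gcd_eq_right (dvd_pow_self p he)] at this
  exact this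

/-- Translates by linear characters trivial on `N` exhaust the characters over `θ`. -/
theorem exists_translate {χ₀ χ : G → ℂ} (h₀ : IsIrrCharacter G χ₀) (hχ : IsIrrCharacter G χ)
    (hθ : IsIrrCharacter N (fun n : N => χ₀ n)) (hres : ∀ n : N, χ n = χ₀ n) :
    ∃ l : G →* ℂˣ, (∀ n : N, l n = 1) ∧ χ = fun g => (l g : ℂ) * χ₀ g := by
  classical
  haveI := Fintype.ofFinite G
  haveI := Fintype.ofFinite N
  obtain ⟨hL, hmul⟩ := gallagher (N := N) h₀ hχ hθ (by
    rw [show (fun n : N => χ n) = fun n : N => χ₀ n from funext hres, classInner_self_irr hθ]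
    exact one_ne_zero)
  set L := avgN N (χ * fun g => conj (χ₀ g)) with hLdef
  have h1 := congrFun hmul 1
  simp only [Pi.mul_apply] at h1
  have e1 : χ 1 = χ₀ 1 := hres 1
  have hL1 : L 1 = 1 := mul_left_cancel₀ (IsIrr.one_ne_zero h₀) (by rw [h1, mul_one, e1])
  obtain ⟨l, hl⟩ := linearHom_of_isCharacter (IsIrr.isCharacter hL) hL1
  refine ⟨l, fun m => Units.ext (by
    rw [← congrFun hl (m : G), Units.val_one, ← hL1, ← mul_one (m : G)]
    exact avgN_mul_left N _ m 1), ?_⟩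
  rw [← hmul, hl]
  funext g
  exact mul_comm _ _

end Cfsg.Agent.Char.PFixed
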