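import Cfsg.Agent.Lib.Char.PPowerFixed

/-!
Counting fixed characters of degree prime to `p` in the principal block.
-/

namespace Cfsg.Agent.Char.PFixed

open scoped ComplexConjugate
open Cfsg Cfsg.Agent.Block

set_option linter.unusedSectionVars false

universe u

variable {G : Type u} [Group G] [Finite G] {N : Subgroup G} [hN : N.Normal] {p e k : ℕ}
  [hp : Fact p.Prime] {M : Ideal AlgInt}

/-- The residual and a Sylow subgroup generate. -/
theorem residual_index (hgen : N = Cfsg.pResidual p G) (P : Sylow p G) :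
    (∃ e, N.index = p ^ e) ∧ N ⊔ (P : Subgroup G) = ⊤ := by
  have hreg : ∀ v : G, ¬ p ∣ orderOf v → v ∈ N := fun v hv => by
    rw [hgen]
    exact Subgroup.subset_closure (hp.out.coprime_iff_not_dvd.2 hv).symm
  have hQ : IsPGroup p (G ⧸ N) := by
    intro q
    obtain ⟨g, rfl⟩ := QuotientGroup.mk_surjective q
    obtain ⟨u, v, huv, hc, ⟨j, hj⟩, hv, -, -⟩ :=
      Cfsg.Agent.Block.exists_pPart_zpowers (p := p) g
    refine ⟨j, ?_⟩
    rw [← QuotientGroup.mk_pow, QuotientGroup.eq_one_iff, ← huv, hc.mul_pow, ← hj,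
      pow_orderOf_eq_one, one_mul]
    exact N.pow_mem (hreg v hv) _
  obtain ⟨e, he⟩ := IsPGroup.iff_card.1 hQ
  rw [← Subgroup.index_eq_card] at he
  refine ⟨⟨e, he⟩, Subgroup.index_eq_one.1 ?_⟩
  have h1 : (N ⊔ (P : Subgroup G)).index ∣ p ^ e := he ▸ Subgroup.index_dvd_of_le le_sup_left
  obtain ⟨i, -, hi⟩ := (Nat.dvd_prime_pow hp.out).1 h1
  rcases i with _ | i
  · rw [hi, pow_zero]
  · exact absurd ((dvd_pow_self p (Nat.succ_ne_zero i)).trans
      (hi ▸ Subgroup.index_dvd_of_le le_sup_right)) P.not_dvd_index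

theorem count (hM : IsPModular p M) (P : Sylow p G) (hgen : N = Cfsg.pResidual p G)
    (hcyc : IsCyclic (G ⧸ N)) (hnt : N ≠ ⊤)
    (hk₁ : ∀ g : G, (∃ j : ℕ, orderOf g = p ^ j) → g ^ k = g ^ (1 + p))
    (hk₂ : ∀ g : G, Nat.Coprime (orderOf g) p → g ^ k = g) :
    Nat.card {χ : IrrCharacter G // χ ∈ principalBlock M G ∧ ¬ p ∣ charDegree (χ : G → ℂ) ∧
        ∀ g : G, (χ : G → ℂ) (g ^ k) = (χ : G → ℂ) g} =
      p * Nat.card {θ : IrrCharacter N // θ ∈ principalBlock M N ∧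
        ¬ p ∣ charDegree (θ : N → ℂ) ∧
        (∀ x ∈ (P : Subgroup G), ∀ n : N,
          (θ : N → ℂ) ⟨x * n * x⁻¹, hN.conj_mem n n.2 x⟩ = (θ : N → ℂ) n) ∧
        ∀ n : N, (θ : N → ℂ) (n ^ k) = (θ : N → ℂ) n} := by
  classical
  cases nonempty_fintype G
  cases nonempty_fintype N
  obtain ⟨⟨e, hidx⟩, htop⟩ := residual_index hgen P
  have he : e ≠ 0 := fun h => hnt (Subgroup.index_eq_one.1 (by rw [hidx, h, pow_zero]))
  have hkG := coprime_of_fixed hk₁ hk₂
  have hcopd : ∀ {d : ℕ}, ¬ p ∣ d → Nat.Coprime N.index d := fun {d} hd => by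
    rw [hidx]; exact Nat.Coprime.pow_left _ (hp.out.coprime_iff_not_dvd.2 hd)
  -- invariance under `P` is invariance under `G`
  have hinv : ∀ θ : IrrCharacter N, (∀ x ∈ (P : Subgroup G), ∀ n : N,
      (θ : N → ℂ) ⟨x * n * x⁻¹, hN.conj_mem n n.2 x⟩ = (θ : N → ℂ) n) →
      ∀ (g : G) (n : N), (θ : N → ℂ) ⟨g * n * g⁻¹, hN.conj_mem (n : G) n.2 g⟩ = (θ : N → ℂ) n := by
    intro θ hP g n
    obtain ⟨a, ha, x, hx, rfl⟩ := Subgroup.mem_sup_of_normal_left.1 (htop ▸ Subgroup.mem_top g)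
    have h1 := irr_classFun θ ⟨x * n * x⁻¹, hN.conj_mem n n.2 x⟩ ⟨a, ha⟩
    rw [← hP x hx n, ← h1]
    refine congrArg (θ : N → ℂ) (Subtype.ext ?_)
    simp only [Subgroup.coe_mul, Subgroup.coe_inv]; group
  choose ext hext hextres hextfix using
    fun θ : {θ : IrrCharacter N // θ ∈ principalBlock M N ∧
        ¬ p ∣ charDegree (θ : N → ℂ) ∧
        (∀ x ∈ (P : Subgroup G), ∀ n : N,
          (θ : N → ℂ) ⟨x * n * x⁻¹, hN.conj_mem n n.2 x⟩ = (θ : N → ℂ) n) ∧
        ∀ n : N, (θ : N → ℂ) (n ^ k) = (θ : N → ℂ) n} =>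
      exists_fixed_ext hgen hidx hcyc hk₁ hk₂ θ.1.2 (charDeg_spec' θ.1) θ.2.2.1
        (hinv θ.1 θ.2.2.2.1) θ.2.2.2.2
  have hB : IsPBlock M (principalBlock M N) := isPBlock_principalBlock
  have htriv : classInner (fun n : N => ((trivialIrr G : IrrCharacter G) : G → ℂ) n)
      ((trivialIrr N : IrrCharacter N) : N → ℂ) ≠ 0 := by
    rw [show (fun n : N => ((trivialIrr G : IrrCharacter G) : G → ℂ) n) =
      ((trivialIrr N : IrrCharacter N) : N → ℂ) from rfl, classInner_self_irr (trivialIrr N).2]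
    exact one_ne_zero
  -- membership in the principal block
  have hmem : ∀ (χ : IrrCharacter G) (θ : IrrCharacter N),
      (∀ (g : G) (n : N), (θ : N → ℂ) ⟨g * n * g⁻¹, hN.conj_mem (n : G) n.2 g⟩ = (θ : N → ℂ) n) →
      (∀ n : N, (χ : G → ℂ) n = (θ : N → ℂ) n) →
      (χ ∈ principalBlock M G ↔ θ ∈ principalBlock M N) := by
    intro χ θ hθinv hres
    have hne : classInner (fun n : N => (χ : G → ℂ) n) (θ : N → ℂ) ≠ 0 := by
      rw [show (fun n : N => (χ : G → ℂ) n) = (θ : N → ℂ) from funext hres,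
        classInner_self_irr θ.2]
      exact one_ne_zero
    constructor
    · intro hχ
      obtain ⟨g, θ', hθ', e'⟩ := constituents_in_conjugates N hM
        (isPBlock_principalBlock (G := G)) hB (trivial_mem_principalBlock hM)
        (trivial_mem_principalBlock hM) htriv hχ hne
      have : θ' = θ := Subtype.ext (funext fun n => by
        have h1 := e' ⟨g⁻¹ * n * g, by simpa using hN.conj_mem n n.2 g⁻¹⟩
        have h2 := hθinv g⁻¹ n
        simp only [inv_inv] at h2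
        rw [h2] at h1
        rw [h1]
        refine congrArg (θ' : N → ℂ) (Subtype.ext ?_)
        simp only []; group)
      exact this ▸ hθ'
    · intro hθ
      obtain ⟨B, -, huniq⟩ := unique_cover_pPow N hM ⟨e, hidx⟩ hB
      have h1 := huniq _ ⟨isPBlock_blockOf χ, χ, mem_blockOf_self hM χ, θ, hθ, hne⟩
      have h2 := huniq _ ⟨isPBlock_principalBlock (G := G), trivialIrr G,
        trivial_mem_principalBlock hM, trivialIrr N, trivial_mem_principalBlock hM, htriv⟩
      exact (h1.trans h2.symm) ▸ mem_blockOf_self hM χ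
  have hdeg : ∀ (χ : IrrCharacter G) (θ : IrrCharacter N),
      (∀ n : N, (χ : G → ℂ) n = (θ : N → ℂ) n) →
      charDegree (χ : G → ℂ) = charDegree (θ : N → ℂ) := fun χ θ h => by
    have h1 := h 1
    rw [OneMemClass.coe_one, charDeg_spec' χ, charDeg_spec' θ] at h1
    exact_mod_cast h1
  let F : {θ : IrrCharacter N // θ ∈ principalBlock M N ∧
        ¬ p ∣ charDegree (θ : N → ℂ) ∧
        (∀ x ∈ (P : Subgroup G), ∀ n : N,
          (θ : N → ℂ) ⟨x * n * x⁻¹, hN.conj_mem n n.2 x⟩ = (θ : N → ℂ) n) ∧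
        ∀ n : N, (θ : N → ℂ) (n ^ k) = (θ : N → ℂ) n} ×
      {l : G →* ℂˣ // (∀ n : N, l n = 1) ∧ l ^ p = 1} →
      {χ : IrrCharacter G // χ ∈ principalBlock M G ∧ ¬ p ∣ charDegree (χ : G → ℂ) ∧
        ∀ g : G, (χ : G → ℂ) (g ^ k) = (χ : G → ℂ) g} := fun q =>
    ⟨⟨fun g => (q.2.1 g : ℂ) * ext q.1 g, IsIrr.mul_linear (hext q.1) q.2.1⟩, by
      have hres : ∀ n : N, (q.2.1 (n : G) : ℂ) * ext q.1 n = (q.1.1 : N → ℂ) n := fun n => by
        rw [q.2.2.1 n, Units.val_one, one_mul, hextres]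
      refine ⟨(hmem _ q.1.1 (hinv _ q.1.2.2.2.1) hres).2 q.1.2.1, ?_, fun g => ?_⟩
      · rw [hdeg ⟨fun g => (q.2.1 g : ℂ) * ext q.1 g, IsIrr.mul_linear (hext q.1) q.2.1⟩
          q.1.1 hres]
        exact q.1.2.2.1
      · show (q.2.1 (g ^ k) : ℂ) * ext q.1 (g ^ k) = (q.2.1 g : ℂ) * ext q.1 g
        have h1 : q.2.1 g ^ k = q.2.1 g ^ (1 + p) := DFunLike.congr_fun (lin_pow_eq hidx hk₁ q.2.2.1) g
        rw [hextfix, map_pow, h1, pow_add, pow_one,
          show q.2.1 g ^ p = 1 from DFunLike.congr_fun q.2.2.2 g, mul_one]⟩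
  have hF : Function.Bijective F := by
    constructor
    · rintro ⟨θ, l⟩ ⟨θ', l'⟩ h
      have h' : (fun g => (l.1 g : ℂ) * ext θ g) = fun g => (l'.1 g : ℂ) * ext θ' g :=
        congrArg (fun q : {χ : IrrCharacter G // χ ∈ principalBlock M G ∧
          ¬ p ∣ charDegree (χ : G → ℂ) ∧
          ∀ g : G, (χ : G → ℂ) (g ^ k) = (χ : G → ℂ) g} => ((q.1 : IrrCharacter G) : G → ℂ)) h
      obtain rfl : θ = θ' := Subtype.ext (Subtype.ext (funext fun n => by
        have h1 := congrFun h' (n : G)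
        simpa [l.2.1 n, l'.2.1 n, hextres] using h1))
      obtain rfl : l = l' := Subtype.ext (translate_inj (hext θ) (d := charDegree (θ.1 : N → ℂ))
        ((hextres θ 1).trans (charDeg_spec' θ.1)) (hcopd θ.2.2.1) l.2.1 l'.2.1 h')
      rfl
    · rintro ⟨χ, hχB, hχd, hχfix⟩
      obtain ⟨θ, hθne⟩ : ∃ θ : IrrCharacter N,
          classInner (fun n : N => (χ : G → ℂ) n) (θ : N → ℂ) ≠ 0 :=
        IsChar.exists_constituent' (IsChar.res (irr_isChar χ) N) (by
          show (χ : G → ℂ) 1 ≠ 0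
          exact irr_one_ne_zero χ)
      obtain ⟨c, hc, hcd⟩ := Ext.ratio_dvd_index' χ.2 θ.2 hθne
      rw [charDeg_spec' χ, charDeg_spec' θ] at hc
      have hc' : charDegree (χ : G → ℂ) = c * charDegree (θ : N → ℂ) := by exact_mod_cast hc
      rw [hidx] at hcd
      obtain ⟨i, -, rfl⟩ := (Nat.dvd_prime_pow hp.out).1 hcd
      rcases i with _ | i
      swap
      · exact absurd (hc' ▸ (dvd_pow_self p (Nat.succ_ne_zero i)).mul_right _) hχd
      rw [pow_zero, one_mul] at hc'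
      have hres : ∀ n : N, (χ : G → ℂ) n = (θ : N → ℂ) n := fun n => congrFun
        (eq_of_constituent_degree (IsChar.res (irr_isChar χ) N) θ.2 hθne (by
          show (χ : G → ℂ) 1 = (θ : N → ℂ) 1
          rw [charDeg_spec' χ, charDeg_spec' θ, hc'])) n
      have hθinv : ∀ (g : G) (n : N),
          (θ : N → ℂ) ⟨g * n * g⁻¹, hN.conj_mem (n : G) n.2 g⟩ = (θ : N → ℂ) n := fun g n => by
        rw [← hres, ← hres]
        exact irr_classFun χ _ g
      have hθfix : ∀ n : N, (θ : N → ℂ) (n ^ k) = (θ : N → ℂ) n := fun n => by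
        rw [← hres, ← hres, SubmonoidClass.coe_pow, hχfix]
      set Θ : {θ : IrrCharacter N // θ ∈ principalBlock M N ∧
        ¬ p ∣ charDegree (θ : N → ℂ) ∧
        (∀ x ∈ (P : Subgroup G), ∀ n : N,
          (θ : N → ℂ) ⟨x * n * x⁻¹, hN.conj_mem n n.2 x⟩ = (θ : N → ℂ) n) ∧
        ∀ n : N, (θ : N → ℂ) (n ^ k) = (θ : N → ℂ) n} :=
        ⟨θ, (hmem χ θ hθinv hres).1 hχB, hc' ▸ hχd, fun x _ n => hθinv x n, hθfix⟩ with hΘ
      obtain ⟨l, hlN, hle⟩ := exists_translate (hext Θ) χ.2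
        (by rw [show (fun n : N => ext Θ n) = (θ : N → ℂ) from funext (hextres Θ)]; exact θ.2)
        (fun n => (hres n).trans (hextres Θ n).symm)
      have hlp : l ^ p = 1 := by
        have h1 : l ^ k = l := translate_inj (hext Θ) (d := charDegree (θ : N → ℂ))
          ((hextres Θ 1).trans (charDeg_spec' θ)) (hcopd (hc' ▸ hχd))
          (fun n => by rw [MonoidHom.pow_apply, hlN, one_pow]) hlN (by
            funext g
            have := hχfix g
            rw [hle] at this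
            simp only [hextfix, map_pow] at this
            simpa [MonoidHom.pow_apply] using this)
        refine MonoidHom.ext fun g => ?_
        have h2 : l g ^ k = l g := DFunLike.congr_fun h1 g
        rw [show l g ^ k = l g ^ (1 + p) from DFunLike.congr_fun (lin_pow_eq hidx hk₁ hlN) g,
          pow_add, pow_one] at h2
        exact mul_eq_left.1 h2
      exact ⟨⟨Θ, ⟨l, hlN, hlp⟩⟩, Subtype.ext (Subtype.ext hle.symm)⟩
  rw [← Nat.card_congr (Equiv.ofBijective F hF), Nat.card_prod, card_torsion hcyc hidx he,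
    mul_comm]

end Cfsg.Agent.Char.PFixed
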