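import Cfsg.Agent.Lib.Block.Roots
import Cfsg.Prelude.Def_BrauerPairs

/-!
Basic tools for Brauer pairs: coefficient functions invariant under a subgroup, their Brauer
images, and idempotents modulo the local ideal.
-/

namespace Cfsg.Agent.Char.BP

open Cfsg.Agent.Block

set_option linter.unusedSectionVars false
set_option linter.style.haveILetI false

universe u

variable {G : Type u} [Group G] [Fintype G] {p : ℕ} {M : Ideal AlgInt}

/-- The centralizer of a subgroup. -/
abbrev CG (Q : Subgroup G) : Subgroup G := Subgroup.centralizer (Q : Set G)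

/-! ### Central elements whose coefficients lie in the ideal -/

/-- All coefficients of the central element lie in the local ideal. -/
def CI (M : Ideal AlgInt) (F : IrrCharacter G → ℂ) : Prop :=
  ∀ g, MemLocalIdeal M (coeffFun F g)

theorem CI.add (hM : IsPModular p M) {F F' : IrrCharacter G → ℂ} (h : CI M F) (h' : CI M F') :
    CI M (F + F') := fun g => by
  rw [coeffFun_add]; exact ideal_add hM (h g) (h' g)

theorem CI.sub (hM : IsPModular p M) {F F' : IrrCharacter G → ℂ} (h : CI M F) (h' : CI M F') :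
    CI M (F - F') := fun g => by
  rw [coeffFun_sub]; exact ideal_sub hM (h g) (h' g)

theorem CI.mul_right (hM : IsPModular p M) {F F' : IrrCharacter G → ℂ} (h : CI M F)
    (h' : CenInt M F') : CI M (F * F') := fun g => by
  rw [coeffFun_mul]
  exact ideal_sum hM fun x _ => ideal_mul_right hM (h x) (h' _)

theorem CI.mul_left (hM : IsPModular p M) {F F' : IrrCharacter G → ℂ} (h' : CenInt M F')
    (h : CI M F) : CI M (F' * F) := by
  rw [mul_comm]; exact h.mul_right hM h'

theorem CI.zero (hM : IsPModular p M) : CI M (0 : IrrCharacter G → ℂ) := fun g => by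
  rw [← sub_self (1 : IrrCharacter G → ℂ), coeffFun_sub, sub_self]
  exact ideal_zero hM

/-- A central element which is idempotent modulo the ideal at the level of coefficients and
whose values lie in the ideal has all coefficients in the ideal. -/
theorem nil_idem (hM : IsPModular p M) {F : IrrCharacter G → ℂ} (hF : CenInt M F)
    (h2 : CI M (F * F - F)) (hv : ∀ ξ, MemLocalIdeal M (F ξ)) : CI M F := by
  obtain ⟨N, hN, hpow⟩ := exists_pow_coeff_ideal hM hF hv
  have hd : ∀ n : ℕ, 0 < n → CI M (F ^ n - F) := by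
    intro n hn
    induction n, hn using Nat.le_induction with
    | base => simpa using CI.zero (G := G) hM
    | succ n hn ih =>
      rw [show F ^ (n + 1) - F = (F ^ n - F) * F + (F * F - F) by rw [pow_succ]; ring]
      exact (ih.mul_right hM hF).add hM h2
  intro g
  have h := ideal_sub hM (hpow g) (hd N hN g)
  rw [coeffFun_sub] at h
  simpa using h

theorem idem_congr_half (hM : IsPModular p M) {F F' : IrrCharacter G → ℂ} (hF : CenInt M F)
    (hF' : CenInt M F') (h1 : CI M (F * F - F)) (h2 : CI M (F' * F' - F'))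
    (hv : ∀ ξ, MemLocalIdeal M (F ξ - F' ξ)) : CI M (F' - F' * F) := by
  refine nil_idem hM (hF'.sub hM (hF'.mul hM hF)) ?_ fun ξ => ?_
  · rw [show (F' - F' * F) * (F' - F' * F) - (F' - F' * F) =
      (F' * F' - F') * ((1 - F) * (1 - F)) + F' * (F * F - F) by ring]
    exact (h2.mul_right hM (((cenInt_one hM).sub hM hF).mul hM ((cenInt_one hM).sub hM hF))).add hM
      (CI.mul_left hM hF' h1)
  · have h := ideal_add hM (ideal_neg (ideal_of_coeffFun_ideal hM h2 ξ))
      (ideal_mul_left hM (hF'.ring hM ξ) (ideal_sub_comm (hv ξ)))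
    simp only [Pi.sub_apply, Pi.mul_apply] at h ⊢
    convert h using 1
    ring

/-- Two idempotents modulo the ideal with congruent values have congruent coefficients. -/
theorem idem_congr (hM : IsPModular p M) {F F' : IrrCharacter G → ℂ} (hF : CenInt M F)
    (hF' : CenInt M F') (h1 : CI M (F * F - F)) (h2 : CI M (F' * F' - F'))
    (hv : ∀ ξ, MemLocalIdeal M (F ξ - F' ξ)) : CI M (F - F') := by
  rw [show F - F' = (F - F * F') - (F' - F' * F) by ring]
  exact (idem_congr_half hM hF' hF h2 h1 fun ξ => ideal_sub_comm (hv ξ)).sub hM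
    (idem_congr_half hM hF hF' h1 h2 hv)

/-- Class functions congruent pointwise have congruent central character values. -/
theorem omega_congr (hM : IsPModular p M) {a b : G → ℂ} (ha : IsClassFunction G a)
    (hb : IsClassFunction G b) (h : ∀ g, MemLocalIdeal M (a g - b g)) (χ : IrrCharacter G) :
    MemLocalIdeal M (omegaFun χ a - omegaFun χ b) := by
  refine ideal_of_coeffFun_ideal hM
    (f := (fun ξ => omegaFun ξ a) - fun ξ => omegaFun ξ b) (fun g => ?_) χ
  rw [coeffFun_sub, coeffFun_omegaFun ha, coeffFun_omegaFun hb]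
  exact h g

/-! ### Functions on the group -/

/-- Conjugate of a function. -/
def cfun (x : G) (a : G → ℂ) : G → ℂ := fun g => a (x⁻¹ * g * x)

theorem cfun_one (a : G → ℂ) : cfun 1 a = a := by
  funext g; simp [cfun]

theorem cfun_mul (x y : G) (a : G → ℂ) : cfun x (cfun y a) = cfun (x * y) a := by
  funext g; simp only [cfun, mul_inv_rev, mul_assoc]

/-- Invariance under conjugation by a subgroup. -/
def Inv (W : Subgroup G) (a : G → ℂ) : Prop := ∀ x ∈ W, ∀ g, a (x * g * x⁻¹) = a g

theorem Inv.mono {V W : Subgroup G} {a : G → ℂ} (h : Inv W a) (hVW : V ≤ W) : Inv V a :=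
  fun x hx => h x (hVW hx)

theorem inv_of_classFun {a : G → ℂ} (h : IsClassFunction G a) (W : Subgroup G) : Inv W a :=
  fun x _ g => h g x

theorem inv_iff_cfun {W : Subgroup G} {a : G → ℂ} : Inv W a ↔ ∀ x ∈ W, cfun x a = a := by
  refine ⟨fun h x hx => funext fun g => ?_, fun h x hx g => ?_⟩
  · simpa [cfun] using h x⁻¹ (inv_mem hx) g
  · simpa [cfun] using congrFun (h x⁻¹ (inv_mem hx)) g

/-- The elements fixing a function under conjugation. -/
def fixSub (a : G → ℂ) : Subgroup G where
  carrier := {x | cfun x a = a}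
  one_mem' := cfun_one a
  mul_mem' {x y} (hx : cfun x a = a) (hy : cfun y a = a) := by
    show cfun (x * y) a = a
    rw [← cfun_mul, hy, hx]
  inv_mem' {x} (hx : cfun x a = a) := by
    show cfun x⁻¹ a = a
    conv_lhs => rw [← hx]
    rw [cfun_mul, inv_mul_cancel, cfun_one]

theorem inv_iff_le {W : Subgroup G} {a : G → ℂ} : Inv W a ↔ W ≤ fixSub a := inv_iff_cfun

theorem Inv.sup {V W : Subgroup G} {a : G → ℂ} (h : Inv V a) (h' : Inv W a) : Inv (V ⊔ W) a :=
  inv_iff_le.2 (sup_le (inv_iff_le.1 h) (inv_iff_le.1 h'))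

theorem inv_sum {ι : Type*} {s : Finset ι} {W : Subgroup G} {a : ι → G → ℂ}
    (h : ∀ i ∈ s, Inv W (a i)) : Inv W (fun g => ∑ i ∈ s, a i g) := fun x hx g =>
  Finset.sum_congr rfl fun i hi => h i hi x hx g

/-- Support inside a subgroup. -/
def Supp (W : Subgroup G) (a : G → ℂ) : Prop := ∀ g, g ∉ W → a g = 0

/-- Restriction to a subgroup. -/
def res (W : Subgroup G) (a : G → ℂ) : W → ℂ := fun w => a w

theorem res_apply (W : Subgroup G) (a : G → ℂ) (w : W) : res W a w = a w := rfl

theorem res_classFun {W : Subgroup G} {a : G → ℂ} (h : Inv W a) :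
    IsClassFunction W (res W a) := fun g x => h x x.2 g

theorem Inv.conv {W : Subgroup G} {a b : G → ℂ} (ha : Inv W a) (hb : Inv W b) :
    Inv W (convFun a b) := by
  intro x hx z
  refine (Fintype.sum_equiv (MulAut.conj x).toEquiv _ _ fun h => ?_).symm
  simp only [MulEquiv.toEquiv_eq_coe, MulEquiv.coe_toEquiv, MulAut.conj_apply]
  rw [ha x hx h, show (x * h * x⁻¹)⁻¹ * (x * z * x⁻¹) = x * (h⁻¹ * z) * x⁻¹ by group, hb x hx]

theorem conv_res (W : Subgroup G) [Fintype W] {a : G → ℂ} (b : G → ℂ) (ha : Supp W a) (c : W) :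
    convFun a b (c : G) = convFun (res W a) (res W b) c := by
  classical
  rw [convFun, convFun, ← Finset.sum_subset (Finset.subset_univ
    (Finset.univ.filter (fun g => g ∈ W))) (fun g _ hg => by
      rw [ha g (by simpa using hg), zero_mul]),
    Finset.sum_subtype (Finset.univ.filter (fun g => g ∈ W)) (p := fun g => g ∈ W)
      (fun g => by simp) (fun g => a g * b (g⁻¹ * (c : G)))]
  rfl

theorem Supp.conv {W : Subgroup G} {a b : G → ℂ} (ha : Supp W a) (hb : Supp W b) :
    Supp W (convFun a b) := by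
  intro g hg
  refine Finset.sum_eq_zero fun h _ => ?_
  by_cases hh : h ∈ W
  · rw [hb (h⁻¹ * g) fun hc => hg (by simpa using mul_mem hh hc), mul_zero]
  · rw [ha h hh, zero_mul]

theorem conv_sum_right {ι : Type*} (s : Finset ι) (a : G → ℂ) (b : ι → G → ℂ) (c : G) :
    convFun a (fun g => ∑ i ∈ s, b i g) c = ∑ i ∈ s, convFun a (b i) c := by
  simp only [convFun, Finset.mul_sum]
  rw [Finset.sum_comm]

theorem conv_sum_left {ι : Type*} (s : Finset ι) (a : ι → G → ℂ) (b : G → ℂ) (c : G) :
    convFun (fun g => ∑ i ∈ s, a i g) b c = ∑ i ∈ s, convFun (a i) b c := by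
  simp only [convFun, Finset.sum_mul]
  rw [Finset.sum_comm]

/-- Exact idempotents with coefficients in the local ring. -/
def Idem (M : Ideal AlgInt) (a : G → ℂ) : Prop :=
  (∀ g, MemLocalRing M (a g)) ∧ convFun a a = a

/-! ### Truncation to a centralizer -/

/-- Truncation to the centralizer of a `p`-subgroup is multiplicative modulo the ideal. -/
theorem mul_congr (hM : IsPModular p M) {P : Subgroup G} (hP : IsPGroup p P) [Fintype (CG P)]
    {a b : G → ℂ} (ha : ∀ g, MemLocalRing M (a g)) (hb : ∀ g, MemLocalRing M (b g))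
    (hai : Inv P a) (hbi : Inv P b) (c : CG P) :
    MemLocalIdeal M (convFun a b (c : G) - convFun (res (CG P) a) (res (CG P) b) c) := by
  classical
  letI : MulAction P G := MulAction.compHom G ((MulAut.conj (G := G)).comp P.subtype)
  have hsmul : ∀ (u : P) (g : G), u • g = (u : G) * g * (u : G)⁻¹ := fun u g => rfl
  have hfix : MulAction.fixedPoints P G = (CG P : Set G) := by
    ext g
    rw [MulAction.mem_fixedPoints, SetLike.mem_coe, Subgroup.mem_centralizer_iff]
    exact ⟨fun h u hu => mul_inv_eq_iff_eq_mul.1 ((hsmul ⟨u, hu⟩ g).symm.trans (h ⟨u, hu⟩)),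
      fun h u => by rw [hsmul, mul_inv_eq_iff_eq_mul]; exact h u u.2⟩
  have h := ideal_sum_sub_fixed hM hP (F := fun h => a h * b (h⁻¹ * (c : G)))
    (fun h => ring_mul hM (ha _) (hb _)) (fun u h => by
      have hcu : (u : G) * (c : G) = (c : G) * (u : G) :=
        Subgroup.mem_centralizer_iff.1 c.2 u u.2
      simp only [hsmul]
      rw [hai u u.2 h,
        show ((u : G) * h * (u : G)⁻¹)⁻¹ * (c : G) = (u : G) * (h⁻¹ * (c : G)) * (u : G)⁻¹ by
          have h2 : (u : G)⁻¹ * (c : G) = (c : G) * (u : G)⁻¹ :=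
            inv_mul_eq_iff_eq_mul.2 (by rw [← mul_assoc, hcu, mul_inv_cancel_right])
          calc ((u : G) * h * (u : G)⁻¹)⁻¹ * (c : G)
              = (u : G) * h⁻¹ * ((u : G)⁻¹ * (c : G)) := by group
            _ = _ := by rw [h2]; group,
        hbi u u.2])
  rw [hfix, finsum_mem_eq_sum_of_inter_support_eq _
    (t := Finset.univ.filter (fun g => g ∈ CG P)) (by ext; simp),
    Finset.sum_subtype (Finset.univ.filter (fun g => g ∈ CG P)) (p := fun g => g ∈ CG P)
      (fun g => by simp)] at h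
  exact h

/-- The value at a character of the centralizer of the Brauer image. -/
noncomputable def val (P : Subgroup G) (a : G → ℂ) (ξ : IrrCharacter (CG P)) : ℂ :=
  brauerOmega P a (ξ : CG P → ℂ)

theorem val_eq (P : Subgroup G) [Fintype (CG P)] (a : G → ℂ) (ξ : IrrCharacter (CG P)) :
    val P a ξ = omegaFun ξ (res (CG P) a) := by
  rw [val, brauerOmega, finsum_eq_sum_of_fintype, omegaFun, Finset.sum_div]
  rfl

theorem coeff_val {P : Subgroup G} {a : G → ℂ} (h : Inv (CG P) a) :
    coeffFun (val P a) = res (CG P) a := by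
  letI := Fintype.ofFinite (CG P)
  rw [funext (val_eq P a), coeffFun_omegaFun (res_classFun h)]

theorem cenInt_val {P : Subgroup G} {a : G → ℂ} (ha : ∀ g, MemLocalRing M (a g))
    (h : Inv (CG P) a) : CenInt M (val P a) := fun c => by
  rw [coeff_val h]; exact ha _

theorem val_ring (hM : IsPModular p M) {P : Subgroup G} {a : G → ℂ}
    (ha : ∀ g, MemLocalRing M (a g)) (h : Inv (CG P) a) (ξ : IrrCharacter (CG P)) :
    MemLocalRing M (val P a ξ) := (cenInt_val ha h).ring hM ξ

theorem val_congr (hM : IsPModular p M) {P : Subgroup G} {a b : G → ℂ} (ha : Inv (CG P) a)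
    (hb : Inv (CG P) b) (h : ∀ c ∈ CG P, MemLocalIdeal M (a c - b c)) (ξ : IrrCharacter (CG P)) :
    MemLocalIdeal M (val P a ξ - val P b ξ) := by
  letI := Fintype.ofFinite (CG P)
  rw [val_eq, val_eq]
  exact omega_congr hM (res_classFun ha) (res_classFun hb) (fun c => h c c.2) ξ

theorem val_sum {ι : Type*} (s : Finset ι) (P : Subgroup G) (a : ι → G → ℂ)
    (ξ : IrrCharacter (CG P)) :
    val P (fun g => ∑ i ∈ s, a i g) ξ = ∑ i ∈ s, val P (a i) ξ := by
  letI := Fintype.ofFinite (CG P)
  simp only [val_eq, omegaFun, res_apply, Finset.sum_mul, Finset.sum_div]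
  rw [Finset.sum_comm]

/-- The identity of the group algebra. -/
noncomputable def dlt : G → ℂ := fun g => open Classical in if g = 1 then 1 else 0

theorem dlt_inv (W : Subgroup G) : Inv W (dlt : G → ℂ) := fun x _ g => by
  classical
  simp only [dlt, conj_eq_one_iff]

theorem val_dlt (P : Subgroup G) (ξ : IrrCharacter (CG P)) : val P dlt ξ = 1 := by
  classical
  letI := Fintype.ofFinite (CG P)
  rw [val_eq, omegaFun, Finset.sum_eq_single (1 : CG P)]
  · simp only [res_apply, dlt, OneMemClass.coe_one, if_true, one_mul]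
    exact div_self (irr_one_ne_zero ξ)
  · intro h _ hh
    simp [res_apply, dlt, hh]
  · exact fun h => absurd (Finset.mem_univ _) h

theorem val_mul (hM : IsPModular p M) {P : Subgroup G} (hP : IsPGroup p P) {a b : G → ℂ}
    (ha : ∀ g, MemLocalRing M (a g)) (hb : ∀ g, MemLocalRing M (b g))
    (hai : Inv P a) (hbi : Inv P b) (haC : Inv (CG P) a) (hbC : Inv (CG P) b)
    (ξ : IrrCharacter (CG P)) :
    MemLocalIdeal M (val P (convFun a b) ξ - val P a ξ * val P b ξ) := by
  letI := Fintype.ofFinite (CG P)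
  rw [val_eq, val_eq, val_eq, ← omegaFun_convFun (res_classFun hbC) ξ]
  exact omega_congr hM (res_classFun (haC.conv hbC))
    (convFun_classFun (res_classFun haC) (res_classFun hbC))
    (mul_congr hM hP ha hb hai hbi) ξ

/-- The Brauer image of an idempotent is an idempotent modulo the ideal. -/
theorem val_idem (hM : IsPModular p M) {P : Subgroup G} (hP : IsPGroup p P) {a : G → ℂ}
    (ha : Idem M a) (hai : Inv P a) (haC : Inv (CG P) a) :
    CI M (val P a * val P a - val P a) := by
  letI := Fintype.ofFinite (CG P)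
  intro c
  rw [coeffFun_sub, coeffFun_mul, coeff_val haC]
  have h := mul_congr hM hP ha.1 ha.1 hai hai c
  rw [ha.2] at h
  exact ideal_sub_comm h

/-- A Brauer pair carries the Brauer image of `a` when the central character is one on it. -/
def Holds (M : Ideal AlgInt) (x : BrauerPairIdx G) (a : G → ℂ) : Prop :=
  ∀ ξ ∈ x.2, MemLocalIdeal M (val x.1 a ξ - 1)

theorem holds_or (hM : IsPModular p M) {x : BrauerPairIdx G}
    (hx : IsBrauerPair p M x.1 x.2) {a : G → ℂ}
    (ha : Idem M a) (hai : Inv x.1 a) (haC : Inv (CG x.1) a) :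
    Holds M x a ∨ ∀ ξ ∈ x.2, MemLocalIdeal M (val x.1 a ξ) := by
  obtain ⟨ξ₀, hξ₀⟩ := pblock_nonempty hM hx.2
  have h2 := ideal_of_coeffFun_ideal hM (val_idem hM hx.1 ha hai haC) ξ₀
  have hr := val_ring hM ha.1 haC ξ₀
  rw [Pi.sub_apply, Pi.mul_apply] at h2
  have hcon : ∀ ξ ∈ x.2, MemLocalIdeal M (val x.1 a ξ - val x.1 a ξ₀) := fun ξ hξ =>
    (cenInt_val ha.1 haC).congr_block hM (pblock_sameBlock hM hx.2 hξ hξ₀)
  rcases ideal_or_of_mul hM hr (ring_sub hM hr (ring_one hM))
      (by rwa [mul_sub, mul_one]) with h | h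
  · exact Or.inr fun ξ hξ => (ideal_congr hM (hcon ξ hξ)).2 h
  · exact Or.inl fun ξ hξ => by simpa using ideal_add hM (hcon ξ hξ) h

theorem holds_not_ideal (hM : IsPModular p M) {x : BrauerPairIdx G}
    (hx : IsBrauerPair p M x.1 x.2) {a : G → ℂ} (h : Holds M x a)
    (h0 : ∀ ξ ∈ x.2, MemLocalIdeal M (val x.1 a ξ)) : False := by
  obtain ⟨ξ, hξ⟩ := pblock_nonempty hM hx.2
  exact ideal_one hM (by simpa using ideal_sub hM (h0 ξ hξ) (h ξ hξ))

theorem holds_congr (hM : IsPModular p M) {x : BrauerPairIdx G} {a b : G → ℂ}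
    (ha : Inv (CG x.1) a) (hb : Inv (CG x.1) b)
    (h : ∀ c ∈ CG x.1, MemLocalIdeal M (a c - b c)) (hH : Holds M x a) : Holds M x b :=
  fun ξ hξ => by
    simpa using ideal_sub hM (hH ξ hξ) (val_congr hM ha hb h ξ)

theorem holds_coeff (hM : IsPModular p M) {x : BrauerPairIdx G}
    (hx : IsBrauerPair p M x.1 x.2) {a : G → ℂ} (haC : Inv (CG x.1) a) (h : Holds M x a) :
    ∃ c ∈ CG x.1, ¬ MemLocalIdeal M (a c) := by
  by_contra hn
  push Not at hn
  exact holds_not_ideal hM hx h fun ξ _ =>
    ideal_of_coeffFun_ideal hM (fun c => by rw [coeff_val haC]; exact hn c c.2) ξ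

theorem exists_holds (hM : IsPModular p M) {P : Subgroup G} (hP : IsPGroup p P) {a : G → ℂ}
    (ha : Idem M a) (hai : Inv P a) (haC : Inv (CG P) a)
    (hne : ∃ c ∈ CG P, ¬ MemLocalIdeal M (a c)) :
    ∃ f, IsPBlock M f ∧ Holds M (⟨P, f⟩ : BrauerPairIdx G) a := by
  letI := Fintype.ofFinite (CG P)
  obtain ⟨c, hc, hne⟩ := hne
  obtain ⟨ξ, hξ⟩ : ∃ ξ, ¬ MemLocalIdeal M (val P a ξ) := by
    by_contra hall
    push Not at hall
    have h := nil_idem hM (cenInt_val ha.1 haC) (val_idem hM hP ha hai haC) hall ⟨c, hc⟩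
    rw [coeff_val haC] at h
    exact hne h
  refine ⟨_, isPBlock_blockOf (M := M) ξ, ?_⟩
  rcases holds_or hM (x := ⟨P, blockOf M (ξ : CG P → ℂ)⟩) ⟨hP, isPBlock_blockOf ξ⟩ ha hai haC
    with h | h
  · exact h
  · exact absurd (h ξ (mem_blockOf_self hM ξ)) hξ

/-- If idempotents sum to one on the centralizer, one of them is carried by a given pair. -/
theorem exists_holds_of_sum (hM : IsPModular p M) {x : BrauerPairIdx G}
    (hx : IsBrauerPair p M x.1 x.2) {ι : Type*} (s : Finset ι) (a : ι → G → ℂ)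
    (ha : ∀ i ∈ s, Idem M (a i)) (hai : ∀ i ∈ s, Inv x.1 (a i))
    (haC : ∀ i ∈ s, Inv (CG x.1) (a i))
    (hsum : ∀ c ∈ CG x.1, MemLocalIdeal M ((∑ i ∈ s, a i c) - dlt c)) :
    ∃ i ∈ s, Holds M x (a i) := by
  by_contra hn
  push Not at hn
  obtain ⟨ξ, hξ⟩ := pblock_nonempty hM hx.2
  have h1 : MemLocalIdeal M (∑ i ∈ s, val x.1 (a i) ξ) := ideal_sum hM fun i hi =>
    ((holds_or hM hx (ha i hi) (hai i hi) (haC i hi)).resolve_left (hn i hi)) ξ hξ
  have h2 := val_congr hM (inv_sum haC) (dlt_inv _) hsum ξ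
  rw [val_sum, val_dlt] at h2
  exact ideal_one hM (by simpa using ideal_sub hM h1 h2)

/-- A pair cannot carry two idempotents with product zero. -/
theorem holds_mul_ne_zero (hM : IsPModular p M) {x : BrauerPairIdx G}
    (hx : IsBrauerPair p M x.1 x.2) {a b : G → ℂ}
    (ha : ∀ g, MemLocalRing M (a g)) (hb : ∀ g, MemLocalRing M (b g))
    (hai : Inv x.1 a) (hbi : Inv x.1 b) (haC : Inv (CG x.1) a) (hbC : Inv (CG x.1) b)
    (hHa : Holds M x a) (hHb : Holds M x b) : convFun a b ≠ 0 := by
  intro h0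
  obtain ⟨ξ, hξ⟩ := pblock_nonempty hM hx.2
  have h := val_mul hM hx.1 ha hb hai hbi haC hbC ξ
  have h0v : val x.1 (0 : G → ℂ) ξ = 0 := by
    letI := Fintype.ofFinite (CG x.1)
    simp [val_eq, omegaFun, res_apply]
  rw [h0, h0v, zero_sub] at h
  have h2 : MemLocalIdeal M (val x.1 a ξ * val x.1 b ξ) := by simpa using ideal_neg h
  rcases ideal_or_of_mul hM (val_ring hM ha haC ξ) (val_ring hM hb hbC ξ) h2 with h3 | h3
  · exact ideal_one hM (by simpa using ideal_sub hM h3 (hHa ξ hξ))
  · exact ideal_one hM (by simpa using ideal_sub hM h3 (hHb ξ hξ))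

/-- A sum over a stable finite set of functions reduces to the fixed members. -/
theorem sum_inv_congr (hM : IsPModular p M) {P : Subgroup G} (hP : IsPGroup p P)
    (S : Finset (G → ℂ)) [DecidablePred fun φ : G → ℂ => Inv P φ]
    (hS : ∀ u ∈ P, ∀ φ ∈ S, cfun u φ ∈ S) (hr : ∀ φ ∈ S, ∀ g, MemLocalRing M (φ g))
    {c : G} (hc : c ∈ CG P) :
    MemLocalIdeal M ((∑ φ ∈ S, φ c) - ∑ φ ∈ S.filter (fun φ => Inv P φ), φ c) := by
  classical
  letI : MulAction P S :=
    { smul := fun u φ => ⟨cfun (u : G) φ, hS u u.2 φ φ.2⟩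
      one_smul := fun φ => Subtype.ext (cfun_one (φ : G → ℂ))
      mul_smul := fun u v φ => Subtype.ext (cfun_mul (u : G) v (φ : G → ℂ)).symm }
  have hfix : MulAction.fixedPoints P S = {φ : S | Inv P (φ : G → ℂ)} := by
    ext φ
    rw [MulAction.mem_fixedPoints, Set.mem_setOf_eq, inv_iff_cfun]
    exact ⟨fun h u hu => congrArg Subtype.val (h ⟨u, hu⟩), fun h u => Subtype.ext (h u u.2)⟩
  have h := ideal_sum_sub_fixed hM hP (F := fun φ : S => (φ : G → ℂ) c)
    (fun φ => hr φ φ.2 c) (fun u φ => by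
      show (φ : G → ℂ) ((u : G)⁻¹ * c * u) = _
      rw [mul_assoc, ← Subgroup.mem_centralizer_iff.1 hc u u.2, inv_mul_cancel_left])
  rw [hfix, finsum_mem_eq_sum_of_inter_support_eq _
    (t := Finset.univ.filter (fun φ : S => Inv P (φ : G → ℂ))) (by ext; simp),
    Finset.univ_eq_attach, Finset.sum_attach S (fun φ => φ c), Finset.sum_filter,
    Finset.sum_attach S (fun φ => if Inv P φ then φ c else 0), ← Finset.sum_filter] at h
  exact h

/-! ### Transport along isomorphisms of centralizers -/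

section Pull

variable {H K : Type u} [Group H] [Finite H] [Group K] [Finite K]

/-- Image of a set of characters along an isomorphism. -/
def pullB (e : H ≃* K) (f : Set (IrrCharacter H)) : Set (IrrCharacter K) :=
  {ξ | irrPull e ξ ∈ f}

theorem isPBlock_pullB (hM : IsPModular p M) (e : H ≃* K) {f : Set (IrrCharacter H)}
    (hf : IsPBlock M f) : IsPBlock M (pullB e f) := by
  obtain ⟨θ, hθ⟩ := pblock_nonempty hM hf
  exact ⟨irrPull e.symm θ, pullBlock_eq hM e hf hθ⟩

theorem coeffFun_pull (e : H ≃* K) (F : IrrCharacter H → ℂ) (c : H) :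
    coeffFun (fun ξ : IrrCharacter K => F (irrPull e ξ)) (e c) = coeffFun F c := by
  classical
  cases nonempty_fintype (IrrCharacter H)
  cases nonempty_fintype (IrrCharacter K)
  rw [coeffFun_eq_sum, coeffFun_eq_sum, Nat.card_congr e.toEquiv]
  congr 1
  refine Fintype.sum_equiv
    ⟨irrPull e, irrPull e.symm, irrPull_self_symm e, irrPull_symm_self e⟩ _ _ fun ξ => ?_
  simp only [Equiv.coe_fn_mk, irrPull_apply, map_one, map_inv]

theorem blockCoeff_pullB (e : H ≃* K) (f : Set (IrrCharacter H)) (c : H) :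
    blockCoeff (pullB e f) (e c) = blockCoeff f c := by
  rw [blockCoeff_eq, blockCoeff_eq, ← coeffFun_pull e (blockInd f) c]
  congr 1

end Pull

variable {G' : Type u} [Group G'] [Fintype G']

theorem val_pull {Q' : Subgroup G'} {Q : Subgroup G} (e : CG Q' ≃* CG Q) {φ' : G' → ℂ}
    {φ : G → ℂ} (hφ : ∀ c : CG Q', φ' c = φ (e c)) (ξ : IrrCharacter (CG Q)) :
    val Q φ ξ = val Q' φ' (irrPull e ξ) := by
  letI := Fintype.ofFinite (CG Q)
  letI := Fintype.ofFinite (CG Q')
  rw [val_eq, val_eq, ← omegaFun_irrPull e ξ (res (CG Q) φ)]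
  congr 1
  funext c
  exact (hφ c).symm

theorem holds_pullB {Q' : Subgroup G'} {Q : Subgroup G} (e : CG Q' ≃* CG Q) {φ' : G' → ℂ}
    {φ : G → ℂ} (hφ : ∀ c : CG Q', φ' c = φ (e c)) (f : Set (IrrCharacter (CG Q'))) :
    Holds M (⟨Q, pullB e f⟩ : BrauerPairIdx G) φ ↔ Holds M (⟨Q', f⟩ : BrauerPairIdx G') φ' := by
  constructor
  · intro h η hη
    have := h (irrPull e.symm η) (by
      show irrPull e (irrPull e.symm η) ∈ f
      rwa [irrPull_symm_self])
    rwa [val_pull e hφ, irrPull_symm_self] at this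
  · intro h ξ hξ
    rw [val_pull e hφ]
    exact h _ hξ

end Cfsg.Agent.Char.BP
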