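import Cfsg.Agent.Lib.Char.SixtyDegrees
import Cfsg.Agent.Lib.Char.DegreeSum
import Cfsg.Agent.Lib.Char.ModP
import Cfsg.Agent.Lib.Block.Central

/-!
Simple groups: an element of order `p` whose class has size prime to `p` has few eigenvalues in a
suitable character of the principal block, so `p` is bounded by the part of the order prime to
two given primes.
-/

namespace Cfsg.Agent.Char.PqEigen

open Cfsg Cfsg.Agent.Block Cfsg.Agent.Char Module
open scoped ComplexConjugate

universe u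

variable {G : Type u} [Group G] [Fintype G] {p : ℕ} [Fact p.Prime] {M : Ideal AlgInt}

theorem exists_char (hM : IsPModular p M) {q : ℕ} (hq : q.Prime) {x : G} (hx : p ∣ orderOf x) :
    ∃ χ : IrrCharacter G, χ ∈ principalBlock M G ∧ (χ : G → ℂ) ≠ (fun _ => 1) ∧
      ¬ q ∣ charDegree (χ : G → ℂ) ∧ (χ : G → ℂ) x ≠ 0 := by
  classical
  by_contra hno
  push Not at hno
  have hsum := DegSum.sum_one_value hM (isPBlock_principalBlock (M := M) (G := G)) (h := (1 : G))
    (v := x) (by rw [orderOf_one]; exact (Fact.out : p.Prime).not_dvd_one) hx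
  rw [← Finset.add_sum_erase _ _ (Finset.mem_filter.2
    ⟨Finset.mem_univ (trivialIrr G), trivial_mem_principalBlock hM⟩)] at hsum
  have hint : IsIntegral ℤ ((∑ χ ∈ (Finset.univ.filter (· ∈ principalBlock M G)).erase (trivialIrr G),
      (χ : G → ℂ) 1 * (χ : G → ℂ) x) / (q : ℂ)) := by
    rw [Finset.sum_div]
    refine IsIntegral.sum _ fun χ hχ => ?_
    obtain ⟨hne, hχ⟩ := Finset.mem_erase.1 hχ
    rcases em (q ∣ charDegree (χ : G → ℂ)) with ⟨m, hm⟩ | hdvd
    · rw [charDeg_spec' χ, hm, Nat.cast_mul, mul_assoc,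
        mul_div_cancel_left₀ _ (Nat.cast_ne_zero.2 hq.ne_zero)]
      exact (isIntegral_algebraMap (R := ℤ) (x := (m : ℤ))).mul (irr_isIntegral χ x) |>
        fun h => by simpa using h
    · rw [hno χ (Finset.mem_filter.1 hχ).2 (fun h => hne (Subtype.ext h)) hdvd, mul_zero, zero_div]
      exact isIntegral_zero
  have h1 : ∑ χ ∈ (Finset.univ.filter (· ∈ principalBlock M G)).erase (trivialIrr G),
      (χ : G → ℂ) 1 * (χ : G → ℂ) x = -1 := by
    simpa [trivialIrr, add_eq_zero_iff_eq_neg'] using hsum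
  rw [h1, neg_div] at hint
  exact hq.not_dvd_one (nat_dvd_of_isIntegral_div hq.ne_zero (a := 1) (by simpa using hint.neg))

theorem value_div (χ : IrrCharacter G) {g : G} {α h : ℕ}
    (hg : ¬ p ∣ (Subgroup.centralizer ({g} : Set G)).index)
    (hd : charDegree (χ : G → ℂ) = p ^ α * h) :
    IsIntegral ℤ ((χ : G → ℂ) g / ((p ^ α : ℕ) : ℂ)) := by
  set N := (Subgroup.centralizer ({g} : Set G)).index
  have hd0 : p ^ α * h ≠ 0 := hd ▸ (charDeg_pos χ).ne'
  have hp0 : ((p ^ α : ℕ) : ℂ) ≠ 0 := Nat.cast_ne_zero.2 (left_ne_zero_of_mul hd0)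
  have hh0 : (h : ℂ) ≠ 0 := Nat.cast_ne_zero.2 (right_ne_zero_of_mul hd0)
  have hw : (N : ℂ) * ((χ : G → ℂ) g / ((p ^ α : ℕ) : ℂ)) =
      (h : ℂ) * centralChar (χ : G → ℂ) g := by
    rw [centralChar, charDeg_spec' χ, hd]
    push_cast at hp0 ⊢
    field_simp
    ring
  have hcop : IsCoprime (N : ℤ) ((p ^ α : ℕ) : ℤ) :=
    Nat.Coprime.isCoprime (Nat.Coprime.pow_right α ((Fact.out : p.Prime).coprime_iff_not_dvd.2 hg).symm)
  obtain ⟨u, v, huv⟩ := hcop
  have huv' : (u : ℂ) * (N : ℂ) + (v : ℂ) * ((p ^ α : ℕ) : ℂ) = 1 := by exact_mod_cast huv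
  have e : (χ : G → ℂ) g / ((p ^ α : ℕ) : ℂ) =
      (u : ℂ) * ((h : ℂ) * centralChar (χ : G → ℂ) g) + (v : ℂ) * (χ : G → ℂ) g := by
    rw [← hw]
    calc _ = ((u : ℂ) * (N : ℂ) + (v : ℂ) * ((p ^ α : ℕ) : ℂ)) *
          ((χ : G → ℂ) g / ((p ^ α : ℕ) : ℂ)) := by rw [huv', one_mul]
      _ = _ := by field_simp
  have hi : ∀ k : ℤ, IsIntegral ℤ (k : ℂ) := fun k => by
    simpa using isIntegral_algebraMap (R := ℤ) (A := ℂ) (x := k)
  rw [e]
  exact ((hi u).mul ((by simpa using hi (h : ℤ) : IsIntegral ℤ (h : ℂ)).mul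
    (centralChar_isIntegral χ g))).add ((hi v).mul (irr_isIntegral χ g))

theorem congr_h (hM : IsPModular p M) {χ : IrrCharacter G} (hχ : χ ∈ principalBlock M G) {g : G}
    {α h : ℕ} (hg : ¬ p ∣ (Subgroup.centralizer ({g} : Set G)).index)
    (hd : charDegree (χ : G → ℂ) = p ^ α * h) :
    MemLocalIdeal M ((χ : G → ℂ) g / ((p ^ α : ℕ) : ℂ) - (h : ℂ)) := by
  set N := (Subgroup.centralizer ({g} : Set G)).index with hN
  have hd0 : p ^ α * h ≠ 0 := hd ▸ (charDeg_pos χ).ne'
  have hp0 : ((p ^ α : ℕ) : ℂ) ≠ 0 := Nat.cast_ne_zero.2 (left_ne_zero_of_mul hd0)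
  have hh0 : (h : ℂ) ≠ 0 := Nat.cast_ne_zero.2 (right_ne_zero_of_mul hd0)
  have h1 := pblock_sameBlock hM isPBlock_principalBlock hχ (trivial_mem_principalBlock hM) g
  have h2 : centralChar (trivialIrr G : G → ℂ) g = (N : ℂ) := by
    simp [centralChar, trivialIrr, hN]
  have h3 := ideal_mul_left hM (ring_natCast hM h) h1
  have h4 : (h : ℂ) * (centralChar (χ : G → ℂ) g - centralChar (trivialIrr G : G → ℂ) g) =
      (N : ℂ) * ((χ : G → ℂ) g / ((p ^ α : ℕ) : ℂ) - (h : ℂ)) := by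
    rw [h2, centralChar, charDeg_spec' χ, hd]
    push_cast at hp0 ⊢
    field_simp
    ring
  rw [h4] at h3
  exact (ideal_or_of_mul hM (ring_natCast hM N)
    (ring_sub hM (ring_of_integral hM (value_div χ hg hd)) (ring_natCast hM h)) h3).resolve_left
      fun h5 => hg ((ideal_natCast_iff hM N).1 h5)

theorem root_congr (hM : IsPModular p M) {z : ℂ} (hz : z ^ p = 1) : MemLocalIdeal M (z - 1) :=
  ideal_root_sub_one hM (k := 1) (by rwa [pow_one])

/-- The eigenvalues: there are at most `h` of them. -/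
theorem card_eigen_le (hM : IsPModular p M) {χ : IrrCharacter G} (hχ : χ ∈ principalBlock M G)
    {α h : ℕ} (hd : charDegree (χ : G → ℂ) = p ^ α * h) (hh : h < p) {x : G}
    (hx : ∀ k, 0 < k → k < p → ¬ p ∣ (Subgroup.centralizer ({x ^ k} : Set G)).index) {n : ℕ}
    (c : Fin n → ℂ) (hc : ∀ i, c i ^ p = 1)
    (hval : ∀ k : ℕ, (χ : G → ℂ) (x ^ k) = ∑ i, c i ^ k) :
    (Finset.univ.image c).card ≤ h := by
  classical
  have hp : p.Prime := Fact.out
  set m : ℂ → ℕ := fun z => (Finset.univ.filter fun i => c i = z).card with hm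
  set U : Finset ℂ := Finset.univ.image fun j : Fin p => Complex.exp (2 * Real.pi * Complex.I / p) ^ (j : ℕ)
    with hU
  have hζ : IsPrimitiveRoot (Complex.exp (2 * Real.pi * Complex.I / p)) p :=
    Complex.isPrimitiveRoot_exp p hp.ne_zero
  have hUc : U.card = p := by
    rw [hU, Finset.card_image_of_injective _ (fun a b hab => Fin.ext (hζ.pow_inj a.2 b.2 hab)),
      Finset.card_univ, Fintype.card_fin]
  have hUp : ∀ z ∈ U, z ^ p = 1 := by
    intro z hz
    obtain ⟨j, -, rfl⟩ := Finset.mem_image.1 hz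
    rw [pow_right_comm, hζ.pow_eq_one, one_pow]
  have hcU : ∀ i, c i ∈ U := by
    intro i
    haveI : NeZero p := ⟨hp.ne_zero⟩
    obtain ⟨j, hj, e⟩ := hζ.eq_pow_of_pow_eq_one (hc i)
    exact Finset.mem_image.2 ⟨⟨j, hj⟩, Finset.mem_univ _, e⟩
  have hn : n = p ^ α * h := by
    have := hval 0
    simp only [pow_zero, Finset.sum_const, Finset.card_univ, Fintype.card_fin, nsmul_eq_mul,
      mul_one, charDeg_spec' χ, hd] at this
    exact_mod_cast this.symm
  -- orthogonality on the group of `p`-th roots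
  have hproj : ∀ z ∈ U, ∑ k ∈ Finset.range p, (z⁻¹) ^ k * (χ : G → ℂ) (x ^ k) = (p : ℂ) * m z := by
    intro z hz
    have hz0 : z ≠ 0 := fun h0 => by simpa [h0, hp.ne_zero] using hUp z hz
    simp only [hval, Finset.mul_sum, ← mul_pow]
    rw [Finset.sum_comm]
    have hin : ∀ i, ∑ k ∈ Finset.range p, (z⁻¹ * c i) ^ k = if c i = z then (p : ℂ) else 0 := by
      intro i
      split_ifs with hi
      · simp [hi, inv_mul_cancel₀ hz0]
      · have hne : z⁻¹ * c i ≠ 1 := fun h1 => hi ((inv_mul_eq_one₀ hz0).1 h1).symm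
        rw [geom_sum_eq hne, mul_pow, inv_pow, hUp z hz, hc i, inv_one, one_mul, sub_self, zero_div]
    simp only [hin, ← Finset.sum_filter, Finset.sum_const, nsmul_eq_mul, hm]
    ring
  have hpC : ((p ^ α : ℕ) : ℂ) ≠ 0 := Nat.cast_ne_zero.2 (pow_ne_zero _ hp.ne_zero)
  have hdiff : ∀ z ∈ U, ∀ z' ∈ U, ((p ^ α : ℕ) : ℤ) ∣ (m z : ℤ) - m z' := by
    intro z hz z' hz'
    set δ : ℂ := ∑ k ∈ Finset.range p, ((z⁻¹) ^ k - (z'⁻¹) ^ k) *
      ((χ : G → ℂ) (x ^ k) / ((p ^ α : ℕ) : ℂ)) with hδ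
    have hδe : δ * ((p ^ α : ℕ) : ℂ) = (((p : ℤ) * ((m z : ℤ) - m z') : ℤ) : ℂ) := by
      rw [hδ, Finset.sum_mul]
      simp only [mul_assoc, div_mul_cancel₀ _ hpC, sub_mul, Finset.sum_sub_distrib, hproj z hz,
        hproj z' hz']
      push_cast
      ring
    have hroot : ∀ w ∈ U, ∀ k : ℕ, ((w⁻¹) ^ k) ^ p = 1 := fun w hw k => by
      rw [pow_right_comm, inv_pow w p, hUp w hw, inv_one, one_pow]
    have hint : IsIntegral ℤ δ := by
      refine IsIntegral.sum _ fun k hk => ?_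
      rcases Nat.eq_zero_or_pos k with rfl | hk0
      · simp [isIntegral_zero]
      have hi : ∀ w ∈ U, IsIntegral ℤ ((w⁻¹) ^ k) := fun w hw =>
        IsIntegral.of_pow hp.pos (by rw [hroot w hw k]; exact isIntegral_one)
      exact ((hi z hz).sub (hi z' hz')).mul
        (value_div χ (hx k hk0 (Finset.mem_range.1 hk)) hd)
    have hideal : MemLocalIdeal M δ := by
      refine ideal_sum hM fun k hk => ?_
      rcases Nat.eq_zero_or_pos k with rfl | hk0
      · simp [ideal_zero hM]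
      refine ideal_mul_right hM ?_
        (ring_of_integral hM (value_div χ (hx k hk0 (Finset.mem_range.1 hk)) hd))
      have h1 := ideal_sub hM (root_congr hM (hroot z hz k)) (root_congr hM (hroot z' hz' k))
      simpa using h1
    obtain ⟨D, hD⟩ : ∃ D : ℤ, δ = (D : ℂ) := by
      have e : δ = ((((p : ℤ) * ((m z : ℤ) - m z') : ℤ) : ℚ) / ((p ^ α : ℕ) : ℚ) : ℚ) := by
        rw [Rat.cast_div, Rat.cast_intCast, Rat.cast_natCast, eq_div_iff hpC, hδe]
      obtain ⟨D, hD⟩ := int_of_isIntegral_rat (e ▸ hint)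
      exact ⟨D, e.trans hD⟩
    rw [hD] at hδe hideal
    obtain ⟨D', rfl⟩ := (ideal_intCast_iff hM D).1 hideal
    refine ⟨D', ?_⟩
    have hpz : (p : ℤ) ≠ 0 := Nat.cast_ne_zero.2 hp.ne_zero
    refine mul_left_cancel₀ hpz ?_
    have h1 : ((p : ℤ) * D' * ((p ^ α : ℕ) : ℤ)) = (p : ℤ) * ((m z : ℤ) - m z') := by
      exact_mod_cast hδe
    linarith
  obtain ⟨z₀, hz₀, hmin⟩ := U.exists_min_image m (Finset.card_pos.1 (by rw [hUc]; exact hp.pos))
  have hk : ∀ z ∈ U, ∃ k : ℕ, m z = m z₀ + p ^ α * k := by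
    intro z hz
    have h1 : p ^ α ∣ m z - m z₀ := by
      have h2 := hdiff z hz z₀ hz₀
      rw [← Nat.cast_sub (hmin z hz)] at h2
      exact Int.natCast_dvd_natCast.1 h2
    obtain ⟨k, hk⟩ := h1
    exact ⟨k, by have := hmin z hz; omega⟩
  choose! k hk using hk
  set K := ∑ z ∈ U, k z
  have htot : n = p * m z₀ + p ^ α * K := by
    have h1 : n = ∑ z ∈ U, m z := by
      rw [hm, ← Finset.card_eq_sum_card_fiberwise (fun i _ => hcU i), Finset.card_univ,
        Fintype.card_fin]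
    rw [h1, Finset.sum_congr rfl hk, Finset.sum_add_distrib, Finset.sum_const, hUc,
      smul_eq_mul, ← Finset.mul_sum]
  have hKh : K ≤ h := by
    have h1 : p ^ α * K ≤ p ^ α * h := by omega
    exact Nat.le_of_mul_le_mul_left h1 (pow_pos hp.pos α)
  -- the congruence at `x`
  have hcong : MemLocalIdeal M ((K : ℂ) - h) := by
    have h1 := congr_h hM hχ (g := x) (by simpa using hx 1 one_pos hp.one_lt) hd
    have hsumU : ∑ z ∈ U, z = 0 := by
      rw [hU, Finset.sum_image (fun a _ b _ hab => Fin.ext (hζ.pow_inj a.2 b.2 hab)),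
        Fin.sum_univ_eq_sum_range (fun j => Complex.exp (2 * Real.pi * Complex.I / p) ^ j)]
      exact hζ.geom_sum_eq_zero hp.one_lt
    have hx1 : (χ : G → ℂ) x / ((p ^ α : ℕ) : ℂ) = ∑ z ∈ U, (k z : ℂ) * z := by
      have h2 := hval 1
      simp only [pow_one] at h2
      rw [h2, ← Finset.sum_fiberwise_of_maps_to (t := U) (g := c) (fun i _ => hcU i),
        div_eq_iff hpC, Finset.sum_mul]
      calc ∑ z ∈ U, ∑ i ∈ Finset.univ.filter (fun i => c i = z), c i
          = ∑ z ∈ U, (m z : ℂ) * z := Finset.sum_congr rfl fun z _ => by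
            rw [Finset.sum_congr rfl fun i hi => (Finset.mem_filter.1 hi).2, Finset.sum_const,
              nsmul_eq_mul]
        _ = ∑ z ∈ U, ((m z₀ : ℂ) * z + (k z : ℂ) * z * ((p ^ α : ℕ) : ℂ)) :=
            Finset.sum_congr rfl fun z hz => by rw [hk z hz]; push_cast; ring
        _ = _ := by rw [Finset.sum_add_distrib, ← Finset.mul_sum, hsumU, mul_zero, zero_add]
    have h2 : MemLocalIdeal M (∑ z ∈ U, (k z : ℂ) * z - (K : ℂ)) := by
      rw [Nat.cast_sum, ← Finset.sum_sub_distrib]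
      refine ideal_sum hM fun z hz => ?_
      have := ideal_mul_left hM (ring_natCast hM (k z)) (root_congr hM (hUp z hz))
      rwa [mul_sub, mul_one] at this
    rw [hx1] at h1
    have h3 := ideal_sub hM h1 h2
    simpa using h3
  have hKeq : K = h := by
    have h1 : MemLocalIdeal M (((h - K : ℕ)) : ℂ) := by
      rw [Nat.cast_sub hKh]
      exact ideal_sub_comm hcong
    have h2 := (ideal_natCast_iff hM _).1 h1
    rcases Nat.eq_zero_or_pos (h - K) with h3 | h3
    · omega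
    · have := Nat.le_of_dvd h3 h2
      omega
  have hm0 : m z₀ = 0 := by
    have h1 : p * m z₀ = 0 := by rw [hKeq] at htot; omega
    exact (Nat.mul_eq_zero.1 h1).resolve_left hp.ne_zero
  -- every eigenvalue has multiplicity at least `p ^ α`
  have hbig : (Finset.univ.image c).card * p ^ α ≤ n := by
    have h1 : ∀ z ∈ Finset.univ.image c, p ^ α ≤ m z := by
      intro z hz
      obtain ⟨i, -, rfl⟩ := Finset.mem_image.1 hz
      have hpos : 0 < m (c i) := Finset.card_pos.2 ⟨i, by simp⟩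
      rw [hk _ (hcU i), hm0, zero_add] at hpos ⊢
      exact Nat.le_mul_of_pos_right _ (pos_of_mul_pos_right hpos (Nat.zero_le _))
    have h2 := Finset.card_nsmul_le_sum _ m _ h1
    rw [hm, ← Finset.card_eq_sum_card_fiberwise
      (fun i _ => Finset.mem_image_of_mem c (Finset.mem_univ i)), Finset.card_univ,
      Fintype.card_fin, smul_eq_mul] at h2
    exact h2
  replace hbig := hbig.trans_eq (hn.trans (mul_comm _ _))
  exact Nat.le_of_mul_le_mul_right hbig (pow_pos hp.pos α)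

theorem norm_pow_sub_one_lt {r : ℤ} (hr : 6 * |r| < p) :
    ‖Complex.exp (2 * Real.pi * Complex.I / p) ^ r - 1‖ < 1 := by
  have hp : (0 : ℝ) < p := Nat.cast_pos.2 (Fact.out : p.Prime).pos
  set θ : ℝ := 2 * Real.pi * r / p with hθ
  have e : Complex.exp (2 * Real.pi * Complex.I / p) ^ r = Complex.exp (θ * Complex.I) := by
    rw [← Complex.exp_int_mul]
    congr 1
    rw [hθ]
    push_cast
    ring
  have h6 : 6 * |(r : ℝ)| < p := by exact_mod_cast hr
  have habs : |θ| < Real.pi / 3 := by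
    rw [hθ, abs_div, abs_mul, abs_mul, abs_of_pos Real.pi_pos, abs_two, abs_of_pos hp,
      div_lt_iff₀ hp]
    nlinarith [Real.pi_pos]
  have hcos : 1 / 2 < Real.cos θ := by
    rw [← Real.cos_pi_div_three, ← Real.cos_abs θ]
    exact Real.cos_lt_cos_of_nonneg_of_le_pi (abs_nonneg θ) (by linarith [Real.pi_pos]) habs
  rw [e, ← pow_lt_pow_iff_left₀ (norm_nonneg _) zero_le_one two_ne_zero, Complex.sq_norm,
    Complex.normSq_apply]
  simp only [Complex.sub_re, Complex.sub_im, Complex.one_re, Complex.one_im, sub_zero,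
    Complex.exp_ofReal_mul_I_re, Complex.exp_ofReal_mul_I_im]
  nlinarith [Real.sin_sq_add_cos_sq θ]

/-- A power with all eigenvalues within sixty degrees of one of them. -/
theorem exists_power (E : Finset ℂ) (hE : ∀ z ∈ E, z ^ p = 1) {z₀ : ℂ} (hz₀ : z₀ ∈ E)
    (hcard : 6 ^ (E.card - 1) < p) :
    ∃ d, 0 < d ∧ d < p ∧ ∀ z ∈ E, ‖z ^ d - z₀ ^ d‖ < 1 := by
  classical
  have hp : p.Prime := Fact.out
  haveI : NeZero p := ⟨hp.ne_zero⟩
  set ζ := Complex.exp (2 * Real.pi * Complex.I / p) with hζdef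
  have hζ : IsPrimitiveRoot ζ p := Complex.isPrimitiveRoot_exp p hp.ne_zero
  have h0ne : z₀ ≠ 0 := fun h0 => by simpa [h0, hp.ne_zero] using hE z₀ hz₀
  have hex : ∀ z : {z // z ∈ E.erase z₀}, ∃ e : ℕ, z.1 = z₀ * ζ ^ e := by
    rintro ⟨z, hz⟩
    obtain ⟨e, -, he⟩ := hζ.eq_pow_of_pow_eq_one (ξ := z₀⁻¹ * z) (by
      rw [mul_pow, inv_pow, hE z₀ hz₀, hE z (Finset.mem_of_mem_erase hz), inv_one, one_mul])
    exact ⟨e, by rw [he, mul_inv_cancel_left₀ h0ne]⟩
  choose e he using hex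
  let code : Fin p → ({z // z ∈ E.erase z₀} → Fin 6) := fun j z =>
    ⟨6 * (((j : ℕ) * e z) % p) / p, by
      rw [Nat.div_lt_iff_lt_mul hp.pos]
      have := Nat.mod_lt ((j : ℕ) * e z) hp.pos
      omega⟩
  have hlt : Fintype.card ({z // z ∈ E.erase z₀} → Fin 6) < Fintype.card (Fin p) := by
    rw [Fintype.card_fun, Fintype.card_fin, Fintype.card_fin, Fintype.card_coe,
      Finset.card_erase_of_mem hz₀]
    exact hcard
  obtain ⟨j, j', hne, heq⟩ := Fintype.exists_ne_map_eq_of_card_lt code hlt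
  wlog hjj : (j : ℕ) < j' generalizing j j'
  · exact this j' j hne.symm heq.symm (lt_of_le_of_ne (not_lt.1 hjj) fun h => hne (Fin.ext h.symm))
  refine ⟨(j' : ℕ) - j, Nat.sub_pos_of_lt hjj, by have := j'.2; omega, fun z hz => ?_⟩
  by_cases hzz : z = z₀
  · simp [hzz]
  set zs : {z // z ∈ E.erase z₀} := ⟨z, Finset.mem_erase.2 ⟨hzz, hz⟩⟩
  set a := ((j : ℕ) * e zs) % p with ha
  set b := ((j' : ℕ) * e zs) % p with hb
  have hab : 6 * a / p = 6 * b / p := congrArg Fin.val (congrFun heq zs)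
  have hr : 6 * |(b : ℤ) - a| < p := by
    have h1 := Nat.div_add_mod (6 * a) p
    have h2 := Nat.div_add_mod (6 * b) p
    rw [← hab] at h2
    have h3 := Nat.mod_lt (6 * a) hp.pos
    have h4 := Nat.mod_lt (6 * b) hp.pos
    generalize p * (6 * a / p) = t at h1 h2
    have h5 : |(b : ℤ) - a| * 6 < p := by
      rcases le_total a b with h | h
      · rw [abs_of_nonneg (by omega)]; omega
      · rw [abs_of_nonpos (by omega)]; omega
    linarith
  have hζ0 : ζ ≠ 0 := Complex.exp_ne_zero _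
  have hpow : ∀ i : ℕ, ζ ^ i = ζ ^ (i % p) := fun i => pow_eq_pow_mod i hζ.pow_eq_one
  have hd : ζ ^ (e zs * ((j' : ℕ) - j)) = ζ ^ ((b : ℤ) - a) := by
    rw [zpow_sub₀ hζ0, zpow_natCast, zpow_natCast, eq_div_iff (pow_ne_zero _ hζ0), ha, hb, ← hpow,
      ← hpow, ← pow_add]
    congr 1
    rw [Nat.mul_sub, mul_comm (j : ℕ), mul_comm (j' : ℕ),
      Nat.sub_add_cancel (Nat.mul_le_mul_left _ hjj.le)]
  have hnz : ‖z₀ ^ ((j' : ℕ) - j)‖ = 1 := by
    rw [norm_pow, norm_eq_one_of_pow_eq_one' (N := p) hp.pos (hE z₀ hz₀), one_pow]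
  rw [show z = z₀ * ζ ^ e zs from he zs, mul_pow, ← pow_mul, hd,
    show z₀ ^ ((j' : ℕ) - j) * ζ ^ ((b : ℤ) - a) - z₀ ^ ((j' : ℕ) - j) =
      z₀ ^ ((j' : ℕ) - j) * (ζ ^ ((b : ℤ) - a) - 1) by ring, norm_mul, hnz, one_mul]
  exact norm_pow_sub_one_lt hr

/-- The bound. -/
theorem prime_lt [IsSimpleGroup G] {q a b g₀ : ℕ} (hq : q.Prime) (ha : 0 < a)
    (hg : Nat.card G = p ^ a * q ^ b * g₀) (hcop : ¬ p ∣ g₀) (hne : Nat.card G ≠ p) :
    p < 6 ^ (g₀ - 1) := by
  classical
  have hp : p.Prime := Fact.out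
  by_contra hno
  push Not at hno
  have hg0 : g₀ ≠ 0 := fun h => hcop (h ▸ dvd_zero p)
  have hlarge : 6 ^ (g₀ - 1) < p := by
    refine lt_of_le_of_ne hno fun h => ?_
    rcases Nat.eq_zero_or_pos (g₀ - 1) with h0 | h0
    · rw [h0, pow_zero] at h; exact hp.ne_one h.symm
    · exact (Nat.prime_dvd_prime_iff_eq Nat.prime_two hp).1
        (h ▸ (dvd_pow (by norm_num : 2 ∣ 6) h0.ne')) |> fun e => by
          have : 6 ≤ 6 ^ (g₀ - 1) := by simpa using Nat.pow_le_pow_right (by norm_num : 0 < 6) h0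
          omega
  have hpG : p ∣ Nat.card G := by
    rw [hg, mul_assoc]
    exact dvd_mul_of_dvd_left (dvd_pow_self p ha.ne') _
  have hnab : ¬ ∀ u v : G, u * v = v * u := fun h => by
    have h1 := card_prime_of_simple_of_comm h
    exact hne ((Nat.prime_dvd_prime_iff_eq hp h1).1 hpG).symm
  -- a central element of order `p` of a Sylow subgroup
  obtain ⟨P⟩ : Nonempty (Sylow p G) := inferInstance
  haveI : Nontrivial (P : Subgroup G) :=
    (Subgroup.nontrivial_iff_ne_bot _).2 (Sylow.ne_bot_of_dvd_card P hpG)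
  haveI := P.isPGroup'.center_nontrivial
  have hpZ : p ∣ Nat.card (Subgroup.center (P : Subgroup G)) := by
    obtain ⟨k, hk, e⟩ := (P.isPGroup'.to_subgroup (Subgroup.center (P : Subgroup G))).nontrivial_iff_card.1
      inferInstance
    rw [e]
    exact dvd_pow_self p (Nat.pos_iff_ne_zero.1 hk)
  obtain ⟨z, hz⟩ := exists_prime_orderOf_dvd_card' (G := Subgroup.center (P : Subgroup G)) p hpZ
  set x : G := ((z : (P : Subgroup G)) : G) with hxdef
  have hxo : orderOf x = p := by rw [hxdef, Subgroup.orderOf_coe, Subgroup.orderOf_coe, hz]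
  have hxc : ∀ k : ℕ, ¬ p ∣ (Subgroup.centralizer ({x ^ k} : Set G)).index := by
    intro k hd
    have hle : (P : Subgroup G) ≤ Subgroup.centralizer ({x ^ k} : Set G) := fun w hw => by
      refine Subgroup.mem_centralizer_singleton_iff.2 ?_
      exact ((show Commute w x from
        congrArg Subtype.val (Subgroup.mem_center_iff.1 z.2 ⟨w, hw⟩)).pow_right k).eq
    exact P.not_dvd_index (hd.trans (Subgroup.index_dvd_of_le hle))
  obtain ⟨M, hM⟩ := exists_isPModular p hp
  obtain ⟨χ, hχ, hχ1, hχq, -⟩ := exists_char hM hq (x := x) (by rw [hxo])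
  -- the degree
  obtain ⟨α, h, hph, hd⟩ := Nat.exists_eq_pow_mul_and_not_dvd (charDeg_pos χ).ne' p hp.ne_one
  have hhg : h ∣ g₀ := by
    have h1 : h ∣ p ^ a * q ^ b * g₀ :=
      hg ▸ (Dvd.intro_left (p ^ α) hd.symm).trans (charDeg_dvd χ)
    have hc1 : Nat.Coprime h (p ^ a) :=
      Nat.Coprime.pow_right a (hp.coprime_iff_not_dvd.2 hph).symm
    have hc2 : Nat.Coprime h (q ^ b) := Nat.Coprime.pow_right b
      (hq.coprime_iff_not_dvd.2 fun hqh => hχq (hd ▸ hqh.trans (Dvd.intro_left _ rfl))).symm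
    exact (Nat.Coprime.mul_right hc1 hc2).dvd_of_dvd_mul_left h1
  have hhle : h ≤ g₀ := Nat.le_of_dvd (Nat.pos_of_ne_zero hg0) hhg
  have hhp : h < p := by
    have := Nat.lt_pow_self (n := g₀ - 1) (by norm_num : 1 < 6)
    omega
  -- the representation
  obtain ⟨n, ρ, hρ, hρχ⟩ := χ.2
  obtain ⟨bb, c, hb, hc, hval⟩ := exists_rep_eigenbasis ρ x
  rw [hxo] at hc
  simp only [hρχ] at hval
  have hcard := card_eigen_le hM hχ hd hhp (fun k _ _ => hxc k) c hc hval
  have hn0 : 0 < finrank ℂ (Fin n → ℂ) := finrank_pos_of_irreducible ρ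
  set i₀ : Fin (finrank ℂ (Fin n → ℂ)) := ⟨0, hn0⟩
  obtain ⟨d, hd0, hdp, hnear⟩ := exists_power (Finset.univ.image c)
    (fun z hz => by obtain ⟨i, -, rfl⟩ := Finset.mem_image.1 hz; exact hc i)
    (Finset.mem_image_of_mem c (Finset.mem_univ i₀))
    (lt_of_le_of_lt (Nat.pow_le_pow_right (by norm_num) (by omega)) hlarge)
  have hbd : ∀ i, ρ (x ^ d) (bb i) = c i ^ d • bb i := by
    intro i
    clear hnear hd0 hdp
    induction d with
    | zero => simp
    | succ d ih => rw [pow_succ', Sixty.apply_mul, ih, map_smul, hb, smul_smul, ← pow_succ]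
  set μ : ℂ := c i₀ ^ d with hμdef
  have hμ : ‖μ‖ = 1 := by
    rw [hμdef, norm_pow, norm_eq_one_of_pow_eq_one' (N := p) hp.pos (hc i₀), one_pow]
  set R : Finset ℝ := insert 0 (Finset.univ.image fun i => ‖c i ^ d - μ‖) with hR
  set r := R.max' ⟨0, Finset.mem_insert_self _ _⟩ with hr
  have hr0 : 0 ≤ r := Finset.le_max' _ _ (Finset.mem_insert_self _ _)
  have hr1 : r < 1 := by
    refine (Finset.max'_lt_iff R _).2 fun y hy => ?_
    rcases Finset.mem_insert.1 hy with rfl | hy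
    · norm_num
    · obtain ⟨i, -, rfl⟩ := Finset.mem_image.1 hy
      exact hnear _ (Finset.mem_image_of_mem c (Finset.mem_univ i))
  have hN : Arc.Near ρ r μ (x ^ d) := by
    refine Sixty.near_of_spectrum_complex hr0 fun lam v hv hev => ?_
    obtain ⟨i, hi⟩ : ∃ i, bb.repr v i ≠ 0 := by
      by_contra hno2
      push Not at hno2
      exact hv (bb.ext_elem (fun i => by simpa using hno2 i))
    have h1 : bb.repr (ρ (x ^ d) v) i = c i ^ d * bb.repr v i := by
      conv_lhs => rw [← bb.sum_repr v]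
      simp only [map_sum, map_smul, hbd, Finsupp.coe_finset_sum, Finset.sum_apply,
        Finsupp.smul_apply, Basis.repr_self, smul_eq_mul]
      rw [Finset.sum_eq_single i (fun l _ hl => by simp [Finsupp.single_eq_of_ne (Ne.symm hl)])
        (fun h => absurd (Finset.mem_univ i) h)]
      simp [mul_comm]
    rw [hev, map_smul, Finsupp.smul_apply, smul_eq_mul] at h1
    rw [mul_right_cancel₀ hi h1]
    exact Finset.le_max' R _ (Finset.mem_insert.2
      (Or.inr (Finset.mem_image.2 ⟨i, Finset.mem_univ i, rfl⟩)))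
  have hxd : x ^ d ≠ 1 := fun h => by
    have := Nat.le_of_dvd hd0 (orderOf_dvd_of_pow_eq_one h)
    omega
  have hscal := Sixty.scalar_of_simple hρ hxd hμ hr0 hr1 hN (bb.ne_zero i₀) (hbd i₀)
  -- the representation is faithful
  have hinj : Function.Injective ρ := by
    rw [← MonoidHom.ker_eq_bot_iff]
    refine ((inferInstance : (MonoidHom.ker (ρ : G →* _)).Normal).eq_bot_or_eq_top).resolve_right
      fun htop => hχ1 ?_
    have hconst : ∀ g, (χ : G → ℂ) g = (χ : G → ℂ) 1 := fun g => by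
      have : ρ g = 1 := (MonoidHom.mem_ker).1 (htop ▸ Subgroup.mem_top g)
      rw [← hρχ]
      show LinearMap.trace ℂ _ (ρ g) = LinearMap.trace ℂ _ (ρ 1)
      rw [this, show ρ (1 : G) = 1 from map_one ρ]
    have h1 := classInner_irr_eq_ite χ.2 (trivialIrr G).2
    by_contra hne1
    rw [if_neg (by exact hne1), classInner] at h1
    simp only [trivialIrr, map_one, mul_one, hconst, Finset.sum_const, Finset.card_univ,
      nsmul_eq_mul] at h1
    rcases mul_eq_zero.1 h1 with h2 | h2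
    · simp at h2
    · rcases mul_eq_zero.1 h2 with h3 | h3
      · simp at h3
      · exact irr_one_ne_zero χ h3
  refine hnab (comm_of_central_ne_one hxd (Subgroup.mem_center_iff.2 fun w => hinj ?_))
  refine LinearMap.ext fun v => ?_
  rw [Sixty.apply_mul, Sixty.apply_mul, hscal, hscal, map_smul]

end Cfsg.Agent.Char.PqEigen
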