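import Cfsg.Agent.Lib.Block.DegreePrimes
import Cfsg.Agent.Lib.Char.ModP
import Cfsg.Agent.Lib.Char.Integral
import Cfsg.Agent.S4441
import Cfsg.Agent.S0189
import Mathlib.GroupTheory.Transfer

/-!
Groups whose non-linear irreducible characters have prime degree are solvable.
-/

open scoped commutatorElement

namespace Cfsg.Agent.Char.PrimeDeg

open Cfsg Cfsg.Agent.Char Cfsg.Agent.Block

set_option linter.unusedSectionVars false
set_option linter.style.haveILetI false

universe u

/-- The hypothesis. -/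
def AllPrime (G : Type u) [Group G] : Prop :=
  ∀ χ : IrrCharacter G, charDegree (χ : G → ℂ) ≠ 1 → (charDegree (χ : G → ℂ)).Prime

theorem AllPrime.quotient {G : Type u} [Group G] [Finite G] (h : AllPrime G) (N : Subgroup G)
    [N.Normal] : AllPrime (G ⧸ N) := by
  intro χ hχ
  have e := h ⟨fun g => (χ : G ⧸ N → ℂ) (QuotientGroup.mk' N g),
    IsIrr.comp_surjective _ (QuotientGroup.mk'_surjective N) χ.2⟩
  have e1 : charDegree (fun g => (χ : G ⧸ N → ℂ) (QuotientGroup.mk' N g)) =
      charDegree (χ : G ⧸ N → ℂ) := by simp [charDegree]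
  rw [← e1]
  exact e (by rw [e1]; exact hχ)

theorem AllPrime.normal {G : Type u} [Group G] [Finite G] (h : AllPrime G) (N : Subgroup G)
    [N.Normal] : AllPrime N := by
  classical
  haveI := Fintype.ofFinite G
  haveI := Fintype.ofFinite N
  intro θ hθ
  obtain ⟨χ, hχ⟩ := IsChar.exists_constituent' (isCharacter_indFun N (IsIrr.isCharacter θ.2))
    (by rw [indFun_one_eq]
        exact mul_ne_zero (Nat.cast_ne_zero.2 Subgroup.index_ne_zero_of_finite)
          (irr_one_ne_zero θ))
  rw [classInner_indFun N _ (IsIrr.classFun χ.2)] at hχ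
  have hne : classInner (fun n : N => (χ : G → ℂ) n) (θ : N → ℂ) ≠ 0 := by
    rw [← classInner_conj_symm]
    exact fun h => hχ (by simpa using h)
  obtain ⟨a, ha, -⟩ := IsChar.exists_decomp_inner (IsChar.res (IsIrr.isCharacter χ.2) N)
  have h1 := clifford_one N χ.2 θ.2 hne
  rw [ha θ, charDeg_spec', charDeg_spec'] at h1
  have h' : charDegree (θ : N → ℂ) ∣ charDegree (χ : G → ℂ) :=
    ⟨a θ * (inertia N (θ : N → ℂ)).index, by
      have : charDegree (χ : G → ℂ) =
        a θ * (inertia N (θ : N → ℂ)).index * charDegree (θ : N → ℂ) := by exact_mod_cast h1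
      rw [this]; ring⟩
  by_cases hc : charDegree (χ : G → ℂ) = 1
  · exact absurd (Nat.dvd_one.1 (hc ▸ h')) hθ
  · rcases (Nat.dvd_prime (h χ hc)).1 h' with h2 | h2
    · exact absurd h2 hθ
    · exact h2 ▸ h χ hc

theorem degree_dvd {G : Type u} [Group G] [Finite G] (χ : IrrCharacter G) :
    charDegree (χ : G → ℂ) ∣ Nat.card G := by
  obtain ⟨f, n, ρ, hρ, rfl⟩ := χ
  have hn : charDegree ρ.character = Module.finrank ℂ (Fin n → ℂ) := by
    simp [charDegree, Representation.char_one]
  rw [hn]
  exact degree_dvd_card ρ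

theorem simple_false {S : Type u} [Group S] [Finite S] [IsSimpleGroup S]
    (hna : ¬ IsMulCommutative S) (h : AllPrime S) : False := by
  classical
  haveI := Fintype.ofFinite S
  have hlin : ∀ χ : IrrCharacter S, charDegree (χ : S → ℂ) = 1 → χ = trivialIrr S := by
    intro χ hχ
    have h1 : (χ : S → ℂ) 1 = 1 := by rw [charDeg_spec', hχ, Nat.cast_one]
    obtain ⟨l, hl⟩ := linearHom_of_isCharacter (IsIrr.isCharacter χ.2) h1
    rcases (inferInstance : l.ker.Normal).eq_bot_or_eq_top with hk | hk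
    · exfalso
      exact hna ⟨⟨fun a b => (MonoidHom.ker_eq_bot_iff l).1 hk
        (by rw [map_mul, map_mul, mul_comm])⟩⟩
    · refine Subtype.ext (funext fun g => ?_)
      rw [congrFun hl g, (MonoidHom.mem_ker.1 (hk ▸ Subgroup.mem_top g) : l g = 1)]
      simp [trivialIrr]
  -- the largest degree
  set D := (Finset.univ : Finset (IrrCharacter S)).image
    fun χ : IrrCharacter S => charDegree (χ : S → ℂ)
  have hD : D.Nonempty := ⟨_, Finset.mem_image_of_mem _ (Finset.mem_univ (trivialIrr S))⟩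
  set p := D.max' hD with hp
  obtain ⟨χp, -, hχp⟩ := Finset.mem_image.1 (D.max'_mem hD)
  have hle : ∀ χ : IrrCharacter S, charDegree (χ : S → ℂ) ≤ p := fun χ =>
    D.le_max' _ (Finset.mem_image_of_mem _ (Finset.mem_univ χ))
  have hdp : ∀ r ∈ degreePrimes S, ∃ χ : IrrCharacter S, charDegree (χ : S → ℂ) = r := by
    rintro r ⟨hr, d, ⟨χ, rfl⟩, hd⟩
    have hd1 : charDegree (χ : S → ℂ) ≠ 1 := fun e => hr.one_lt.ne' (Nat.dvd_one.1 (e ▸ hd))
    exact ⟨χ, ((Nat.prime_dvd_prime_iff_eq hr (h χ hd1)).1 hd).symm⟩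
  haveI : Nontrivial S := inferInstance
  obtain ⟨r₀, hr₀, hr₀S⟩ : ∃ r : ℕ, r.Prime ∧ r ∣ Nat.card S :=
    Nat.exists_prime_and_dvd (Finite.one_lt_card_iff_nontrivial.2 ‹_›).ne'
  have h5 : 5 ≤ p := by
    haveI := Fact.mk hr₀
    obtain ⟨r, hr, -, -⟩ := DegP.exists_other_prime hna (p := r₀) Nat.prime_two hr₀S
    obtain ⟨χ, hχ⟩ := hdp r hr
    have hrS : r ∣ Nat.card S := hχ ▸ degree_dvd χ
    haveI := Fact.mk hr.1
    obtain ⟨s, hs, hsr, hs2⟩ := DegP.exists_other_prime hna (p := r) Nat.prime_two hrS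
    obtain ⟨χs, hχs⟩ := hdp s hs
    have hsS : s ∣ Nat.card S := hχs ▸ degree_dvd χs
    haveI := Fact.mk hs.1
    obtain ⟨t, ht, hts, ht2⟩ := DegP.exists_other_prime hna (p := s) Nat.prime_three hsS
    obtain ⟨χt, hχt⟩ := hdp t ht
    have h1 := hle χs
    have h2 := hle χt
    rcases eq_or_ne s 3 with rfl | hs3
    · haveI : Fact (Nat.Prime 3) := ⟨Nat.prime_three⟩
      obtain ⟨w, hw, hw3, hw2⟩ := DegP.exists_other_prime hna (p := 3) Nat.prime_two hsS
      obtain ⟨χw, hχw⟩ := hdp w hw
      have := hle χw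
      have := hw.1.two_le
      have : w ≠ 4 := fun e => by rw [e] at hw; exact (by norm_num : ¬ Nat.Prime 4) hw.1
      omega
    · have := hs.1.two_le
      have : s ≠ 4 := fun e => by rw [e] at hs; exact (by norm_num : ¬ Nat.Prime 4) hs.1
      omega
  have hp1 : charDegree (χp : S → ℂ) ≠ 1 := by rw [hχp, ← hp]; omega
  have hpp : p.Prime := by
    have := h χp hp1
    rwa [hχp] at this
  haveI := Fact.mk hpp
  have hpS : p ∣ Nat.card S := by
    have := degree_dvd χp
    rwa [hχp] at this
  obtain ⟨P⟩ : Nonempty (Sylow p S) := inferInstance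
  obtain ⟨q, hq, hqp, -⟩ := DegP.exists_other_prime hna (p := p) hpp hpS
  obtain ⟨χq, hχq⟩ := hdp q hq
  have hqlt : q < p := lt_of_le_of_ne (hχq ▸ hle χq) hqp
  have hqne : χq ≠ trivialIrr S := fun e => by
    have : charDegree (χq : S → ℂ) = 1 := by rw [e]; simp [trivialIrr, charDegree]
    rw [hχq] at this
    exact hq.1.one_lt.ne' this
  have hfaith : ∀ g : S, (χq : S → ℂ) g = (χq : S → ℂ) 1 → g = 1 :=
    fun g hg => OrdP.eq_one_of_value hqne hg
  -- the Sylow subgroup is abelian
  have hab : ∀ x ∈ (P : Subgroup S), ∀ y ∈ (P : Subgroup S), x * y = y * x := by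
    intro x hx y hy
    rw [← commutatorElement_eq_one_iff_mul_comm]
    refine hfaith _ ?_
    letI := Fintype.ofFinite (P : Subgroup S)
    obtain ⟨a, ha, hdec⟩ := IsChar.exists_decomp_inner
      (IsChar.res (IsIrr.isCharacter χq.2) (P : Subgroup S))
    have hlinear : ∀ φ : IrrCharacter (P : Subgroup S), a φ ≠ 0 →
        charDegree φ.1 = 1 := by
      intro φ hφ
      obtain ⟨n, hn⟩ := IsPGroup.iff_card.1 P.2
      obtain ⟨k, -, hk⟩ := (Nat.dvd_prime_pow hpp).1 (hn ▸ degree_dvd φ)
      have h1 : charDegree φ.1 ≤ q :=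
        degree_le_of_constituent (IsChar.res (IsIrr.isCharacter χq.2) _) φ.2
          (by rw [ha φ]; exact Nat.cast_ne_zero.2 hφ)
          (by rw [show ((1 : (P : Subgroup S)) : S) = 1 from rfl, charDeg_spec', hχq])
          (charDeg_spec' (G := (P : Subgroup S)) φ)
      rcases Nat.eq_zero_or_pos k with hk0 | hk0
      · rw [hk, hk0, pow_zero]
      · have : p ≤ p ^ k := Nat.le_self_pow hk0.ne' p
        omega
    have h1 := congrFun hdec ⁅(⟨x, hx⟩ : (P : Subgroup S)), ⟨y, hy⟩⁆
    have h2 := congrFun hdec 1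
    have e : (∑ φ : IrrCharacter (P : Subgroup S), (a φ : ℂ) • φ.1)
          ⁅(⟨x, hx⟩ : (P : Subgroup S)), ⟨y, hy⟩⁆ =
        (∑ φ : IrrCharacter (P : Subgroup S), (a φ : ℂ) • φ.1) 1 := by
      rw [sum_irr_apply, sum_irr_apply]
      refine Finset.sum_congr rfl fun φ _ => ?_
      rcases eq_or_ne (a φ) 0 with h0 | h0
      · rw [h0, Nat.cast_zero, zero_mul, zero_mul]
      · obtain ⟨l, hl⟩ := linearHom_of_isCharacter (IsIrr.isCharacter φ.2)
          (show φ.1 1 = 1 by
            rw [charDeg_spec', hlinear φ h0, Nat.cast_one])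
        rw [congrFun hl, congrFun hl, map_commutatorElement, map_one,
          commutatorElement_eq_one_iff_mul_comm.2 (mul_comm _ _)]
    rw [← h1, ← h2] at e
    simpa [commutatorElement_def] using e
  -- of prime order
  have hP : Nat.card P = p := by
    obtain ⟨k, hk⟩ := Cfsg.Agent.S0189.result p P (χp : S → ℂ) (IsIrr.isCharacter χp.2)
      fun g hg hg1 => by
        have hne : χp ≠ trivialIrr S := fun e => hp1 (by rw [e]; simp [trivialIrr, charDegree])
        refine DegP.eq_zero_of_coprime hna hne hg1 ?_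
        rw [hχp, hpp.coprime_iff_not_dvd]
        intro hdvd
        refine P.not_dvd_index (hdvd.trans (Subgroup.index_dvd_of_le fun y hy => ?_))
        rw [Subgroup.mem_centralizer_singleton_iff]
        exact hab y hy g hg
    rw [charDeg_spec', hχp] at hk
    have hk' : p = Nat.card P * k := by exact_mod_cast hk
    rcases (Nat.dvd_prime hpp).1 (⟨k, hk'⟩ : Nat.card P ∣ p) with h1 | h1
    · have : p ∣ Nat.card P := P.dvd_card_of_dvd_card hpS
      rw [h1, Nat.dvd_one] at this
      exact absurd this hpp.one_lt.ne'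
    · exact h1
  -- the principal block
  obtain ⟨M, hM⟩ := exists_isPModular p hpp
  obtain ⟨X, Y, -, -, hX, -, εX, ε, hXp, -, -, -, -⟩ :=
    Cfsg.Agent.S4441.result p M hM (by omega) P hP _ rfl
  have hXtriv : ∀ χ ∈ X, χ = trivialIrr S := by
    intro χ hχ
    by_contra hne
    obtain ⟨hε, hcong, -⟩ := hXp χ hχ
    have hd := h χ fun e => hne (hlin χ e)
    have hdle := hle χ
    have h2 := hd.two_le
    obtain ⟨z, hz⟩ := Int.modEq_iff_dvd.1 hcong
    rcases hε with he | he <;> rw [he] at hz
    · have hz1 : -1 < z ∧ z < 1 ∨ z = -1 ∨ z = 1 ∨ z < -1 ∨ 1 < z := by omega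
      rcases hz1 with ⟨a, b⟩ | rfl | rfl | a | a
      · obtain rfl : z = 0 := by omega
        omega
      · omega
      · omega
      · nlinarith
      · nlinarith
    · have hz1 : z = 0 ∨ z = -1 ∨ 0 < z ∨ z < -1 := by omega
      rcases hz1 with rfl | rfl | a | a
      · omega
      · have hev : charDegree (χ : S → ℂ) = p - 1 := by omega
        have hodd := hpp.odd_of_ne_two (by omega)
        obtain ⟨m, hm⟩ := hodd
        have : 2 ∣ charDegree (χ : S → ℂ) := ⟨m, by omega⟩
        rcases (Nat.prime_dvd_prime_iff_eq Nat.prime_two hd).1 this with h3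
        omega
      · nlinarith
      · nlinarith
  have hC : Subgroup.normalizer ((P : Subgroup S) : Set S) ≤
      Subgroup.centralizer ((P : Subgroup S) : Set S) := by
    refine Subgroup.relIndex_eq_one.1 (le_antisymm ?_ (Nat.one_le_iff_ne_zero.2
      (Subgroup.index_ne_zero_of_finite (H := (Subgroup.centralizer
        ((P : Subgroup S) : Set S)).subgroupOf (Subgroup.normalizer ((P : Subgroup S) : Set S))))))
    rw [← hX, Nat.card_coe_set_eq, Set.ncard_le_one]
    intro a ha b hb
    rw [hXtriv a ha, hXtriv b hb]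
  have hcompl := MonoidHom.ker_transferSylow_isComplement' P hC
  rcases (inferInstance : (MonoidHom.transferSylow P hC).ker.Normal).eq_bot_or_eq_top with hk | hk
  · rw [hk, Subgroup.isComplement'_bot_left] at hcompl
    exact hna ⟨⟨fun a b => hab a (hcompl ▸ Subgroup.mem_top a) b (hcompl ▸ Subgroup.mem_top b)⟩⟩
  · rw [hk, Subgroup.isComplement'_top_left] at hcompl
    rw [hcompl, Subgroup.card_bot] at hP
    exact hpp.one_lt.ne hP

theorem solvable : ∀ (n : ℕ) (G : Type u) [Group G] [Finite G], Nat.card G ≤ n → AllPrime G →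
    Group.IsSolvable G := by
  intro n
  induction n with
  | zero => exact fun G _ _ h => absurd Nat.card_pos (by omega : ¬ 0 < Nat.card G)
  | succ n ih =>
    intro G _ _ hn h
    by_cases hc : ∀ a b : G, a * b = b * a
    · exact isSolvable_of_comm hc
    by_cases hs : IsSimpleGroup G
    · exact (simple_false (fun hcomm => hc fun a b => hcomm.1.1 a b) h).elim
    obtain ⟨N, hN, hN1, hN2⟩ : ∃ N : Subgroup G, N.Normal ∧ N ≠ ⊥ ∧ N ≠ ⊤ := by
      by_contra hall
      push Not at hall
      have : Nontrivial G := by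
        by_contra ht
        rw [not_nontrivial_iff_subsingleton] at ht
        exact hc fun a b => Subsingleton.elim _ _
      exact hs ⟨fun N hN => Or.imp_right (fun hne => hne) (by
        rcases eq_or_ne N ⊥ with h1 | h1
        · exact Or.inl h1
        · exact Or.inr (hall N hN h1))⟩
    haveI := hN
    have hNc : Nat.card N < Nat.card G :=
      lt_of_le_of_ne (Subgroup.card_le_card_group N) fun e => hN2 (Subgroup.eq_top_of_card_eq N e)
    have hQc : Nat.card (G ⧸ N) < Nat.card G := by
      have h1 : 1 < Nat.card N := Finite.one_lt_card_iff_nontrivial.2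
        ((Subgroup.nontrivial_iff_ne_bot N).2 hN1)
      have h2 := N.card_eq_card_quotient_mul_card_subgroup
      have h3 : 0 < Nat.card (G ⧸ N) := Nat.card_pos
      nlinarith
    haveI := ih N (by omega) (h.normal N)
    haveI := ih (G ⧸ N) (by omega) (h.quotient N)
    exact solvable_of_ker_le_range N.subtype (QuotientGroup.mk' N) (by simp)

end Cfsg.Agent.Char.PrimeDeg
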