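import Cfsg.Agent.Lib.Block.Principal
import Cfsg.Agent.Lib.Block.Height
import Cfsg.Agent.Lib.Char.Induce
import Cfsg.Agent.Lib.Char.Quotient
import Cfsg.Agent.Lib.Char.CoprimeDegree

/-!
The principal block component of a character induced from a subgroup of index prime to `p`.
-/

namespace Cfsg.Agent.Char.PrincipalInd

open Cfsg Cfsg.Agent.Block
open scoped ComplexConjugate

set_option linter.unusedSectionVars false
set_option linter.style.haveILetI false

universe u

variable {G : Type u} [Group G] [Finite G] {p : ℕ} [Fact p.Prime] {M : Ideal AlgInt}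

/-- At a regular element of full defect the principal idempotent is congruent to its value at
the identity. -/
theorem blockCoeff_congr_one (hM : IsPModular p M) {g : G} (hs : ¬ p ∣ orderOf g)
    (hC : ¬ p ∣ (Subgroup.centralizer ({g} : Set G)).index) :
    MemLocalIdeal M (blockCoeff (principalBlock M G) g - blockCoeff (principalBlock M G) 1) := by
  classical
  cases nonempty_fintype G
  set B := principalBlock M G with hBdef
  have hB : IsPBlock M B := isPBlock_principalBlock
  have htriv : trivialIrr G ∈ B := trivial_mem_principalBlock hM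
  obtain ⟨P⟩ : Nonempty (Sylow p G) := inferInstance
  obtain ⟨n, hn⟩ := blockCoeff_mul_index hM hB P
  have e1 := hn g hs
  have e2 := hn 1 (by simpa using (Fact.out : p.Prime).not_dvd_one)
  rw [finsum_mem_block] at e1 e2
  have hP0 : ((P : Subgroup G).index : ℂ) ≠ 0 :=
    Nat.cast_ne_zero.mpr Subgroup.index_ne_zero_of_finite
  have e3 : blockCoeff B g - blockCoeff B 1 = ((P : Subgroup G).index : ℂ)⁻¹ *
      (((P : Subgroup G).index : ℂ) * blockCoeff B g -
        ((P : Subgroup G).index : ℂ) * blockCoeff B 1) := by field_simp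
  rw [e3, e1, e2, ← Finset.sum_sub_distrib]
  refine ideal_mul_left hM (ring_inv_natCast hM P.not_dvd_index) (ideal_sum hM fun η hη => ?_)
  rw [← mul_sub]
  refine ideal_mul_left hM (ring_natCast hM _) ?_
  have hcf : blockDefect p B ≤
      (Nat.card (Subgroup.centralizer ({g⁻¹} : Set G))).factorization p := by
    rw [centralizer_inv]
    refine (blockDefect_le B).trans (le_of_eq ?_)
    rw [← (Subgroup.centralizer ({g} : Set G)).card_mul_index,
      Nat.factorization_mul Nat.card_pos.ne' Subgroup.index_ne_zero_of_finite, Finsupp.add_apply,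
      Nat.factorization_eq_zero_of_not_dvd hC, add_zero]
  have htriv1 : charDegree (trivialIrr G : G → ℂ) = 1 := charDeg_trivial
  have hv := value_proportional hM hB htriv (Finset.mem_filter.1 hη).2 hcf
  rw [htriv1] at hv
  simpa [trivialIrr, ← charDeg_spec'] using hv

/-- The sum over a subgroup of index prime to `p` of the principal idempotent is a unit. -/
theorem sum_subgroup_unit (hM : IsPModular p M) (H : Subgroup G) [Fintype H]
    (hidx : ¬ p ∣ H.index) :
    ¬ MemLocalIdeal M (omegaFun (trivialIrr H) fun h : H => blockCoeff (principalBlock M G) h) := by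
  classical
  cases nonempty_fintype G
  cases nonempty_fintype (ConjClasses H)
  cases nonempty_fintype (ConjClasses G)
  set a := fun C : ConjClasses H =>
    centralChar (trivialIrr H : H → ℂ) C.out with hadef
  set S := Finset.univ.filter fun C : ConjClasses H =>
    ¬ p ∣ orderOf C.out ∧ ¬ p ∣ (Subgroup.centralizer ({C.out} : Set H)).index with hS
  have hω : ∀ {K : Type u} [Group K] [Finite K] (k : K), centralChar (trivialIrr K : K → ℂ) k =
      ((Subgroup.centralizer ({k} : Set K)).index : ℂ) := fun k => by
    simp [centralChar, trivialIrr]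
  -- the general step
  have hstep : ∀ (f : H → ℂ) (c : ℂ), IsClassFunction H f → (∀ h, MemLocalRing M (f h)) →
      (∀ h : H, p ∣ orderOf h → MemLocalIdeal M (f h)) →
      (∀ h : H, ¬ p ∣ orderOf h → ¬ p ∣ (Subgroup.centralizer ({h} : Set H)).index →
        MemLocalIdeal M (f h - c)) →
      MemLocalIdeal M (omegaFun (trivialIrr H) f - c * ∑ C ∈ S, a C) := by
    intro f c hf hring hsing hcong
    rw [omegaFun_eq_sum_classes _ hf, Finset.mul_sum, hS, Finset.sum_filter,
      ← Finset.sum_sub_distrib]
    refine ideal_sum hM fun C _ => ?_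
    split_ifs with h
    · rw [← sub_mul]
      exact ideal_mul_right hM (hcong _ h.1 h.2) (centralChar_ring hM _ _)
    · rw [sub_zero]
      by_cases hs : p ∣ orderOf C.out
      · exact ideal_mul_right hM (hsing _ hs) (centralChar_ring hM _ _)
      · rw [hω]
        exact ideal_mul_left hM (hring _)
          ((ideal_natCast_iff hM _).2 (not_not.1 fun hh => h ⟨hs, hh⟩))
  -- the weight is a unit
  have hB : IsPBlock M (principalBlock M H) := isPBlock_principalBlock
  have hsum : ¬ MemLocalIdeal M (∑ C ∈ S, a C) := fun h0 => by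
    have h1 := hstep (blockCoeff (principalBlock M H)) (blockCoeff (principalBlock M H) 1)
      (blockCoeff_classFun _) (blockCoeff_ring hM hB)
      (fun h hh => by rw [blockCoeff_singular hM hB hh]; exact ideal_zero hM)
      (fun h hh hh' => blockCoeff_congr_one hM hh hh')
    rw [funext (blockCoeff_eq (principalBlock M H)), omegaFun_coeffFun,
      blockInd_of_mem (trivial_mem_principalBlock hM)] at h1
    refine ideal_one hM ?_
    simpa [blockCoeff_eq] using ideal_add hM h1 (ideal_mul_left hM (blockCoeff_ring hM hB 1) h0)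
  have hone : ¬ MemLocalIdeal M (blockCoeff (principalBlock M G) 1) := fun h1 => by
    have hBG : IsPBlock M (principalBlock M G) := isPBlock_principalBlock
    refine ideal_one hM ?_
    rw [← sum_blockCoeff_centralChar (trivial_mem_principalBlock (G := G) hM)]
    refine ideal_sum hM fun C _ => ?_
    by_cases hC : p ∣ (Subgroup.centralizer ({C.out} : Set G)).index
    · rw [hω]
      exact ideal_mul_left hM (blockCoeff_ring hM hBG _) ((ideal_natCast_iff hM _).2 hC)
    refine ideal_mul_right hM ?_ (centralChar_ring hM _ _)
    by_cases hs : p ∣ orderOf C.out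
    · rw [blockCoeff_singular hM hBG hs]; exact ideal_zero hM
    · simpa using ideal_add hM (blockCoeff_congr_one hM hs hC) h1
  intro h0
  have hBG : IsPBlock M (principalBlock M G) := isPBlock_principalBlock
  have h1 := hstep (fun h : H => blockCoeff (principalBlock M G) h)
    (blockCoeff (principalBlock M G) 1)
    (fun x y => by simpa using blockCoeff_classFun (principalBlock M G) (x : G) (y : G))
    (fun h => blockCoeff_ring hM hBG _)
    (fun h hh => by
      rw [blockCoeff_singular hM hBG (by rwa [Subgroup.orderOf_coe])]; exact ideal_zero hM)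
    (fun h hh hh' => blockCoeff_congr_one hM (by rwa [Subgroup.orderOf_coe]) fun hd => ?_)
  · have h2 := ideal_sub hM h0 h1
    rw [sub_sub_cancel] at h2
    refine hsum ?_
    have h3 := ideal_mul_left hM (ring_inv hM (blockCoeff_ring hM hBG 1) hone) h2
    rwa [← mul_assoc, inv_mul_cancel₀ (fun e : blockCoeff (principalBlock M G) 1 = 0 =>
      hone (e ▸ ideal_zero hM)), one_mul] at h3
  · have hle : (Subgroup.centralizer ({h} : Set H)).map H.subtype ≤
        Subgroup.centralizer ({(h : G)} : Set G) := by
      rintro _ ⟨c, hc, rfl⟩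
      rw [SetLike.mem_coe, Subgroup.mem_centralizer_singleton_iff] at hc
      rw [Subgroup.mem_centralizer_singleton_iff]
      exact congrArg Subtype.val hc
    have hdvd := hd.trans (Subgroup.index_dvd_of_le hle)
    rw [Subgroup.index_map_subtype] at hdvd
    exact ((Fact.out : p.Prime).dvd_mul.1 hdvd).elim hh' hidx

/-- A character of the principal block of a subgroup of index prime to `p` of degree prime to `p`
lies under such a character of the group. -/
theorem exists_pPrime_over [Fintype G] (hM : IsPModular p M) (H : Subgroup G) [Fintype H]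
    (hidx : ¬ p ∣ H.index) {ξ : IrrCharacter H} (hξ : ξ ∈ principalBlock M H)
    (hdeg : ¬ p ∣ charDegree (ξ : H → ℂ)) :
    ∃ χ ∈ principalBlock M G, ¬ p ∣ charDegree (χ : G → ℂ) ∧
      classInner (fun h : H => (χ : G → ℂ) h) (ξ : H → ℂ) ≠ 0 := by
  classical
  by_contra hno
  push Not at hno
  set B := principalBlock M G
  have hBG : IsPBlock M B := isPBlock_principalBlock
  let a : H → ℂ := fun h => blockCoeff B (h : G)
  have ha : IsClassFunction H a := fun x y => by
    simpa [a] using blockCoeff_classFun B (x : G) (y : G)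
  have hci : CenInt M (fun η : IrrCharacter H => omegaFun η a) := fun h => by
    rw [coeffFun_omegaFun ha]
    exact blockCoeff_ring hM hBG (h : G)
  have hval : omegaFun ξ a = (H.index : ℂ)⁻¹ * (charDegree (ξ : H → ℂ) : ℂ)⁻¹ *
      ∑ χ ∈ Finset.univ.filter (· ∈ B), (charDegree (χ : G → ℂ) : ℂ) *
        conj (classInner (fun h : H => (χ : G → ℂ) h) (ξ : H → ℂ)) := by
    have hG : (Nat.card G : ℂ) = (Nat.card H : ℂ) * (H.index : ℂ) := by
      exact_mod_cast H.card_mul_index.symm
    have : (Nat.card H : ℂ) ≠ 0 := Nat.cast_ne_zero.2 Nat.card_pos.ne'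
    have : (H.index : ℂ) ≠ 0 := Nat.cast_ne_zero.2 Subgroup.index_ne_zero_of_finite
    have hd : (charDegree (ξ : H → ℂ) : ℂ) ≠ 0 := Nat.cast_ne_zero.2 (charDeg_pos ξ).ne'
    simp only [omegaFun, a, blockCoeff, finsum_mem_block, classInner, map_mul, map_inv₀,
      map_natCast, map_sum, Complex.conj_conj, Finset.mul_sum, Finset.sum_mul, Finset.sum_div]
    rw [Finset.sum_comm]
    refine Finset.sum_congr rfl fun χ _ => Finset.sum_congr rfl fun h _ => ?_
    rw [← charDeg_spec' χ, ← charDeg_spec' ξ, hG]
    field_simp
  have h0 : MemLocalIdeal M (omegaFun ξ a) := by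
    rw [hval]
    refine ideal_mul_left hM (ring_mul hM (ring_inv_natCast hM hidx) (ring_inv_natCast hM hdeg))
      (ideal_sum hM fun χ hχ => ?_)
    obtain ⟨m, hm⟩ := Cfsg.Agent.Char.IsChar.classInner_nat
      (Cfsg.Agent.Char.IsChar.res (irr_isChar χ) H) (irr_isChar ξ)
    by_cases hpd : p ∣ charDegree (χ : G → ℂ)
    · rw [show classInner (fun h : H => (χ : G → ℂ) h) (ξ : H → ℂ) = m from hm, map_natCast]
      exact ideal_mul_right hM ((ideal_natCast_iff hM _).2 hpd) (ring_natCast hM _)
    · rw [hno χ (Finset.mem_filter.1 hχ).2 hpd, map_zero, mul_zero]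
      exact ideal_zero hM
  refine sum_subgroup_unit hM H hidx ?_
  have h1 := hci.congr_block hM
    (pblock_sameBlock hM isPBlock_principalBlock (trivial_mem_principalBlock hM) hξ)
  simpa using ideal_add hM h1 h0

end Cfsg.Agent.Char.PrincipalInd
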