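import Cfsg.Agent.Lib.Char.SmallDegreeSection
import Cfsg.Agent.Lib.Char.SectionRank
import Cfsg.Agent.Lib.Invol.Sylow

/-!
The principal block when `p` divides the order once: the lattice of its restrictions to the regular
elements has norm at least the rank.
-/

open scoped ComplexConjugate

namespace Cfsg.Agent.Char.PrinLat

open Cfsg Cfsg.Agent.Block Cfsg.Agent.Char.BP Cfsg.Agent.Char.Spec Cfsg.Agent.Char.DefectOne
  Cfsg.Agent.Char.SmallDeg

set_option linter.unusedSectionVars false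
set_option linter.style.haveILetI false

universe u

/-- A double sum is at least the pairs separated by a set. -/
theorem two_sided {ι : Type*} [Fintype ι] [DecidableEq ι] (s : Finset ι) (f : ι → ι → ℝ)
    (hf : ∀ i j, 0 ≤ f i j) {c : ℝ} (h : ∀ i ∈ s, ∀ j ∉ s, c ≤ f i j ∧ c ≤ f j i) :
    2 * (s.card : ℝ) * ((Fintype.card ι : ℝ) - s.card) * c ≤ ∑ i, ∑ j, f i j := by
  have hcard : ((sᶜ.card : ℕ) : ℝ) = (Fintype.card ι : ℝ) - s.card := by
    rw [Finset.card_compl, Nat.cast_sub (Finset.card_le_univ s)]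
  rw [← Finset.sum_add_sum_compl s]
  have h1 : ∑ i ∈ s, ∑ _j ∈ sᶜ, c ≤ ∑ i ∈ s, ∑ j, f i j := Finset.sum_le_sum fun i hi =>
    (Finset.sum_le_sum fun j hj => (h i hi j (Finset.mem_compl.1 hj)).1).trans
      (Finset.sum_le_sum_of_subset_of_nonneg (Finset.subset_univ _) fun j _ _ => hf i j)
  have h2 : ∑ i ∈ sᶜ, ∑ _j ∈ s, c ≤ ∑ i ∈ sᶜ, ∑ j, f i j := Finset.sum_le_sum fun i hi =>
    (Finset.sum_le_sum fun j hj => (h j hj i (Finset.mem_compl.1 hi)).2).trans
      (Finset.sum_le_sum_of_subset_of_nonneg (Finset.subset_univ _) fun j _ _ => hf i j)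
  simp only [Finset.sum_const, nsmul_eq_mul, hcard] at h1 h2
  nlinarith

/-- The form `(te+1) Σb² − t (Σb)²` at a nonzero integral vector. -/
theorem form_ge {ι : Type*} [Fintype ι] (b : ι → ℤ) (hb : ∃ i, b i ≠ 0) {t : ℝ} (ht : 1 ≤ t) :
    (Fintype.card ι : ℝ) ≤ (t * Fintype.card ι + 1) * ∑ i, (b i : ℝ) ^ 2 -
      t * (∑ i, (b i : ℝ)) ^ 2 := by
  classical
  set e := (Fintype.card ι : ℝ) with he
  set s := Finset.univ.filter (fun i => b i ≠ 0) with hs
  set m := (s.card : ℝ) with hm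
  have hm1 : 1 ≤ m := by
    obtain ⟨i, hi⟩ := hb
    exact Nat.one_le_cast.2 (Finset.card_pos.2 ⟨i, by simp [hs, hi]⟩)
  have hme : m ≤ e := Nat.cast_le.2 (Finset.card_le_univ s)
  have hone : ∀ i ∈ s, (1 : ℝ) ≤ (b i : ℝ) ^ 2 := fun i hi => by
    have h : (1 : ℤ) ≤ b i ^ 2 := sq_pos_of_ne_zero (Finset.mem_filter.1 hi).2
    exact_mod_cast h
  have hsq : m ≤ ∑ i, (b i : ℝ) ^ 2 := by
    refine le_trans ?_ (Finset.sum_le_sum_of_subset_of_nonneg (Finset.subset_univ s)
      fun i _ _ => sq_nonneg _)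
    refine le_trans (le_of_eq ?_) (Finset.sum_le_sum hone)
    simp [hm]
  have h2 := two_sided s (fun i j => ((b i : ℝ) - b j) ^ 2) (fun i j => sq_nonneg _) (c := 1)
    (fun i hi j hj => by
      have hj0 : b j = 0 := by simpa [hs] using hj
      simp only [hj0, Int.cast_zero, sub_zero, zero_sub, neg_sq]
      exact ⟨hone i hi, hone i hi⟩)
  have hexp : ∑ i, ∑ j, ((b i : ℝ) - b j) ^ 2 =
      2 * (e * ∑ i, (b i : ℝ) ^ 2) - 2 * (∑ i, (b i : ℝ)) ^ 2 := by
    simp only [sub_sq, Finset.sum_add_distrib, Finset.sum_sub_distrib, Finset.sum_const,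
      nsmul_eq_mul, Finset.card_univ, ← Finset.mul_sum, ← Finset.sum_mul]
    rw [← he]
    ring
  rw [hexp, mul_one] at h2
  have h3 : 0 ≤ (m - 1) * (e - m) := mul_nonneg (by linarith) (by linarith)
  have h4 : m * (e - m) ≤ e * ∑ i, (b i : ℝ) ^ 2 - (∑ i, (b i : ℝ)) ^ 2 := by linarith
  have h5 : 0 ≤ m * (e - m) := mul_nonneg (by linarith) (by linarith)
  have h6 := mul_le_mul ht h4 h5 (by linarith)
  nlinarith

variable {G : Type u} [Group G] [Fintype G] {p : ℕ} [hp : Fact p.Prime] {M : Ideal AlgInt}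

theorem principal_lattice (hM : IsPModular p M) (hfac : (Nat.card G).factorization p = 1)
    [DecidablePred (· ∈ principalBlock M G)] :
    0 < blockRank p (principalBlock M G) ∧
    ∀ (v : G → ℂ) (a : IrrCharacter G → ℤ),
      (∀ h, ¬ p ∣ orderOf h → v h = ∑ η ∈ Finset.univ.filter (· ∈ principalBlock M G),
        (a η : ℂ) * (η : G → ℂ) h) →
      (∃ h, ¬ p ∣ orderOf h ∧ v h ≠ 0) →
      (blockRank p (principalBlock M G) : ℝ) * Nat.card G ≤
        p * ∑ h ∈ Finset.univ.filter (fun h : G => ¬ p ∣ orderOf h), Complex.normSq (v h) := by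
  classical
  obtain ⟨S⟩ : Nonempty (Sylow p G) := inferInstance
  set P : Subgroup G := (S : Subgroup G) with hPdef
  have hPp : Nat.card P = p := by
    show Nat.card (S : Subgroup G) = p
    rw [S.card_eq_multiplicity, hfac, pow_one]
  have hsyl : ¬ p ∣ P.index := S.not_dvd_index
  obtain ⟨u₀, hu₀, hu₁⟩ : ∃ u ∈ P, u ≠ 1 := by
    refine (Subgroup.bot_or_exists_ne_one P).resolve_left fun h => hp.out.one_lt.ne ?_
    rw [← hPp, h, Subgroup.card_bot]
  have hPg : IsPGroup p P := IsPGroup.of_card (n := 1) (by rw [hPp, pow_one])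
  set B := principalBlock M G with hBdef
  set b := principalBlock M (CG P) with hbdef
  set θ := trivialIrr (CG P) with hθdef
  set N := Subgroup.normalizer (P : Set G) with hN
  have hB : IsPBlock M B := isPBlock_principalBlock
  have hθ0 : θ ∈ b := trivial_mem_principalBlock hM
  have hθP0 : ∀ x : CG P, (x : G) ∈ P → (θ : CG P → ℂ) x = (θ : CG P → ℂ) 1 := fun _ _ => rfl
  have haB0 : OfB p M B (⟨P, b⟩ : BrauerPairIdx G) := prPair_ofB hM hPg
  have hd0 : blockDefect p B ≠ 0 := by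
    have h1 : sInf ((fun χ : IrrCharacter G => (charDegree (χ : G → ℂ)).factorization p) ''
        principalBlock M G) = 0 := Nat.eq_zero_of_le_zero (Nat.sInf_le ⟨trivialIrr G,
      trivial_mem_principalBlock hM, by
        simp [show charDegree (trivialIrr G : G → ℂ) = 1 from Nat.cast_injective (R := ℂ)
          ((charDeg_spec' (trivialIrr G)).symm.trans (Nat.cast_one (R := ℂ)).symm)]⟩)
    rw [hBdef, blockDefect, h1, hfac]
    omega
  have hT0 : ∀ g : G, g ∈ N ↔ (g ∈ Subgroup.normalizer (P : Set G) ∧ ∀ c c' : CG P,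
      (c' : G) = g * c * g⁻¹ → (θ : CG P → ℂ) c' = (θ : CG P → ℂ) c) :=
    fun g => ⟨fun h => ⟨h, fun c c' _ => rfl⟩, fun h => h.1⟩
  obtain ⟨R, X, y, c, ε, hD⟩ := exists_data hM hPp hsyl hθ0 hθP0 hB haB0 hd0 hT0 hu₀ hu₁
  letI : Fintype ((ZMod p)ˣ ⧸ R) := Fintype.ofFinite _
  obtain ⟨hcard, hdvd, -⟩ := counts hD
  set e := (CG P).relIndex N with he
  set A := Finset.univ.filter (· ∈ B) with hA
  set Rg := Finset.univ.filter (fun h : G => ¬ p ∣ orderOf h) with hRg
  set Sg := Finset.univ.filter (fun h : G => p ∣ orderOf h) with hSg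
  have hXA : ∀ χ ∈ X, χ ∈ B := fun χ h => (hD.mem_iff χ).2 (.inl h)
  have hεε : (ε : ℂ) * ε = 1 := by rcases hD.ε_sign with h | h <;> simp [h]
  -- the values at the singular elements
  have hsing : ∀ g ∈ Sg, ∃ (t : G) (x : G) (v : CG P), x ∈ P ∧ x ≠ 1 ∧ ¬ p ∣ orderOf v ∧
      g = t * (x * (v : G)) * t⁻¹ := by
    intro g hg
    obtain ⟨u, w, huw, hcom, ⟨j, hj⟩, hw, -, -⟩ := exists_pPart_zpowers (p := p) g
    have hu1 : u ≠ 1 := fun h => by
      rw [h, one_mul] at huw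
      exact hw (huw ▸ (Finset.mem_filter.1 hg).2)
    obtain ⟨t, ht⟩ := Cfsg.Agent.Invol.exists_conj_mem_sylow (p := p) (n := j) hj S
    have hordc : ∀ s z : G, orderOf (s * z * s⁻¹) = orderOf z := fun s z =>
      MulEquiv.orderOf_eq (MulAut.conj s) z
    have hx1 : t * u * t⁻¹ ≠ 1 := fun h => hu1 (conj_eq_one_iff.1 h)
    have hwC : t * w * t⁻¹ ∈ CG P := by
      refine Subgroup.mem_centralizer_iff.2 fun z hz => ?_
      rw [SetLike.mem_coe, ← mem_zpowers_of_prime hPp ht hx1] at hz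
      obtain ⟨i, rfl⟩ := Subgroup.mem_zpowers_iff.1 hz
      exact ((hcom.map (MulAut.conj t).toMonoidHom).zpow_left i).eq
    refine ⟨t⁻¹, t * u * t⁻¹, ⟨t * w * t⁻¹, hwC⟩, ht, hx1, ?_, ?_⟩
    · rw [← Subgroup.orderOf_coe]
      show ¬ p ∣ orderOf (t * w * t⁻¹)
      rwa [hordc]
    · show g = t⁻¹ * (t * u * t⁻¹ * (t * w * t⁻¹)) * t⁻¹⁻¹
      rw [← huw]; group
  have hcolP : ∀ x : G, x ∈ P → x ≠ 1 → ∑ χ ∈ A,
      sct (χ : G → ℂ) (⟨P, b⟩ : BrauerPairIdx G) x 1 *
        conj (sct (χ : G → ℂ) (⟨P, b⟩ : BrauerPairIdx G) x 1) = p := by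
    intro x hx hx1
    have h := DefectOne.sum_sct_mul hM hPp hsyl hB haB0 hθ0 hθP0 hT0 hx hx1 hx hx1
    rw [show (θ : CG P → ℂ) 1 = 1 from rfl, mul_one, mul_one] at h
    convert h using 1
    · exact Finset.sum_congr (by ext; simp [hA]) fun _ _ => rfl
    · have hc : (Finset.univ.filter fun y : G => y ∈ N ∧ y * x * y⁻¹ = x).card =
          Nat.card (CG P) := by
        rw [Nat.card_eq_fintype_card, ← Fintype.card_coe]
        refine Fintype.card_congr (Equiv.subtypeEquivRight fun z => ?_)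
        simp only [Finset.mem_filter, Finset.mem_univ, true_and]
        constructor
        · rintro ⟨-, hz⟩
          refine Subgroup.mem_centralizer_iff.2 fun w hw => ?_
          rw [SetLike.mem_coe, ← mem_zpowers_of_prime hPp hx hx1] at hw
          obtain ⟨i, rfl⟩ := Subgroup.mem_zpowers_iff.1 hw
          exact ((show Commute z x from mul_inv_eq_iff_eq_mul.1 hz).zpow_right i).eq.symm
        · intro hz
          exact ⟨Subgroup.centralizer_le_normalizer _ hz,
            mul_inv_eq_iff_eq_mul.2 (Subgroup.mem_centralizer_iff.1 hz x hx).symm⟩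
      rw [hc, inv_mul_cancel_right₀ (Nat.cast_ne_zero.2 Nat.card_pos.ne')]
  have hconst : ∀ χ ∈ B, ∀ x : G, x ∈ P → x ≠ 1 → ∀ v : CG P, ¬ p ∣ orderOf v →
      (χ : G → ℂ) (x * (v : G)) = sct (χ : G → ℂ) (⟨P, b⟩ : BrauerPairIdx G) x 1 ∧
      (χ ∈ X → (χ : G → ℂ) (x * (v : G)) = -(c χ : ℂ)) := by
    intro χ hχ x hx hx1 v hv
    obtain ⟨i, rfl⟩ := exists_pw hPp hu₀ hu₁ hx
    have hi : i ≠ 0 := fun h => hx1 (by simp [h, pw])
    have h1 : ¬ p ∣ orderOf (1 : CG P) := by rw [orderOf_one]; exact hp.out.not_dvd_one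
    rw [value_principal hM hPp hχ hx hx1 v.2 (by rwa [Subgroup.orderOf_coe])]
    rcases (hD.mem_iff χ).1 hχ with hX | ⟨q, rfl⟩
    · have e1 := hD.sct_X χ hX i hi v hv
      have e2 := hD.sct_X χ hX i hi 1 h1
      rw [show (θ : CG P → ℂ) v = 1 from rfl, mul_one] at e1
      rw [show (θ : CG P → ℂ) 1 = 1 from rfl, mul_one, OneMemClass.coe_one] at e2
      exact ⟨e1.trans e2.symm, fun _ => e1⟩
    · have e1 := hD.sct_Y q i hi v hv
      have e2 := hD.sct_Y q i hi 1 h1
      rw [OneMemClass.coe_one] at e2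
      exact ⟨e1.trans e2.symm, fun h => absurd h (hD.disj q)⟩
  have hXv : ∀ χ ∈ X, ∀ g ∈ Sg, (χ : G → ℂ) g = -(c χ : ℂ) := by
    intro χ hχ g hg
    obtain ⟨t, x, v, hx, hx1, hv, rfl⟩ := hsing g hg
    rw [irr_classFun χ, (hconst χ (hXA χ hχ) x hx hx1 v hv).2 hχ]
  have hcol : ∀ g ∈ Sg, ∑ χ ∈ A, (χ : G → ℂ) g * conj ((χ : G → ℂ) g) = p := by
    intro g hg
    obtain ⟨t, x, v, hx, hx1, hv, rfl⟩ := hsing g hg
    rw [← hcolP x hx hx1]
    refine Finset.sum_congr rfl fun χ hχ => ?_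
    rw [irr_classFun χ, (hconst χ (Finset.mem_filter.1 hχ).2 x hx hx1 v hv).1]
  -- the rank
  have hge : e ≤ blockRank p B :=
    DefectOne.relIndex_le_blockRank hM hPp hsyl hθ0 hθP0 haB0 hT0
  have hYrel : ∀ q h, ¬ p ∣ orderOf h →
      (y q : G → ℂ) h = ∑ χ ∈ X, (-(ε : ℂ) * c χ) * (χ : G → ℂ) h := by
    intro q h hh
    have h1 := hD.regular q h hh
    calc (y q : G → ℂ) h = (ε : ℂ) * ((ε : ℂ) * (y q : G → ℂ) h) := by
          rw [← mul_assoc, hεε, one_mul]
      _ = (ε : ℂ) * (-∑ χ ∈ X, (c χ : ℂ) * (χ : G → ℂ) h) := by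
          rw [eq_neg_of_add_eq_zero_right h1]
      _ = _ := by
          rw [mul_neg, Finset.mul_sum, ← Finset.sum_neg_distrib]
          exact Finset.sum_congr rfl fun χ _ => by ring
  have hle : blockRank p B ≤ e := by
    rw [blockRank, he, ← hD.card_X]
    refine le_trans (Submodule.finrank_mono (t := Submodule.span ℂ
      (((X.image fun χ : IrrCharacter G => pRegularPart p (χ : G → ℂ)) : Finset (G → ℂ)) : Set (G → ℂ)))
      (Submodule.span_le.2 ?_)) ((finrank_span_finset_le_card _).trans Finset.card_image_le)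
    rintro _ ⟨χ, hχ, rfl⟩
    have hmem : ∀ ξ ∈ X, pRegularPart p (ξ : G → ℂ) ∈ Submodule.span ℂ
        (((X.image fun χ : IrrCharacter G => pRegularPart p (χ : G → ℂ)) : Finset (G → ℂ)) :
          Set (G → ℂ)) := fun ξ hξ => Submodule.subset_span (Finset.mem_coe.2 (Finset.mem_image_of_mem _ hξ))
    rcases (hD.mem_iff χ).1 hχ with hX | ⟨q, rfl⟩
    · exact hmem χ hX
    · show pRegularPart p (y q : G → ℂ) ∈ Submodule.span ℂ _
      rw [show pRegularPart p (y q : G → ℂ) =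
          ∑ ξ ∈ X, (-(ε : ℂ) * c ξ) • pRegularPart p (ξ : G → ℂ) by
        funext h
        simp only [Finset.sum_apply, Pi.smul_apply, smul_eq_mul, pRegularPart_apply, IsPRegular]
        by_cases hh : p ∣ orderOf h
        · simp [hh]
        · simp only [hh, not_false_eq_true, if_true]
          exact hYrel q h hh]
      exact Submodule.sum_mem _ fun ξ hξ => Submodule.smul_mem _ _ (hmem ξ hξ)
  have hl : blockRank p B = e := le_antisymm hle hge
  have he0 : 0 < e := Nat.pos_of_dvd_of_pos hdvd (by have := hp.out.two_le; omega)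
  refine ⟨hl ▸ he0, fun v a hv hne => ?_⟩
  -- the count of the singular elements
  obtain ⟨t, ht⟩ := hdvd
  have ht0 : 1 ≤ t := by
    rcases Nat.eq_zero_or_pos t with h | h
    · rw [h, mul_zero] at ht; have := hp.out.two_le; omega
    · exact h
  have hAc : A.card = e + t := by
    rw [hA, ← Fintype.card_subtype, ← Nat.card_eq_fintype_card, show Nat.card B = _ from hcard, ht,
      Nat.mul_div_cancel_left _ he0]
  have hsplit : ∀ F : G → ℂ, (∑ g ∈ Rg, F g) = (∑ g, F g) - ∑ g ∈ Sg, F g := fun F => by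
    rw [eq_sub_iff_add_eq, add_comm, hRg, hSg, Finset.sum_filter_add_sum_filter_not]
  have hnorm : ∀ χ ψ : IrrCharacter G, ∑ g : G, (χ : G → ℂ) g * conj ((ψ : G → ℂ) g) =
      if χ = ψ then (Nat.card G : ℂ) else 0 := by
    intro χ ψ
    have h : (Nat.card G : ℂ) * classInner (χ : G → ℂ) (ψ : G → ℂ) =
        ∑ g : G, (χ : G → ℂ) g * conj ((ψ : G → ℂ) g) := by
      rw [classInner, mul_inv_cancel_left₀ (Nat.cast_ne_zero.2 Nat.card_pos.ne')]
    rw [← h]
    split
    · next e => subst e; rw [classInner_self_irr χ.2, mul_one]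
    · next e => rw [classInner_irr_ne χ.2 ψ.2 (fun h => e (Subtype.ext h)), mul_zero]
  have hSgc : (p : ℂ) * (Sg.card : ℂ) = (t : ℂ) * (Nat.card G : ℂ) := by
    have h := sum_regSum_self hM hB
    simp only [regSum_eq_sum, ← hRg] at h
    rw [hl, Finset.sum_congr rfl
      fun (χ : IrrCharacter G) _ => hsplit (fun g => (χ : G → ℂ) g * conj ((χ : G → ℂ) g)), Finset.sum_sub_distrib,
      Finset.sum_congr rfl fun χ _ => (hnorm χ χ).trans (if_pos rfl), Finset.sum_comm (t := Sg),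
      Finset.sum_congr rfl hcol, Finset.sum_const, Finset.sum_const, ← hA, nsmul_eq_mul,
      nsmul_eq_mul, hAc] at h
    push_cast at h
    linear_combination -h
  -- the coefficients on `X`
  set a' : IrrCharacter G → ℤ := fun χ => a χ - ε * c χ * ∑ q, a (y q) with ha'
  have hAeq : A = X ∪ (Finset.univ.image y) := by
    ext χ
    simp [hA, hD.mem_iff χ]
  have hdisj : Disjoint X (Finset.univ.image y) := by
    rw [Finset.disjoint_right]
    intro χ hχ hX
    obtain ⟨q, -, rfl⟩ := Finset.mem_image.1 hχ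
    exact hD.disj q hX
  have hv' : ∀ h, ¬ p ∣ orderOf h → v h = ∑ χ ∈ X, (a' χ : ℂ) * (χ : G → ℂ) h := by
    intro h hh
    rw [hv h hh, Finset.sum_congr (show _ = A by ext χ; simp [hA, hBdef]) fun _ _ => rfl, hAeq,
      Finset.sum_union hdisj,
      Finset.sum_image fun q _ q' _ e => hD.y_inj e]
    rw [Finset.sum_congr (s₁ := (Finset.univ : Finset ((ZMod p)ˣ ⧸ R))) rfl fun q _ => by
      rw [hYrel q h hh, Finset.mul_sum], Finset.sum_comm, ← Finset.sum_add_distrib]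
    refine Finset.sum_congr rfl fun χ _ => ?_
    rw [Finset.sum_congr rfl fun q _ => show (a (y q) : ℂ) * (-(ε : ℂ) * c χ * (χ : G → ℂ) h) =
        (a (y q) : ℂ) * (-(ε : ℂ) * c χ * (χ : G → ℂ) h) from rfl, ← Finset.sum_mul]
    simp only [ha']
    push_cast
    ring
  -- the norm
  have hb : ∃ i : X, c i * a' i ≠ 0 := by
    by_contra hno
    simp only [not_exists, not_not] at hno
    obtain ⟨h, hh, hne⟩ := hne
    refine hne ((hv' h hh).trans (Finset.sum_eq_zero fun χ hχ => ?_))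
    have h0 : a' χ = 0 := by
      rcases mul_eq_zero.1 (hno ⟨χ, hχ⟩) with h0 | h0
      · rcases hD.c_sign χ hχ with h1 | h1 <;> rw [h1] at h0 <;> norm_num at h0
      · exact h0
    simp [h0]
  have hform := form_ge (ι := X) (fun i => c i * a' i) hb (t := (t : ℝ)) (Nat.one_le_cast.2 ht0)
  rw [Fintype.card_coe, hD.card_X, Finset.sum_coe_sort X fun i => (((c i * a' i : ℤ)) : ℝ) ^ 2,
    Finset.sum_coe_sort X fun i => (((c i * a' i : ℤ)) : ℝ)] at hform
  have hpe : (t : ℝ) * (e : ℝ) + 1 = p := by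
    have : t * e + 1 = p := by
      have := hp.out.two_le
      rw [mul_comm]; omega
    exact_mod_cast this
  rw [hpe] at hform
  have hkey : ((p : ℝ) * ∑ h ∈ Rg, Complex.normSq (v h) : ℝ) =
      (Nat.card G : ℝ) * ((p : ℝ) * ∑ χ ∈ X, ((c χ * a' χ : ℤ) : ℝ) ^ 2 -
        (t : ℝ) * (∑ χ ∈ X, ((c χ * a' χ : ℤ) : ℝ)) ^ 2) := by
    apply Complex.ofReal_injective
    push_cast
    simp only [← Complex.mul_conj]
    rw [Finset.sum_congr rfl fun h hh => by rw [hv' h (Finset.mem_filter.1 hh).2],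
      hsplit fun g => (∑ χ ∈ X, (a' χ : ℂ) * (χ : G → ℂ) g) *
        conj (∑ χ ∈ X, (a' χ : ℂ) * (χ : G → ℂ) g)]
    have h1 : ∑ g : G, (∑ χ ∈ X, (a' χ : ℂ) * (χ : G → ℂ) g) *
        conj (∑ χ ∈ X, (a' χ : ℂ) * (χ : G → ℂ) g) =
        (Nat.card G : ℂ) * ∑ χ ∈ X, ((c χ : ℂ) * a' χ) ^ 2 := by
      simp only [map_sum, map_mul, map_intCast, Finset.sum_mul_sum]
      rw [Finset.sum_comm, Finset.mul_sum]
      refine Finset.sum_congr rfl fun χ hχ => ?_
      rw [Finset.sum_comm, Finset.sum_congr rfl (g := fun ψ => if χ = ψ then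
        (Nat.card G : ℂ) * ((c χ : ℂ) * a' χ) ^ 2 else 0) fun ψ _ => ?_, Finset.sum_ite_eq,
        if_pos hχ]
      rw [Finset.sum_congr rfl fun g _ => show (a' χ : ℂ) * (χ : G → ℂ) g *
          ((a' ψ : ℂ) * conj ((ψ : G → ℂ) g)) =
          (a' χ : ℂ) * a' ψ * ((χ : G → ℂ) g * conj ((ψ : G → ℂ) g)) by ring,
        ← Finset.mul_sum, hnorm]
      split
      · next e =>
        subst e
        rcases hD.c_sign χ hχ with h | h <;> rw [h] <;> push_cast <;> ring
      · rw [mul_zero]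
    rw [h1, Finset.sum_congr (s₁ := Sg) rfl (g := fun _ => (∑ χ ∈ X, (c χ : ℂ) * a' χ) ^ 2) fun g hg => by
      rw [Finset.sum_congr rfl (g := fun χ => -((c χ : ℂ) * a' χ)) fun χ hχ => by
        rw [hXv χ hχ g hg]; ring]
      simp only [Finset.sum_neg_distrib, map_neg, map_sum, map_mul, map_intCast, neg_mul_neg]
      ring, Finset.sum_const, nsmul_eq_mul, mul_sub, ← mul_assoc (p : ℂ) (Sg.card : ℂ), hSgc]
    ring
  rw [hl, hkey, mul_comm]
  exact mul_le_mul_of_nonneg_left hform (Nat.cast_nonneg _)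

end Cfsg.Agent.Char.PrinLat
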