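import Cfsg.Agent.Lib.Char.BergerImprimitive

/-!
The chief factor above the core of a maximal subgroup with solvable quotient, and a coprime
chief factor inside the subgroup.
-/

namespace Cfsg.Agent.Char.QPrim

open Cfsg Cfsg.Agent.Char

set_option linter.unusedSectionVars false
set_option linter.style.haveILetI false

universe u

variable {G : Type u} [Group G] [Fintype G]

theorem normalizes_of_comm {X : Type u} [Group X] {V R : Subgroup X} [hV : V.Normal]
    (hab : IsMulCommutative V) : V ≤ Subgroup.normalizer ((V ⊓ R : Subgroup X) : Set X) := by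
  intro x hx
  refine Subgroup.mem_normalizer_iff.2 fun w => ?_
  have e : ∀ w ∈ V, x * w * x⁻¹ = w := fun w hw => by
    have := congrArg Subtype.val (mul_comm' (⟨x, hx⟩ : V) ⟨w, hw⟩)
    simp only [Subgroup.coe_mul] at this
    rw [this, mul_inv_cancel_right]
  constructor
  · intro hw
    rwa [e w (Subgroup.mem_inf.1 hw).1]
  · intro hw
    have hw' : w ∈ V := by
      have := hV.conj_mem _ (Subgroup.mem_inf.1 hw).1 x⁻¹
      simpa [mul_assoc] using this
    rwa [e w hw'] at hw

theorem inf_normalized {X : Type u} [Group X] {V R : Subgroup X} [hV : V.Normal] {x : X}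
    (hx : x ∈ Subgroup.normalizer (R : Set X)) :
    x ∈ Subgroup.normalizer ((V ⊓ R : Subgroup X) : Set X) := by
  refine Subgroup.mem_normalizer_iff.2 fun w => ?_
  rw [Subgroup.mem_inf, Subgroup.mem_inf]
  exact and_congr (Subgroup.mem_normalizer_iff.1
      ((Subgroup.normalizer_eq_top_iff.2 hV).ge (Subgroup.mem_top x)) w)
    (Subgroup.mem_normalizer_iff.1 hx w)

/-- The chief factor above the core and a coprime one below. -/
theorem exists_chief (L H : Subgroup G) [L.Normal] (hLH : L ≤ H) (hmax : IsCoatom H)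
    (hsolv : Group.IsSolvable (G ⧸ L))
    (hcore : ∀ W : Subgroup G, W.Normal → W ≤ H → W ≤ L) :
    ∃ K : Subgroup G, K.Normal ∧ L ≤ K ∧ K ⊔ H = ⊤ ∧ K ⊓ H = L ∧
      ∃ p a : ℕ, p.Prime ∧ 0 < a ∧ Nat.card K = Nat.card L * p ^ a ∧ H.index = p ^ a ∧
        (H ≠ L → ∃ (Q : Subgroup G) (q b : ℕ), q.Prime ∧ q ≠ p ∧ L ≤ Q ∧ Q ≤ H ∧
          H ≤ Subgroup.normalizer (Q : Set G) ∧ Nat.card Q = Nat.card L * q ^ b ∧
          ¬ K ≤ Subgroup.normalizer (Q : Set G)) := by
  classical
  haveI := hsolv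
  set π := QuotientGroup.mk' L with hπ
  have hπs : Function.Surjective π := QuotientGroup.mk'_surjective L
  have hπk : π.ker = L := QuotientGroup.ker_mk' L
  set Hb := H.map π with hHb
  have hHc : Hb.comap π = H := by rw [hHb, Subgroup.comap_map_eq, hπk, sup_eq_left.2 hLH]
  have hcoreb : ∀ W : Subgroup (G ⧸ L), W.Normal → W ≤ Hb → W = ⊥ := by
    intro W hW hle
    haveI := hW
    have h1 : W.comap π ≤ L := hcore _ (hW.comap π) (hHc ▸ Subgroup.comap_mono hle)
    rw [← Subgroup.map_comap_eq_self_of_surjective hπs W, Subgroup.map_eq_bot_iff, hπk]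
    exact h1
  have hcard : ∀ W : Subgroup (G ⧸ L), Nat.card (W.comap π) = Nat.card L * Nat.card W := by
    intro W
    rw [← Berger.card_mul_relIndex' (show L ≤ W.comap π from hπk.ge.trans (π.ker_le_comap _))]
    congr 1
    conv_lhs => arg 1; rw [← hπk, ← MonoidHom.comap_bot]
    rw [Subgroup.relIndex_comap, Subgroup.map_comap_eq_self_of_surjective hπs,
      Subgroup.relIndex_bot_left]
  have htop : (⊤ : Subgroup (G ⧸ L)) ≠ ⊥ := fun h => by
    refine hmax.1 (eq_top_iff.2 fun g _ => hLH ?_)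
    rw [← hπk, MonoidHom.mem_ker, ← Subgroup.mem_bot, ← h]
    trivial
  obtain ⟨V, -, hV0, hVN, hVab, ⟨p, hp, hVp⟩, hVmin⟩ := Berger.exists_section htop
  haveI hVn : V.Normal := Subgroup.normalizer_eq_top_iff.1 (top_le_iff.1 hVN)
  set K := V.comap π with hK
  have hKH : ¬ K ≤ H := fun h => hV0 (hcoreb V hVn (by
    rw [← Subgroup.map_comap_eq_self_of_surjective hπs V]; exact Subgroup.map_mono h))
  have hKsup : K ⊔ H = ⊤ := hmax.2 _ (lt_of_le_of_ne le_sup_right fun h =>
    hKH (le_sup_left.trans h.ge))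
  have hVsup : V ⊔ Hb = ⊤ := by
    rw [← Subgroup.map_comap_eq_self_of_surjective hπs V, hHb, ← Subgroup.map_sup, ← hK, hKsup,
      Subgroup.map_top_of_surjective _ hπs]
  have hVcap : V ⊓ Hb = ⊥ := by
    refine hcoreb _ (Subgroup.normalizer_eq_top_iff.1 (top_le_iff.1 (hVsup ▸ sup_le
      (normalizes_of_comm hVab) fun x hx => inf_normalized (Subgroup.le_normalizer hx)))) inf_le_right
  have hcap : K ⊓ H = L := by
    rw [hK, ← hHc, ← Subgroup.comap_inf, hVcap, MonoidHom.comap_bot, hπk]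
  haveI hKn : K.Normal := hVn.comap π
  haveI := Fact.mk hp
  obtain ⟨a, ha⟩ := IsPGroup.iff_card.1 hVp
  have ha0 : 0 < a := by
    rcases Nat.eq_zero_or_pos a with rfl | h
    · exact absurd (Subgroup.card_eq_one.1 (by rw [ha, pow_zero])) hV0
    · exact h
  have hidx : H.index = p ^ a := by
    have h1 : H.relIndex (K ⊔ H) = H.relIndex K := Berger.relIndex_sup_normal H K
    rw [hKsup, Subgroup.relIndex_top_right, ← Subgroup.inf_relIndex_right, inf_comm, hcap] at h1
    have h2 := Berger.card_mul_relIndex' (show L ≤ K from hπk.ge.trans (π.ker_le_comap _))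
    rw [hK, hcard V, ha] at h2
    rw [h1]
    exact Nat.eq_of_mul_eq_mul_left Nat.card_pos h2
  refine ⟨K, hKn, hπk.ge.trans (π.ker_le_comap _), hKsup, hcap, p, a, hp, ha0, by rw [hK, hcard, ha], hidx,
    fun hHL => ?_⟩
  have hHb0 : Hb ≠ ⊥ := fun h => hHL (by rw [← hHc, h, MonoidHom.comap_bot, hπk])
  obtain ⟨R, hRH, hR0, hRN, -, ⟨q, hq, hRq⟩, -⟩ := Berger.exists_section hHb0
  have hnotnorm : ¬ V ≤ Subgroup.normalizer (R : Set (G ⧸ L)) := fun h => hR0 (hcoreb R
    (Subgroup.normalizer_eq_top_iff.1 (top_le_iff.1 (hVsup ▸ sup_le h hRN))) hRH)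
  have hpq : q ≠ p := by
    rintro rfl
    have hS : IsPGroup q (V ⊔ R : Subgroup (G ⧸ L)) := hVp.to_sup_of_normal_left hRq
    haveI : Group.IsNilpotent (V ⊔ R : Subgroup (G ⧸ L)) := hS.isNilpotent
    have hlt : R.subgroupOf (V ⊔ R) < ⊤ := lt_top_iff_ne_top.2 fun h => hnotnorm
      ((le_sup_left.trans (Subgroup.subgroupOf_eq_top.1 h)).trans Subgroup.le_normalizer)
    obtain ⟨s, hsN, hsR⟩ := SetLike.exists_of_lt (Group.normalizerCondition_of_isNilpotent _ hlt)
    have hs : (s : G ⧸ L) ∈ ((V ⊔ R : Subgroup (G ⧸ L)) : Set (G ⧸ L)) := s.2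
    rw [Subgroup.normal_mul] at hs
    obtain ⟨v, hv, r, hr, hvr⟩ := hs
    replace hvr : v * r = (s : G ⧸ L) := hvr
    have hsN' : (s : G ⧸ L) ∈ Subgroup.normalizer (R : Set (G ⧸ L)) :=
      Subgroup.mem_normalizer_iff.2 fun w => by
        constructor
        · intro hw
          exact (Subgroup.mem_normalizer_iff.1 hsN ⟨w, Subgroup.mem_sup_right hw⟩).1 hw
        · intro hw
          have h1 : (s : G ⧸ L) * w * (s : G ⧸ L)⁻¹ ∈ V ⊔ R := Subgroup.mem_sup_right hw
          have h2 : w ∈ V ⊔ R := by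
            have := mul_mem (mul_mem (inv_mem s.2) h1) s.2
            simpa [mul_assoc] using this
          exact (Subgroup.mem_normalizer_iff.1 hsN ⟨w, h2⟩).2 hw
    have hvN : v ∈ Subgroup.normalizer (R : Set (G ⧸ L)) := by
      have := mul_mem hsN' (inv_mem (Subgroup.le_normalizer hr))
      rwa [← hvr, mul_inv_cancel_right] at this
    rcases hVmin (V ⊓ Subgroup.normalizer (R : Set (G ⧸ L))) inf_le_left (hVsup ▸ sup_le
      (normalizes_of_comm hVab)
      fun x hx => inf_normalized (Subgroup.le_normalizer (hRN hx))) with h | h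
    · refine hsR (Subgroup.mem_subgroupOf.2 ?_)
      have hv1 : v = 1 := Subgroup.mem_bot.1 (h ▸ Subgroup.mem_inf.2 ⟨hv, hvN⟩)
      rw [← hvr, hv1, one_mul]
      exact hr
    · exact hnotnorm (h ▸ inf_le_right)
  haveI := Fact.mk hq
  obtain ⟨b, hb⟩ := IsPGroup.iff_card.1 hRq
  refine ⟨R.comap π, q, b, hq, hpq, hπk.ge.trans (π.ker_le_comap _), hHc ▸ Subgroup.comap_mono hRH, ?_,
    by rw [hcard, hb], fun h => hnotnorm fun v hv => ?_⟩
  · rw [← Subgroup.comap_normalizer_eq_of_surjective R hπs, ← hHc]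
    exact Subgroup.comap_mono hRN
  · obtain ⟨k, rfl⟩ := hπs v
    have hk := h (show k ∈ K from hv)
    rw [← Subgroup.comap_normalizer_eq_of_surjective R hπs] at hk
    exact hk

end Cfsg.Agent.Char.QPrim
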