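import Cfsg.Agent.Lib.Char.QuasiPrimitiveTools
import Cfsg.Agent.Lib.Char.QuasiPrimitiveSetup
import Cfsg.Agent.Lib.Char.ExtendMain
import Cfsg.Agent.Lib.Char.CliffordCorr

/-!
Berger's theorem: a quasi-primitive character of a group with solvable quotient is not induced.
-/

open scoped ComplexConjugate

namespace Cfsg.Agent.Char.QPrim

open Cfsg Cfsg.Agent.Char

set_option linter.unusedSectionVars false
set_option linter.style.haveILetI false
set_option maxHeartbeats 1600000

universe u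

/-- The hypothesis of the induction: no imprimitive character below index `n`. -/
def Below (n : ℕ) : Prop :=
  ∀ {A : Type u} [Group A] [Fintype A] (L : Subgroup A) [L.Normal], L.index < n →
    Group.IsSolvable (A ⧸ L) → ∀ χ : A → ℂ, IsIrrCharacter A χ → Homog L χ →
      ∀ H : Subgroup A, H ≠ ⊤ → L ≤ H → ∀ ψ : H → ℂ, IsCharacter H ψ → indFun H ψ ≠ χ

variable {G : Type u} [Group G] [Fintype G]

theorem isSolvable_comap {A : Type u} [Group A] [Fintype A] (π : A →* G)
    {K : Subgroup G} [K.Normal] (hs : Group.IsSolvable (G ⧸ K)) :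
    Group.IsSolvable (A ⧸ K.comap π) := by
  haveI := hs
  refine solvable_of_solvable_injective (f := QuotientGroup.map (K.comap π) K π le_rfl) ?_
  refine (injective_iff_map_eq_one _).2 fun x hx => ?_
  obtain ⟨a, rfl⟩ := QuotientGroup.mk_surjective x
  rw [QuotientGroup.map_mk, QuotientGroup.eq_one_iff] at hx
  exact (QuotientGroup.eq_one_iff _).2 hx

theorem sum_norm_sq_irr {A : Type u} [Group A] [Fintype A] {φ : A → ℂ} (hφ : IsIrrCharacter A φ) :
    ∑ a : A, ‖φ a‖ ^ 2 = Nat.card A := by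
  have h1 := classInner_self_irr hφ
  rwa [classInner_self, ← Complex.ofReal_one, Complex.ofReal_inj, inv_mul_eq_iff_eq_mul₀
    (Nat.cast_ne_zero.2 Nat.card_pos.ne'), mul_one] at h1

theorem linear_norm {A : Type u} [Group A] [Fintype A] {φ : A → ℂ} (hφ : IsIrrCharacter A φ)
    (h1 : φ 1 = 1) (a : A) : ‖φ a‖ = 1 := by
  have hle : ∀ a, ‖φ a‖ ^ 2 ≤ 1 := fun a => by
    have := IsChar.norm_le (IsIrr.isCharacter hφ) a
    rw [h1, norm_one] at this
    nlinarith [norm_nonneg (φ a)]
  have h2 := (Finset.sum_eq_sum_iff_of_le (s := Finset.univ) fun a _ => hle a).1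
    (by rw [sum_norm_sq_irr hφ]; simp [Nat.card_eq_fintype_card]) a (Finset.mem_univ _)
  exact (pow_eq_one_iff_of_nonneg (norm_nonneg _) two_ne_zero).1 h2

/-- The central case. -/
theorem false_of_central {n : ℕ} (IH : Below.{u} n) (L H : Subgroup G) [hLn : L.Normal]
    (hcen : L ≤ Subgroup.center G) (hLH : L ≤ H) (hmax : IsCoatom H) (hidx : L.index ≤ n)
    (hsolv : Group.IsSolvable (G ⧸ L)) (hcore : ∀ W : Subgroup G, W.Normal → W ≤ H → W ≤ L)
    {θ : H → ℂ} (hθ : IsIrrCharacter H θ) {χ : G → ℂ} (hχ : IsIrrCharacter G χ)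
    (hind : indFun H θ = χ) (hhom : Homog L χ) : False := by
  classical
  obtain ⟨K, hKn, hLK, hKH, hKcap, p, a, hp, ha, hKcard, hHidx, hQex⟩ :=
    exists_chief L H hLH hmax hsolv hcore
  letI := Fintype.ofFinite H
  letI := Fintype.ofFinite K
  letI := Fintype.ofFinite L
  have hχc := IsIrr.classFun hχ
  have hθch := IsIrr.isCharacter hθ
  -- the core
  obtain ⟨φ, c₀, hφ, hc₀⟩ := hhom L inferInstance le_rfl
  have hφ1 : φ 1 = 1 := IsIrr.one_of_comm (fun x y => Subtype.ext
    (Subgroup.mem_center_iff.1 (hcen y.2) x)) hφ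
  have hθθ : classInner (fun h : H => χ h) θ ≠ 0 := by
    rw [← classInner_conj_symm, ← classInner_indFun H θ hχc, hind, classInner_self_irr hχ, map_one]
    exact one_ne_zero
  obtain ⟨g, hg, hgθ⟩ := homog_below hLH (IsChar.res (IsIrr.isCharacter hχ) H) hθ hθθ hφ (c := c₀)
    fun l => congrFun hc₀ l
  have hθ1 : θ 1 = (g : ℂ) := by
    have := hgθ 1
    rw [hφ1, mul_one] at this
    exact this
  have hχ1 : χ 1 = (p ^ a : ℕ) * (g : ℂ) := by
    rw [← hind, indFun_one_eq, hHidx, hθ1]
  -- the chief factor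
  obtain ⟨η, c, hη, hc⟩ := hhom K hKn hLK
  obtain ⟨k, hk0, hk⟩ := IsIrr.one_eq_pos hη
  have hc0 : (c : ℂ) ≠ 0 := fun h => IsIrr.one_ne_zero hχ (by
    have := congrFun hc 1
    rw [h, zero_smul] at this
    exact this)
  have hηc : ∀ x : K, (x : G) ∉ L → η x = 0 := by
    intro x hx
    have h0 : χ (x : G) = 0 := by
      rw [← hind, Berger.ind_res (IsChar.classFun hθch) hKH, Finset.sum_eq_zero, mul_zero]
      intro y _
      refine extendByZero_not_mem θ fun hH => hx ?_
      have h1 : (y : G)⁻¹ * x * y ∈ L := hKcap ▸ Subgroup.mem_inf.2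
        ⟨mul_mem (mul_mem (inv_mem y.2) x.2) y.2, hH⟩
      have := hLn.conj_mem _ h1 (y : G)
      simpa [mul_assoc] using this
    have h1 := congrFun hc x
    rw [h0, Pi.smul_apply, smul_eq_mul] at h1
    exact (mul_eq_zero.1 h1.symm).resolve_left hc0
  have hηl : ∀ l : L, η ⟨(l : G), hLK l.2⟩ = (k : ℂ) * φ l := by
    intro l
    have h1 : χ (l : G) = (c : ℂ) * η ⟨(l : G), hLK l.2⟩ := congrFun hc ⟨(l : G), hLK l.2⟩
    have h2 : χ (l : G) = (c₀ : ℂ) * φ l := congrFun hc₀ l
    have h3 : χ 1 = (c : ℂ) * η 1 := congrFun hc 1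
    have h4 : χ 1 = (c₀ : ℂ) * φ 1 := congrFun hc₀ 1
    rw [hk] at h3
    rw [hφ1, mul_one, h3] at h4
    refine mul_left_cancel₀ hc0 ?_
    rw [← h1, h2, ← h4, mul_assoc]
  have hkk : k * k = p ^ a := by
    have h1 := sum_norm_sq_irr hη
    have h2 : ∑ x : K, ‖η x‖ ^ 2 = (k : ℝ) ^ 2 * Nat.card L := by
      rw [← sum_norm_sq_irr hφ, Finset.mul_sum]
      symm
      refine Finset.sum_bij_ne_zero (fun l _ _ => (⟨(l : G), hLK l.2⟩ : K))
        (fun _ _ _ => Finset.mem_univ _)
        (fun x _ _ y _ _ e => Subtype.ext (congrArg (fun z : K => (z : G)) e))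
        (fun x _ hx => ?_) fun l _ _ => ?_
      · have hxL : (x : G) ∈ L := by
          by_contra h
          exact hx (by rw [hηc x h]; simp)
        refine ⟨⟨(x : G), hxL⟩, Finset.mem_univ _, fun h => hx ?_, rfl⟩
        show ‖η ⟨((⟨(x : G), hxL⟩ : L) : G), hLK hxL⟩‖ ^ 2 = 0
        rw [hηl ⟨(x : G), hxL⟩, norm_mul, Complex.norm_natCast, mul_pow, h]
      · rw [hηl l, norm_mul, Complex.norm_natCast, mul_pow]
    rw [h2, hKcard] at h1
    have h3 : ((k * k * Nat.card L : ℕ) : ℝ) = ((p ^ a * Nat.card L : ℕ) : ℝ) := by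
      push_cast; push_cast at h1; linear_combination h1
    exact Nat.eq_of_mul_eq_mul_right Nat.card_pos (by exact_mod_cast h3)
  have hpa : 1 < p ^ a := Nat.one_lt_pow ha.ne' hp.one_lt
  -- the subgroup is above the core
  by_cases hHL : H = L
  · have hKtop : K = ⊤ := by rw [← hKH, hHL, sup_eq_left.2 hLK]
    have hirr : IsIrrCharacter K (fun x : K => χ x) := IsIrr.comp_surjective K.subtype
      (fun x => ⟨⟨x, hKtop ▸ Subgroup.mem_top x⟩, rfl⟩) hχ
    have h3 := congrArg (fun F : K → ℂ => classInner F F) hc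
    rw [classInner_self_irr hirr, classInner_smul_left, classInner_smul_right,
      classInner_self_irr hη, map_natCast, mul_one] at h3
    have hc1 : c = 1 := Nat.eq_one_of_mul_eq_one_right (by exact_mod_cast h3.symm : c * c = 1)
    have hg1 : g = 1 := by
      have hgφ : θ 1 = 1 := IsIrr.one_of_comm (fun x y => Subtype.ext
        (Subgroup.mem_center_iff.1 (hcen (hHL ▸ y.2)) x)) hθ
      rw [hθ1] at hgφ
      exact_mod_cast hgφ
    have h4 := congrFun hc 1
    rw [Pi.smul_apply, smul_eq_mul, hk, hc1, Nat.cast_one, one_mul] at h4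
    change χ 1 = (k : ℂ) at h4
    rw [hχ1, hg1, Nat.cast_one, mul_one, Nat.cast_inj] at h4
    rw [← h4] at hkk
    nlinarith
  obtain ⟨Q, q, b, hq, hqp, hLQ, hQH, hHQ, hQcard, hQK⟩ := hQex hHL
  -- the cover in which the character of the chief factor extends
  obtain ⟨d, ρ, hρ, hρη⟩ := hη
  haveI := hρ
  have hη : IsIrrCharacter K η := ⟨d, ρ, hρ, hρη⟩
  have hinv : ∀ (x : G) (m : K), ρ.character (conjEquivN K x m) = ρ.character m := by
    intro x m
    refine mul_left_cancel₀ hc0 ?_
    rw [hρη]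
    have h1 : χ (conjEquivN K x m : G) = (c : ℂ) * η (conjEquivN K x m) :=
      congrFun hc (conjEquivN K x m)
    have h2 : χ (m : G) = (c : ℂ) * η m := congrFun hc m
    rw [← h1, ← h2, conjEquivN_apply]
    exact hχc (m : G) x
  haveI := Ext.finite_cover K ρ
  haveI := Ext.coverRep_irreducible K ρ
  letI := Fintype.ofFinite (Ext.cover K ρ)
  set A := Ext.cover K ρ with hA
  set π := Ext.coverFst K ρ with hπdef
  have hπs : Function.Surjective π := Ext.coverFst_surjective K ρ hinv
  set E := (Ext.coverRep K ρ).character with hE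
  have hEi : IsIrrCharacter A E := isIrrCharacter_character _
  have hEc := IsIrr.classFun hEi
  set Kh := (Ext.coverEmb K ρ).range with hKh
  letI := Fintype.ofFinite Kh
  let em : K →* Kh := (Ext.coverEmb K ρ).rangeRestrict
  have hems : Function.Surjective em := (Ext.coverEmb K ρ).rangeRestrict_surjective
  have hemi : Function.Injective em := fun x y h =>
    Subtype.ext (congrArg (fun z : Kh => Ext.coverFst K ρ (z : A)) h)
  have hEemb : ∀ m : K, E (Ext.coverEmb K ρ m) = η m := fun m => by rw [← hρη]; rfl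
  have hEN : IsIrrCharacter Kh (fun z : Kh => E z) := by
    refine Eq.subst (motive := fun f => IsIrrCharacter Kh f) ?_
      (IsIrr.comp_mulEquiv (MulEquiv.ofBijective em ⟨hemi, hems⟩).symm hη)
    funext z
    obtain ⟨m, rfl⟩ := hems z
    rw [show (MulEquiv.ofBijective em ⟨hemi, hems⟩).symm (em m) = m from
      (MulEquiv.ofBijective em ⟨hemi, hems⟩).symm_apply_apply m]
    exact (hEemb m).symm
  set χh : A → ℂ := fun x => χ (π x) with hχh
  have hχhi : IsIrrCharacter A χh := IsIrr.comp_surjective π hπs hχ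
  obtain ⟨hβi, hEβ⟩ := gallagher Kh hEi hχhi hEN (by
    rw [← classInner_comp_surjective em hems]
    have e1 : (fun m : K => χh (em m : A)) = (c : ℂ) • η := hc
    have e2 : (fun m : K => E (em m : A)) = η := funext hEemb
    rw [e1, e2, classInner_smul_left, classInner_self_irr hη, mul_one]
    exact hc0)
  set β := avgN Kh (χh * fun x => conj (E x)) with hβ
  have hβK : ∀ z ∈ Kh, ∀ x, β (z * x) = β x := fun z hz x =>
    avgN_mul_left Kh _ ⟨z, hz⟩ x
  have hβker : ∀ z ∈ Kh, β z = β 1 := fun z hz => by have := hβK z hz 1; rwa [mul_one] at this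
  obtain ⟨βb, hβb, hβbe⟩ := IsIrr.exists_factor_quotient hβi Kh hβker
  -- the preimage of the subgroup
  set Hh := H.comap π with hHh
  letI := Fintype.ofFinite Hh
  let qH : Hh →* A ⧸ Kh := (QuotientGroup.mk' Kh).comp Hh.subtype
  have hsup : Kh ⊔ Hh = ⊤ := by
    refine eq_top_iff.2 fun x _ => ?_
    have hx : π x ∈ ((K ⊔ H : Subgroup G) : Set G) := by rw [hKH]; trivial
    rw [Subgroup.normal_mul] at hx
    obtain ⟨u, hu, v, hv, huv⟩ := hx
    replace huv : u * v = π x := huv
    rw [← mul_inv_cancel_left (Ext.coverEmb K ρ ⟨u, hu⟩) x]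
    refine mul_mem (Subgroup.mem_sup_left ⟨_, rfl⟩) (Subgroup.mem_sup_right ?_)
    show π _ ∈ H
    rw [map_mul, map_inv, hπdef, Ext.coverFst_emb, ← hπdef, ← huv, inv_mul_cancel_left]
    exact hv
  have hqs : Function.Surjective qH := by
    intro y
    obtain ⟨x, rfl⟩ := QuotientGroup.mk_surjective y
    have hx : x ∈ ((Kh ⊔ Hh : Subgroup A) : Set A) := by rw [hsup]; trivial
    rw [Subgroup.normal_mul] at hx
    obtain ⟨u, hu, v, hv, rfl⟩ := hx
    refine ⟨⟨v, hv⟩, ?_⟩
    show (v : A ⧸ Kh) = ((u * v : A) : A ⧸ Kh)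
    rw [QuotientGroup.mk_mul, (QuotientGroup.eq_one_iff u).2 hu, one_mul]
  have hβH : IsIrrCharacter Hh (fun x : Hh => β x) := by
    have h1 := IsIrr.comp_surjective qH hqs hβb
    exact Eq.subst (motive := fun f => IsIrrCharacter Hh f) (funext fun x : Hh => hβbe (x : A)) h1
  set γ : Hh → ℂ := fun x => θ ⟨π x, x.2⟩ with hγ
  set δ : Hh → ℂ := fun x => E x with hδ
  have hγch : IsCharacter Hh γ :=
    IsChar.comp (π.subgroupComap H) hθch
  have hδch : IsCharacter Hh δ := IsChar.res (IsIrr.isCharacter hEi) Hh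
  have hindh : indFun Hh γ = χh := funext fun x => by
    rw [hγ, indFun_comap π hπs, hind]
  have hβd : (fun x : Hh => conj (δ x)) * γ = fun x : Hh => β x := by
    refine eq_of_constituent_degree (IsChar.mul (IsChar.conj hδch) hγch) hβH ?_ ?_
    · have h1 : classInner γ (fun x : Hh => χh x) = 1 := by
        rw [← classInner_indFun Hh γ (IsIrr.classFun hχhi), hindh, classInner_self_irr hχhi]
      have h2 : classInner ((fun x : Hh => conj (δ x)) * γ) (fun x : Hh => β x) =
          classInner γ (fun x : Hh => χh x) := by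
        simp only [classInner, Pi.mul_apply, hδ]
        congr 1
        refine Finset.sum_congr rfl fun x _ => ?_
        rw [show χh (x : A) = E (x : A) * β (x : A) from (congrFun hEβ (x : A)).symm, map_mul]
        ring
      rw [h2, h1]
      exact one_ne_zero
    · have h1 : E 1 = (k : ℂ) := by rw [← map_one (Ext.coverEmb K ρ), hEemb, hk]
      have h2 := congrFun hEβ 1
      rw [Pi.mul_apply, h1, show χh 1 = χ 1 by rw [hχh]; simp only [map_one], hχ1] at h2
      have hk' : (k : ℂ) ≠ 0 := Nat.cast_ne_zero.2 hk0.ne'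
      rw [Pi.mul_apply]
      show conj (E ((1 : Hh) : A)) * θ ⟨π ((1 : Hh) : A), _⟩ = β ((1 : Hh) : A)
      simp only [Subgroup.coe_one, map_one, h1, map_natCast]
      rw [show θ ⟨1, _⟩ = (g : ℂ) from hθ1]
      refine mul_left_cancel₀ hk' ?_
      rw [h2, ← hkk]
      push_cast
      ring
  have hδi : IsIrrCharacter Hh δ := by
    have h1 : IsIrrCharacter Hh (γ * fun x : Hh => conj (δ x)) := by
      rw [mul_comm, hβd]; exact hβH
    have h2 := IsIrr.conj (irr_of_mul hγch (IsChar.conj hδch) h1)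
    exact Eq.subst (motive := fun f => IsIrrCharacter Hh f)
      (funext fun x => Complex.conj_conj (δ x)) h2
  -- the coprime section
  set Lh := L.comap π with hLh
  have hLhc : ∀ x ∈ Lh, ∀ y : A, y * x = x * y := by
    intro x hx y
    set m : K := ⟨π x, hLK hx⟩ with hm
    have hker : x * (Ext.coverEmb K ρ m)⁻¹ ∈ π.ker := by
      rw [MonoidHom.mem_ker, map_mul, map_inv, hπdef, Ext.coverFst_emb, ← hπdef, hm,
        mul_inv_cancel]
    have h1 := Subgroup.mem_center_iff.1 (Ext.ker_central K ρ hker) y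
    have h2 : y * Ext.coverEmb K ρ m * y⁻¹ = Ext.coverEmb K ρ m := by
      rw [Ext.coverEmb_conj]
      refine congrArg _ (Subtype.ext ?_)
      rw [conjEquivN_apply]
      show π y * π x * (π y)⁻¹ = π x
      rw [Subgroup.mem_center_iff.1 (hcen hx) (π y), mul_inv_cancel_right]
    have h2' : y * Ext.coverEmb K ρ m = Ext.coverEmb K ρ m * y := mul_inv_eq_iff_eq_mul.1 h2
    calc y * x = (y * (x * (Ext.coverEmb K ρ m)⁻¹)) * Ext.coverEmb K ρ m := by group
      _ = (x * (Ext.coverEmb K ρ m)⁻¹) * (y * Ext.coverEmb K ρ m) := by rw [h1]; group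
      _ = x * y := by rw [h2']; group
  set Qh : Subgroup Hh := (Q.comap π).subgroupOf Hh with hQh
  have hQhH : Q.comap π ≤ Hh := Subgroup.comap_mono hQH
  haveI : Qh.Normal := (Subgroup.normal_subgroupOf_iff_le_normalizer hQhH).2 (by
    rw [hHh, ← Subgroup.comap_normalizer_eq_of_surjective Q hπs]
    exact Subgroup.comap_mono hHQ)
  letI := Fintype.ofFinite Qh
  have hδQ : IsCharacter Qh (fun x : Qh => δ x) := IsChar.res hδch Qh
  have hδ1 : δ 1 = (k : ℂ) := by
    show E ((1 : Hh) : A) = _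
    rw [Subgroup.coe_one, ← map_one (Ext.coverEmb K ρ), hEemb, hk]
  obtain ⟨ζ, hζ⟩ := IsChar.exists_constituent' hδQ (by
    show δ ((1 : Qh) : Hh) ≠ 0
    rw [Subgroup.coe_one, hδ1]; exact Nat.cast_ne_zero.2 hk0.ne')
  set T := inertia Qh (ζ : Qh → ℂ) with hT
  letI := Fintype.ofFinite T
  by_cases hTtop : T = ⊤
  · -- homogeneous: the section centralises the chief factor
    have h1 := clifford_one Qh hδi ζ.2 hζ
    rw [← hT, hTtop, Subgroup.index_top, Nat.cast_one, mul_one, hδ1] at h1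
    obtain ⟨r, hr⟩ : ∃ r : ℕ, classInner (fun x : Qh => δ x) (ζ : Qh → ℂ) = r :=
      IsChar.classInner_nat hδQ (IsIrr.isCharacter ζ.2)
    set Lq : Subgroup Qh := (Lh.subgroupOf Hh).subgroupOf Qh with hLq
    have hLqc : ∀ x : Qh, x ∈ Lq → ∀ y : Qh, y * x = x * y := fun x hx y =>
      Subtype.ext (Subtype.ext (hLhc _ hx _))
    haveI : Lq.Normal := ⟨fun x hx y => by rw [hLqc x hx y, mul_inv_cancel_right]; exact hx⟩
    letI := Fintype.ofFinite Lq
    obtain ⟨μ, hμ⟩ := IsChar.exists_constituent' (IsChar.res (IsIrr.isCharacter ζ.2) Lq)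
      (IsIrr.one_ne_zero ζ.2)
    obtain ⟨t, ht, htd⟩ := Ext.ratio_dvd_index' ζ.2 μ.2 hμ
    rw [IsIrr.one_of_comm (fun x y : Lq => Subtype.ext (hLqc y.1 y.2 x.1)) μ.2, mul_one] at ht
    have hLqidx : Lq.index = q ^ b := by
      show (Lh.subgroupOf Hh).relIndex ((Q.comap π).subgroupOf Hh) = q ^ b
      rw [Subgroup.relIndex_subgroupOf hQhH, hLh, Subgroup.relIndex_comap,
        Subgroup.map_comap_eq_self_of_surjective hπs]
      have h2 := Berger.card_mul_relIndex' hLQ
      rw [hQcard] at h2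
      exact Nat.eq_of_mul_eq_mul_left Nat.card_pos h2
    rw [hLqidx] at htd
    have htk : t ∣ k := by
      rw [hr, ht] at h1
      exact ⟨r, by rw [mul_comm t]; exact_mod_cast h1⟩
    have ht1 : t = 1 := Nat.eq_one_of_dvd_coprimes
      (Nat.Coprime.pow b a ((Nat.coprime_primes hq hp).2 hqp)) htd
      (htk.trans (hkk ▸ dvd_mul_right k k))
    rw [ht1, Nat.cast_one] at ht
    rw [ht, mul_one, hr] at h1
    have hcl := clifford Qh hδi ζ.2 hζ
    have horb : conjOrbit Qh (ζ : Qh → ℂ) = {(ζ : Qh → ℂ)} := by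
      refine Finset.eq_singleton_iff_unique_mem.mpr
        ⟨(mem_conjOrbit Qh).mpr ⟨1, ?_⟩, fun θ' hθ' => ?_⟩
      · exact (mem_inertia Qh).1 (hTtop ▸ Subgroup.mem_top (1 : Hh) : (1 : Hh) ∈ T)
      · obtain ⟨x, rfl⟩ := (mem_conjOrbit Qh).mp hθ'
        exact (mem_inertia Qh).1 (hTtop ▸ Subgroup.mem_top x : x ∈ T)
    rw [horb, Finset.sum_singleton, hr] at hcl
    have hscal : ∀ x : A, π x ∈ Q → ∀ m : K, ρ (conjEquivN K (π x) m) = ρ m := by
      intro x hx m
      have hxH : x ∈ Hh := hQhH hx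
      have h3 := congrFun hcl (⟨⟨x, hxH⟩, hx⟩ : Qh)
      rw [Pi.smul_apply, smul_eq_mul, ← h1] at h3
      have hdk : d = k := by
        have h4 : η 1 = (d : ℂ) := by
          rw [← hρη, Representation.char_one, Module.finrank_fin_fun]
        rw [hk] at h4
        exact_mod_cast h4.symm
      have h5 : ‖E x‖ = (Module.finrank ℂ (Fin d → ℂ) : ℝ) := by
        rw [Module.finrank_fin_fun, hdk, show E x = _ from h3, norm_mul, Complex.norm_natCast,
          linear_norm ζ.2 ht, mul_one]
      obtain ⟨ω, hω⟩ := (norm_character_eq_iff (Ext.coverRep K ρ) x).1 h5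
      have hne : ω ≠ 0 := by
        intro h0
        rw [hE, Representation.character, hω, h0, zero_smul, map_zero, norm_zero,
          Module.finrank_fin_fun, hdk] at h5
        exact hk0.ne' (by exact_mod_cast h5.symm)
      have h6 := Ext.coverRep_conj K ρ x m
      rw [hω, smul_mul_assoc, mul_smul_comm, ← Module.End.one_eq_id, one_mul, mul_one] at h6
      exact (smul_right_injective _ hne h6).symm
    refine hQK fun u hu => ?_
    -- every element of the section centralises the chief factor modulo the core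
    have hcomm : ∀ v ∈ Q, ∀ w ∈ K, v * w * v⁻¹ * w⁻¹ ∈ L := by
      intro v hv w hw
      obtain ⟨x, rfl⟩ := hπs v
      by_contra hnot
      have h7 := hscal x hv ⟨w, hw⟩
      set y : K := conjEquivN K (π x) ⟨w, hw⟩ * (⟨w, hw⟩ : K)⁻¹ with hy
      have hy0 : η y = 0 := hηc y (by
        rw [hy]
        simp only [Subgroup.coe_mul, Subgroup.coe_inv, conjEquivN_apply]
        exact hnot)
      rw [← hρη, Representation.character, hy, map_mul, h7, ← map_mul, mul_inv_cancel] at hy0
      have : η 1 = 0 := by rw [← hρη]; exact hy0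
      exact IsIrr.one_ne_zero hη this
    have hone : ∀ w ∈ K, ∀ v ∈ Q, w * v * w⁻¹ ∈ Q := by
      intro w hw v hv
      have h8 : v⁻¹ * w * v * w⁻¹ ∈ L := by
        have := hcomm v⁻¹ (inv_mem hv) w hw
        simpa using this
      have h9 := mul_mem hv (hLQ h8)
      simpa [mul_assoc] using h9
    refine Subgroup.mem_normalizer_iff.2 fun v => ⟨hone u hu v, fun h => ?_⟩
    have := hone u⁻¹ (inv_mem hu) _ h
    simpa [mul_assoc] using this
  -- inhomogeneous: the character is induced from above the chief factor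
  have hNT : Qh ≤ T := le_inertia Qh (IsIrr.classFun ζ.2)
  obtain ⟨σ, hσ, hσind, -⟩ := Corr.exists_correspondent Qh ζ.2 hT hNT hδi hζ
  set ν : T → ℂ := (fun x : T => γ x) * fun x : T => conj (σ x) with hν
  have hνch : IsCharacter T ν := IsChar.mul (IsChar.res hγch T) (IsChar.conj (IsIrr.isCharacter hσ))
  have hβT : indFun T ν = fun x : Hh => β x := by
    rw [hν, ← Brauer.mul_indFun T _ (IsChar.classFun hγch), ← hβd, mul_comm]
    congr 1
    funext x
    rw [indFun_conj, hσind]
  set Tb : Subgroup (A ⧸ Kh) := T.map qH with hTb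
  have hqker : qH.ker ≤ T := by
    intro x hx
    refine hNT ?_
    show (x : A) ∈ Q.comap π
    have hxK : (x : A) ∈ Kh := (QuotientGroup.eq_one_iff _).1 (MonoidHom.mem_ker.1 hx)
    obtain ⟨m, hm⟩ := hxK
    have hxπ : π (x : A) = (m : G) := by rw [← hm, hπdef, Ext.coverFst_emb]
    show π (x : A) ∈ Q
    refine hLQ (hKcap ▸ Subgroup.mem_inf.2 ⟨hxπ ▸ m.2, x.2⟩)
  have hTc : Tb.comap qH = T := by rw [hTb, Subgroup.comap_map_eq, sup_eq_left.2 hqker]
  obtain ⟨νb, hνb, hνbe⟩ := IsChar.exists_factor hνch (qH.subgroupMap T)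
    (qH.subgroupMap_surjective T) (fun x hx => by
      refine ker_of_ind hνch ?_
      rw [hβT]
      show β ((x : Hh) : A) = β ((1 : Hh) : A)
      rw [Subgroup.coe_one]
      refine hβker _ ((QuotientGroup.eq_one_iff _).1 ?_)
      exact congrArg Subtype.val (MonoidHom.mem_ker.1 hx))
  have hνind : ∀ x : Hh, indFun Tb νb (qH x) = βb (qH x) := by
    intro x
    rw [← indFun_comap qH hqs Tb νb x,
      indFun_eq_of_eq hTc (g := ν) (fun s t hst => by
        rw [← hνbe t]
        exact congrArg νb (Subtype.ext (congrArg qH hst))), hβT]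
    exact (hβbe (x : A)).symm
  set T' : Subgroup A := Tb.comap (QuotientGroup.mk' Kh) with hT'
  have hβind : indFun T' (fun x => νb ⟨QuotientGroup.mk' Kh x, x.2⟩) = β := by
    funext y
    refine (indFun_comap (QuotientGroup.mk' Kh) (QuotientGroup.mk'_surjective Kh) Tb νb y).trans ?_
    obtain ⟨x, hx⟩ := hqs (QuotientGroup.mk' Kh y)
    rw [← hx, hνind x, hx]
    exact hβbe y
  have hT'top : T' ≠ ⊤ := fun h => hTtop (by
    have h1 : Tb = ⊤ := by
      rw [← Subgroup.map_comap_eq_self_of_surjective (QuotientGroup.mk'_surjective Kh) Tb, ← hT', h,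
        Subgroup.map_top_of_surjective _ (QuotientGroup.mk'_surjective Kh)]
    rw [← hTc, h1, Subgroup.comap_top])
  have hKT' : K.comap π ≤ T' := by
    intro x hx
    have hker : (Ext.coverEmb K ρ ⟨π x, hx⟩)⁻¹ * x ∈ π.ker := by
      rw [MonoidHom.mem_ker, map_mul, map_inv]
      exact inv_mul_eq_one.2 (Ext.coverFst_emb K ρ ⟨π x, hx⟩)
    set x' : A := (Ext.coverEmb K ρ ⟨π x, hx⟩)⁻¹ * x with hx'
    have hx'H : x' ∈ Hh := by
      show π x' ∈ H
      rw [MonoidHom.mem_ker.1 hker]; exact one_mem _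
    show QuotientGroup.mk' Kh x ∈ Tb
    refine ⟨⟨x', hx'H⟩, hNT (show π x' ∈ Q by rw [MonoidHom.mem_ker.1 hker]; exact one_mem _), ?_⟩
    show (x' : A ⧸ Kh) = (x : A ⧸ Kh)
    rw [hx', QuotientGroup.mk_mul, (QuotientGroup.eq_one_iff (N := Kh) _).2 (inv_mem ⟨_, rfl⟩),
      one_mul]
  haveI : (K.comap π).Normal := hKn.comap π
  letI := Fintype.ofFinite T'
  refine IH (A := A) (K.comap π) ?_ ?_ χh hχhi ?_ T' hT'top hKT'
    ((fun x : T' => E x) * fun x : T' => νb ⟨QuotientGroup.mk' Kh x, x.2⟩)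
    (IsChar.mul (IsChar.res (IsIrr.isCharacter hEi) T')
      (IsChar.comp ((QuotientGroup.mk' Kh).subgroupComap Tb) hνb)) ?_
  · rw [Subgroup.index_comap_of_surjective K hπs]
    refine lt_of_lt_of_le ?_ hidx
    refine Subgroup.index_strictAnti (lt_of_le_of_ne hLK fun h => ?_)
    rw [← h] at hKcard
    have := Nat.eq_of_mul_eq_mul_left Nat.card_pos
      (show Nat.card L * 1 = Nat.card L * p ^ a by rw [mul_one]; exact hKcard)
    omega
  · exact isSolvable_comap π (Berger.isSolvable_quotient_of_le hsolv hLK)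
  · exact homog_comap π hπs (hhom.mono hLK)
  · rw [← Brauer.mul_indFun T' _ hEc, hβind, hEβ]

end Cfsg.Agent.Char.QPrim
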