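import Mathlib.GroupTheory.SpecificGroups.Quaternion
import Cfsg.Agent.Lib.Char.DihBlockGroup
import Cfsg.Agent.Lib.Char.Induce
import Cfsg.Agent.Lib.Char.Constituent
import Cfsg.Agent.Lib.Char.StarWeights

/-!
Generalized quaternion 2-subgroups: rotations, the classes of the other elements, the quotient by
the involution, and the functions which agree with the induced linear characters on rotations and
are constant elsewhere.
-/

namespace Cfsg.Agent.Char.QuatBlk

open Cfsg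

set_option linter.unusedSectionVars false
set_option linter.style.haveILetI false
set_option maxHeartbeats 800000

universe u

variable {G : Type u} [Group G]

/-- A generalized quaternion subgroup of order `4 * m` with rotation `r`, where `m = 2 ^ t`. -/
structure Qu (P : Subgroup G) (r : G) (t : ℕ) : Prop where
  pos : 1 ≤ t
  order : orderOf r = 2 ^ (t + 1)
  mem : r ∈ P
  card : Nat.card P = 2 ^ (t + 2)
  refl : ∀ w ∈ P, w ∉ Subgroup.zpowers r → w * w = r ^ 2 ^ t ∧ w * r * w⁻¹ = r⁻¹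
  exists_refl : ∃ s ∈ P, s ∉ Subgroup.zpowers r

theorem exists_qu [Finite G] {D : Subgroup G} {n : ℕ} (hn : 3 ≤ n)
    (h : Nonempty (D ≃* QuaternionGroup (2 ^ (n - 2)))) : ∃ r, Qu D r (n - 2) := by
  obtain ⟨φ⟩ := h
  set m := 2 ^ (n - 2) with hm
  haveI : NeZero m := ⟨pow_ne_zero _ two_ne_zero⟩
  haveI : NeZero (2 * m) := ⟨by have := Nat.two_pow_pos (n - 2); omega⟩
  set u : D := φ.symm (QuaternionGroup.a 1) with hu
  have hmem : ∀ w : D, (w : G) ∈ Subgroup.zpowers (u : G) ↔ ∃ i, φ w = QuaternionGroup.a i := by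
    intro w
    constructor
    · intro hk
      obtain ⟨k, hk⟩ := (isOfFinOrder_of_finite (u : G)).mem_powers_iff_mem_zpowers.2 hk
      refine ⟨(k : ZMod (2 * m)), ?_⟩
      have e : u ^ k = w := Subtype.ext (by simpa using hk)
      rw [← e, map_pow, hu, MulEquiv.apply_symm_apply, QuaternionGroup.a_one_pow]
    · rintro ⟨i, hi⟩
      refine ⟨(i.val : ℤ), ?_⟩
      have e : u ^ i.val = w := φ.injective (by
        rw [map_pow, hu, MulEquiv.apply_symm_apply, QuaternionGroup.a_one_pow, hi,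
          ZMod.natCast_zmod_val])
      show (u : G) ^ (i.val : ℤ) = _
      rw [zpow_natCast, ← e]
      simp
  refine ⟨(u : G), by omega, ?_, u.2, ?_, fun w hw hwr => ?_, ?_⟩
  · rw [Subgroup.orderOf_coe, hu, MulEquiv.orderOf_eq, QuaternionGroup.orderOf_a_one, hm,
      pow_succ']
  · rw [Nat.card_congr φ.toEquiv, Nat.card_eq_fintype_card, QuaternionGroup.card, hm, pow_add]
    norm_num [mul_comm]
  · obtain ⟨i, hi⟩ : ∃ i, φ ⟨w, hw⟩ = QuaternionGroup.xa i := by
      rcases h : φ ⟨w, hw⟩ with i | i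
      · exact absurd ((hmem ⟨w, hw⟩).2 ⟨i, h⟩) hwr
      · exact ⟨i, rfl⟩
    have e1 : (⟨w, hw⟩ * ⟨w, hw⟩ : D) = u ^ m := φ.injective (by
      rw [map_mul, hi, ← pow_two, QuaternionGroup.xa_sq, map_pow, hu, MulEquiv.apply_symm_apply,
        QuaternionGroup.a_one_pow])
    have e2 : (⟨w, hw⟩ * u : D) = u⁻¹ * ⟨w, hw⟩ := φ.injective (by
      rw [map_mul, map_mul, map_inv, hi, hu, MulEquiv.apply_symm_apply,
        QuaternionGroup.xa_mul_a, show (QuaternionGroup.a (1 : ZMod (2 * m)))⁻¹ =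
          QuaternionGroup.a (-1) from rfl, QuaternionGroup.a_mul_xa, sub_neg_eq_add])
    refine ⟨by simpa using congrArg Subtype.val e1, mul_inv_eq_iff_eq_mul.2 ?_⟩
    simpa using congrArg Subtype.val e2
  · refine ⟨(φ.symm (QuaternionGroup.xa 0) : G), SetLike.coe_mem _, fun h => ?_⟩
    obtain ⟨i, hi⟩ := (hmem _).1 h
    rw [MulEquiv.apply_symm_apply] at hi
    cases hi

/-- The standard root of unity of order `2 ^ (t + 1)`. -/
noncomputable def zeta (t : ℕ) : ℂ :=
  Complex.exp (2 * Real.pi * Complex.I / ((2 ^ (t + 1) : ℕ) : ℂ))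

theorem zeta_prim (t : ℕ) : IsPrimitiveRoot (zeta t) (2 ^ (t + 1)) :=
  Complex.isPrimitiveRoot_exp _ (pow_ne_zero _ two_ne_zero)

theorem zeta_half (t : ℕ) : zeta t ^ 2 ^ t = -1 :=
  ((zeta_prim t).pow (Nat.two_pow_pos _) (pow_succ 2 t)).eq_neg_one_of_two_right

theorem zeta_congr {t a b : ℕ} (h : a ≡ b [MOD 2 ^ (t + 1)]) : zeta t ^ a = zeta t ^ b := by
  rw [← pow_mod_orderOf (zeta t) a, ← pow_mod_orderOf (zeta t) b, ← (zeta_prim t).eq_orderOf, h]

/-- Twice the cosine. -/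
noncomputable def cs (t l k : ℕ) : ℂ := zeta t ^ (l * k) + (zeta t ^ (l * k))⁻¹

theorem cs_congr {t l a b : ℕ} (h : a ≡ b [MOD 2 ^ (t + 1)]) : cs t l a = cs t l b := by
  simp only [cs, zeta_congr (h.mul_left l)]

theorem cs_neg {t l a b : ℕ} (h : 2 ^ (t + 1) ∣ a + b) : cs t l a = cs t l b := by
  have e : zeta t ^ (l * a) * zeta t ^ (l * b) = 1 := by
    rw [← pow_add, ← mul_add]
    obtain ⟨c, hc⟩ := h
    rw [hc, show l * (2 ^ (t + 1) * c) = 2 ^ (t + 1) * (l * c) by ring, pow_mul,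
      (zeta_prim t).pow_eq_one, one_pow]
  rw [cs, cs, eq_inv_of_mul_eq_one_left e, inv_inv, add_comm]

/-- The value on the elements of order four. -/
theorem cs_quarter (s l : ℕ) :
    (Odd l → cs (s + 1) l (2 ^ s) = 0) ∧
      ∀ e, l = 2 * e → cs (s + 1) l (2 ^ s) = ((2 * (-1) ^ e : ℤ) : ℂ) := by
  have h4 := zeta_half (s + 1)
  constructor
  · rintro ⟨e, rfl⟩
    have h2 : (zeta (s + 1) ^ ((2 * e + 1) * 2 ^ s)) ^ 2 = -1 := by
      rw [← pow_mul, show (2 * e + 1) * 2 ^ s * 2 = 2 ^ (s + 1) * (2 * e + 1) by rw [pow_succ]; ring,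
        pow_mul, h4, Odd.neg_one_pow ⟨e, rfl⟩]
    set y := zeta (s + 1) ^ ((2 * e + 1) * 2 ^ s) with hy
    have h0 : y ≠ 0 := fun h => by rw [h] at h2; norm_num at h2
    show y + y⁻¹ = 0
    field_simp
    linear_combination h2
  · rintro e rfl
    rw [cs, show 2 * e * 2 ^ s = 2 ^ (s + 1) * e by rw [pow_succ]; ring, pow_mul, h4, ← inv_pow,
      inv_neg, inv_one]
    push_cast
    ring

namespace Qu

variable {P : Subgroup G} {r : G} {t : ℕ} (h : Qu P r t)
include h

theorem pow_mem' (i : ℕ) : r ^ i ∈ P := P.pow_mem h.mem i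

theorem two_le : 2 ≤ 2 ^ t := by
  calc 2 = 2 ^ 1 := (pow_one 2).symm
    _ ≤ 2 ^ t := Nat.pow_le_pow_right two_pos h.pos

theorem pow_eq_one_iff {i : ℕ} : r ^ i = 1 ↔ 2 ^ (t + 1) ∣ i := by
  rw [← h.order, orderOf_dvd_iff_pow_eq_one]

theorem pow_inj {i j : ℕ} (hij : r ^ i = r ^ j) : i ≡ j [MOD 2 ^ (t + 1)] := by
  rw [← h.order]
  exact pow_eq_pow_iff_modEq.1 hij

theorem z_ne_one : r ^ 2 ^ t ≠ 1 := fun hc => by
  have := Nat.le_of_dvd (Nat.two_pow_pos t) (h.pow_eq_one_iff.1 hc)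
  rw [pow_succ] at this
  have := Nat.two_pow_pos t
  omega

theorem z_mul_self : r ^ 2 ^ t * r ^ 2 ^ t = 1 := by
  rw [← pow_add, ← two_mul, ← pow_succ', ← h.order, pow_orderOf_eq_one]

theorem z_inv : (r ^ 2 ^ t)⁻¹ = r ^ 2 ^ t := inv_eq_of_mul_eq_one_right h.z_mul_self

theorem refl_pow {w : G} (hw : w ∈ P) (hwr : w ∉ Subgroup.zpowers r) (i : ℕ) :
    w * r ^ i * w⁻¹ = (r ^ i)⁻¹ := by
  rw [← MulAut.conj_apply, map_pow, MulAut.conj_apply, (h.refl w hw hwr).2, inv_pow]

theorem refl_sq_ne {w : G} (hw : w ∈ P) (hwr : w ∉ Subgroup.zpowers r) : w * w ≠ 1 := by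
  rw [(h.refl w hw hwr).1]
  exact h.z_ne_one

theorem refl_order {w : G} (hw : w ∈ P) (hwr : w ∉ Subgroup.zpowers r) : orderOf w = 4 := by
  refine orderOf_eq_prime_pow (p := 2) (n := 1) (fun hc => h.refl_sq_ne hw hwr ?_) ?_
  · rwa [pow_one, pow_two] at hc
  · rw [show 2 ^ (1 + 1) = 2 * 2 from rfl, pow_mul, pow_two, pow_two, (h.refl w hw hwr).1,
      h.z_mul_self]

theorem refl_inv {w : G} (hw : w ∈ P) (hwr : w ∉ Subgroup.zpowers r) :
    w⁻¹ = r ^ 2 ^ t * w := by
  refine inv_eq_of_mul_eq_one_right ?_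
  rw [← mul_assoc, ← (h.refl w hw hwr).1, ← mul_assoc, mul_assoc (w * w), (h.refl w hw hwr).1,
    h.z_mul_self]

theorem z_central {w : G} [Finite G] (hw : w ∈ P) : w * r ^ 2 ^ t = r ^ 2 ^ t * w := by
  by_cases hwr : w ∈ Subgroup.zpowers r
  · obtain ⟨i, rfl⟩ := (isOfFinOrder_of_finite r).mem_powers_iff_mem_zpowers.2 hwr
    show r ^ i * r ^ 2 ^ t = r ^ 2 ^ t * r ^ i
    rw [← pow_add, ← pow_add, add_comm]
  · have h1 := h.refl_pow hw hwr (2 ^ t)
    rw [h.z_inv] at h1
    exact mul_inv_eq_iff_eq_mul.1 h1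

variable [Finite G]

theorem mem_cases {x : G} (hx : x ∈ P) :
    (∃ i < 2 ^ (t + 1), x = r ^ i) ∨ x ∉ Subgroup.zpowers r := by
  by_cases hxr : x ∈ Subgroup.zpowers r
  · obtain ⟨i, rfl⟩ := (isOfFinOrder_of_finite r).mem_powers_iff_mem_zpowers.2 hxr
    refine Or.inl ⟨i % 2 ^ (t + 1), Nat.mod_lt _ (Nat.two_pow_pos _), ?_⟩
    show r ^ i = _
    rw [← h.order, pow_mod_orderOf]
  · exact Or.inr hxr

/-- The only involution. -/
theorem eq_z {x : G} (hx : x ∈ P) (hxx : x * x = 1) (hx1 : x ≠ 1) : x = r ^ 2 ^ t := by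
  rcases h.mem_cases hx with ⟨i, hi, rfl⟩ | hxr
  · rw [← pow_add, h.pow_eq_one_iff] at hxx
    obtain ⟨c, hc⟩ := hxx
    rcases c with _ | _ | c
    · exact absurd (by rw [show i = 0 by omega, pow_zero]) hx1
    · rw [pow_succ] at hc
      congr 1
      omega
    · exfalso
      have : 2 ^ (t + 1) * 2 ≤ 2 ^ (t + 1) * (c + 1 + 1) := Nat.mul_le_mul_left _ (by omega)
      omega
  · exact absurd hxx (h.refl_sq_ne hx hxr)

theorem z_mem_zpowers {x : G} (hx : x ∈ P) (hx1 : x ≠ 1) : r ^ 2 ^ t ∈ Subgroup.zpowers x := by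
  obtain ⟨k, -, hk⟩ := (Nat.dvd_prime_pow Nat.prime_two).1
    (h.card ▸ Subgroup.orderOf_dvd_natCard (s := P) hx)
  rcases k with _ | k
  · exact absurd (orderOf_eq_one_iff.1 (by simpa using hk)) hx1
  refine h.eq_z (P.pow_mem hx (2 ^ k)) ?_ ?_ ▸ pow_mem (Subgroup.mem_zpowers x) (2 ^ k)
  · rw [← pow_add, ← two_mul, ← pow_succ', ← hk, pow_orderOf_eq_one]
  · intro e
    have h1 := Nat.le_of_dvd (Nat.two_pow_pos k) (hk ▸ orderOf_dvd_of_pow_eq_one e)
    rw [pow_succ] at h1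
    have := Nat.two_pow_pos k
    omega

theorem mem_zpowers_of_order {x : G} (hx : x ∈ P) (h4 : ¬ orderOf x ∣ 4) :
    x ∈ Subgroup.zpowers r := by
  by_contra hc
  exact h4 (h.refl_order hx hc ▸ dvd_rfl)

theorem centralizer_rotation {x w : G} (hx : x ∈ Subgroup.zpowers r) (hxx : x * x ≠ 1)
    (hw : w ∈ P) (hc : w * x = x * w) : w ∈ Subgroup.zpowers r := by
  by_contra hwr
  obtain ⟨i, rfl⟩ := (isOfFinOrder_of_finite r).mem_powers_iff_mem_zpowers.2 hx
  have h1 := h.refl_pow hw hwr i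
  simp only at hc hxx
  rw [hc, mul_inv_cancel_right] at h1
  exact hxx (by nth_rw 1 [h1]; exact inv_mul_cancel _)

theorem centralizer_refl {x w : G} (hx : x ∈ P) (hxr : x ∉ Subgroup.zpowers r)
    (hw : w ∈ P) (hc : w * x = x * w) : w ∈ Subgroup.zpowers x := by
  have key : ∀ v ∈ P, v ∈ Subgroup.zpowers r → v * x = x * v → v ∈ Subgroup.zpowers x := by
    intro v hvP hv hvc
    have h2 : v * v = 1 := by
      by_contra hvv
      exact hxr (h.centralizer_rotation hv hvv hx hvc.symm)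
    by_cases hv1 : v = 1
    · exact hv1 ▸ one_mem _
    · rw [h.eq_z hvP h2 hv1]
      exact h.z_mem_zpowers hx fun e => hxr (e ▸ one_mem _)
  by_cases hwr : w ∈ Subgroup.zpowers r
  · exact key w hw hwr hc
  · have hwx : w * x ∈ Subgroup.zpowers r := by
      by_contra hn
      obtain ⟨-, h2⟩ := h.refl _ (mul_mem hw hx) hn
      have e : w * x * r * (w * x)⁻¹ = r := by
        rw [show w * x * r * (w * x)⁻¹ = w * (x * r * x⁻¹) * w⁻¹ by group, (h.refl x hx hxr).2,
          show w * r⁻¹ * w⁻¹ = (w * r * w⁻¹)⁻¹ by group, (h.refl w hw hwr).2, inv_inv]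
      rw [e, eq_inv_iff_mul_eq_one, ← pow_two, h.pow_eq_one_iff] at h2
      have h3 := Nat.le_of_dvd two_pos h2
      rw [pow_succ] at h3
      have := h.two_le
      omega
    have h1 := key _ (mul_mem hw hx) hwx (by rw [← mul_assoc x, ← hc, mul_assoc w x x])
    have h2 := mul_mem h1 (inv_mem (Subgroup.mem_zpowers x))
    rwa [mul_inv_cancel_right] at h2

/-- The centralizer of an element of order more than two is cyclic of order at most `2 m`. -/
theorem centralizer_cyclic {x : G} (hx : x ∈ P) (hxx : x * x ≠ 1) :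
    ∃ y ∈ P, (∀ w ∈ P, w * x = x * w → w ∈ Subgroup.zpowers y) ∧ orderOf y ≤ 2 ^ (t + 1) ∧
      (x ∉ Subgroup.zpowers r → orderOf y = 4) := by
  by_cases hxr : x ∈ Subgroup.zpowers r
  · exact ⟨r, h.mem, fun w hw hc => h.centralizer_rotation hxr hxx hw hc, h.order.le,
      fun hn => absurd hxr hn⟩
  · refine ⟨x, hx, fun w hw hc => h.centralizer_refl hx hxr hw hc, ?_,
      fun _ => h.refl_order hx hxr⟩
    rw [h.refl_order hx hxr, pow_succ]
    have := h.two_le
    omega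

/-- Every element is inverted inside the group. -/
theorem exists_inverts {x : G} (hx : x ∈ P) : ∃ w ∈ P, w * x * w⁻¹ = x⁻¹ := by
  rcases h.mem_cases hx with ⟨i, -, rfl⟩ | hxr
  · obtain ⟨s, hs, hsr⟩ := h.exists_refl
    exact ⟨s, hs, h.refl_pow hs hsr i⟩
  · obtain ⟨e, he⟩ : ∃ e, t = e + 1 := ⟨t - 1, by have := h.pos; omega⟩
    refine ⟨r ^ 2 ^ e, h.pow_mem' _, ?_⟩
    have h1 := h.refl_pow hx hxr (2 ^ e)
    have h2 : x * (r ^ 2 ^ e)⁻¹ = r ^ 2 ^ e * x :=
      mul_inv_eq_iff_eq_mul.1 (by rw [← conj_inv, h1, inv_inv])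
    rw [mul_assoc, h2, ← mul_assoc, ← pow_add, ← two_mul, ← pow_succ', ← he, h.refl_inv hx hxr]

/-- Up to conjugation in the group there are two classes outside the rotations. -/
theorem refl_cases {s : G} (hs : s ∈ P) (hsr : s ∉ Subgroup.zpowers r) {v : G} (hv : v ∈ P)
    (hvr : v ∉ Subgroup.zpowers r) :
    (∃ w ∈ P, w * s * w⁻¹ = v) ∨ ∃ w ∈ P, w * (r * s) * w⁻¹ = v := by
  have hvs : v * s⁻¹ ∈ Subgroup.zpowers r := by
    by_contra hn
    obtain ⟨-, h2⟩ := h.refl _ (mul_mem hv (inv_mem hs)) hn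
    have e : v * s⁻¹ * r * (v * s⁻¹)⁻¹ = r := by
      have e1 : s⁻¹ * r * s = r⁻¹ := by
        calc s⁻¹ * r * s = s⁻¹ * (s * r * s⁻¹)⁻¹ * s := by rw [(h.refl s hs hsr).2, inv_inv]
          _ = r⁻¹ := by group
      rw [show v * s⁻¹ * r * (v * s⁻¹)⁻¹ = v * (s⁻¹ * r * s) * v⁻¹ by group, e1,
        show v * r⁻¹ * v⁻¹ = (v * r * v⁻¹)⁻¹ by group, (h.refl v hv hvr).2, inv_inv]
    rw [e, eq_inv_iff_mul_eq_one, ← pow_two, h.pow_eq_one_iff] at h2
    have h3 := Nat.le_of_dvd two_pos h2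
    rw [pow_succ] at h3
    have := h.two_le
    omega
  obtain ⟨k, hk⟩ := (isOfFinOrder_of_finite r).mem_powers_iff_mem_zpowers.2 hvs
  have hv' : v = r ^ k * s := by rw [show r ^ k = v * s⁻¹ from hk, inv_mul_cancel_right]
  have hconj : ∀ j : ℕ, ∀ y : G, y * r ^ j * y⁻¹ = (r ^ j)⁻¹ →
      r ^ j * y * (r ^ j)⁻¹ = r ^ (2 * j) * y := fun j y hy => by
    have h3 : y * (r ^ j)⁻¹ = r ^ j * y :=
      mul_inv_eq_iff_eq_mul.1 (by rw [← conj_inv, hy, inv_inv])
    rw [mul_assoc, h3, ← mul_assoc, ← pow_add, two_mul]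
  rcases Nat.even_or_odd k with ⟨j, rfl⟩ | ⟨j, rfl⟩
  · refine Or.inl ⟨r ^ j, h.pow_mem' j, ?_⟩
    rw [hconj j s (h.refl_pow hs hsr j), hv', two_mul]
  · refine Or.inr ⟨r ^ j, h.pow_mem' j, ?_⟩
    have hrs : r * s ∉ Subgroup.zpowers r := fun hc => hsr (by
      simpa using mul_mem (inv_mem (Subgroup.mem_zpowers r)) hc)
    rw [hconj j _ (h.refl_pow (mul_mem h.mem hs) hrs j), hv', pow_succ]
    group

/-- The exponent: that of the rotation, and a quarter outside. -/
noncomputable def ex (_h : Qu P r t) (x : G) : ℕ := by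
  classical
  exact if hx : ∃ i, r ^ i = x then hx.choose else 2 ^ (t - 1)

theorem ex_pow (i : ℕ) : h.ex (r ^ i) ≡ i [MOD 2 ^ (t + 1)] := by
  classical
  have hx : ∃ j, r ^ j = r ^ i := ⟨i, rfl⟩
  rw [ex, dif_pos hx]
  exact h.pow_inj hx.choose_spec

theorem ex_refl {x : G} (hxr : x ∉ Subgroup.zpowers r) : h.ex x = 2 ^ (t - 1) := by
  classical
  rw [ex, dif_neg]
  rintro ⟨i, rfl⟩
  exact hxr (pow_mem (Subgroup.mem_zpowers r) i)

/-- All elements of order four have one value. -/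
theorem cs_of_four (l : ℕ) {x : G} (hx : x ∈ P) (h4 : orderOf x ∣ 4) (hxx : x * x ≠ 1) :
    cs t l (h.ex x) = cs t l (2 ^ (t - 1)) := by
  rcases h.mem_cases hx with ⟨i, hi, rfl⟩ | hxr
  · rw [cs_congr (h.ex_pow i)]
    obtain ⟨e, rfl⟩ : ∃ e, t = e + 1 := ⟨t - 1, by have := h.pos; omega⟩
    rw [Nat.add_sub_cancel]
    rw [orderOf_dvd_iff_pow_eq_one, ← pow_mul, h.pow_eq_one_iff] at h4
    rw [← pow_add, Ne, h.pow_eq_one_iff] at hxx
    obtain ⟨c, hc⟩ := h4
    have e1 : 2 ^ (e + 1 + 1) = 4 * 2 ^ e := by rw [pow_succ, pow_succ]; ring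
    have hc4 : c < 4 := by
      by_contra hc4
      push Not at hc4
      have : 2 ^ (e + 1 + 1) * 4 ≤ 2 ^ (e + 1 + 1) * c := Nat.mul_le_mul_left _ hc4
      omega
    have hi' : i = c * 2 ^ e := by
      rw [e1] at hc
      have : i * 4 = c * 2 ^ e * 4 := by rw [hc]; ring
      exact Nat.eq_of_mul_eq_mul_right four_pos this
    interval_cases c
    · exact absurd ⟨0, by omega⟩ hxx
    · rw [hi', one_mul]
    · exact absurd ⟨1, by omega⟩ hxx
    · exact cs_neg ⟨1, by omega⟩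
  · rw [h.ex_refl hxr]

theorem mul_mem_iff (x y : P) :
    ((x * y : P) : G) ∈ Subgroup.zpowers r ↔
      ((x : G) ∈ Subgroup.zpowers r ↔ (y : G) ∈ Subgroup.zpowers r) := by
  have hidx : ((Subgroup.zpowers r).subgroupOf P).index = 2 := by
    have h1 := ((Subgroup.zpowers r).subgroupOf P).card_mul_index
    rw [Nat.card_congr (Subgroup.subgroupOfEquivOfLe (Subgroup.zpowers_le.2 h.mem)).toEquiv,
      Nat.card_zpowers, h.order, h.card, pow_succ 2 (t + 1)] at h1
    exact Nat.eq_of_mul_eq_mul_left (Nat.two_pow_pos _) h1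
  exact Subgroup.mul_mem_iff_of_index_two hidx

/-- The function on the group which is the cosine on rotations and constant elsewhere is a
generalized character. -/
theorem genChar_cs (l : ℕ) [Fintype G] :
    IsGeneralizedCharacter P (fun x : P => cs t l (h.ex (x : G))) := by
  classical
  haveI := Fintype.ofFinite P
  set H := (Subgroup.zpowers r).subgroupOf P with hH
  have hcardH : Nat.card H = 2 ^ (t + 1) := by
    rw [Nat.card_congr (Subgroup.subgroupOfEquivOfLe (Subgroup.zpowers_le.2 h.mem)).toEquiv,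
      Nat.card_zpowers, h.order]
  have hexH : ∀ x : H, r ^ h.ex ((x : P) : G) = ((x : P) : G) := by
    intro x
    obtain ⟨i, hi⟩ := (isOfFinOrder_of_finite r).mem_powers_iff_mem_zpowers.2
      (Subgroup.mem_subgroupOf.1 x.2)
    simp only at hi
    rw [← hi, pow_eq_pow_iff_modEq, h.order]
    exact h.ex_pow i
  let lam : H →* ℂ :=
    { toFun := fun x => zeta t ^ (l * h.ex ((x : P) : G))
      map_one' := by
        have h1 := h.ex_pow 0
        rw [pow_zero] at h1
        show zeta t ^ (l * h.ex ((1 : G))) = 1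
        rw [zeta_congr (h1.mul_left l), mul_zero, pow_zero]
      map_mul' := fun x y => by
        rw [← pow_add, ← mul_add]
        refine zeta_congr (Nat.ModEq.mul_left l ?_)
        rw [← h.order, ← pow_eq_pow_iff_modEq, pow_add, hexH, hexH, hexH]
        rfl }
  have hlam : IsCharacter H (fun x => lam x) := by
    simpa using Star.isCharacter_hom lam.toHomUnits
  let sgn : P →* ℂˣ :=
    { toFun := fun x => if (x : G) ∈ Subgroup.zpowers r then 1 else -1
      map_one' := if_pos (one_mem _)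
      map_mul' := fun x y => by
        have hxy := h.mul_mem_iff x y
        show (if ((x * y : P) : G) ∈ Subgroup.zpowers r then (1 : ℂˣ) else -1) = _ * _
        by_cases hx : (x : G) ∈ Subgroup.zpowers r <;>
          by_cases hy : (y : G) ∈ Subgroup.zpowers r <;>
          simp only [hx, hy, iff_true, iff_false, not_false_eq_true, not_true_eq_false] at hxy <;>
          simp only [hx, hy, hxy, if_true, if_false, mul_one, one_mul, neg_mul_neg] }
  have hone : IsCharacter P (fun _ : P => (1 : ℂ)) := by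
    simpa using Star.isCharacter_hom (1 : P →* ℂˣ)
  set v := cs t l (2 ^ (t - 1)) with hv
  obtain ⟨c, hc⟩ : ∃ c : ℤ, v = (2 * c : ℤ) := by
    obtain ⟨e, he⟩ : ∃ e, t = e + 1 := ⟨t - 1, by have := h.pos; omega⟩
    rw [hv, he, Nat.add_sub_cancel]
    rcases Nat.even_or_odd l with ⟨j, hj⟩ | hl
    · exact ⟨(-1) ^ j, (cs_quarter e l).2 j (by omega)⟩
    · exact ⟨0, by rw [(cs_quarter e l).1 hl]; simp⟩
  have e : (fun x : P => cs t l (h.ex (x : G))) = indFun H (fun x => lam x) +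
      (((c : ℤ) : ℂ) • ((fun _ : P => (1 : ℂ)) - fun x => (sgn x : ℂ))) := by
    funext x
    simp only [Pi.add_apply, Pi.smul_apply, Pi.sub_apply, smul_eq_mul]
    by_cases hx : (x : G) ∈ Subgroup.zpowers r
    · obtain ⟨i, hi⟩ := (isOfFinOrder_of_finite r).mem_powers_iff_mem_zpowers.2 hx
      simp only at hi
      rw [show (sgn x : ℂ) = 1 by simp [sgn, hx], sub_self, mul_zero, add_zero, indFun]
      have hmemH : x ∈ H := Subgroup.mem_subgroupOf.2 hx
      have hterm : ∀ y : P, extendByZero H (fun x => lam x) (y⁻¹ * x * y) =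
          if y ∈ H then zeta t ^ (l * h.ex (x : G)) else (zeta t ^ (l * h.ex (x : G)))⁻¹ := by
        intro y
        by_cases hy : y ∈ H
        · have e1 : y⁻¹ * x * y = x := by
            obtain ⟨j, hj⟩ := (isOfFinOrder_of_finite r).mem_powers_iff_mem_zpowers.2
              (Subgroup.mem_subgroupOf.1 hy)
            refine Subtype.ext ?_
            simp only at hj
            show (y : G)⁻¹ * (x : G) * (y : G) = (x : G)
            rw [← hi, ← hj, mul_assoc, ← pow_add, add_comm, pow_add, inv_mul_cancel_left]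
          rw [e1, if_pos hy, extendByZero_of_mem _ hmemH]
          rfl
        · have hy' : (y : G) ∉ Subgroup.zpowers r := fun hc => hy (Subgroup.mem_subgroupOf.2 hc)
          have e1 : ((y⁻¹ * x * y : P) : G) = (x : G)⁻¹ := by
            show (y : G)⁻¹ * (x : G) * (y : G) = _
            have h1 := h.refl_pow y.2 hy' i
            rw [← hi]
            calc (y : G)⁻¹ * r ^ i * y = ((y : G)⁻¹ * (r ^ i)⁻¹ * y)⁻¹ := by group
              _ = _ := by rw [show (y : G)⁻¹ * (r ^ i)⁻¹ * y = r ^ i by rw [← h1]; group]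
          have hm : y⁻¹ * x * y ∈ H := Subgroup.mem_subgroupOf.2 (e1 ▸ inv_mem hx)
          rw [if_neg hy, extendByZero_of_mem _ hm]
          have e2 : lam ⟨y⁻¹ * x * y, hm⟩ * lam ⟨x, hmemH⟩ = 1 := by
            rw [← map_mul, show (⟨y⁻¹ * x * y, hm⟩ * ⟨x, hmemH⟩ : H) = 1 from
              Subtype.ext (Subtype.ext (by
                show ((y⁻¹ * x * y : P) : G) * (x : G) = 1
                rw [e1, inv_mul_cancel])), map_one]
          exact eq_inv_of_mul_eq_one_left e2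
      rw [Finset.sum_congr rfl fun y _ => hterm y, Finset.sum_ite, Finset.sum_const,
        Finset.sum_const, nsmul_eq_mul, nsmul_eq_mul]
      have hc1 : (Finset.univ.filter fun y : P => y ∈ H).card = 2 ^ (t + 1) := by
        rw [← hcardH, Nat.card_eq_fintype_card, Fintype.card_subtype]
      have hc2 : (Finset.univ.filter fun y : P => ¬ y ∈ H).card = 2 ^ (t + 1) := by
        have h1 := Finset.card_filter_add_card_filter_not (s := (Finset.univ : Finset P))
          (fun y => y ∈ H)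
        rw [hc1, Finset.card_univ, ← Nat.card_eq_fintype_card, h.card, pow_succ 2 (t + 1)] at h1
        omega
      rw [hc1, hc2, hcardH, cs, ← mul_add, Nat.cast_pow, Nat.cast_ofNat,
        inv_mul_cancel_left₀ (pow_ne_zero _ two_ne_zero)]
    · rw [show (sgn x : ℂ) = -1 by simp [sgn, hx], h.ex_refl hx, ← hv, hc,
        indFun_eq_zero_of_not_conj]
      · push_cast; ring
      · intro y hy
        exfalso
        rw [Subgroup.mem_subgroupOf] at hy
        refine hx ?_
        have h1 := (h.mul_mem_iff (y⁻¹ * x) y).1 hy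
        have h2 := h.mul_mem_iff y⁻¹ x
        have h3 : ((y⁻¹ : P) : G) ∈ Subgroup.zpowers r ↔ (y : G) ∈ Subgroup.zpowers r := by
          simp
        tauto
  rw [e]
  exact IsGenChar.add (IsGenChar.of_isCharacter (isCharacter_indFun H hlam))
    (IsGenChar.zsmul (IsGenChar.sub (IsGenChar.of_isCharacter hone)
      (IsGenChar.of_isCharacter (Star.isCharacter_hom sgn))) c)

/-- The quotient by the involution is dihedral. -/
theorem dh_quotient [(Subgroup.zpowers (r ^ 2 ^ t)).Normal] (ht : 2 ≤ t) :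
    DihBlk.Dh (P.map (QuotientGroup.mk' (Subgroup.zpowers (r ^ 2 ^ t))))
      ((r : G) : G ⧸ Subgroup.zpowers (r ^ 2 ^ t)) (t - 1) := by
  obtain ⟨e, rfl⟩ : ∃ e, t = e + 1 := ⟨t - 1, by omega⟩
  set z := r ^ 2 ^ (e + 1) with hz
  set Z := Subgroup.zpowers z with hZ
  have hzpow : ∀ {i}, 2 ^ (e + 1) ∣ i → ((r ^ i : G) : G ⧸ Z) = 1 := by
    rintro i ⟨c, rfl⟩
    rw [QuotientGroup.eq_one_iff, pow_mul]
    exact pow_mem (Subgroup.mem_zpowers z) c
  have hzeq : ∀ {v : G}, v ∈ Z → v = 1 ∨ v = z := by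
    intro v hv
    obtain ⟨k, rfl⟩ := (isOfFinOrder_of_finite z).mem_powers_iff_mem_zpowers.2 hv
    have h1 : z ^ k = z ^ (k % 2) := by
      conv_lhs => rw [← Nat.mod_add_div k 2, pow_add, pow_mul, pow_two, hz, h.z_mul_self,
        one_pow, mul_one]
    simp only
    rcases Nat.mod_two_eq_zero_or_one k with h2 | h2
    · exact Or.inl (by rw [h1, h2, pow_zero])
    · exact Or.inr (by rw [h1, h2, pow_one])
  refine ⟨by omega, ?_, ⟨r, h.mem, rfl⟩, ?_, ?_, ?_⟩
  · rw [Nat.add_sub_cancel]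
    refine orderOf_eq_prime_pow (fun hc => ?_) ?_
    · rw [← QuotientGroup.mk_pow, QuotientGroup.eq_one_iff] at hc
      rcases hzeq hc with h1 | h1
      · rw [h.pow_eq_one_iff] at h1
        exact absurd (Nat.le_of_dvd (Nat.two_pow_pos _) h1)
          (not_le.2 (Nat.pow_lt_pow_right one_lt_two (by omega)))
      · have h2 := h.pow_inj (hz ▸ h1)
        rw [Nat.ModEq, Nat.mod_eq_of_lt (Nat.pow_lt_pow_right one_lt_two (by omega)),
          Nat.mod_eq_of_lt (Nat.pow_lt_pow_right one_lt_two (by omega))] at h2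
        exact absurd h2 (ne_of_lt (Nat.pow_lt_pow_right one_lt_two (by omega)))
    · rw [← QuotientGroup.mk_pow]
      exact hzpow dvd_rfl
  · rw [Nat.add_sub_cancel, show e + 2 = e + 1 + 1 from rfl]
    have hle : Z ≤ P := Subgroup.zpowers_le.2 (h.pow_mem' _)
    have hcZ : Nat.card Z = 2 := by
      rw [hZ, Nat.card_zpowers]
      exact orderOf_eq_prime (by rw [pow_two, hz, h.z_mul_self]) h.z_ne_one
    have h1 := (Z.subgroupOf P).card_mul_index
    rw [Nat.card_congr (Subgroup.subgroupOfEquivOfLe hle).toEquiv, hcZ, h.card,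
      pow_succ 2 (e + 1 + 1)] at h1
    rw [← Subgroup.relIndex_ker, QuotientGroup.ker_mk']
    show (Z.subgroupOf P).index = _
    omega
  · rintro _ ⟨v, hv, rfl⟩ hnot
    have hvr : v ∉ Subgroup.zpowers r := fun hc => hnot (by
      obtain ⟨i, rfl⟩ := (isOfFinOrder_of_finite r).mem_powers_iff_mem_zpowers.2 hc
      exact pow_mem (Subgroup.mem_zpowers _) i)
    obtain ⟨h1, h2⟩ := h.refl v hv hvr
    constructor
    · show (QuotientGroup.mk' Z) v * (QuotientGroup.mk' Z) v = 1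
      rw [← map_mul, h1]
      exact hzpow dvd_rfl
    · show (QuotientGroup.mk' Z) v * (QuotientGroup.mk' Z) r * ((QuotientGroup.mk' Z) v)⁻¹ =
        ((QuotientGroup.mk' Z) r)⁻¹
      rw [← map_mul, ← map_inv, ← map_mul, ← map_inv, h2]
  · obtain ⟨s, hs, hsr⟩ := h.exists_refl
    refine ⟨(s : G ⧸ Z), ⟨s, hs, rfl⟩, fun hc => hsr ?_⟩
    obtain ⟨k, hk⟩ := Subgroup.mem_zpowers_iff.1 hc
    rw [← QuotientGroup.mk_zpow, QuotientGroup.eq] at hk
    have h1 : (r ^ k)⁻¹ * s ∈ Subgroup.zpowers r :=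
      (Subgroup.zpowers_le.2 (pow_mem (Subgroup.mem_zpowers r) _)) hk
    simpa using mul_mem (Subgroup.zpow_mem _ (Subgroup.mem_zpowers r) k) h1

/-- For the quaternion group of order eight the quotient is a four group. -/
theorem klein_quotient [(Subgroup.zpowers (r ^ 2 ^ t)).Normal] (ht : t = 1) :
    let Q := P.map (QuotientGroup.mk' (Subgroup.zpowers (r ^ 2 ^ t)))
    (∀ v ∈ Q, ∀ w ∈ Q, v * w = w * v) ∧ Nat.card Q = 4 ∧ ∀ v ∈ Q, v * v = 1 := by
  subst ht
  intro Q
  have hsq : ∀ v ∈ Q, v * v = 1 := by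
    rintro _ ⟨v, hv, rfl⟩
    rw [← map_mul]
    refine (QuotientGroup.eq_one_iff (v * v)).2 ?_
    rcases h.mem_cases hv with ⟨i, -, rfl⟩ | hvr
    · rw [← pow_add, ← two_mul, pow_mul]
      exact pow_mem (by simp) i
    · rw [(h.refl v hv hvr).1]
      exact Subgroup.mem_zpowers _
  refine ⟨fun v hv w hw => ?_, ?_, hsq⟩
  · have h1 : ∀ y ∈ Q, y⁻¹ = y := fun y hy => inv_eq_of_mul_eq_one_right (hsq y hy)
    calc v * w = (v * w)⁻¹ := (h1 _ (mul_mem hv hw)).symm
      _ = w * v := by rw [mul_inv_rev, h1 v hv, h1 w hw]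
  · have hle : Subgroup.zpowers (r ^ 2 ^ 1) ≤ P := Subgroup.zpowers_le.2 (h.pow_mem' _)
    have hcZ : Nat.card (Subgroup.zpowers (r ^ 2 ^ 1)) = 2 := by
      rw [Nat.card_zpowers]
      exact orderOf_eq_prime (by rw [pow_two, h.z_mul_self]) h.z_ne_one
    have h1 := ((Subgroup.zpowers (r ^ 2 ^ 1)).subgroupOf P).card_mul_index
    rw [Nat.card_congr (Subgroup.subgroupOfEquivOfLe hle).toEquiv, hcZ, h.card] at h1
    show Nat.card (P.map _) = 4
    rw [← Subgroup.relIndex_ker, QuotientGroup.ker_mk']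
    show ((Subgroup.zpowers (r ^ 2 ^ 1)).subgroupOf P).index = 4
    norm_num at h1 ⊢
    omega

end Qu

end Cfsg.Agent.Char.QuatBlk
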