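import Cfsg.Agent.Lib.Char.CycloTwo
import Cfsg.Agent.Lib.Char.QuatBlockGroup

/-!
Values on the generators of a cyclic 2-group as integral polynomials in a root of unity: the
inversion, the Gram relations and the parity of real values.
-/

open scoped ComplexConjugate

namespace Cfsg.Agent.Char.QuatBlk

open Polynomial Cfsg Cfsg.Agent.Block

set_option linter.unusedSectionVars false
set_option linter.style.haveILetI false
set_option maxHeartbeats 800000

universe u

variable {M : Ideal AlgInt}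

/-- A generalized character on the generators. -/
theorem exists_poly {Q : Type u} [Group Q] [Fintype Q] {y : Q} (hy : Subgroup.zpowers y = ⊤)
    {j : ℕ} (hk : orderOf y = 2 ^ (j + 1)) {θ : Q → ℂ} (hθ : IsGeneralizedCharacter Q θ) :
    ∃ P : ℤ[X], P.natDegree < 2 ^ j ∧ ∀ m : ℕ, Odd m → θ (y ^ m) = aeval (zeta j ^ m) P := by
  classical
  set N := 2 ^ j with hN
  have hN0 : 0 < N := Nat.two_pow_pos j
  have h2N : Nat.card Q = 2 * N := by
    rw [← Subgroup.card_top, ← hy, Nat.card_zpowers, hk, hN, pow_succ']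
  haveI : NeZero (2 * N) := ⟨by omega⟩
  set ζ := zeta j with hζdef
  have hprim : IsPrimitiveRoot ζ (2 * N) := by
    have := zeta_prim j
    rwa [pow_succ'] at this
  have hζN : ζ ^ N = -1 := zeta_half j
  obtain ⟨a, -, hexp⟩ := IsGenChar.exists_decomp hθ
  letI : CommGroup Q :=
    { (inferInstance : Group Q) with
      mul_comm := fun u v => by
        obtain ⟨m, rfl⟩ := Subgroup.mem_zpowers_iff.1 (hy ▸ Subgroup.mem_top u : u ∈ Subgroup.zpowers y)
        obtain ⟨n, rfl⟩ := Subgroup.mem_zpowers_iff.1 (hy ▸ Subgroup.mem_top v : v ∈ Subgroup.zpowers y)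
        rw [← zpow_add, ← zpow_add, add_comm] }
  have hlin : ∀ φ : IrrCharacter Q, (φ : Q → ℂ) 1 = 1 := fun φ => by
    rw [charDeg_spec', (comm_iff_linear Q).1 mul_comm φ, Nat.cast_one]
  have hpowφ : ∀ (φ : IrrCharacter Q) (n : ℕ), (φ : Q → ℂ) (y ^ n) = (φ : Q → ℂ) y ^ n := by
    intro φ n
    induction n with
    | zero => simp [hlin]
    | succ n ih =>
      have hg : y ∈ Subgroup.center Q := Subgroup.mem_center_iff.2 fun t => mul_comm t y
      have h2 := Spec.centralChar_of_center (η := φ) hg 1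
      rw [mul_one, hlin, mul_one] at h2
      rw [pow_succ', Spec.centralChar_of_center hg, ← h2, ih, pow_succ']
  have hroot : ∀ φ : IrrCharacter Q, ∃ i < 2 * N, ζ ^ i = (φ : Q → ℂ) y := fun φ =>
    hprim.eq_pow_of_pow_eq_one (by
      rw [← hpowφ, ← h2N, pow_card_eq_one', hlin])
  choose e he heq using hroot
  let sg : IrrCharacter Q → ℤ := fun φ => if e φ < N then 1 else -1
  let P : ℤ[X] := ∑ φ : IrrCharacter Q, C (a φ * sg φ) * X ^ (e φ % N)
  have hPdeg : P.natDegree < N := by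
    refine lt_of_le_of_lt (natDegree_sum_le_of_forall_le _ _ (n := N - 1) fun φ _ => ?_) (by omega)
    exact (natDegree_C_mul_X_pow_le _ _).trans (by have := Nat.mod_lt (e φ) hN0; omega)
  refine ⟨P, hPdeg, fun m hm => ?_⟩
  rw [hexp]
  simp only [Finset.sum_apply, Pi.smul_apply, smul_eq_mul, P, map_sum, map_mul, map_pow, aeval_X,
    aeval_C]
  simp only [algebraMap_int_eq, eq_intCast]
  refine Finset.sum_congr rfl fun φ _ => ?_
  rw [hpowφ, ← heq φ]
  simp only [sg]
  split_ifs with hlt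
  · rw [Nat.mod_eq_of_lt hlt, Int.cast_one, mul_one, ← pow_mul, ← pow_mul, mul_comm (e φ) m]
  · have hmod : e φ = N + e φ % N := by
      have h1 := Nat.mod_add_div (e φ) N
      have h2 : e φ / N = 1 := Nat.div_eq_of_lt_le (by omega) (by have := he φ; omega)
      rw [h2, mul_one] at h1
      omega
    conv_lhs => rw [hmod, pow_add, hζN, mul_pow, hm.neg_one_pow]
    push_cast
    rw [← pow_mul, ← pow_mul, mul_comm (e φ % N) m]
    ring

variable {J : ℕ}

/-- A sum over the odd powers. -/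
theorem sum_odd_pow (c : ℕ) :
    ∑ s ∈ Finset.range (2 ^ J), zeta J ^ ((2 * s + 1) * c) =
      if 2 ^ J ∣ c then (2 : ℂ) ^ J * (-1) ^ (c / 2 ^ J) else 0 := by
  have hN : 0 < 2 ^ J := Nat.two_pow_pos J
  have hterm : ∀ s, zeta J ^ ((2 * s + 1) * c) = zeta J ^ c * (zeta J ^ (2 * c)) ^ s := fun s => by
    rw [← pow_mul, ← pow_add]
    congr 1
    ring
  rw [Finset.sum_congr rfl fun s _ => hterm s, ← Finset.mul_sum]
  split_ifs with h
  · obtain ⟨d, rfl⟩ := h
    rw [Nat.mul_div_cancel_left _ hN, show 2 * (2 ^ J * d) = 2 ^ (J + 1) * d by rw [pow_succ]; ring,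
      pow_mul (zeta J) (2 ^ (J + 1)), (zeta_prim J).pow_eq_one, one_pow, pow_mul, zeta_half]
    simp [mul_comm]
  · have h1 : zeta J ^ (2 * c) ≠ 1 := fun e => h (by
      have h2 := ((zeta_prim J).pow_eq_one_iff_dvd _).1 e
      rw [pow_succ'] at h2
      exact Nat.dvd_of_mul_dvd_mul_left two_pos h2)
    rw [geom_sum_eq h1, ← pow_mul, show 2 * c * 2 ^ J = 2 ^ (J + 1) * c by rw [pow_succ]; ring,
      pow_mul (zeta J) (2 ^ (J + 1)), (zeta_prim J).pow_eq_one, one_pow, sub_self, zero_div,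
      mul_zero]

theorem zeta_conj_pow {n k : ℕ} (hk : k ≤ 2 ^ (J + 1)) :
    conj (zeta J ^ (n * k)) = zeta J ^ (n * (2 ^ (J + 1) - k)) := by
  have h1 : ‖zeta J ^ (n * k)‖ = 1 := by
    rw [norm_pow, Complex.norm_eq_one_of_pow_eq_one (zeta_prim J).pow_eq_one
      (pow_ne_zero _ two_ne_zero), one_pow]
  rw [← Complex.inv_eq_conj h1]
  refine inv_eq_of_mul_eq_one_right ?_
  rw [← pow_add, ← mul_add, Nat.add_sub_cancel' hk, mul_comm, pow_mul, (zeta_prim J).pow_eq_one,
    one_pow]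

theorem aeval_zeta_conj {P : ℤ[X]} (hP : P.natDegree < 2 ^ J) (n : ℕ) :
    conj (aeval (zeta J ^ n) P) =
      ∑ k ∈ Finset.range (2 ^ J), (P.coeff k : ℂ) * zeta J ^ (n * (2 ^ (J + 1) - k)) := by
  rw [aeval_eq_sum_range' hP, map_sum]
  refine Finset.sum_congr rfl fun k hk => ?_
  rw [Finset.mem_range] at hk
  rw [zsmul_eq_mul, map_mul, map_intCast, ← pow_mul, zeta_conj_pow (by rw [pow_succ]; omega)]

/-- The inversion. -/
theorem coeff_inv {P : ℤ[X]} (hP : P.natDegree < 2 ^ J) {k : ℕ} (hk : k < 2 ^ J) :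
    ∑ s ∈ Finset.range (2 ^ J),
        aeval (zeta J ^ (2 * s + 1)) P * zeta J ^ ((2 * s + 1) * (2 ^ (J + 1) - k)) =
      (2 : ℂ) ^ J * (P.coeff k : ℂ) := by
  simp only [aeval_eq_sum_range' hP, Finset.sum_mul, zsmul_eq_mul]
  rw [Finset.sum_comm, Finset.sum_eq_single k]
  · rw [Finset.sum_congr rfl (g := fun s => (P.coeff k : ℂ) *
        zeta J ^ ((2 * s + 1) * 2 ^ (J + 1))) fun s _ => by
      rw [mul_assoc, ← pow_mul, ← pow_add, ← mul_add, Nat.add_sub_cancel' (by
        rw [pow_succ]; omega)], ← Finset.mul_sum, sum_odd_pow, if_pos (pow_dvd_pow 2 (by omega)),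
      pow_succ, Nat.mul_div_cancel_left _ (Nat.two_pow_pos J)]
    ring
  · intro i hi hne
    rw [Finset.mem_range] at hi
    have hk' : k ≤ 2 ^ (J + 1) := by rw [pow_succ]; omega
    rw [Finset.sum_congr rfl (g := fun s => (P.coeff i : ℂ) *
        zeta J ^ ((2 * s + 1) * (i + (2 ^ (J + 1) - k)))) fun s _ => by
      rw [mul_assoc, ← pow_mul, ← pow_add, ← mul_add], ← Finset.mul_sum, sum_odd_pow, if_neg,
      mul_zero]
    rintro ⟨c, hc⟩
    rw [pow_succ] at hc
    rcases c with _ | _ | _ | c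
    · omega
    · omega
    · omega
    · have : 2 ^ J * 3 ≤ 2 ^ J * (c + 1 + 1 + 1) := Nat.mul_le_mul_left _ (by omega)
      omega
  · exact fun h => absurd (Finset.mem_range.2 hk) h

/-- The sum of the square norms. -/
theorem parseval {P : ℤ[X]} (hP : P.natDegree < 2 ^ J) :
    ∑ s ∈ Finset.range (2 ^ J),
        aeval (zeta J ^ (2 * s + 1)) P * conj (aeval (zeta J ^ (2 * s + 1)) P) =
      (2 : ℂ) ^ J * ∑ k ∈ Finset.range (2 ^ J), ((P.coeff k ^ 2 : ℤ) : ℂ) := by
  simp only [aeval_zeta_conj hP, Finset.mul_sum]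
  rw [Finset.sum_comm]
  refine Finset.sum_congr rfl fun k hk => ?_
  rw [Finset.sum_congr rfl (g := fun s => (P.coeff k : ℂ) * (aeval (zeta J ^ (2 * s + 1)) P *
      zeta J ^ ((2 * s + 1) * (2 ^ (J + 1) - k)))) fun s _ => by ring,
    ← Finset.mul_sum, coeff_inv hP (Finset.mem_range.1 hk)]
  push_cast
  ring

/-- The Gram relations of the coefficients. -/
theorem gram {ι : Type*} (A : Finset ι) (P : ι → ℤ[X]) (hP : ∀ x, (P x).natDegree < 2 ^ J) (T : ℂ)
    (h : ∀ s < 2 ^ J, ∀ s' < 2 ^ J, ∑ x ∈ A,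
      aeval (zeta J ^ (2 * s + 1)) (P x) * conj (aeval (zeta J ^ (2 * s' + 1)) (P x)) =
        (if s' = s then T else 0) + if s' = 2 ^ J - 1 - s then T else 0)
    {k k' : ℕ} (hk : k < 2 ^ J) (hk' : k' < 2 ^ J) :
    (2 : ℂ) ^ J * ∑ x ∈ A, (((P x).coeff k * (P x).coeff k' : ℤ) : ℂ) =
      T * (((if k = k' then 1 else 0) + (if k + k' = 0 then 1 else 0)) -
        if k + k' = 2 ^ J then 1 else 0) := by
  set N := 2 ^ J with hNdef
  have hN : 0 < N := Nat.two_pow_pos J
  have h2 : 2 ^ (J + 1) = N + N := by rw [pow_succ]; omega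
  set E : ℕ → ℕ → ℂ := fun s k => zeta J ^ ((2 * s + 1) * (2 ^ (J + 1) - k)) with hE
  have hsq : ∀ x ∈ A, (2 : ℂ) ^ J * ((2 : ℂ) ^ J * (((P x).coeff k * (P x).coeff k' : ℤ) : ℂ)) =
      ∑ s ∈ Finset.range N, ∑ s' ∈ Finset.range N, E s k * conj (E s' k') *
        (aeval (zeta J ^ (2 * s + 1)) (P x) * conj (aeval (zeta J ^ (2 * s' + 1)) (P x))) := by
    intro x _
    have h1 := coeff_inv (hP x) hk
    have h3 := congrArg conj (coeff_inv (hP x) hk')
    rw [map_mul, map_pow, map_ofNat, map_intCast, map_sum] at h3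
    calc _ = ((2 : ℂ) ^ J * ((P x).coeff k : ℂ)) * ((2 : ℂ) ^ J * ((P x).coeff k' : ℂ)) := by
          push_cast; ring
      _ = _ := by
          rw [← h1, ← h3, Finset.sum_mul_sum]
          refine Finset.sum_congr rfl fun s _ => Finset.sum_congr rfl fun s' _ => ?_
          simp only [hE, map_mul]
          ring
  have hkey : (2 : ℂ) ^ J * ((2 : ℂ) ^ J * ∑ x ∈ A, (((P x).coeff k * (P x).coeff k' : ℤ) : ℂ)) =
      ∑ s ∈ Finset.range N, (E s k * conj (E s k') + E s k * conj (E (N - 1 - s) k')) * T := by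
    rw [Finset.mul_sum, Finset.mul_sum, Finset.sum_congr rfl hsq, Finset.sum_comm]
    refine Finset.sum_congr rfl fun s hs => ?_
    rw [Finset.mem_range] at hs
    rw [Finset.sum_comm, Finset.sum_congr rfl fun s' hs' => by
      rw [← Finset.mul_sum, h s hs s' (Finset.mem_range.1 hs')]]
    simp only [mul_add, mul_ite, mul_zero, Finset.sum_add_distrib, Finset.sum_ite_eq']
    rw [if_pos (Finset.mem_range.2 hs), if_pos (Finset.mem_range.2 (by omega))]
    ring
  rw [← Finset.sum_mul, Finset.sum_add_distrib] at hkey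
  have hconj : ∀ s, conj (E s k') = zeta J ^ ((2 * s + 1) * k') := fun s => by
    rw [hE]
    show conj (zeta J ^ _) = _
    rw [← zeta_conj_pow (by omega), Complex.conj_conj]
  have e1 : ∀ s, E s k * conj (E s k') = zeta J ^ ((2 * s + 1) * (2 ^ (J + 1) - k + k')) :=
    fun s => by rw [hconj, hE, ← pow_add, ← mul_add]
  have e2 : ∀ s, s < N → E s k * conj (E (N - 1 - s) k') =
      zeta J ^ ((2 * s + 1) * (2 ^ (J + 1) - k + (2 ^ (J + 1) - k'))) := by
    intro s hs
    rw [hconj, hE, mul_add, pow_add, pow_add]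
    congr 1
    refine zeta_congr ?_
    have hadd : 2 * (N - 1 - s) + 1 + (2 * s + 1) = 2 ^ (J + 1) := by omega
    have hNN : 2 ^ (J + 1) * (2 * s + 1) + (2 * (N - 1 - s) + 1) * k' =
        (2 * s + 1) * (2 ^ (J + 1) - k') + 2 ^ (J + 1) * k' := by
      have h3 : (2 * s + 1) * (2 ^ (J + 1) - k') + (2 * s + 1) * k' =
          2 ^ (J + 1) * (2 * s + 1) := by
        rw [← mul_add, Nat.sub_add_cancel (by omega), mul_comm]
      have h4 : (2 * (N - 1 - s) + 1) * k' + (2 * s + 1) * k' = 2 ^ (J + 1) * k' := by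
        rw [← add_mul, hadd]
      omega
    have h5 := congrArg (· % 2 ^ (J + 1)) hNN
    simp only [Nat.mul_add_mod, Nat.add_mul_mod_self_left] at h5
    exact h5
  rw [Finset.sum_congr rfl fun s _ => e1 s, Finset.sum_congr rfl fun s hs =>
    e2 s (Finset.mem_range.1 hs), sum_odd_pow, sum_odd_pow, ← hNdef] at hkey
  refine mul_left_cancel₀ (pow_ne_zero J (two_ne_zero (α := ℂ))) (hkey.trans ?_)
  have hA : (if N ∣ 2 ^ (J + 1) - k + k' then (2 : ℂ) ^ J * (-1) ^ ((2 ^ (J + 1) - k + k') / N)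
      else 0) = (2 : ℂ) ^ J * if k = k' then 1 else 0 := by
    by_cases e : k = k'
    · subst e
      have e3 : 2 ^ (J + 1) - k + k = N * 2 := by omega
      rw [e3, if_pos ⟨2, rfl⟩, if_pos rfl, Nat.mul_div_cancel_left _ hN]
      norm_num
    · rw [if_neg e, if_neg, mul_zero]
      rintro ⟨c, hc⟩
      rcases c with _ | _ | _ | c
      · omega
      · omega
      · omega
      · have : N * 3 ≤ N * (c + 1 + 1 + 1) := Nat.mul_le_mul_left _ (by omega)
        omega
  have hB : (if N ∣ 2 ^ (J + 1) - k + (2 ^ (J + 1) - k') then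
      (2 : ℂ) ^ J * (-1) ^ ((2 ^ (J + 1) - k + (2 ^ (J + 1) - k')) / N) else 0) =
      (2 : ℂ) ^ J * ((if k + k' = 0 then 1 else 0) - if k + k' = N then 1 else 0) := by
    by_cases e : k + k' = 0
    · have e3 : 2 ^ (J + 1) - k + (2 ^ (J + 1) - k') = N * 4 := by omega
      rw [e3, if_pos ⟨4, rfl⟩, if_pos e, if_neg (by omega), Nat.mul_div_cancel_left _ hN]
      norm_num
    by_cases e' : k + k' = N
    · have e3 : 2 ^ (J + 1) - k + (2 ^ (J + 1) - k') = N * 3 := by omega
      rw [e3, if_pos ⟨3, rfl⟩, if_neg e, if_pos e', Nat.mul_div_cancel_left _ hN]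
      norm_num
    · rw [if_neg e, if_neg e', if_neg, sub_zero, mul_zero]
      rintro ⟨c, hc⟩
      rcases c with _ | _ | _ | _ | c
      · omega
      · omega
      · omega
      · omega
      · have : N * 4 ≤ N * (c + 1 + 1 + 1 + 1) := Nat.mul_le_mul_left _ (by omega)
        omega
  rw [hA, hB]
  ring

end Cfsg.Agent.Char.QuatBlk
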