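import Cfsg.Agent.Lib.Char.QuatBlockSetup
import Cfsg.Agent.Lib.Char.DihBlockCenter
import Cfsg.Agent.Lib.Char.KleinBlock
import Cfsg.Agent.Lib.Char.PairSub
import Cfsg.Agent.Lib.Char.DihBlockCount

/-!
The number of characters of a 2-block with generalized quaternion defect group, through the blocks
of the centralizer of the involution and of its quotient.
-/

open scoped ComplexConjugate

namespace Cfsg.Agent.Char.QuatBlk

open Cfsg Cfsg.Agent.Block Cfsg.Agent.Char Cfsg.Agent.Char.BP Cfsg.Agent.Char.Spec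
open Cfsg.Agent.Char.QuotDefect

set_option linter.unusedSectionVars false
set_option linter.style.haveILetI false
set_option maxHeartbeats 800000

universe u

variable {G : Type u} [Group G] [Fintype G] {M : Ideal AlgInt} {B : Set (IrrCharacter G)}
variable {P : Subgroup G} {e : Set (IrrCharacter (CG P))} {r : G} {t : ℕ}

/-- The part of a pair of rank one through its column. -/
theorem E_one {p : ℕ} [Fact p.Prime] (hM : IsPModular p M) {a : BrauerPairIdx G}
    (o : DihBlk.One p a) {u : G} (hu : ∃ k, orderOf u = p ^ k) (hau : a.1 = Subgroup.zpowers u)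
    (haB : OfB p M B a) (χ η : IrrCharacter G) :
    SecRep.E p (u, a) χ η =
      o.col χ u * conj (o.col η u) / (p : ℂ) ^ blockDefect p a.2 := by
  rw [← o.contrib_eq hM hu hau haB χ η, contrib, mul_div_assoc,
    mul_div_cancel_left₀ _ (pow_ne_zero _ (Nat.cast_ne_zero.2 (Fact.out : p.Prime).ne_zero))]
  rfl

/-- Reading a pair in an overgroup commutes with the conjugations of the overgroup. -/
theorem dn_cjI {H : Subgroup G} [Fintype H] (c : H) (y : BrauerPairIdx G) (h1 : y.1 ≤ H)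
    (h2 : CG y.1 ≤ H) (h1' : (cjI (c : G) y).1 ≤ H) (h2' : CG (cjI (c : G) y).1 ≤ H) :
    dn H (cjI (c : G) y) h1' h2' = cjI c (dn H y h1 h2) := by
  refine idx_ext ?_ ?_
  · show (y.1.map (MulAut.conj (c : G)).toMonoidHom).subgroupOf H =
      (y.1.subgroupOf H).map (MulAut.conj c).toMonoidHom
    ext g
    rw [Subgroup.mem_subgroupOf, mem_map_conj, mem_map_conj, Subgroup.mem_subgroupOf]
    simp
  · rw [be_cjI, be_dn, be_dn, be_cjI]
    rfl

namespace Setup

section Central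

variable (S : Setup M B P e r t) (hzc : ∀ g : G, g * r ^ 2 ^ t = r ^ 2 ^ t * g)
include S hzc

theorem val_z (χ : IrrCharacter G) (v : G) : (χ : G → ℂ) (r ^ 2 ^ t * v) =
    centralChar (χ : G → ℂ) (r ^ 2 ^ t) * (χ : G → ℂ) v :=
  centralChar_of_center (Subgroup.mem_center_iff.2 hzc) v

theorem omega_sq (χ : IrrCharacter G) :
    centralChar (χ : G → ℂ) (r ^ 2 ^ t) * centralChar (χ : G → ℂ) (r ^ 2 ^ t) = 1 := by
  refine mul_right_cancel₀ (irr_one_ne_zero χ) ?_
  rw [mul_assoc, ← S.val_z hzc χ 1, ← S.val_z hzc χ (r ^ 2 ^ t * 1), ← mul_assoc, S.qu.z_mul_self,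
    one_mul, one_mul]

theorem sct_mul_z (χ : IrrCharacter G) (a : BrauerPairIdx G) (x v : G) :
    sct (χ : G → ℂ) a (x * r ^ 2 ^ t) v =
      centralChar (χ : G → ℂ) (r ^ 2 ^ t) * sct (χ : G → ℂ) a x v := by
  simp only [sct, Finset.mul_sum]
  refine Finset.sum_congr rfl fun k _ => ?_
  rw [show x * r ^ 2 ^ t * k * v = r ^ 2 ^ t * (x * k * v) by rw [hzc x]; group, S.val_z hzc]
  ring

theorem pairsAt_central {x : G} (hx : x = 1 ∨ x = r ^ 2 ^ t) :
    pairsAt 2 M B x = {S.bel x} := by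
  have hxP : x ∈ P := by
    rcases hx with rfl | rfl
    · exact one_mem _
    · exact S.qu.pow_mem' _
  have hc : ∀ g : G, g * x = x * g := by
    rcases hx with rfl | rfl
    · intro g; simp
    · exact hzc
  refine Finset.eq_singleton_iff_unique_mem.2
    ⟨mem_pairsAt.2 ⟨S.bel_fst hxP, S.bel_ofB hxP⟩, fun a ha => ?_⟩
  obtain ⟨h1, h2⟩ := mem_pairsAt.1 ha
  obtain ⟨g, hg⟩ := le_conj_max S.hM h2 S.max
  have hga : cjI g a = a := by
    refine cjI_of_mem_cg ?_
    rw [h1, cg_zpowers, Subgroup.mem_centralizer_singleton_iff]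
    exact hc g
  rw [hga] at hg
  exact S.bel_unique h1 hg

theorem sct_z {χ : IrrCharacter G} (hχ : χ ∈ B) {v : G} (hv : ¬ 2 ∣ orderOf v) :
    sct (χ : G → ℂ) (S.bel (r ^ 2 ^ t)) (r ^ 2 ^ t) v =
      centralChar (χ : G → ℂ) (r ^ 2 ^ t) * sct (χ : G → ℂ) (S.bel 1) 1 v := by
  have hcz : v ∈ CG (Subgroup.zpowers (r ^ 2 ^ t)) := by
    rw [cg_zpowers, Subgroup.mem_centralizer_singleton_iff]; exact hzc v
  have hc1 : v ∈ CG (Subgroup.zpowers (1 : G)) := by
    rw [cg_zpowers, Subgroup.mem_centralizer_singleton_iff]; simp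
  have h1 := DihBlk.value_eq_pairs S.hM S.isBlock hχ (S.ppow_mem (one_mem _)) hc1 hv
  have h2 := DihBlk.value_eq_pairs S.hM S.isBlock hχ (S.ppow_mem (S.qu.pow_mem' _)) hcz hv
  rw [S.pairsAt_central hzc (Or.inl rfl), Finset.sum_singleton, one_mul] at h1
  rw [S.pairsAt_central hzc (Or.inr rfl), Finset.sum_singleton, S.val_z hzc, h1] at h2
  exact h2.symm

theorem cg_bel_central {x : G} (hx : x ∈ P) (hc : ∀ g : G, g * x = x * g) :
    CG (S.bel x).1 = ⊤ := by
  rw [S.bel_fst hx, cg_zpowers, eq_top_iff]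
  exact fun g _ => Subgroup.mem_centralizer_singleton_iff.2 (hc g)

theorem regs_central {x : G} (hx : x ∈ P) (hc : ∀ g : G, g * x = x * g) {v : G} :
    v ∈ regs 2 (S.bel x).1 ↔ ¬ 2 ∣ orderOf v := by
  rw [mem_regs, S.cg_bel_central hzc hx hc]
  simp

theorem E_z_eq {χ η : IrrCharacter G} (hχ : χ ∈ B) (hη : η ∈ B) :
    SecRep.E 2 (r ^ 2 ^ t, S.bel (r ^ 2 ^ t)) χ η =
      centralChar (χ : G → ℂ) (r ^ 2 ^ t) * conj (centralChar (η : G → ℂ) (r ^ 2 ^ t)) *
        SecRep.E 2 (1, S.bel 1) χ η := by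
  have hzP := S.qu.pow_mem' (2 ^ t)
  have h1c : ∀ g : G, g * 1 = 1 * g := fun g => by simp
  simp only [SecRep.E]
  rw [S.cg_bel_central hzc hzP hzc, S.cg_bel_central hzc (one_mem _) h1c, ← mul_div_assoc]
  congr 1
  simp only [secT, Finset.mul_sum]
  refine Finset.sum_congr ?_ fun v hv => ?_
  · ext v
    rw [S.regs_central hzc hzP hzc, S.regs_central hzc (one_mem _) h1c]
  · have hv' := (S.regs_central hzc (one_mem _) h1c).1 hv
    rw [S.sct_z hzc hχ hv', S.sct_z hzc hη hv', map_mul]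
    ring

theorem omega_real (χ : IrrCharacter G) :
    conj (centralChar (χ : G → ℂ) (r ^ 2 ^ t)) = centralChar (χ : G → ℂ) (r ^ 2 ^ t) := by
  rcases mul_self_eq_one_iff.1 (S.omega_sq hzc χ) with h | h <;> rw [h] <;> simp

/-- The characters trivial on the involution, by sections. -/
theorem central_count {s : G} (hs : s ∈ P) (hsr : s ∉ Subgroup.zpowers r) :
    2 * Nat.card {χ : IrrCharacter G // χ ∈ B ∧ (χ : G → ℂ) (r ^ 2 ^ t) = (χ : G → ℂ) 1} =
        2 * blockRank 2 B + 2 ^ t + 2 * (S.uset s).card ∧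
      blockRank 2 (S.bel (r ^ 2 ^ t)).2 = blockRank 2 B := by
  classical
  set A := Finset.univ.filter (· ∈ B) with hA
  set z := r ^ 2 ^ t with hz
  set om : IrrCharacter G → ℂ := fun χ => centralChar (χ : G → ℂ) z with hom
  have hR := S.isReps hs hsr
  have hz1 : (z, S.bel z) ∈ S.reps s := S.reps_mem hs hsr (Or.inr (Or.inl rfl))
  have h11 : ((1 : G), S.bel 1) ∈ S.reps s := S.reps_mem hs hsr (Or.inl rfl)
  have hrank : blockRank 2 (S.bel z).2 = blockRank 2 B := by
    have h1 := hR.sum_diag S.hM hz1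
    have h2 := hR.sum_diag S.hM h11
    rw [S.rank_bel_one] at h2
    have h3 : ((blockRank 2 (S.bel z).2 : ℕ) : ℂ) = ((blockRank 2 B : ℕ) : ℂ) := by
      rw [← h1, ← h2]
      refine Finset.sum_congr rfl fun χ hχ => ?_
      have hχ' := (Finset.mem_filter.1 hχ).2
      rw [S.E_z_eq hzc hχ' hχ', S.omega_real hzc, S.omega_sq hzc, one_mul]
    exact Nat.cast_injective h3
  refine ⟨?_, hrank⟩
  -- the trace of the central character
  have htr : ∀ a ∈ S.reps s, ∀ F : ℂ, (∀ χ ∈ A, om χ * SecRep.E 2 a χ χ = F * SecRep.E 2 a χ χ) →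
      ∑ χ ∈ A, om χ * SecRep.E 2 a χ χ = F * (blockRank 2 a.2.2 : ℂ) := fun a ha F h => by
    rw [Finset.sum_congr rfl h, ← Finset.mul_sum, hR.sum_diag S.hM ha]
  have hzero : ∑ χ ∈ A, om χ * SecRep.E 2 (1, S.bel 1) χ χ = 0 := by
    simp only [SecRep.E, ← mul_div_assoc]
    rw [← Finset.sum_div, div_eq_zero_iff]
    left
    simp only [secT, Finset.mul_sum]
    rw [Finset.sum_comm]
    refine Finset.sum_eq_zero fun v hv => ?_
    have hv' := (S.regs_central hzc (one_mem _) (fun g => by simp)).1 hv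
    rw [Finset.sum_congr rfl (g := fun χ : IrrCharacter G =>
        sct (χ : G → ℂ) (S.bel z) z v * conj (sct (χ : G → ℂ) (S.bel 1) 1 v)) fun χ hχ => by
      rw [S.sct_z hzc (Finset.mem_filter.1 hχ).2 hv', mul_assoc]]
    refine hR.cross S.hM hz1 h11 (fun h => S.qu.z_ne_one (congrArg Prod.fst h)) ?_ hv
    exact (S.regs_central hzc (S.qu.pow_mem' _) hzc).2 hv'
  have hzero' : ∑ χ ∈ A, om χ * SecRep.E 2 (z, S.bel z) χ χ = 0 := by
    rw [← hzero]
    refine Finset.sum_congr rfl fun χ hχ => ?_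
    have hχ' := (Finset.mem_filter.1 hχ).2
    rw [S.E_z_eq hzc hχ' hχ', S.omega_real hzc, S.omega_sq hzc, one_mul]
  have hfour : ∀ {x : G}, (x, S.bel x) ∈ S.reps s → x ∈ P → x * x = z →
      ∑ χ ∈ A, om χ * SecRep.E 2 (x, S.bel x) χ χ = 1 := by
    intro x hx hxP hxz
    have hxx : x * x ≠ 1 := hxz ▸ S.qu.z_ne_one
    obtain ⟨o⟩ := DihBlk.exists_one S.hM (S.bel_ofB hxP).1.2 (S.rank_bel hxP hxx)
    have hinv : x * z = x⁻¹ := by
      refine eq_inv_of_mul_eq_one_left ?_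
      rw [mul_assoc, ← hzc x, ← mul_assoc, hxz, hz, S.qu.z_mul_self]
    have hcol : ∀ χ : IrrCharacter G, om χ * o.col χ x = o.col χ x := fun χ => by
      obtain ⟨w, hw, hwx⟩ := S.qu.exists_inverts hxP
      have h1 := sct_conj (irr_classFun χ) (S.bel x) w x 1
      rw [S.cjI_bel hxP hw, hwx, S.bel_congr (inv_mem hxP) (Subgroup.zpowers_inv (g := x)),
        mul_one, mul_inv_cancel, ← hinv, S.sct_mul_z hzc] at h1
      simp only [DihBlk.One.col, ← mul_div_assoc]
      exact congrArg (· / (o.g0 : ℂ)) h1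
    rw [htr _ hx 1 fun χ _ => ?_, one_mul, S.rank_bel hxP hxx, Nat.cast_one]
    rw [one_mul, E_one S.hM o (S.ppow_mem hxP) (S.bel_fst hxP) (S.bel_ofB hxP),
      ← mul_div_assoc, ← mul_assoc, hcol]
  obtain ⟨d, hd⟩ : ∃ d, t = d + 1 := ⟨t - 1, by have := S.qu.pos; omega⟩
  have hrotz : ∀ i ∈ Finset.Ico 1 (2 ^ t), ∑ χ ∈ A, om χ * SecRep.E 2 (r ^ i, S.bel (r ^ i)) χ χ =
      if i = 2 ^ d then 1 else 0 := by
    intro i hi
    rw [Finset.mem_Ico] at hi
    have hx : (r ^ i, S.bel (r ^ i)) ∈ S.reps s :=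
      S.reps_mem hs hsr (Or.inr (Or.inr (Or.inl ⟨i, hi.1, hi.2, rfl⟩)))
    split_ifs with h
    · refine hfour hx (S.qu.pow_mem' _) ?_
      rw [h, hz, hd, ← pow_add]
      congr 1
      rw [pow_succ]; ring
    · simp only [SecRep.E, ← mul_div_assoc]
      rw [← Finset.sum_div, div_eq_zero_iff]
      left
      simp only [secT, Finset.mul_sum]
      rw [Finset.sum_comm]
      refine Finset.sum_eq_zero fun v hv => ?_
      rw [Finset.sum_congr rfl (g := fun χ : IrrCharacter G =>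
        sct (χ : G → ℂ) (S.bel (r ^ i)) (r ^ i * z) v *
          conj (sct (χ : G → ℂ) (S.bel (r ^ i)) (r ^ i) v)) fun χ _ => by
        rw [S.sct_mul_z hzc, mul_assoc]]
      have hxP := S.qu.pow_mem' i
      have hxzP : r ^ i * z ∈ P := mul_mem hxP (S.qu.pow_mem' _)
      have hne1 : r ^ i ≠ 1 := fun e => S.rot_sq_ne hi.1 hi.2 (by rw [e, one_mul])
      have hne2 : r ^ i * z ≠ 1 := fun e => S.rot_sq_ne hi.1 hi.2 (by
        rw [eq_inv_of_mul_eq_one_left e, hz, S.qu.z_inv, S.qu.z_mul_self])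
      have hzp : Subgroup.zpowers (r ^ i * z) = Subgroup.zpowers (r ^ i) := by
        refine le_antisymm (Subgroup.zpowers_le.2
          (mul_mem (Subgroup.mem_zpowers _) (S.qu.z_mem_zpowers hxP hne1))) (Subgroup.zpowers_le.2 ?_)
        have h1 := mul_mem (Subgroup.mem_zpowers (r ^ i * z)) (S.qu.z_mem_zpowers hxzP hne2)
        rwa [mul_assoc, hz, S.qu.z_mul_self, mul_one] at h1
      refine DihBlk.sum_sct_cross S.hM (S.ppow_mem hxzP) (S.ppow_mem hxP)
        ((S.bel_fst hxP).trans hzp.symm) (S.bel_fst hxP) (S.bel_ofB hxP) (S.bel_ofB hxP)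
        (fun g hg he => ?_) (mem_regs.1 hv).1 (mem_regs.1 hv).2 (mem_regs.1 hv).1 (mem_regs.1 hv).2
      have hf : S.Fus (r ^ i * z) (r ^ i) := ⟨g, hg, by rw [S.bel_congr hxzP hzp]; exact he⟩
      rcases S.rotation_fusion (mul_mem (pow_mem (Subgroup.mem_zpowers r) i)
        (pow_mem (Subgroup.mem_zpowers r) _)) (pow_mem (Subgroup.mem_zpowers r) i) hf with e | e
      · exact S.qu.z_ne_one (mul_eq_left.1 e.symm)
      · rw [eq_inv_iff_mul_eq_one, ← pow_add, ← pow_add, S.qu.pow_eq_one_iff, hd] at e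
        obtain ⟨c, hc⟩ := e
        rw [pow_succ 2 (d + 1), pow_succ 2 d] at hc
        rw [hd, pow_succ] at hi
        have h2 : 2 * i + 2 * 2 ^ d = 4 * 2 ^ d * c := by linarith
        rcases c with _ | _ | c
        · omega
        · omega
        · have : 4 * 2 ^ d * 2 ≤ 4 * 2 ^ d * (c + 1 + 1) := Nat.mul_le_mul_left _ (by omega)
          omega
  have htrace : ∑ χ ∈ A, om χ = 1 + ((S.uset s).card : ℂ) := by
    rw [Finset.sum_congr rfl (g := fun χ => ∑ a ∈ S.reps s, om χ * SecRep.E 2 a χ χ) fun χ hχ => by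
      rw [← Finset.mul_sum, hR.resolution S.hM S.isBlock (Finset.mem_filter.1 hχ).2
        (Finset.mem_filter.1 hχ).2, if_pos rfl, mul_one], Finset.sum_comm,
      S.sum_reps hs hsr (fun a => ∑ χ ∈ A, om χ * SecRep.E 2 a χ χ), hzero, hzero',
      Finset.sum_congr rfl hrotz, Finset.sum_ite_eq', if_pos (Finset.mem_Ico.2
        ⟨Nat.one_le_two_pow, by rw [hd]; exact Nat.pow_lt_pow_right one_lt_two (by omega)⟩),
      Finset.sum_congr rfl (g := fun _ => (1 : ℂ)) fun v hv => by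
        obtain ⟨h1, h2, -⟩ := S.uset_mem hs hsr hv
        exact hfour (S.reps_mem hs hsr (Or.inr (Or.inr (Or.inr hv)))) h1 ((S.qu.refl v h1 h2).1),
      Finset.sum_const, nsmul_eq_mul, mul_one]
    ring
  -- the characters
  have hhalf : ∀ χ : IrrCharacter G,
      (if (χ : G → ℂ) z = (χ : G → ℂ) 1 then (2 : ℂ) else 0) = 1 + om χ := by
    intro χ
    have hval : (χ : G → ℂ) z = om χ * (χ : G → ℂ) 1 := by
      have := S.val_z hzc χ 1
      rwa [mul_one] at this
    rcases mul_self_eq_one_iff.1 (S.omega_sq hzc χ) with h | h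
    · rw [show om χ = 1 from h] at hval ⊢
      rw [if_pos (by rw [hval, one_mul])]
      norm_num
    · rw [show om χ = -1 from h] at hval ⊢
      rw [if_neg (fun e => irr_one_ne_zero χ (by linear_combination (e - hval) / (-2)))]
      ring
  have hk := S.card_eq hs hsr
  rw [hrank] at hk
  have hcard : Nat.card {χ : IrrCharacter G // χ ∈ B ∧ (χ : G → ℂ) z = (χ : G → ℂ) 1} =
      (A.filter fun χ : IrrCharacter G => (χ : G → ℂ) z = (χ : G → ℂ) 1).card := by
    rw [Nat.card_eq_fintype_card]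
    exact Fintype.card_of_subtype _ fun χ => by simp [hA]
  rw [hcard]
  have hAc : A.card = Nat.card B := by
    rw [Nat.card_eq_fintype_card]
    exact (Fintype.card_of_subtype A fun χ => by simp [hA]).symm
  have h : ((2 * (A.filter fun χ : IrrCharacter G => (χ : G → ℂ) z = (χ : G → ℂ) 1).card : ℕ) : ℂ) =
      ((Nat.card B + (1 + (S.uset s).card) : ℕ) : ℂ) := by
    push_cast
    rw [← htrace, ← hAc, Finset.card_filter, Nat.cast_sum, Finset.mul_sum, Finset.card_eq_sum_ones,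
      Nat.cast_sum, ← Finset.sum_add_distrib]
    refine Finset.sum_congr rfl fun χ _ => ?_
    rw [Nat.cast_one, ← hhalf χ]
    split_ifs <;> simp
  have h' := Nat.cast_injective h
  have := Nat.two_pow_pos t
  omega

/-- The characters trivial on the involution, through the quotient. -/
theorem quotient_count :
    Nat.card {χ : IrrCharacter G // χ ∈ B ∧ (χ : G → ℂ) (r ^ 2 ^ t) = (χ : G → ℂ) 1} =
      2 ^ (t - 1) + 3 := by
  classical
  set z := r ^ 2 ^ t with hz
  have hZc : Subgroup.zpowers z ≤ Subgroup.center G :=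
    Subgroup.zpowers_le.2 (Subgroup.mem_center_iff.2 hzc)
  haveI : (Subgroup.zpowers z).Normal := ⟨fun v hv g => by
    rwa [Subgroup.mem_center_iff.1 (hZc hv) g, mul_inv_cancel_right]⟩
  have hZp : IsPGroup 2 (Subgroup.zpowers z) := isPGroup_zpowers (S.ppow_mem (S.qu.pow_mem' _))
  letI := Fintype.ofFinite (G ⧸ Subgroup.zpowers z)
  obtain ⟨hBb, hdef⟩ := RankBound.liftSet_block (Subgroup.zpowers z) S.hM hZc hZp S.isBlock
  have hDq := hdef P (defect_of_max S.hM S.max)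
  have hcard : Nat.card (liftSet (Subgroup.zpowers z) B) = 2 ^ (t - 1) + 3 := by
    by_cases ht : t = 1
    · obtain ⟨hab, h4, hexp⟩ := S.qu.klein_quotient ht
      obtain ⟨f, hf⟩ := (exists_pair_iff S.hM hBb (IsDefectGroup.isPGroup hDq)).2
        ((not_brZero_iff S.hM hBb hDq (IsDefectGroup.isPGroup hDq)).2 ⟨1, by rw [map_conj_one]⟩)
      rw [(klein_block S.hM hBb hDq (max_of_defect S.hM hf hDq) hab h4 hexp).2.1, ht]
      rfl
    · obtain ⟨f, S'⟩ := DihBlk.exists_setup S.hM hBb hDq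
        (S.qu.dh_quotient (by have := S.qu.pos; omega))
      exact S'.invariants.1
  rw [← hcard]
  symm
  refine Nat.card_congr (Equiv.ofBijective (fun χ : liftSet (Subgroup.zpowers z) B =>
    (⟨qinfl (Subgroup.zpowers z) χ.1, χ.2, ?_⟩ :
      {χ : IrrCharacter G // χ ∈ B ∧ (χ : G → ℂ) z = (χ : G → ℂ) 1})) ⟨?_, ?_⟩)
  · rw [qinfl_apply, qinfl_apply, (QuotientGroup.eq_one_iff z).2 (Subgroup.mem_zpowers z),
      QuotientGroup.mk_one]
  · intro a b h
    refine Subtype.ext (Subtype.ext (funext fun q => ?_))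
    obtain ⟨y, rfl⟩ := QuotientGroup.mk_surjective q
    exact congrFun (congrArg Subtype.val (congrArg Subtype.val h)) y
  · rintro ⟨χ, hχ, hχz⟩
    have hker : ∀ u ∈ Subgroup.zpowers z, (χ : G → ℂ) u = (χ : G → ℂ) 1 := by
      intro u hu
      obtain ⟨k, rfl⟩ := (isOfFinOrder_of_finite z).mem_powers_iff_mem_zpowers.2 hu
      show (χ : G → ℂ) (z ^ k) = _
      induction k with
      | zero => rw [pow_zero]
      | succ k ih =>
        rw [pow_succ', S.val_z hzc, ih (pow_mem (Subgroup.mem_zpowers z) k)]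
        have := S.val_z hzc χ 1
        rw [mul_one, ← hz, hχz] at this
        exact this.symm
    obtain ⟨ψ, hψ, e⟩ := IsIrr.exists_factor_quotient χ.2 (Subgroup.zpowers z) hker
    have e' : qinfl (Subgroup.zpowers z) ⟨ψ, hψ⟩ = χ := Subtype.ext (funext fun y => e y)
    exact ⟨⟨⟨ψ, hψ⟩, show qinfl _ _ ∈ B from e'.symm ▸ hχ⟩, Subtype.ext e'⟩

end Central

variable (S : Setup M B P e r t)
include S

/-- The rank at the involution and the other classes; the number of characters. -/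
theorem k_formula {s : G} (hs : s ∈ P) (hsr : s ∉ Subgroup.zpowers r) :
    blockRank 2 (S.bel (r ^ 2 ^ t)).2 + (S.uset s).card = 3 ∧
      Nat.card B = blockRank 2 B + 2 ^ t + 2 := by
  classical
  set z := r ^ 2 ^ t with hz
  have hzP := S.qu.pow_mem' (2 ^ t)
  set a := S.bel z with ha
  have ha1 : a.1 = Subgroup.zpowers z := S.bel_fst hzP
  set C := CG a.1 with hC
  letI := Fintype.ofFinite C
  have hmemC : ∀ {g : G}, g ∈ C ↔ g * z = z * g := fun {g} => by
    rw [hC, ha1, cg_zpowers, Subgroup.mem_centralizer_singleton_iff]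
  have hPC : P ≤ C := fun w hw => hmemC.2 (S.qu.z_central hw)
  have hale : LE 2 M a (⟨P, e⟩ : BrauerPairIdx G) := S.bel_le hzP
  have hCP : CG P ≤ C := Subgroup.centralizer_le (le_subgroup hale)
  -- the block of the centralizer
  obtain ⟨x, hx, hst, hxx⟩ := step_below S.hM S.isPr hale (le_subgroup hale) le_rfl
    (hPC.trans (cg_le_normalizer a.1))
  obtain rfl : x = (⟨P, e⟩ : BrauerPairIdx G) := eq_of_le_of_subgroup S.hM hxx hx.ge
  set y := dn C (⟨P, e⟩ : BrauerPairIdx G) hPC hCP with hy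
  have hyB : OfB 2 M a.2 y := by
    refine ofB_of_holds (le_isPr hale S.isPr).2 (isPr_dn S.hM S.isPr hPC hCP) ?_
    rw [← bc_res C a.2]
    exact (holds_dn (⟨P, e⟩ : BrauerPairIdx G) hPC hCP _).2 ((step_iff S.hM).1 hst).2.2.2.2.2
  have hD : IsDefectGroup 2 M a.2 (P.subgroupOf C) := by
    have h := isDefect_inf_of_card S.hM S.isPr hale ?_
    · rwa [show (⟨P, e⟩ : BrauerPairIdx G).1 ⊓ CG a.1 = P from inf_eq_left.2 hPC] at h
    · rw [show (⟨P, e⟩ : BrauerPairIdx G).1 ⊓ CG a.1 = P from inf_eq_left.2 hPC, S.qu.card,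
        S.defect_major hzP fun w hw => S.qu.z_central hw]
  have hrC : r ∈ C := hPC S.qu.mem
  set r' : C := ⟨r, hrC⟩ with hr'
  have hmemr : ∀ {w : C}, w ∈ Subgroup.zpowers r' ↔ (w : G) ∈ Subgroup.zpowers r := by
    intro w
    constructor
    · rintro ⟨k, rfl⟩; exact ⟨k, by simp [hr']⟩
    · rintro ⟨k, hk⟩; exact ⟨k, Subtype.ext (by simpa [hr'] using hk)⟩
  have hqu : Qu (P.subgroupOf C) r' t := by
    refine ⟨S.qu.pos, ?_, Subgroup.mem_subgroupOf.2 S.qu.mem, ?_, fun w hw hwr => ?_,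
      ⟨⟨s, hPC hs⟩, Subgroup.mem_subgroupOf.2 hs, fun hc => hsr (hmemr.1 hc)⟩⟩
    · rw [hr', Subgroup.orderOf_mk, S.qu.order]
    · rw [Nat.card_congr (Subgroup.subgroupOfEquivOfLe hPC).toEquiv, S.qu.card]
    · obtain ⟨h1, h2⟩ := S.qu.refl _ (Subgroup.mem_subgroupOf.1 hw) fun hc => hwr (hmemr.2 hc)
      exact ⟨Subtype.ext (by simpa [hr'] using h1), Subtype.ext (by simpa [hr'] using h2)⟩
  have S' : Setup M a.2 (P.subgroupOf C) y.2 r' t :=
    ⟨S.hM, max_of_defect S.hM hyB hD, hqu⟩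
  have hzc' : ∀ g : C, g * r' ^ 2 ^ t = r' ^ 2 ^ t * g := fun g => Subtype.ext (by
    show (g : G) * ((r' ^ 2 ^ t : C) : G) = ((r' ^ 2 ^ t : C) : G) * (g : G)
    rw [show ((r' ^ 2 ^ t : C) : G) = z by simp [hr', hz]]
    exact hmemC.1 g.2)
  set s' : C := ⟨s, hPC hs⟩ with hs'
  have hsP' : s' ∈ P.subgroupOf C := Subgroup.mem_subgroupOf.2 hs
  have hsr' : s' ∉ Subgroup.zpowers r' := fun hc => hsr (hmemr.1 hc)
  -- fusion agrees
  have hbel : ∀ {x : C}, (x : G) ∈ P → (x : G) ≠ 1 →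
      ∃ (h1 : (S.bel (x : G)).1 ≤ C) (h2 : CG (S.bel (x : G)).1 ≤ C),
        dn C (S.bel (x : G)) h1 h2 = S'.bel x := by
    intro x hx hx1
    have h2 : CG (S.bel (x : G)).1 ≤ C := by
      refine Subgroup.centralizer_le ?_
      rw [ha1, S.bel_fst hx]
      exact Subgroup.zpowers_le.2 (S.qu.z_mem_zpowers hx hx1)
    refine ⟨(le_subgroup (S.bel_le hx)).trans hPC, h2, S'.bel_unique ?_ (le_dn S.hM (S.bel_le hx) h2 hPC)⟩
    rw [dn_fst, S.bel_fst hx]
    ext w
    rw [Subgroup.mem_subgroupOf]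
    constructor
    · rintro ⟨k, hk⟩; exact ⟨k, Subtype.ext (by simpa using hk)⟩
    · rintro ⟨k, rfl⟩; exact ⟨k, by simp⟩
  have hfus : ∀ {x w : C}, (x : G) ∈ P → (x : G) * x = z → (w : G) ∈ P → (w : G) * w = z →
      (S'.Fus x w ↔ S.Fus (x : G) (w : G)) := by
    intro x w hx hx2 hw hw2
    have hne : ∀ {v : G}, v * v = z → v ≠ 1 := fun {v} h e => S.qu.z_ne_one (by
      rw [← hz, ← h, e, one_mul])
    obtain ⟨hx1', hx2', hex⟩ := hbel hx (hne hx2)
    obtain ⟨hw1', hw2', hew⟩ := hbel hw (hne hw2)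
    constructor
    · rintro ⟨c, hc, he⟩
      rw [← hex, ← hew] at he
      exact ⟨(c : G), by rw [← hc]; rfl, (dn_conj_eq S.hM hx1' hx2' hw1' hw2' he.symm).symm⟩
    · rintro ⟨g, hg, he⟩
      have hgC : g ∈ C := hmemC.2 (by
        have h1 : g * z * g⁻¹ = z := by
          calc g * z * g⁻¹ = g * x * g⁻¹ * (g * x * g⁻¹) := by rw [← hx2]; group
            _ = z := by rw [hg, hw2]
        exact mul_inv_eq_iff_eq_mul.1 h1)
      refine ⟨⟨g, hgC⟩, Subtype.ext hg, ?_⟩
      rw [← hex, ← hew, ← dn_cjI ⟨g, hgC⟩ _ hx1' hx2' (he ▸ hw1') (he ▸ hw2')]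
      congr 1
  obtain ⟨d, hd⟩ : ∃ d, t = d + 1 := ⟨t - 1, by have := S.qu.pos; omega⟩
  have hqC : ((r' ^ 2 ^ (t - 1) : C) : G) = r ^ 2 ^ (t - 1) := by simp [hr']
  have hq2 : r ^ 2 ^ (t - 1) * r ^ 2 ^ (t - 1) = z := by
    rw [hz, ← pow_add, hd, Nat.add_sub_cancel, pow_succ]
    congr 1
    ring
  have hsz : s * s = z := (S.qu.refl s hs hsr).1
  have hrsP : r * s ∈ P := mul_mem S.qu.mem hs
  have hrsr : r * s ∉ Subgroup.zpowers r := fun hc => hsr (by
    simpa using mul_mem (inv_mem (Subgroup.mem_zpowers r)) hc)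
  have hrsz : r * s * (r * s) = z := (S.qu.refl _ hrsP hrsr).1
  have e1 := hfus (x := s') (w := r' ^ 2 ^ (t - 1)) hs hsz (hqC ▸ S.qu.pow_mem' _) (hqC ▸ hq2)
  have e2 := hfus (x := r' * s') (w := r' ^ 2 ^ (t - 1)) hrsP hrsz (hqC ▸ S.qu.pow_mem' _)
    (hqC ▸ hq2)
  have e3 := hfus (x := r' * s') (w := s') hrsP hrsz hs hsz
  rw [hqC] at e1 e2
  have hU : (S'.uset s').card = (S.uset s).card := by
    rw [← Finset.card_image_of_injective (S'.uset s') Subtype.val_injective]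
    congr 1
    have hne : r * s ≠ s := fun h => by
      have h1 := mul_eq_right.1 h
      have := S.qu.order
      rw [h1, orderOf_one, pow_succ] at this
      have := Nat.two_pow_pos t
      omega
    ext v
    simp only [Setup.uset, Finset.mem_image, Finset.mem_filter, Finset.mem_insert,
      Finset.mem_singleton]
    constructor
    · rintro ⟨w, ⟨rfl | rfl, h1, h2⟩, rfl⟩
      · exact ⟨Or.inl rfl, fun h => h1 (e1.2 h), Or.inl rfl⟩
      · refine ⟨Or.inr rfl, fun h => h1 (e2.2 h), Or.inr fun h => ?_⟩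
        rcases h2 with h2 | h2
        · exact hne (congrArg Subtype.val h2)
        · exact h2 (e3.2 h)
    · rintro ⟨rfl | rfl, h1, h2⟩
      · exact ⟨s', ⟨Or.inl rfl, fun h => h1 (e1.1 h), Or.inl rfl⟩, rfl⟩
      · refine ⟨r' * s', ⟨Or.inr rfl, fun h => h1 (e2.1 h), Or.inr fun h => ?_⟩, rfl⟩
        rcases h2 with h2 | h2
        · exact hne h2
        · exact h2 (e3.1 h)
  obtain ⟨h1, -⟩ := S'.central_count hzc' hsP' hsr'
  have h2 := S'.quotient_count hzc'
  have hk := S.card_eq hs hsr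
  rw [← hz, ← ha] at hk
  have ht2 : 2 ^ t = 2 * 2 ^ (t - 1) := by rw [hd, Nat.add_sub_cancel, pow_succ]; ring
  rw [hU] at h1
  have := Nat.two_pow_pos (t - 1)
  omega

end Setup

end Cfsg.Agent.Char.QuatBlk
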