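import Cfsg.Agent.Lib.Char.QuatBlockLevels
import Cfsg.Agent.Lib.Char.MajorHeight

/-!
Lemmas for the heights of a 2-block with generalized quaternion defect group: integral vectors of
small norm, the integral parts at the centre and their valuations.
-/

open scoped ComplexConjugate

namespace Cfsg.Agent.Char.QuatBlk

open Polynomial Cfsg Cfsg.Agent.Block Cfsg.Agent.Char Cfsg.Agent.Char.BP Cfsg.Agent.Char.Spec

set_option linter.unusedSectionVars false
set_option linter.style.haveILetI false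
set_option maxHeartbeats 800000

universe u

section Vectors

variable {ι : Type*}

theorem one_le_sq {x : ℤ} (h : x ≠ 0) : (1 : ℤ) ≤ x ^ 2 :=
  Int.add_one_le_iff.2 (pow_two_pos_of_ne_zero h)

/-- An integral vector with `N` nonzero places in a set has square norm at least `N`. -/
theorem card_le_sum_sq {A H : Finset ι} {f : ι → ℤ} (hH : H ⊆ A) (h : ∀ x ∈ H, f x ≠ 0) :
    (H.card : ℤ) ≤ ∑ x ∈ A, f x ^ 2 := by
  refine le_trans ?_ (Finset.sum_le_sum_of_subset_of_nonneg hH fun x _ _ => sq_nonneg _)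
  calc (H.card : ℤ) = ∑ _x ∈ H, (1 : ℤ) := by simp
    _ ≤ _ := Finset.sum_le_sum fun x hx => one_le_sq (h x hx)

/-- With as many nonzero places as its square norm a vector is signed there and zero elsewhere. -/
theorem tight {A H : Finset ι} {f : ι → ℤ} (hH : H ⊆ A) (h : ∀ x ∈ H, f x ≠ 0)
    (hsum : ∑ x ∈ A, f x ^ 2 = H.card) :
    (∀ x ∈ H, f x = 1 ∨ f x = -1) ∧ ∀ x ∈ A, x ∉ H → f x = 0 := by
  classical
  rw [← Finset.sum_sdiff hH] at hsum
  have h1 := card_le_sum_sq (Finset.Subset.refl H) h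
  have h2 : 0 ≤ ∑ x ∈ A \ H, f x ^ 2 := Finset.sum_nonneg fun x _ => sq_nonneg _
  have hz : ∀ x ∈ A \ H, f x ^ 2 = 0 :=
    (Finset.sum_eq_zero_iff_of_nonneg fun x _ => sq_nonneg (f x)).1 (by linarith)
  refine ⟨fun x hx => ?_, fun x hx hn =>
    (pow_eq_zero_iff two_ne_zero).1 (hz x (Finset.mem_sdiff.2 ⟨hx, hn⟩))⟩
  have h3 := (Finset.sum_eq_sum_iff_of_le fun y hy => one_le_sq (h y hy)).1
    (show ∑ y ∈ H, (1 : ℤ) = ∑ y ∈ H, f y ^ 2 by
      rw [Finset.sum_const, nsmul_eq_mul, mul_one]; linarith) x hx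
  exact sq_eq_one_iff.1 h3.symm

/-- A vector of square norm two orthogonal to a positive vector. -/
theorem norm_two {A : Finset ι} {f d : ι → ℤ} (hd : ∀ x ∈ A, 0 < d x)
    (h2 : ∑ x ∈ A, f x ^ 2 = 2) (h0 : ∑ x ∈ A, d x * f x = 0) :
    (A.filter fun x => f x ≠ 0).card = 2 ∧ ∀ x ∈ A, f x ≠ 0 → f x = 1 ∨ f x = -1 := by
  classical
  set T := A.filter fun x => f x ≠ 0 with hT
  have hTA : T ⊆ A := Finset.filter_subset _ _
  have hT0 : ∀ x ∈ T, f x ≠ 0 := fun x hx => (Finset.mem_filter.1 hx).2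
  have hle := card_le_sum_sq hTA hT0
  rw [h2] at hle
  have hsub : ∑ x ∈ T, f x ^ 2 = 2 := by
    rw [← h2]
    exact Finset.sum_subset hTA fun x hx hn => by
      rw [show f x = 0 by by_contra h; exact hn (Finset.mem_filter.2 ⟨hx, h⟩)]; rfl
  have hne1 : T.card ≠ 1 := by
    intro h1
    obtain ⟨x, hx⟩ := Finset.card_eq_one.1 h1
    have hxT : x ∈ T := hx ▸ Finset.mem_singleton_self x
    rw [← Finset.sum_subset hTA fun y hy hn => by
      rw [show f y = 0 by by_contra h; exact hn (Finset.mem_filter.2 ⟨hy, h⟩), mul_zero],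
      hx, Finset.sum_singleton] at h0
    exact mul_ne_zero (hd x (hTA hxT)).ne' (hT0 x hxT) h0
  have hne0 : T.card ≠ 0 := fun h => by
    rw [Finset.card_eq_zero.1 h, Finset.sum_empty] at hsub
    norm_num at hsub
  have hT2 : T.card = 2 := by omega
  refine ⟨hT2, fun x hx hfx => (tight hTA hT0 (by rw [h2, hT2]; rfl)).1 x
    (Finset.mem_filter.2 ⟨hx, hfx⟩)⟩

/-- Two such vectors which are orthogonal have disjoint supports. -/
theorem norm_two_disjoint {A : Finset ι} {f f' d : ι → ℤ} (hd : ∀ x ∈ A, 0 < d x)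
    (h2 : ∑ x ∈ A, f x ^ 2 = 2) (h0 : ∑ x ∈ A, d x * f x = 0)
    (h2' : ∑ x ∈ A, f' x ^ 2 = 2) (h0' : ∑ x ∈ A, d x * f' x = 0)
    (horth : ∑ x ∈ A, f x * f' x = 0) {x : ι} (hx : x ∈ A) (hfx : f x ≠ 0) : f' x = 0 := by
  classical
  by_contra hfx'
  obtain ⟨hc, hu⟩ := norm_two hd h2 h0
  obtain ⟨hc', hu'⟩ := norm_two hd h2' h0'
  obtain ⟨y, hy, hyx⟩ := Finset.exists_mem_ne (s := A.filter fun v => f v ≠ 0) (by omega) x
  obtain ⟨hyA, hfy⟩ := Finset.mem_filter.1 hy
  have hsupp : A.filter (fun v => f v ≠ 0) = {x, y} := by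
    refine (Finset.eq_of_subset_of_card_le (fun v hv => ?_) ?_).symm
    · rcases Finset.mem_insert.1 hv with rfl | hv
      · exact Finset.mem_filter.2 ⟨hx, hfx⟩
      · rw [Finset.mem_singleton.1 hv]; exact hy
    · rw [hc, Finset.card_pair hyx.symm]
  have hsum : ∀ g : ι → ℤ, ∑ v ∈ A, f v * g v = f x * g x + f y * g y := fun g => by
    rw [← Finset.sum_pair (f := fun v => f v * g v) hyx.symm, ← hsupp]
    refine (Finset.sum_subset (Finset.filter_subset _ _) fun v hv hn => ?_).symm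
    rw [show f v = 0 by by_contra h; exact hn (Finset.mem_filter.2 ⟨hv, h⟩), zero_mul]
  rw [hsum] at horth
  have hd0 : ∑ v ∈ A, f v * d v = 0 := by
    rw [← h0]; exact Finset.sum_congr rfl fun v _ => mul_comm _ _
  rw [hsum] at hd0
  have hdx := hd x hx
  have hdy := hd y hyA
  by_cases hfy' : f' y = 0
  · rw [hfy', mul_zero, add_zero] at horth
    exact mul_ne_zero hfx hfx' horth
  have hsupp' : A.filter (fun v => f' v ≠ 0) = {x, y} := by
    refine (Finset.eq_of_subset_of_card_le (fun v hv => ?_) ?_).symm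
    · rcases Finset.mem_insert.1 hv with rfl | hv
      · exact Finset.mem_filter.2 ⟨hx, hfx'⟩
      · rw [Finset.mem_singleton.1 hv]; exact Finset.mem_filter.2 ⟨hyA, hfy'⟩
    · rw [hc', Finset.card_pair hyx.symm]
  have hd0' : f' x * d x + f' y * d y = 0 := by
    rw [← Finset.sum_pair (f := fun v => f' v * d v) hyx.symm, ← hsupp',
      Finset.sum_subset (Finset.filter_subset _ _) fun v hv hn => by
        rw [show f' v = 0 by by_contra h; exact hn (Finset.mem_filter.2 ⟨hv, h⟩), zero_mul], ← h0']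
    exact Finset.sum_congr rfl fun v _ => mul_comm _ _
  rcases hu x hx hfx with a | a <;> rcases hu y hyA hfy with b | b <;>
    rcases hu' x hx hfx' with c | c <;> rcases hu' y hyA hfy' with e | e <;>
    simp only [a, b, c, e] at horth hd0 hd0' <;> linarith

/-- Orthogonal nonzero vectors on a set are at most as many as its elements. -/
theorem card_le_of_orth {H : Finset ι} {κ : Type*} [Fintype κ] (v : κ → ι → ℤ)
    (hnz : ∀ a, ∃ x ∈ H, v a x ≠ 0) (horth : ∀ a b, a ≠ b → ∑ x ∈ H, v a x * v b x = 0) :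
    Fintype.card κ ≤ H.card := by
  classical
  let w : κ → (↥H → ℚ) := fun a x => (v a x.1 : ℚ)
  have hw : LinearIndependent ℚ w := by
    rw [Fintype.linearIndependent_iff]
    intro g hg b
    have h1 := congrArg (fun F : ↥H → ℚ => ∑ x, F x * w b x) hg
    simp only [Finset.sum_apply, Pi.smul_apply, smul_eq_mul, Pi.zero_apply, zero_mul,
      Finset.sum_const_zero, Finset.sum_mul] at h1
    rw [Finset.sum_comm, Finset.sum_eq_single b (fun a _ hab => ?_)
      fun h => absurd (Finset.mem_univ b) h] at h1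
    · simp only [mul_assoc, ← Finset.mul_sum] at h1
      refine (mul_eq_zero.1 h1).resolve_right ?_
      obtain ⟨x, hx, hx0⟩ := hnz b
      intro hz
      have hz' := (Finset.sum_eq_zero_iff_of_nonneg fun y _ => mul_self_nonneg (w b y)).1 hz
        ⟨x, hx⟩ (Finset.mem_univ _)
      have hz2 := mul_self_eq_zero.1 hz'
      simp only [w] at hz2
      exact hx0 (by exact_mod_cast hz2)
    · simp only [mul_assoc, ← Finset.mul_sum]
      have h2 : ∑ x : ↥H, w a x * w b x = ((∑ x ∈ H, v a x * v b x : ℤ) : ℚ) := by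
        rw [Int.cast_sum, ← Finset.sum_coe_sort H]
        exact Finset.sum_congr rfl fun x _ => by push_cast; rfl
      rw [h2, horth a b hab, Int.cast_zero, mul_zero]
  have h := hw.fintype_card_le_finrank
  rwa [Module.finrank_fintype_fun_eq_card, Fintype.card_coe] at h

end Vectors

variable {G : Type u} [Group G] [Fintype G] {M : Ideal AlgInt} {B : Set (IrrCharacter G)}

/-- A contribution of any subsection against the heights. -/
theorem contrib_ring {p : ℕ} [Fact p.Prime] (hM : IsPModular p M) {a : BrauerPairIdx G} {y : G}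
    (hay : a.1 = Subgroup.zpowers y) (haB : OfB p M B a) {ψ : IrrCharacter G} (hψ : ψ ∈ B)
    (η : IrrCharacter G) :
    MemLocalRing M (contrib p (blockDefect p B) a y ψ η /
      (p : ℂ) ^ blockHeight p B (ψ : G → ℂ)) := by
  have hp : p.Prime := Fact.out
  have hB := haB.2.1
  set h := blockHeight p B (ψ : G → ℂ)
  set d := blockDefect p B
  have hfac : (Nat.card G * p ^ h).factorization p ≤
      (charDegree (ψ : G → ℂ) * p ^ d).factorization p := by
    rw [Nat.factorization_mul Nat.card_pos.ne' (pow_ne_zero _ hp.ne_zero),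
      Nat.factorization_mul (charDeg_pos ψ).ne' (pow_ne_zero _ hp.ne_zero), Finsupp.add_apply,
      Finsupp.add_apply, Nat.Prime.factorization_pow hp, Nat.Prime.factorization_pow hp,
      Finsupp.single_eq_same, Finsupp.single_eq_same]
    have h1 := blockHeight_eq hM hB hψ
    have h2 := le_defect_add hM hB hψ
    omega
  obtain ⟨F, hF, hval⟩ := exists_contrib_omega hM hay haB.1 η d
  rw [hval, show ((charDegree (ψ : G → ℂ) * p ^ d : ℕ) : ℂ) / (Nat.card G : ℂ) * F ψ / (p : ℂ) ^ h =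
      ((charDegree (ψ : G → ℂ) * p ^ d : ℕ) : ℂ) / ((Nat.card G * p ^ h : ℕ) : ℂ) * F ψ by
    push_cast; field_simp]
  exact ring_mul hM (ring_natDiv hM (Nat.mul_ne_zero Nat.card_pos.ne' (pow_ne_zero _ hp.ne_zero))
    (Nat.mul_ne_zero (charDeg_pos ψ).ne' (pow_ne_zero _ hp.ne_zero)) hfac) (hF.ring hM ψ)

variable {P : Subgroup G} {e : Set (IrrCharacter (CG P))} {r : G} {t : ℕ}

namespace Setup

variable (S : Setup M B P e r t) {s : G} (hs : s ∈ P) (hsr : s ∉ Subgroup.zpowers r)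
include S hs hsr

/-- The integral part at the identity. -/
theorem exists_g : ∃ g : IrrCharacter G → IrrCharacter G → ℤ,
    (∀ χ, ∀ η ∈ B, (2 : ℂ) ^ (t + 2) * SecRep.E 2 (1, S.bel 1) χ η = g χ η) := by
  have key : ∀ χ η : IrrCharacter G, ∃ z : ℤ,
      η ∈ B → (2 : ℂ) ^ (t + 2) * SecRep.E 2 (1, S.bel 1) χ η = z := by
    intro χ η
    by_cases hη : η ∈ B
    · obtain ⟨z, y, hz, -, -⟩ := S.int_central hs hsr χ hη
      exact ⟨z, fun _ => hz⟩
    · exact ⟨0, fun h => absurd h hη⟩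
  choose g hg using key
  exact ⟨g, fun χ η hη => hg χ η hη⟩

variable {g : IrrCharacter G → IrrCharacter G → ℤ}
  (hg : ∀ χ, ∀ η ∈ B, (2 : ℂ) ^ (t + 2) * SecRep.E 2 (1, S.bel 1) χ η = g χ η)
include hg

theorem g_symm {χ η : IrrCharacter G} (hχ : χ ∈ B) (hη : η ∈ B) : g χ η = g η χ := by
  apply Int.cast_injective (α := ℂ)
  rw [← hg χ η hη, ← hg η χ hχ, ← SecRep.E_symm (p := 2) ((1 : G), S.bel 1) η χ]
  have h : conj ((2 : ℂ) ^ (t + 2) * SecRep.E 2 (1, S.bel 1) η χ) =
      (2 : ℂ) ^ (t + 2) * SecRep.E 2 (1, S.bel 1) η χ := by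
    rw [hg η χ hχ, map_intCast]
  rw [map_mul, map_pow, map_ofNat] at h
  exact h

/-- The rows. -/
theorem g_rows [DecidablePred (· ∈ B)] {w w' : IrrCharacter G} (hw : w ∈ B) (hw' : w' ∈ B) :
    ∑ η ∈ Finset.univ.filter (· ∈ B), g w η * g w' η = 2 ^ (t + 2) * g w w' := by
  apply Int.cast_injective (α := ℂ)
  push_cast
  rw [← hg w w' hw', ← (S.isReps hs hsr).E_idem S.hM S.isBlock
    (S.reps_mem hs hsr (Or.inl rfl)) w hw', Finset.mul_sum, Finset.mul_sum]
  refine Finset.sum_congr rfl fun η hη => ?_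
  have hη' := (Finset.mem_filter.1 hη).2
  rw [← hg w η hη', show (g w' η : ℂ) = (g η w' : ℂ) by rw [S.g_symm hs hsr hg hw' hη'],
    ← hg η w' hw']
  ring

/-- The valuations against a character of height zero. -/
theorem g_val {ψ χ : IrrCharacter G} (hψ : ψ ∈ B) (hχ : χ ∈ B)
    (h0 : blockHeight 2 B (χ : G → ℂ) = 0) :
    (2 : ℤ) ^ blockHeight 2 B (ψ : G → ℂ) ∣ g ψ χ ∧
      ¬ (2 : ℤ) ^ (blockHeight 2 B (ψ : G → ℂ) + 1) ∣ g ψ χ := by
  set h := blockHeight 2 B (ψ : G → ℂ)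
  have hd : blockDefect 2 (S.bel 1).2 = blockDefect 2 B := by
    rw [S.defect, S.defect_major (one_mem _) fun w _ => by simp]
  obtain ⟨h1, h2, -⟩ := contrib_height S.hM (y := (1 : G)) ⟨0, by simp⟩ (S.bel_fst (one_mem _))
    (S.bel_ofB (one_mem _)) hd (η := χ) hψ
  have e : contrib 2 (blockDefect 2 B) (S.bel 1) 1 ψ χ = (g ψ χ : ℂ) := by
    rw [← hg ψ χ hχ, contrib, S.defect, SecRep.E, Nat.cast_ofNat, mul_div_assoc]
  rw [e] at h1 h2
  refine ⟨by simpa using pow_dvd_of_ring_div S.hM h _ h1, fun hd' => h2 hχ h0 ?_⟩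
  obtain ⟨w, hw⟩ := hd'
  rw [hw, show ((((2 : ℤ) ^ (h + 1) * w : ℤ)) : ℂ) / ((2 : ℕ) : ℂ) ^ h =
    ((2 : ℕ) : ℂ) * (w : ℂ) by push_cast; field_simp; ring]
  exact ideal_mul_right S.hM (ideal_p S.hM) (ring_intCast S.hM _)

/-- Four characters of height zero; an odd number of height one. -/
theorem mod_eight [DecidablePred (· ∈ B)] :
    8 ∣ ((Finset.univ.filter (· ∈ B)).filter fun χ : IrrCharacter G =>
        blockHeight 2 B (χ : G → ℂ) = 0).card + 4 *
      ((Finset.univ.filter (· ∈ B)).filter fun χ : IrrCharacter G =>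
        blockHeight 2 B (χ : G → ℂ) = 1).card := by
  classical
  obtain ⟨χ, hχ, h0⟩ := exists_height_zero S.hM S.isBlock
  set A := Finset.univ.filter (· ∈ B) with hA
  have hsq : ((∑ η ∈ A, g χ η * g χ η : ℤ) : ZMod 8) = 0 := by
    rw [S.g_rows hs hsr hg hχ hχ]
    obtain ⟨d, hd⟩ : ∃ d, t + 2 = 3 + d := ⟨t - 1, by have := S.qu.pos; omega⟩
    push_cast
    rw [hd, pow_add, show (2 : ZMod 8) ^ 3 = 0 from rfl, zero_mul, zero_mul]
  rw [← ZMod.natCast_eq_zero_iff, ← hsq]
  push_cast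
  rw [Finset.card_filter, Finset.card_filter, Nat.cast_sum, Nat.cast_sum, Finset.mul_sum,
    ← Finset.sum_add_distrib]
  refine Finset.sum_congr rfl fun η hη => ?_
  have hη' := (Finset.mem_filter.1 hη).2
  obtain ⟨⟨w, hw⟩, hnd⟩ := S.g_val hs hsr hg hη' hχ h0
  rw [S.g_symm hs hsr hg hχ hη', hw]
  have hwodd : Odd w := by
    rw [← Int.not_even_iff_odd, even_iff_two_dvd]
    rintro ⟨v, rfl⟩
    exact hnd ⟨v, by rw [hw, pow_succ]; ring⟩
  have hw2 : ((w : ZMod 8)) * w = 1 := by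
    obtain ⟨v, rfl⟩ := hwodd
    push_cast
    obtain ⟨u, rfl⟩ | ⟨u, rfl⟩ := Int.even_or_odd v
    all_goals
      push_cast
      ring_nf
      simp [show (8 : ZMod 8) = 0 from rfl, show (16 : ZMod 8) = 0 from rfl,
        show (24 : ZMod 8) = 0 from rfl, show (9 : ZMod 8) = 1 from rfl]
  push_cast
  rcases hh : blockHeight 2 B (η : G → ℂ) with _ | _ | k
  · simp [hw2]
  · norm_num
    linear_combination (-4 : ZMod 8) * hw2
  · rw [if_neg (by omega), if_neg (by omega)]
    push_cast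
    have h16 : (16 : ZMod 8) = 0 := rfl
    linear_combination (-(2 : ZMod 8) ^ (k * 2) * w ^ 2) * h16

end Setup

end Cfsg.Agent.Char.QuatBlk
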