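import Cfsg.Agent.Lib.Char.QuatBlockStar
import Cfsg.Agent.Lib.Char.QuatBlockCount
import Cfsg.Agent.Lib.Char.QuatBlockCoeff

/-!
The coefficients of the columns of a 2-block with generalized quaternion defect group, level by
level: parity, Gram relations, orthogonality and divisibility.
-/

open scoped ComplexConjugate

namespace Cfsg.Agent.Char.QuatBlk

open Polynomial Cfsg Cfsg.Agent.Block Cfsg.Agent.Char Cfsg.Agent.Char.BP Cfsg.Agent.Char.Spec

set_option linter.unusedSectionVars false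
set_option linter.style.haveILetI false
set_option maxHeartbeats 800000

universe u

variable {G : Type u} [Group G] [Fintype G] {M : Ideal AlgInt} {B : Set (IrrCharacter G)}
variable {P : Subgroup G} {e : Set (IrrCharacter (CG P))} {r : G} {t : ℕ}

theorem eval_congr (hM : IsPModular 2 M) {J : ℕ} {A : ℤ[X]} (hA : A.natDegree < 2 ^ J) :
    MemLocalIdeal M (aeval (zeta J) A - ((∑ i ∈ Finset.range (2 ^ J), A.coeff i : ℤ) : ℂ)) := by
  rw [aeval_eq_sum_range' hA, Int.cast_sum, ← Finset.sum_sub_distrib]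
  refine ideal_sum hM fun i _ => ?_
  rw [zsmul_eq_mul, show (A.coeff i : ℂ) * zeta J ^ i - (A.coeff i : ℂ) =
    (A.coeff i : ℂ) * ((∑ m ∈ Finset.range i, zeta J ^ m) * (-1) * (1 - zeta J)) by
      have := geom_sum_mul (zeta J) i
      linear_combination -(A.coeff i : ℂ) * this]
  exact ideal_mul_left hM (ring_of_integral hM (isIntegral_intCast _))
    (ideal_mul_left hM (ring_of_integral hM ((IsIntegral.sum _
      fun m _ => (CycloTwo.zeta_integral (zeta_half J)).pow m).mul isIntegral_one.neg))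
      (CycloTwo.pi_ideal hM (zeta_half J)))

namespace Setup

variable (S : Setup M B P e r t)
include S

/-- A column is invariant under inversion. -/
theorem col_inv {a : BrauerPairIdx G} (o : DihBlk.One 2 a) {u : G} (ha : a = S.bel u) (hu : u ∈ P)
    (χ : IrrCharacter G) : o.col χ u⁻¹ = o.col χ u := by
  obtain ⟨w, hw, hwx⟩ := S.qu.exists_inverts hu
  have h := sct_conj (irr_classFun χ) a w u 1
  rw [ha, S.cjI_bel hu hw, hwx, S.bel_congr (inv_mem hu) (Subgroup.zpowers_inv (g := u)), ← ha,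
    mul_one, mul_inv_cancel] at h
  simp only [DihBlk.One.col, h]

theorem col_real {a : BrauerPairIdx G} (o : DihBlk.One 2 a) {u : G} (ha : a = S.bel u) (hu : u ∈ P)
    (χ : IrrCharacter G) : conj (o.col χ u) = o.col χ u := by
  have h1 : a.1 = Subgroup.zpowers u := ha ▸ S.bel_fst hu
  rw [o.conj_col (DihBlk.One.comm_of_gen h1) χ (h1 ▸ Subgroup.mem_zpowers u),
    S.col_inv o ha hu χ]

/-- The polynomial of a column on the generators. -/
theorem exists_col_poly {a : BrauerPairIdx G} (o : DihBlk.One 2 a) {u : G}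
    (ha : a.1 = Subgroup.zpowers u) {J : ℕ} (hJ : orderOf u = 2 ^ (J + 1)) (χ : IrrCharacter G) :
    ∃ A : ℤ[X], A.natDegree < 2 ^ J ∧
      ∀ k : ℕ, Odd k → o.col χ (u ^ k) = aeval (zeta J ^ k) A := by
  haveI := Fintype.ofFinite (Subgroup.zpowers u)
  have hgen := o.col_genChar' (DihBlk.One.comm_of_gen ha) ha χ
  have htop : Subgroup.zpowers (⟨u, Subgroup.mem_zpowers u⟩ : Subgroup.zpowers u) = ⊤ :=
    (Subgroup.eq_top_iff' _).2 fun v => by
      obtain ⟨k, hk⟩ := Subgroup.mem_zpowers_iff.1 v.2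
      exact ⟨k, Subtype.ext (by simpa using hk)⟩
  obtain ⟨A, hA, hval⟩ := exists_poly htop (by rw [Subgroup.orderOf_mk, hJ]) hgen
  exact ⟨A, hA, fun k hk => by simpa using hval k hk⟩

/-- The equipment at a level. -/
structure Lvl (S : Setup M B P e r t) (j : ℕ) where
  o : DihBlk.One 2 (S.bel (r ^ 2 ^ j))
  A : IrrCharacter G → ℤ[X]
  deg : ∀ χ, (A χ).natDegree < 2 ^ (t - j)
  val : ∀ χ, ∀ k : ℕ, Odd k → o.col χ ((r ^ 2 ^ j) ^ k) = aeval (zeta (t - j) ^ k) (A χ)

theorem exists_lvl {j : ℕ} (hj : j < t) : Nonempty (Lvl S j) := by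
  have hxx : r ^ 2 ^ j * r ^ 2 ^ j ≠ 1 :=
    S.rot_sq_ne Nat.one_le_two_pow (Nat.pow_lt_pow_right one_lt_two hj)
  have hP := S.qu.pow_mem' (2 ^ j)
  obtain ⟨o⟩ := DihBlk.exists_one S.hM (S.bel_ofB hP).1.2 (S.rank_bel hP hxx)
  have hord : orderOf (r ^ 2 ^ j) = 2 ^ (t - j + 1) := by
    rw [orderOf_pow' _ (pow_ne_zero _ two_ne_zero), S.qu.order,
      Nat.gcd_eq_right (pow_dvd_pow 2 (by omega)), Nat.pow_div (by omega) two_pos]
    congr 1
    omega
  choose A hA hval using fun χ => S.exists_col_poly o (S.bel_fst hP) hord χ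
  exact ⟨⟨o, A, hA, hval⟩⟩

/-- The generators at a level. -/
def gen (_S : Setup M B P e r t) (j s : ℕ) : G := r ^ (2 ^ j * (2 * s + 1))

theorem gen_mem (j s : ℕ) : S.gen j s ∈ Subgroup.zpowers r := pow_mem (Subgroup.mem_zpowers r) _

theorem gen_memP (j s : ℕ) : S.gen j s ∈ P := S.qu.pow_mem' _

theorem gen_exp_lt {j s : ℕ} (hj : j ≤ t) (hs : s < 2 ^ (t - j)) :
    2 ^ j * (2 * s + 1) < 2 ^ (t + 1) := by
  have e : 2 ^ (t + 1) = 2 ^ j * (2 * 2 ^ (t - j)) := by
    rw [← pow_succ', ← pow_add]; congr 1; omega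
  rw [e]
  exact Nat.mul_lt_mul_of_pos_left (by omega) (Nat.two_pow_pos j)

theorem gen_order {j : ℕ} (hj : j < t) (s : ℕ) : orderOf (S.gen j s) = 2 ^ (t - j + 1) := by
  rw [gen, pow_mul, orderOf_pow, orderOf_pow' _ (pow_ne_zero _ two_ne_zero), S.qu.order,
    Nat.gcd_eq_right (pow_dvd_pow 2 (by omega)), Nat.pow_div (by omega) two_pos,
    Nat.Coprime.gcd_eq_one (Nat.Coprime.pow_left _ (Nat.coprime_two_left.2 ⟨s, rfl⟩)), Nat.div_one]
  congr 1
  omega

theorem gen_sq {j : ℕ} (hj : j < t) (s : ℕ) : S.gen j s * S.gen j s ≠ 1 := by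
  intro h
  have h1 := Nat.le_of_dvd two_pos (orderOf_dvd_of_pow_eq_one ((pow_two (S.gen j s)).trans h))
  rw [S.gen_order hj, pow_succ] at h1
  have : 2 ^ 1 ≤ 2 ^ (t - j) := Nat.pow_le_pow_right two_pos (by omega)
  omega

theorem gen_bel {j : ℕ} (hj : j < t) (s : ℕ) : S.bel (S.gen j s) = S.bel (r ^ 2 ^ j) := by
  refine S.bel_congr (S.gen_memP j s) (DihBlk.zpowers_eq_of_orderOf (r := r) (S.gen_mem j s)
    (pow_mem (Subgroup.mem_zpowers r) _) ?_)
  rw [S.gen_order hj, orderOf_pow' _ (pow_ne_zero _ two_ne_zero), S.qu.order,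
    Nat.gcd_eq_right (pow_dvd_pow 2 (by omega)), Nat.pow_div (by omega) two_pos]
  congr 1
  omega

theorem gen_inv {j s : ℕ} (hj : j ≤ t) (hs : s < 2 ^ (t - j)) :
    S.gen j (2 ^ (t - j) - 1 - s) = (S.gen j s)⁻¹ := by
  refine eq_inv_of_mul_eq_one_left ?_
  rw [gen, gen, ← pow_add, ← mul_add,
    show 2 * (2 ^ (t - j) - 1 - s) + 1 + (2 * s + 1) = 2 * 2 ^ (t - j) by omega,
    S.qu.pow_eq_one_iff, ← pow_succ', ← pow_add]
  exact pow_dvd_pow 2 (by omega)

theorem gen_inj {j s s' : ℕ} (hj : j ≤ t) (hs : s < 2 ^ (t - j)) (hs' : s' < 2 ^ (t - j))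
    (h : S.gen j s = S.gen j s') : s = s' := by
  have h1 := pow_injOn_Iio_orderOf (x := r)
    (Set.mem_Iio.2 (by rw [S.qu.order]; exact S.gen_exp_lt hj hs))
    (Set.mem_Iio.2 (by rw [S.qu.order]; exact S.gen_exp_lt hj hs')) h
  have := Nat.eq_of_mul_eq_mul_left (Nat.two_pow_pos j) h1
  omega

/-- The lower half gives representatives. -/
theorem gen_low {j s : ℕ} (hj : j < t) (hs : s < 2 ^ (t - j - 1)) :
    1 ≤ 2 ^ j * (2 * s + 1) ∧ 2 ^ j * (2 * s + 1) < 2 ^ t := by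
  refine ⟨Nat.one_le_iff_ne_zero.2 (Nat.mul_ne_zero (Nat.two_pow_pos j).ne' (by omega)), ?_⟩
  have e : 2 ^ t = 2 ^ j * (2 * 2 ^ (t - j - 1)) := by
    rw [← pow_succ', ← pow_add]; congr 1; omega
  rw [e]
  exact Nat.mul_lt_mul_of_pos_left (by omega) (Nat.two_pow_pos j)

theorem level_half {j : ℕ} (hj : j < t) : 2 ^ (t - j) = 2 ^ (t - j - 1) + 2 ^ (t - j - 1) := by
  rw [← two_mul, ← pow_succ']
  congr 1
  omega

/-- Every rotation representative lies on a level. -/
theorem exists_level_of {i : ℕ} (h1 : 1 ≤ i) (h2 : i < 2 ^ t) :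
    ∃ j s, j < t ∧ s < 2 ^ (t - j - 1) ∧ i = 2 ^ j * (2 * s + 1) := by
  obtain ⟨j, m, hm, rfl⟩ := Nat.exists_eq_two_pow_mul_odd (n := i) (by omega)
  obtain ⟨s, rfl⟩ := hm
  have hj : j < t := by
    by_contra hc
    push Not at hc
    have h3 : 2 ^ t * 1 ≤ 2 ^ j * (2 * s + 1) :=
      Nat.mul_le_mul (Nat.pow_le_pow_right two_pos hc) (by omega)
    omega
  refine ⟨j, s, hj, ?_, rfl⟩
  have e : 2 ^ t = 2 ^ j * (2 * 2 ^ (t - j - 1)) := by
    rw [← pow_succ', ← pow_add]; congr 1; omega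
  rw [e] at h2
  have := Nat.lt_of_mul_lt_mul_left h2
  omega

variable {j : ℕ} (L : Lvl S j) (hj : j < t)

/-- The column of a level. -/
noncomputable def lcol (L : Lvl S j) (χ : IrrCharacter G) (s : ℕ) : ℂ :=
  aeval (zeta (t - j) ^ (2 * s + 1)) (L.A χ)

/-- The coefficients of a level. -/
noncomputable def lco (L : Lvl S j) (χ : IrrCharacter G) (k : ℕ) : ℤ := (L.A χ).coeff k

theorem lcol_eq (χ : IrrCharacter G) (s : ℕ) : S.lcol L χ s = L.o.col χ (S.gen j s) := by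
  rw [lcol, gen, pow_mul, L.val χ _ ⟨s, rfl⟩]

theorem lcol_zero {χ : IrrCharacter G} (h : ∀ k < 2 ^ (t - j), S.lco L χ k = 0) (s : ℕ) :
    S.lcol L χ s = 0 := by
  rw [lcol, aeval_eq_sum_range' (L.deg χ)]
  refine Finset.sum_eq_zero fun k hk => ?_
  rw [show (L.A χ).coeff k = 0 from h k (Finset.mem_range.1 hk), zero_smul]

include hj in
theorem lcol_real (χ : IrrCharacter G) (s : ℕ) : conj (S.lcol L χ s) = S.lcol L χ s := by
  rw [S.lcol_eq]
  exact S.col_real L.o (S.gen_bel hj s).symm (S.gen_memP j s) χ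

include hj in
theorem lcol_reflect (χ : IrrCharacter G) {s : ℕ} (hs : s < 2 ^ (t - j)) :
    S.lcol L χ (2 ^ (t - j) - 1 - s) = S.lcol L χ s := by
  rw [S.lcol_eq, S.lcol_eq, S.gen_inv hj.le hs]
  exact S.col_inv L.o (S.gen_bel hj s).symm (S.gen_memP j s) χ

include hj in
/-- The part of a generator of the level. -/
theorem E_gen (s : ℕ) (χ η : IrrCharacter G) :
    SecRep.E 2 (S.gen j s, S.bel (S.gen j s)) χ η =
      S.lcol L χ s * conj (S.lcol L η s) / (2 : ℂ) ^ (t + 1) := by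
  have hP := S.gen_memP j s
  have hau : (S.bel (r ^ 2 ^ j)).1 = Subgroup.zpowers (S.gen j s) := by
    rw [← S.gen_bel hj s]; exact S.bel_fst hP
  have hd : blockDefect 2 (S.bel (r ^ 2 ^ j)).2 = t + 1 := by
    rw [← S.gen_bel hj s]
    exact S.defect_rotation (S.gen_mem j s) (S.gen_sq hj s)
  rw [S.gen_bel hj s, E_one S.hM L.o (S.ppow_mem hP) hau (S.bel_ofB (S.qu.pow_mem' _)), hd,
    ← S.lcol_eq, ← S.lcol_eq, Nat.cast_ofNat]

variable [DecidablePred (· ∈ B)]

include hj in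
theorem col_gram {s s' : ℕ} (hs : s < 2 ^ (t - j)) (hs' : s' < 2 ^ (t - j)) :
    ∑ χ ∈ Finset.univ.filter (· ∈ B), S.lcol L χ s * conj (S.lcol L χ s') =
      (if s' = s then (2 : ℂ) ^ (t + 1) else 0) +
        if s' = 2 ^ (t - j) - 1 - s then (2 : ℂ) ^ (t + 1) else 0 := by
  have hau : ∀ s, (S.bel (r ^ 2 ^ j)).1 = Subgroup.zpowers (S.gen j s) := fun s => by
    rw [← S.gen_bel hj s]; exact S.bel_fst (S.gen_memP j s)
  have haB := S.bel_ofB (S.qu.pow_mem' (2 ^ j))
  have hn : ∑ χ ∈ Finset.univ.filter (· ∈ B), S.lcol L χ s * conj (S.lcol L χ s) =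
      (2 : ℂ) ^ (t + 1) := by
    simp only [S.lcol_eq]
    rw [L.o.norm S.hM (S.ppow_mem (S.gen_memP j s)) (hau s) haB, ← S.gen_bel hj s,
      S.defect_rotation (S.gen_mem j s) (S.gen_sq hj s), Nat.cast_ofNat]
  have hne : s ≠ 2 ^ (t - j) - 1 - s := by
    have := S.level_half hj; omega
  by_cases h1 : s' = s
  · subst h1; rw [if_pos rfl, if_neg hne, add_zero, hn]
  by_cases h2 : s' = 2 ^ (t - j) - 1 - s
  · subst h2
    rw [if_neg h1, if_pos rfl, zero_add, ← hn]
    exact Finset.sum_congr rfl fun χ _ => by rw [S.lcol_reflect L hj χ hs]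
  rw [if_neg h1, if_neg h2, add_zero]
  have h := DihBlk.sum_sct_cross (B := B) S.hM (S.ppow_mem (S.gen_memP j s))
    (S.ppow_mem (S.gen_memP j s')) (hau s) (hau s') haB haB (fun g hg he => ?_) (one_mem _)
    (by simp) (one_mem _) (by simp)
  · simp only [L.o.sct_one, map_mul, map_natCast, ← S.lcol_eq] at h
    have h3 : (∑ χ ∈ Finset.univ.filter (· ∈ B), S.lcol L χ s * conj (S.lcol L χ s')) *
        ((L.o.g0 : ℂ) * L.o.g0) = 0 := by
      rw [Finset.sum_mul, ← h]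
      exact Finset.sum_congr rfl fun χ _ => by ring
    exact (mul_eq_zero.1 h3).resolve_right (mul_ne_zero L.o.g0_ne L.o.g0_ne)
  · rcases S.rotation_fusion (S.gen_mem j s) (S.gen_mem j s')
      ⟨g, hg, by rw [S.gen_bel hj s, S.gen_bel hj s']; exact he⟩ with e | e
    · exact h1 (S.gen_inj hj.le hs' hs e)
    · rw [← S.gen_inv hj.le hs] at e
      exact h2 (S.gen_inj hj.le hs' (by omega) e)

include hj in
/-- The Gram relations at a level. -/
theorem lco_gram {k k' : ℕ} (hk : k < 2 ^ (t - j)) (hk' : k' < 2 ^ (t - j)) :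
    ∑ χ ∈ Finset.univ.filter (· ∈ B), S.lco L χ k * S.lco L χ k' =
      2 ^ (j + 1) * (((if k = k' then 1 else 0) + (if k + k' = 0 then 1 else 0)) -
        if k + k' = 2 ^ (t - j) then 1 else 0) := by
  have h := gram (Finset.univ.filter (· ∈ B)) L.A L.deg ((2 : ℂ) ^ (t + 1))
    (fun s hs s' hs' => S.col_gram L hj hs hs') hk hk'
  have e : (2 : ℂ) ^ (t + 1) = (2 : ℂ) ^ (t - j) * (2 : ℂ) ^ (j + 1) := by
    rw [← pow_add]; congr 1; omega
  rw [e, mul_assoc] at h
  have h2 := mul_left_cancel₀ (pow_ne_zero _ two_ne_zero) h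
  apply Int.cast_injective (α := ℂ)
  simp only [lco]
  push_cast
  push_cast at h2
  exact h2

include hj in
/-- The diagonal over a level. -/
theorem level_diag {s : G} (hs : s ∈ P) (hsr : s ∉ Subgroup.zpowers r) (χ : IrrCharacter G) :
    2 * ∑ i ∈ Finset.range (2 ^ (t - j - 1)),
        SecRep.E 2 (S.gen j i, S.bel (S.gen j i)) χ χ =
      (2 : ℂ) ^ (t - j) / (2 : ℂ) ^ (t + 1) *
        ∑ k ∈ Finset.range (2 ^ (t - j)), ((S.lco L χ k ^ 2 : ℤ) : ℂ) := by
  have h : ∑ i ∈ Finset.range (2 ^ (t - j)),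
      SecRep.E 2 (S.gen j i, S.bel (S.gen j i)) χ χ =
      (2 : ℂ) ^ (t - j) / (2 : ℂ) ^ (t + 1) *
        ∑ k ∈ Finset.range (2 ^ (t - j)), ((S.lco L χ k ^ 2 : ℤ) : ℂ) := by
    rw [Finset.sum_congr rfl fun i _ => S.E_gen L hj i χ χ, ← Finset.sum_div]
    simp only [lcol, lco]
    rw [parseval (L.deg χ)]
    ring
  have hh := S.level_half hj
  rw [← h, hh, Finset.sum_range_add, two_mul]
  refine congrArg (_ + ·) ?_
  rw [← Finset.sum_range_reflect (fun i => SecRep.E 2 (S.gen j (2 ^ (t - j - 1) + i),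
    S.bel (S.gen j (2 ^ (t - j - 1) + i))) χ χ)]
  refine Finset.sum_congr rfl fun i hi => ?_
  rw [Finset.mem_range] at hi
  rw [show 2 ^ (t - j - 1) + (2 ^ (t - j - 1) - 1 - i) = 2 ^ (t - j) - 1 - i by omega,
    S.E_gen L hj, S.E_gen L hj, S.lcol_reflect L hj χ (by omega)]

omit [DecidablePred (· ∈ B)] in
include hj in
/-- On the height zero characters the constant coefficient is odd. -/
theorem lco_odd [DecidablePred (· ∈ B)] {χ : IrrCharacter G} (hχ : χ ∈ B)
    (h0 : blockHeight 2 B (χ : G → ℂ) = 0) : Odd (S.lco L χ 0) := by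
  have hP := S.qu.pow_mem' (2 ^ j)
  have hu := L.o.unit S.hM (S.ppow_mem hP) (S.bel_fst hP) (S.bel_ofB hP) hχ h0
  have hv := L.val χ 1 odd_one
  rw [pow_one, pow_one] at hv
  rw [hv] at hu
  have hreal : conj (aeval (zeta (t - j)) (L.A χ)) = aeval (zeta (t - j)) (L.A χ) := by
    rw [← hv]; exact S.col_real L.o rfl hP χ
  have hpar := CycloTwo.parity_of_real S.hM (zeta_half _) (L.deg χ) hreal
  rw [← Int.not_even_iff_odd, even_iff_two_dvd]
  intro hd
  refine hu ((ideal_congr S.hM (eval_congr S.hM (L.deg χ))).2 ?_)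
  rw [ideal_intCast_iff S.hM]
  exact (dvd_sub_left hd).1 hpar

variable {s : G} (hs : s ∈ P) (hsr : s ∉ Subgroup.zpowers r)
include hs hsr

include hj in
theorem gen_rep (i : ℕ) (hi : i < 2 ^ (t - j - 1)) :
    (S.gen j i, S.bel (S.gen j i)) ∈ S.reps s := by
  obtain ⟨h1, h2⟩ := S.gen_low hj hi
  exact S.reps_mem hs hsr (Or.inr (Or.inr (Or.inl ⟨_, h1, h2, rfl⟩)))

include hj in
/-- A linear combination annihilated on the representatives of the level annihilates the
coefficients. -/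
theorem kill_lco (F : IrrCharacter G → ℂ)
    (h : ∀ i < 2 ^ (t - j - 1),
      ∑ χ ∈ Finset.univ.filter (· ∈ B), F χ * S.lcol L χ i = 0) {k : ℕ} (hk : k < 2 ^ (t - j)) :
    ∑ χ ∈ Finset.univ.filter (· ∈ B), F χ * (S.lco L χ k : ℂ) = 0 := by
  have hall : ∀ i < 2 ^ (t - j), ∑ χ ∈ Finset.univ.filter (· ∈ B), F χ * S.lcol L χ i = 0 := by
    intro i hi
    by_cases hlt : i < 2 ^ (t - j - 1)
    · exact h i hlt
    · have hh := S.level_half hj
      rw [← h (2 ^ (t - j) - 1 - i) (by omega)]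
      exact Finset.sum_congr rfl fun χ _ => by rw [S.lcol_reflect L hj χ hi]
  refine mul_left_cancel₀ (pow_ne_zero (t - j) (two_ne_zero (α := ℂ))) ?_
  rw [mul_zero, Finset.mul_sum, Finset.sum_congr rfl fun χ _ => by
    rw [lco, mul_left_comm, ← coeff_inv (L.deg χ) hk, Finset.mul_sum], Finset.sum_comm]
  refine Finset.sum_eq_zero fun i hi => ?_
  rw [Finset.sum_congr rfl (g := fun χ : IrrCharacter G => F χ * S.lcol L χ i *
      zeta (t - j) ^ ((2 * i + 1) * (2 ^ (t - j + 1) - k))) fun χ _ => by rw [lcol]; ring,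
    ← Finset.sum_mul, hall i (Finset.mem_range.1 hi), zero_mul]

include hj in
/-- The rows of a central part against a level. -/
theorem central_lco {x : G} (hx : x = 1 ∨ x = r ^ 2 ^ t) (χ : IrrCharacter G) {k : ℕ}
    (hk : k < 2 ^ (t - j)) :
    ∑ η ∈ Finset.univ.filter (· ∈ B), SecRep.E 2 (x, S.bel x) χ η * (S.lco L η k : ℂ) = 0 := by
  refine S.kill_lco L hj hs hsr _ (fun i hi => ?_) hk
  have hmem : (x, S.bel x) ∈ S.reps s :=
    S.reps_mem hs hsr (hx.elim Or.inl fun h => Or.inr (Or.inl h))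
  have hne : (x, S.bel x) ≠ (S.gen j i, S.bel (S.gen j i)) := fun e => by
    refine S.gen_sq hj i ?_
    rw [← show x = S.gen j i from congrArg Prod.fst e]
    rcases hx with rfl | rfl
    · exact mul_one 1
    · exact S.qu.z_mul_self
  have hone : (1 : G) ∈ regs 2 (S.bel (S.gen j i)).1 := mem_regs.2 ⟨one_mem _, by simp⟩
  have h := (S.isReps hs hsr).E_mul_sct S.hM hmem (S.gen_rep hj hs hsr i hi) hne χ hone
  have e : ∀ η : IrrCharacter G, sct (η : G → ℂ) (S.bel (S.gen j i)) (S.gen j i) 1 =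
      S.lcol L η i * (L.o.g0 : ℂ) := fun η => by
    rw [S.gen_bel hj i, L.o.sct_one, S.lcol_eq]
  simp only [e, ← mul_assoc, ← Finset.sum_mul] at h
  exact (mul_eq_zero.1 h).resolve_right L.o.g0_ne

include hj in
/-- The degrees are orthogonal to a level. -/
theorem degree_lco {k : ℕ} (hk : k < 2 ^ (t - j)) :
    ∑ χ ∈ Finset.univ.filter (· ∈ B), (charDegree (χ : G → ℂ) : ℤ) * S.lco L χ k = 0 := by
  have h : ∑ χ ∈ Finset.univ.filter (· ∈ B), (χ : G → ℂ) 1 * (S.lco L χ k : ℂ) = 0 := by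
    refine S.kill_lco L hj hs hsr _ (fun i hi => ?_) hk
    have hne : (S.gen j i, S.bel (S.gen j i)) ≠ ((1 : G), S.bel 1) := fun e =>
      S.gen_sq hj i (by rw [show S.gen j i = 1 from congrArg Prod.fst e, mul_one])
    have h := (S.isReps hs hsr).cross S.hM (S.gen_rep hj hs hsr i hi)
      (S.reps_mem hs hsr (Or.inl rfl)) hne (s := 1) (s' := 1)
      (mem_regs.2 ⟨one_mem _, by simp⟩) (mem_regs.2 ⟨one_mem _, by simp⟩)
    have hval : ∀ χ ∈ Finset.univ.filter (· ∈ B), (χ : G → ℂ) 1 =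
        sct (χ : G → ℂ) (S.bel 1) 1 1 := fun χ hχ => by
      have h1 := DihBlk.value_eq_pairs S.hM S.isBlock (Finset.mem_filter.1 hχ).2
        (x := (1 : G)) ⟨0, by simp⟩ (one_mem _) (by simp)
      rw [mul_one] at h1
      rw [h1]
      refine Finset.sum_eq_single (S.bel 1) (fun a ha hne => absurd ?_ hne) fun h => absurd
        (mem_pairsAt.2 ⟨S.bel_fst (one_mem _), S.bel_ofB (one_mem _)⟩) h
      obtain ⟨h2, h3⟩ := mem_pairsAt.1 ha
      exact S.bel_unique h2 (eq_bot_pair S.hM S.max (h2.trans Subgroup.zpowers_one_eq_bot) h3)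
    have h3 : (∑ χ ∈ Finset.univ.filter (· ∈ B), (χ : G → ℂ) 1 * S.lcol L χ i) *
        (L.o.g0 : ℂ) = 0 := by
      rw [Finset.sum_mul, ← h]
      refine Finset.sum_congr rfl fun χ hχ => ?_
      rw [← hval χ hχ, charDeg_spec', map_natCast, ← charDeg_spec', S.gen_bel hj i, L.o.sct_one,
        S.lcol_eq]
      ring
    exact (mul_eq_zero.1 h3).resolve_right L.o.g0_ne
  apply Int.cast_injective (α := ℂ)
  push_cast
  rw [← h]
  exact Finset.sum_congr rfl fun χ _ => by rw [charDeg_spec']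

include hj in
/-- Two levels are orthogonal. -/
theorem levels_orth {j' : ℕ} (L' : Lvl S j') (hj' : j' < t) (hne : j ≠ j') {k k' : ℕ}
    (hk : k < 2 ^ (t - j)) (hk' : k' < 2 ^ (t - j')) :
    ∑ χ ∈ Finset.univ.filter (· ∈ B), S.lco L χ k * S.lco L' χ k' = 0 := by
  have h : ∑ χ ∈ Finset.univ.filter (· ∈ B), (S.lco L χ k : ℂ) * (S.lco L' χ k' : ℂ) = 0 := by
    refine S.kill_lco L' hj' hs hsr _ (fun i' hi' => ?_) hk'
    rw [Finset.sum_congr rfl fun χ _ => mul_comm _ _]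
    refine S.kill_lco L hj hs hsr _ (fun i hi => ?_) hk
    have hne' : (S.gen j i, S.bel (S.gen j i)) ≠ (S.gen j' i', S.bel (S.gen j' i')) := fun e => by
      have h1 := congrArg (fun x => orderOf (Prod.fst x)) e
      simp only [S.gen_order hj, S.gen_order hj'] at h1
      have := Nat.pow_right_injective le_rfl h1
      omega
    have h := (S.isReps hs hsr).cross S.hM (S.gen_rep hj hs hsr i hi)
      (S.gen_rep hj' hs hsr i' hi') hne' (s := 1) (s' := 1)
      (mem_regs.2 ⟨one_mem _, by simp⟩) (mem_regs.2 ⟨one_mem _, by simp⟩)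
    have h3 : (∑ χ ∈ Finset.univ.filter (· ∈ B), S.lcol L' χ i' * S.lcol L χ i) *
        ((L.o.g0 : ℂ) * (L'.o.g0 : ℂ)) = 0 := by
      rw [Finset.sum_mul, ← h]
      refine Finset.sum_congr rfl fun χ _ => ?_
      rw [S.gen_bel hj i, S.gen_bel hj' i', L.o.sct_one, L'.o.sct_one, map_mul, map_natCast,
        ← S.lcol_eq, ← S.lcol_eq, S.lcol_real L' hj']
      ring
    exact (mul_eq_zero.1 h3).resolve_right (mul_ne_zero L.o.g0_ne L'.o.g0_ne)
  apply Int.cast_injective (α := ℂ)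
  push_cast
  exact h

include hj in
/-- The coefficients of a character vanishing below the level are divisible. -/
theorem lco_dvd {w η : IrrCharacter G} (hη : η ∈ B)
    (h0 : blockHeight 2 B (η : G → ℂ) = 0)
    (hlow : ∀ i, 1 ≤ i → i < 2 ^ t → ¬ 2 ^ j ∣ i → SecRep.E 2 (r ^ i, S.bel (r ^ i)) w η = 0)
    (hu : ∀ v ∈ S.uset s, SecRep.E 2 (v, S.bel v) w η = 0) (k : ℕ) :
    (2 : ℤ) ^ j ∣ S.lco L w k := by
  have hint := S.int_level hs hsr w hη hj (fun a ha hne => ?_) hu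
  · have hP := S.qu.pow_mem' (2 ^ j)
    have hgen : S.gen j 0 = r ^ 2 ^ j := by simp [gen]
    have hE := S.E_gen L hj 0 w η
    rw [hgen] at hE
    rw [hE, S.lcol_real L hj] at hint
    have e : (2 : ℂ) ^ (t + 1 - j) * (S.lcol L w 0 * S.lcol L η 0 / (2 : ℂ) ^ (t + 1)) =
        S.lcol L w 0 / (2 : ℂ) ^ j * S.lcol L η 0 := by
      rw [show (2 : ℂ) ^ (t + 1) = (2 : ℂ) ^ (t + 1 - j) * (2 : ℂ) ^ j by
        rw [← pow_add]; congr 1; omega]
      field_simp
    rw [e] at hint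
    have hunit : ¬ MemLocalIdeal M (S.lcol L η 0) := by
      rw [S.lcol_eq, hgen]
      exact L.o.unit S.hM (S.ppow_mem hP) (S.bel_fst hP) (S.bel_ofB hP) hη h0
    have hring : MemLocalRing M (S.lcol L η 0) := by
      rw [S.lcol_eq, hgen]
      exact ring_of_integral S.hM (L.o.col_isIntegral (DihBlk.One.comm_of_gen (S.bel_fst hP)) η
        (S.bel_fst hP ▸ Subgroup.mem_zpowers _))
    have h1 := ring_mul S.hM (ring_of_integral S.hM hint) (ring_inv S.hM hring hunit)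
    have hne0 : S.lcol L η 0 ≠ 0 := fun e0 => hunit (e0 ▸ ideal_zero S.hM)
    rw [mul_inv_cancel_right₀ hne0, lcol, mul_zero, zero_add, pow_one] at h1
    obtain ⟨A', hA', -⟩ := CycloTwo.exists_div S.hM (zeta_half _) (L.deg w) j h1
    exact ⟨A'.coeff k, by rw [lco, hA', coeff_C_mul]⟩
  · obtain ⟨x, a'⟩ := a
    obtain ⟨e1, e2⟩ := S.reps_exists hs hsr ha
    simp only at e1 e2 ⊢
    subst e2
    rcases S.xset_cases hs hsr e1 with rfl | rfl | ⟨i, hi1, hi2, rfl⟩ | hxu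
    · rw [S.xk_one]; exact dvd_zero _
    · rw [S.xk_z]; exact pow_dvd_pow 2 hj.le
    · rw [S.xk_pow (hi2.trans (Nat.pow_lt_pow_right one_lt_two (by omega)))]
      by_contra hc
      exact hne (hlow i hi1 hi2 hc)
    · exact absurd (hu x hxu) hne

omit hj L in
/-- The parts of the classes outside the rotations vanish off the characters of height zero. -/
theorem u_vanish (h4 : ((Finset.univ.filter (· ∈ B)).filter fun χ : IrrCharacter G =>
      blockHeight 2 B (χ : G → ℂ) = 0).card = 4) {v : G} (hv : v ∈ S.uset s) {w : IrrCharacter G}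
    (hw : w ∈ B) (hh : blockHeight 2 B (w : G → ℂ) ≠ 0) (η : IrrCharacter G) :
    SecRep.E 2 (v, S.bel v) w η = 0 := by
  obtain ⟨hvP, hvr, hvn⟩ := S.uset_mem hs hsr hv
  obtain ⟨o⟩ := DihBlk.exists_one S.hM (S.bel_ofB hvP).1.2
    (S.rank_bel hvP (S.qu.refl_sq_ne hvP hvr))
  have hd := S.defect_refl hvP hvr hvn
  have hu := S.ppow_mem hvP
  have hint : ∀ χ : IrrCharacter G, ∃ c : ℤ, o.col χ v = c := by
    intro χ
    obtain ⟨A, hA, hval⟩ := S.exists_col_poly o (S.bel_fst hvP) (J := 1)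
      (by rw [S.qu.refl_order hvP hvr]; rfl) χ
    refine ⟨A.coeff 0, ?_⟩
    have h1 := hval 1 odd_one
    have h2 := S.col_real o rfl hvP χ
    rw [pow_one, pow_one, aeval_eq_sum_range' hA] at h1
    simp only [pow_one, Finset.sum_range_succ, Finset.sum_range_zero, zero_add, pow_zero,
      zsmul_eq_mul, mul_one] at h1
    have hz : conj (zeta 1) = -zeta 1 := by
      have h3 := zeta_conj_pow (J := 1) (n := 1) (k := 1) (by norm_num)
      norm_num at h3
      rw [h3, pow_succ, show zeta 1 ^ 2 = -1 by simpa using zeta_half 1]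
      ring
    rw [h1, map_add, map_mul, map_intCast, map_intCast, hz] at h2
    have hz0 : zeta 1 ≠ 0 := fun e => by
      have := zeta_half 1
      rw [e, zero_pow (by norm_num)] at this
      norm_num at this
    have h4' : (A.coeff 1 : ℂ) * zeta 1 = 0 := by linear_combination (-1 / 2 : ℂ) * h2
    rw [h1, (mul_eq_zero.1 h4').resolve_right hz0]
    simp
  choose c hc using hint
  have hsum : ∑ χ ∈ Finset.univ.filter (· ∈ B), c χ ^ 2 = 4 := by
    have h := o.norm S.hM hu (S.bel_fst hvP) (S.bel_ofB hvP)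
    simp only [hc, map_intCast, hd] at h
    apply Int.cast_injective (α := ℂ)
    push_cast
    rw [show (4 : ℂ) = ((2 : ℕ) : ℂ) ^ 2 by norm_num, ← h]
    exact Finset.sum_congr rfl fun χ _ => by ring
  rw [← Finset.sum_filter_add_sum_filter_not _
    (fun χ : IrrCharacter G => blockHeight 2 B (χ : G → ℂ) = 0)] at hsum
  have hge : (4 : ℤ) ≤ ∑ χ ∈ (Finset.univ.filter (· ∈ B)).filter
      (fun χ : IrrCharacter G => blockHeight 2 B (χ : G → ℂ) = 0), c χ ^ 2 := by
    refine le_trans (le_of_eq ?_) (Finset.card_nsmul_le_sum _ _ (1 : ℤ) fun χ hχ => ?_)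
    · rw [h4]; rfl
    · obtain ⟨hχB, hχ0⟩ := Finset.mem_filter.1 hχ
      have key : c χ ≠ 0 → (1 : ℤ) ≤ c χ ^ 2 := fun h =>
        Int.add_one_le_iff.2 (pow_two_pos_of_ne_zero h)
      refine key fun e => ?_
      exact o.unit S.hM hu (S.bel_fst hvP) (S.bel_ofB hvP) (Finset.mem_filter.1 hχB).2 hχ0
        (by rw [hc, e, Int.cast_zero]; exact ideal_zero S.hM)
  have hw0 : c w ^ 2 ≤ 0 := by
    have hle := Finset.single_le_sum (f := fun χ => c χ ^ 2) (fun χ _ => sq_nonneg (c χ))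
      (Finset.mem_filter.2 ⟨Finset.mem_filter.2 ⟨Finset.mem_univ _, hw⟩, hh⟩ :
        w ∈ (Finset.univ.filter (· ∈ B)).filter
          (fun χ : IrrCharacter G => ¬ blockHeight 2 B (χ : G → ℂ) = 0))
    linarith
  rw [E_one S.hM o hu (S.bel_fst hvP) (S.bel_ofB hvP), hc w,
    pow_eq_zero_iff (n := 2) two_ne_zero |>.1 (le_antisymm hw0 (sq_nonneg _)), Int.cast_zero,
    zero_mul, zero_div]

end Setup

end Cfsg.Agent.Char.QuatBlk
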