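import Cfsg.Agent.Lib.Char.QuatBlockShape
import Cfsg.Agent.Lib.Char.RankOneBasic

/-!
The invariants of a 2-block with generalized quaternion defect group.
-/

open scoped ComplexConjugate

namespace Cfsg.Agent.Char.QuatBlk

open Polynomial Cfsg Cfsg.Agent.Block Cfsg.Agent.Char Cfsg.Agent.Char.BP Cfsg.Agent.Char.Spec

set_option linter.unusedSectionVars false
set_option linter.style.haveILetI false
set_option maxHeartbeats 800000

universe u

variable {G : Type u} [Group G] [Fintype G] {M : Ideal AlgInt} {B : Set (IrrCharacter G)}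
variable {P : Subgroup G} {e : Set (IrrCharacter (CG P))} {r : G} {t : ℕ}

namespace Setup

variable [DecidablePred (· ∈ B)]

/-- The remaining members. -/
noncomputable def rset (S : Setup M B P e r t) (L : ∀ j, j < t → Lvl S j) :
    Finset (IrrCharacter G) := by
  classical
  exact S.mems.filter fun w => w ∉ S.hset ∧ w ∉ S.oset (L 0 S.qu.pos) ∧ S.spc L w = 0

variable (S : Setup M B P e r t) {s : G} (hs : s ∈ P) (hsr : s ∉ Subgroup.zpowers r)
variable (L : ∀ j, j < t → Lvl S j)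

omit [DecidablePred (· ∈ B)] in
theorem mem_rset [DecidablePred (· ∈ B)] {w : IrrCharacter G} : w ∈ S.rset L ↔
    w ∈ S.mems ∧ w ∉ S.hset ∧ w ∉ S.oset (L 0 S.qu.pos) ∧ S.spc L w = 0 := by
  simp [rset]

section Diag

include S hs hsr

/-- The sum over the levels is at most the sum over the rotations. -/
theorem levels_le (F : G → ℝ) (hF : ∀ i, 1 ≤ i → i < 2 ^ t → 0 ≤ F (r ^ i)) :
    ∑ j ∈ Finset.range t, ∑ u ∈ Finset.range (2 ^ (t - j - 1)), F (S.gen j u) ≤
      ∑ i ∈ Finset.Ico 1 (2 ^ t), F (r ^ i) := by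
  classical
  rw [← Finset.sum_sigma (Finset.range t) (fun j => Finset.range (2 ^ (t - j - 1)))
    (fun p => F (S.gen p.1 p.2))]
  have hmem : ∀ p ∈ (Finset.range t).sigma (fun j => Finset.range (2 ^ (t - j - 1))),
      p.1 < t ∧ p.2 < 2 ^ (t - p.1 - 1) := fun p hp => by
    simpa [Finset.mem_sigma] using hp
  have hinj : Set.InjOn (fun p : (_ : ℕ) × ℕ => 2 ^ p.1 * (2 * p.2 + 1))
      ((Finset.range t).sigma (fun j => Finset.range (2 ^ (t - j - 1))) : Set ((_ : ℕ) × ℕ)) := by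
    rintro ⟨j, u⟩ hp ⟨j', u'⟩ hq hpq
    obtain ⟨hp1, -⟩ := hmem _ hp
    obtain ⟨hq1, -⟩ := hmem _ hq
    simp only at hp1 hq1 hpq
    have hord := congrArg (fun i => orderOf (r ^ i)) hpq
    change orderOf (S.gen j u) = orderOf (S.gen j' u') at hord
    rw [S.gen_order hp1, S.gen_order hq1] at hord
    have h1 := Nat.pow_right_injective le_rfl hord
    obtain rfl : j = j' := by omega
    obtain rfl : u = u' := by
      have := Nat.eq_of_mul_eq_mul_left (Nat.two_pow_pos j) hpq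
      omega
    rfl
  refine le_trans (le_of_eq (Finset.sum_image (f := fun i => F (r ^ i)) hinj).symm) ?_
  refine Finset.sum_le_sum_of_subset_of_nonneg (fun i hi => ?_) fun i hi _ => ?_
  · obtain ⟨p, hp, rfl⟩ := Finset.mem_image.1 hi
    exact Finset.mem_Ico.2 (S.gen_low (hmem p hp).1 (hmem p hp).2)
  · exact hF i (Finset.mem_Ico.1 hi).1 (Finset.mem_Ico.1 hi).2

/-- The diagonal at a level. -/
theorem level_value {j : ℕ} (hj : j < t) (χ : IrrCharacter G) :
    ∑ u ∈ Finset.range (2 ^ (t - j - 1)),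
        (SecRep.E 2 (S.gen j u, S.bel (S.gen j u)) χ χ).re =
      ((∑ i ∈ Finset.range (2 ^ (t - j)), S.lco (L j hj) χ i ^ 2 : ℤ) : ℝ) / 2 ^ (j + 2) := by
  have h := S.level_diag (L j hj) hj hs hsr χ
  have e : ∑ u ∈ Finset.range (2 ^ (t - j - 1)), SecRep.E 2 (S.gen j u, S.bel (S.gen j u)) χ χ =
      (((((∑ i ∈ Finset.range (2 ^ (t - j)), S.lco (L j hj) χ i ^ 2 : ℤ) : ℝ)) /
        2 ^ (j + 2) : ℝ) : ℂ) := by
    refine mul_left_cancel₀ (two_ne_zero (α := ℂ)) (h.trans ?_)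
    rw [show (2 : ℂ) ^ (t + 1) = 2 ^ (t - j) * 2 ^ (j + 1) by rw [← pow_add]; congr 1; omega]
    push_cast
    field_simp
    ring
  have h2 := congrArg Complex.re e
  rwa [Complex.re_sum, Complex.ofReal_re] at h2

/-- The levels of a character of height zero met by the first level. -/
theorem rot_lower {χ : IrrCharacter G} (hχ : χ ∈ S.hset) {k : ℕ}
    (hne : S.lco (L 0 S.qu.pos) χ k ≠ 0) (hk1 : 1 ≤ k) (hk2 : k < 2 ^ (t - 1)) :
    ∀ n, 1 ≤ n → n ≤ t → 1 - 1 / (2 : ℝ) ^ (n + 1) ≤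
      ∑ j ∈ Finset.range n, ∑ u ∈ Finset.range (2 ^ (t - j - 1)),
        (SecRep.E 2 (S.gen j u, S.bel (S.gen j u)) χ χ).re := by
  intro n h1
  obtain ⟨hB, hh0⟩ := S.mem_hset.1 hχ
  have hm := S.half_pos
  induction n, h1 using Nat.le_induction with
  | base =>
    intro _
    rw [Finset.sum_range_one, S.level_value hs hsr L S.qu.pos χ]
    have hanti : S.lco (L 0 S.qu.pos) χ (2 ^ t - k) = -S.lco (L 0 S.qu.pos) χ k :=
      S.lco_anti hs hsr _ hk1 (by omega) (S.hset_subset hχ)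
    have h3 : (3 : ℤ) ≤ ∑ i ∈ Finset.range (2 ^ (t - 0)), S.lco (L 0 S.qu.pos) χ i ^ 2 := by
      refine le_trans ?_ (Finset.sum_le_sum_of_subset_of_nonneg
        (s := ({0, k, 2 ^ t - k} : Finset ℕ)) (fun i hi => ?_) fun i _ _ => sq_nonneg _)
      · rw [Finset.sum_insert (by simp; omega), Finset.sum_pair (by omega), hanti, neg_sq]
        have : S.lco (L 0 S.qu.pos) χ 0 ^ 2 = 1 := by
          rcases (S.height_zero_data hs hsr (L 0 S.qu.pos)).2.2.1 χ hχ with e | e <;> simp [e]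
        have := one_le_sq hne
        linarith
      · simp only [Finset.mem_insert, Finset.mem_singleton] at hi
        rw [Finset.mem_range, Nat.sub_zero]
        omega
    have h3' : (3 : ℝ) ≤
        ((∑ i ∈ Finset.range (2 ^ (t - 0)), S.lco (L 0 S.qu.pos) χ i ^ 2 : ℤ) : ℝ) := by
      exact_mod_cast h3
    norm_num at h3' ⊢
    linarith
  | succ n hn ih =>
    intro hle
    have hn' : n < t := by omega
    rw [Finset.sum_range_succ, S.level_value hs hsr L hn' χ]
    have h := ih (by omega)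
    have h1 : (1 : ℝ) ≤
        ((∑ i ∈ Finset.range (2 ^ (t - n)), S.lco (L n hn') χ i ^ 2 : ℤ) : ℝ) := by
      have h0 : S.lco (L n hn') χ 0 ≠ 0 := fun e => by
        have h1 := S.lco_odd (L n hn') hn' hB hh0
        rw [e] at h1
        simp at h1
      have := (one_le_sq h0).trans (Finset.single_le_sum
        (f := fun i => S.lco (L n hn') χ i ^ 2) (fun i _ => sq_nonneg _)
        (Finset.mem_range.2 (Nat.two_pow_pos (t - n))))
      exact_mod_cast this
    have h2 : 1 / (2 : ℝ) ^ (n + 2) ≤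
        ((∑ i ∈ Finset.range (2 ^ (t - n)), S.lco (L n hn') χ i ^ 2 : ℤ) : ℝ) / 2 ^ (n + 2) :=
      div_le_div_of_nonneg_right h1 (by positivity)
    have e2 : 1 / (2 : ℝ) ^ (n + 1) = 1 / 2 ^ (n + 2) + 1 / 2 ^ (n + 2) := by
      rw [pow_succ _ (n + 1)]; field_simp; ring
    rw [show n + 1 + 1 = n + 2 from rfl]
    linarith

end Diag

variable {g : IrrCharacter G → IrrCharacter G → ℤ}
  (hg : ∀ χ, ∀ η ∈ B, (2 : ℂ) ^ (t + 2) * SecRep.E 2 (1, S.bel 1) χ η = g χ η)
include S hs hsr L hg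

/-- A remaining member has height `t`, and its row is concentrated on the height zero ones. -/
theorem rem_data {w : IrrCharacter G} (hw : w ∈ S.rset L) :
    blockHeight 2 B (w : G → ℂ) = t ∧ (∀ η ∈ S.hset, g w η = 2 ^ t ∨ g w η = -2 ^ t) ∧
      ∀ η ∈ S.mems, η ∉ S.hset → η ≠ w → g w η = 0 := by
  classical
  obtain ⟨hwA, hwH, hwO, hsp⟩ := (S.mem_rset L).1 hw
  have hwB := S.mem_mems.1 hwA
  obtain ⟨h4, -, -, -⟩ := S.height_zero_data hs hsr (L 0 S.qu.pos)
  have hrot : ∀ η, ∀ i, 1 ≤ i → i < 2 ^ t → SecRep.E 2 (r ^ i, S.bel (r ^ i)) w η = 0 :=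
    fun η i h1 h2 => S.rot_zero hs hsr L
      (fun j hj _ => S.coeff_vanish hs hsr L hwA hwH hwO hsp j hj) h1 h2 (J := t)
      (fun hd => absurd (Nat.le_of_dvd h1 hd) (not_le.2 h2)) η
  have hu : ∀ η, ∀ v ∈ S.uset s, SecRep.E 2 (v, S.bel v) w η = 0 := fun η v hv =>
    S.u_vanish hs hsr h4 hv hwB (fun h => hwH (S.mem_hset.2 ⟨hwB, h⟩)) η
  have hv : ∀ η ∈ S.mems, ∃ v : ℤ, g w η = 2 ^ t * (v + if w = η then 2 else 0) := by
    intro η hη
    have hηB := S.mem_mems.1 hη
    have hres := (S.isReps hs hsr).resolution S.hM S.isBlock hwB hηB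
    rw [S.sum_reps hs hsr (fun a => SecRep.E 2 a w η),
      Finset.sum_eq_zero fun i hi => hrot η i (Finset.mem_Ico.1 hi).1 (Finset.mem_Ico.1 hi).2,
      Finset.sum_eq_zero fun v hv => hu η v hv, add_zero, add_zero] at hres
    obtain ⟨v, hv⟩ := S.int_first hs hsr w hηB (hrot η)
    refine ⟨v, Int.cast_injective (α := ℂ) ?_⟩
    push_cast
    rw [← hg w η hηB, pow_add]
    split_ifs at hres ⊢ with he
    · push_cast
      linear_combination (2 : ℂ) ^ t * hv + 2 * (2 : ℂ) ^ t * hres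
    · push_cast
      linear_combination (2 : ℂ) ^ t * hv + 2 * (2 : ℂ) ^ t * hres
  choose v hv using hv
  set f : IrrCharacter G → ℤ := fun η => if hη : η ∈ S.mems then v η hη else 0 with hf
  have hgf : ∀ η ∈ S.mems, g w η = 2 ^ t * (f η + if w = η then 2 else 0) := fun η hη => by
    simp only [hf, dif_pos hη]
    exact hv η hη
  have hsq : ∑ η ∈ S.mems, f η ^ 2 = 4 := by
    have h := S.g_rows hs hsr hg hwB hwB
    change ∑ η ∈ S.mems, _ = _ at h
    rw [Finset.sum_congr rfl (g := fun η => (2 : ℤ) ^ t * 2 ^ t *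
        (f η ^ 2 + if w = η then 4 * f η + 4 else 0)) (fun η hη => by
          rw [hgf η hη]; split_ifs <;> ring),
      ← Finset.mul_sum, Finset.sum_add_distrib, Finset.sum_ite_eq, if_pos hwA, hgf w hwA,
      if_pos rfl] at h
    have hp : (2 : ℤ) ^ t * 2 ^ t ≠ 0 := by positivity
    refine mul_left_cancel₀ hp ?_
    rw [pow_add] at h
    linear_combination h
  have hval : ∀ η ∈ S.hset, (2 : ℤ) ^ blockHeight 2 B (w : G → ℂ) ∣ 2 ^ t * f η ∧
      ¬ (2 : ℤ) ^ (blockHeight 2 B (w : G → ℂ) + 1) ∣ 2 ^ t * f η := fun η hη => by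
    obtain ⟨hηB, hη0⟩ := S.mem_hset.1 hη
    have h := S.g_val hs hsr hg hwB hηB hη0
    rwa [hgf η (S.mem_mems.2 hηB), if_neg (fun e : w = η => hwH (e ▸ hη)), add_zero] at h
  have hne : ∀ η ∈ S.hset, f η ≠ 0 := fun η hη e => (hval η hη).2 (by rw [e, mul_zero]; exact dvd_zero _)
  obtain ⟨hone, hzero⟩ := tight S.hset_subset hne (by rw [hsq, h4]; rfl)
  have hgH : ∀ η ∈ S.hset, g w η = 2 ^ t ∨ g w η = -2 ^ t := fun η hη => by
    rw [hgf η (S.hset_subset hη), if_neg (fun e : w = η => hwH (e ▸ hη)), add_zero]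
    rcases hone η hη with e | e <;> simp [e]
  refine ⟨?_, hgH, fun η hη hH hne => ?_⟩
  · obtain ⟨η, hη⟩ := S.hset_nonempty
    obtain ⟨h1, h2⟩ := hval η hη
    have hpr : (2 : ℤ) ^ t * f η = 2 ^ t ∨ (2 : ℤ) ^ t * f η = -2 ^ t := by
      rcases hone η hη with e | e <;> simp [e]
    rcases hpr with e | e <;> rw [e] at h1 h2 <;>
      simp only [dvd_neg, pow_dvd_pow_iff (two_ne_zero (α := ℤ)) (by norm_num [Int.isUnit_iff] : ¬ IsUnit (2 : ℤ))] at h1 h2 <;> omega
  · rw [hgf η hη, hzero η hη hH, if_neg (Ne.symm hne), add_zero, mul_zero]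

/-- The rows of remaining members are orthogonal on the height zero ones. -/
theorem rem_orth {w w' : IrrCharacter G} (hw : w ∈ S.rset L) (hw' : w' ∈ S.rset L) (hne : w ≠ w') :
    ∑ η ∈ S.hset, g w η * g w' η = 0 := by
  classical
  obtain ⟨hwA, hwH, -⟩ := (S.mem_rset L).1 hw
  obtain ⟨hwA', hwH', -⟩ := (S.mem_rset L).1 hw'
  obtain ⟨-, -, hz⟩ := S.rem_data hs hsr L hg hw
  obtain ⟨-, -, hz'⟩ := S.rem_data hs hsr L hg hw'
  have h := S.g_rows hs hsr hg (S.mem_mems.1 hwA) (S.mem_mems.1 hwA')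
  rw [hz w' hwA' hwH' hne.symm, mul_zero] at h
  change ∑ η ∈ S.mems, _ = _ at h
  rw [← Finset.sum_subset S.hset_subset fun η hη hH => ?_] at h
  · exact h
  · by_cases e : η = w
    · subst e
      rw [hz' η hη hH hne, mul_zero]
    · rw [hz η hη hH e, zero_mul]

/-- The row of a remaining member is orthogonal to a level. -/
theorem rem_lco {w : IrrCharacter G} (hw : w ∈ S.rset L) {j : ℕ} (hj : j < t) :
    ∑ η ∈ S.hset, g w η * S.lco (L j hj) η 0 = 0 := by
  classical
  obtain ⟨hwA, hwH, hwO, hsp⟩ := (S.mem_rset L).1 hw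
  obtain ⟨-, -, hz⟩ := S.rem_data hs hsr L hg hw
  have h := S.central_lco (L j hj) hj hs hsr (x := 1) (Or.inl rfl) w (k := 0) (Nat.two_pow_pos _)
  have h2 : ∑ η ∈ S.mems, g w η * S.lco (L j hj) η 0 = 0 := by
    apply Int.cast_injective (α := ℂ)
    rw [Int.cast_sum, Int.cast_zero, ← mul_zero ((2 : ℂ) ^ (t + 2)), ← h, Finset.mul_sum]
    refine Finset.sum_congr rfl fun η hη => ?_
    rw [Int.cast_mul, ← hg w η (S.mem_mems.1 hη), mul_assoc]
  rw [← Finset.sum_subset S.hset_subset fun η hη hH => ?_] at h2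
  · exact h2
  · by_cases e : η = w
    · subst e
      rw [S.coeff_vanish hs hsr L hwA hwH hwO hsp j hj 0 (Nat.two_pow_pos _), mul_zero]
    · rw [hz η hη hH e, zero_mul]

/-- There are few remaining members. -/
theorem card_rem : (S.rset L).card + (if 1 < t then 2 else 1) ≤ 4 := by
  classical
  obtain ⟨h4, -, h00, -⟩ := S.height_zero_data hs hsr (L 0 S.qu.pos)
  obtain ⟨η₀, hη₀⟩ := S.hset_nonempty
  have hrow : ∀ w : ↥(S.rset L), ∃ x ∈ S.hset, g w.1 x ≠ 0 := fun w => ⟨η₀, hη₀, by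
    rcases (S.rem_data hs hsr L hg w.2).2.1 η₀ hη₀ with e | e <;> simp [e]⟩
  have hcoef : ∀ j (hj : j < t), ∃ x ∈ S.hset, S.lco (L j hj) x 0 ≠ 0 := fun j hj =>
    ⟨η₀, hη₀, fun e => by
      have h1 := S.lco_odd (L j hj) hj (S.mem_hset.1 hη₀).1 (S.mem_hset.1 hη₀).2
      rw [e] at h1
      simp at h1⟩
  have hoff : ∀ η ∈ S.mems, η ∉ S.hset → S.lco (L 0 S.qu.pos) η 0 = 0 :=
    (S.height_zero_data hs hsr (L 0 S.qu.pos)).2.2.2
  by_cases ht : 1 < t
  · rw [if_pos ht]
    have hj : t - 1 < t := by omega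
    have horth : ∑ η ∈ S.hset, S.lco (L 0 S.qu.pos) η 0 * S.lco (L (t - 1) hj) η 0 = 0 := by
      have h := S.levels_orth (L 0 S.qu.pos) S.qu.pos hs hsr (L (t - 1) hj) hj
        (show (0 : ℕ) ≠ t - 1 by omega) (k := 0) (k' := 0) (Nat.two_pow_pos _) (Nat.two_pow_pos _)
      change ∑ η ∈ S.mems, _ = _ at h
      rw [← Finset.sum_subset S.hset_subset fun η hη hH => by rw [hoff η hη hH, zero_mul]] at h
      exact h
    let v : ↥(S.rset L) ⊕ Bool → IrrCharacter G → ℤ := Sum.elim (fun w η => g w.1 η)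
      fun b η => if b then S.lco (L (t - 1) hj) η 0 else S.lco (L 0 S.qu.pos) η 0
    have h := card_le_of_orth (H := S.hset) v (fun a => ?_) (fun a b hab => ?_)
    · rw [Fintype.card_sum, Fintype.card_coe, Fintype.card_bool, h4] at h
      exact h
    · rcases a with w | b
      · exact hrow w
      · cases b
        · exact hcoef 0 S.qu.pos
        · exact hcoef _ hj
    · rcases a with w | b₁ <;> rcases b with w' | b₂
      · exact S.rem_orth hs hsr L hg w.2 w'.2 fun e => hab (congrArg Sum.inl (Subtype.ext e))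
      · cases b₂ <;> exact S.rem_lco hs hsr L hg w.2 _
      · simp only [v, Sum.elim_inl, Sum.elim_inr, mul_comm _ (g w'.1 _)]
        cases b₁ <;> exact S.rem_lco hs hsr L hg w'.2 _
      · cases b₁ <;> cases b₂
        · exact absurd rfl hab
        · exact horth
        · simp only [v, Sum.elim_inr]
          rw [← horth]
          exact Finset.sum_congr rfl fun _ _ => mul_comm _ _
        · exact absurd rfl hab
  · rw [if_neg ht]
    let v : ↥(S.rset L) ⊕ Unit → IrrCharacter G → ℤ := Sum.elim (fun w η => g w.1 η)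
      fun _ η => S.lco (L 0 S.qu.pos) η 0
    have h := card_le_of_orth (H := S.hset) v (fun a => ?_) (fun a b hab => ?_)
    · rw [Fintype.card_sum, Fintype.card_coe, Fintype.card_unit, h4] at h
      exact h
    · rcases a with w | b
      · exact hrow w
      · exact hcoef 0 S.qu.pos
    · rcases a with w | b₁ <;> rcases b with w' | b₂
      · exact S.rem_orth hs hsr L hg w.2 w'.2 fun e => hab (congrArg Sum.inl (Subtype.ext e))
      · exact S.rem_lco hs hsr L hg w.2 _
      · simp only [v, Sum.elim_inl, Sum.elim_inr, mul_comm _ (g w'.1 _)]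
        exact S.rem_lco hs hsr L hg w'.2 _
      · exact absurd rfl hab

/-- The characters of height zero are not met by the first level. -/
theorem zero_disjoint {χ : IrrCharacter G} (hχ : χ ∈ S.hset) : χ ∉ S.oset (L 0 S.qu.pos) := by
  classical
  intro hO
  obtain ⟨hA, k, hk, hne⟩ := S.mem_oset.1 hO
  rw [Finset.mem_Ico] at hk
  obtain ⟨hB, hh0⟩ := S.mem_hset.1 hχ
  obtain ⟨h4, -, h00, -⟩ := S.height_zero_data hs hsr (L 0 S.qu.pos)
  have hm := S.half_pos
  have ht : 2 ≤ t := by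
    by_contra hc
    rw [show t - 1 = 0 by omega, pow_zero] at hk
    omega
  set F : G × BrauerPairIdx G → ℝ := fun a => (SecRep.E 2 a χ χ).re with hF
  have hnn : ∀ a ∈ S.reps s, 0 ≤ F a := fun a ha => by
    rw [hF]
    simp only
    rw [← (S.isReps hs hsr).row_sq S.hM S.isBlock ha hB]
    exact Finset.sum_nonneg fun x _ => Complex.normSq_nonneg _
  have hone : F (1, S.bel 1) + F (r ^ 2 ^ t, S.bel (r ^ 2 ^ t)) +
      ∑ i ∈ Finset.Ico 1 (2 ^ t), F (r ^ i, S.bel (r ^ i)) ≤ 1 := by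
    have hres := (S.isReps hs hsr).resolution S.hM S.isBlock hB hB
    rw [if_pos rfl, S.sum_reps hs hsr (fun a => SecRep.E 2 a χ χ)] at hres
    have h := congrArg Complex.re hres
    simp only [Complex.add_re, Complex.re_sum, Complex.one_re] at h
    have hU : (0 : ℝ) ≤ ∑ v ∈ S.uset s, (SecRep.E 2 (v, S.bel v) χ χ).re :=
      Finset.sum_nonneg fun v hv => hnn _ (S.reps_mem hs hsr (Or.inr (Or.inr (Or.inr hv))))
    simp only [hF]
    linarith
  have hlow : (1 : ℝ) - 1 / 2 ^ (t + 1) ≤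
      ∑ i ∈ Finset.Ico 1 (2 ^ t), F (r ^ i, S.bel (r ^ i)) := by
    refine (S.rot_lower hs hsr L hχ hne hk.1 hk.2 t S.qu.pos le_rfl).trans
      (S.levels_le hs hsr (fun v => F (v, S.bel v)) fun i h1 h2 => ?_)
    exact hnn _ (S.reps_mem hs hsr (Or.inr (Or.inr (Or.inl ⟨i, h1, h2, rfl⟩))))
  obtain ⟨z, y, hz, hy, hzy⟩ := S.int_central hs hsr χ (η := χ) hB
  have hgz : g χ χ = z := Int.cast_injective (α := ℂ) (by rw [← hg χ χ hB, hz])
  have hscale : ∀ (a : G × BrauerPairIdx G) (x : ℤ),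
      (2 : ℂ) ^ (t + 2) * SecRep.E 2 a χ χ = x → F a = (x : ℝ) / 2 ^ (t + 2) := by
    intro a x hx
    rw [eq_div_iff (pow_ne_zero _ two_ne_zero), mul_comm]
    have h := congrArg Complex.re hx
    rw [← Complex.ofReal_ofNat, ← Complex.ofReal_pow, Complex.re_ofReal_mul, Complex.intCast_re] at h
    exact h
  have hF1 := hscale _ _ hz
  have hFz := hscale _ _ hy
  have hzpos : (0 : ℤ) ≤ z := by
    have h := hnn _ (S.reps_mem hs hsr (Or.inl rfl))
    rw [hF1, div_nonneg_iff] at h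
    rcases h with ⟨h, -⟩ | ⟨-, h⟩
    · exact_mod_cast h
    · exact absurd h (not_le.2 (by positivity))
  have hypos : (0 : ℤ) ≤ y := by
    have h := hnn _ (S.reps_mem hs hsr (Or.inr (Or.inl rfl)))
    rw [hFz, div_nonneg_iff] at h
    rcases h with ⟨h, -⟩ | ⟨-, h⟩
    · exact_mod_cast h
    · exact absurd h (not_le.2 (by positivity))
  have hsum2 : z + y ≤ 2 := by
    have h := hlow
    have hb : ((z : ℝ) + y) / 2 ^ (t + 2) ≤ 1 / 2 ^ (t + 1) := by
      rw [add_div, ← hF1, ← hFz]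
      linarith
    rw [pow_succ _ (t + 1), div_le_div_iff₀ (by positivity) (by positivity)] at hb
    have hb2 : ((z : ℝ) + y) ≤ 2 :=
      le_of_mul_le_mul_right (by linarith : ((z : ℝ) + y) * 2 ^ (t + 1) ≤ 2 * 2 ^ (t + 1))
        (by positivity)
    exact_mod_cast hb2
  have hzodd : ¬ (2 : ℤ) ∣ z := by
    have h := (S.g_val hs hsr hg hB hB hh0).2
    rwa [hgz, hh0, zero_add, pow_one] at h
  have hg1 : g χ χ = 1 := by omega
  have hR0 : S.rset L = ∅ := by
    refine Finset.eq_empty_of_forall_notMem fun w hw => ?_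
    obtain ⟨hwA, hwH, -⟩ := (S.mem_rset L).1 hw
    have hrow := S.g_rows hs hsr hg hB hB
    rw [hg1, mul_one] at hrow
    change ∑ η ∈ S.mems, _ = _ at hrow
    have hle := Finset.sum_le_sum_of_subset_of_nonneg (f := fun η => g χ η * g χ η)
      (s := {χ, w}) (t := S.mems) (by simp [Finset.insert_subset_iff, hA, hwA])
      fun η _ _ => mul_self_nonneg _
    rw [Finset.sum_pair (fun e : χ = w => hwH (e ▸ hχ)), hrow, hg1,
      S.g_symm hs hsr hg hB (S.mem_mems.1 hwA)] at hle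
    have hsq : g w χ * g w χ = (2 : ℤ) ^ (t + t) := by
      rcases (S.rem_data hs hsr L hg hw).2.1 χ hχ with e | e <;> rw [e] <;> ring
    rw [hsq] at hle
    have hp : (2 : ℤ) ^ (t + 2) ≤ 2 ^ (t + t) := pow_le_pow_right₀ (by norm_num) (by omega)
    linarith
  have hk' := (S.k_formula hs hsr).2
  have hpos := Res.blockRank_pos S.hM S.isBlock
  have hcard : Nat.card B = S.mems.card := by
    rw [mems, ← Fintype.card_subtype, ← Nat.card_eq_fintype_card]
  have hcover : S.mems ⊆ (S.hset ∪ S.oset (L 0 S.qu.pos)) ∪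
      (S.mems.filter fun w => w ∉ S.hset ∧ w ∉ S.oset (L 0 S.qu.pos) ∧ S.spc L w ≠ 0) := by
    intro w hw
    by_contra hc
    simp only [Finset.mem_union, Finset.mem_filter, not_or, not_and] at hc
    obtain ⟨⟨hH, hO'⟩, hq⟩ := hc
    have h : w ∈ S.rset L := (S.mem_rset L).2 ⟨hw, hH, hO', not_not.1 (hq hw hH hO')⟩
    rw [hR0] at h
    exact Finset.notMem_empty _ h
  have h1 := (Finset.card_le_card hcover).trans (Finset.card_union_le _ _)
  have h2 := Finset.card_union_add_card_inter S.hset (S.oset (L 0 S.qu.pos))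
  have h3 : 0 < (S.hset ∩ S.oset (L 0 S.qu.pos)).card :=
    Finset.card_pos.2 ⟨χ, Finset.mem_inter.2 ⟨hχ, hO⟩⟩
  have h5 := (S.oset_card hs hsr (L 0 S.qu.pos)).1
  have h6 := S.card_special hs hsr L
  have h7 : 2 ^ 2 ≤ 2 ^ t := Nat.pow_le_pow_right two_pos ht
  omega

omit hg in
/-- The members met by the first level have height one. -/
theorem oset_height {χ : IrrCharacter G} (hO : χ ∈ S.oset (L 0 S.qu.pos)) (hH : χ ∉ S.hset) :
    blockHeight 2 B (χ : G → ℂ) = 1 := by
  classical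
  have hB := S.mem_mems.1 (S.mem_oset.1 hO).1
  obtain ⟨η, hη⟩ := S.hset_nonempty
  obtain ⟨hηB, hη0⟩ := S.mem_hset.1 hη
  obtain ⟨k, hk, hpm⟩ := (S.oset_card hs hsr (L 0 S.qu.pos)).2 χ hO
  set h := blockHeight 2 B (χ : G → ℂ) with hh
  have hne : h ≠ 0 := fun e => hH (S.mem_hset.2 ⟨hB, e⟩)
  by_contra hc
  have hP := S.qu.pow_mem' (2 ^ 0)
  have hgen : S.gen 0 0 = r ^ 2 ^ 0 := by simp [gen]
  have hring := contrib_ring S.hM (S.bel_fst hP) (S.bel_ofB hP) hB η
  set x := S.lcol (L 0 S.qu.pos) χ 0 with hx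
  set c := S.lcol (L 0 S.qu.pos) η 0 with hc'
  have hE := S.E_gen (L 0 S.qu.pos) S.qu.pos 0 χ η
  rw [hgen, S.lcol_real (L 0 S.qu.pos) S.qu.pos] at hE
  have e : contrib 2 (blockDefect 2 B) (S.bel (r ^ 2 ^ 0)) (r ^ 2 ^ 0) χ η / ((2 : ℕ) : ℂ) ^ h =
      x * c / (2 : ℂ) ^ (h - 1) := by
    have he : contrib 2 (blockDefect 2 B) (S.bel (r ^ 2 ^ 0)) (r ^ 2 ^ 0) χ η =
        (2 : ℂ) ^ (t + 2) * SecRep.E 2 (r ^ 2 ^ 0, S.bel (r ^ 2 ^ 0)) χ η := by
      rw [contrib, S.defect, SecRep.E, Nat.cast_ofNat, mul_div_assoc]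
    rw [he, hE, Nat.cast_ofNat, show (2 : ℂ) ^ (t + 2) = 2 ^ (t + 1) * 2 from pow_succ _ _,
      show (2 : ℂ) ^ h = 2 ^ (h - 1) * 2 by rw [← pow_succ]; congr 1; omega]
    field_simp
    simp only [hx, hc']
  rw [← hh, e] at hring
  have hcr : MemLocalRing M c ∧ ¬ MemLocalIdeal M c := by
    rw [hc', S.lcol_eq, hgen]
    exact ⟨ring_of_integral S.hM ((L 0 S.qu.pos).o.col_isIntegral
      (DihBlk.One.comm_of_gen (S.bel_fst hP)) η (S.bel_fst hP ▸ Subgroup.mem_zpowers _)),
      (L 0 S.qu.pos).o.unit S.hM (S.ppow_mem hP) (S.bel_fst hP) (S.bel_ofB hP) hηB hη0⟩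
  have hc0 : c ≠ 0 := fun e0 => hcr.2 (e0 ▸ ideal_zero S.hM)
  have h2 : MemLocalRing M (x / 2) := by
    have h3 := ring_mul S.hM (ring_mul S.hM hring (ring_inv S.hM hcr.1 hcr.2))
      (ring_natCast S.hM (2 ^ (h - 2)))
    refine (congrArg (MemLocalRing M) ?_).mp h3
    rw [Nat.cast_pow, Nat.cast_ofNat,
      show (2 : ℂ) ^ (h - 1) = 2 ^ (h - 2) * 2 by rw [← pow_succ]; congr 1; omega]
    field_simp
  have hx1 : x = aeval (zeta (t - 0)) ((L 0 S.qu.pos).A χ) := by
    rw [hx, lcol]; simp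
  rw [hx1] at h2
  have h3 := CycloTwo.coeff_even S.hM (zeta_half _) ((L 0 S.qu.pos).deg χ) h2 k
  change (2 : ℤ) ∣ S.lco (L 0 S.qu.pos) χ k at h3
  omega

/-- The invariants. -/
theorem invariants : 1 ≤ blockRank 2 B ∧ blockRank 2 B ≤ 3 ∧
    Nat.card B = blockRank 2 B + 2 ^ t + 2 ∧ S.hset.card = 4 ∧
    (∀ χ ∈ S.mems, blockHeight 2 B (χ : G → ℂ) = 0 ∨ blockHeight 2 B (χ : G → ℂ) = 1 ∨
      blockHeight 2 B (χ : G → ℂ) = t) ∧
    (2 ≤ t →
      (S.mems.filter fun χ : IrrCharacter G => blockHeight 2 B (χ : G → ℂ) = 1).card = 2 ^ t - 1) := by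
  classical
  obtain ⟨h4, hodd, -, -⟩ := S.height_zero_data hs hsr (L 0 S.qu.pos)
  have hk := (S.k_formula hs hsr).2
  have hpos : 0 < blockRank 2 B := Res.blockRank_pos S.hM S.isBlock
  have hm : 2 ≤ 2 ^ t := by
    have := S.half_pos
    have := Nat.two_pow_pos (t - 1)
    omega
  have hcard : Nat.card B = S.mems.card := by
    rw [mems, ← Fintype.card_subtype, ← Nat.card_eq_fintype_card]
  set O := S.oset (L 0 S.qu.pos) with hO
  set Q := S.mems.filter fun w => w ∉ S.hset ∧ w ∉ O ∧ S.spc L w ≠ 0 with hQ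
  set R := S.rset L with hR
  have hQR : Disjoint Q R := by
    rw [Finset.disjoint_left]
    intro w hw hw'
    exact (Finset.mem_filter.1 hw).2.2.2 ((S.mem_rset L).1 hw').2.2.2
  have hOQR : Disjoint O (Q ∪ R) := by
    rw [Finset.disjoint_left]
    intro w hw hw'
    rcases Finset.mem_union.1 hw' with h | h
    · exact (Finset.mem_filter.1 h).2.2.1 hw
    · exact ((S.mem_rset L).1 h).2.2.1 hw
  have hHrest : Disjoint S.hset (O ∪ (Q ∪ R)) := by
    rw [Finset.disjoint_left]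
    intro w hw hw'
    rcases Finset.mem_union.1 hw' with h | h
    · exact S.zero_disjoint hs hsr L hg hw h
    rcases Finset.mem_union.1 h with h | h
    · exact (Finset.mem_filter.1 h).2.1 hw
    · exact ((S.mem_rset L).1 h).2.1 hw
  have hall : S.mems = S.hset ∪ (O ∪ (Q ∪ R)) := by
    refine Finset.Subset.antisymm (fun w hw => ?_) (Finset.union_subset S.hset_subset
      (Finset.union_subset (fun w hw => (S.mem_oset.1 hw).1)
        (Finset.union_subset (Finset.filter_subset _ _) fun w hw => ((S.mem_rset L).1 hw).1)))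
    simp only [Finset.mem_union]
    by_cases h1 : w ∈ S.hset
    · exact Or.inl h1
    by_cases h2 : w ∈ O
    · exact Or.inr (Or.inl h2)
    by_cases h3 : S.spc L w = 0
    · exact Or.inr (Or.inr (Or.inr ((S.mem_rset L).2 ⟨hw, h1, h2, h3⟩)))
    · exact Or.inr (Or.inr (Or.inl (Finset.mem_filter.2 ⟨hw, h1, h2, h3⟩)))
  have hsize := congrArg Finset.card hall
  rw [Finset.card_union_of_disjoint hHrest, Finset.card_union_of_disjoint hOQR,
    Finset.card_union_of_disjoint hQR, h4, (S.oset_card hs hsr (L 0 S.qu.pos)).1] at hsize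
  have hQ1 : Q.card ≤ 1 := S.card_special hs hsr L
  have hRc : R.card + (if 1 < t then 2 else 1) ≤ 4 := S.card_rem hs hsr L hg
  have hOh : ∀ w ∈ O, blockHeight 2 B (w : G → ℂ) = 1 := fun w hw =>
    S.oset_height hs hsr L hw fun h => S.zero_disjoint hs hsr L hg h hw
  have hRh : ∀ w ∈ R, blockHeight 2 B (w : G → ℂ) = t := fun w hw =>
    (S.rem_data hs hsr L hg hw).1
  by_cases ht : 1 < t
  · rw [if_pos ht] at hRc
    set Q1 := Q.filter fun χ : IrrCharacter G => blockHeight 2 B (χ : G → ℂ) = 1 with hQ1def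
    have hone : S.mems.filter (fun χ : IrrCharacter G => blockHeight 2 B (χ : G → ℂ) = 1) =
        O ∪ Q1 := by
      rw [hall, Finset.filter_union, Finset.filter_union, Finset.filter_union,
        Finset.filter_eq_empty_iff.2 fun w hw => by rw [(S.mem_hset.1 hw).2]; decide,
        Finset.filter_eq_self.2 hOh,
        Finset.filter_eq_empty_iff (s := R).2 fun w hw => by rw [hRh w hw]; omega,
        Finset.empty_union, Finset.union_empty]
    have hc1 := congrArg Finset.card hone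
    rw [Finset.card_union_of_disjoint (hOQR.mono_right
      ((Finset.filter_subset _ _).trans Finset.subset_union_left)),
      (S.oset_card hs hsr (L 0 S.qu.pos)).1] at hc1
    have hq : Q1.card ≤ Q.card := Finset.card_filter_le _ _
    obtain ⟨d, hd⟩ := hodd
    have h2t := S.half_pos
    change _ = _ + Q1.card at hc1
    have hQeq : Q1 = Q := Finset.eq_of_subset_of_card_le (Finset.filter_subset _ _) (by omega)
    refine ⟨hpos, by omega, hk, h4, fun w hw => ?_, fun _ => by omega⟩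
    rw [hall] at hw
    simp only [Finset.mem_union] at hw
    rcases hw with h | h | h | h
    · exact Or.inl (S.mem_hset.1 h).2
    · exact Or.inr (Or.inl (hOh w h))
    · rw [← hQeq] at h
      exact Or.inr (Or.inl (Finset.mem_filter.1 h).2)
    · exact Or.inr (Or.inr (hRh w h))
  · rw [if_neg ht] at hRc
    have hQ0 : Q = ∅ := Finset.filter_eq_empty_iff.2 fun w _ h => h.2.2 (dif_neg ht)
    have ht1 : t = 1 := by have := S.qu.pos; omega
    rw [hQ0, Finset.card_empty] at hsize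
    refine ⟨hpos, by omega, hk, h4, fun w hw => ?_, fun h => absurd h (by omega)⟩
    rw [hall, hQ0] at hw
    simp only [Finset.mem_union, Finset.notMem_empty, false_or] at hw
    rcases hw with h | h | h
    · exact Or.inl (S.mem_hset.1 h).2
    · exact Or.inr (Or.inl (hOh w h))
    · exact Or.inr (Or.inr (hRh w h))

end Setup

end Cfsg.Agent.Char.QuatBlk
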