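import Cfsg.Agent.Lib.Char.StarWeights

/-!
The twist of a character of a block by the linear characters of its defect group trivial on the
focal subgroup: an irreducible character of the block of the same height, with the sections twisted.
-/

open scoped ComplexConjugate

namespace Cfsg.Agent.Char.Star

open Cfsg.Agent.Block Cfsg.Agent.Char Cfsg.Agent.Char.BP Cfsg.Agent.Char.Spec

set_option linter.unusedSectionVars false
set_option linter.style.haveILetI false
set_option maxHeartbeats 1000000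

universe u

variable {G : Type u} [Group G] [Fintype G] [DecidableEq G] {p : ℕ} [Fact p.Prime] {M : Ideal AlgInt}
variable {B : Set (IrrCharacter G)} {P : Subgroup G} {e : Set (IrrCharacter (CG P))}
  {F : FusionSystem P} {l m : P →* ℂˣ} {χ : IrrCharacter G}

theorem sum_split (Φ : G → ℂ) :
    ∑ g : G, Φ g = ∑ x ∈ (Set.toFinite {x : G | ∃ k, orderOf x = p ^ k}).toFinset,
      ∑ v ∈ regs p (Subgroup.zpowers x), Φ (x * v) := by
  classical
  rw [Finset.sum_sigma']
  symm
  set X := (Set.toFinite {x : G | ∃ k, orderOf x = p ^ k}).toFinset with hX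
  have hpart : ∀ s ∈ X.sigma (fun x => regs p (Subgroup.zpowers x)),
      Commute s.1 s.2 ∧ (∃ k, orderOf s.1 = p ^ k) ∧ ¬ p ∣ orderOf s.2 := fun s hs => by
    obtain ⟨hx, hv⟩ := Finset.mem_sigma.1 hs
    obtain ⟨hv1, hv2⟩ := mem_regs.1 hv
    exact ⟨Subgroup.mem_centralizer_iff.1 hv1 s.1 (Subgroup.mem_zpowers _),
      by simpa [X] using hx, hv2⟩
  refine Finset.sum_bij (fun s _ => s.1 * s.2) (fun _ _ => Finset.mem_univ _)
    (fun s hs t ht h => ?_) (fun g _ => ?_) fun _ _ => rfl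
  · obtain ⟨s1, s2, s3⟩ := hpart s hs
    obtain ⟨t1, t2, t3⟩ := hpart t ht
    have he : s.1 = t.1 := pPart_unique (⟨s.2, rfl, s1, s2, s3⟩ : IsPPart p (s.1 * s.2) s.1)
      (⟨t.2, h.symm, t1, t2, t3⟩ : IsPPart p (s.1 * s.2) t.1)
    obtain ⟨a, b⟩ := s
    obtain ⟨a', b'⟩ := t
    obtain rfl : a = a' := he
    obtain rfl : b = b' := mul_left_cancel (h : a * b = a * b')
    rfl
  · obtain ⟨u, v, huv, hc, hu, hv⟩ := exists_split (p := p) g
    refine ⟨⟨u, v⟩, Finset.mem_sigma.2 ⟨(Set.Finite.mem_toFinset _).2 hu, mem_regs.2 ⟨?_, hv⟩⟩,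
      huv.symm⟩
    rw [cg_zpowers]
    exact Subgroup.mem_centralizer_singleton_iff.2 hc.symm.eq

theorem cross_sum (hM : IsPModular p M) {x : G} (c : BrauerPairIdx G → ℂ)
    {ζ : G → ℂ} (hζ : IsCharacter G ζ) :
    ∑ v ∈ regs p (Subgroup.zpowers x), (∑ a ∈ prs p M x, c a * sct ζ a x v) *
        conj (∑ a ∈ prs p M x, c a * sct ζ a x v) =
      ∑ a ∈ prs p M x, c a * conj (c a) * secT p ζ ζ a x := by
  classical
  simp only [map_sum, map_mul, Finset.sum_mul, Finset.mul_sum]
  rw [Finset.sum_comm]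
  refine Finset.sum_congr rfl fun b hb => ?_
  rw [Finset.sum_comm, Finset.sum_eq_single b]
  · obtain ⟨hb1, -⟩ := mem_prs.1 hb
    rw [secT, hb1, Finset.mul_sum]
    exact Finset.sum_congr rfl fun v _ => by ring
  · intro a ha hne
    obtain ⟨ha1, ha2⟩ := mem_prs.1 ha
    obtain ⟨hb1, hb2⟩ := mem_prs.1 hb
    obtain ⟨Q, f⟩ := a
    obtain ⟨Q', f'⟩ := b
    obtain rfl : Q = Q' := ha1.trans hb1.symm
    obtain rfl : Q = Subgroup.zpowers x := ha1
    have h := cross_zero hM (Q := Subgroup.zpowers x) ha2.2 hb2.2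
      (fun h => hne (congrArg (Sigma.mk _) h)) hζ hζ
      (self_mem_cg (a := (⟨Subgroup.zpowers x, f⟩ : BrauerPairIdx G)) rfl) (Subgroup.mem_zpowers x)
    rw [show (0 : ℂ) = c ⟨_, f⟩ * conj (c ⟨_, f'⟩) * 0 by rw [mul_zero], ← h, Finset.mul_sum]
    exact Finset.sum_congr rfl fun v _ => by ring
  · exact fun h => absurd hb h

theorem sct_zero_of_not (hM : IsPModular p M) (hB : IsPBlock M B) (hχ : χ ∈ B) {x v : G}
    (hx : ∃ k, orderOf x = p ^ k) {a : BrauerPairIdx G} (ha : a ∈ prs p M x)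
    (hnot : ¬ OfB p M B a) (hv : v ∈ regs p (Subgroup.zpowers x)) :
    sct (χ : G → ℂ) a x v = 0 := by
  obtain ⟨h1, h2⟩ := mem_prs.1 ha
  obtain ⟨hv1, hv2⟩ := mem_regs.1 hv
  exact sct_eq_zero hM hχ hB h2 hx h1 hnot (h1 ▸ hv1) hv2

theorem value_prs (hM : IsPModular p M) (f : G → ℂ) {x : G} (hx : ∃ k, orderOf x = p ^ k) (v : G) :
    f (x * v) = ∑ a ∈ prs p M x, sct f a x v := by
  rw [sum_prs hx, value_eq_sum_blks hM (Subgroup.zpowers x) f x v]

theorem star_value {x v : G} (hx : ∃ k, orderOf x = p ^ k)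
    (hv : v ∈ regs p (Subgroup.zpowers x)) (w : G → BrauerPairIdx G → ℂ) (f : G → ℂ) :
    star p M w f (x * v) = ∑ a ∈ prs p M x, w x a * sct f a x v :=
  star_eq (Subgroup.mem_centralizer_iff.1 (mem_regs.1 hv).1 x (Subgroup.mem_zpowers x)) hx
    (mem_regs.1 hv).2

/-- The twist keeps the norm. -/
theorem norm_star (hM : IsPModular p M) (hF : IsBlockFusionSystemOn p M B P e F)
    (hl : TrivFoc F l) (hχ : χ ∈ B) :
    classInner (star p M (lamW p M P e l) (χ : G → ℂ)) (star p M (lamW p M P e l) (χ : G → ℂ)) =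
      1 := by
  classical
  rw [← classInner_self_irr χ.2]
  simp only [classInner]
  congr 1
  rw [sum_split (p := p), sum_split (p := p)]
  refine Finset.sum_congr rfl fun x hx => ?_
  have hx' : ∃ k, orderOf x = p ^ k := by simpa using hx
  rw [Finset.sum_congr rfl (fun v hv => by
      rw [star_value hx' hv (lamW p M P e l) (χ : G → ℂ)]),
    cross_sum hM (lamW p M P e l x) (irr_isChar χ)]
  have h2 := cross_sum hM (x := x) (fun _ => (1 : ℂ)) (irr_isChar χ)
  simp only [one_mul, map_one, ← value_prs hM (χ : G → ℂ) hx'] at h2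
  rw [h2]
  refine Finset.sum_congr rfl fun a ha => ?_
  by_cases hB : OfB p M B a
  · rw [lamW_conj_self hM hF hl (mem_prs.1 ha).1 hB, one_mul]
  · have h0 : secT p (χ : G → ℂ) (χ : G → ℂ) a x = 0 := by
      rw [secT, (mem_prs.1 ha).1]
      exact Finset.sum_eq_zero fun v hv => by
        rw [sct_zero_of_not hM hF.1.1.2.1 hχ hx' ha hB hv, zero_mul]
    rw [h0, mul_zero]

/-- The twist agrees with the character on the regular elements. -/
theorem star_regular (hM : IsPModular p M) (hF : IsBlockFusionSystemOn p M B P e F)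
    (hl : TrivFoc F l) (hχ : χ ∈ B) {v : G} (hv : ¬ p ∣ orderOf v) :
    star p M (lamW p M P e l) (χ : G → ℂ) v = (χ : G → ℂ) v := by
  classical
  have hx : ∃ k, orderOf (1 : G) = p ^ k := ⟨0, by simp⟩
  have hv' : v ∈ regs p (Subgroup.zpowers (1 : G)) := mem_regs.2
    ⟨by rw [cg_zpowers]; exact Subgroup.mem_centralizer_singleton_iff.2 (by simp), hv⟩
  have h1 := star_value (M := M) hx hv' (lamW p M P e l) (χ : G → ℂ)
  rw [one_mul] at h1
  rw [h1]
  have h2 := value_prs hM (χ : G → ℂ) hx v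
  rw [one_mul] at h2
  rw [h2]
  refine Finset.sum_congr rfl fun a ha => ?_
  by_cases hB : OfB p M B a
  · obtain ⟨g, hg⟩ := le_conj_max hM hB (x := (⟨P, e⟩ : BrauerPairIdx G)) hF.1
    obtain ⟨hm, he⟩ := lamW_eq hM hF hl (mem_prs.1 ha).1 hg
    rw [he, show (⟨g * 1 * g⁻¹, hm⟩ : P) = 1 from Subtype.ext (by simp), map_one, Units.val_one,
      one_mul]
  · rw [sct_zero_of_not hM hF.1.1.2.1 hχ hx ha hB hv', mul_zero]

/-- The twist is an irreducible character of the block, of the same degree. -/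
theorem exists_twist (hM : IsPModular p M) (hF : IsBlockFusionSystemOn p M B P e F)
    (hl : TrivFoc F l) (hχ : χ ∈ B) :
    ∃ η : IrrCharacter G, η ∈ B ∧ (η : G → ℂ) = star p M (lamW p M P e l) (χ : G → ℂ) ∧
      blockHeight p B (η : G → ℂ) = blockHeight p B (χ : G → ℂ) := by
  classical
  set s := star p M (lamW p M P e l) (χ : G → ℂ) with hs
  have hgen : IsGeneralizedCharacter G s := genChar_star hM (irr_isChar χ) (wConj_lamW hM hF hl)
    (wLoc_lamW hM hF hl) (isIntegral_lamW hF.1.1.1.1 l)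
  have hs1 : s 1 = (χ : G → ℂ) 1 := star_regular hM hF hl hχ (by simp [(Fact.out : p.Prime).ne_one])
  obtain ⟨d, hd0, hd⟩ := IsIrr.one_eq_pos χ.2
  rcases IsGenChar.norm_one hgen (norm_star hM hF hl hχ) with h | h
  · refine ⟨⟨s, h⟩, ?_, rfl, ?_⟩
    · by_contra hn
      have hne : ¬ SameBlock M (χ : G → ℂ) (⟨s, h⟩ : IrrCharacter G).1 := fun hsb => hn (by
        rw [pblock_eq_blockOf hM hF.1.1.2.1 hχ]
        exact hsb)
      have h0 := reg_orth (p := p) hM (χ := χ) (ψ := ⟨s, h⟩) hne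
      rw [regSum_eq_sum, Finset.sum_congr rfl (fun v hv => by
        rw [show ((⟨s, h⟩ : IrrCharacter G) : G → ℂ) v = (χ : G → ℂ) v from
          star_regular hM hF hl hχ (Finset.mem_filter.1 hv).2])] at h0
      have hre := congrArg Complex.re h0
      rw [Complex.re_sum, Complex.zero_re] at hre
      have hpos := (Finset.sum_eq_zero_iff_of_nonneg (fun v _ => by
        rw [Complex.mul_conj, Complex.ofReal_re]; exact Complex.normSq_nonneg _)).1 hre 1
        (Finset.mem_filter.2 ⟨Finset.mem_univ _, by simp [(Fact.out : p.Prime).ne_one]⟩)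
      rw [Complex.mul_conj, Complex.ofReal_re, Complex.normSq_eq_zero, hd, Nat.cast_eq_zero] at hpos
      omega
    · show blockHeight p B s = _
      simp only [blockHeight, charDegree, hs1]
  · obtain ⟨k, hk0, hk⟩ := IsIrr.one_eq_pos h
    rw [Pi.neg_apply, hs1, hd] at hk
    have h2 : ((d + k : ℕ) : ℂ) = 0 := by push_cast; linear_combination -hk
    rw [Nat.cast_eq_zero] at h2
    omega

/-- The sections of the twist are the twisted sections. -/
theorem sct_twist (hM : IsPModular p M) (hF : IsBlockFusionSystemOn p M B P e F)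
    (hl : TrivFoc F l) {η : IrrCharacter G}
    (he : (η : G → ℂ) = star p M (lamW p M P e l) (χ : G → ℂ)) {x v : G}
    (hx : ∃ k, orderOf x = p ^ k) {a : BrauerPairIdx G} (ha : a ∈ prs p M x)
    (hv : v ∈ regs p (Subgroup.zpowers x)) :
    sct (η : G → ℂ) a x v = lamW p M P e l x a * sct (χ : G → ℂ) a x v := by
  classical
  set D : BrauerPairIdx G → G → ℂ := fun b v =>
    sct (η : G → ℂ) b x v - lamW p M P e l x b * sct (χ : G → ℂ) b x v with hD
  have hsum : ∀ v ∈ regs p (Subgroup.zpowers x), ∑ b ∈ prs p M x, D b v = 0 := fun v hv => by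
    simp only [hD, Finset.sum_sub_distrib]
    rw [← value_prs hM (η : G → ℂ) hx v, ← star_value hx hv (lamW p M P e l) (χ : G → ℂ), he,
      sub_self]
  have hzero : ∀ b ∈ prs p M x, b ≠ a →
      ∑ v ∈ regs p (Subgroup.zpowers x), D b v * conj (D a v) = 0 := by
    intro b hb hne
    obtain ⟨ha1, ha2⟩ := mem_prs.1 ha
    obtain ⟨hb1, hb2⟩ := mem_prs.1 hb
    obtain ⟨Q, f⟩ := a
    obtain ⟨Q', f'⟩ := b
    obtain rfl : Q = Q' := ha1.trans hb1.symm
    obtain rfl : Q = Subgroup.zpowers x := ha1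
    have hc : ∀ ζ ζ' : IrrCharacter G, ∑ v ∈ regs p (Subgroup.zpowers x),
        sct (ζ : G → ℂ) ⟨_, f'⟩ x v * conj (sct (ζ' : G → ℂ) ⟨_, f⟩ x v) = 0 := fun ζ ζ' =>
      cross_zero hM hb2.2 ha2.2 (fun h => hne (congrArg (Sigma.mk _) h)) (irr_isChar ζ)
        (irr_isChar ζ') (self_mem_cg (a := (⟨Subgroup.zpowers x, f⟩ : BrauerPairIdx G)) rfl)
        (Subgroup.mem_zpowers x)
    set W := lamW p M P e l x ⟨_, f⟩
    set W' := lamW p M P e l x ⟨_, f'⟩
    calc _ = (∑ v ∈ regs p (Subgroup.zpowers x),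
            sct (η : G → ℂ) ⟨_, f'⟩ x v * conj (sct (η : G → ℂ) ⟨_, f⟩ x v)) -
          conj W * (∑ v ∈ regs p (Subgroup.zpowers x),
            sct (η : G → ℂ) ⟨_, f'⟩ x v * conj (sct (χ : G → ℂ) ⟨_, f⟩ x v)) -
          W' * (∑ v ∈ regs p (Subgroup.zpowers x),
            sct (χ : G → ℂ) ⟨_, f'⟩ x v * conj (sct (η : G → ℂ) ⟨_, f⟩ x v)) +
          W' * conj W * (∑ v ∈ regs p (Subgroup.zpowers x),
            sct (χ : G → ℂ) ⟨_, f'⟩ x v * conj (sct (χ : G → ℂ) ⟨_, f⟩ x v)) := by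
          simp only [hD, map_sub, map_mul, Finset.mul_sum, ← Finset.sum_sub_distrib,
            ← Finset.sum_add_distrib]
          exact Finset.sum_congr rfl fun v _ => by ring
      _ = 0 := by simp only [hc]; ring
  have hdiag : ∑ v ∈ regs p (Subgroup.zpowers x), D a v * conj (D a v) = 0 := by
    have h : ∑ b ∈ prs p M x, ∑ v ∈ regs p (Subgroup.zpowers x), D b v * conj (D a v) = 0 := by
      rw [Finset.sum_comm]
      exact Finset.sum_eq_zero fun v hv => by rw [← Finset.sum_mul, hsum v hv, zero_mul]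
    rwa [Finset.sum_eq_single a hzero fun h => absurd ha h] at h
  have hre := congrArg Complex.re hdiag
  rw [Complex.re_sum, Complex.zero_re] at hre
  have h1 := (Finset.sum_eq_zero_iff_of_nonneg (fun v _ => by
    rw [Complex.mul_conj, Complex.ofReal_re]; exact Complex.normSq_nonneg _)).1 hre v hv
  rw [Complex.mul_conj, Complex.ofReal_re, Complex.normSq_eq_zero] at h1
  exact sub_eq_zero.1 h1

theorem star_one (hM : IsPModular p M) (hF : IsBlockFusionSystemOn p M B P e F) (hχ : χ ∈ B) :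
    star p M (lamW p M P e 1) (χ : G → ℂ) = (χ : G → ℂ) := by
  funext g
  obtain ⟨x, v, rfl, hc, hx, hv⟩ := exists_split (p := p) g
  have hv' : v ∈ regs p (Subgroup.zpowers x) := mem_regs.2
    ⟨by rw [cg_zpowers]; exact Subgroup.mem_centralizer_singleton_iff.2 hc.symm.eq, hv⟩
  rw [star_value hx hv', value_prs hM (χ : G → ℂ) hx v]
  refine Finset.sum_congr rfl fun a ha => ?_
  by_cases hB : OfB p M B a
  · rw [lamW_one hM hF (mem_prs.1 ha).1 hB, one_mul]
  · rw [sct_zero_of_not hM hF.1.1.2.1 hχ hx ha hB hv', mul_zero]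

theorem star_star (hM : IsPModular p M) (hF : IsBlockFusionSystemOn p M B P e F)
    (hm : TrivFoc F m) {η : IrrCharacter G}
    (he : (η : G → ℂ) = star p M (lamW p M P e m) (χ : G → ℂ)) (l : P →* ℂˣ) :
    star p M (lamW p M P e l) (η : G → ℂ) = star p M (lamW p M P e (l * m)) (χ : G → ℂ) := by
  funext g
  obtain ⟨x, v, rfl, hc, hx, hv⟩ := exists_split (p := p) g
  have hv' : v ∈ regs p (Subgroup.zpowers x) := mem_regs.2
    ⟨by rw [cg_zpowers]; exact Subgroup.mem_centralizer_singleton_iff.2 hc.symm.eq, hv⟩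
  rw [star_value hx hv', star_value hx hv']
  refine Finset.sum_congr rfl fun a ha => ?_
  rw [sct_twist hM hF hm he hx ha hv', lamW_mul, mul_assoc]

/-- A twist fixing the character is trivial where a section does not vanish. -/
theorem eq_one_of_fixed (hM : IsPModular p M) (hF : IsBlockFusionSystemOn p M B P e F)
    (hl : TrivFoc F l) (he : (χ : G → ℂ) = star p M (lamW p M P e l) (χ : G → ℂ)) (v : P)
    {a : BrauerPairIdx G} (ha : a.1 = Subgroup.zpowers (v : G))
    (hle : LE p M a (⟨P, e⟩ : BrauerPairIdx G)) {t : G} (ht : t ∈ regs p a.1)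
    (hne : sct (χ : G → ℂ) a (v : G) t ≠ 0) : l v = 1 := by
  have hv : ∃ k, orderOf (v : G) = p ^ k := order_pow hF.1.1.1.1 v
  have h := sct_twist hM hF hl he hv (mem_prs.2 ⟨ha, le_isPr hle hF.1.1.1⟩) (ha ▸ ht)
  rw [lamW_self hM hF hl v ha hle] at h
  refine Units.ext (mul_right_cancel₀ hne ?_)
  rw [Units.val_one, one_mul]
  exact h.symm

end Cfsg.Agent.Char.Star
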