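import Cfsg.Agent.Lib.Char.DihBlockColumn
import Cfsg.Agent.Lib.Char.StarBlock
import Cfsg.Agent.Lib.Char.SectionOrbit

/-!
A set of representatives of the sections of a block under conjugation: the resolution of the
identity on the block, the count of characters, and the inner products of weighted twists.
-/

open scoped ComplexConjugate

namespace Cfsg.Agent.Char.SecRep

open Cfsg Cfsg.Agent.Block Cfsg.Agent.Char Cfsg.Agent.Char.BP Cfsg.Agent.Char.Spec

set_option linter.unusedSectionVars false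
set_option linter.style.haveILetI false
set_option maxHeartbeats 1000000

universe u

variable {G : Type u} [Group G] [Fintype G] {p : ℕ} [Fact p.Prime] {M : Ideal AlgInt}
variable {B : Set (IrrCharacter G)}

/-- Conjugation of sections. -/
noncomputable def cjS (g : G) (s : G × BrauerPairIdx G) : G × BrauerPairIdx G :=
  (g * s.1 * g⁻¹, cjI g s.2)

theorem cjS_mem (hM : IsPModular p M) (g : G) {s : G × BrauerPairIdx G} (h : s ∈ secs p M B) :
    cjS g s ∈ secs p M B := by
  obtain ⟨⟨k, hk⟩, h2, h3⟩ := mem_secs.1 h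
  refine mem_secs.2 ⟨⟨k, ?_⟩, ?_, ofB_cjI hM h3 g⟩
  · show orderOf (g * s.1 * g⁻¹) = _
    rw [← hk]
    exact MulEquiv.orderOf_eq (MulAut.conj g) s.1
  · show s.2.1.map (MulAut.conj g).toMonoidHom = _
    rw [h2, MonoidHom.map_zpowers]
    rfl

theorem cjS_cjS (g h : G) (s : G × BrauerPairIdx G) : cjS h (cjS g s) = cjS (h * g) s := by
  simp only [cjS, cjI_cjI, Prod.mk.injEq, and_true]
  group

/-- Representatives of the sections of a block. -/
structure IsReps (p : ℕ) (M : Ideal AlgInt) (B : Set (IrrCharacter G))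
    (R : Finset (G × BrauerPairIdx G)) : Prop where
  mem : ∀ r ∈ R, r ∈ secs p M B
  cover : ∀ s ∈ secs p M B, ∃ r ∈ R, ∃ g, cjS g r = s
  sep : ∀ r ∈ R, ∀ r' ∈ R, ∀ g, cjS g r = r' → r = r'

/-- The part of a representative in the resolution of the identity. -/
noncomputable def E (p : ℕ) (r : G × BrauerPairIdx G) (χ η : IrrCharacter G) : ℂ :=
  secT p (χ : G → ℂ) (η : G → ℂ) r.2 r.1 / (Nat.card (CG r.2.1) : ℂ)

theorem card_orbit [DecidableEq (G × BrauerPairIdx G)] {r : G × BrauerPairIdx G}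
    (hr : r ∈ secs p M B) :
    (Finset.univ.image fun g => cjS g r).card * Nat.card (CG r.2.1) = Nat.card G := by
  classical
  obtain ⟨-, h2, -⟩ := mem_secs.1 hr
  have key : ∀ s ∈ (Finset.univ.image fun g => cjS g r),
      (Finset.univ.filter fun g => cjS g r = s).card = Nat.card (CG r.2.1) := by
    intro s hs
    obtain ⟨g₀, -, rfl⟩ := Finset.mem_image.1 hs
    rw [Nat.card_eq_fintype_card, Fintype.card_subtype]
    refine Finset.card_equiv (Equiv.mulLeft g₀⁻¹) fun g => ?_
    simp only [Finset.mem_filter, Finset.mem_univ, true_and, Equiv.coe_mulLeft]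
    constructor
    · intro h
      have h1 := congrArg Prod.fst h
      simp only [cjS] at h1
      rw [h2, cg_zpowers, Subgroup.mem_centralizer_singleton_iff]
      calc g₀⁻¹ * g * r.1 = g₀⁻¹ * (g * r.1 * g⁻¹) * g := by group
        _ = g₀⁻¹ * (g₀ * r.1 * g₀⁻¹) * g := by rw [h1]
        _ = r.1 * (g₀⁻¹ * g) := by group
    · intro h
      have hc := h
      rw [h2, cg_zpowers, Subgroup.mem_centralizer_singleton_iff] at hc
      rw [show g = g₀ * (g₀⁻¹ * g) by group, ← cjS_cjS]
      congr 1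
      refine Prod.ext ?_ (cjI_of_mem_cg h)
      show g₀⁻¹ * g * r.1 * (g₀⁻¹ * g)⁻¹ = r.1
      rw [hc, mul_inv_cancel_right]
  have h := Finset.card_eq_sum_card_image (fun g : G => cjS g r) (Finset.univ : Finset G)
  rw [Finset.sum_congr rfl key, Finset.sum_const, smul_eq_mul, Finset.card_univ,
    ← Nat.card_eq_fintype_card] at h
  exact h.symm

variable {R : Finset (G × BrauerPairIdx G)}

/-- A sum over the sections, by representatives. -/
theorem IsReps.sum_secs (hR : IsReps p M B R) (hM : IsPModular p M)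
    (F : G × BrauerPairIdx G → ℂ) (hF : ∀ g, ∀ s ∈ secs p M B, F (cjS g s) = F s) :
    ∑ s ∈ secs p M B, F s = ∑ r ∈ R, (Nat.card G : ℂ) / (Nat.card (CG r.2.1) : ℂ) * F r := by
  classical
  let O : G × BrauerPairIdx G → Finset (G × BrauerPairIdx G) := fun r =>
    Finset.univ.image fun g => cjS g r
  have hO : secs p M B = R.biUnion O := by
    ext s
    simp only [Finset.mem_biUnion, O, Finset.mem_image, Finset.mem_univ, true_and]
    exact ⟨fun hs => hR.cover s hs, fun ⟨r, hr, g, hg⟩ => hg ▸ cjS_mem hM g (hR.mem r hr)⟩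
  have hdis : (R : Set (G × BrauerPairIdx G)).PairwiseDisjoint O := by
    intro r hr r' hr' hne
    rw [Function.onFun, Finset.disjoint_left]
    intro s hs hs'
    obtain ⟨g, -, rfl⟩ := Finset.mem_image.1 hs
    obtain ⟨g', -, hg'⟩ := Finset.mem_image.1 hs'
    refine hne (hR.sep r hr r' hr' (g'⁻¹ * g) ?_)
    rw [← cjS_cjS, ← hg', cjS_cjS, inv_mul_cancel]
    simp [cjS, cjI_one]
  rw [hO, Finset.sum_biUnion hdis]
  refine Finset.sum_congr rfl fun r hr => ?_
  rw [Finset.sum_congr rfl (g := fun _ => F r) fun s hs => by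
      obtain ⟨g, -, rfl⟩ := Finset.mem_image.1 hs
      exact hF g r (hR.mem r hr),
    Finset.sum_const, nsmul_eq_mul]
  congr 1
  rw [eq_div_iff (Nat.cast_ne_zero.2 Nat.card_pos.ne'), ← Nat.cast_mul,
    card_orbit (hR.mem r hr)]

theorem secT_cjS (g : G) (s : G × BrauerPairIdx G) (χ η : IrrCharacter G) :
    secT p (χ : G → ℂ) (η : G → ℂ) (cjS g s).2 (cjS g s).1 =
      secT p (χ : G → ℂ) (η : G → ℂ) s.2 s.1 :=
  secT_conj (irr_classFun χ) (irr_classFun η) _ _ _

/-- The resolution of the identity. -/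
theorem IsReps.resolution (hR : IsReps p M B R) (hM : IsPModular p M) (hB : IsPBlock M B)
    {χ η : IrrCharacter G} [Decidable (χ = η)] (hχ : χ ∈ B) (hη : η ∈ B) :
    ∑ r ∈ R, E p r χ η = if χ = η then 1 else 0 := by
  classical
  have hG : (Nat.card G : ℂ) ≠ 0 := Nat.cast_ne_zero.2 Nat.card_pos.ne'
  have h1 := sum_eq_sum_secs (p := p) hM hB hχ hη
  rw [hR.sum_secs hM (fun s => secT p (χ : G → ℂ) (η : G → ℂ) s.2 s.1)
    fun g s _ => secT_cjS g s χ η] at h1
  have h2 : ∑ g : G, (χ : G → ℂ) g * conj ((η : G → ℂ) g) =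
      if χ = η then (Nat.card G : ℂ) else 0 := by
    have h := classInner_irr_eq_ite χ.2 η.2
    rw [classInner, inv_mul_eq_iff_eq_mul₀ hG] at h
    rw [h]
    by_cases e : χ = η
    · rw [if_pos e, if_pos (congrArg Subtype.val e), mul_one]
    · rw [if_neg e, if_neg (fun e' => e (Subtype.ext e')), mul_zero]
  rw [h2] at h1
  have h3 : (Nat.card G : ℂ) * ∑ r ∈ R, E p r χ η = if χ = η then (Nat.card G : ℂ) else 0 := by
    rw [h1, Finset.mul_sum]
    exact Finset.sum_congr rfl fun r _ => by rw [E]; ring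
  refine mul_left_cancel₀ hG (h3.trans ?_)
  split_ifs <;> simp

theorem E_symm (r : G × BrauerPairIdx G) (χ η : IrrCharacter G) :
    conj (E p r χ η) = E p r η χ := by
  simp only [E, map_div₀, map_natCast, secT, map_sum, map_mul, Complex.conj_conj]
  congr 1
  exact Finset.sum_congr rfl fun v _ => mul_comm _ _

/-- The sum of the diagonal over the block is the rank. -/
theorem IsReps.sum_diag (hR : IsReps p M B R) (hM : IsPModular p M) [DecidablePred (· ∈ B)]
    {r : G × BrauerPairIdx G} (hr : r ∈ R) :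
    ∑ χ ∈ Finset.univ.filter (· ∈ B), E p r χ χ = (blockRank p r.2.2 : ℂ) := by
  obtain ⟨h1, h2, h3⟩ := mem_secs.1 (hR.mem r hr)
  simp only [E]
  rw [← Finset.sum_div, sum_sct_sq hM h1 h2 h3,
    mul_div_cancel_left₀ _ (Nat.cast_ne_zero.2 Nat.card_pos.ne')]

/-- The number of characters. -/
theorem IsReps.card_eq (hR : IsReps p M B R) (hM : IsPModular p M) (hB : IsPBlock M B) :
    Nat.card B = ∑ r ∈ R, blockRank p r.2.2 := by
  classical
  have h : ∑ χ ∈ Finset.univ.filter (· ∈ B), ∑ r ∈ R, E p r χ χ =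
      ∑ χ ∈ Finset.univ.filter (· ∈ B), (1 : ℂ) :=
    Finset.sum_congr rfl fun χ hχ => by
      rw [hR.resolution hM hB (Finset.mem_filter.1 hχ).2 (Finset.mem_filter.1 hχ).2, if_pos rfl]
  rw [Finset.sum_comm, Finset.sum_congr rfl fun r hr => hR.sum_diag hM hr, Finset.sum_const,
    nsmul_eq_mul, mul_one, ← Fintype.card_subtype, ← Nat.card_eq_fintype_card] at h
  have h' : ((∑ r ∈ R, blockRank p r.2.2 : ℕ) : ℂ) = ((Nat.card B : ℕ) : ℂ) := by
    push_cast
    exact h
  exact (Nat.cast_injective h').symm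

/-- Distinct representatives are orthogonal. -/
theorem IsReps.cross (hR : IsReps p M B R) (hM : IsPModular p M) [DecidablePred (· ∈ B)]
    {r r' : G × BrauerPairIdx G} (hr : r ∈ R) (hr' : r' ∈ R) (hne : r ≠ r') {s s' : G}
    (hs : s ∈ regs p r.2.1) (hs' : s' ∈ regs p r'.2.1) :
    ∑ χ ∈ Finset.univ.filter (· ∈ B),
      sct (χ : G → ℂ) r.2 r.1 s * conj (sct (χ : G → ℂ) r'.2 r'.1 s') = 0 := by
  obtain ⟨h1, h2, h3⟩ := mem_secs.1 (hR.mem r hr)
  obtain ⟨h1', h2', h3'⟩ := mem_secs.1 (hR.mem r' hr')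
  exact DihBlk.sum_sct_cross hM h1 h1' h2 h2' h3 h3'
    (fun g hg he => hne (hR.sep r hr r' hr' g (Prod.ext hg he)))
    (mem_regs.1 hs).1 (mem_regs.1 hs).2 (mem_regs.1 hs').1 (mem_regs.1 hs').2

/-- A part kills the sections of the other representatives. -/
theorem IsReps.E_mul_sct (hR : IsReps p M B R) (hM : IsPModular p M) [DecidablePred (· ∈ B)]
    {r r' : G × BrauerPairIdx G} (hr : r ∈ R) (hr' : r' ∈ R) (hne : r ≠ r') (χ : IrrCharacter G)
    {s' : G} (hs' : s' ∈ regs p r'.2.1) :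
    ∑ η ∈ Finset.univ.filter (· ∈ B), E p r χ η * sct (η : G → ℂ) r'.2 r'.1 s' = 0 := by
  simp only [E, div_mul_eq_mul_div]
  rw [← Finset.sum_div, div_eq_zero_iff]
  left
  simp only [secT, Finset.sum_mul]
  rw [Finset.sum_comm]
  refine Finset.sum_eq_zero fun v hv => ?_
  simp only [mul_assoc, ← Finset.mul_sum]
  rw [Finset.sum_congr rfl (g := fun η : IrrCharacter G =>
    sct (η : G → ℂ) r'.2 r'.1 s' * conj (sct (η : G → ℂ) r.2 r.1 v)) fun η _ => mul_comm _ _,
    hR.cross hM hr' hr hne.symm hs' hv, mul_zero]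

/-- Distinct parts annihilate each other. -/
theorem IsReps.E_mul_E (hR : IsReps p M B R) (hM : IsPModular p M) [DecidablePred (· ∈ B)]
    {r r' : G × BrauerPairIdx G} (hr : r ∈ R) (hr' : r' ∈ R) (hne : r ≠ r')
    (χ ψ : IrrCharacter G) :
    ∑ η ∈ Finset.univ.filter (· ∈ B), E p r χ η * E p r' η ψ = 0 := by
  have e : ∀ η : IrrCharacter G, E p r χ η * E p r' η ψ =
      ∑ v ∈ regs p r'.2.1, E p r χ η * sct (η : G → ℂ) r'.2 r'.1 v *
        (conj (sct (ψ : G → ℂ) r'.2 r'.1 v) / (Nat.card (CG r'.2.1) : ℂ)) := fun η => by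
    conv_lhs => arg 2; rw [E, secT, Finset.sum_div, ]
    rw [Finset.mul_sum]
    exact Finset.sum_congr rfl fun v _ => by ring
  rw [Finset.sum_congr rfl fun η _ => e η, Finset.sum_comm]
  refine Finset.sum_eq_zero fun v hv => ?_
  rw [← Finset.sum_mul, hR.E_mul_sct hM hr hr' hne χ hv, zero_mul]

/-- Each part is idempotent. -/
theorem IsReps.E_idem (hR : IsReps p M B R) (hM : IsPModular p M) (hB : IsPBlock M B)
    [DecidablePred (· ∈ B)] {r : G × BrauerPairIdx G} (hr : r ∈ R) (χ : IrrCharacter G)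
    {ψ : IrrCharacter G} (hψ : ψ ∈ B) :
    ∑ η ∈ Finset.univ.filter (· ∈ B), E p r χ η * E p r η ψ = E p r χ ψ := by
  classical
  have h : ∑ η ∈ Finset.univ.filter (· ∈ B), E p r χ η * ∑ r' ∈ R, E p r' η ψ = E p r χ ψ := by
    rw [Finset.sum_congr rfl fun η hη => by
      rw [hR.resolution hM hB (Finset.mem_filter.1 hη).2 hψ, mul_ite, mul_one, mul_zero],
      Finset.sum_ite_eq', if_pos (Finset.mem_filter.2 ⟨Finset.mem_univ _, hψ⟩)]
  refine Eq.trans ?_ h
  simp only [Finset.mul_sum]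
  rw [Finset.sum_comm, Finset.sum_eq_single r (fun r' hr' hne => hR.E_mul_E hM hr hr' hne.symm χ ψ)
    fun h => absurd hr h]

/-- The diagonal is the square norm of the row. -/
theorem IsReps.row_sq (hR : IsReps p M B R) (hM : IsPModular p M) (hB : IsPBlock M B)
    [DecidablePred (· ∈ B)] {r : G × BrauerPairIdx G} (hr : r ∈ R) {χ : IrrCharacter G}
    (hχ : χ ∈ B) :
    ∑ η ∈ Finset.univ.filter (· ∈ B), Complex.normSq (E p r χ η) = (E p r χ χ).re := by
  rw [← hR.E_idem hM hB hr χ hχ, Complex.re_sum]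
  refine Finset.sum_congr rfl fun η _ => ?_
  rw [← E_symm r χ η, Complex.mul_conj, Complex.ofReal_re]

section Star

variable [DecidableEq G] {w : G → BrauerPairIdx G → ℂ}

/-- The weighted sums against the values, pair by pair. -/
theorem cross_sum_two (hM : IsPModular p M) {x : G} (c : BrauerPairIdx G → ℂ)
    {ζ ξ : G → ℂ} (hζ : IsCharacter G ζ) (hξ : IsCharacter G ξ) :
    ∑ v ∈ regs p (Subgroup.zpowers x), (∑ a ∈ Star.prs p M x, c a * sct ζ a x v) *
        conj (∑ a ∈ Star.prs p M x, sct ξ a x v) =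
      ∑ a ∈ Star.prs p M x, c a * secT p ζ ξ a x := by
  classical
  simp only [map_sum, Finset.sum_mul, Finset.mul_sum]
  rw [Finset.sum_comm]
  refine Finset.sum_congr rfl fun b hb => ?_
  rw [Finset.sum_comm, Finset.sum_eq_single b]
  · obtain ⟨hb1, -⟩ := Star.mem_prs.1 hb
    rw [secT, hb1, Finset.mul_sum]
    exact Finset.sum_congr rfl fun v _ => by ring
  · intro a ha hne
    obtain ⟨ha1, ha2⟩ := Star.mem_prs.1 ha
    obtain ⟨hb1, hb2⟩ := Star.mem_prs.1 hb
    obtain ⟨Q, f⟩ := a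
    obtain ⟨Q', f'⟩ := b
    obtain rfl : Q = Q' := ha1.trans hb1.symm
    obtain rfl : Q = Subgroup.zpowers x := ha1
    have h := cross_zero hM (Q := Subgroup.zpowers x) ha2.2 hb2.2
      (fun h => hne (congrArg (Sigma.mk _) h)) hζ hξ
      (self_mem_cg (a := (⟨Subgroup.zpowers x, f⟩ : BrauerPairIdx G)) rfl) (Subgroup.mem_zpowers x)
    rw [show (0 : ℂ) = c ⟨_, f⟩ * 0 by rw [mul_zero], ← h, Finset.mul_sum]
    exact Finset.sum_congr rfl fun v _ => by ring
  · exact fun h => absurd hb h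

/-- The inner products of a twist, by representatives. -/
theorem IsReps.inner_star (hR : IsReps p M B R) (hM : IsPModular p M) (hB : IsPBlock M B)
    (hw : Star.WConj p M w) {χ η : IrrCharacter G} (hη : η ∈ B) :
    classInner (Star.star p M w (χ : G → ℂ)) (η : G → ℂ) =
      ∑ r ∈ R, w r.1 r.2 * E p r χ η := by
  classical
  set X := (Set.toFinite {x : G | ∃ k, orderOf x = p ^ k}).toFinset with hX
  have hG : (Nat.card G : ℂ) ≠ 0 := Nat.cast_ne_zero.2 Nat.card_pos.ne'
  have h1 : ∑ g : G, Star.star p M w (χ : G → ℂ) g * conj ((η : G → ℂ) g) =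
      ∑ s ∈ secs p M B, w s.1 s.2 * secT p (χ : G → ℂ) (η : G → ℂ) s.2 s.1 := by
    rw [Star.sum_split (p := p), Finset.sum_finset_product (secs p M B) X
      (fun x => pairsAt p M B x) (fun s => by simp [mem_secs, mem_pairsAt, X])]
    refine Finset.sum_congr rfl fun x hx => ?_
    have hx' : ∃ k, orderOf x = p ^ k := by simpa [X] using hx
    rw [Finset.sum_congr rfl fun v hv => by
      rw [Star.star_value hx' hv w (χ : G → ℂ), Star.value_prs hM (η : G → ℂ) hx' v],
      cross_sum_two hM (w x) (irr_isChar χ) (irr_isChar η)]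
    symm
    refine Finset.sum_subset (fun a ha => ?_) fun a ha hna => ?_
    · obtain ⟨h1, h2⟩ := mem_pairsAt.1 ha
      exact Star.mem_prs.2 ⟨h1, h2.1⟩
    · obtain ⟨h1, -⟩ := Star.mem_prs.1 ha
      have h0 : secT p (χ : G → ℂ) (η : G → ℂ) a x = 0 := by
        rw [secT]
        refine Finset.sum_eq_zero fun v hv => ?_
        rw [Star.sct_zero_of_not hM hB hη hx' ha (fun h => hna (mem_pairsAt.2 ⟨h1, h⟩))
          (h1 ▸ hv), map_zero, mul_zero]
      rw [h0, mul_zero]
  rw [classInner, h1, hR.sum_secs hM (fun s => w s.1 s.2 * secT p (χ : G → ℂ) (η : G → ℂ) s.2 s.1)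
    fun g s hs => ?_, Finset.mul_sum]
  · exact Finset.sum_congr rfl fun r _ => by rw [E]; field_simp
  · obtain ⟨hs1, hs2, hs3⟩ := mem_secs.1 hs
    rw [secT_cjS]
    congr 1
    exact hw g s.1 s.2 hs1 hs2 hs3.1

end Star

end Cfsg.Agent.Char.SecRep
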