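import Cfsg.Agent.Lib.Char.QuatBlockGroup
import Cfsg.Agent.Lib.Char.SectionReps
import Cfsg.Agent.Lib.Char.DihBlockOne
import Cfsg.Agent.Lib.Char.NilpotentMain
import Cfsg.Agent.Lib.Char.PairSaturated
import Cfsg.Agent.Lib.Char.DihBlockSetup

/-!
The sections of a 2-block with generalized quaternion defect group: pairs, fusion, ranks, defects
and representatives.
-/

open scoped ComplexConjugate

namespace Cfsg.Agent.Char.QuatBlk

open Cfsg Cfsg.Agent.Block Cfsg.Agent.Char Cfsg.Agent.Char.BP Cfsg.Agent.Char.Spec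

set_option linter.unusedSectionVars false
set_option linter.style.haveILetI false
set_option maxHeartbeats 800000

universe u

variable {G : Type u} [Group G] [Fintype G] {M : Ideal AlgInt} {B : Set (IrrCharacter G)}
variable {P : Subgroup G} {e : Set (IrrCharacter (CG P))} {r : G} {t : ℕ}

/-- The equipment: a maximal pair on a generalized quaternion group. -/
structure Setup (M : Ideal AlgInt) (B : Set (IrrCharacter G)) (P : Subgroup G)
    (e : Set (IrrCharacter (CG P))) (r : G) (t : ℕ) : Prop where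
  hM : IsPModular 2 M
  max : IsMx 2 M B (⟨P, e⟩ : BrauerPairIdx G)
  qu : Qu P r t

theorem exists_setup {D : Subgroup G} (hM : IsPModular 2 M) (hB : IsPBlock M B)
    (hD : IsDefectGroup 2 M B D) (hr : Qu D r t) : ∃ f, Setup M B D f r t := by
  obtain ⟨f, hf⟩ := (exists_pair_iff hM hB (IsDefectGroup.isPGroup hD)).2
    ((not_brZero_iff hM hB hD (IsDefectGroup.isPGroup hD)).2 ⟨1, by rw [map_conj_one]⟩)
  exact ⟨f, hM, max_of_defect hM hf hD, hr⟩

namespace Setup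

variable (S : Setup M B P e r t)
include S

theorem isPr : IsPr 2 M (⟨P, e⟩ : BrauerPairIdx G) := S.max.1.1

theorem isBlock : IsPBlock M B := S.max.1.2.1

theorem defect : blockDefect 2 B = t + 2 := by
  have h := card_defectGroup S.hM S.isBlock (defect_of_max S.hM S.max)
  rw [S.qu.card] at h
  exact (Nat.pow_right_injective le_rfl h).symm

theorem ppow_mem {x : G} (hx : x ∈ P) : ∃ k, orderOf x = 2 ^ k := by
  obtain ⟨k, -, hk⟩ := (Nat.dvd_prime_pow Nat.prime_two).1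
    (S.qu.card ▸ Subgroup.orderOf_dvd_natCard (s := P) hx)
  exact ⟨k, hk⟩

theorem ofB_of_le {a : BrauerPairIdx G} (h : LE 2 M a (⟨P, e⟩ : BrauerPairIdx G)) :
    OfB 2 M B a := (ofB_le S.hM h).1 S.max.1

/-- The pair below the maximal pair at an element. -/
noncomputable def bel (_S : Setup M B P e r t) (x : G) : BrauerPairIdx G := by
  classical
  exact if h : ∃ a : BrauerPairIdx G,
      a.1 = Subgroup.zpowers x ∧ LE 2 M a (⟨P, e⟩ : BrauerPairIdx G)
    then h.choose else ⟨P, e⟩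

theorem bel_spec {x : G} (hx : x ∈ P) :
    (S.bel x).1 = Subgroup.zpowers x ∧ LE 2 M (S.bel x) (⟨P, e⟩ : BrauerPairIdx G) := by
  classical
  have h : ∃ a : BrauerPairIdx G,
      a.1 = Subgroup.zpowers x ∧ LE 2 M a (⟨P, e⟩ : BrauerPairIdx G) :=
    exists_le S.hM S.isPr (Subgroup.zpowers_le.2 hx)
  rw [bel, dif_pos h]
  exact h.choose_spec

theorem bel_fst {x : G} (hx : x ∈ P) : (S.bel x).1 = Subgroup.zpowers x := (S.bel_spec hx).1

theorem bel_le {x : G} (hx : x ∈ P) : LE 2 M (S.bel x) (⟨P, e⟩ : BrauerPairIdx G) :=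
  (S.bel_spec hx).2

theorem bel_ofB {x : G} (hx : x ∈ P) : OfB 2 M B (S.bel x) := S.ofB_of_le (S.bel_le hx)

theorem bel_unique {x : G} {a : BrauerPairIdx G} (ha : a.1 = Subgroup.zpowers x)
    (hle : LE 2 M a (⟨P, e⟩ : BrauerPairIdx G)) : a = S.bel x := by
  have hx : x ∈ P := le_subgroup hle (ha ▸ Subgroup.mem_zpowers x)
  exact le_unique S.hM hle (S.bel_le hx) (ha.trans (S.bel_fst hx).symm)

theorem bel_congr {x y : G} (hx : x ∈ P) (h : Subgroup.zpowers x = Subgroup.zpowers y) :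
    S.bel x = S.bel y :=
  S.bel_unique ((S.bel_fst hx).trans h) (S.bel_le hx)

/-- Fusion of elements with their pairs. -/
def Fus (x y : G) : Prop := ∃ g : G, g * x * g⁻¹ = y ∧ cjI g (S.bel x) = S.bel y

theorem fus_refl (x : G) : S.Fus x x := ⟨1, by group, cjI_one _⟩

theorem fus_symm {x y : G} (h : S.Fus x y) : S.Fus y x := by
  obtain ⟨g, hg, he⟩ := h
  refine ⟨g⁻¹, ?_, ?_⟩
  · rw [← hg]; group
  · rw [← he, cjI_inv_cancel]

theorem fus_trans {x y z : G} (h : S.Fus x y) (h' : S.Fus y z) : S.Fus x z := by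
  obtain ⟨g, hg, he⟩ := h
  obtain ⟨g', hg', he'⟩ := h'
  refine ⟨g' * g, ?_, ?_⟩
  · rw [← hg', ← hg]; group
  · rw [← cjI_cjI, he, he']

theorem cjI_bel {x w : G} (hx : x ∈ P) (hw : w ∈ P) :
    cjI w (S.bel x) = S.bel (w * x * w⁻¹) := by
  refine S.bel_unique ?_ ?_
  · show (S.bel x).1.map (MulAut.conj w).toMonoidHom = _
    rw [S.bel_fst hx, MonoidHom.map_zpowers]
    rfl
  · have h := le_cjI S.hM w (S.bel_le hx)
    rwa [cjI_self (a := (⟨P, e⟩ : BrauerPairIdx G)) hw] at h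

theorem fus_of_mem {x w : G} (hx : x ∈ P) (hw : w ∈ P) : S.Fus x (w * x * w⁻¹) :=
  ⟨w, rfl, S.cjI_bel hx hw⟩

theorem fus_inv {x : G} (hx : x ∈ P) : S.Fus x x⁻¹ := by
  obtain ⟨w, hw, he⟩ := S.qu.exists_inverts hx
  rw [← he]
  exact S.fus_of_mem hx hw

theorem fus_order {x y : G} (h : S.Fus x y) : orderOf y = orderOf x := by
  obtain ⟨g, rfl, -⟩ := h
  exact MulEquiv.orderOf_eq (MulAut.conj g) x

/-- Every block of a section of order more than two is nilpotent, so of rank one. -/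
theorem rank_one {a : BrauerPairIdx G} {x : G} (hax : a.1 = Subgroup.zpowers x) (hxx : x * x ≠ 1)
    (haB : OfB 2 M B a) : blockRank 2 a.2 = 1 := by
  haveI := Fintype.ofFinite (CG a.1)
  refine (rank_of_nilpotent S.hM ((nil_iff S.hM).2 ⟨haB.1.2, fun b hb y hy hyo => ?_⟩)).1
  set R := upIn a b with hR
  have hstep : Step 2 M a R := step_upIn S.hM haB.1 hb
  obtain ⟨l, hl⟩ := le_conj_max S.hM ((ofB_step S.hM hstep).2 haB) S.max
  have hle : R.1.map (MulAut.conj l).toMonoidHom ≤ P := le_subgroup hl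
  have hbR : b.1.map (CG a.1).subtype ≤ R.1 := le_sup_left
  have hxR : x ∈ R.1 := (le_sup_right : a.1 ≤ R.1) (hax ▸ Subgroup.mem_zpowers x)
  have hRC : R.1 ≤ Subgroup.centralizer ({x} : Set G) := by
    rw [← cg_zpowers, ← hax]
    refine sup_le ?_ ?_
    · rintro _ ⟨d, -, rfl⟩; exact d.2
    · rw [hax]; exact Subgroup.zpowers_le.2 (hax ▸ self_mem_cg hax)
  have hyN : (y : G) ∈ Subgroup.normalizer (R.1 : Set G) :=
    stab_le_normalizer _ (mem_stab_upIn hy)
  -- the group above is cyclic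
  set R' := R.1.map (MulAut.conj l).toMonoidHom with hR'
  obtain ⟨c, -, hc, -⟩ := S.qu.centralizer_cyclic (x := l * x * l⁻¹)
    (hle (conj_mem_map_conj.2 hxR)) (fun h => hxx (by rwa [conj_mul, conj_eq_one_iff] at h))
  have hR'c : R' ≤ Subgroup.zpowers c := by
    intro w hw
    refine hc w (hle hw) ?_
    obtain ⟨w', hw', rfl⟩ := hw
    show l * w' * l⁻¹ * (l * x * l⁻¹) = l * x * l⁻¹ * (l * w' * l⁻¹)
    rw [conj_mul, conj_mul, Subgroup.mem_centralizer_singleton_iff.1 (hRC hw')]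
  haveI : IsCyclic R' := isCyclic_of_injective (Subgroup.inclusion hR'c)
    (Subgroup.inclusion_injective hR'c)
  haveI : IsCyclic R.1 :=
    isCyclic_of_surjective (R.1.equivMapOfInjective (MulAut.conj l).toMonoidHom
      (MulAut.conj l).injective).symm.toMonoidHom (MulEquiv.surjective _)
  obtain ⟨k, -, hk⟩ := (Nat.dvd_prime_pow Nat.prime_two).1
    (S.qu.card ▸ (card_map_conj l R.1).symm ▸ Subgroup.card_dvd_of_le hle :
      Nat.card R.1 ∣ 2 ^ (t + 2))
  set α : MulAut R.1 := R.1.normalizerMonoidHom ⟨(y : G), hyN⟩ with hα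
  have h1 : orderOf α ∣ orderOf (y : G) := by
    refine (orderOf_map_dvd R.1.normalizerMonoidHom _).trans ?_
    rw [Subgroup.orderOf_mk]
  have hodd : Odd (orderOf (y : G)) := by
    rw [Subgroup.orderOf_coe]
    exact Nat.not_even_iff_odd.1 fun hc => hyo hc.two_dvd
  have hα1 : α = 1 := by
    rw [← orderOf_eq_one_iff]
    obtain ⟨j, hj⟩ : ∃ j, Nat.card (MulAut R.1) = 2 ^ j := by
      refine ⟨k - 1, ?_⟩
      rw [IsCyclic.card_mulAut, hk]
      rcases k with _ | k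
      · simp
      · rw [Nat.totient_prime_pow_succ Nat.prime_two]; simp
    obtain ⟨i, -, hi⟩ := (Nat.dvd_prime_pow Nat.prime_two).1 (hj ▸ orderOf_dvd_natCard α)
    rcases i with _ | i
    · simpa using hi
    · exfalso
      refine Nat.not_even_iff_odd.2 hodd (even_iff_two_dvd.2 (dvd_trans ?_ h1))
      rw [hi]
      exact dvd_pow_self 2 i.succ_ne_zero
  refine Subgroup.mem_centralizer_iff.2 fun w hw => Subtype.ext ?_
  have hwR : (w : G) ∈ R.1 := hbR ⟨w, hw, rfl⟩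
  have h2 : (α ⟨(w : G), hwR⟩ : G) = (w : G) := by rw [hα1]; rfl
  have h3 : (y : G) * (w : G) * (y : G)⁻¹ = (w : G) := h2
  exact (mul_inv_eq_iff_eq_mul.1 h3).symm

theorem rank_bel {x : G} (hx : x ∈ P) (hxx : x * x ≠ 1) : blockRank 2 (S.bel x).2 = 1 :=
  S.rank_one (S.bel_fst hx) hxx (S.bel_ofB hx)

theorem rank_bel_one : blockRank 2 (S.bel 1).2 = blockRank 2 B :=
  rank_bot_pair S.hM S.max S.isBlock (S.bel_fst (one_mem _)) (S.bel_ofB (one_mem _))

/-- The defect of a pair against the centralizers in the maximal subgroup. -/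
theorem defect_le {x : G} (hx : x ∈ P) (hxx : x * x ≠ 1) :
    ∃ x' ∈ P, S.Fus x x' ∧ ∃ y : G, 2 ^ blockDefect 2 (S.bel x).2 ≤ orderOf y ∧
      orderOf y ≤ 2 ^ (t + 1) ∧ (x' ∉ Subgroup.zpowers r → orderOf y = 4) := by
  obtain ⟨g, hg, hD⟩ := exists_conj_fully S.hM S.max (S.bel_le hx)
  have h1 := card_of_isDefect_inf S.hM (le_isPr hg S.isPr) hD
  rw [blockDefect_cjI] at h1
  have hgx : (cjI g (S.bel x)).1 = Subgroup.zpowers (g * x * g⁻¹) := by
    show (S.bel x).1.map (MulAut.conj g).toMonoidHom = _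
    rw [S.bel_fst hx, MonoidHom.map_zpowers]
    rfl
  have hgP : g * x * g⁻¹ ∈ P := le_subgroup hg (hgx ▸ Subgroup.mem_zpowers _)
  obtain ⟨y, -, hy, hy2, hy4⟩ := S.qu.centralizer_cyclic hgP
    (fun hc => hxx (by rwa [conj_mul, conj_eq_one_iff] at hc))
  refine ⟨_, hgP, ⟨g, rfl, S.bel_unique hgx hg⟩, y, ?_, hy2, hy4⟩
  rw [← h1, ← Nat.card_zpowers]
  refine Subgroup.card_le_of_le fun w hw => hy w hw.1 ?_
  exact (Subgroup.mem_centralizer_iff.1 hw.2 _ (hgx ▸ Subgroup.mem_zpowers _)).symm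

theorem le_defect {x : G} (hx : x ∈ P) {Q : Subgroup G} (hQ : Q ≤ P)
    (hc : ∀ w ∈ Q, w * x = x * w) : Nat.card Q ≤ 2 ^ blockDefect 2 (S.bel x).2 := by
  refine le_trans ?_ (card_inf_cg_le S.hM S.isPr (S.bel_le hx))
  refine Subgroup.card_le_of_le fun w hw => ⟨hQ hw, ?_⟩
  show w ∈ CG (S.bel x).1
  rw [S.bel_fst hx, cg_zpowers, Subgroup.mem_centralizer_singleton_iff]
  exact hc w hw

/-- A pair at a rotation of order more than two has defect one less. -/
theorem defect_rotation {x : G} (hx : x ∈ Subgroup.zpowers r) (hxx : x * x ≠ 1) :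
    blockDefect 2 (S.bel x).2 = t + 1 := by
  have hxP : x ∈ P := (Subgroup.zpowers_le.2 S.qu.mem) hx
  refine le_antisymm ?_ ?_
  · obtain ⟨x', -, -, y, h1, h2, -⟩ := S.defect_le hxP hxx
    exact (Nat.pow_le_pow_iff_right one_lt_two).1 (h1.trans h2)
  · have h := S.le_defect hxP (Subgroup.zpowers_le.2 S.qu.mem) (fun w hw => by
      obtain ⟨i, rfl⟩ := Subgroup.mem_zpowers_iff.1 hw
      obtain ⟨k, rfl⟩ := Subgroup.mem_zpowers_iff.1 hx
      exact ((Commute.refl r).zpow_zpow i k).eq)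
    rw [Nat.card_zpowers, S.qu.order] at h
    exact (Nat.pow_le_pow_iff_right one_lt_two).1 h

/-- A pair at a central element is major. -/
theorem defect_major {x : G} (hx : x ∈ P) (hxc : ∀ w ∈ P, w * x = x * w) :
    blockDefect 2 (S.bel x).2 = t + 2 := by
  rw [blockDefect_of_le_major S.hM S.max (S.bel_le hx) ?_, S.defect]
  intro w hw
  rw [S.bel_fst hx, cg_zpowers, Subgroup.mem_centralizer_singleton_iff]
  exact hxc w hw

/-- A rotation of order four. -/
theorem quarter_cases {x : G} (hx : x ∈ Subgroup.zpowers r) (h4 : orderOf x ∣ 4)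
    (hxx : x * x ≠ 1) : x = r ^ 2 ^ (t - 1) ∨ x = (r ^ 2 ^ (t - 1))⁻¹ := by
  obtain ⟨i, rfl⟩ := (isOfFinOrder_of_finite r).mem_powers_iff_mem_zpowers.2 hx
  simp only at h4 hxx ⊢
  obtain ⟨d, hd⟩ : ∃ d, t = d + 1 := ⟨t - 1, by have := S.qu.pos; omega⟩
  rw [hd, Nat.add_sub_cancel]
  have hN : orderOf r = 4 * 2 ^ d := by rw [S.qu.order, hd, pow_succ, pow_succ]; ring
  rw [orderOf_dvd_iff_pow_eq_one, ← pow_mul, ← orderOf_dvd_iff_pow_eq_one, hN,
    mul_comm i 4] at h4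
  obtain ⟨c, rfl⟩ := Nat.dvd_of_mul_dvd_mul_left four_pos h4
  have h4' : (r ^ 2 ^ d) ^ 4 = 1 := by
    rw [← pow_mul, mul_comm, ← hN, pow_orderOf_eq_one]
  have hc : r ^ (2 ^ d * c) = (r ^ 2 ^ d) ^ (c % 4) := by
    rw [pow_mul]
    conv_lhs => rw [← Nat.mod_add_div c 4, pow_add, pow_mul, h4', one_pow, mul_one]
  rw [hc] at hxx ⊢
  have hlt := Nat.mod_lt c four_pos
  interval_cases c % 4
  · exact absurd (by simp) hxx
  · exact Or.inl (pow_one _)
  · exact absurd (by rw [← pow_add]; exact h4') hxx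
  · exact Or.inr (eq_inv_of_mul_eq_one_left (by rw [← pow_succ]; exact h4'))

/-- A pair at an element of order four which is not fused to a rotation. -/
theorem defect_refl {x : G} (hx : x ∈ P) (hxr : x ∉ Subgroup.zpowers r)
    (hnf : ¬ S.Fus x (r ^ 2 ^ (t - 1))) : blockDefect 2 (S.bel x).2 = 2 := by
  refine le_antisymm ?_ ?_
  · obtain ⟨x', hx', hf, y, h1, -, hy⟩ := S.defect_le hx (S.qu.refl_sq_ne hx hxr)
    have hx'r : x' ∉ Subgroup.zpowers r := fun hc => by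
      have ho : orderOf x' = 4 := (S.fus_order hf).trans (S.qu.refl_order hx hxr)
      have hne : x' * x' ≠ 1 := fun e => by
        have := Nat.le_of_dvd two_pos (orderOf_dvd_of_pow_eq_one ((pow_two x').trans e))
        omega
      rcases S.quarter_cases hc (ho ▸ dvd_rfl) hne with e | e
      · exact hnf (e ▸ hf)
      · refine hnf (S.fus_trans (e ▸ hf) ?_)
        have h := S.fus_inv (x := r ^ 2 ^ (t - 1)) (S.qu.pow_mem' _)
        exact S.fus_symm h
    rw [hy hx'r] at h1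
    exact (Nat.pow_le_pow_iff_right one_lt_two).1 (h1.trans (by norm_num))
  · have h := S.le_defect hx (Subgroup.zpowers_le.2 hx) (fun w hw => by
      obtain ⟨i, rfl⟩ := Subgroup.mem_zpowers_iff.1 hw
      exact ((Commute.refl x).zpow_left i).eq)
    rw [Nat.card_zpowers, S.qu.refl_order hx hxr] at h
    exact (Nat.pow_le_pow_iff_right one_lt_two).1 (le_trans (by norm_num) h)

/-- Fusion of rotations is inversion at most. -/
theorem rotation_fusion {x y : G} (hx : x ∈ Subgroup.zpowers r) (hy : y ∈ Subgroup.zpowers r)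
    (h : S.Fus x y) : y = x ∨ y = x⁻¹ := by
  obtain ⟨g, rfl, he⟩ := h
  have hrP : Subgroup.zpowers r ≤ P := Subgroup.zpowers_le.2 S.qu.mem
  set Q := Subgroup.zpowers x with hQ
  have hQP : Q ≤ P := (Subgroup.zpowers_le.2 hx).trans hrP
  have hQe : Subgroup.zpowers (g * x * g⁻¹) = Q :=
    DihBlk.zpowers_eq_of_orderOf hy hx (MulEquiv.orderOf_eq (MulAut.conj g) x)
  have hgQ : g ∈ Subgroup.normalizer (Q : Set G) := by
    have h1 : Q.map (MulAut.conj g).toMonoidHom = Q := by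
      rw [hQ, MonoidHom.map_zpowers]
      exact hQe
    refine Subgroup.mem_normalizer_iff.2 fun v => ?_
    conv_rhs => rw [← h1]
    exact conj_mem_map_conj.symm
  have key : ∀ w ∈ P, w * x * w⁻¹ = x ∨ w * x * w⁻¹ = x⁻¹ := by
    intro w hw
    obtain ⟨i, rfl⟩ := (isOfFinOrder_of_finite r).mem_powers_iff_mem_zpowers.2 hx
    by_cases hwr : w ∈ Subgroup.zpowers r
    · left
      obtain ⟨j, rfl⟩ := Subgroup.mem_zpowers_iff.1 hwr
      show r ^ j * r ^ i * (r ^ j)⁻¹ = r ^ i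
      rw [((Commute.refl r).zpow_left j).pow_right i |>.eq, mul_inv_cancel_right]
    · exact Or.inr (S.qu.refl_pow hw hwr i)
  have hPN : P ≤ Subgroup.normalizer (Q : Set G) := by
    intro w hw
    have h1 : ∀ w ∈ P, ∀ v ∈ Q, w * v * w⁻¹ ∈ Q := by
      intro w hw v hv
      obtain ⟨k, rfl⟩ := Subgroup.mem_zpowers_iff.1 hv
      rw [← conj_zpow]
      refine Subgroup.zpow_mem _ ?_ k
      rcases key w hw with e | e <;> rw [e]
      · exact Subgroup.mem_zpowers _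
      · exact inv_mem (Subgroup.mem_zpowers _)
    refine Subgroup.mem_normalizer_iff.2 fun v => ⟨h1 w hw v, fun hv => ?_⟩
    have := h1 w⁻¹ (inv_mem hw) _ hv
    rwa [show w⁻¹ * (w * v * w⁻¹) * w⁻¹⁻¹ = v by group] at this
  obtain ⟨F, hF, hsat⟩ := exists_saturated S.hM S.max
  have hP : IsPGroup 2 P := S.isPr.1
  have hFN : F.IsFullyNormalized Q := ⟨hQP, fun R hR => by
    refine Subgroup.card_le_of_le ?_
    rw [show FusionSystem.normalizerIn P Q = P from inf_eq_left.2 hPN]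
    exact inf_le_left⟩
  obtain ⟨-, R, hR⟩ := Fus.fullyAutomized_of_fullyNormalized hP hsat hFN
  set α : MulAut Q := Q.normalizerMonoidHom ⟨g, hgQ⟩ with hα
  have hαF : α ∈ F.autGroup Q := (Fus.mem_autGroup hQP).2 <| (isMap_iff hF).2
    ⟨S.bel x, g, S.bel_fst (hrP hx), S.bel_le (hrP hx), he ▸ S.bel_le (hrP hy), fun u hu => by
      rw [show u = ((⟨u, hu⟩ : Q) : G) from rfl, Fus.autFun_coe]
      rfl⟩
  have h2 : IsPGroup 2 (F.autGroup Q) := by
    obtain ⟨k, hk⟩ := S.ppow_mem (hQP (Subgroup.mem_zpowers x))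
    have hc : Nat.card (MulAut Q) = Nat.totient (2 ^ k) := by
      haveI : IsCyclic Q := inferInstanceAs (IsCyclic (Subgroup.zpowers x))
      rw [IsCyclic.card_mulAut, hQ, Nat.card_zpowers, hk]
    refine IsPGroup.to_subgroup (IsPGroup.of_card (n := k - 1) ?_) _
    rw [hc]
    rcases k with _ | k
    · simp
    · rw [Nat.totient_prime_pow_succ Nat.prime_two]; simp
  have hRt : (R : Subgroup (F.autGroup Q)) = ⊤ :=
    R.3 (h2.to_subgroup ⊤) le_top |>.symm
  have hαR : (⟨α, hαF⟩ : F.autGroup Q) ∈ (autInducedBy P Q).subgroupOf (F.autGroup Q) := by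
    rw [← hR, hRt]; exact Subgroup.mem_top _
  obtain ⟨w, hw, hwα⟩ := Fus.mem_autInducedBy.1 (Subgroup.mem_subgroupOf.1 hαR)
  have h3 : g * x * g⁻¹ = w * x * w⁻¹ := hwα ⟨x, Subgroup.mem_zpowers x⟩
  rw [h3]
  exact key w hw

theorem rot_sq_ne {i : ℕ} (hi1 : 1 ≤ i) (hi2 : i < 2 ^ t) : r ^ i * r ^ i ≠ 1 := by
  rw [← pow_add, Ne, S.qu.pow_eq_one_iff]
  intro hd
  have := Nat.le_of_dvd (by omega) hd
  rw [pow_succ] at this
  omega

theorem rot_ne {i j : ℕ} (hi : i < 2 ^ t) (hj : j < 2 ^ t) (h : S.Fus (r ^ i) (r ^ j)) : i = j := by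
  have hi' : i < orderOf r := by rw [S.qu.order, pow_succ]; omega
  have hj' : j < orderOf r := by rw [S.qu.order, pow_succ]; omega
  rcases S.rotation_fusion (pow_mem (Subgroup.mem_zpowers r) i)
    (pow_mem (Subgroup.mem_zpowers r) j) h with e | e
  · exact (pow_injOn_Iio_orderOf (Set.mem_Iio.2 hj') (Set.mem_Iio.2 hi') e).symm
  · rw [eq_inv_iff_mul_eq_one, ← pow_add, S.qu.pow_eq_one_iff] at e
    obtain ⟨c, hc⟩ := e
    rw [pow_succ] at hc
    rcases c with _ | c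
    · omega
    · have : 2 ^ t * 2 * 1 ≤ 2 ^ t * 2 * (c + 1) := Nat.mul_le_mul_left _ (by omega)
      omega

/-- The elements outside the rotations that are not fused to one before. -/
noncomputable def uset (s : G) : Finset G := by
  classical
  exact ({s, r * s} : Finset G).filter fun v =>
    ¬ S.Fus v (r ^ 2 ^ (t - 1)) ∧ (v = s ∨ ¬ S.Fus v s)

/-- The representatives of the sections: the elements. -/
noncomputable def xset (s : G) : Finset G := by
  classical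
  exact insert 1 (insert (r ^ 2 ^ t)
    ((Finset.Ico 1 (2 ^ t)).image (fun i => r ^ i) ∪ S.uset s))

/-- The representatives of the sections. -/
noncomputable def reps (s : G) : Finset (G × BrauerPairIdx G) := by
  classical
  exact (S.xset s).image fun x => (x, S.bel x)

variable {s : G} (hs : s ∈ P) (hsr : s ∉ Subgroup.zpowers r)
include hs hsr

theorem uset_mem {v : G} (hv : v ∈ S.uset s) :
    v ∈ P ∧ v ∉ Subgroup.zpowers r ∧ ¬ S.Fus v (r ^ 2 ^ (t - 1)) := by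
  classical
  rw [uset, Finset.mem_filter, Finset.mem_insert, Finset.mem_singleton] at hv
  obtain ⟨rfl | rfl, h1, -⟩ := hv
  · exact ⟨hs, hsr, h1⟩
  · exact ⟨mul_mem S.qu.mem hs, fun hc => hsr (by
      simpa using mul_mem (inv_mem (Subgroup.mem_zpowers r)) hc), h1⟩

theorem xset_cases {x : G} (hx : x ∈ S.xset s) :
    x = 1 ∨ x = r ^ 2 ^ t ∨ (∃ i, 1 ≤ i ∧ i < 2 ^ t ∧ x = r ^ i) ∨ x ∈ S.uset s := by
  classical
  rw [xset, Finset.mem_insert, Finset.mem_insert, Finset.mem_union, Finset.mem_image] at hx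
  rcases hx with h | h | ⟨i, hi, rfl⟩ | h
  · exact Or.inl h
  · exact Or.inr (Or.inl h)
  · rw [Finset.mem_Ico] at hi; exact Or.inr (Or.inr (Or.inl ⟨i, hi.1, hi.2, rfl⟩))
  · exact Or.inr (Or.inr (Or.inr h))

theorem xset_mem {x : G} (hx : x ∈ S.xset s) : x ∈ P := by
  rcases S.xset_cases hs hsr hx with rfl | rfl | ⟨i, -, -, rfl⟩ | h
  · exact one_mem _
  · exact S.qu.pow_mem' _
  · exact S.qu.pow_mem' _
  · exact (S.uset_mem hs hsr h).1

theorem xset_sq {x : G} (hx : x ∈ S.xset s) (h1 : x ≠ 1) (hz : x ≠ r ^ 2 ^ t) : x * x ≠ 1 :=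
  fun hxx => hz (S.qu.eq_z (S.xset_mem hs hsr hx) hxx h1)

theorem xset_sep {x y : G} (hx : x ∈ S.xset s) (hy : y ∈ S.xset s) (h : S.Fus x y) : x = y := by
  classical
  have ho := S.fus_order h
  have hx' := S.xset_mem hs hsr hx
  have hy' := S.xset_mem hs hsr hy
  by_cases hx1 : x = 1
  · subst hx1
    rw [orderOf_one, orderOf_eq_one_iff] at ho
    exact ho.symm
  by_cases hy1 : y = 1
  · subst hy1
    rw [orderOf_one, eq_comm, orderOf_eq_one_iff] at ho
    exact ho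
  have hzo : ∀ w ∈ P, w ≠ 1 → (w = r ^ 2 ^ t ↔ orderOf w = 2) := fun w hw hw1 =>
    ⟨fun e => e ▸ orderOf_eq_prime (by rw [pow_two, S.qu.z_mul_self]) S.qu.z_ne_one,
      fun e => S.qu.eq_z hw (by rw [← pow_two, ← e, pow_orderOf_eq_one]) hw1⟩
  by_cases hxz : x = r ^ 2 ^ t
  · rw [hxz, eq_comm, hzo y hy' hy1, ho, ← hzo x hx' hx1]
    exact hxz
  by_cases hyz : y = r ^ 2 ^ t
  · exact absurd ((hzo x hx' hx1).2 (ho ▸ (hzo y hy' hy1).1 hyz)) hxz
  have hrefl : ∀ {i v}, 1 ≤ i → i < 2 ^ t → v ∈ S.uset s → ¬ S.Fus v (r ^ i) := by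
    intro i v hi1 hi2 hv hf
    obtain ⟨hvP, hvr, hvn⟩ := S.uset_mem hs hsr hv
    have ho' : orderOf (r ^ i) = 4 := (S.fus_order hf).trans (S.qu.refl_order hvP hvr)
    rcases S.quarter_cases (pow_mem (Subgroup.mem_zpowers r) i) (ho' ▸ dvd_rfl)
      (S.rot_sq_ne hi1 hi2) with e | e
    · exact hvn (e ▸ hf)
    · exact hvn (S.fus_trans (e ▸ hf) (S.fus_symm (S.fus_inv (S.qu.pow_mem' _))))
  rcases S.xset_cases hs hsr hx with e | e | ⟨i, hi1, hi2, rfl⟩ | hxu
  · exact absurd e hx1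
  · exact absurd e hxz
  · rcases S.xset_cases hs hsr hy with e | e | ⟨j, hj1, hj2, rfl⟩ | hyu
    · exact absurd e hy1
    · exact absurd e hyz
    · rw [S.rot_ne hi2 hj2 h]
    · exact absurd (S.fus_symm h) (hrefl hi1 hi2 hyu)
  · rcases S.xset_cases hs hsr hy with e | e | ⟨j, hj1, hj2, rfl⟩ | hyu
    · exact absurd e hy1
    · exact absurd e hyz
    · exact absurd h (hrefl hj1 hj2 hxu)
    · rw [uset, Finset.mem_filter, Finset.mem_insert, Finset.mem_singleton] at hxu hyu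
      obtain ⟨hx0, -, hx2⟩ := hxu
      obtain ⟨hy0, -, hy2⟩ := hyu
      rcases hx0 with rfl | rfl <;> rcases hy0 with rfl | rfl
      · rfl
      · rcases hy2 with e | hn
        · exact e.symm
        · exact absurd (S.fus_symm h) hn
      · rcases hx2 with e | hn
        · exact e
        · exact absurd h hn
      · rfl

theorem xset_cover {v : G} (hv : v ∈ P) : ∃ x ∈ S.xset s, S.Fus x v := by
  classical
  have hmem : ∀ {x}, x ∈ S.xset s ↔ x = 1 ∨ x = r ^ 2 ^ t ∨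
      (x ∈ (Finset.Ico 1 (2 ^ t)).image (fun i => r ^ i) ∨ x ∈ S.uset s) := by
    intro x
    rw [xset, Finset.mem_insert, Finset.mem_insert, Finset.mem_union]
  have hrot : ∀ {i}, 1 ≤ i → i < 2 ^ t → r ^ i ∈ S.xset s := fun {i} h1 h2 =>
    hmem.2 (Or.inr (Or.inr (Or.inl (Finset.mem_image.2 ⟨i, Finset.mem_Ico.2 ⟨h1, h2⟩, rfl⟩))))
  by_cases hvr : v ∈ Subgroup.zpowers r
  · obtain ⟨i, hi, rfl⟩ := (S.qu.mem_cases hv).resolve_right (fun h => h hvr)
    rcases Nat.eq_zero_or_pos i with rfl | hi0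
    · exact ⟨1, hmem.2 (Or.inl rfl), by rw [pow_zero]; exact S.fus_refl 1⟩
    rcases lt_trichotomy i (2 ^ t) with hlt | rfl | hgt
    · exact ⟨_, hrot hi0 hlt, S.fus_refl _⟩
    · exact ⟨_, hmem.2 (Or.inr (Or.inl rfl)), S.fus_refl _⟩
    · have hi' : i < 2 ^ t * 2 := by rwa [pow_succ] at hi
      refine ⟨r ^ (2 ^ (t + 1) - i), hrot (by omega) (by rw [pow_succ]; omega), ?_⟩
      have h := S.fus_inv (x := r ^ (2 ^ (t + 1) - i)) (S.qu.pow_mem' _)
      have e : (r ^ (2 ^ (t + 1) - i))⁻¹ = r ^ i := inv_eq_of_mul_eq_one_right (by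
        rw [← pow_add, Nat.sub_add_cancel hi.le, ← S.qu.order, pow_orderOf_eq_one])
      rwa [e] at h
  · have hq : r ^ 2 ^ (t - 1) ∈ S.xset s := hrot Nat.one_le_two_pow
      (Nat.pow_lt_pow_right one_lt_two (by have := S.qu.pos; omega))
    have hU : ∀ {x}, (x = s ∨ x = r * s) → ¬ S.Fus x (r ^ 2 ^ (t - 1)) → (x = s ∨ ¬ S.Fus x s) →
        x ∈ S.xset s := fun {x} h0 h1 h2 => hmem.2 (Or.inr (Or.inr (Or.inr (by
      rw [uset, Finset.mem_filter, Finset.mem_insert, Finset.mem_singleton]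
      exact ⟨h0, h1, h2⟩))))
    have hscase : ∃ x ∈ S.xset s, S.Fus x s := by
      by_cases hq' : S.Fus s (r ^ 2 ^ (t - 1))
      · exact ⟨_, hq, S.fus_symm hq'⟩
      · exact ⟨s, hU (Or.inl rfl) hq' (Or.inl rfl), S.fus_refl s⟩
    rcases S.qu.refl_cases hs hsr hv hvr with ⟨w, hw, rfl⟩ | ⟨w, hw, rfl⟩
    · obtain ⟨x, hx, hf⟩ := hscase
      exact ⟨x, hx, S.fus_trans hf (S.fus_of_mem hs hw)⟩
    · have hf := S.fus_of_mem (mul_mem S.qu.mem hs) hw
      by_cases hq' : S.Fus (r * s) (r ^ 2 ^ (t - 1))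
      · exact ⟨_, hq, S.fus_trans (S.fus_symm hq') hf⟩
      by_cases hs' : S.Fus (r * s) s
      · obtain ⟨x, hx, hf'⟩ := hscase
        exact ⟨x, hx, S.fus_trans hf' (S.fus_trans (S.fus_symm hs') hf)⟩
      · exact ⟨_, hU (Or.inr rfl) hq' (Or.inr hs'), hf⟩

/-- The representatives. -/
theorem isReps : SecRep.IsReps 2 M B (S.reps s) := by
  classical
  refine ⟨fun a ha => ?_, fun a ha => ?_, fun a ha a' ha' g hg => ?_⟩
  · rw [reps, Finset.mem_image] at ha
    obtain ⟨x, hx, rfl⟩ := ha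
    have hxP := S.xset_mem hs hsr hx
    exact mem_secs.2 ⟨S.ppow_mem hxP, S.bel_fst hxP, S.bel_ofB hxP⟩
  · obtain ⟨x, a⟩ := a
    obtain ⟨h1, h2, h3⟩ := mem_secs.1 ha
    obtain ⟨g, hg⟩ := le_conj_max S.hM h3 S.max
    have hax : (cjI g a).1 = Subgroup.zpowers (g * x * g⁻¹) := by
      show a.1.map (MulAut.conj g).toMonoidHom = _
      rw [h2, MonoidHom.map_zpowers]
      rfl
    have hgP : g * x * g⁻¹ ∈ P := le_subgroup hg (hax ▸ Subgroup.mem_zpowers _)
    obtain ⟨v, hv, k, hk, hk'⟩ := S.xset_cover hs hsr hgP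
    refine ⟨(v, S.bel v), by rw [reps]; exact Finset.mem_image_of_mem _ hv, g⁻¹ * k,
      Prod.ext ?_ ?_⟩
    · show g⁻¹ * k * v * (g⁻¹ * k)⁻¹ = x
      calc g⁻¹ * k * v * (g⁻¹ * k)⁻¹ = g⁻¹ * (k * v * k⁻¹) * g := by group
        _ = x := by rw [hk]; group
    · show cjI (g⁻¹ * k) (S.bel v) = a
      rw [← cjI_cjI, hk', ← S.bel_unique hax hg, cjI_inv_cancel]
  · rw [reps, Finset.mem_image] at ha ha'
    obtain ⟨x, hx, rfl⟩ := ha
    obtain ⟨y, hy, rfl⟩ := ha'
    rw [S.xset_sep hs hsr hx hy ⟨g, congrArg Prod.fst hg, congrArg Prod.snd hg⟩]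

/-- A sum over the representatives. -/
theorem sum_reps (F : G × BrauerPairIdx G → ℂ) :
    ∑ a ∈ S.reps s, F a = F (1, S.bel 1) + F (r ^ 2 ^ t, S.bel (r ^ 2 ^ t)) +
      (∑ i ∈ Finset.Ico 1 (2 ^ t), F (r ^ i, S.bel (r ^ i))) +
      ∑ v ∈ S.uset s, F (v, S.bel v) := by
  classical
  rw [reps, Finset.sum_image fun x _ y _ h => congrArg Prod.fst h, xset]
  have hrot : ∀ i ∈ Finset.Ico 1 (2 ^ t), r ^ i * r ^ i ≠ 1 := fun i hi => by
    rw [Finset.mem_Ico] at hi; exact S.rot_sq_ne hi.1 hi.2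
  have hu : ∀ v ∈ S.uset s, v * v ≠ 1 ∧ v ∉ Subgroup.zpowers r := fun v hv => by
    obtain ⟨h1, h2, -⟩ := S.uset_mem hs hsr hv
    exact ⟨S.qu.refl_sq_ne h1 h2, h2⟩
  have hdis : Disjoint ((Finset.Ico 1 (2 ^ t)).image (fun i => r ^ i)) (S.uset s) := by
    rw [Finset.disjoint_left]
    intro x hx hx'
    obtain ⟨i, -, rfl⟩ := Finset.mem_image.1 hx
    exact (hu _ hx').2 (pow_mem (Subgroup.mem_zpowers r) i)
  have hz : r ^ 2 ^ t ∉ (Finset.Ico 1 (2 ^ t)).image (fun i => r ^ i) ∪ S.uset s := by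
    rw [Finset.mem_union, Finset.mem_image]
    rintro (⟨i, hi, e⟩ | h)
    · exact hrot i hi (by rw [e]; exact S.qu.z_mul_self)
    · exact (hu _ h).1 S.qu.z_mul_self
  have h1 : (1 : G) ∉ insert (r ^ 2 ^ t)
      ((Finset.Ico 1 (2 ^ t)).image (fun i => r ^ i) ∪ S.uset s) := by
    rw [Finset.mem_insert, Finset.mem_union, Finset.mem_image]
    rintro (h | ⟨i, hi, e⟩ | h)
    · exact S.qu.z_ne_one h.symm
    · exact hrot i hi (by rw [e, mul_one])
    · exact (hu _ h).1 (mul_one 1)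
  rw [Finset.sum_insert h1, Finset.sum_insert hz, Finset.sum_union hdis,
    Finset.sum_image fun i hi j hj h => ?_]
  · ring
  · refine pow_injOn_Iio_orderOf (x := r) ?_ ?_ h <;>
    · simp only [Finset.coe_Ico, Set.mem_Ico] at hi hj
      rw [Set.mem_Iio, S.qu.order, pow_succ]
      omega

theorem reps_mem {x : G} (hx : x = 1 ∨ x = r ^ 2 ^ t ∨ (∃ i, 1 ≤ i ∧ i < 2 ^ t ∧ x = r ^ i) ∨
    x ∈ S.uset s) : (x, S.bel x) ∈ S.reps s := by
  classical
  rw [reps]
  refine Finset.mem_image_of_mem _ ?_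
  rw [xset, Finset.mem_insert, Finset.mem_insert, Finset.mem_union, Finset.mem_image]
  rcases hx with h | h | ⟨i, h1, h2, rfl⟩ | h
  · exact Or.inl h
  · exact Or.inr (Or.inl h)
  · exact Or.inr (Or.inr (Or.inl ⟨i, Finset.mem_Ico.2 ⟨h1, h2⟩, rfl⟩))
  · exact Or.inr (Or.inr (Or.inr h))

/-- The count of sections. -/
theorem card_eq : Nat.card B = blockRank 2 B + blockRank 2 (S.bel (r ^ 2 ^ t)).2 + (2 ^ t - 1) +
    (S.uset s).card := by
  have hR := S.isReps hs hsr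
  have h := congrArg (fun k : ℕ => (k : ℂ)) (hR.card_eq S.hM S.isBlock)
  simp only [Nat.cast_sum] at h
  rw [S.sum_reps hs hsr (fun a => (blockRank 2 a.2.2 : ℂ)), S.rank_bel_one,
    Finset.sum_congr rfl (g := fun _ => (1 : ℂ)) fun i hi => by
      rw [Finset.mem_Ico] at hi
      rw [S.rank_bel (S.qu.pow_mem' i) (S.rot_sq_ne hi.1 hi.2), Nat.cast_one],
    Finset.sum_congr rfl (s₁ := S.uset s) (g := fun _ => (1 : ℂ)) fun v hv => by
      obtain ⟨h1, h2, -⟩ := S.uset_mem hs hsr hv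
      rw [S.rank_bel h1 (S.qu.refl_sq_ne h1 h2), Nat.cast_one],
    Finset.sum_const, Finset.sum_const, Nat.card_Ico, nsmul_eq_mul, nsmul_eq_mul, mul_one,
    mul_one] at h
  exact_mod_cast h

end Setup

end Cfsg.Agent.Char.QuatBlk
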