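import Cfsg.Agent.Lib.Char.QuatBlockHeights

/-!
The shape of a 2-block with generalized quaternion defect group: the characters of height zero, the
characters met by the first level, and the remaining ones.
-/

open scoped ComplexConjugate

namespace Cfsg.Agent.Char.QuatBlk

open Polynomial Cfsg Cfsg.Agent.Block Cfsg.Agent.Char Cfsg.Agent.Char.BP Cfsg.Agent.Char.Spec

set_option linter.unusedSectionVars false
set_option linter.style.haveILetI false
set_option maxHeartbeats 800000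

universe u

variable {G : Type u} [Group G] [Fintype G] {M : Ideal AlgInt} {B : Set (IrrCharacter G)}
variable {P : Subgroup G} {e : Set (IrrCharacter (CG P))} {r : G} {t : ℕ}

namespace Setup

variable [DecidablePred (· ∈ B)]

/-- The members of the block. -/
noncomputable def mems (_S : Setup M B P e r t) : Finset (IrrCharacter G) :=
  Finset.univ.filter (· ∈ B)

/-- The members of height zero. -/
noncomputable def hset (S : Setup M B P e r t) : Finset (IrrCharacter G) :=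
  S.mems.filter fun χ : IrrCharacter G => blockHeight 2 B (χ : G → ℂ) = 0

/-- The members met by the first level. -/
noncomputable def oset (S : Setup M B P e r t) (L : Lvl S 0) : Finset (IrrCharacter G) := by
  classical
  exact S.mems.filter fun χ => ∃ k ∈ Finset.Ico 1 (2 ^ (t - 1)), S.lco L χ k ≠ 0

/-- The middle coefficient of the second level, if there is one. -/
noncomputable def spc (S : Setup M B P e r t) (L : ∀ j, j < t → Lvl S j) (w : IrrCharacter G) : ℤ :=
  if hj : 1 < t then S.lco (L 1 hj) w 0 else 0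

variable (S : Setup M B P e r t)
include S

theorem mem_mems {χ : IrrCharacter G} : χ ∈ S.mems ↔ χ ∈ B := by
  simp [mems]

theorem mem_hset {χ : IrrCharacter G} :
    χ ∈ S.hset ↔ χ ∈ B ∧ blockHeight 2 B (χ : G → ℂ) = 0 := by
  rw [hset, Finset.mem_filter, S.mem_mems]

theorem mem_oset {L : Lvl S 0} {χ : IrrCharacter G} :
    χ ∈ S.oset L ↔ χ ∈ S.mems ∧ ∃ k ∈ Finset.Ico 1 (2 ^ (t - 1)), S.lco L χ k ≠ 0 := by
  classical
  simp [oset]

theorem hset_subset : S.hset ⊆ S.mems := Finset.filter_subset _ _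

theorem hset_nonempty : S.hset.Nonempty := by
  obtain ⟨χ, hχ, h0⟩ := exists_height_zero S.hM S.isBlock
  exact ⟨χ, S.mem_hset.2 ⟨hχ, h0⟩⟩

theorem half_pos : 2 ^ t = 2 * 2 ^ (t - 1) := by
  rw [← pow_succ']
  congr 1
  have := S.qu.pos
  omega

variable {s : G} (hs : s ∈ P) (hsr : s ∉ Subgroup.zpowers r)
include hs hsr

/-- Four members of height zero, an odd number of height one, and the constant coefficients of the
first level. -/
theorem height_zero_data (L : Lvl S 0) : S.hset.card = 4 ∧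
    Odd (S.mems.filter fun χ : IrrCharacter G => blockHeight 2 B (χ : G → ℂ) = 1).card ∧
    (∀ χ ∈ S.hset, S.lco L χ 0 = 1 ∨ S.lco L χ 0 = -1) ∧
    ∀ χ ∈ S.mems, χ ∉ S.hset → S.lco L χ 0 = 0 := by
  have h := S.lco_gram L S.qu.pos (k := 0) (k' := 0) (Nat.two_pow_pos _) (Nat.two_pow_pos _)
  have hsum : ∑ χ ∈ S.mems, S.lco L χ 0 ^ 2 = 4 := by
    rw [mems]
    simp only [sq]
    rw [h, if_pos rfl, if_neg (Nat.two_pow_pos _).ne]
    norm_num
  have hne : ∀ χ ∈ S.hset, S.lco L χ 0 ≠ 0 := fun χ hχ e => by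
    obtain ⟨hB, h0⟩ := S.mem_hset.1 hχ
    have h1 := S.lco_odd L S.qu.pos hB h0
    rw [e] at h1
    simp at h1
  have hle := card_le_sum_sq S.hset_subset hne
  rw [hsum] at hle
  have hle' : S.hset.card ≤ 4 := by exact_mod_cast hle
  obtain ⟨g, hg⟩ := S.exists_g hs hsr
  have h8 := S.mod_eight hs hsr hg
  change 8 ∣ S.hset.card + 4 *
    (S.mems.filter fun χ : IrrCharacter G => blockHeight 2 B (χ : G → ℂ) = 1).card at h8
  have hpos := S.hset_nonempty.card_pos
  have h4 : S.hset.card = 4 := by omega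
  refine ⟨h4, Nat.odd_iff.2 (by omega), tight S.hset_subset hne (by rw [hsum, h4]; rfl)⟩

/-- The first level is antisymmetric. -/
theorem lco_anti (L : Lvl S 0) {k : ℕ} (h1 : 1 ≤ k) (hk : k < 2 ^ t) {χ : IrrCharacter G}
    (hχ : χ ∈ S.mems) : S.lco L χ (2 ^ t - k) = -S.lco L χ k := by
  have hk' : k < 2 ^ (t - 0) := by simpa using hk
  have hl : 2 ^ t - k < 2 ^ (t - 0) := by rw [Nat.sub_zero]; omega
  have a := S.lco_gram L S.qu.pos hk' hk'
  have b := S.lco_gram L S.qu.pos hl hl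
  have c := S.lco_gram L S.qu.pos hk' hl
  simp only [Nat.sub_zero, zero_add, pow_one, if_true] at a b c
  rw [if_neg (show ¬ k + k = 0 by omega)] at a
  rw [if_neg (show ¬ 2 ^ t - k + (2 ^ t - k) = 0 by omega)] at b
  rw [if_neg (show ¬ k + (2 ^ t - k) = 0 by omega),
    if_pos (show k + (2 ^ t - k) = 2 ^ t by omega)] at c
  have hsum : ∑ η ∈ S.mems, (S.lco L η (2 ^ t - k) + S.lco L η k) ^ 2 = 0 := by
    rw [Finset.sum_congr rfl (g := fun η : IrrCharacter G => S.lco L η (2 ^ t - k) *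
      S.lco L η (2 ^ t - k) + 2 * (S.lco L η k * S.lco L η (2 ^ t - k)) +
        S.lco L η k * S.lco L η k) fun η _ => by ring,
      Finset.sum_add_distrib, Finset.sum_add_distrib, ← Finset.mul_sum, mems, a, b, c]
    by_cases e : k = 2 ^ t - k
    · rw [if_pos e, if_pos (show k + k = 2 ^ t by omega),
        if_pos (show 2 ^ t - k + (2 ^ t - k) = 2 ^ t by omega)]
      norm_num
    · rw [if_neg e, if_neg (show ¬ k + k = 2 ^ t by omega),
        if_neg (show ¬ 2 ^ t - k + (2 ^ t - k) = 2 ^ t by omega)]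
      norm_num
  have := (Finset.sum_eq_zero_iff_of_nonneg fun η _ => sq_nonneg
    (S.lco L η (2 ^ t - k) + S.lco L η k)).1 hsum χ hχ
  rw [pow_eq_zero_iff two_ne_zero] at this
  linarith

/-- Outside the two sets the first level vanishes off its constant coefficient. -/
theorem lco_ext (L : Lvl S 0) {χ : IrrCharacter G} (hχ : χ ∈ S.mems) (hO : χ ∉ S.oset L) {k : ℕ}
    (h1 : 1 ≤ k) (hk : k < 2 ^ t) : S.lco L χ k = 0 := by
  have hz : ∀ k ∈ Finset.Ico 1 (2 ^ (t - 1)), S.lco L χ k = 0 := fun k hk => by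
    by_contra h
    exact hO (S.mem_oset.2 ⟨hχ, k, hk, h⟩)
  have hm := S.half_pos
  rcases lt_trichotomy k (2 ^ (t - 1)) with h | h | h
  · exact hz k (Finset.mem_Ico.2 ⟨h1, h⟩)
  · have := S.lco_anti hs hsr L h1 hk hχ
    rw [show 2 ^ t - k = k by omega] at this
    linarith
  · have := S.lco_anti hs hsr L (k := 2 ^ t - k) (by omega) (by omega) hχ
    rw [show 2 ^ t - (2 ^ t - k) = k by omega] at this
    rw [this, hz _ (Finset.mem_Ico.2 ⟨by omega, by omega⟩), neg_zero]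

/-- The size of the first level. -/
theorem oset_card (L : Lvl S 0) : (S.oset L).card = 2 ^ t - 2 ∧
    ∀ χ ∈ S.oset L, ∃ k, k < 2 ^ t ∧ (S.lco L χ k = 1 ∨ S.lco L χ k = -1) := by
  classical
  have hm := S.half_pos
  have hd : ∀ χ ∈ S.mems, (0 : ℤ) < charDegree (χ : G → ℂ) := fun χ _ => by
    exact_mod_cast charDeg_pos χ
  have hlt : ∀ k ∈ Finset.Ico 1 (2 ^ (t - 1)), k < 2 ^ (t - 0) := fun k hk => by
    rw [Finset.mem_Ico] at hk
    rw [Nat.sub_zero]
    omega
  have h2 : ∀ k ∈ Finset.Ico 1 (2 ^ (t - 1)), ∑ χ ∈ S.mems, S.lco L χ k ^ 2 = 2 := fun k hk => by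
    simp only [sq]
    rw [mems, S.lco_gram L S.qu.pos (hlt k hk) (hlt k hk)]
    rw [Finset.mem_Ico] at hk
    rw [if_pos rfl, if_neg (show ¬ k + k = 0 by omega),
      if_neg (show ¬ k + k = 2 ^ (t - 0) by rw [Nat.sub_zero]; omega)]
    norm_num
  have h0 : ∀ k ∈ Finset.Ico 1 (2 ^ (t - 1)),
      ∑ χ ∈ S.mems, (charDegree (χ : G → ℂ) : ℤ) * S.lco L χ k = 0 := fun k hk =>
    S.degree_lco L S.qu.pos hs hsr (hlt k hk)
  have hO : S.oset L = (Finset.Ico 1 (2 ^ (t - 1))).biUnion fun k =>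
      S.mems.filter fun χ => S.lco L χ k ≠ 0 := by
    ext χ
    simp only [S.mem_oset, Finset.mem_filter, Finset.mem_biUnion]
    exact ⟨fun ⟨a, k, b, c⟩ => ⟨k, b, a, c⟩, fun ⟨k, b, a, c⟩ => ⟨a, k, b, c⟩⟩
  refine ⟨?_, fun χ hχ => ?_⟩
  · rw [hO, Finset.card_biUnion fun k hk k' hk' hne => ?_,
      Finset.sum_congr rfl fun k hk => (norm_two hd (h2 k hk) (h0 k hk)).1, Finset.sum_const,
      Nat.card_Ico, smul_eq_mul]
    · omega
    · rw [Function.onFun, Finset.disjoint_left]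
      intro χ hχ hχ'
      obtain ⟨hA, hne0⟩ := Finset.mem_filter.1 hχ
      refine (Finset.mem_filter.1 hχ').2
        (norm_two_disjoint hd (h2 k hk) (h0 k hk) (h2 k' hk') (h0 k' hk') ?_ hA hne0)
      rw [mems, S.lco_gram L S.qu.pos (hlt k hk) (hlt k' hk')]
      rw [Finset.mem_coe, Finset.mem_Ico] at hk hk'
      rw [if_neg hne, if_neg (show ¬ k + k' = 0 by omega),
        if_neg (show ¬ k + k' = 2 ^ (t - 0) by rw [Nat.sub_zero]; omega)]
      norm_num
  · obtain ⟨hA, k, hk, hne⟩ := S.mem_oset.1 hχ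
    exact ⟨k, by rw [Finset.mem_Ico] at hk; omega, (norm_two hd (h2 k hk) (h0 k hk)).2 χ hA hne⟩

variable (L : ∀ j, j < t → Lvl S j)

/-- The rotations below a level vanish with their coefficients. -/
theorem rot_zero {J : ℕ} {w : IrrCharacter G}
    (hlow : ∀ j (hj : j < t), j < J → ∀ k < 2 ^ (t - j), S.lco (L j hj) w k = 0)
    {i : ℕ} (h1 : 1 ≤ i) (h2 : i < 2 ^ t) (hJ : ¬ 2 ^ J ∣ i) (η : IrrCharacter G) :
    SecRep.E 2 (r ^ i, S.bel (r ^ i)) w η = 0 := by
  obtain ⟨j, u, hj, -, rfl⟩ := S.exists_level_of h1 h2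
  have hlt : j < J := by
    by_contra hc
    exact hJ (dvd_mul_of_dvd_left (pow_dvd_pow 2 (not_lt.1 hc)) _)
  change SecRep.E 2 (S.gen j u, S.bel (S.gen j u)) w η = 0
  rw [S.E_gen (L j hj) hj, S.lcol_zero (L j hj) (hlow j hj hlt), zero_mul, zero_div]

/-- Outside the two sets the first level vanishes. -/
theorem coeff_zero {w : IrrCharacter G} (hw : w ∈ S.mems) (hH : w ∉ S.hset)
    (hO : w ∉ S.oset (L 0 S.qu.pos)) {k : ℕ} (hk : k < 2 ^ t) :
    S.lco (L 0 S.qu.pos) w k = 0 := by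
  rcases Nat.eq_zero_or_pos k with rfl | h
  · exact (S.height_zero_data hs hsr (L 0 S.qu.pos)).2.2.2 w hw hH
  · exact S.lco_ext hs hsr _ hw hO h hk

/-- Coefficients below vanish: divisibility. -/
theorem coeff_dvd {w : IrrCharacter G} (hw : w ∈ S.mems) (hH : w ∉ S.hset) {j : ℕ} (hj : j < t)
    (hlow : ∀ j' (hj' : j' < t), j' < j → ∀ k < 2 ^ (t - j'), S.lco (L j' hj') w k = 0) (k : ℕ) :
    (2 : ℤ) ^ j ∣ S.lco (L j hj) w k := by
  obtain ⟨η, hη⟩ := S.hset_nonempty
  obtain ⟨hηB, hη0⟩ := S.mem_hset.1 hη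
  refine S.lco_dvd (L j hj) hj hs hsr hηB hη0 (fun i h1 h2 hi => S.rot_zero hs hsr L hlow h1 h2 hi η)
    (fun v hv => S.u_vanish hs hsr (S.height_zero_data hs hsr (L 0 S.qu.pos)).1 hv
      (S.mem_mems.1 hw) (fun h => hH (S.mem_hset.2 ⟨S.mem_mems.1 hw, h⟩)) η) k

/-- At most one member is met by the second level only. -/
theorem card_special : (S.mems.filter fun w => w ∉ S.hset ∧ w ∉ S.oset (L 0 S.qu.pos) ∧
    S.spc L w ≠ 0).card ≤ 1 := by
  classical
  set Q := S.mems.filter fun w => w ∉ S.hset ∧ w ∉ S.oset (L 0 S.qu.pos) ∧ S.spc L w ≠ 0 with hQ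
  by_cases hj : 1 < t
  swap
  · rw [Finset.card_eq_zero.2 (Finset.filter_eq_empty_iff.2 fun w _ h => h.2.2 (dif_neg hj))]
    exact Nat.zero_le _
  have h := S.lco_gram (L 1 hj) hj (k := 0) (k' := 0) (Nat.two_pow_pos _) (Nat.two_pow_pos _)
  have hsum : ∑ χ ∈ S.mems, S.lco (L 1 hj) χ 0 ^ 2 = 8 := by
    rw [mems]
    simp only [sq]
    rw [h, if_pos rfl, if_neg (Nat.two_pow_pos _).ne]
    norm_num
  have hdis : Disjoint S.hset Q := by
    rw [Finset.disjoint_left]
    intro w hw hw'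
    exact (Finset.mem_filter.1 hw').2.1 hw
  have hle : ∑ χ ∈ S.hset ∪ Q, S.lco (L 1 hj) χ 0 ^ 2 ≤ 8 :=
    hsum ▸ Finset.sum_le_sum_of_subset_of_nonneg
      (Finset.union_subset S.hset_subset (Finset.filter_subset _ _)) fun x _ _ => sq_nonneg _
  rw [Finset.sum_union hdis] at hle
  have hH : (4 : ℤ) ≤ ∑ χ ∈ S.hset, S.lco (L 1 hj) χ 0 ^ 2 := by
    rw [show (4 : ℤ) = (S.hset.card : ℤ) by rw [(S.height_zero_data hs hsr (L 0 S.qu.pos)).1]; rfl]
    refine card_le_sum_sq (Finset.Subset.refl _) fun χ hχ e => ?_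
    obtain ⟨hB, h0⟩ := S.mem_hset.1 hχ
    have h1 := S.lco_odd (L 1 hj) hj hB h0
    rw [e] at h1
    simp at h1
  have hQ4 : (Q.card : ℤ) * 4 ≤ ∑ χ ∈ Q, S.lco (L 1 hj) χ 0 ^ 2 := by
    rw [← nsmul_eq_mul]
    refine Finset.card_nsmul_le_sum _ _ _ fun w hw => ?_
    obtain ⟨hwA, hwH, hwO, hne⟩ := Finset.mem_filter.1 hw
    rw [spc, dif_pos hj] at hne
    obtain ⟨c, hc⟩ := S.coeff_dvd hs hsr L hwA hwH hj (fun j' hj' hlt => by
      obtain rfl : j' = 0 := by omega
      exact fun k hk => S.coeff_zero hs hsr L hwA hwH hwO (by simpa using hk)) 0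
    rw [hc, pow_one, mul_pow]
    have : c ≠ 0 := fun e => hne (by rw [hc, e, mul_zero])
    have := one_le_sq this
    linarith
  omega

/-- Elsewhere every coefficient vanishes. -/
theorem coeff_vanish {w : IrrCharacter G} (hw : w ∈ S.mems) (hH : w ∉ S.hset)
    (hO : w ∉ S.oset (L 0 S.qu.pos)) (hsp : S.spc L w = 0) :
    ∀ j (hj : j < t), ∀ k < 2 ^ (t - j), S.lco (L j hj) w k = 0 := by
  classical
  intro j
  induction j using Nat.strong_induction_on with
  | _ j ih =>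
  intro hj k hk
  rcases Nat.eq_zero_or_pos j with rfl | hpos
  · exact S.coeff_zero hs hsr L hw hH hO (by simpa using hk)
  by_contra hne
  obtain ⟨c, hc⟩ := S.coeff_dvd hs hsr L hw hH hj (fun j' hj' hlt => ih j' hlt hj') k
  have hc0 : c ≠ 0 := fun e => hne (by rw [hc, e, mul_zero])
  have hbig : (2 : ℤ) ^ (2 * j) ≤ S.lco (L j hj) w k ^ 2 := by
    rw [hc, mul_pow, ← pow_mul, mul_comm j 2]
    exact le_mul_of_one_le_right (by positivity) (one_le_sq hc0)
  have hgram := S.lco_gram (L j hj) hj hk hk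
  have hn := Nat.two_pow_pos (t - j)
  rcases Nat.eq_zero_or_pos k with rfl | hk1
  · have hj2 : 2 ≤ j := by
      by_contra h
      obtain rfl : j = 1 := by omega
      rw [spc, dif_pos hj] at hsp
      exact hne hsp
    have hsum : ∑ χ ∈ S.mems, S.lco (L j hj) χ 0 ^ 2 = 2 ^ (j + 2) := by
      rw [mems]
      simp only [sq]
      rw [hgram, if_pos rfl, if_neg (show ¬ 0 + 0 = 2 ^ (t - j) by omega), pow_succ _ (j + 1)]
      ring
    have hH4 : (4 : ℤ) ≤ ∑ χ ∈ S.hset, S.lco (L j hj) χ 0 ^ 2 := by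
      rw [show (4 : ℤ) = (S.hset.card : ℤ) by
        rw [(S.height_zero_data hs hsr (L 0 S.qu.pos)).1]; rfl]
      refine card_le_sum_sq (Finset.Subset.refl _) fun χ hχ e => ?_
      obtain ⟨hB, h0⟩ := S.mem_hset.1 hχ
      have h1 := S.lco_odd (L j hj) hj hB h0
      rw [e] at h1
      simp at h1
    have hle := Finset.sum_le_sum_of_subset_of_nonneg (f := fun χ => S.lco (L j hj) χ 0 ^ 2)
      (Finset.insert_subset hw S.hset_subset) fun x _ _ => sq_nonneg _
    rw [Finset.sum_insert hH, hsum] at hle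
    have hpow : (2 : ℤ) ^ (j + 2) ≤ 2 ^ (2 * j) := pow_le_pow_right₀ (by norm_num) (by omega)
    linarith
  · have hsum : ∑ χ ∈ S.mems, S.lco (L j hj) χ k ^ 2 ≤ 2 ^ (j + 1) := by
      rw [mems]
      simp only [sq]
      rw [hgram, if_pos rfl, if_neg (show ¬ k + k = 0 by omega)]
      split_ifs <;> norm_num
    by_cases hj2 : 2 ≤ j
    · have hle := Finset.single_le_sum (f := fun χ => S.lco (L j hj) χ k ^ 2)
        (fun x _ => sq_nonneg _) hw
      have hpow : (2 : ℤ) ^ (j + 1) < 2 ^ (2 * j) := pow_lt_pow_right₀ (by norm_num) (by omega)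
      linarith
    obtain rfl : j = 1 := by omega
    norm_num at hsum hbig
    rw [← Finset.add_sum_erase _ _ hw] at hsum
    have hnn : ∀ x ∈ S.mems.erase w, (0 : ℤ) ≤ S.lco (L 1 hj) x k ^ 2 := fun x _ => sq_nonneg _
    have hrest : ∑ x ∈ S.mems.erase w, S.lco (L 1 hj) x k ^ 2 = 0 :=
      le_antisymm (by linarith) (Finset.sum_nonneg hnn)
    have h0 := S.degree_lco (L 1 hj) hj hs hsr hk
    change ∑ χ ∈ S.mems, _ = 0 at h0
    rw [← Finset.add_sum_erase _ _ hw, Finset.sum_eq_zero (s := S.mems.erase w)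
      (fun x hx => by
        rw [(pow_eq_zero_iff two_ne_zero).1
          ((Finset.sum_eq_zero_iff_of_nonneg hnn).1 hrest x hx), mul_zero]), add_zero] at h0
    exact mul_ne_zero (by exact_mod_cast (charDeg_pos w).ne') hne h0

end Setup

end Cfsg.Agent.Char.QuatBlk
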