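import Cfsg.Agent.Lib.Char.QuatBlockSetup

/-!
The twists of the characters of a 2-block with generalized quaternion defect group by the functions
which are cosines on rotations: integral combinations of the parts of the sections.
-/

open scoped ComplexConjugate

namespace Cfsg.Agent.Char.QuatBlk

open Cfsg Cfsg.Agent.Block Cfsg.Agent.Char Cfsg.Agent.Char.BP Cfsg.Agent.Char.Spec

set_option linter.unusedSectionVars false
set_option linter.style.haveILetI false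
set_option maxHeartbeats 800000

universe u

theorem zeta_isIntegral (t : ℕ) : IsIntegral ℤ (zeta t) :=
  IsIntegral.of_pow (Nat.two_pow_pos (t + 1)) (by
    rw [(zeta_prim t).pow_eq_one]; exact isIntegral_one)

theorem cs_isIntegral (t l k : ℕ) : IsIntegral ℤ (cs t l k) := by
  obtain ⟨c, hc⟩ : ∃ c, (zeta t ^ (l * k))⁻¹ = zeta t ^ c := by
    refine ⟨(2 ^ (t + 1) - 1) * (l * k), ?_⟩
    refine inv_eq_of_mul_eq_one_right ?_
    rw [← pow_add, add_comm, ← Nat.succ_mul, Nat.succ_eq_add_one, Nat.sub_add_cancel Nat.one_le_two_pow,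
      pow_mul, (zeta_prim t).pow_eq_one, one_pow]
  rw [cs, hc]
  exact ((zeta_isIntegral t).pow _).add ((zeta_isIntegral t).pow _)

theorem cs_eq_pow {t l k : ℕ} (hk : k ≤ 2 ^ (t + 1)) :
    cs t l k = zeta t ^ (l * k) + zeta t ^ (l * (2 ^ (t + 1) - k)) := by
  rw [cs]
  congr 1
  refine inv_eq_of_mul_eq_one_right ?_
  rw [← pow_add, ← mul_add, Nat.add_sub_cancel' hk, mul_comm, pow_mul, (zeta_prim t).pow_eq_one,
    one_pow]

/-- A geometric sum of roots of unity. -/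
theorem sum_zeta {t j c : ℕ} (hj : j ≤ t + 1) (hc : 2 ^ j ∣ c) :
    ∑ l ∈ Finset.range (2 ^ (t + 1 - j)), zeta t ^ (l * c) =
      if 2 ^ (t + 1) ∣ c then (2 : ℂ) ^ (t + 1 - j) else 0 := by
  obtain ⟨d, rfl⟩ := hc
  have hpow : ∀ l, zeta t ^ (l * (2 ^ j * d)) = (zeta t ^ (2 ^ j * d)) ^ l := fun l => by
    rw [← pow_mul, mul_comm]
  simp only [hpow]
  split_ifs with h
  · rw [((zeta_prim t).pow_eq_one_iff_dvd _).2 h]
    simp
  · have h1 : zeta t ^ (2 ^ j * d) ≠ 1 := fun e => h (((zeta_prim t).pow_eq_one_iff_dvd _).1 e)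
    rw [geom_sum_eq h1, ← pow_mul, show 2 ^ j * d * 2 ^ (t + 1 - j) = 2 ^ (t + 1) * d by
      rw [mul_right_comm, ← pow_add, Nat.add_sub_cancel' hj], pow_mul, (zeta_prim t).pow_eq_one,
      one_pow, sub_self, zero_div]

variable {G : Type u} [Group G] [Fintype G] {M : Ideal AlgInt} {B : Set (IrrCharacter G)}
variable {P : Subgroup G} {e : Set (IrrCharacter (CG P))} {r : G} {t : ℕ}

namespace Setup

variable (S : Setup M B P e r t)
include S

/-- The weight of a section. -/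
noncomputable def wgt (_S : Setup M B P e r t) (l : ℕ) (u : G) (a : BrauerPairIdx G) : ℂ := by
  classical
  exact if h : ∃ g : G, LE 2 M (cjI g a) (⟨P, e⟩ : BrauerPairIdx G) ∧ g * u * g⁻¹ ∈ P then
    cs t l (_S.qu.ex (h.choose * u * h.choose⁻¹)) else 0

theorem cs_fus {l : ℕ} {v v' : G} (hv : v ∈ P) (hv' : v' ∈ P) (h : S.Fus v v') :
    cs t l (S.qu.ex v) = cs t l (S.qu.ex v') := by
  have ho := S.fus_order h
  by_cases hv1 : v = 1
  · subst hv1
    rw [orderOf_one, orderOf_eq_one_iff] at ho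
    rw [ho]
  by_cases hvv : v * v = 1
  · have e2 : v' * v' = 1 := by
      obtain ⟨g, rfl, -⟩ := h
      rw [conj_mul, hvv, mul_one, mul_inv_cancel]
    have e3 : v' ≠ 1 := fun e => hv1 (by
      rw [e, orderOf_one, eq_comm, orderOf_eq_one_iff] at ho
      exact ho)
    rw [S.qu.eq_z hv hvv hv1, S.qu.eq_z hv' e2 e3]
  have e2 : v' * v' ≠ 1 := fun e => by
    obtain ⟨g, rfl, -⟩ := h
    exact hvv (by rwa [conj_mul, conj_eq_one_iff] at e)
  by_cases h4 : orderOf v ∣ 4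
  · rw [S.qu.cs_of_four l hv h4 hvv, S.qu.cs_of_four l hv' (ho ▸ h4) e2]
  have hvr := S.qu.mem_zpowers_of_order hv h4
  have hvr' := S.qu.mem_zpowers_of_order hv' (ho ▸ h4)
  rcases S.rotation_fusion hvr hvr' h with rfl | rfl
  · rfl
  · obtain ⟨i, hi⟩ := (isOfFinOrder_of_finite r).mem_powers_iff_mem_zpowers.2 hvr
    obtain ⟨i', hi'⟩ := (isOfFinOrder_of_finite r).mem_powers_iff_mem_zpowers.2 hvr'
    simp only at hi hi'
    have hd : 2 ^ (t + 1) ∣ i + i' := by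
      rw [← S.qu.pow_eq_one_iff, pow_add, hi, hi', mul_inv_cancel]
    rw [← hi', ← hi, cs_congr (S.qu.ex_pow i), cs_congr (S.qu.ex_pow i'), cs_neg hd]

theorem wgt_eq (l : ℕ) {u g : G} {a : BrauerPairIdx G} (ha : a.1 = Subgroup.zpowers u)
    (hg : LE 2 M (cjI g a) (⟨P, e⟩ : BrauerPairIdx G)) :
    g * u * g⁻¹ ∈ P ∧ S.wgt l u a = cs t l (S.qu.ex (g * u * g⁻¹)) := by
  classical
  have hax : ∀ g : G, (cjI g a).1 = Subgroup.zpowers (g * u * g⁻¹) := fun g => by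
    show a.1.map (MulAut.conj g).toMonoidHom = _
    rw [ha, MonoidHom.map_zpowers]
    rfl
  have hm : g * u * g⁻¹ ∈ P := le_subgroup hg (hax g ▸ Subgroup.mem_zpowers _)
  refine ⟨hm, ?_⟩
  have hex : ∃ g' : G, LE 2 M (cjI g' a) (⟨P, e⟩ : BrauerPairIdx G) ∧ g' * u * g'⁻¹ ∈ P :=
    ⟨g, hg, hm⟩
  rw [wgt, dif_pos hex]
  obtain ⟨hle', hm'⟩ := hex.choose_spec
  refine S.cs_fus hm' hm ⟨g * hex.choose⁻¹, by group, ?_⟩
  rw [← S.bel_unique (hax _) hle', ← S.bel_unique (hax _) hg, cjI_cjI, inv_mul_cancel_right]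

theorem wgt_self (l : ℕ) {x : G} (hx : x ∈ P) : S.wgt l x (S.bel x) = cs t l (S.qu.ex x) := by
  obtain ⟨-, h⟩ := S.wgt_eq l (g := 1) (S.bel_fst hx) (by rw [cjI_one]; exact S.bel_le hx)
  simpa using h

theorem wgt_of_not (l : ℕ) {u : G} {a : BrauerPairIdx G} (h : ¬ OfB 2 M B a) :
    S.wgt l u a = 0 := by
  classical
  rw [wgt, dif_neg]
  rintro ⟨g, hg, -⟩
  refine h ?_
  have h1 := ofB_cjI S.hM (S.ofB_of_le hg) g⁻¹
  rwa [cjI_inv_cancel] at h1

theorem wConj_wgt (l : ℕ) : Star.WConj 2 M (S.wgt l) := by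
  intro g u a hu ha hpr
  have ha' : (cjI g a).1 = Subgroup.zpowers (g * u * g⁻¹) := by
    show a.1.map (MulAut.conj g).toMonoidHom = _
    rw [ha, MonoidHom.map_zpowers]
    rfl
  by_cases hB : OfB 2 M B a
  · obtain ⟨w, hw⟩ := le_conj_max S.hM hB S.max
    obtain ⟨-, he⟩ := S.wgt_eq l ha hw
    obtain ⟨-, he'⟩ := S.wgt_eq l (g := w * g⁻¹) ha'
      (by rw [cjI_cjI, inv_mul_cancel_right]; exact hw)
    rw [he, he']
    congr 2
    group
  · rw [S.wgt_of_not l hB, S.wgt_of_not l fun h => hB ?_]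
    have h1 := ofB_cjI S.hM h g⁻¹
    rwa [cjI_inv_cancel] at h1

theorem wLoc_wgt (l : ℕ) : Star.WLoc 2 M (S.wgt l) := by
  intro b hb
  by_cases hB : OfB 2 M B b
  · obtain ⟨g, hg⟩ := le_conj_max S.hM hB S.max
    let m : b.1 →* P :=
      (((MulAut.conj g).toMonoidHom).comp b.1.subtype).codRestrict P fun v =>
        le_subgroup hg ⟨v, v.2, rfl⟩
    refine ⟨fun v => cs t l (S.qu.ex ((m v : P) : G)), IsGenChar.comp m (S.qu.genChar_cs l),
      fun v a ha hle => (S.wgt_eq l ha ((le_cjI S.hM g hle).trans hg)).2⟩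
  · exact ⟨0, IsGenChar.zero, fun v a _ hle =>
      S.wgt_of_not l fun h => hB ((ofB_le S.hM hle).2 h)⟩

theorem isIntegral_wgt (l : ℕ) (u : G) (a : BrauerPairIdx G) : IsIntegral ℤ (S.wgt l u a) := by
  classical
  rw [wgt]
  split_ifs
  · exact cs_isIntegral _ _ _
  · exact isIntegral_zero

/-- The exponent of a representative. -/
noncomputable def xk (_S : Setup M B P e r t) (x : G) : ℕ := _S.qu.ex x % 2 ^ (t + 1)

theorem xk_lt (x : G) : S.xk x < 2 ^ (t + 1) := Nat.mod_lt _ (Nat.two_pow_pos _)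

theorem xk_pow {i : ℕ} (hi : i < 2 ^ (t + 1)) : S.xk (r ^ i) = i := by
  rw [xk, S.qu.ex_pow i, Nat.mod_eq_of_lt hi]

theorem xk_refl {x : G} (hxr : x ∉ Subgroup.zpowers r) : S.xk x = 2 ^ (t - 1) := by
  rw [xk, S.qu.ex_refl hxr, Nat.mod_eq_of_lt (Nat.pow_lt_pow_right one_lt_two (by omega))]

theorem xk_one : S.xk 1 = 0 := by
  have h := S.xk_pow (i := 0) (Nat.two_pow_pos _)
  rwa [pow_zero] at h

theorem xk_z : S.xk (r ^ 2 ^ t) = 2 ^ t :=
  S.xk_pow (Nat.pow_lt_pow_right one_lt_two (by omega))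

theorem cs_xk (l : ℕ) (x : G) : cs t l (S.qu.ex x) = cs t l (S.xk x) :=
  cs_congr (Nat.mod_modEq _ _).symm

variable {s : G} (hs : s ∈ P) (hsr : s ∉ Subgroup.zpowers r)
include hs hsr

/-- The exponents of the representatives other than the central ones. -/
theorem xk_range {x : G} (hx : x ∈ S.xset s) (h1 : x ≠ 1) (hz : x ≠ r ^ 2 ^ t) :
    1 ≤ S.xk x ∧ S.xk x < 2 ^ t := by
  rcases S.xset_cases hs hsr hx with h | h | ⟨i, hi1, hi2, rfl⟩ | h
  · exact absurd h h1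
  · exact absurd h hz
  · rw [S.xk_pow (hi2.trans (Nat.pow_lt_pow_right one_lt_two (by omega)))]
    exact ⟨hi1, hi2⟩
  · rw [S.xk_refl (S.uset_mem hs hsr h).2.1]
    exact ⟨Nat.one_le_two_pow, Nat.pow_lt_pow_right one_lt_two (by have := S.qu.pos; omega)⟩

theorem reps_exists {a : G × BrauerPairIdx G} (ha : a ∈ S.reps s) :
    a.1 ∈ S.xset s ∧ a.2 = S.bel a.1 := by
  classical
  rw [reps, Finset.mem_image] at ha
  obtain ⟨x, hx, rfl⟩ := ha
  exact ⟨hx, rfl⟩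

/-- The integral combinations of the parts. -/
theorem exists_N (χ : IrrCharacter G) {η : IrrCharacter G} (hη : η ∈ B) : ∃ N : ℕ → ℤ, ∀ l,
    ∑ a ∈ S.reps s, cs t l (S.xk a.1) * SecRep.E 2 a χ η = N l := by
  classical
  have key : ∀ l, ∃ n : ℤ, ∑ a ∈ S.reps s, cs t l (S.xk a.1) * SecRep.E 2 a χ η = n := by
    intro l
    obtain ⟨n, hn⟩ := IsGenChar.classInner_int
      (Star.genChar_star S.hM (irr_isChar χ) (S.wConj_wgt l) (S.wLoc_wgt l) (S.isIntegral_wgt l))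
      (IsGenChar.of_isCharacter (irr_isChar η))
    refine ⟨n, ?_⟩
    rw [← hn, (S.isReps hs hsr).inner_star S.hM S.isBlock (S.wConj_wgt l) hη]
    refine Finset.sum_congr rfl fun a ha => ?_
    obtain ⟨h1, h2⟩ := S.reps_exists hs hsr ha
    rw [← S.cs_xk, h2, S.wgt_self l (S.xset_mem hs hsr h1)]
  choose N hN using key
  exact ⟨N, hN⟩

/-- The inversion of the combinations. -/
theorem fourier {χ η : IrrCharacter G} {N : ℕ → ℤ}
    (hN : ∀ l, ∑ a ∈ S.reps s, cs t l (S.xk a.1) * SecRep.E 2 a χ η = N l)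
    {j b : ℕ} (hj : j ≤ t + 1) (hb : 2 ^ j ∣ b)
    (hsupp : ∀ a ∈ S.reps s, SecRep.E 2 a χ η ≠ 0 → 2 ^ j ∣ S.xk a.1) :
    ∑ l ∈ Finset.range (2 ^ (t + 1 - j)), (N l : ℂ) * zeta t ^ (l * b) =
      (2 : ℂ) ^ (t + 1 - j) * ∑ a ∈ S.reps s, SecRep.E 2 a χ η *
        ((if 2 ^ (t + 1) ∣ S.xk a.1 + b then 1 else 0) +
          (if 2 ^ (t + 1) ∣ 2 ^ (t + 1) - S.xk a.1 + b then 1 else 0)) := by
  simp only [← hN, Finset.sum_mul]
  rw [Finset.sum_comm, Finset.mul_sum]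
  refine Finset.sum_congr rfl fun a ha => ?_
  by_cases h0 : SecRep.E 2 a χ η = 0
  · simp [h0]
  have hk := hsupp a ha h0
  have hlt := (S.xk_lt a.1).le
  have hk' : 2 ^ j ∣ 2 ^ (t + 1) - S.xk a.1 := Nat.dvd_sub (pow_dvd_pow 2 hj) hk
  rw [Finset.sum_congr rfl (g := fun l => SecRep.E 2 a χ η *
      (zeta t ^ (l * (S.xk a.1 + b)) + zeta t ^ (l * (2 ^ (t + 1) - S.xk a.1 + b)))) fun l _ => by
      rw [cs_eq_pow hlt, mul_add l, mul_add l, pow_add, pow_add]; ring,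
    ← Finset.mul_sum, Finset.sum_add_distrib, sum_zeta hj (dvd_add hk hb),
    sum_zeta hj (dvd_add hk' hb)]
  split_ifs <;> ring

/-- The parts at the identity and at the involution are integral, of equal parity. -/
theorem int_central (χ : IrrCharacter G) {η : IrrCharacter G} (hη : η ∈ B) :
    ∃ z y : ℤ, (2 : ℂ) ^ (t + 2) * SecRep.E 2 (1, S.bel 1) χ η = z ∧
      (2 : ℂ) ^ (t + 2) * SecRep.E 2 (r ^ 2 ^ t, S.bel (r ^ 2 ^ t)) χ η = y ∧ (2 : ℤ) ∣ z - y := by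
  classical
  obtain ⟨N, hN⟩ := S.exists_N hs hsr χ hη
  have ht2 : 2 ^ (t + 1) = 2 ^ t + 2 ^ t := by rw [pow_succ]; ring
  have hpos := Nat.two_pow_pos t
  have hz1 : (r ^ 2 ^ t, S.bel (r ^ 2 ^ t)) ∈ S.reps s := S.reps_mem hs hsr (Or.inr (Or.inl rfl))
  have h11 : ((1 : G), S.bel 1) ∈ S.reps s := S.reps_mem hs hsr (Or.inl rfl)
  have hnd : ∀ {k}, 1 ≤ k → k < 2 ^ (t + 1) → ¬ 2 ^ (t + 1) ∣ k := fun {k} h1 h2 h =>
    absurd (Nat.le_of_dvd h1 h) (not_le.2 h2)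
  have hnd2 : ∀ {k}, 2 ^ (t + 1) < k → k < 2 * 2 ^ (t + 1) → ¬ 2 ^ (t + 1) ∣ k := by
    rintro k h1 h2 ⟨c, rfl⟩
    rcases c with _ | _ | c
    · omega
    · omega
    · have : 2 ^ (t + 1) * 2 ≤ 2 ^ (t + 1) * (c + 1 + 1) := Nat.mul_le_mul_left _ (by omega)
      omega
  have hother : ∀ a ∈ S.reps s, a ≠ ((1 : G), S.bel 1) → a ≠ (r ^ 2 ^ t, S.bel (r ^ 2 ^ t)) →
      1 ≤ S.xk a.1 ∧ S.xk a.1 < 2 ^ t := by
    intro a ha h1 h2
    obtain ⟨e1, e2⟩ := S.reps_exists hs hsr ha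
    exact S.xk_range hs hsr e1 (fun e => h1 (Prod.ext e (e2.trans (congrArg _ e))))
      (fun e => h2 (Prod.ext e (e2.trans (congrArg _ e))))
  have h0 := S.fourier hs hsr hN (j := 0) (b := 0) (Nat.zero_le _) (dvd_zero _)
    fun a _ _ => one_dvd _
  have hm := S.fourier hs hsr hN (j := 0) (b := 2 ^ t) (Nat.zero_le _) (one_dvd _)
    fun a _ _ => one_dvd _
  rw [Finset.sum_eq_single (s := S.reps s) ((1 : G), S.bel 1) (fun a ha hne => ?_)
    (fun h => absurd h11 h)] at h0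
  swap
  · by_cases hz : a = (r ^ 2 ^ t, S.bel (r ^ 2 ^ t))
    · subst hz
      rw [S.xk_z, if_neg, if_neg, add_zero, mul_zero] <;> refine hnd ?_ ?_ <;> omega
    · obtain ⟨k1, k2⟩ := hother a ha hne hz
      rw [if_neg, if_neg, add_zero, mul_zero] <;> refine hnd ?_ ?_ <;> omega
  rw [Finset.sum_eq_single (s := S.reps s) (r ^ 2 ^ t, S.bel (r ^ 2 ^ t)) (fun a ha hne => ?_)
    (fun h => absurd hz1 h)] at hm
  swap
  · by_cases ho : a = ((1 : G), S.bel 1)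
    · subst ho
      rw [S.xk_one, if_neg (hnd (by omega) (by omega)), if_neg (hnd2 (by omega) (by omega)),
        add_zero, mul_zero]
    · obtain ⟨k1, k2⟩ := hother a ha ho hne
      rw [if_neg (hnd (by omega) (by omega)), if_neg (hnd2 (by omega) (by omega)),
        add_zero, mul_zero]
  refine ⟨∑ l ∈ Finset.range (2 ^ (t + 1)), N l,
    ∑ l ∈ Finset.range (2 ^ (t + 1)), (-1) ^ l * N l, ?_, ?_, ?_⟩
  · simp only [S.xk_one, Nat.sub_zero, add_zero, dvd_zero, dvd_refl, if_true, mul_zero, pow_zero,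
      mul_one] at h0
    push_cast
    rw [h0, pow_succ _ (t + 1)]
    ring
  · simp only [S.xk_z] at hm
    rw [if_pos ⟨1, by omega⟩, if_pos ⟨1, by omega⟩, Nat.sub_zero,
      Finset.sum_congr rfl (g := fun l => (((-1) ^ l * N l : ℤ) : ℂ)) fun l _ => by
        rw [mul_comm l, pow_mul, zeta_half]; push_cast; ring] at hm
    rw [Int.cast_sum, hm, pow_succ _ (t + 1)]
    ring
  · rw [← Finset.sum_sub_distrib]
    refine Finset.dvd_sum fun l _ => ?_
    rcases Nat.even_or_odd l with h | h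
    · rw [h.neg_one_pow, one_mul, sub_self]; exact dvd_zero _
    · rw [h.neg_one_pow]; exact ⟨N l, by ring⟩

/-- A level against the divisibility. -/
theorem int_level (χ : IrrCharacter G) {η : IrrCharacter G} (hη : η ∈ B) {j : ℕ} (hj : j < t)
    (hsupp : ∀ a ∈ S.reps s, SecRep.E 2 a χ η ≠ 0 → 2 ^ j ∣ S.xk a.1)
    (hu : ∀ v ∈ S.uset s, SecRep.E 2 (v, S.bel v) χ η = 0) :
    IsIntegral ℤ ((2 : ℂ) ^ (t + 1 - j) * SecRep.E 2 (r ^ 2 ^ j, S.bel (r ^ 2 ^ j)) χ η) := by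
  classical
  obtain ⟨N, hN⟩ := S.exists_N hs hsr χ hη
  have h := S.fourier hs hsr hN (j := j) (b := 2 ^ j) (by omega) dvd_rfl hsupp
  have ht2 : 2 ^ (t + 1) = 2 ^ t + 2 ^ t := by rw [pow_succ]; ring
  have hjt : 2 ^ j < 2 ^ t := Nat.pow_lt_pow_right one_lt_two hj
  have hjp := Nat.two_pow_pos j
  have hmem : (r ^ 2 ^ j, S.bel (r ^ 2 ^ j)) ∈ S.reps s :=
    S.reps_mem hs hsr (Or.inr (Or.inr (Or.inl ⟨2 ^ j, hjp, hjt, rfl⟩)))
  have hnd : ∀ {k}, 1 ≤ k → k < 2 ^ (t + 1) → ¬ 2 ^ (t + 1) ∣ k := fun {k} h1 h2 h =>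
    absurd (Nat.le_of_dvd h1 h) (not_le.2 h2)
  rw [Finset.sum_eq_single (s := S.reps s) _ (fun a ha hne => ?_) (fun hn => absurd hmem hn)] at h
  · have hxk : S.xk (r ^ 2 ^ j) = 2 ^ j := S.xk_pow (by omega)
    simp only [hxk] at h
    rw [if_neg (hnd (by omega) (by omega)), if_pos ⟨1, by omega⟩, zero_add, mul_one] at h
    rw [← h]
    exact IsIntegral.sum _ fun l _ =>
      (isIntegral_intCast _).mul ((zeta_isIntegral t).pow _)
  · obtain ⟨e1, e2⟩ := S.reps_exists hs hsr ha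
    obtain ⟨x, a'⟩ := a
    simp only at e1 e2
    subst e2
    rcases S.xset_cases hs hsr e1 with rfl | rfl | ⟨i, hi1, hi2, rfl⟩ | hxu
    · simp only [S.xk_one]
      rw [if_neg (hnd (by omega) (by omega)), if_neg, add_zero, mul_zero]
      rintro ⟨c, hc⟩
      rcases c with _ | _ | c
      · omega
      · omega
      · have : 2 ^ (t + 1) * 2 ≤ 2 ^ (t + 1) * (c + 1 + 1) := Nat.mul_le_mul_left _ (by omega)
        omega
    · simp only [S.xk_z]
      rw [if_neg (hnd (by omega) (by omega)), if_neg (hnd (by omega) (by omega)), add_zero,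
        mul_zero]
    · have hne' : i ≠ 2 ^ j := fun e => hne (by rw [e])
      have hxk : S.xk (r ^ i) = i := S.xk_pow (by omega)
      simp only [hxk]
      rw [if_neg (hnd (by omega) (by omega)), if_neg, add_zero, mul_zero]
      rintro ⟨c, hc⟩
      rcases c with _ | _ | c
      · omega
      · omega
      · have : 2 ^ (t + 1) * 2 ≤ 2 ^ (t + 1) * (c + 1 + 1) := Nat.mul_le_mul_left _ (by omega)
        omega
    · rw [hu x hxu, zero_mul]

/-- The combination at the first level. -/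
theorem int_first (χ : IrrCharacter G) {η : IrrCharacter G} (hη : η ∈ B)
    (hrot : ∀ i, 1 ≤ i → i < 2 ^ t → SecRep.E 2 (r ^ i, S.bel (r ^ i)) χ η = 0) :
    ∃ v : ℤ, 2 * SecRep.E 2 (1, S.bel 1) χ η -
      2 * SecRep.E 2 (r ^ 2 ^ t, S.bel (r ^ 2 ^ t)) χ η = v := by
  classical
  obtain ⟨N, hN⟩ := S.exists_N hs hsr χ hη
  refine ⟨N 1, ?_⟩
  rw [← hN 1, S.sum_reps hs hsr (fun a => cs t 1 (S.xk a.1) * SecRep.E 2 a χ η),
    Finset.sum_eq_zero (s := Finset.Ico 1 (2 ^ t)) fun i hi => by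
      rw [Finset.mem_Ico] at hi
      rw [hrot i hi.1 hi.2, mul_zero],
    Finset.sum_eq_zero (s := S.uset s) fun v hv => ?_]
  · rw [S.xk_one, S.xk_z, cs, cs, mul_zero, pow_zero, one_mul, zeta_half]
    simp only [inv_one, inv_neg]
    ring
  · obtain ⟨d, hd⟩ : ∃ d, t = d + 1 := ⟨t - 1, by have := S.qu.pos; omega⟩
    have h0 := (cs_quarter d 1).1 odd_one
    rw [← hd] at h0
    rw [S.xk_refl (S.uset_mem hs hsr hv).2.1, show t - 1 = d by omega, h0, zero_mul]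

end Setup

end Cfsg.Agent.Char.QuatBlk
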