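import Cfsg.Agent.Lib.Invol.BrauerSuzuki
import Cfsg.Agent.Lib.Char.QuaternionDerived

/-!
The involutions of a group with generalized quaternion Sylow 2-subgroups.
-/

set_option autoImplicit false

namespace Cfsg.Agent.Char.QD

open QuaternionGroup
open scoped Pointwise

universe u

variable {G : Type u} [Group G] [Finite G]

/-- All involutions lie in a normal subgroup of order twice an odd number. -/
theorem exists_involution_normal (S : Sylow 2 G) (n : ℕ)
    (e : (S : Subgroup G) ≃* QuaternionGroup (2 ^ (n + 2))) :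
    ∃ M : Subgroup G, M.Normal ∧ (∀ g : G, orderOf g = 2 → g ∈ M) ∧
      (∃ j, Odd j ∧ Nat.card M = 2 * j) := by
  haveI : Fact (Nat.Prime 2) := ⟨Nat.prime_two⟩
  haveI : NeZero (2 ^ (n + 2)) := ⟨by positivity⟩
  have huniq : ∀ u ∈ (S : Subgroup G), ∀ v ∈ (S : Subgroup G), orderOf u = 2 → orderOf v = 2 →
      u = v := by
    intro u hu v hv hu2 hv2
    have key : ∀ w : (S : Subgroup G), orderOf (w : G) = 2 →
        e w = QuaternionGroup.a ((2 ^ (n + 2) : ℕ) : ZMod (2 * 2 ^ (n + 2))) := by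
      intro w hw
      rw [Subgroup.orderOf_coe, ← MulEquiv.orderOf_eq e] at hw
      refine (BS.quaternion_sq_one (x := e w) ?_).resolve_left fun h1 => ?_
      · have h0 := pow_orderOf_eq_one (e w)
        rwa [hw] at h0
      rw [h1, orderOf_one] at hw
      norm_num at hw
    exact congrArg Subtype.val (e.injective ((key ⟨u, hu⟩ hu2).trans (key ⟨v, hv⟩ hv2).symm))
  obtain ⟨w, hwS, hw⟩ : ∃ w ∈ (S : Subgroup G), orderOf w = 2 := by
    obtain ⟨w, hw⟩ := exists_prime_orderOf_dvd_card' (G := (S : Subgroup G)) 2 (by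
      rw [Nat.card_congr e.toEquiv, Nat.card_eq_fintype_card, QuaternionGroup.card]
      exact dvd_mul_of_dvd_left (by norm_num) _)
    exact ⟨w, w.2, by rw [Subgroup.orderOf_coe, hw]⟩
  obtain ⟨N, hN, hodd, hmem⟩ := BS.exists_odd_normal (BS.twoRankOne_of_sylow S huniq) hw
  set M := Subgroup.zpowers w ⊔ N with hM
  have hwM : w ∈ M := Subgroup.mem_sup_left (Subgroup.mem_zpowers w)
  have hconj : ∀ g : G, g * w * g⁻¹ ∈ M := by
    intro g
    rw [show g * w * g⁻¹ = (w * g * w⁻¹ * g⁻¹)⁻¹ * w by group]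
    exact mul_mem (inv_mem (Subgroup.mem_sup_right (hmem g))) hwM
  refine ⟨M, ⟨fun x hx g => ?_⟩, fun g hg => ?_, Nat.card N, hodd, ?_⟩
  · obtain ⟨a, ha, b, hb, rfl⟩ := Subgroup.mem_sup_of_normal_right.1 hx
    obtain ⟨r, rfl⟩ := Subgroup.mem_zpowers_iff.1 ha
    rw [show g * (w ^ r * b) * g⁻¹ = (g * w * g⁻¹) ^ r * (g * b * g⁻¹) by rw [conj_zpow]; group]
    exact mul_mem (zpow_mem (hconj g) r) (Subgroup.mem_sup_right (hN.conj_mem b hb g))
  · have hp : IsPGroup 2 (Subgroup.zpowers g) :=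
      IsPGroup.of_card (n := 1) (by rw [Nat.card_zpowers, hg, pow_one])
    obtain ⟨T, hT⟩ := hp.exists_le_sylow
    obtain ⟨c, hc⟩ := MulAction.exists_smul_eq G T S
    have hcg : c * g * c⁻¹ ∈ (S : Subgroup G) := by
      rw [← hc, Sylow.coe_subgroup_smul, Subgroup.mem_pointwise_smul_iff_inv_smul_mem]
      have : (MulAut.conj c)⁻¹ • (c * g * c⁻¹) = g := by simp [MulAut.smul_def]; group
      rw [this]
      exact hT (Subgroup.mem_zpowers g)
    have h2 : c * g * c⁻¹ = w :=
      huniq _ hcg _ hwS (by rw [← MulAut.conj_apply, MulEquiv.orderOf_eq, hg]) hw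
    rw [show g = c⁻¹ * w * c⁻¹⁻¹ by rw [← h2]; group]
    exact hconj c⁻¹
  · rw [hM]
    have hd : Disjoint (Subgroup.zpowers w) N := by
      rw [disjoint_iff, ← Subgroup.card_eq_one]
      refine Nat.eq_one_of_dvd_coprimes ?_ (Subgroup.card_dvd_of_le inf_le_left)
        (Subgroup.card_dvd_of_le inf_le_right)
      rw [Nat.card_zpowers, hw]
      exact hodd.coprime_two_left
    have h : Nat.card ↥(Subgroup.zpowers w ⊔ N) =
        Nat.card (Subgroup.zpowers w) * Nat.card N := by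
      rw [show Nat.card ↥(Subgroup.zpowers w ⊔ N) =
        Nat.card ((Subgroup.zpowers w ⊔ N : Subgroup G) : Set G) from rfl, Subgroup.mul_normal,
        ← Nat.card_prod]
      refine Nat.card_congr (Equiv.ofBijective (fun x : Subgroup.zpowers w × N =>
        (⟨(x.1 : G) * x.2, Set.mul_mem_mul x.1.2 x.2.2⟩ :
          ((Subgroup.zpowers w : Set G) * (N : Set G) : Set G))) ⟨?_, ?_⟩).symm
      · intro x y hxy
        exact Subgroup.mul_injective_of_disjoint hd (congrArg Subtype.val hxy)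
      · rintro ⟨z, a, ha, b, hb, rfl⟩
        exact ⟨(⟨a, ha⟩, ⟨b, hb⟩), rfl⟩
    rw [h, Nat.card_zpowers, hw]

end Cfsg.Agent.Char.QD
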