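import Cfsg.Agent.Lib.Char.RamifiedComplement

/-!
Complements to the Sylow subgroups of quotients of a fully ramified group.
-/

open scoped ComplexConjugate

namespace Cfsg.Agent.Char.RamCompl

open Cfsg Cfsg.Agent.Char

set_option linter.unusedSectionVars false
set_option linter.style.haveILetI false
set_option maxHeartbeats 800000

universe u

variable {H : Type u} [Group H] [Fintype H]

variable {Z : Subgroup H} [Z.Normal] [Fintype Z] {χ : H → ℂ} {θ : Z → ℂ} {e : ℕ}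

theorem Data.orbit_in (d : Data Z χ θ e) {p : ℕ} (hp : p.Prime) {Kp Q : Subgroup H} [Fintype Kp]
    [Fintype Q] (hZK : Z ≤ Kp) (hKQ : Kp ≤ Q)
    (hQN : Q ≤ Subgroup.normalizer (Kp : Set H)) {m : ℕ} (hm : Z.relIndex Q = (p ^ m) ^ 2)
    (hQ : ¬ p ∣ Q.index) :
    ∃ (ζ : Kp → ℂ) (r f i : ℕ), IsIrrCharacter Kp ζ ∧ ζ 1 = (r : ℂ) * θ 1 ∧
      i * r ^ 2 = Z.relIndex Kp ∧ f * (i * r) = p ^ m ∧ i ∣ Kp.relIndex Q ∧
      ((∃ (X : Type u) (_ : Group X) (ψ : Q →* X), IsCyclic ψ.range ∧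
        ψ.ker = Kp.subgroupOf Q) → f = 1) ∧
      (∀ ζ' : Kp → ℂ, IsIrrCharacter Kp ζ' →
        classInner (fun z : Z => ζ' ⟨(z : H), hZK z.2⟩) θ ≠ 0 →
        ∃ q ∈ Q, ∀ x y : Kp, (y : H) = q * x * q⁻¹ → ζ' x = ζ y) ∧
      (i = Kp.relIndex Q → ∀ q ∈ Q,
        (∀ x y : Kp, (y : H) = q * x * q⁻¹ → ζ x = ζ y) → q ∈ Kp) := by
  classical
  have hZQ : Z ≤ Q := hZK.trans hKQ
  haveI : (Z.subgroupOf Q).Normal := Subgroup.Normal.subgroupOf inferInstance _
  haveI : (Kp.subgroupOf Q).Normal := (Subgroup.normal_subgroupOf_iff_le_normalizer hKQ).2 hQN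
  letI := Fintype.ofFinite (Z.subgroupOf Q)
  letI := Fintype.ofFinite (Kp.subgroupOf Q)
  letI := Fintype.ofFinite ((Z.subgroupOf Q).subgroupOf (Kp.subgroupOf Q))
  set θQ : Z.subgroupOf Q → ℂ := fun z => θ ⟨((z : Q) : H), z.2⟩ with hθQ
  have hθQi : IsIrrCharacter (Z.subgroupOf Q) θQ :=
    IsIrr.comp_mulEquiv (Subgroup.subgroupOfEquivOfLe hZQ) d.hθ
  have hinvQ : inertia (Z.subgroupOf Q) θQ = ⊤ := eq_top_iff.2 fun t _ => by
    rw [mem_inertia]
    funext z
    exact congrFun (d.conj_eq (t : H)) ⟨((z : Q) : H), z.2⟩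
  obtain ⟨ξ₀, hξ₀, hres, huniq⟩ := d.sylow_data hp hZQ hm hQ
  have hZKq : Z.subgroupOf Q ≤ Kp.subgroupOf Q := fun x hx => hZK hx
  obtain ⟨ζq, r, f, hζi, hζ1, hcard, hdeg, hcyc, hconj⟩ := orbit_data (Z.subgroupOf Q)
    (Kp.subgroupOf Q) hZKq hθQi hinvQ (p ^ m) hξ₀ (fun z => hres ⟨((z : Q) : H), z.2⟩)
    (fun ξ hξ hne => huniq ξ hξ (by
      rwa [← Corr.classInner_subgroupOf Z hZQ (fun z : Z => ξ ⟨(z : H), hZQ z.2⟩) θ]))
  let ι : Kp.subgroupOf Q ≃* Kp := Subgroup.subgroupOfEquivOfLe hKQ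
  set ζ : Kp → ℂ := fun x => ζq (ι.symm x) with hζ
  have hθ1 : θQ 1 = θ 1 := congrArg θ (Subtype.ext rfl)
  have hι1 : ι.symm 1 = 1 := map_one _
  refine ⟨ζ, r, f, (inertia (Kp.subgroupOf Q) ζq).index, IsIrr.comp_mulEquiv ι.symm hζi, ?_, ?_,
    hdeg, ?_, fun hc => hcyc ?_, ?_, ?_⟩
  · rw [hζ, ← hθ1, ← hζ1]
    exact congrArg ζq hι1
  · rw [hcard, Subgroup.relIndex_subgroupOf hKQ]
  · exact Subgroup.index_dvd_of_le (le_inertia _ (IsIrr.classFun hζi))
  · obtain ⟨X, hX, ψ, hψc, hψk⟩ := hc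
    letI := hX
    haveI := hψc
    let Φ : Q ⧸ Kp.subgroupOf Q →* ψ.range :=
      QuotientGroup.lift _ ψ.rangeRestrict (by rw [MonoidHom.ker_rangeRestrict, hψk])
    refine isCyclic_of_injective Φ ((injective_iff_map_eq_one Φ).2 fun q hq => ?_)
    induction q using QuotientGroup.induction_on with
    | _ x =>
      rw [QuotientGroup.eq_one_iff, ← hψk, ← MonoidHom.ker_rangeRestrict]
      exact MonoidHom.mem_ker.2 hq
  · intro ζ' hζ' hne
    obtain ⟨q, hq⟩ := hconj (fun x => ζ' (ι x)) (IsIrr.comp_mulEquiv ι hζ') (by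
      intro h0
      refine hne ?_
      rw [← Corr.classInner_subgroupOf Z hZQ (fun z : Z => ζ' ⟨(z : H), hZK z.2⟩) θ,
        ← Corr.classInner_subgroupOf (Z.subgroupOf Q) hZKq
          (fun z : Z.subgroupOf Q => ζ' ⟨((z : Q) : H), hZK z.2⟩) θQ]
      exact h0)
    refine ⟨q, q.2, fun x y hxy => ?_⟩
    have h := congrFun hq (ι.symm x)
    rw [conjN_apply, MulEquiv.apply_symm_apply] at h
    rw [← h]
    refine congrArg ζq (Subtype.ext (Subtype.ext ?_))
    exact hxy.symm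
  · intro hi q hq hfix
    have hle := le_inertia (Kp.subgroupOf Q) (IsIrr.classFun hζi)
    have h1 : (Kp.subgroupOf Q).relIndex (inertia (Kp.subgroupOf Q) ζq) = 1 := by
      have h := Subgroup.relIndex_mul_index hle
      rw [hi] at h
      exact (mul_eq_right₀ (show Kp.relIndex Q ≠ 0 from
        Subgroup.index_ne_zero_of_finite (H := Kp.subgroupOf Q))).1 h
    have h2 : (⟨q, hq⟩ : Q) ∈ Kp.subgroupOf Q := Subgroup.relIndex_eq_one.1 h1 (by
      rw [mem_inertia]
      funext x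
      rw [conjN_apply]
      have hy : q * ((x : Q) : H) * q⁻¹ ∈ Kp :=
        (Subgroup.mem_normalizer_iff.1 (hQN hq) _).1 x.2
      exact (hfix ⟨((x : Q) : H), x.2⟩ ⟨_, hy⟩ rfl).symm)
    exact h2

/-- The complement. -/
theorem Data.complement_of (d : Data Z χ θ e) {p : ℕ} (hp : p.Prime) (K : Subgroup H) [K.Normal]
    (hZK : Z ≤ K)
    (hreg : (∀ B : Subgroup (H ⧸ K), IsPGroup p B → IsCyclic B) ∨
      ∃ φ : K → ℂ, IsCharacter K φ ∧ indFun K φ = χ) :
    ∃ M : Subgroup (H ⧸ K), M.index = p ^ K.index.factorization p := by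
  classical
  haveI : Fact p.Prime := ⟨hp⟩
  letI := Fintype.ofFinite K
  obtain ⟨S₀⟩ : Nonempty (Sylow p K) := inferInstance
  obtain ⟨P, hP⟩ := Sylow.exists_comap_subtype_eq S₀
  have hPK : (S₀ : Subgroup K).map K.subtype = (P : Subgroup H) ⊓ K := by
    rw [← hP]; exact Subgroup.subgroupOf_map_subtype (P : Subgroup H) K
  set Q : Subgroup H := (P : Subgroup H) ⊔ Z with hQdef
  set Kp : Subgroup H := Q ⊓ K with hKpdef
  letI := Fintype.ofFinite Q
  letI := Fintype.ofFinite Kp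
  have hZQ : Z ≤ Q := le_sup_right
  have hZKp : Z ≤ Kp := le_inf hZQ hZK
  have hKQ : Kp ≤ Q := inf_le_left
  have hmod : Kp = ((P : Subgroup H) ⊓ K) ⊔ Z := by
    refine le_antisymm (fun x hx => ?_) (sup_le (inf_le_inf_right K le_sup_left) hZKp)
    obtain ⟨a, ha, z, hz, rfl⟩ := Subgroup.mem_sup_of_normal_right.1 (hx.1 : x ∈ (P : Subgroup H) ⊔ Z)
    refine Subgroup.mul_mem_sup ⟨ha, ?_⟩ hz
    show a ∈ K
    have := K.mul_mem hx.2 (K.inv_mem (hZK hz))
    rwa [mul_inv_cancel_right] at this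
  have hQN : Q ≤ Subgroup.normalizer (Kp : Set H) := fun q hq => by
    rw [Subgroup.mem_normalizer_iff]
    intro x
    show x ∈ Q ∧ x ∈ K ↔ q * x * q⁻¹ ∈ Q ∧ q * x * q⁻¹ ∈ K
    refine and_congr ⟨fun hx => mul_mem (mul_mem hq hx) (inv_mem hq), fun hx => ?_⟩
      ⟨fun hx => Subgroup.Normal.conj_mem inferInstance x hx q, fun hx => ?_⟩
    · have := mul_mem (mul_mem (inv_mem hq) hx) hq
      simpa [mul_assoc] using this
    · have := Subgroup.Normal.conj_mem inferInstance _ hx q⁻¹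
      simpa [mul_assoc] using this
  set N := Subgroup.normalizer (Kp : Set H) with hN
  have hNK : N ⊔ K = ⊤ := by
    refine top_le_iff.1 ((Sylow.normalizer_sup_eq_top S₀).ge.trans (sup_le_sup_right ?_ K))
    rw [hPK, hN, hmod]
    intro x hx
    exact Berger.sup_mem_normalizer hx
      (by rw [Subgroup.normalizer_eq_top]; exact Subgroup.mem_top x)
  -- indices
  have hQ : ¬ p ∣ Q.index := fun h =>
    P.not_dvd_index (h.trans (Subgroup.index_dvd_of_le le_sup_left))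
  set m := e.factorization p with hm0
  have he0 : e ≠ 0 := fun h => d.e_ne_zero (by rw [h, Nat.cast_zero])
  have hm : Z.relIndex Q = (p ^ m) ^ 2 := by
    obtain ⟨k, hk⟩ : ∃ k, Z.relIndex Q = p ^ k := by
      obtain ⟨n, hn⟩ := IsPGroup.iff_card.1 P.2
      have : Z.relIndex Q ∣ p ^ n := by
        rw [hQdef, sup_comm, Subgroup.relIndex_sup_left, ← hn]
        exact Subgroup.relIndex_dvd_card Z (P : Subgroup H)
      obtain ⟨k, -, hk⟩ := (Nat.dvd_prime_pow hp).1 this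
      exact ⟨k, hk⟩
    have h1 : p ^ k * Q.index = e ^ 2 := by
      rw [← hk, Subgroup.relIndex_mul_index hZQ, d.he]
    have h2 := congrArg (fun n : ℕ => n.factorization p) h1
    simp only [Nat.factorization_mul (pow_ne_zero _ hp.ne_zero) Subgroup.index_ne_zero_of_finite,
      Nat.factorization_pow, Finsupp.add_apply, Finsupp.smul_apply, smul_eq_mul,
      hp.factorization_self, Nat.factorization_eq_zero_of_not_dvd hQ, add_zero, mul_one] at h2
    rw [hk, h2, ← pow_mul, hm0, mul_comm]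
  obtain ⟨l, hl⟩ : ∃ l, Kp.relIndex Q = p ^ l := by
    have : Kp.relIndex Q ∣ (p ^ m) ^ 2 :=
      hm ▸ ⟨Z.relIndex Kp, by rw [mul_comm, Subgroup.relIndex_mul_relIndex _ _ _ hZKp hKQ]⟩
    rw [← pow_mul] at this
    obtain ⟨l, -, hl⟩ := (Nat.dvd_prime_pow hp).1 this
    exact ⟨l, hl⟩
  have hKpK : ¬ p ∣ Kp.relIndex K := fun h => S₀.not_dvd_index (h.trans (by
    have hle : (S₀ : Subgroup K).map K.subtype ≤ Kp := hPK ▸ inf_le_inf_right K le_sup_left
    have h1 : (S₀ : Subgroup K) ≤ Kp.subgroupOf K := fun x hx => hle ⟨x, hx, rfl⟩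
    exact Subgroup.index_dvd_of_le h1))
  have hKidx : ∃ u, K.index = p ^ l * u ∧ ¬ p ∣ u := by
    have h1 : p ^ l ∣ K.index := by
      rw [← hl, hKpdef, inf_comm, Subgroup.inf_relIndex_right]
      exact Subgroup.relIndex_dvd_index_of_normal K Q
    obtain ⟨u, hu⟩ := h1
    refine ⟨u, hu, fun hpu => ?_⟩
    have h2 : Kp.relIndex K * K.index = p ^ l * Q.index := by
      rw [Subgroup.relIndex_mul_index inf_le_right, ← hl, Subgroup.relIndex_mul_index hKQ]
    rw [hu, mul_left_comm] at h2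
    exact hQ (Nat.eq_of_mul_eq_mul_left (pow_pos hp.pos l) h2 ▸ hpu.mul_left _)
  obtain ⟨u, hKu, hpu⟩ := hKidx
  have hfac : K.index.factorization p = l := by
    rw [hKu, Nat.factorization_mul (pow_ne_zero _ hp.ne_zero)
      (fun h => hpu (by rw [h]; exact dvd_zero p)), Finsupp.add_apply, Nat.factorization_pow,
      Finsupp.smul_apply, hp.factorization_self, smul_eq_mul, mul_one,
      Nat.factorization_eq_zero_of_not_dvd hpu, add_zero]
  rw [hfac]
  obtain ⟨ζ, r, f, i, hζ, hζ1, hir, hfir, hidvd, hcyc, hconj, hfix⟩ :=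
    d.orbit_in hp hZKp hKQ hQN hm hQ
  have hkl : i * r ^ 2 * p ^ l = (p ^ m) ^ 2 := by
    rw [hir, ← hl, Subgroup.relIndex_mul_relIndex _ _ _ hZKp hKQ, hm]
  rw [hl] at hidvd
  have hile : i ≤ p ^ l := Nat.le_of_dvd (pow_pos hp.pos l) hidvd
  have hiq : i = p ^ l := by
    rcases hreg with hcy | ⟨φ, hφ, hind⟩
    · have hf : f = 1 := by
        refine hcyc ⟨H ⧸ K, inferInstance, (QuotientGroup.mk' K).comp Q.subtype, hcy _ ?_, ?_⟩
        · refine (P.2.map (QuotientGroup.mk' K)).to_le ?_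
          rw [MonoidHom.range_comp, Subgroup.range_subtype, hQdef, Subgroup.map_sup,
            (Subgroup.map_eq_bot_iff Z).2 (by rwa [QuotientGroup.ker_mk']), sup_bot_eq]
        · ext x
          rw [MonoidHom.mem_ker, Subgroup.mem_subgroupOf, MonoidHom.comp_apply,
            QuotientGroup.mk'_apply, QuotientGroup.eq_one_iff, hKpdef]
          exact ⟨fun h => ⟨x.2, h⟩, fun h => h.2⟩
      subst hf
      rw [one_mul] at hfir
      have h1 : i * r ^ 2 * p ^ l = i * r ^ 2 * i := by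
        rw [hkl, ← hfir]; ring
      have h2 : i * r ^ 2 ≠ 0 := by
        rw [hir]; exact Subgroup.index_ne_zero_of_finite (H := Z.subgroupOf Kp)
      exact (Nat.eq_of_mul_eq_mul_left (Nat.pos_of_ne_zero h2) h1).symm
    · have hφi : IsIrrCharacter K φ := QPrim.irr_of_ind hφ (hind.symm ▸ d.hχ)
      have hχφ : classInner (fun x : K => χ x) φ ≠ 0 := by
        rw [← classInner_conj_symm, ← classInner_indFun K φ (IsIrr.classFun d.hχ), hind,
          classInner_self_irr d.hχ, map_one]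
        exact one_ne_zero
      obtain ⟨a, ha, hdec⟩ := IsChar.exists_decomp_inner
        (IsChar.comp (Subgroup.inclusion (inf_le_right : Kp ≤ K)) (IsIrr.isCharacter hφi))
      have h1 : ∀ ζ' : IrrCharacter Kp, a ζ' ≠ 0 → (ζ' : Kp → ℂ) 1 = (r : ℂ) * θ 1 := by
        intro ζ' h
        have h2 := pos_of_constituent (Subgroup.inclusion (inf_le_right : Kp ≤ K))
          (IsChar.res (IsIrr.isCharacter d.hχ) K) hφi hχφ ζ'.2 (by
            have := ha ζ'
            exact this ▸ (Nat.cast_ne_zero.2 h))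
        obtain ⟨q, -, hq'⟩ := hconj ζ' ζ'.2 (d.over_of_constituent hZKp ζ'.2 h2)
        rw [hq' 1 1 (by simp), hζ1]
      have h2 := congrFun hdec 1
      simp only [MonoidHom.coe_comp, Function.comp_apply, map_one] at h2
      rw [sum_irr_apply, Finset.sum_congr rfl fun ζ' _ => (show (a ζ' : ℂ) * (ζ' : Kp → ℂ) 1 =
        (a ζ' : ℂ) * ((r : ℂ) * θ 1) by
          rcases eq_or_ne (a ζ') 0 with h0 | h0
          · rw [h0]; simp
          · rw [h1 ζ' h0]), ← Finset.sum_mul] at h2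
      have h3 : χ 1 = (e : ℂ) * θ 1 := by simpa using d.hres 1
      rw [← hind, indFun_one_eq, h2] at h3
      have h4 : K.index * (∑ ζ', a ζ') * r = e := by
        have : ((K.index * (∑ ζ', a ζ') * r : ℕ) : ℂ) * θ 1 = (e : ℂ) * θ 1 := by
          rw [← h3]; push_cast; ring
        exact_mod_cast mul_right_cancel₀ (IsIrr.one_ne_zero d.hθ) this
      obtain ⟨j, -, hj⟩ := (Nat.dvd_prime_pow hp).1
        (⟨f * i, by rw [← hfir]; ring⟩ : r ∣ p ^ m)
      have h5 : p ^ (l + j) ∣ e :=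
        ⟨u * ∑ ζ', a ζ', by rw [pow_add, ← hj, ← h4, hKu]; ring⟩
      have h6 : l + j ≤ m := (hp.pow_dvd_iff_le_factorization he0).1 h5
      have h7 : (p ^ l * r) ^ 2 ≤ (p ^ m) ^ 2 := by
        rw [hj, ← pow_add]
        exact Nat.pow_le_pow_left (Nat.pow_le_pow_right hp.pos h6) 2
      rw [← hkl] at h7
      have h8 : p ^ l * (r ^ 2 * p ^ l) ≤ i * (r ^ 2 * p ^ l) := by
        calc p ^ l * (r ^ 2 * p ^ l) = (p ^ l * r) ^ 2 := by ring
          _ ≤ i * r ^ 2 * p ^ l := h7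
          _ = i * (r ^ 2 * p ^ l) := by ring
      refine le_antisymm hile (Nat.le_of_mul_le_mul_right h8 (Nat.pos_of_ne_zero ?_))
      rw [hj]
      exact mul_ne_zero (pow_ne_zero _ (pow_ne_zero _ hp.ne_zero)) (pow_ne_zero _ hp.ne_zero)
  -- the stabilizer
  let S : Subgroup H :=
    { carrier := {n | n ∈ N ∧ ∀ x y : Kp, (y : H) = n * x * n⁻¹ → ζ x = ζ y}
      one_mem' := ⟨one_mem _, fun x y h => congrArg ζ (Subtype.ext (by simpa using h.symm))⟩
      mul_mem' := by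
        rintro a b ⟨ha, ha'⟩ ⟨hb, hb'⟩
        refine ⟨mul_mem ha hb, fun x y h => ?_⟩
        have hz : b * (x : H) * b⁻¹ ∈ Kp := (Subgroup.mem_normalizer_iff.1 hb _).1 x.2
        rw [hb' x ⟨_, hz⟩ rfl]
        refine ha' ⟨_, hz⟩ y (h.trans ?_)
        group
      inv_mem' := by
        rintro a ⟨ha, ha'⟩
        refine ⟨inv_mem ha, fun x y h => (ha' y x ?_).symm⟩
        rw [h]; group }
  have hSN : S ≤ N := fun n hn => hn.1
  have hSQ : S ⊓ Q = Kp := by
    refine le_antisymm (fun q hq => hfix (hiq.trans hl.symm) q hq.2 hq.1.2) (le_inf (fun k hk => ?_)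
      hKQ)
    refine ⟨Subgroup.le_normalizer hk, fun x y h => ?_⟩
    rw [show y = (⟨k, hk⟩ : Kp) * x * (⟨k, hk⟩ : Kp)⁻¹ from Subtype.ext h]
    exact (IsIrr.classFun hζ x ⟨k, hk⟩).symm
  have hdec : ∀ n ∈ N, ∃ q ∈ Q, n * q⁻¹ ∈ S := by
    intro n hn
    let c : Kp ≃* Kp := Subgroup.normalizerMonoidHom Kp ⟨n, hn⟩
    have hover : classInner (fun z : Z => ζ (c ⟨(z : H), hZKp z.2⟩)) θ ≠ 0 := by
      obtain ⟨θ', hθ'⟩ := IsChar.exists_constituent'
        (IsChar.comp (Subgroup.inclusion hZKp) (IsIrr.isCharacter hζ))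
        (show ζ (Subgroup.inclusion hZKp 1) ≠ 0 by rw [map_one]; exact IsIrr.one_ne_zero hζ)
      have hζθ : classInner (fun z : Z => ζ ⟨(z : H), hZKp z.2⟩) θ ≠ 0 := by
        have h0 : indFun Kp ζ 1 ≠ 0 := by
          rw [indFun_one_eq]
          exact mul_ne_zero (Nat.cast_ne_zero.2 Subgroup.index_ne_zero_of_finite)
            (IsIrr.one_ne_zero hζ)
        -- the unique character lies above
        obtain ⟨ζ₁, hζ₁⟩ := IsChar.exists_constituent' (IsChar.res (IsIrr.isCharacter d.hχ) Kp)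
          (show χ ((1 : Kp) : H) ≠ 0 from IsIrr.one_ne_zero d.hχ)
        obtain ⟨q, hqQ, hq⟩ := hconj ζ₁ ζ₁.2 (d.over_of_constituent hZKp ζ₁.2 hζ₁)
        refine d.over_of_constituent hZKp hζ ?_
        have hqn := hQN hqQ
        let cq : Kp ≃* Kp := Subgroup.normalizerMonoidHom Kp ⟨q, hqn⟩
        have e1 : (ζ₁ : Kp → ℂ) = fun x => ζ (cq x) := funext fun x => hq x _ rfl
        rw [e1] at hζ₁
        rw [← classInner_comp_surjective cq.toMonoidHom cq.surjective]
        have e2 : (fun x : Kp => χ (cq x : H)) = fun x : Kp => χ x :=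
          funext fun x => IsIrr.classFun d.hχ (x : H) q
        simpa only [MulEquiv.coe_toMonoidHom, e2] using hζ₁
      have e1 : (fun z : Z => ζ (c ⟨(z : H), hZKp z.2⟩)) =
          conjN Z n (fun z : Z => ζ ⟨(z : H), hZKp z.2⟩) :=
        funext fun z => congrArg ζ (Subtype.ext rfl)
      rw [e1, ← d.conj_eq n, classInner_conjN]
      exact hζθ
    obtain ⟨q, hq, hq'⟩ := hconj (fun x => ζ (c x)) (IsIrr.comp_mulEquiv c hζ) hover
    refine ⟨q, hq, mul_mem hn (inv_mem (hQN hq)), fun x y h => ?_⟩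
    have hx : q⁻¹ * (x : H) * q ∈ Kp := by
      have := (Subgroup.mem_normalizer_iff.1 (inv_mem (hQN hq)) (x : H)).1 x.2
      rwa [inv_inv] at this
    rw [← hq' ⟨_, hx⟩ x (by group)]
    refine congrArg ζ (Subtype.ext ?_)
    show n * (q⁻¹ * (x : H) * q) * n⁻¹ = (y : H)
    rw [h]; group
  have hSidx : S.relIndex N = p ^ l := by
    have h1 : S.relIndex Q = p ^ l := by
      rw [← Subgroup.inf_relIndex_right, hSQ, hl]
    refine le_antisymm (h1 ▸ ?_) (h1 ▸ Subgroup.relIndex_le_of_le_right hQN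
      (Subgroup.index_ne_zero_of_finite (H := S.subgroupOf N)))
    refine Nat.card_le_card_of_surjective
      (Quotient.map' (Subgroup.inclusion hQN) fun a b h => by
        rw [QuotientGroup.leftRel_apply] at h ⊢
        exact h) fun x => ?_
    induction x using Quotient.inductionOn' with
    | h n =>
      obtain ⟨q, hq, hs⟩ := hdec _ (inv_mem n.2)
      refine ⟨Quotient.mk'' ⟨q⁻¹, inv_mem hq⟩, ?_⟩
      rw [Quotient.map'_mk'']
      refine Quotient.sound' (QuotientGroup.leftRel_apply.2 ?_)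
      show (q⁻¹)⁻¹ * (n : H) ∈ S
      have := inv_mem hs
      simpa using this
  -- the count
  set A := K.relIndex S with hA
  set w := (S ⊓ K).relIndex (N ⊓ K) with hw
  have hNKidx : K.relIndex N = K.index := by
    rw [← Subgroup.relIndex_sup_left, sup_comm, hNK, Subgroup.relIndex_top_right]
  have hAw : p ^ l * A = p ^ l * u * w := by
    rw [← hKu, ← hNKidx, hA, ← Subgroup.inf_relIndex_right K S, inf_comm K S, ← hSidx, hw,
      mul_comm (S.relIndex N), Subgroup.relIndex_mul_relIndex _ _ _ inf_le_left hSN,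
      mul_comm (K.relIndex N), ← Subgroup.inf_relIndex_right K N, inf_comm K N,
      Subgroup.relIndex_mul_relIndex _ _ _ (inf_le_inf_right K hSN) inf_le_left]
  rw [mul_assoc] at hAw
  have hA' : A = u * w := Nat.eq_of_mul_eq_mul_left (pow_pos hp.pos l) hAw
  have hw1 : w = 1 := by
    have hle : Kp ≤ S ⊓ K := le_inf (hSQ ▸ inf_le_left) inf_le_right
    have h0 : w ∣ Kp.relIndex (N ⊓ K) :=
      ⟨Kp.relIndex (S ⊓ K), by rw [hw, mul_comm,
        Subgroup.relIndex_mul_relIndex _ _ _ hle (inf_le_inf_right K hSN)]⟩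
    have h1 : w ∣ Kp.relIndex K :=
      h0.trans ⟨(N ⊓ K).relIndex K,
          (Subgroup.relIndex_mul_relIndex _ _ _ (hle.trans (inf_le_inf_right K hSN))
            inf_le_right).symm⟩
    have h2 : u * w ∣ u * p ^ l := by
      rw [← hA', mul_comm u, ← hKu]
      exact Subgroup.relIndex_dvd_index_of_normal K S
    have h3 : w ∣ p ^ l :=
      Nat.dvd_of_mul_dvd_mul_left (Nat.pos_of_ne_zero fun h => hpu (by rw [h]; exact dvd_zero p)) h2
    obtain ⟨j, -, hj⟩ := (Nat.dvd_prime_pow hp).1 h3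
    rcases Nat.eq_zero_or_pos j with h0 | h0
    · rw [hj, h0, pow_zero]
    · exact absurd ((dvd_pow_self p h0.ne').trans (hj ▸ h1)) hKpK
  refine ⟨S.map (QuotientGroup.mk' K), ?_⟩
  rw [Subgroup.index_map, QuotientGroup.ker_mk', MonoidHom.range_eq_top.2
    (QuotientGroup.mk'_surjective K), Subgroup.index_top, mul_one]
  have h := Subgroup.relIndex_mul_index (le_sup_right : K ≤ S ⊔ K)
  rw [sup_comm, Subgroup.relIndex_sup_left, ← hA, hA', hw1, mul_one, hKu, mul_comm (p ^ l)] at h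
  rw [sup_comm]
  exact Nat.eq_of_mul_eq_mul_left (Nat.pos_of_ne_zero fun h0 => hpu (by rw [h0]; exact dvd_zero p)) h

end Cfsg.Agent.Char.RamCompl
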