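import Cfsg.Agent.Lib.Char.OverCyclic
import Cfsg.Agent.Lib.Char.InvariantCover

/-!
A fully ramified character: no self-centralizing cyclic subgroup in the quotient.
-/

open scoped ComplexConjugate

namespace Cfsg.Agent.Char.RamCyclic

open Cfsg Cfsg.Agent.Char

set_option linter.unusedSectionVars false
set_option linter.style.haveILetI false

universe u

variable {H : Type u} [Group H] [Fintype H]

theorem not_self_centralizing (Z : Subgroup H) [Z.Normal] [Fintype Z] {χ : H → ℂ}
    (hχ : IsIrrCharacter H χ) {θ : Z → ℂ} (hθ : IsIrrCharacter Z θ) {e : ℕ}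
    (he : e ^ 2 = Z.index) (hres : ∀ z : Z, χ z = (e : ℂ) * θ z) (hZ : Z ≠ ⊤)
    (C : Subgroup (H ⧸ Z)) (hC : IsCyclic C) :
    Subgroup.centralizer (C : Set (H ⧸ Z)) ≠ C := by
  classical
  intro hcent
  have he0 : (e : ℂ) ≠ 0 := by
    have : Z.index ≠ 0 := Subgroup.index_ne_zero_of_finite
    rw [← he] at this
    exact Nat.cast_ne_zero.2 fun h => this (by rw [h]; norm_num)
  have hθinv : ∀ g : H, conjN Z g θ = θ := fun g => funext fun z => by
    refine mul_left_cancel₀ he0 ?_
    rw [conjN_apply, ← hres, ← hres]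
    exact IsIrr.classFun hχ _ _
  have hsum : (Nat.card H : ℂ) = ∑ g : H, χ g * conj (χ g) := by
    have h := classInner_self_irr hχ
    rw [classInner] at h
    exact (inv_mul_eq_one₀ (Nat.cast_ne_zero.2 Nat.card_pos.ne')).1 h
  -- the character vanishes off the subgroup
  have hvan : ∀ g : H, g ∉ Z → χ g = 0 := by
    intro g hg
    have h1 : ∑ z : Z, θ z * conj (θ z) = (Nat.card Z : ℂ) := by
      have h := classInner_self_irr hθ
      rw [classInner] at h
      exact ((inv_mul_eq_one₀ (Nat.cast_ne_zero.2 Nat.card_pos.ne')).1 h).symm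
    have h2 : ∑ z : Z, χ z * conj (χ z) = (Nat.card H : ℂ) := by
      rw [Finset.sum_congr rfl fun (z : Z) _ => (show χ z * conj (χ z) =
        (e : ℂ) ^ 2 * (θ z * conj (θ z)) by
          rw [hres, map_mul, Complex.conj_natCast]; ring), ← Finset.mul_sum, h1]
      rw [← Z.card_mul_index, ← he]
      push_cast
      ring
    have h3 := Finset.sum_add_sum_compl (Finset.univ.filter fun x : H => x ∈ Z)
      (fun x : H => ‖χ x‖ ^ 2)
    have hR : ∀ x : H, χ x * conj (χ x) = ((‖χ x‖ ^ 2 : ℝ) : ℂ) := fun x => by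
      rw [Complex.mul_conj, Complex.normSq_eq_norm_sq]
    simp only [hR] at hsum h2
    rw [← Complex.ofReal_sum] at hsum h2
    have e1 : ∑ x ∈ Finset.univ.filter (fun x : H => x ∈ Z), ‖χ x‖ ^ 2 =
        ∑ z : Z, ‖χ z‖ ^ 2 := Finset.sum_subtype _ (by simp) _
    have e2 : ∑ x : H, ‖χ x‖ ^ 2 = ∑ z : Z, ‖χ z‖ ^ 2 :=
      Complex.ofReal_injective (hsum.symm.trans h2.symm)
    rw [e1, e2, add_eq_left] at h3
    have h4 := (Finset.sum_eq_zero_iff_of_nonneg fun x _ => by positivity).1 h3 g (by simp [hg])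
    simpa using h4
  haveI := hC
  obtain ⟨⟨c, hc⟩, hgen⟩ := IsCyclic.exists_generator (α := C)
  obtain ⟨g, rfl⟩ := QuotientGroup.mk'_surjective Z c
  set M := C.comap (QuotientGroup.mk' Z) with hM
  have hgM : g ∈ M := hc
  have hZM : Z ≤ M := fun z hz => by
    show QuotientGroup.mk' Z z ∈ C
    rw [show QuotientGroup.mk' Z z = 1 from (QuotientGroup.eq_one_iff z).2 hz]
    exact one_mem C
  by_cases hgZ : g ∈ Z
  · have hbot : C = ⊥ := (Subgroup.eq_bot_iff_forall _).2 fun x hx => by
      obtain ⟨k, hk⟩ := hgen ⟨x, hx⟩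
      have h := congrArg Subtype.val hk
      simp only [SubgroupClass.coe_zpow] at h
      rw [← h, show QuotientGroup.mk' Z g = 1 from (QuotientGroup.eq_one_iff g).2 hgZ, one_zpow]
    refine hZ (eq_top_iff.2 fun x _ => ?_)
    have hx : QuotientGroup.mk' Z x ∈ Subgroup.centralizer (C : Set (H ⧸ Z)) := by
      rw [Subgroup.mem_centralizer_iff]
      intro y hy
      rw [hbot, SetLike.mem_coe, Subgroup.mem_bot] at hy
      rw [hy, one_mul, mul_one]
    rw [hcent, hbot, Subgroup.mem_bot] at hx
    exact (QuotientGroup.eq_one_iff x).1 hx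
  haveI : (Z.subgroupOf M).Normal := Subgroup.Normal.subgroupOf inferInstance _
  letI := Fintype.ofFinite M
  letI := Fintype.ofFinite (Z.subgroupOf M)
  set θM : Z.subgroupOf M → ℂ := fun z => θ ⟨((z : M) : H), z.2⟩ with hθM
  have hθMi : IsIrrCharacter (Z.subgroupOf M) θM :=
    IsIrr.comp_mulEquiv (Subgroup.subgroupOfEquivOfLe hZM) hθ
  have hcycM : IsCyclic (M ⧸ Z.subgroupOf M) := by
    let π : M →* C := (QuotientGroup.mk' Z).subgroupComap C
    have hker : π.ker = Z.subgroupOf M := by
      ext x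
      rw [MonoidHom.mem_ker, Subgroup.mem_subgroupOf]
      exact ⟨fun h => (QuotientGroup.eq_one_iff _).1 (congrArg Subtype.val h),
        fun h => Subtype.ext ((QuotientGroup.eq_one_iff _).2 h)⟩
    let ι : M ⧸ Z.subgroupOf M →* C := QuotientGroup.lift _ π hker.ge
    refine isCyclic_of_injective ι ((injective_iff_map_eq_one ι).2 fun q hq => ?_)
    induction q using QuotientGroup.induction_on with
    | _ x => exact (QuotientGroup.eq_one_iff x).2 (hker ▸ (MonoidHom.mem_ker.2 hq))
  -- an extension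
  have hind0 : indFun (Z.subgroupOf M) θM 1 ≠ 0 := by
    rw [indFun_one_eq]
    exact mul_ne_zero (Nat.cast_ne_zero.2 Subgroup.index_ne_zero_of_finite)
      (IsIrr.one_ne_zero hθMi)
  obtain ⟨ψ, hψne⟩ :=
    IsChar.exists_constituent' (isCharacter_indFun _ (IsIrr.isCharacter hθMi)) hind0
  rw [classInner_indFun _ _ (IsIrr.classFun ψ.2)] at hψne
  have hne : classInner (fun z : Z.subgroupOf M => (ψ : M → ℂ) z) θM ≠ 0 := fun h => hψne (by
    rw [← classInner_conj_symm, h, map_zero])
  have hone := OverCyclic.mult_one hcycM hθMi ψ.2 hne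
  have hinvM : inertia (Z.subgroupOf M) θM = ⊤ := eq_top_iff.2 fun t _ => by
    rw [mem_inertia]
    funext z
    exact congrFun (hθinv (t : H)) ⟨((z : M) : H), z.2⟩
  have hψres : (fun z : Z.subgroupOf M => (ψ : M → ℂ) z) = θM := by
    refine eq_of_constituent_degree (IsChar.res (IsIrr.isCharacter ψ.2) _) hθMi hne ?_
    have h := clifford_one (Z.subgroupOf M) ψ.2 hθMi hne
    rwa [hone, hinvM, Subgroup.index_top, Nat.cast_one, one_mul, one_mul] at h
  -- the induced function supported on the coset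
  set f : M → ℂ := fun m => if (m : H) * g⁻¹ ∈ Z then (ψ : M → ℂ) m else 0 with hf
  have hconjZ : ∀ {a : H} {z : H}, z ∈ Z → a * z * a⁻¹ ∈ Z := fun hz =>
    Subgroup.Normal.conj_mem inferInstance _ hz _
  have horth : ∀ ξ : H → ℂ, IsIrrCharacter H ξ → classInner f (fun m : M => ξ m) = 0 := by
    intro ξ hξ
    set ξM : M → ℂ := fun m => ξ m with hξM
    set η : M → ℂ := avgN (Z.subgroupOf M) (ξM * fun m => conj ((ψ : M → ℂ) m)) with hη
    by_cases hξχ : ξ = χ
    · refine mul_eq_zero_of_right _ (Finset.sum_eq_zero fun m _ => ?_)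
      rw [hf]
      dsimp only
      split_ifs with hm
      · refine mul_eq_zero_of_right _ ?_
        show conj (ξ (m : H)) = 0
        rw [hξχ, hvan _ (fun h => hgZ ?_), map_zero]
        have := mul_mem (inv_mem hm) h
        simpa using this
      · rw [zero_mul]
    have h0 : classInner (fun z : Z => ξ z) θ = 0 := by
      have h1 := classInner_irr_ne hξ hχ hξχ
      have h2 : ∑ x : H, ξ x * conj (χ x) = (e : ℂ) * ∑ z : Z, ξ z * conj (θ z) := by
        rw [← Finset.sum_subset (Finset.subset_univ (Finset.univ.filter fun x : H => x ∈ Z))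
          (fun x _ hx => by rw [hvan x (by simpa using hx), map_zero, mul_zero]),
          Finset.sum_subtype (Finset.univ.filter fun x : H => x ∈ Z) (p := (· ∈ Z)) (by simp),
          Finset.mul_sum]
        exact Finset.sum_congr rfl fun z _ => by
          rw [hres, map_mul, Complex.conj_natCast]; ring
      rw [classInner, h2, mul_eq_zero, mul_eq_zero] at h1
      rcases h1 with h1 | h1 | h1
      · exact absurd h1 (inv_ne_zero (Nat.cast_ne_zero.2 Nat.card_pos.ne'))
      · exact absurd h1 he0
      · rw [classInner, h1, mul_zero]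
    have hη0 : η = 0 := by
      refine IsChar.eq_zero_of_one_eq_zero
        (IsChar.avgN _ (IsChar.mul (IsChar.res (IsIrr.isCharacter hξ) M)
          (IsChar.conj (IsIrr.isCharacter ψ.2)))) ?_
      rw [hη, avgN_one_eq]
      rw [← h0, ← Corr.classInner_subgroupOf Z hZM (fun z : Z => ξ z) θ]
      simp only [classInner, Pi.mul_apply, map_one, mul_one]
      congr 1
      refine Finset.sum_congr rfl fun z _ => ?_
      rw [show (ψ : M → ℂ) z = θM z from congrFun hψres z]
    have h1 : ∑ z : Z.subgroupOf M, ξM ((z : M) * ⟨g, hgM⟩) *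
        conj ((ψ : M → ℂ) ((z : M) * ⟨g, hgM⟩)) = 0 := by
      have h := congrFun hη0 ⟨g, hgM⟩
      rw [hη, avgN, Pi.zero_apply, mul_eq_zero] at h
      exact h.resolve_left (inv_ne_zero (Nat.cast_ne_zero.2 Nat.card_pos.ne'))
    refine mul_eq_zero_of_right _ ?_
    rw [← map_eq_zero (starRingEnd ℂ), map_sum, ← h1]
    rw [← Finset.sum_subset (Finset.subset_univ
      (Finset.univ.filter fun m : M => (m : H) * g⁻¹ ∈ Z))
      (fun m _ hm => by
        rw [hf]
        dsimp only
        rw [if_neg (by simpa using hm), zero_mul, map_zero])]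
    refine Finset.sum_bij' (fun m hm =>
        (⟨⟨(m : H) * g⁻¹, mul_mem m.2 (inv_mem hgM)⟩,
          Subgroup.mem_subgroupOf.2 (Finset.mem_filter.1 hm).2⟩ : Z.subgroupOf M))
      (fun z _ => (z : M) * ⟨g, hgM⟩) (fun m _ => Finset.mem_univ _) (fun z _ => ?_) (fun m _ => ?_)
      (fun z _ => ?_) (fun m hm => ?_)
    · rw [Finset.mem_filter]
      refine ⟨Finset.mem_univ _, ?_⟩
      rw [Subgroup.coe_mul, mul_inv_cancel_right]
      exact Subgroup.mem_subgroupOf.1 z.2
    · exact Subtype.ext (inv_mul_cancel_right (m : H) g)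
    · exact Subtype.ext (Subtype.ext (mul_inv_cancel_right ((z : M) : H) g))
    · have e3 : (⟨(m : H) * g⁻¹, mul_mem m.2 (inv_mem hgM)⟩ : M) *
          ⟨g, hgM⟩ = m := Subtype.ext (inv_mul_cancel_right (m : H) g)
      show conj (f m * conj (ξM m)) = ξM ((⟨(m : H) * g⁻¹, mul_mem m.2 (inv_mem hgM)⟩ : M) *
        ⟨g, hgM⟩) * conj ((ψ : M → ℂ) ((⟨(m : H) * g⁻¹, mul_mem m.2 (inv_mem hgM)⟩ : M) *
        ⟨g, hgM⟩))
      rw [e3, hf]
      dsimp only
      rw [if_pos (Finset.mem_filter.1 hm).2, map_mul, Complex.conj_conj]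
      ring
  have hF : indFun M f = 0 :=
    eq_zero_of_orth_irr (indFun_classFun M f) fun ξ hξ => by
      rw [classInner_indFun M f (IsIrr.classFun hξ)]
      exact horth ξ hξ
  -- its values on the coset
  have hval : ∀ m : M, (m : H) * g⁻¹ ∈ Z → (ψ : M → ℂ) m = 0 := by
    intro m hm
    have h := congrFun hF (m : H)
    rw [indFun, Pi.zero_apply, mul_eq_zero] at h
    have h := h.resolve_left (inv_ne_zero (Nat.cast_ne_zero.2 Nat.card_pos.ne'))
    have hterm : ∀ x : H, extendByZero M f (x⁻¹ * m * x) =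
        if x ∈ M then (ψ : M → ℂ) m else 0 := by
      intro x
      by_cases hx : x ∈ M
      · have hmem : x⁻¹ * (m : H) * x ∈ M := mul_mem (mul_mem (inv_mem hx) m.2) hx
        rw [if_pos hx, extendByZero_of_mem _ hmem, hf]
        dsimp only
        have hcomm : x⁻¹ * g * x * g⁻¹ ∈ Z := by
          rw [← QuotientGroup.eq_one_iff]
          obtain ⟨k, hk⟩ := hgen ⟨QuotientGroup.mk' Z x, hx⟩
          have hk' := congrArg Subtype.val hk
          simp only [SubgroupClass.coe_zpow, QuotientGroup.mk'_apply] at hk'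
          simp only [QuotientGroup.mk_mul, QuotientGroup.mk_inv, ← hk']
          group
        rw [if_pos ?_]
        · have := IsIrr.classFun ψ.2 m ⟨x, hx⟩⁻¹
          rw [inv_inv] at this
          exact this
        · have : x⁻¹ * (m : H) * x * g⁻¹ = (x⁻¹ * ((m : H) * g⁻¹) * x) * (x⁻¹ * g * x * g⁻¹) := by
            group
          rw [this]
          refine mul_mem ?_ hcomm
          have := hconjZ (a := x⁻¹) hm
          rwa [inv_inv] at this
      · rw [if_neg hx]
        by_cases hmem : x⁻¹ * (m : H) * x ∈ M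
        · rw [extendByZero_of_mem _ hmem, hf]
          dsimp only
          rw [if_neg fun hbad => hx ?_]
          show QuotientGroup.mk' Z x ∈ C
          rw [← hcent, Subgroup.mem_centralizer_iff]
          intro y hy
          obtain ⟨k, hk⟩ := hgen ⟨y, hy⟩
          have hk' := congrArg Subtype.val hk
          simp only [SubgroupClass.coe_zpow] at hk'
          rw [← hk']
          refine (Commute.zpow_left ?_ k).eq
          have hb := (QuotientGroup.eq_one_iff _).2 hbad
          have hm' := (QuotientGroup.eq_one_iff _).2 hm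
          simp only [QuotientGroup.mk_mul, QuotientGroup.mk_inv, mul_inv_eq_one] at hb hm'
          rw [hm'] at hb
          show QuotientGroup.mk' Z g * QuotientGroup.mk' Z x =
            QuotientGroup.mk' Z x * QuotientGroup.mk' Z g
          simp only [QuotientGroup.mk'_apply]
          conv_rhs => rw [← hb]
          group
        · exact extendByZero_not_mem _ hmem
    rw [Finset.sum_congr rfl fun x _ => hterm x, ← Finset.sum_filter, Finset.sum_const,
      nsmul_eq_mul, mul_eq_zero] at h
    refine h.resolve_left (Nat.cast_ne_zero.2 (Finset.card_pos.2 ⟨1, ?_⟩).ne')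
    simp
  have habs := congrFun (InvCover.avgN_absSq (Z.subgroupOf M) ψ.2 (hψres.symm ▸ hθMi))
    (⟨g, hgM⟩ : M)
  rw [avgN, Finset.sum_eq_zero (fun z _ => ?_), mul_zero] at habs
  · exact zero_ne_one habs
  · rw [Pi.mul_apply, hval _ (by
      rw [Subgroup.coe_mul, mul_inv_cancel_right]; exact z.2), zero_mul]

end Cfsg.Agent.Char.RamCyclic
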