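import Cfsg.Agent.Lib.Char.Complete
import Cfsg.Agent.Lib.Char.Kernel
import Cfsg.Prelude.Def_Blocks
import Mathlib.GroupTheory.SemidirectProduct
import Mathlib.NumberTheory.LegendreSymbol.AddCharacter
import Mathlib.RingTheory.IntegralDomain
import Mathlib.GroupTheory.Solvable

/-!
Every solvable group embeds in the quotient by the center of a fully ramified group with the same
prime divisors and squarefree center.

The groups are built so that every element outside the center is conjugate to a nontrivial central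
multiple of itself; this forces the faithful characters to vanish outside the center.
-/

open scoped ComplexConjugate BigOperators

namespace Cfsg.Agent.Char.RamEmb

open Cfsg Cfsg.Agent.Char

universe u

/-- A group with a central subgroup with a faithful linear character, in which every element outside
the subgroup is conjugate to a nontrivial multiple by an element of the subgroup. -/
structure Good (H : Type u) [Group H] (Z : Subgroup H) (l : Z →* ℂˣ) : Prop where
  inj : Function.Injective l
  central : Z ≤ Subgroup.center H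
  moved : ∀ h : H, h ∉ Z → ∃ g : H, ∃ z ∈ Z, z ≠ 1 ∧ g * h * g⁻¹ = z * h

theorem Good.center_eq {H : Type u} [Group H] {Z : Subgroup H} {l : Z →* ℂˣ} (h : Good H Z l) :
    Subgroup.center H = Z := by
  refine le_antisymm (fun x hx => ?_) h.central
  by_contra hn
  obtain ⟨g, z, -, hz1, he⟩ := h.moved x hn
  rw [Subgroup.mem_center_iff.1 hx g, mul_inv_cancel_right] at he
  exact hz1 (by simpa using he.symm)

/-- The faithful fully ramified character. -/
theorem Good.exists_char {H : Type u} [Group H] [Finite H] {Z : Subgroup H} {l : Z →* ℂˣ}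
    (hg : Good H Z l) : ∃ χ : IrrCharacter H, (∀ h : H, (χ : H → ℂ) h = (χ : H → ℂ) 1 → h = 1) ∧
      (charDegree (χ : H → ℂ)) ^ 2 = (Subgroup.center H).index := by
  classical
  letI := Fintype.ofFinite H
  letI := Fintype.ofFinite Z
  -- a character over `l`
  have hsum : (∑ z : Z, conj (l z : ℂ) * ∑ χ : IrrCharacter H,
      (χ : H → ℂ) (z : H) * conj ((χ : H → ℂ) 1)) = (Nat.card H : ℂ) := by
    rw [Finset.sum_eq_single (1 : Z)]
    · rw [map_one, Units.val_one, map_one, one_mul, Subgroup.coe_one, sum_irr_mul_conj,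
        if_pos (IsConj.refl _)]
      rw [show Subgroup.centralizer ({(1 : H)} : Set H) = ⊤ from
        (Subgroup.eq_top_iff' _).2 fun x => by simp [Subgroup.mem_centralizer_iff],
        Subgroup.card_top]
    · intro z _ hz
      rw [sum_irr_mul_conj, if_neg, mul_zero]
      exact fun hc => hz (Subtype.ext (isConj_one_left.1 hc))
    · exact fun h => absurd (Finset.mem_univ _) h
  obtain ⟨χ, hχ⟩ : ∃ χ : IrrCharacter H,
      (∑ z : Z, conj (l z : ℂ) * ((χ : H → ℂ) (z : H) * conj ((χ : H → ℂ) 1))) ≠ 0 := by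
    by_contra hall
    push Not at hall
    simp only [Finset.mul_sum] at hsum
    rw [Finset.sum_comm, Finset.sum_eq_zero fun χ _ => hall χ] at hsum
    exact Nat.cast_ne_zero.2 Nat.card_pos.ne' hsum.symm
  have hsc : ∀ z : Z, ∀ g, (χ : H → ℂ) ((z : H) * g) = (l z : ℂ) * (χ : H → ℂ) g := by
    choose c hc1 hc using fun z : Z => IsIrr.scalar_of_center χ.2 (hg.central z.2)
    have hd := IsIrr.one_ne_zero χ.2
    have hmul : ∀ a b : Z, c (a * b) = c a * c b := by
      intro a b
      have h1 := hc (a * b) 1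
      have h2 := hc a ((b : H) * 1)
      rw [hc b 1] at h2
      rw [Subgroup.coe_mul, mul_assoc, h2, ← mul_assoc] at h1
      exact (mul_right_cancel₀ hd h1).symm
    have hval : ∀ z : Z, (χ : H → ℂ) (z : H) = c z * (χ : H → ℂ) 1 := fun z => by
      simpa using hc z 1
    have hl : ∀ z : Z, c z = (l z : ℂ) := by
      intro y
      by_contra hne
      apply hχ
      set S := ∑ z : Z, conj (l z : ℂ) * c z with hS
      have hnorm : (l y : ℂ) * conj (l y : ℂ) = 1 := by
        have h : ‖(l y : ℂ)‖ = 1 := by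
          refine Complex.norm_eq_one_of_pow_eq_one ?_ (n := Nat.card Z) Nat.card_pos.ne'
          rw [← Units.val_pow_eq_pow_val, ← map_pow, pow_card_eq_one', map_one, Units.val_one]
        rw [Complex.mul_conj, Complex.normSq_eq_norm_sq, h]
        norm_num
      have hS0 : S = 0 := by
        have hshift : conj (l y : ℂ) * c y * S = S := by
          rw [hS, Finset.mul_sum]
          exact Fintype.sum_equiv (Equiv.mulLeft y) _ _ fun z => by
            simp only [Equiv.coe_mulLeft, map_mul, Units.val_mul, hmul]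
            ring
        have hne' : conj (l y : ℂ) * c y ≠ 1 := by
          intro h1
          apply hne
          calc c y = (l y : ℂ) * conj (l y : ℂ) * c y := by rw [hnorm, one_mul]
            _ = (l y : ℂ) := by rw [mul_assoc, h1, mul_one]
        have : (conj (l y : ℂ) * c y - 1) * S = 0 := by rw [sub_mul, one_mul, hshift, sub_self]
        exact (mul_eq_zero.1 this).resolve_left (sub_ne_zero.2 hne')
      calc _ = S * ((χ : H → ℂ) 1 * conj ((χ : H → ℂ) 1)) := by
            rw [hS, Finset.sum_mul]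
            exact Finset.sum_congr rfl fun z _ => by rw [hval z]; ring
        _ = 0 := by rw [hS0, zero_mul]
    intro z g
    rw [hc z g, hl z]
  have hvan : ∀ h : H, h ∉ Z → (χ : H → ℂ) h = 0 := by
    intro h hh
    obtain ⟨g, z, hz, hz1, he⟩ := hg.moved h hh
    have h1 : (χ : H → ℂ) (g * h * g⁻¹) = (χ : H → ℂ) h :=
      IsIrr.classFun χ.2 h g
    rw [he, hsc ⟨z, hz⟩ h] at h1
    have hne : (l ⟨z, hz⟩ : ℂ) ≠ 1 := by
      intro h2
      apply hz1
      have : (⟨z, hz⟩ : Z) = 1 := hg.inj (by rw [map_one]; exact Units.ext h2)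
      exact congrArg Subtype.val this
    by_contra h0
    exact hne (mul_right_cancel₀ h0 (by rw [h1, one_mul]))
  refine ⟨χ, fun h hh => ?_, ?_⟩
  · by_cases hZ : h ∈ Z
    · have h1 := hsc ⟨h, hZ⟩ 1
      rw [mul_one] at h1
      have h2 : (l ⟨h, hZ⟩ : ℂ) = 1 :=
        mul_right_cancel₀ (IsIrr.one_ne_zero χ.2) (by rw [← h1, one_mul, hh])
      have : (⟨h, hZ⟩ : Z) = 1 := hg.inj (by rw [map_one]; exact Units.ext h2)
      exact congrArg Subtype.val this
    · exact absurd (hh.symm.trans (hvan h hZ)) (IsIrr.one_ne_zero χ.2)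
  · obtain ⟨n, -, hn⟩ := IsIrr.one_eq_pos χ.2
    have hnat : charDegree (χ : H → ℂ) = n := by simp [charDegree, hn]
    have hnorm : classInner (χ : H → ℂ) (χ : H → ℂ) = 1 := classInner_self_irr χ.2
    rw [classInner, ← Finset.sum_subset (Finset.subset_univ (Finset.univ.filter (· ∈ Z)))
      (fun h _ hh => by rw [hvan h (by simpa using hh), zero_mul]),
      Finset.sum_congr rfl (g := fun _ => (n : ℂ) * n) fun h hh => ?_] at hnorm
    · rw [Finset.sum_const, nsmul_eq_mul] at hnorm
      have hcard : (Finset.univ.filter (· ∈ Z)).card = Nat.card Z := by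
        rw [← Fintype.card_subtype, Nat.card_eq_fintype_card]
      rw [hcard] at hnorm
      have h1 : ((n ^ 2 * Nat.card Z : ℕ) : ℂ) = (Nat.card H : ℂ) := by
        have h0 : (Nat.card H : ℂ) ≠ 0 := Nat.cast_ne_zero.2 Nat.card_pos.ne'
        rw [Nat.cast_mul, Nat.cast_pow, Nat.card_eq_fintype_card (α := H)] at *
        field_simp at hnorm
        linear_combination hnorm
      have h2 : n ^ 2 * Nat.card Z = Nat.card H := Nat.cast_injective h1
      rw [hnat, hg.center_eq]
      rw [← Z.index_mul_card] at h2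
      exact Nat.eq_of_mul_eq_mul_right Nat.card_pos h2
    · have hz : h ∈ Z := by simpa using hh
      have h1 := hsc ⟨h, hz⟩ 1
      rw [mul_one, hn] at h1
      rw [h1]
      have h : ‖(l ⟨h, hz⟩ : ℂ)‖ = 1 := by
        refine Complex.norm_eq_one_of_pow_eq_one ?_ (n := Nat.card Z) Nat.card_pos.ne'
        rw [← Units.val_pow_eq_pow_val, ← map_pow, pow_card_eq_one', map_one, Units.val_one]
      rw [map_mul, map_natCast, show ∀ a b : ℂ, a * b * (conj a * b) = a * conj a * (b * b) by
        intros; ring, Complex.mul_conj, Complex.normSq_eq_norm_sq, h]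
      norm_num

section Step

variable {H : Type u} [Group H] (p : ℕ) [hp : Fact p.Prime]

/-- The cyclic group of order `p`. -/
abbrev Cyc : Type := Multiplicative (ZMod p)

/-- The product in the field with `p` elements, as a pairing. -/
def pair (a t : Cyc p) : Cyc p := Multiplicative.ofAdd (a.toAdd * t.toAdd)

theorem pair_mul_right (a t t' : Cyc p) : pair p a (t * t') = pair p a t * pair p a t' := by
  simp [pair, ← ofAdd_add, mul_add]

theorem pair_mul_left (a a' t : Cyc p) : pair p (a * a') t = pair p a t * pair p a' t := by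
  simp [pair, ← ofAdd_add, add_mul]

theorem pair_one_left (t : Cyc p) : pair p 1 t = 1 := by simp [pair]

theorem pair_one_right (a : Cyc p) : pair p a 1 = 1 := by simp [pair]

theorem pair_ne_one {a t : Cyc p} (ha : a ≠ 1) (ht : t ≠ 1) : pair p a t ≠ 1 := by
  intro h
  have h1 : a.toAdd * t.toAdd = 0 := by simpa [pair] using h
  rcases mul_eq_zero.1 h1 with h2 | h2
  · exact ha (by simpa using h2)
  · exact ht (by simpa using h2)

variable (H)

/-- The normal part. -/
abbrev Base : Type u := (Cyc p → H) × (Cyc p × Cyc p)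

/-- Shifting the coordinates and moving the last one along the pairing. -/
def act : Cyc p →* MulAut (Base H p) where
  toFun a :=
    { toFun := fun x => (fun k => x.1 (k * a), (x.2.1, x.2.2 * pair p a x.2.1))
      invFun := fun x => (fun k => x.1 (k * a⁻¹), (x.2.1, x.2.2 * pair p a⁻¹ x.2.1))
      left_inv := fun x => by
        simp [mul_assoc, ← pair_mul_left, pair_one_left, Prod.ext_iff]
      right_inv := fun x => by
        simp [mul_assoc, ← pair_mul_left, pair_one_left, Prod.ext_iff]
      map_mul' := fun x y => by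
        simp only [Prod.fst_mul, Prod.snd_mul, pair_mul_right, Prod.mk_mul_mk, Pi.mul_def]
        congr 2
        exact mul_mul_mul_comm _ _ _ _ }
  map_one' := by
    ext x <;> simp [pair_one_left]
  map_mul' a b := by
    ext x <;> simp [pair_mul_left, mul_assoc]
    ac_rfl

/-- The extended group. -/
abbrev Ext : Type u := Base H p ⋊[act H p] Cyc p

theorem ext_mul_left (x y : Ext H p) : (x * y).left =
    (fun k => x.left.1 k * y.left.1 (k * x.right),
      (x.left.2.1 * y.left.2.1, x.left.2.2 * (y.left.2.2 * pair p x.right y.left.2.1))) :=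
  rfl

theorem ext_inv_left (x : Ext H p) : x⁻¹.left =
    (fun k => (x.left.1 (k * x.right⁻¹))⁻¹,
      (x.left.2.1⁻¹, x.left.2.2⁻¹ * pair p x.right⁻¹ x.left.2.1⁻¹)) :=
  rfl

theorem act_apply (a : Cyc p) (x : Base H p) :
    act H p a x = (fun k => x.1 (k * a), (x.2.1, x.2.2 * pair p a x.2.1)) :=
  rfl

variable {H} (Z : Subgroup H)

/-- The elements over the center. -/
def lowC : Subgroup (Ext H p) where
  carrier := {x | x.right = 1 ∧ x.left.2.1 = 1 ∧ ∀ k, x.left.1 k ∈ Z}
  one_mem' := ⟨rfl, rfl, fun _ => Z.one_mem⟩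
  mul_mem' := by
    rintro x y ⟨hx, hx', hx''⟩ ⟨hy, hy', hy''⟩
    refine ⟨by simp [hx, hy], ?_, fun k => ?_⟩
    · simp [-SemidirectProduct.mk_eq_inl_mul_inr, SemidirectProduct.mul_left, hx, hx', hy']
    · simpa [SemidirectProduct.mul_left, hx] using Z.mul_mem (hx'' k) (hy'' k)
  inv_mem' := by
    rintro x ⟨hx, hx', hx''⟩
    refine ⟨by simp [hx], ?_, fun k => ?_⟩
    · simp [SemidirectProduct.inv_left, hx, hx']
    · simpa [SemidirectProduct.inv_left, hx] using Z.inv_mem (hx'' k)

theorem low_left_mul {x y : Ext H p} (hx : x.right = 1) : (x * y).left = x.left * y.left := by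
  simp [-SemidirectProduct.mk_eq_inl_mul_inr, SemidirectProduct.mul_left, hx]

variable (l : Z →* ℂˣ) (om : Cyc p →* ℂˣ)

/-- The character of the elements over the center. -/
def mu : lowC p Z →* ℂˣ where
  toFun x := (∏ k, l ⟨x.1.left.1 k, x.2.2.2 k⟩) * om x.1.left.2.2
  map_one' := by
    simp only [OneMemClass.coe_one, SemidirectProduct.one_left, Prod.fst_one, Prod.snd_one,
      Pi.one_apply, map_one, mul_one]
    exact Finset.prod_eq_one fun k _ => map_one l
  map_mul' x y := by
    have h := low_left_mul p (y := y.1) x.2.1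
    rw [mul_mul_mul_comm, ← Finset.prod_mul_distrib, ← map_mul]
    congr 1
    · refine Finset.prod_congr rfl fun k _ => ?_
      rw [← map_mul]
      congr 1
      exact Subtype.ext (by simp [h])
    · simp [h]

theorem conj_low {x z : Ext H p} (hZ : Z ≤ Subgroup.center H) (hz : z ∈ lowC p Z) :
    x * z * x⁻¹ = ⟨(fun k => z.left.1 (k * x.right), (1, z.left.2.2)), 1⟩ := by
  obtain ⟨hz1, hz2, hz3⟩ := hz
  rw [mul_inv_eq_iff_eq_mul]
  refine SemidirectProduct.ext ?_ (by simp [hz1])
  simp only [SemidirectProduct.mul_left, map_one, MulAut.one_apply]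
  refine Prod.ext (funext fun k => ?_) (Prod.ext ?_ ?_)
  · simpa [act] using (Subgroup.mem_center_iff.1 (hZ (hz3 _)) _)
  · simp [act, hz2]
  · simp [act, hz2, pair_one_right, mul_comm]

theorem exists_good [Finite H] {l : Z →* ℂˣ} (hg : Good H Z l) (G : Type u) [Group G] [Finite G]
    (M : Subgroup G) [M.Normal] (hidx : M.index = p) {f : M →* H ⧸ Subgroup.center H}
    (hf : Function.Injective f)
    (hsq : Squarefree (Nat.card Z))
    (hprime : ∀ r : ℕ, r.Prime → (r ∣ Nat.card H ↔ r ∣ Nat.card M) ∧
      (r ∣ Nat.card Z ↔ r ∣ Nat.card M)) :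
    ∃ (H' : Type u) (_ : Group H') (_ : Finite H') (Z' : Subgroup H') (l' : Z' →* ℂˣ),
      Good H' Z' l' ∧ (∃ f' : G →* H' ⧸ Subgroup.center H', Function.Injective f') ∧
      Squarefree (Nat.card Z') ∧
      ∀ r : ℕ, r.Prime → (r ∣ Nat.card H' ↔ r ∣ Nat.card G) ∧
        (r ∣ Nat.card Z' ↔ r ∣ Nat.card G) := by
  classical
  have hpp : p.Prime := hp.out
  -- the faithful character of the last coordinate
  set om : Cyc p →* ℂˣ :=
    (ZMod.stdAddChar (N := p)).toMonoidHom.toHomUnits with hom
  have homi : Function.Injective om := fun a b h => by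
    have h1 : ZMod.stdAddChar a.toAdd = ZMod.stdAddChar b.toAdd := congrArg Units.val h
    exact Multiplicative.toAdd.injective (ZMod.injective_stdAddChar h1)
  haveI : Finite (Ext H p) := Finite.of_equiv _ SemidirectProduct.equivProd.symm
  set μ := mu p Z l om with hμ
  set K : Subgroup (Ext H p) := μ.ker.map (lowC p Z).subtype with hK
  have hKle : K ≤ lowC p Z := by
    rintro _ ⟨y, -, rfl⟩; exact y.2
  -- invariance
  have hinv : ∀ (x : Ext H p) (z : lowC p Z),
      ∃ w : lowC p Z, (w : Ext H p) = x * z * x⁻¹ ∧ μ w = μ z := by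
    intro x z
    have hc := conj_low p Z hg.central (x := x) z.2
    refine ⟨⟨x * z * x⁻¹, hc ▸ ⟨rfl, rfl, fun k => z.2.2.2 _⟩⟩, rfl, ?_⟩
    show (∏ k, l ⟨_, _⟩) * om _ = (∏ k, l ⟨_, _⟩) * om _
    simp only [hc]
    congr 1
    exact Fintype.prod_equiv (Equiv.mulRight x.right) _ _ fun k => rfl
  haveI : K.Normal := by
    refine ⟨fun y hy x => ?_⟩
    obtain ⟨z, hz, rfl⟩ := hy
    obtain ⟨w, hw, hwz⟩ := hinv x z
    exact ⟨w, by rw [SetLike.mem_coe, MonoidHom.mem_ker, hwz]; exact hz, hw⟩
  set π := QuotientGroup.mk' K with hπ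
  have hπK : ∀ x y : lowC p Z, π x = π y ↔ μ x = μ y := by
    intro x y
    rw [hπ, QuotientGroup.mk'_eq_mk']
    constructor
    · rintro ⟨k, ⟨z, hz, rfl⟩, hk⟩
      have : x * z = y := Subtype.ext hk
      rw [← this, map_mul, MonoidHom.mem_ker.1 hz, mul_one]
    · intro h
      refine ⟨((x⁻¹ * y : lowC p Z) : Ext H p), ⟨x⁻¹ * y, ?_, rfl⟩, by simp⟩
      rw [SetLike.mem_coe, MonoidHom.mem_ker, map_mul, map_inv, h, inv_mul_cancel]
  set Z' := (lowC p Z).map π with hZ'
  set ν : lowC p Z →* Z' := π.subgroupMap (lowC p Z) with hν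
  have hνs : Function.Surjective ν := π.subgroupMap_surjective _
  have hνker : ∀ x : lowC p Z, ν x = 1 ↔ μ x = 1 := by
    intro x
    have := hπK x 1
    simp only [map_one, OneMemClass.coe_one] at this
    rw [← this, ← Subtype.coe_inj]
    rfl
  set l' : Z' →* ℂˣ := ν.liftOfSurjective hνs ⟨μ, fun x hx =>
    MonoidHom.mem_ker.2 ((hνker x).1 (MonoidHom.mem_ker.1 hx))⟩ with hl'
  have hlν : ∀ x, l' (ν x) = μ x := fun x =>
    MonoidHom.liftOfRightInverse_comp_apply _ _ _ _ _
  have hpre : ∀ x : Ext H p, π x ∈ Z' → x ∈ lowC p Z := by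
    rintro x ⟨y, hy, hxy⟩
    rw [hπ, QuotientGroup.mk'_eq_mk'] at hxy
    obtain ⟨k, hk, rfl⟩ := hxy
    exact (lowC p Z).mul_mem hy (hKle hk)
  have hgood : Good (Ext H p ⧸ K) Z' l' := by
    refine ⟨?_, ?_, ?_⟩
    · intro a b hab
      obtain ⟨a, rfl⟩ := hνs a
      obtain ⟨b, rfl⟩ := hνs b
      rw [hlν, hlν] at hab
      exact Subtype.ext ((hπK a b).2 hab)
    · rintro _ ⟨z, hz, rfl⟩
      rw [Subgroup.mem_center_iff]
      intro y
      obtain ⟨x, rfl⟩ := QuotientGroup.mk'_surjective K y
      obtain ⟨w, hw, hwz⟩ := hinv x ⟨z, hz⟩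
      have h1 : π w = π z := (hπK w ⟨z, hz⟩).2 hwz
      rw [← map_mul, ← map_mul, show x * z = (w : Ext H p) * x by rw [hw]; simp, map_mul, h1,
        ← map_mul]
    · intro h hh
      obtain ⟨x, rfl⟩ := QuotientGroup.mk'_surjective K h
      have hx : x ∉ lowC p Z := fun hx => hh ⟨x, hx, rfl⟩
      suffices ∃ g : Ext H p, ∃ z : lowC p Z, μ z ≠ 1 ∧ g * x * g⁻¹ = z * x by
        obtain ⟨g, z, hz, he⟩ := this
        refine ⟨π g, π z, ⟨z, z.2, rfl⟩, fun h1 => hz ?_, ?_⟩
        · rw [← map_one μ]
          exact (hπK z 1).1 (by simpa using h1)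
        · rw [← map_inv, ← map_mul, ← map_mul, he, map_mul]
      obtain ⟨⟨b, t, c⟩, a⟩ := x
      have hone : Multiplicative.ofAdd (1 : ZMod p) ≠ (1 : Cyc p) := by simp
      by_cases ha : a = 1
      · subst ha
        by_cases hb : ∀ k, b k ∈ Z
        · have ht : t ≠ 1 := fun ht => hx ⟨rfl, ht, hb⟩
          set a₀ : Cyc p := Multiplicative.ofAdd 1
          refine ⟨⟨1, a₀⟩, ⟨⟨(fun k => b (k * a₀) * (b k)⁻¹, (1, pair p a₀ t)), 1⟩,
            rfl, rfl, fun k => Z.mul_mem (hb _) (Z.inv_mem (hb _))⟩, ?_, ?_⟩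
          · show (∏ k, l ⟨b (k * a₀) * (b k)⁻¹, _⟩) * om (pair p a₀ t) ≠ 1
            have h1 : (∏ k, l ⟨b (k * a₀) * (b k)⁻¹, Z.mul_mem (hb _) (Z.inv_mem (hb _))⟩) = 1 := by
              rw [show (fun k => l ⟨b (k * a₀) * (b k)⁻¹, Z.mul_mem (hb _) (Z.inv_mem (hb _))⟩)
                = fun k => l ⟨b (k * a₀), hb _⟩ * (l ⟨b k, hb k⟩)⁻¹ from funext fun k => by
                  rw [← map_inv, ← map_mul]; rfl, Finset.prod_mul_distrib, Finset.prod_inv_distrib,
                mul_inv_eq_one]
              exact Fintype.prod_equiv (Equiv.mulRight a₀) _ _ fun k => rfl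
            rw [h1, one_mul]
            exact fun h => pair_ne_one p hone ht (homi (h.trans (map_one om).symm))
          · rw [mul_inv_eq_iff_eq_mul]
            refine SemidirectProduct.ext ?_ (by simp)
            refine Prod.ext (funext fun k => ?_) (Prod.ext ?_ ?_)
            · simp [-SemidirectProduct.mk_eq_inl_mul_inr, act_apply, ext_mul_left, mul_assoc]
            · simp [-SemidirectProduct.mk_eq_inl_mul_inr, act_apply, ext_mul_left]
            · simp [-SemidirectProduct.mk_eq_inl_mul_inr, act_apply, ext_mul_left, mul_comm, pair_one_right]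
        · push Not at hb
          obtain ⟨k, hk⟩ := hb
          obtain ⟨g, z, hz, hz1, he⟩ := hg.moved (b k) hk
          refine ⟨⟨(Pi.mulSingle k g, 1), 1⟩, ⟨⟨(Pi.mulSingle k z, 1), 1⟩, rfl, rfl,
            fun j => ?_⟩, ?_, ?_⟩
          · rcases eq_or_ne j k with rfl | hj
            · simpa using hz
            · simpa [hj] using Z.one_mem
          · show (∏ j, l ⟨Pi.mulSingle (M := fun _ => H) k z j, _⟩) * om 1 ≠ 1
            rw [map_one, mul_one, Finset.prod_eq_single k (fun j _ hj => by
              rw [show (⟨Pi.mulSingle (M := fun _ => H) k z j, _⟩ : Z) = 1 from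
                Subtype.ext (by simp [hj]), map_one]) (fun h => absurd (Finset.mem_univ _) h)]
            intro h1
            have h2 := congrArg Subtype.val (hg.inj (h1.trans (map_one l).symm))
            simp at h2
            exact hz1 h2
          · rw [mul_inv_eq_iff_eq_mul] at he ⊢
            refine SemidirectProduct.ext ?_ (by simp)
            refine Prod.ext (funext fun j => ?_) (by simp [-SemidirectProduct.mk_eq_inl_mul_inr, act_apply, ext_mul_left])
            rcases eq_or_ne j k with rfl | hj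
            · simpa [-SemidirectProduct.mk_eq_inl_mul_inr, act_apply, ext_mul_left, mul_assoc] using he
            · simp [-SemidirectProduct.mk_eq_inl_mul_inr, act_apply, ext_mul_left, hj]
      · refine ⟨⟨(1, (Multiplicative.ofAdd 1, 1)), 1⟩,
          ⟨⟨(1, (1, pair p a (Multiplicative.ofAdd 1)⁻¹)), 1⟩, rfl, rfl, fun _ => Z.one_mem⟩,
          ?_, ?_⟩
        · show (∏ j, l ⟨(1 : Cyc p → H) j, _⟩) * om _ ≠ 1
          rw [Finset.prod_eq_one (fun j _ => by
            rw [show (⟨(1 : Cyc p → H) j, _⟩ : Z) = 1 from Subtype.ext rfl, map_one]), one_mul]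
          exact fun h => pair_ne_one p ha (inv_ne_one.2 hone) (homi (h.trans (map_one om).symm))
        · rw [mul_inv_eq_iff_eq_mul]
          refine SemidirectProduct.ext ?_ (by simp)
          refine Prod.ext (funext fun j => ?_) (Prod.ext ?_ ?_)
          · simp [-SemidirectProduct.mk_eq_inl_mul_inr, act_apply, ext_mul_left]
          · simp [-SemidirectProduct.mk_eq_inl_mul_inr, act_apply, ext_mul_left, mul_comm]
          · simp [-SemidirectProduct.mk_eq_inl_mul_inr, act_apply, ext_mul_left, mul_assoc]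
            rw [mul_left_comm, ← pair_mul_right, inv_mul_cancel, pair_one_right, mul_one]
  refine ⟨Ext H p ⧸ K, inferInstance, inferInstance, Z', l', hgood, ?_, ?_⟩
  · -- the embedding
    haveI : Fact (Nat.card (G ⧸ M)).Prime := ⟨by rw [← Subgroup.index, hidx]; exact hpp⟩
    let e : G ⧸ M ≃* Cyc p := mulEquivOfPrimeCardEq (p := p) (by rw [← Subgroup.index, hidx])
      (by simp)
    let q : G →* Cyc p := e.toMonoidHom.comp (QuotientGroup.mk' M)
    have hq : ∀ g, q g = 1 ↔ g ∈ M := fun g => by simp [q]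
    choose τ hτ using fun k : Cyc p => (e.surjective.comp (QuotientGroup.mk'_surjective M)) k
    have hmem : ∀ g k, τ k * g * (τ (k * q g))⁻¹ ∈ M := fun g k => by
      rw [← hq, map_mul, map_mul, map_inv]
      rw [show q (τ k) = k from hτ k, show q (τ (k * q g)) = k * q g from hτ _]
      exact mul_inv_cancel _
    choose lift hlift using fun x : H ⧸ Subgroup.center H => QuotientGroup.mk'_surjective _ x
    let F : G → Ext H p := fun g =>
      ⟨(fun k => lift (f ⟨τ k * g * (τ (k * q g))⁻¹, hmem g k⟩), 1), q g⟩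
    have hcomp : ∀ g h, π (F g * F h) * (π (F (g * h)))⁻¹ ∈ Subgroup.center (Ext H p ⧸ K) := by
      intro g h
      rw [hgood.center_eq, ← map_inv, ← map_mul]
      refine ⟨_, ?_, rfl⟩
      refine ⟨by simp [F], by simp [-SemidirectProduct.mk_eq_inl_mul_inr, act_apply, F, ext_mul_left, ext_inv_left,
        pair_one_right], fun k => ?_⟩
      have hmap : ∀ a b : H, (QuotientGroup.mk' (Subgroup.center H) a =
          QuotientGroup.mk' (Subgroup.center H) b) → a * b⁻¹ ∈ Z := fun a b hab => by
        rw [← hg.center_eq, ← QuotientGroup.eq_one_iff, ← QuotientGroup.mk'_apply, map_mul, map_inv,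
          hab, mul_inv_cancel]
      simp only [SetLike.mem_coe, F, ext_mul_left, ext_inv_left,
        SemidirectProduct.mul_right, SemidirectProduct.inv_right]
      simp [-SemidirectProduct.mk_eq_inl_mul_inr, act_apply]
      refine hmap _ _ ?_
      rw [map_mul, hlift, hlift, hlift, ← map_mul]
      congr 1
      refine Subtype.ext ?_
      simp [mul_assoc]
    let f' : G →* (Ext H p ⧸ K) ⧸ Subgroup.center (Ext H p ⧸ K) :=
      MonoidHom.mk' (fun g => QuotientGroup.mk' _ (π (F g))) fun g h => by
        symm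
        rw [← map_mul, ← map_mul, map_mul π]
        refine QuotientGroup.eq_iff_div_mem.2 ?_
        rw [div_eq_mul_inv, ← map_mul π]
        exact hcomp g h
    refine ⟨f', (injective_iff_map_eq_one f').2 fun g hg1 => ?_⟩
    have h1 : π (F g) ∈ Z' := by
      rw [← hgood.center_eq, ← QuotientGroup.eq_one_iff]
      exact hg1
    obtain ⟨hq1, -, hz⟩ := hpre _ h1
    have h2 := hz 1
    simp only [F] at hq1 h2
    rw [← hg.center_eq, ← QuotientGroup.eq_one_iff, ← QuotientGroup.mk'_apply, hlift] at h2
    have h3 := congrArg Subtype.val (hf (h2.trans (map_one f).symm))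
    simp only [hq1, mul_one, Subgroup.coe_one] at h3
    simpa using h3
  · -- the orders
    have hcard : Nat.card Z' = Nat.card l'.range :=
      Nat.card_congr (Equiv.ofInjective _ hgood.inj)
    have hpow : ∀ z : Z', l' z ^ Nat.lcm (Nat.card Z) p = 1 := by
      intro z
      obtain ⟨x, rfl⟩ := hνs z
      rw [hlν]
      show ((∏ k, l _) * om _) ^ _ = 1
      rw [mul_pow, ← Finset.prod_pow, ← map_pow om]
      obtain ⟨a, ha⟩ := Nat.dvd_lcm_left (Nat.card Z) p
      obtain ⟨c, hc⟩ := Nat.dvd_lcm_right (Nat.card Z) p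
      rw [Finset.prod_eq_one fun k _ => by rw [← map_pow, ha, pow_mul, pow_card_eq_one', one_pow,
        map_one], hc, pow_mul, show ∀ y : Cyc p, y ^ p = 1 from fun y => by
          simpa using pow_card_eq_one' (x := y), one_pow, map_one, mul_one]
    have hdvd : Nat.card Z' ∣ Nat.lcm (Nat.card Z) p := by
      haveI : Finite l'.range := Finite.of_equiv _ (Equiv.ofInjective _ hgood.inj)
      haveI : IsCyclic l'.range := isCyclic_of_subgroup_isDomain ((Units.coeHom ℂ).comp l'.range.subtype) fun a b h => Subtype.ext (Units.ext h)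
      rw [hcard, ← IsCyclic.exponent_eq_card, Monoid.exponent_dvd_iff_forall_pow_eq_one]
      rintro ⟨_, z, rfl⟩
      exact Subtype.ext (by simpa using hpow z)
    have hZdvd : Nat.card Z ∣ Nat.card Z' := by
      rw [Nat.card_congr (Equiv.ofInjective _ hg.inj), hcard]
      refine Subgroup.card_dvd_of_le (H := l.range) (K := l'.range) ?_
      rintro _ ⟨z, rfl⟩
      have hm : (⟨(Pi.mulSingle 1 (z : H), 1), 1⟩ : Ext H p) ∈ lowC p Z := ⟨rfl, rfl, fun j => by
        rcases eq_or_ne j 1 with rfl | hj
        · simp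
        · simpa [hj] using Z.one_mem⟩
      refine ⟨ν ⟨_, hm⟩, (hlν _).trans ?_⟩
      show (∏ j, l ⟨Pi.mulSingle (M := fun _ => H) 1 (z : H) j, _⟩) * om 1 = l z
      rw [map_one, mul_one, Finset.prod_eq_single 1 (fun j _ hj => by
        rw [show (⟨Pi.mulSingle (M := fun _ => H) 1 (z : H) j, _⟩ : Z) = 1 from
          Subtype.ext (by simp [hj]), map_one]) (fun h => absurd (Finset.mem_univ _) h)]
      congr 1
      exact Subtype.ext (by simp)
    have hpdvd : p ∣ Nat.card Z' := by
      have hle : om.range ≤ l'.range := by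
        rintro _ ⟨c, rfl⟩
        have hm : (⟨(1, (1, c)), 1⟩ : Ext H p) ∈ lowC p Z := ⟨rfl, rfl, fun _ => Z.one_mem⟩
        refine ⟨ν ⟨_, hm⟩, (hlν _).trans ?_⟩
        show (∏ j, l ⟨(1 : Cyc p → H) j, _⟩) * om c = om c
        rw [Finset.prod_eq_one (fun j _ => by
          rw [show (⟨(1 : Cyc p → H) j, _⟩ : Z) = 1 from Subtype.ext rfl, map_one]), one_mul]
      have := Subgroup.card_dvd_of_le hle
      rw [← hcard, show Nat.card om.range = Nat.card (Cyc p) from
        (Nat.card_congr (Equiv.ofInjective _ homi)).symm] at this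
      simpa using this
    refine ⟨?_, fun r hr => ?_⟩
    · refine Squarefree.squarefree_of_dvd hdvd ?_
      rw [Nat.squarefree_iff_factorization_le_one (Nat.lcm_ne_zero Nat.card_pos.ne' hpp.ne_zero)]
      intro q
      rw [Nat.factorization_lcm Nat.card_pos.ne' hpp.ne_zero, Finsupp.sup_apply, max_le_iff]
      exact ⟨hsq.natFactorization_le_one q, hpp.squarefree.natFactorization_le_one q⟩
    · have hG : r ∣ Nat.card G ↔ r ∣ Nat.card M ∨ r = p := by
        rw [← M.index_mul_card, hidx, hr.dvd_mul, Nat.prime_dvd_prime_iff_eq hr hpp, or_comm]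
      have h2 : r ∣ Nat.card M ∨ r = p → r ∣ Nat.card Z' := by
        rintro (h | rfl)
        · exact ((hprime r hr).2.2 h).trans hZdvd
        · exact hpdvd
      have h3 : r ∣ Nat.card (Ext H p ⧸ K) → r ∣ Nat.card M ∨ r = p := by
        intro h
        have h4 := h.trans (Subgroup.card_quotient_dvd_card K)
        rw [SemidirectProduct.card, Nat.card_prod, Nat.card_prod, Nat.card_fun] at h4
        simp only [Nat.card_zmod, Nat.card_congr (Multiplicative.toAdd)] at h4
        rcases hr.dvd_mul.1 h4 with h5 | h5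
        · rcases hr.dvd_mul.1 h5 with h6 | h6
          · exact Or.inl ((hprime r hr).1.1 (hr.dvd_of_dvd_pow h6))
          · exact Or.inr ((Nat.prime_dvd_prime_iff_eq hr hpp).1 (by
              rcases hr.dvd_mul.1 h6 with h7 | h7 <;> exact h7))
        · exact Or.inr ((Nat.prime_dvd_prime_iff_eq hr hpp).1 h5)
      have h5 : r ∣ Nat.card Z' → r ∣ Nat.card (Ext H p ⧸ K) := fun h =>
        h.trans (Subgroup.card_subgroup_dvd_card _)
      rw [hG]
      exact ⟨⟨h3, fun h => h5 (h2 h)⟩, ⟨fun h => h3 (h5 h), h2⟩⟩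

end Step

/-- Solvable groups. -/
theorem exists_ext (n : ℕ) : ∀ (G : Type u) [Group G] [Finite G], Nat.card G = n →
    Group.IsSolvable G →
    ∃ (H : Type u) (_ : Group H) (_ : Finite H) (Z : Subgroup H) (l : Z →* ℂˣ),
      Good H Z l ∧ (∃ f : G →* H ⧸ Subgroup.center H, Function.Injective f) ∧
      Squarefree (Nat.card Z) ∧
      ∀ r : ℕ, r.Prime → (r ∣ Nat.card H ↔ r ∣ Nat.card G) ∧ (r ∣ Nat.card Z ↔ r ∣ Nat.card G) := by
  induction n using Nat.strong_induction_on with
  | _ n ih =>
    intro G _ _ hn hsolv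
    classical
    rcases subsingleton_or_nontrivial G with hs | hs
    · refine ⟨PUnit, inferInstance, inferInstance, ⊤, 1, ⟨?_, ?_, ?_⟩, ⟨1, fun a b _ => Subsingleton.elim a b⟩, ?_, ?_⟩
      · intro a b _; exact Subsingleton.elim a b
      · intro a _; rw [Subgroup.mem_center_iff]; intro b; exact Subsingleton.elim _ _
      · intro h hh; exact absurd (Subgroup.mem_top h) hh
      · simp
      · intro r hr
        simp
    · have hlt := IsSolvable.commutator_lt_top_of_nontrivial G
      obtain ⟨M, hM, hle⟩ := (eq_top_or_exists_le_coatom (commutator G)).resolve_left hlt.ne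
      haveI hMn : M.Normal := ⟨fun m hm g => by
        have : g * m * g⁻¹ * m⁻¹ ∈ M := hle (Subgroup.commutator_mem_commutator (Subgroup.mem_top g) (Subgroup.mem_top m))
        simpa using M.mul_mem this hm⟩
      haveI hsimple : IsSimpleGroup (G ⧸ M) := by
        haveI : Nontrivial (G ⧸ M) := QuotientGroup.nontrivial_iff.2 hM.1
        refine ⟨fun N hN => ?_⟩
        have hle' : M ≤ N.comap (QuotientGroup.mk' M) := fun m hm => by
          rw [Subgroup.mem_comap, QuotientGroup.mk'_apply, (QuotientGroup.eq_one_iff m).2 hm]; exact N.one_mem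
        rcases hM.le_iff.1 hle' with h | h
        · right
          rw [← Subgroup.map_comap_eq_self_of_surjective (QuotientGroup.mk'_surjective M) N, h,
            Subgroup.map_top_of_surjective _ (QuotientGroup.mk'_surjective M)]
        · left
          rw [← Subgroup.map_comap_eq_self_of_surjective (QuotientGroup.mk'_surjective M) N, h,
            QuotientGroup.map_mk'_self]
      letI : CommGroup (G ⧸ M) :=
        { (inferInstance : Group (G ⧸ M)) with
          mul_comm := fun a b => by
            obtain ⟨a, rfl⟩ := QuotientGroup.mk'_surjective M a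
            obtain ⟨b, rfl⟩ := QuotientGroup.mk'_surjective M b
            rw [← map_mul, ← map_mul, QuotientGroup.mk'_apply, QuotientGroup.mk'_apply,
              QuotientGroup.eq_iff_div_mem, div_eq_mul_inv]
            refine hle ?_
            rw [show a * b * (b * a)⁻¹ = a * b * a⁻¹ * b⁻¹ by group]
            exact Subgroup.commutator_mem_commutator (Subgroup.mem_top a) (Subgroup.mem_top b) }
      have hp : M.index.Prime := IsSimpleGroup.prime_card (α := G ⧸ M)
      haveI : Fact M.index.Prime := ⟨hp⟩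
      have hlt' : Nat.card M < n := by
        rw [← hn, ← M.index_mul_card]
        exact lt_mul_of_one_lt_left Nat.card_pos hp.one_lt
      obtain ⟨H, _, _, Z, l, hgood, ⟨f, hf⟩, hsq, hpr⟩ :=
        ih _ hlt' M rfl (solvable_of_solvable_injective (f := M.subtype) M.subtype_injective)
      exact exists_good M.index Z hgood G M rfl hf hsq hpr

end Cfsg.Agent.Char.RamEmb
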