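import Cfsg.Agent.Lib.Char.RankOneBasic
import Cfsg.Agent.Lib.Char.SectionOrbit
import Cfsg.Agent.Lib.Char.PairCyclicLocal

/-!
Blocks of regular rank one with at most four characters are nilpotent.
-/

namespace Cfsg.Agent.Char.Spec

open Cfsg.Agent.Block Cfsg.Agent.Char.BP

set_option linter.unusedSectionVars false
set_option linter.style.haveILetI false

universe u

variable {G : Type u} [Group G] [Fintype G] {p : ℕ} {M : Ideal AlgInt}
variable {B : Set (IrrCharacter G)} {P : Subgroup G} {e : Set (IrrCharacter (CG P))}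

/-- The inertial group of a maximal pair with abelian group of order at most four. -/
theorem small_inertial [Fact p.Prime] (hM : IsPModular p M)
    (hx : IsMx p M B (⟨P, e⟩ : BrauerPairIdx G)) (hab : ∀ v ∈ P, ∀ w ∈ P, v * w = w * v)
    (hcard : Nat.card P = 2 ∨ Nat.card P = 3 ∨ (p = 2 ∧ Nat.card P = 4)) :
    (∀ g ∈ stab (⟨P, e⟩ : BrauerPairIdx G), ∀ v ∈ P, v ≠ 1 → g * v * g⁻¹ = v → g ∈ CG P) ∧
      (stab (⟨P, e⟩ : BrauerPairIdx G) ≤ CG P ∨ (2 < Nat.card P ∧ ∀ v ∈ P, v ≠ 1 → ∀ w ∈ P, w ≠ 1 →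
        ∃ g ∈ stab (⟨P, e⟩ : BrauerPairIdx G), g * v * g⁻¹ = w)) := by
  classical
  set T := stab (⟨P, e⟩ : BrauerPairIdx G) with hT
  set Pf := Finset.univ.filter (· ∈ P) with hPf
  have hPc : Pf.card = Nat.card P := by rw [Nat.card_eq_fintype_card, Fintype.card_subtype]
  have hmem : ∀ {g : G}, g ∈ T → ∀ {v : G}, v ∈ P → g * v * g⁻¹ ∈ P := fun {g} hg {v} hv =>
    (Subgroup.mem_normalizer_iff.1 (stab_le_normalizer _ hg) v).1 hv
  -- elements whose square centralizes
  have hsq : p = 2 → ∀ g ∈ T, g * g ∈ CG P → g ∈ CG P := by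
    rintro rfl g hg hgg
    haveI : ((CG P).subgroupOf T).Normal :=
      (Subgroup.normal_subgroupOf_iff_le_normalizer (cg_le_stab (⟨P, e⟩ : BrauerPairIdx G))).2
        ((stab_le_normalizer _).trans fun u hu => mem_normalizer_cg hu)
    have h2 : (QuotientGroup.mk ⟨g, hg⟩ : T ⧸ (CG P).subgroupOf T) ^ 2 = 1 := by
      rw [← QuotientGroup.mk_pow, QuotientGroup.eq_one_iff, Subgroup.mem_subgroupOf]
      simpa [pow_two] using hgg
    have h3 := orderOf_dvd_natCard (QuotientGroup.mk ⟨g, hg⟩ : T ⧸ (CG P).subgroupOf T)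
    rw [← Subgroup.index_eq_card] at h3
    have h4 : ¬ 2 ∣ (CG P).relIndex T := not_dvd_relIndex hM hx hab
    have h5 : orderOf (QuotientGroup.mk ⟨g, hg⟩ : T ⧸ (CG P).subgroupOf T) = 1 := by
      rcases (Nat.dvd_prime Nat.prime_two).1 (orderOf_dvd_of_pow_eq_one h2) with h | h
      · exact h
      · exact absurd (h ▸ h3) h4
    rw [orderOf_eq_one_iff, QuotientGroup.eq_one_iff, Subgroup.mem_subgroupOf] at h5
    exact h5
  have hfree : ∀ g ∈ T, ∀ v ∈ P, v ≠ 1 → g * v * g⁻¹ = v → g ∈ CG P := by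
    intro g hg v hv hv1 hgv
    by_cases hall : ∀ w ∈ P, g * w * g⁻¹ = w
    · exact Subgroup.mem_centralizer_iff.2 fun w hw => by
        conv_lhs => rw [← hall w hw]
        group
    push Not at hall
    obtain ⟨w, hw, hgw⟩ := hall
    have h4 : ({1, v, w, g * w * g⁻¹} : Finset G).card = 4 := by
      have a1 : w ≠ 1 := fun h => hgw (by rw [h]; simp)
      have a2 : w ≠ v := fun h => hgw (by rw [h]; exact hgv)
      have a3 : g * w * g⁻¹ ≠ 1 := fun h => a1 (by simpa using h)
      have a4 : g * w * g⁻¹ ≠ v := fun h => a2 (by simpa using h.trans hgv.symm)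
      rw [Finset.card_eq_four]
      exact ⟨1, v, w, g * w * g⁻¹, Ne.symm hv1, a1.symm, a3.symm, a2.symm, a4.symm, hgw.symm, rfl⟩
    have hsub : ({1, v, w, g * w * g⁻¹} : Finset G) ⊆ Pf := by
      intro z hz
      simp only [Finset.mem_insert, Finset.mem_singleton] at hz
      refine Finset.mem_filter.2 ⟨Finset.mem_univ _, ?_⟩
      rcases hz with rfl | rfl | rfl | rfl
      exacts [one_mem P, hv, hw, hmem hg hw]
    have hle := Finset.card_le_card hsub
    rw [h4, hPc] at hle
    obtain ⟨hp2, hP4⟩ : p = 2 ∧ Nat.card P = 4 := by rcases hcard with h | h | h <;> omega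
    have hEq := Finset.eq_of_subset_of_card_le hsub (by rw [h4, hPc, hP4])
    refine hsq hp2 g hg (Subgroup.mem_centralizer_iff.2 fun z hz => ?_)
    suffices hz' : g * g * z * (g * g)⁻¹ = z by
      conv_lhs => rw [← hz']
      group
    have hz'' : z ∈ ({1, v, w, g * w * g⁻¹} : Finset G) :=
      hEq ▸ Finset.mem_filter.2 ⟨Finset.mem_univ _, hz⟩
    have e : ∀ y : G, g * g * y * (g * g)⁻¹ = g * (g * y * g⁻¹) * g⁻¹ := fun y => by group
    have hw2 : g * (g * w * g⁻¹) * g⁻¹ = w := by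
      have hin : g * (g * w * g⁻¹) * g⁻¹ ∈ ({1, v, w, g * w * g⁻¹} : Finset G) :=
        hEq ▸ Finset.mem_filter.2 ⟨Finset.mem_univ _, hmem hg (hmem hg hw)⟩
      simp only [Finset.mem_insert, Finset.mem_singleton] at hin
      rcases hin with h | h | h | h
      · exact absurd (show w = 1 by simpa using h) fun h => hgw (by rw [h]; simp)
      · have h' : g * w * g⁻¹ = v := by simpa using h.trans hgv.symm
        exact absurd (show w = v by simpa using h'.trans hgv.symm) fun h => hgw (by rw [h]; exact hgv)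
      · exact h
      · exact absurd (show g * w * g⁻¹ = w by simpa using h) hgw
    simp only [Finset.mem_insert, Finset.mem_singleton] at hz''
    rcases hz'' with rfl | rfl | rfl | rfl
    · simp
    · rw [e, hgv, hgv]
    · rw [e, hw2]
    · rw [e, hw2]
  refine ⟨hfree, ?_⟩
  by_cases hle : T ≤ CG P
  · exact Or.inl hle
  obtain ⟨g, hg, hgn⟩ := SetLike.not_le_iff_exists.1 hle
  refine Or.inr ⟨?_, fun v hv hv1 w hw hw1 => ?_⟩
  · obtain ⟨v, hv1⟩ := Subgroup.ne_bot_iff_exists_ne_one.1 (fun h : P = ⊥ => by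
      rcases hcard with h' | h' | ⟨-, h'⟩ <;> simp [h] at h')
    have hv1' : (v : G) ≠ 1 := fun h => hv1 (Subtype.ext h)
    have hne : g * v * g⁻¹ ≠ v := fun h => hgn (hfree g hg v v.2 hv1' h)
    have hsub : ({1, (v : G), g * v * g⁻¹} : Finset G) ⊆ Pf := by
      intro z hz
      simp only [Finset.mem_insert, Finset.mem_singleton] at hz
      refine Finset.mem_filter.2 ⟨Finset.mem_univ _, ?_⟩
      rcases hz with rfl | rfl | rfl
      exacts [one_mem P, v.2, hmem hg v.2]
    have h3 : ({1, (v : G), g * v * g⁻¹} : Finset G).card = 3 :=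
      Finset.card_eq_three.2 ⟨1, v, g * v * g⁻¹, hv1'.symm,
        fun h => hv1' (by simpa using h.symm), hne.symm, rfl⟩
    have := Finset.card_le_card hsub
    omega
  by_cases hwv : w = v
  · exact ⟨1, one_mem T, by rw [hwv]; simp⟩
  by_cases hwg : g * v * g⁻¹ = w
  · exact ⟨g, hg, hwg⟩
  refine ⟨g * g, mul_mem hg hg, ?_⟩
  set u := g * v * g⁻¹ with hu
  have huv : u ≠ v := fun h => hgn (hfree g hg v hv hv1 h)
  have hu1 : u ≠ 1 := fun h => hv1 (by simpa [hu] using h)
  have h4 : ({1, v, u, w} : Finset G).card = 4 := by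
    rw [Finset.card_eq_four]
    exact ⟨1, v, u, w, Ne.symm hv1, hu1.symm, Ne.symm hw1, huv.symm, Ne.symm hwv, hwg, rfl⟩
  have hsub : ({1, v, u, w} : Finset G) ⊆ Pf := by
    intro z hz
    simp only [Finset.mem_insert, Finset.mem_singleton] at hz
    refine Finset.mem_filter.2 ⟨Finset.mem_univ _, ?_⟩
    rcases hz with rfl | rfl | rfl | rfl
    exacts [one_mem P, hv, hmem hg hv, hw]
  have hle4 := Finset.card_le_card hsub
  rw [h4, hPc] at hle4
  obtain ⟨hp2, hP4⟩ : p = 2 ∧ Nat.card P = 4 := by rcases hcard with h | h | h <;> omega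
  have hEq := Finset.eq_of_subset_of_card_le hsub (by rw [h4, hPc, hP4])
  have hin : g * u * g⁻¹ ∈ ({1, v, u, w} : Finset G) :=
    hEq ▸ Finset.mem_filter.2 ⟨Finset.mem_univ _, hmem hg (hmem hg hv)⟩
  have e : g * g * v * (g * g)⁻¹ = g * u * g⁻¹ := by rw [hu]; group
  rw [e]
  simp only [Finset.mem_insert, Finset.mem_singleton] at hin
  rcases hin with h | h | h | h
  · exact absurd (show u = 1 by simpa using h) hu1
  · exact absurd (hsq hp2 g hg (hfree _ (mul_mem hg hg) v hv hv1 (e.trans h))) hgn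
  · exact absurd (show u = v by rw [hu] at h ⊢; simpa using h) huv
  · exact h

/-- A block of rank one with at most four characters is nilpotent. -/
theorem nilpotent_of_rank_one_small [DecidableEq G] [Fact p.Prime] (hM : IsPModular p M)
    (hB : IsPBlock M B) {D : Subgroup G} (hD : IsDefectGroup p M B D) (hD1 : D ≠ ⊥)
    (hl : blockRank p B = 1) (hk : Nat.card B ≤ 4) :
    IsNilpotentBlock p M B ∧ Nat.card D = Nat.card B ∧ (p = 2 ∨ p = 3) := by
  have hp : p.Prime := Fact.out
  have hcD := card_defectGroup hM hB hD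
  have hq := Res.pow_defect_eq_card hM hB hD hl hk
  set d := blockDefect p B
  have hd : d ≠ 0 := fun h => hD1 (Subgroup.card_eq_one.1 (by rw [hcD, h, pow_zero]))
  have hple : p ≤ 4 := by
    have : p ^ 1 ≤ p ^ d := Nat.pow_le_pow_right hp.pos (Nat.one_le_iff_ne_zero.2 hd)
    rw [pow_one] at this
    omega
  have hp23 : p = 2 ∨ p = 3 := by
    have := hp.two_le
    rcases (show p = 2 ∨ p = 3 ∨ p = 4 by omega) with h | h | h
    · exact Or.inl h
    · exact Or.inr h
    · exact absurd (h ▸ hp) (by norm_num)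
  have hd2 : d ≤ 2 := by
    by_contra hlt
    have h8 : 2 ^ 3 ≤ p ^ d :=
      (Nat.pow_le_pow_left hp.two_le 3).trans (Nat.pow_le_pow_right hp.pos (by omega))
    omega
  have hcard : Nat.card D = 2 ∨ Nat.card D = 3 ∨ (p = 2 ∧ Nat.card D = 4) := by
    rw [hcD]
    rcases hp23 with rfl | rfl <;> rcases (show d = 1 ∨ d = 2 by omega) with h | h <;> rw [h]
    · exact Or.inl (by norm_num)
    · exact Or.inr (Or.inr ⟨rfl, by norm_num⟩)
    · exact Or.inr (Or.inl (by norm_num))
    · rw [h] at hq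
      rw [show (3 : ℕ) ^ 2 = 9 by norm_num] at hq
      omega
  have hab : ∀ v ∈ D, ∀ w ∈ D, v * w = w * v := by
    intro v hv w hw
    have : ∀ a b : D, a * b = b * a := by
      rcases (show d = 1 ∨ d = 2 by omega) with h | h
      · rw [h, pow_one] at hcD
        haveI := isCyclic_of_prime_card hcD
        exact fun a b => (IsCyclic.commutative (α := D)).is_comm.comm a b
      · rw [h] at hcD
        exact fun a b => (IsPGroup.commGroupOfCardEqPrimeSq hcD).mul_comm a b
    exact congrArg Subtype.val (this ⟨v, hv⟩ ⟨w, hw⟩)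
  obtain ⟨χ, hχ, h0⟩ := exists_height_zero hM hB
  obtain ⟨i, e, -, hmx, -, -⟩ := exists_source hM hB hχ h0 hD
  obtain ⟨hfree, hT⟩ := small_inertial hM hmx hab hcard
  refine ⟨(nilpotent_iff_inertial hM hmx hab).2 ?_, hcD.trans hq, hp23⟩
  rcases hT with h | ⟨h2, htr⟩
  · exact h
  · exfalso
    have := card_le_of_transitive hM hB hmx hab hfree htr
    rw [hcD, hq] at h2
    omega

end Cfsg.Agent.Char.Spec
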