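import Cfsg.Agent.Lib.Char.RealOddAux

/-!
When all irreducible characters of odd degree are real-valued.
-/

set_option autoImplicit false

namespace Cfsg.Agent.Char.RealOdd

open scoped ComplexConjugate
open Cfsg Cfsg.Agent.Char

universe u

variable {G : Type u} [Group G] [Finite G]

/-- All irreducible characters of odd degree are real. -/
def AllReal (G : Type u) [Group G] : Prop :=
  ∀ χ : G → ℂ, IsIrrCharacter G χ → (∃ d : ℕ, Odd d ∧ χ 1 = d) → ∀ g, conj (χ g) = χ g

theorem AllReal.quotient (h : AllReal G) (M : Subgroup G) [M.Normal] : AllReal (G ⧸ M) := by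
  intro χ hχ hd q
  obtain ⟨g, rfl⟩ := QuotientGroup.mk_surjective q
  exact h (fun x => χ (x : G ⧸ M))
    (IsIrr.comp_surjective (QuotientGroup.mk' M) (QuotientGroup.mk'_surjective M) hχ) hd g

theorem factor_hom (M : Subgroup G) [M.Normal] {P : Subgroup G} {e : P →* ℂˣ}
    (hker : ∀ x : P, (x : G) ∈ M → e x = 1) :
    ∃ eb : P.map (QuotientGroup.mk' M) →* ℂˣ, ∀ x, eb (sM M P x) = e x := by
  have hle : (sM M P).ker ≤ e.ker := by
    intro x hx
    refine hker x ((QuotientGroup.eq_one_iff (x : G)).1 ?_)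
    rw [← coe_sM M P x, MonoidHom.mem_ker.1 hx]
    rfl
  exact ⟨(sM M P).liftOfSurjective (sM_surjective M P) ⟨e, hle⟩,
    fun x => MonoidHom.liftOfRightInverse_comp_apply _ _ _ _ x⟩

/-- A Sylow `2`-subgroup is self-normalizing when all characters of odd degree are real. -/
theorem normalizer_le : ∀ (n : ℕ) (G : Type u) [Group G] [Finite G], Nat.card G = n →
    Group.IsSolvable G → AllReal G → ∀ P : Subgroup G, IsSyl P →
      Subgroup.normalizer (P : Set G) ≤ P := by
  intro n
  induction n using Nat.strong_induction_on with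
  | _ n IH =>
    intro G _ _ hn hsolv hall P hS
    classical
    rcases subsingleton_or_nontrivial G with hsub | hnt
    · intro x _
      rw [Subsingleton.elim x 1]
      exact P.one_mem
    obtain ⟨M, hMn, hMne, -, hMmin⟩ := Grp.exists_minimal_normal_le (N := (⊤ : Subgroup G))
      (fun h => (not_subsingleton G) (Subgroup.subsingleton_iff.1 (subsingleton_of_bot_eq_top h.symm)))
    haveI := hMn
    obtain ⟨hMc, q, hq, hpow⟩ := Grp.minimal_normal_solvable (N := M) inferInstance hMne hMmin
    have hcomm : ∀ a b : M, a * b = b * a := fun a b => hMc.1.comm a b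
    intro x hx
    have hxq : QuotientGroup.mk' M x ∈ P.map (QuotientGroup.mk' M) := by
      refine IH _ (hn ▸ Grp.card_quotient_lt hMne) (G ⧸ M) rfl inferInstance (hall.quotient M)
        _ (hS.map_mk M) ?_
      exact Subgroup.le_normalizer_map _ (Subgroup.mem_map_of_mem _ hx)
    obtain ⟨y, hy, hyx⟩ := hxq
    have hm : y⁻¹ * x ∈ M := QuotientGroup.eq.1 hyx
    suffices h : y⁻¹ * x ∈ P by simpa using P.mul_mem hy h
    by_cases hq2 : q = 2
    · subst hq2
      exact (hS.le_of_normal fun z => ⟨1, by rw [pow_one]; exact Subtype.ext (hpow z z.2)⟩) hm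
    suffices h : y⁻¹ * x = 1 by rw [h]; exact P.one_mem
    by_contra hne
    have hodd := odd_card_of_exponent hq hq2 hpow
    have hnorm : y⁻¹ * x ∈ Subgroup.normalizer (P : Set G) :=
      Subgroup.mul_mem _ (Subgroup.inv_mem _ (Subgroup.le_normalizer hy)) hx
    have hdisj : M ⊓ P = ⊥ := (Subgroup.eq_bot_iff_forall _).2 fun z hz =>
      congrArg Subtype.val (eq_one_of_two_group hS.isPGroup hq hq2 ⟨z, hz.2⟩ (hpow z hz.1))
    set c : M := ⟨y⁻¹ * x, hm⟩ with hcdef
    have hfix : ∀ z ∈ P, z * (c : G) * z⁻¹ = c := by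
      intro z hz
      have h1 : (c : G)⁻¹ * (z * c * z⁻¹) ∈ M ⊓ P := by
        refine ⟨M.mul_mem (M.inv_mem c.2) (hMn.conj_mem _ c.2 z), ?_⟩
        have h2 := (Subgroup.mem_normalizer_iff.1 (Subgroup.inv_mem _ hnorm) z).1 hz
        rw [show (c : G)⁻¹ * (z * c * z⁻¹) =
          ((y⁻¹ * x)⁻¹ * z * ((y⁻¹ * x)⁻¹)⁻¹) * z⁻¹ by rw [hcdef]; group]
        exact P.mul_mem h2 (P.inv_mem hz)
      rw [hdisj, Subgroup.mem_bot, inv_mul_eq_one] at h1
      exact h1.symm
    obtain ⟨L, hLc, hLinv⟩ := exists_invariant_linear M hcomm hodd hS.isPGroup (c := c)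
      (fun h => hne (congrArg Subtype.val h)) hfix
    obtain ⟨μ, hμ⟩ := exists_extension_linear M hdisj L hLinv
    obtain ⟨χ, hχ, hd, hne'⟩ := exists_odd_over (M ⊔ P)
      (hS.odd_index.of_dvd_nat (Subgroup.index_dvd_of_le le_sup_right)) μ
    have hker := kill_odd M hcomm hodd (χ := χ) ⟨hχ, hall χ hχ hd, hd⟩
    have hover : ip (fun m : M => χ m) (fun m : M => (L m : ℂ)) ≠ 0 := by
      refine ip_hom_ne_zero (Subgroup.inclusion (le_sup_left : M ≤ M ⊔ P))
        (φ := fun x : (M ⊔ P : Subgroup G) => (μ x : ℂ))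
        (IsChar.res (IsIrr.isCharacter hχ) _) (isIrr_linear μ) hne'
        (IsIrr.isCharacter (isIrr_linear L)) ?_
      rw [show (fun h : M => ((μ (Subgroup.inclusion le_sup_left h) : ℂˣ) : ℂ)) =
        fun m : M => (L m : ℂ) from funext fun m => by rw [← hμ]; rfl, ip_self (isIrr_linear L)]
      exact one_ne_zero
    refine hover ?_
    haveI := Fintype.ofFinite M
    have hsum := linear_sum L (fun h => hLc (by rw [h]; rfl))
    rw [ip_eq, show (fun m : M => χ m) = fun _ : M => χ 1 from funext fun m => hker m m.2]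
    simp only [classInner]
    rw [← Finset.mul_sum, ← map_sum, hsum, map_zero, mul_zero, mul_zero]

/-- A linear character of order above two of a Sylow `2`-subgroup yields a non-real character. -/
theorem exists_nonreal : ∀ (n : ℕ) (G : Type u) [Group G] [Finite G], Nat.card G = n →
    Group.IsSolvable G → ∀ P : Subgroup G, IsSyl P → ∀ e : P →* ℂˣ, (∃ x, e x * e x ≠ 1) →
      ∃ χ : G → ℂ, IsIrrCharacter G χ ∧ (∃ d : ℕ, Odd d ∧ χ 1 = d) ∧
        ip (fun x : P => χ x) (fun x : P => (e x : ℂ)) ≠ 0 ∧ ∃ g, conj (χ g) ≠ χ g := by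
  intro n
  induction n using Nat.strong_induction_on with
  | _ n IH =>
    intro G _ _ hn hsolv P hS e hns
    classical
    obtain ⟨x₀, hx₀⟩ := hns
    have hnt : Nontrivial G := by
      rcases subsingleton_or_nontrivial G with hsub | hnt
      · exact absurd (by rw [Subsingleton.elim x₀ 1, map_one, one_mul]) hx₀
      · exact hnt
    obtain ⟨M, hMn, hMne, -, hMmin⟩ := Grp.exists_minimal_normal_le (N := (⊤ : Subgroup G))
      (fun h => (not_subsingleton G) (Subgroup.subsingleton_iff.1 (subsingleton_of_bot_eq_top h.symm)))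
    haveI := hMn
    obtain ⟨hMc, q, hq, hpow⟩ := Grp.minimal_normal_solvable (N := M) inferInstance hMne hMmin
    have hquot : ∀ f : P →* ℂˣ, (∀ x : P, (x : G) ∈ M → f x = 1) → f x₀ * f x₀ ≠ 1 →
        ∃ χ : G → ℂ, IsIrrCharacter G χ ∧ (∃ d : ℕ, Odd d ∧ χ 1 = d) ∧
          ip (fun x : P => χ x) (fun x : P => (f x : ℂ)) ≠ 0 ∧ ∃ g, conj (χ g) ≠ χ g := by
      intro f hf hf0
      obtain ⟨fb, hfb⟩ := factor_hom M hf
      obtain ⟨χ, hχ, hd, hne, g, hg⟩ := IH _ (hn ▸ Grp.card_quotient_lt hMne) (G ⧸ M) rfl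
        inferInstance _ (hS.map_mk M) fb ⟨sM M P x₀, by rw [hfb]; exact hf0⟩
      refine ⟨fun y => χ (y : G ⧸ M),
        IsIrr.comp_surjective (QuotientGroup.mk' M) (QuotientGroup.mk'_surjective M) hχ, hd, ?_, ?_⟩
      · rw [← ip_comp_surjective (sM M P) (sM_surjective M P)] at hne
        simpa only [coe_sM, hfb] using hne
      · obtain ⟨y, rfl⟩ := QuotientGroup.mk_surjective g
        exact ⟨y, hg⟩
    by_cases hq2 : q = 2
    swap
    · exact hquot e (fun x hx => by
        rw [eq_one_of_two_group hS.isPGroup hq hq2 x (hpow _ hx), map_one]) hx₀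
    subst hq2
    have hMP : M ≤ P := hS.le_of_normal fun z => ⟨1, by rw [pow_one]; exact Subtype.ext (hpow z z.2)⟩
    set l := e.comp (Subgroup.inclusion hMP) with hldef
    have hl : ∀ m, l m * l m = 1 := fun m => by
      rw [← map_mul, ← sq, show m ^ 2 = 1 from Subtype.ext (hpow m m.2), map_one]
    have hPT := le_inertia_res M hMP e
    by_cases hTtop : inertia M (fun m : M => (l m : ℂ)) = ⊤
    · haveI := Fintype.ofFinite G
      obtain ⟨φ, hφ, ⟨d, hd, h1⟩, hne⟩ := exists_odd_over P hS.odd_index e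
      by_cases hreal : ∀ g, conj (φ g) = φ g
      swap
      · push Not at hreal
        exact ⟨φ, hφ, ⟨d, hd, h1⟩, hne, hreal⟩
      have hover : ip (fun m : M => φ m) (fun m : M => (l m : ℂ)) ≠ 0 :=
        ip_hom_ne_zero (Subgroup.inclusion hMP) (φ := fun x : P => (e x : ℂ))
          (IsChar.res (IsIrr.isCharacter hφ) P) (isIrr_linear e) hne
          (η := fun m : M => (l m : ℂ)) (IsIrr.isCharacter (isIrr_linear l)) (by
            rw [show (fun h : M => ((e (Subgroup.inclusion hMP h) : ℂˣ) : ℂ)) =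
              fun m : M => (l m : ℂ) from rfl, ip_self (isIrr_linear l)]
            exact one_ne_zero)
      obtain ⟨μ, hμl, -, hμr⟩ := exists_det_ext M hl hφ hd h1 hover hTtop
      have hμ := hμr hreal
      obtain ⟨χ, hχ, ⟨k, hk, hk1⟩, hχne, g, hg⟩ := hquot (μ.comp P.subtype * e) (fun x hx => by
          show μ (x : G) * e x = 1
          rw [hμl ⟨x, hx⟩]
          exact hl ⟨x, hx⟩) (by
          show μ (x₀ : G) * e x₀ * (μ (x₀ : G) * e x₀) ≠ 1
          rw [mul_mul_mul_comm, hμ, one_mul]
          exact hx₀)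
      refine ⟨fun g => (μ g : ℂ) * χ g, IsIrr.mul_linear hχ μ, ⟨k, hk, by
        show (μ 1 : ℂ) * χ 1 = k
        rw [map_one, Units.val_one, one_mul, hk1]⟩, ?_, g, ?_⟩
      · refine ne_of_eq_of_ne ?_ hχne
        refine Eq.trans ?_ (ip_mul_linear (fun x : P => χ x)
          (fun x : P => ((μ.comp P.subtype * e) x : ℂ)) (μ.comp P.subtype))
        congr 1
        funext x
        show _ = (μ (x : G) : ℂ) * ((μ (x : G) * e x : ℂˣ) : ℂ)
        rw [← Units.val_mul, ← mul_assoc, hμ, one_mul]
      · rw [map_mul, linear_real μ hμ]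
        exact fun h => hg (mul_left_cancel₀ (μ g).ne_zero h)
    · set T := inertia M (fun m : M => (l m : ℂ)) with hTdef
      haveI := Fintype.ofFinite G
      haveI := Fintype.ofFinite M
      haveI := Fintype.ofFinite T
      have hMT : M ≤ T := hMP.trans hPT
      have hθ : IsIrrCharacter M (fun m : M => (l m : ℂ)) := isIrr_linear l
      obtain ⟨ψ, hψ, ⟨d, hd, h1⟩, hψne, t, ht⟩ := IH _ (hn ▸ Grp.card_lt_of_ne_top hTtop) T rfl
        inferInstance _ (hS.subgroupOf hPT) (epsT hPT e)
        ⟨(Subgroup.subgroupOfEquivOfLe hPT).symm x₀, by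
          simp only [epsT, MonoidHom.comp_apply, MulEquiv.coe_toMonoidHom, MulEquiv.apply_symm_apply]
          exact hx₀⟩
      have hψP : ip (fun x : P => ψ ⟨x, hPT x.2⟩) (fun x : P => (e x : ℂ)) ≠ 0 := by
        rw [← ip_comp_surjective (Subgroup.subgroupOfEquivOfLe hPT).toMonoidHom
          (Subgroup.subgroupOfEquivOfLe hPT).surjective]
        exact hψne
      have hψθ : ip (fun m : M => ψ ⟨m, hMT m.2⟩) (fun m : M => (l m : ℂ)) ≠ 0 :=
        ip_hom_ne_zero (Subgroup.inclusion hMP) (Ψ := fun x : P => ψ ⟨x, hPT x.2⟩)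
          (φ := fun x : P => (e x : ℂ)) (IsChar.comp (Subgroup.inclusion hPT) (IsIrr.isCharacter hψ))
          (isIrr_linear e) hψP (η := fun m : M => (l m : ℂ))
          (IsIrr.isCharacter (isIrr_linear l)) (by
            rw [show (fun h : M => ((e (Subgroup.inclusion hMP h) : ℂˣ) : ℂ)) =
              fun m : M => (l m : ℂ) from rfl, ip_self (isIrr_linear l)]
            exact one_ne_zero)
      rw [ip_eq] at hψθ
      obtain ⟨hirr, huniq⟩ := Corr.indFun_irr M hθ hTdef hMT hψ hψθ
      refine ⟨indFun T ψ, hirr, ⟨T.index * d,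
        (hS.odd_index.of_dvd_nat (Subgroup.index_dvd_of_le hPT)).mul hd, by
          rw [indFun_one_eq, h1, Nat.cast_mul]⟩, ?_, ?_⟩
      · refine ip_hom_ne_zero (Subgroup.inclusion hPT) (Ψ := fun x : T => indFun T ψ x) (φ := ψ)
          (IsChar.res (IsIrr.isCharacter hirr) T) hψ ?_ (IsIrr.isCharacter (isIrr_linear e)) hψP
        rw [ip_eq, ← classInner_indFun_right T ψ (IsIrr.classFun hirr), classInner_self_irr hirr]
        exact one_ne_zero
      · by_contra hno
        push Not at hno
        refine ht (congrFun (huniq _ (IsIrr.conj hψ) ?_ ?_) t)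
        · rw [← ip_eq, show (fun m : M => (l m : ℂ)) = fun m : M => conj (l m : ℂ) from
            funext fun m => (linear_real l hl m).symm, ip_conj (fun m : M => ψ ⟨m, hMT m.2⟩), Ne,
            map_eq_zero, ip_eq]
          exact hψθ
        · funext g
          rw [← hno g]
          simp only [indFun, map_mul, map_inv₀, map_natCast, map_sum]
          congr 1
          refine Finset.sum_congr rfl fun x _ => ?_
          by_cases hx : x⁻¹ * g * x ∈ T
          · rw [extendByZero_of_mem _ hx, extendByZero_of_mem _ hx]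
          · rw [extendByZero_not_mem _ hx, extendByZero_not_mem _ hx, map_zero]

/-- The converse: all characters of odd degree are real. -/
theorem allReal_of_sylow : ∀ (n : ℕ) (G : Type u) [Group G] [Finite G], Nat.card G = n →
    Group.IsSolvable G → ∀ P : Subgroup G, IsSyl P → (∀ (e : P →* ℂˣ) (x : P), e x * e x = 1) →
      Subgroup.normalizer (P : Set G) ≤ P → AllReal G := by
  intro n
  induction n using Nat.strong_induction_on with
  | _ n IH =>
    intro G _ _ hn hsolv P hS hsq hN χ hχ hdeg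
    classical
    obtain ⟨d, hd, h1⟩ := hdeg
    rcases subsingleton_or_nontrivial G with hsub | hnt
    · intro g
      rw [irr_eq_of_subsingleton hχ, map_one]
    obtain ⟨M, hMn, hMne, -, hMmin⟩ := Grp.exists_minimal_normal_le (N := (⊤ : Subgroup G))
      (fun h => (not_subsingleton G) (Subgroup.subsingleton_iff.1 (subsingleton_of_bot_eq_top h.symm)))
    haveI := hMn
    obtain ⟨hMc, q, hq, hpow⟩ := Grp.minimal_normal_solvable (N := M) inferInstance hMne hMmin
    have hcomm : ∀ a b : M, a * b = b * a := fun a b => hMc.1.comm a b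
    have hquot : ∀ φ : G → ℂ, IsIrrCharacter G φ → (∃ k : ℕ, Odd k ∧ φ 1 = k) →
        (∀ m ∈ M, φ m = φ 1) → ∀ g, conj (φ g) = φ g := by
      intro φ hφ hk hker g
      obtain ⟨φb, hb, hb'⟩ := IsIrr.exists_factor_quotient hφ M hker
      rw [← hb']
      refine IH _ (hn ▸ Grp.card_quotient_lt hMne) (G ⧸ M) rfl inferInstance _ (hS.map_mk M)
        (fun f y => ?_) ?_ φb hb ?_ _
      · obtain ⟨x, rfl⟩ := sM_surjective M P y
        exact hsq (f.comp (sM M P)) x
      · intro z hz
        obtain ⟨n, hn, p, hp, rfl⟩ := exists_lift_normalizer M hS hz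
        exact Subgroup.mul_mem _ hp (Subgroup.mem_map_of_mem _ (hN hn))
      · obtain ⟨k, hk, hk1⟩ := hk
        exact ⟨k, hk, by rw [← QuotientGroup.mk_one, hb', hk1]⟩
    haveI := Fintype.ofFinite G
    haveI := Fintype.ofFinite M
    obtain ⟨θ, hθne⟩ := IsChar.exists_constituent' (IsChar.res (IsIrr.isCharacter hχ) M) (by
      show χ ((1 : M) : G) ≠ 0
      rw [Subgroup.coe_one]; exact IsIrr.one_ne_zero hχ)
    obtain ⟨l₀, hl₀⟩ := linearHom_of_isCharacter (IsIrr.isCharacter θ.2)
      (IsIrr.one_of_comm hcomm θ.2)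
    have hidx : Odd (inertia M (θ : M → ℂ)).index := by
      obtain ⟨e, he⟩ := IsChar.classInner_nat (IsChar.res (IsIrr.isCharacter hχ) M)
        (IsIrr.isCharacter θ.2)
      have h := clifford_one M hχ θ.2 hθne
      rw [IsIrr.one_of_comm hcomm θ.2, mul_one, he, h1, ← Nat.cast_mul, Nat.cast_inj] at h
      exact (Nat.odd_mul.1 (h ▸ hd)).2
    haveI : Fact (Nat.Prime 2) := ⟨Nat.prime_two⟩
    letI act : MulAction P (G ⧸ inertia M (θ : M → ℂ)) := MulAction.compHom _ P.subtype
    obtain ⟨q₀, hfix⟩ := hS.isPGroup.nonempty_fixed_point_of_prime_not_dvd_card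
      (G ⧸ inertia M (θ : M → ℂ)) (by
        rw [← Subgroup.index_eq_card]
        exact Nat.two_dvd_ne_zero.2 (Nat.odd_iff.1 hidx))
    obtain ⟨g, rfl⟩ := QuotientGroup.mk_surjective q₀
    let l : M →* ℂˣ := l₀.comp (MulAut.conjNormal g⁻¹).toMonoidHom
    have hlval : (fun m : M => (l m : ℂ)) = Char.conjN M g⁻¹ (θ : M → ℂ) := by
      rw [hl₀, conjN_eq_comp]
      rfl
    have hPT : P ≤ inertia M (fun m : M => (l m : ℂ)) := by
      intro x hx
      have h2 : ((x * g : G) : G ⧸ inertia M (θ : M → ℂ)) = (g : G ⧸ inertia M (θ : M → ℂ)) :=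
        hfix ⟨x, hx⟩
      have h3 : g⁻¹ * x * g ∈ inertia M (θ : M → ℂ) := by
        have := QuotientGroup.eq.1 h2.symm
        rwa [← mul_assoc] at this
      rw [mem_inertia, hlval, ← conjN_mul, show g⁻¹ * x = (g⁻¹ * x * g) * g⁻¹ by group, conjN_mul,
        (mem_inertia M).1 h3]
    have hover : classInner (fun m : M => χ m) (fun m : M => (l m : ℂ)) ≠ 0 := by
      rw [hlval, classInner_res_conjN M (IsIrr.classFun hχ)]
      exact hθne
    by_cases hq2 : q = 2
    swap
    · have hodd := odd_card_of_exponent hq hq2 hpow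
      have htriv := linear_invariant_eq_one M hcomm hodd hS.isPGroup (fun m hm hfm => by
        have hmN : m ∈ Subgroup.normalizer (P : Set G) := by
          refine Subgroup.mem_normalizer_iff.2 fun z => ⟨fun hz => ?_, fun hz => ?_⟩
          · have := hfm z hz
            rw [mul_inv_eq_iff_eq_mul] at this
            rw [← this, mul_inv_cancel_right]
            exact hz
          · have := hfm _ hz
            have h4 : m * z * m⁻¹ = z := by
              have h5 : m * z * m⁻¹ * m = m * (m * z * m⁻¹) := by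
                rw [mul_inv_eq_iff_eq_mul] at this; exact this
              have h6 : z = m * z * m⁻¹ :=
                mul_left_cancel (a := m) (by rw [← h5, inv_mul_cancel_right])
              exact h6.symm
            rwa [h4] at hz
        exact congrArg Subtype.val
          (eq_one_of_two_group hS.isPGroup hq hq2 ⟨m, hN hmN⟩ (hpow m hm))) l hPT
      refine hquot χ hχ ⟨d, hd, h1⟩ fun m hm => ?_
      have hl1 : (fun m : M => (l m : ℂ)) = fun _ => (1 : ℂ) := funext fun m => by
        rw [htriv m, Units.val_one]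
      rw [hl1] at hover
      have hc := clifford M hχ isIrr_one hover
      have horb : conjOrbit M (fun _ : M => (1 : ℂ)) = {fun _ => (1 : ℂ)} :=
        Finset.eq_singleton_iff_unique_mem.2 ⟨(mem_conjOrbit M).2 ⟨1, conjN_one M _⟩, fun ψ hψ => by
          obtain ⟨g, rfl⟩ := (mem_conjOrbit M).1 hψ
          rfl⟩
      rw [horb, Finset.sum_singleton] at hc
      have e1 := congrFun hc ⟨m, hm⟩
      have e2 := congrFun hc 1
      simp only [Pi.smul_apply] at e1 e2
      rw [e1, ← OneMemClass.coe_one M, e2]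
    subst hq2
    have hMP : M ≤ P := hS.le_of_normal fun z => ⟨1, by rw [pow_one]; exact Subtype.ext (hpow z z.2)⟩
    have hl : ∀ m, l m * l m = 1 := fun m => by
      rw [← map_mul, ← sq, show m ^ 2 = 1 from Subtype.ext (hpow m m.2), map_one]
    by_cases hTtop : inertia M (fun m : M => (l m : ℂ)) = ⊤
    · obtain ⟨μ, hμl, hv, -⟩ := exists_det_ext M hl hχ hd h1 (by rw [ip_eq]; exact hover) hTtop
      obtain ⟨k, hk⟩ := hS.odd_index
      have hμ2 : ∀ y, (μ y * μ y) ^ P.index = 1 := by
        intro y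
        let ν : G →* ℂˣ := μ * μ
        have hle : P ≤ ν.ker := fun x hx => hsq (μ.comp P.subtype) ⟨x, hx⟩
        obtain ⟨c, hc⟩ := Subgroup.index_dvd_of_le hle
        have h5 : ν y ^ ν.ker.index = 1 := by
          rw [← map_pow]
          exact MonoidHom.mem_ker.1 (ν.ker.pow_index_mem y)
        show ν y ^ P.index = 1
        rw [hc, pow_mul, h5, one_pow]
      let μ' : G →* ℂˣ := μ ^ P.index
      have hμ' : ∀ y, μ' y * μ' y = 1 := fun y => by
        show (μ ^ P.index) y * (μ ^ P.index) y = 1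
        rw [MonoidHom.pow_apply, ← mul_pow, hμ2]
      have hμ'l : ∀ m : M, μ' m = l m := fun m => by
        show (μ ^ P.index) (m : G) = l m
        rw [MonoidHom.pow_apply, hμl, hk, pow_succ, pow_mul, sq, hl, one_pow, one_mul]
      have h := hquot (fun y => (μ' y : ℂ) * χ y) (IsIrr.mul_linear hχ μ') ⟨d, hd, by
          show (μ' 1 : ℂ) * χ 1 = d
          rw [map_one, Units.val_one, one_mul, h1]⟩ fun m hm => by
          show (μ' m : ℂ) * χ m = (μ' 1 : ℂ) * χ 1
          rw [hμ'l ⟨m, hm⟩, hv ⟨m, hm⟩, map_one, Units.val_one, one_mul, h1, ← mul_assoc,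
            mul_comm _ (d : ℂ), mul_assoc, ← Units.val_mul, hl, Units.val_one, mul_one]
      intro y
      have h6 := h y
      rw [map_mul, linear_real μ' hμ'] at h6
      exact mul_left_cancel₀ (μ' y).ne_zero h6
    · set T := inertia M (fun m : M => (l m : ℂ)) with hTdef
      haveI := Fintype.ofFinite T
      have hMT : M ≤ T := hMP.trans hPT
      have hθ : IsIrrCharacter M (fun m : M => (l m : ℂ)) := isIrr_linear l
      obtain ⟨ψ, hψ, hind, -⟩ := Corr.exists_correspondent M hθ hTdef hMT hχ hover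
      obtain ⟨k, -, hk⟩ := IsIrr.one_eq_pos hψ
      have hkodd : Odd k := by
        have h := congrFun hind 1
        rw [indFun_one_eq, hk, h1, ← Nat.cast_mul, Nat.cast_inj] at h
        exact (Nat.odd_mul.1 (h ▸ hd)).2
      have hr := IH _ (hn ▸ Grp.card_lt_of_ne_top hTtop) T rfl inferInstance _
        (hS.subgroupOf hPT) (fun f x => by
          have := hsq (f.comp (Subgroup.subgroupOfEquivOfLe hPT).symm.toMonoidHom)
            (Subgroup.subgroupOfEquivOfLe hPT x)
          simpa using this)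
        (fun z hz => Subgroup.mem_subgroupOf.2 (hN (coe_mem_normalizer hPT ⟨z, hz⟩)))
        ψ hψ ⟨k, hkodd, hk⟩
      intro g
      rw [← hind]
      simp only [indFun, map_mul, map_inv₀, map_natCast, map_sum]
      congr 1
      refine Finset.sum_congr rfl fun x _ => ?_
      by_cases hx : x⁻¹ * g * x ∈ T
      · rw [extendByZero_of_mem _ hx, hr]
      · rw [extendByZero_not_mem _ hx, map_zero]

end Cfsg.Agent.Char.RealOdd
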