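import Cfsg.Agent.Lib.Char.RealOddMain
import Cfsg.Agent.Lib.Char.PPrimeDegree
import Cfsg.Agent.Lib.Grp.Frattini

/-!
Tools for real-valued characters of odd degree: linear characters fixed by a Sylow `2`-subgroup.
-/

set_option autoImplicit false

namespace Cfsg.Agent.Char.RealOdd

open scoped ComplexConjugate
open Cfsg Cfsg.Agent.Char

universe u

variable {G : Type u} [Group G] [Finite G]

theorem odd_degree_constituent {Θ : G → ℂ} (hΘ : IsCharacter G Θ) {d : ℕ} (hd : Odd d)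
    (h1 : Θ 1 = d) :
    ∃ φ : G → ℂ, IsIrrCharacter G φ ∧ (∃ k : ℕ, Odd k ∧ φ 1 = k) ∧ ip Θ φ ≠ 0 := by
  haveI := Fintype.ofFinite G
  obtain ⟨φ, hne, hodd⟩ := PPrime.exists_constituent_pPrime hΘ h1
    (Nat.two_dvd_ne_zero.2 (Nat.odd_iff.1 hd))
  exact ⟨φ, φ.2, ⟨_, Nat.odd_iff.2 (Nat.two_dvd_ne_zero.1 hodd), IsChar.degree_spec (IsIrr.isCharacter φ.2)⟩,
    by rw [ip_eq]; exact hne⟩

/-- An irreducible character of odd degree over a linear character of a subgroup of odd index. -/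
theorem exists_odd_over (P : Subgroup G) (hidx : Odd P.index) (e : P →* ℂˣ) :
    ∃ χ : G → ℂ, IsIrrCharacter G χ ∧ (∃ k : ℕ, Odd k ∧ χ 1 = k) ∧
      ip (fun x : P => χ x) (fun x : P => (e x : ℂ)) ≠ 0 := by
  haveI := Fintype.ofFinite G
  haveI := Fintype.ofFinite P
  obtain ⟨χ, hχ, hk, hne⟩ := odd_degree_constituent
    (isCharacter_indFun P (IsIrr.isCharacter (isIrr_linear e))) hidx
    (show indFun P (fun x : P => (e x : ℂ)) 1 = _ by
      rw [indFun_one_eq, map_one, Units.val_one, mul_one])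
  refine ⟨χ, hχ, hk, ?_⟩
  rw [ip_eq, classInner_indFun P _ (IsIrr.classFun hχ)] at hne
  rw [ip_eq, ← classInner_conj_symm, Ne, map_eq_zero]
  exact hne

theorem linear_pow_card {M : Subgroup G} (l : M →* ℂˣ) (m : M) : l m ^ Nat.card M = 1 := by
  rw [← map_pow, pow_card_eq_one', map_one]

theorem eq_one_of_pow_two_pow {M : Subgroup G} (hodd : Odd (Nat.card M)) (l : M →* ℂˣ) (m : M)
    {k : ℕ} (h : l m ^ 2 ^ k = 1) : l m = 1 := by
  have h1 : l m ^ Nat.gcd (2 ^ k) (Nat.card M) = 1 := pow_gcd_eq_one.2 ⟨h, linear_pow_card l m⟩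
  rwa [Nat.Coprime.pow_left k (Nat.coprime_two_left.2 hodd), pow_one] at h1

/-- With trivial fixed points there are no invariant linear characters. -/
theorem linear_invariant_eq_one (M : Subgroup G) [M.Normal] (hcomm : ∀ a b : M, a * b = b * a)
    (hodd : Odd (Nat.card M)) {P : Subgroup G} (hP : IsPGroup 2 P)
    (hfix : ∀ m ∈ M, (∀ x ∈ P, x * m * x⁻¹ = m) → m = 1) (l : M →* ℂˣ)
    (hinv : P ≤ inertia M (fun m : M => (l m : ℂ))) : ∀ m, l m = 1 := by
  classical
  haveI := Fintype.ofFinite P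
  haveI : IsMulCommutative M := ⟨⟨hcomm⟩⟩
  intro m
  letI : CommGroup M := { (inferInstance : Group M) with mul_comm := hcomm }
  set m' : M := ∏ x : P, MulAut.conjNormal (x : G) m with hm'
  have hfixed : ∀ y ∈ P, MulAut.conjNormal y m' = m' := by
    intro y hy
    rw [hm', map_prod]
    refine Fintype.prod_equiv (Equiv.mulLeft (⟨y, hy⟩ : P)) _ _ fun x => ?_
    rw [← MulAut.mul_apply, ← map_mul]
    rfl
  have h1 : m' = 1 := by
    refine Subtype.ext (hfix m' m'.2 fun y hy => ?_)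
    rw [← MulAut.conjNormal_apply, hfixed y hy]
  have h2 : l m' = l m ^ Nat.card P := by
    rw [hm', map_prod, Finset.prod_eq_pow_card, Finset.card_univ, Nat.card_eq_fintype_card]
    intro x _
    refine Units.ext ?_
    have := congrFun ((mem_inertia M).1 (hinv x.2)) m
    rw [conjN_apply] at this
    rw [← this]
    congr 3
  obtain ⟨k, hk⟩ := IsPGroup.iff_card.1 hP
  rw [h1, map_one, hk] at h2
  exact eq_one_of_pow_two_pow hodd l m h2.symm

/-- A fixed point gives an invariant linear character. -/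
theorem exists_invariant_linear (M : Subgroup G) [M.Normal] (hcomm : ∀ a b : M, a * b = b * a)
    (hodd : Odd (Nat.card M)) {P : Subgroup G} (hP : IsPGroup 2 P) {c : M} (hc : c ≠ 1)
    (hfix : ∀ x ∈ P, x * (c : G) * x⁻¹ = c) :
    ∃ L : M →* ℂˣ, L c ≠ 1 ∧ ∀ x ∈ P, ∀ m : M, L (MulAut.conjNormal x m) = L m := by
  classical
  haveI := Fintype.ofFinite P
  obtain ⟨l, hl⟩ : ∃ l : M →* ℂˣ, l c ≠ 1 := by
    by_contra h
    push Not at h
    exact hc (eq_one_of_forall_linear hcomm h)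
  refine ⟨∏ x : P, l.comp (MulAut.conjNormal (x : G)).toMonoidHom, ?_, ?_⟩
  · rw [MonoidHom.finsetProd_apply, Finset.prod_eq_pow_card (b := l c)]
    · intro h
      obtain ⟨k, hk⟩ := IsPGroup.iff_card.1 hP
      rw [Finset.card_univ, ← Nat.card_eq_fintype_card, hk] at h
      exact hl (eq_one_of_pow_two_pow hodd l c h)
    · intro x _
      refine congrArg l (Subtype.ext ?_)
      exact (MulAut.conjNormal_apply _ _).trans (hfix x x.2)
  · intro y hy m
    rw [MonoidHom.finsetProd_apply, MonoidHom.finsetProd_apply]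
    refine Fintype.prod_equiv (Equiv.mulRight (⟨y, hy⟩ : P)) _ _ fun x => ?_
    refine congrArg l ?_
    show (MulAut.conjNormal (x : G)) ((MulAut.conjNormal y) m) = _
    rw [← MulAut.mul_apply, ← map_mul]
    rfl

/-- An invariant linear character extends to the semidirect product. -/
theorem exists_extension_linear (M : Subgroup G) [M.Normal] {P : Subgroup G}
    (hdisj : M ⊓ P = ⊥) (L : M →* ℂˣ)
    (hinv : ∀ x ∈ P, ∀ m : M, L (MulAut.conjNormal x m) = L m) :
    ∃ μ : (M ⊔ P : Subgroup G) →* ℂˣ, ∀ m : M, μ ⟨m, Subgroup.mem_sup_left m.2⟩ = L m := by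
  classical
  have hdec : ∀ k : (M ⊔ P : Subgroup G), ∃ m : M, ∃ x : P, (k : G) = m * x := by
    intro k
    have hk : (k : G) ∈ ((M ⊔ P : Subgroup G) : Set G) := k.2
    rw [Subgroup.normal_mul] at hk
    obtain ⟨a, ha, b, hb, e⟩ := hk
    exact ⟨⟨a, ha⟩, ⟨b, hb⟩, e.symm⟩
  choose mm xx hk using hdec
  have huniq : ∀ (a b : M) (c d : P), (a : G) * c = b * d → a = b := by
    intro a b c d e
    have h1 : (b : G)⁻¹ * a ∈ M ⊓ P := by
      refine ⟨M.mul_mem (M.inv_mem b.2) a.2, ?_⟩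
      have h2 : (b : G)⁻¹ * a = d * (c : G)⁻¹ := by
        rw [eq_mul_inv_iff_mul_eq, mul_assoc, e, inv_mul_cancel_left]
      rw [h2]
      exact P.mul_mem d.2 (P.inv_mem c.2)
    rw [hdisj, Subgroup.mem_bot, inv_mul_eq_one] at h1
    exact Subtype.ext h1.symm
  have hmul : ∀ k k', mm (k * k') = mm k * MulAut.conjNormal (xx k : G) (mm k') := by
    intro k k'
    refine huniq _ _ (xx (k * k')) (xx k * xx k') ?_
    rw [← hk, Subgroup.coe_mul, Subgroup.coe_mul, Subgroup.coe_mul, MulAut.conjNormal_apply,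
      hk k, hk k']
    group
  refine ⟨MonoidHom.mk' (fun k => L (mm k)) fun k k' => by
    rw [hmul, map_mul, hinv _ (xx k).2], fun m => ?_⟩
  refine congrArg L (huniq _ _ (xx ⟨m, Subgroup.mem_sup_left m.2⟩) 1 ?_)
  rw [← hk, Subgroup.coe_one, mul_one]

theorem coe_mem_normalizer {P T : Subgroup G} (hPT : P ≤ T)
    (n : Subgroup.normalizer ((P.subgroupOf T : Subgroup T) : Set T)) :
    ((n : T) : G) ∈ Subgroup.normalizer (P : Set G) := by
  refine Subgroup.mem_normalizer_iff.2 fun x => ⟨fun hx => ?_, fun hx => ?_⟩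
  · exact Subgroup.mem_subgroupOf.1 ((Subgroup.mem_normalizer_iff.1 n.2 ⟨x, hPT hx⟩).1 hx)
  · have hx' : x ∈ T := by
      have h2 := T.mul_mem (T.mul_mem (T.inv_mem (n : T).2) (hPT hx)) (n : T).2
      simpa [mul_assoc] using h2
    exact Subgroup.mem_subgroupOf.1 ((Subgroup.mem_normalizer_iff.1 n.2 ⟨x, hx'⟩).2 hx)

end Cfsg.Agent.Char.RealOdd
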