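import Cfsg.Agent.Lib.Char.Clifford
import Cfsg.Agent.Lib.Char.Quotient
import Cfsg.Agent.Lib.Char.Det
import Cfsg.Agent.Lib.Char.Integral

/-!
Real-valued irreducible characters of odd degree: parity of multiplicities on `2`-subgroups.
-/

set_option autoImplicit false

namespace Cfsg.Agent.Char.RealOdd

open scoped ComplexConjugate
open Cfsg Cfsg.Agent.Char

universe u v

/-- The inner product of two functions on a finite group, without a choice of enumeration. -/
noncomputable def ip {H : Type u} [Group H] [Finite H] (a b : H → ℂ) : ℂ :=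
  @classInner H _ (Fintype.ofFinite H) a b

variable {G : Type u} [Group G] [Finite G]

theorem ip_eq [Fintype G] (a b : G → ℂ) : ip a b = classInner a b := by
  unfold ip
  congr 1
  exact Subsingleton.elim _ _

theorem ip_symm (a b : G → ℂ) : conj (ip a b) = ip b a := by
  haveI := Fintype.ofFinite G
  rw [ip_eq, ip_eq, classInner_conj_symm]

theorem ip_nat {χ ψ : G → ℂ} (hχ : IsCharacter G χ) (hψ : IsCharacter G ψ) :
    ∃ n : ℕ, ip χ ψ = n := by
  haveI := Fintype.ofFinite G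
  rw [ip_eq]
  exact IsChar.classInner_nat hχ hψ

theorem ip_comp_surjective {Q : Type v} [Group Q] [Finite Q] (f : G →* Q)
    (hf : Function.Surjective f) (a b : Q → ℂ) :
    ip (fun g => a (f g)) (fun g => b (f g)) = ip a b := by
  haveI := Fintype.ofFinite G
  haveI := Fintype.ofFinite Q
  rw [ip_eq, ip_eq, classInner_comp_surjective f hf]

theorem ip_self {χ : G → ℂ} (h : IsIrrCharacter G χ) : ip χ χ = 1 := by
  haveI := Fintype.ofFinite G
  rw [ip_eq, classInner_self_irr h]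

theorem ip_ne {χ ψ : G → ℂ} (hχ : IsIrrCharacter G χ) (hψ : IsIrrCharacter G ψ) (h : χ ≠ ψ) :
    ip χ ψ = 0 := by
  haveI := Fintype.ofFinite G
  rw [ip_eq]
  exact classInner_irr_ne hχ hψ h

theorem ip_conj (a b : G → ℂ) : ip (fun g => conj (a g)) (fun g => conj (b g)) = conj (ip a b) := by
  haveI := Fintype.ofFinite G
  simp only [ip_eq, classInner, map_mul, map_inv₀, map_natCast, map_sum]

theorem ip_mul_linear (a b : G → ℂ) (l : G →* ℂˣ) :
    ip (fun g => (l g : ℂ) * a g) (fun g => (l g : ℂ) * b g) = ip a b := by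
  haveI := Fintype.ofFinite G
  simp only [ip_eq, classInner]
  congr 1
  refine Finset.sum_congr rfl fun g _ => ?_
  have h := IsIrr.apply_inv (isIrr_linear l) g
  simp only [map_inv, Units.val_inv_eq_inv_val] at h
  rw [map_mul, ← h]
  field_simp [(l g).ne_zero]

/-- Multiplicities after pulling back along a homomorphism. -/
theorem ip_hom_sum {H : Type v} [Group H] [Finite H] (f : H →* G)
    {Ψ : G → ℂ} (hΨ : IsCharacter G Ψ) (η : H → ℂ) :
    ip (fun h => Ψ (f h)) η =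
      ∑ φ : IrrCharacter G, ip Ψ (φ : G → ℂ) * ip (fun h => (φ : G → ℂ) (f h)) η := by
  haveI := Fintype.ofFinite G
  haveI := Fintype.ofFinite H
  obtain ⟨a, ha, hd⟩ := IsChar.exists_decomp_inner hΨ
  have e : (fun h : H => Ψ (f h)) =
      ∑ φ : IrrCharacter G, (a φ : ℂ) • fun h : H => (φ : G → ℂ) (f h) := by
    funext h
    conv_lhs => rw [hd]
    simp only [Finset.sum_apply, Pi.smul_apply]
  simp only [ip_eq]
  rw [e, classInner_sum_left]
  exact Finset.sum_congr rfl fun φ _ => by rw [classInner_smul_left, ha]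

theorem ip_hom_ne_zero {H : Type v} [Group H] [Finite H] (f : H →* G) {Ψ φ : G → ℂ}
    (hΨ : IsCharacter G Ψ) (hφ : IsIrrCharacter G φ) (h1 : ip Ψ φ ≠ 0) {η : H → ℂ}
    (hη : IsCharacter H η) (h2 : ip (fun h => φ (f h)) η ≠ 0) :
    ip (fun h => Ψ (f h)) η ≠ 0 := by
  haveI := Fintype.ofFinite G
  rw [ip_hom_sum f hΨ η]
  choose a ha using fun φ : IrrCharacter G => ip_nat hΨ (IsIrr.isCharacter φ.2)
  choose b hb using fun φ : IrrCharacter G =>
    ip_nat (IsChar.comp f (IsIrr.isCharacter φ.2)) hη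
  simp only [ha, hb]
  have hpos : 0 < a ⟨φ, hφ⟩ * b ⟨φ, hφ⟩ := by
    refine Nat.mul_pos (Nat.pos_of_ne_zero fun h => h1 ?_) (Nat.pos_of_ne_zero fun h => h2 ?_)
    · rw [ha ⟨φ, hφ⟩, h, Nat.cast_zero]
    · rw [hb ⟨φ, hφ⟩, h, Nat.cast_zero]
  have hle := Finset.single_le_sum (f := fun φ => a φ * b φ) (fun _ _ => Nat.zero_le _)
    (Finset.mem_univ (⟨φ, hφ⟩ : IrrCharacter G))
  rw [Finset.sum_congr rfl fun φ _ => ((Nat.cast_mul (a φ) (b φ)).symm : (a φ : ℂ) * b φ = ((a φ * b φ : ℕ) : ℂ)),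
    ← Nat.cast_sum, Nat.cast_ne_zero]
  exact Nat.ne_of_gt (lt_of_lt_of_le hpos hle)

/-- A real-valued irreducible character of odd degree. -/
def RO (χ : G → ℂ) : Prop :=
  IsIrrCharacter G χ ∧ (∀ g, conj (χ g) = χ g) ∧ ∃ d : ℕ, Odd d ∧ χ 1 = d

/-- A real character of odd degree has a real constituent of odd degree with odd multiplicity. -/
theorem exists_ro_constituent {Θ : G → ℂ} (hΘ : IsCharacter G Θ) (hreal : ∀ g, conj (Θ g) = Θ g)
    {d : ℕ} (hd : Odd d) (h1 : Θ 1 = d) :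
    ∃ φ : G → ℂ, RO φ ∧ ∃ m : ℕ, Odd m ∧ ip Θ φ = m := by
  classical
  haveI := Fintype.ofFinite G
  obtain ⟨a, ha, hdec⟩ := IsChar.exists_decomp_inner hΘ
  choose e he he' using fun φ : IrrCharacter G => IsIrr.one_eq_pos φ.2
  have hsum : ∑ φ : IrrCharacter G, ((a φ * e φ : ℕ) : ZMod 2) = 1 := by
    have h := congrFun hdec 1
    rw [sum_irr_apply, h1] at h
    simp only [he'] at h
    have h' : d = ∑ φ : IrrCharacter G, a φ * e φ := by
      rw [← Nat.cast_inj (R := ℂ)]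
      push_cast
      exact h
    have h2 : ((d : ℕ) : ZMod 2) = 1 := by
      obtain ⟨k, rfl⟩ := hd
      rw [Nat.cast_add, Nat.cast_mul]
      rw [show ((2 : ℕ) : ZMod 2) = 0 from ZMod.natCast_self 2, zero_mul, zero_add, Nat.cast_one]
    rw [h', Nat.cast_sum] at h2
    exact h2
  let bar : IrrCharacter G → IrrCharacter G := fun φ => ⟨_, IsIrr.conj φ.2⟩
  have hbar : ∀ φ, bar (bar φ) = φ := fun φ => Subtype.ext (funext fun g => Complex.conj_conj _)
  have hae : ∀ φ, a (bar φ) = a φ ∧ e (bar φ) = e φ := by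
    intro φ
    constructor
    · rw [← Nat.cast_inj (R := ℂ), ← ha, ← ha φ, ← ip_eq, ← ip_eq]
      rw [show ((bar φ : IrrCharacter G) : G → ℂ) = fun g => conj ((φ : G → ℂ) g) from rfl]
      rw [show ip Θ (fun g => conj ((φ : G → ℂ) g)) =
        ip (fun g => conj (Θ g)) (fun g => conj ((φ : G → ℂ) g)) by
          rw [funext hreal]]
      rw [ip_conj, ip_eq, ha, map_natCast]
    · rw [← Nat.cast_inj (R := ℂ), ← he', ← he' φ]
      show conj ((φ : G → ℂ) 1) = _
      rw [he', map_natCast]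
  have hzero : ∑ φ ∈ Finset.univ.filter (fun φ => bar φ ≠ φ),
      ((a φ * e φ : ℕ) : ZMod 2) = 0 := by
    refine Finset.sum_involution (fun φ _ => bar φ) (fun φ _ => ?_)
      (fun φ hφ _ => (Finset.mem_filter.1 hφ).2) (fun φ hφ => ?_) (fun φ _ => hbar φ)
    · rw [(hae φ).1, (hae φ).2, CharTwo.add_self_eq_zero]
    · rw [Finset.mem_filter]
      exact ⟨Finset.mem_univ _, fun h => (Finset.mem_filter.1 hφ).2 (by
        rw [hbar] at h; exact h.symm)⟩
  rw [← Finset.sum_filter_add_sum_filter_not Finset.univ (fun φ => bar φ ≠ φ), hzero,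
    zero_add] at hsum
  obtain ⟨φ, hφ, hne⟩ := Finset.exists_ne_zero_of_sum_ne_zero (hsum.symm ▸ one_ne_zero)
  have hfix : bar φ = φ := not_not.1 (Finset.mem_filter.1 hφ).2
  have hodd : Odd (a φ * e φ) := by
    rw [← Nat.not_even_iff_odd]
    exact fun hev => hne ((ZMod.natCast_eq_zero_iff_even).2 hev)
  refine ⟨φ, ⟨φ.2, fun g => congrFun (congrArg Subtype.val hfix) g, e φ, (Nat.odd_mul.1 hodd).2,
    he' φ⟩, a φ, (Nat.odd_mul.1 hodd).1, ?_⟩
  rw [ip_eq, ha]

/-- On a `2`-group the real characters of odd degree are the linear characters squaring to one. -/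
theorem RO.linear {χ : G → ℂ} (h : RO χ) (hG : IsPGroup 2 G) :
    ∃ e : G →* ℂˣ, (∀ x, e x * e x = 1) ∧ χ = fun x => (e x : ℂ) := by
  obtain ⟨hirr, hreal, d, hd, h1⟩ := h
  have hd1 : d = 1 := by
    obtain ⟨n, hn⟩ := IsPGroup.iff_card.1 hG
    obtain ⟨i, -, hi⟩ := (Nat.dvd_prime_pow Nat.prime_two).1
      (hn ▸ IsIrr.degree_dvd_card hirr h1)
    rcases Nat.eq_zero_or_pos i with rfl | hi0
    · rw [hi, pow_zero]
    · exact absurd (hi ▸ dvd_pow_self 2 hi0.ne') (Nat.two_dvd_ne_zero.2 (Nat.odd_iff.1 hd))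
  obtain ⟨e, he⟩ := linearHom_of_isCharacter (IsIrr.isCharacter hirr) (by
    rw [h1, hd1, Nat.cast_one])
  refine ⟨e, fun x => Units.ext ?_, he⟩
  have hinv := IsIrr.apply_inv hirr x
  rw [hreal, he] at hinv
  simp only [map_inv, Units.val_inv_eq_inv_val] at hinv
  rw [Units.val_mul, Units.val_one]
  calc (e x : ℂ) * e x = (e x : ℂ)⁻¹ * e x := by rw [hinv]
    _ = 1 := inv_mul_cancel₀ (e x).ne_zero

theorem linear_real (e : G →* ℂˣ) (he : ∀ x, e x * e x = 1) (x : G) :
    conj ((e x : ℂˣ) : ℂ) = (e x : ℂ) := by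
  have h := IsIrr.apply_inv (isIrr_linear e) x
  simp only [map_inv] at h
  rw [← h, show (e x)⁻¹ = e x from inv_eq_of_mul_eq_one_left (he x)]

/-- `χ` meets `e` on `P` with odd multiplicity. -/
def OddMult (P : Subgroup G) (χ : G → ℂ) (e : P →* ℂˣ) : Prop :=
  ∃ m : ℕ, Odd m ∧ ip (fun x : P => χ x) (fun x : P => (e x : ℂ)) = m

theorem OddMult.ne_zero {P : Subgroup G} {χ : G → ℂ} {e : P →* ℂˣ} (h : OddMult P χ e) :
    ip (fun x : P => χ x) (fun x : P => (e x : ℂ)) ≠ 0 := by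
  obtain ⟨m, hm, hm'⟩ := h
  rw [hm', Nat.cast_ne_zero]
  exact hm.pos.ne'

theorem exists_oddMult (P : Subgroup G) (hP : IsPGroup 2 P) {χ : G → ℂ} (h : RO χ) :
    ∃ e : P →* ℂˣ, (∀ x, e x * e x = 1) ∧ OddMult P χ e := by
  obtain ⟨hirr, hreal, d, hd, h1⟩ := h
  obtain ⟨φ, hφ, m, hm, hm'⟩ := exists_ro_constituent (IsChar.res (IsIrr.isCharacter hirr) P)
    (fun x => hreal x) hd h1
  obtain ⟨e, he, hee⟩ := RO.linear hφ hP
  exact ⟨e, he, m, hm, by rw [← hm', hee]⟩

theorem exists_ro_over (P : Subgroup G) (hidx : Odd P.index) {e : P →* ℂˣ}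
    (he : ∀ x, e x * e x = 1) : ∃ χ : G → ℂ, RO χ ∧ OddMult P χ e := by
  haveI := Fintype.ofFinite G
  haveI := Fintype.ofFinite P
  have hechar : IsCharacter P (fun x : P => (e x : ℂ)) := IsIrr.isCharacter (isIrr_linear e)
  obtain ⟨χ, hχ, m, hm, hm'⟩ := exists_ro_constituent (isCharacter_indFun P hechar) (fun g => by
    simp only [indFun, map_mul, map_inv₀, map_natCast, map_sum]
    congr 1
    refine Finset.sum_congr rfl fun x _ => ?_
    by_cases hx : x⁻¹ * g * x ∈ P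
    · rw [extendByZero_of_mem _ hx]; exact linear_real e he _
    · rw [extendByZero_not_mem _ hx, map_zero]) hidx (by
        rw [indFun_one_eq, map_one, Units.val_one, mul_one])
  refine ⟨χ, hχ, m, hm, ?_⟩
  rw [ip_eq, classInner_indFun P _ (IsIrr.classFun hχ.1)] at hm'
  rw [ip_eq, ← classInner_conj_symm, hm', map_natCast]

end Cfsg.Agent.Char.RealOdd
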