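import Cfsg.Agent.Lib.Char.RealOddAll
import Cfsg.Prelude.Def_Blocks

/-!
Counting real-valued characters of odd degree, and the Frattini criterion.
-/

set_option autoImplicit false

namespace Cfsg.Agent.Char.RealOdd

open scoped ComplexConjugate
open Cfsg Cfsg.Agent.Char

universe u

variable {G : Type u} [Group G] [Finite G]

theorem ro_iff (χ : IrrCharacter G) :
    RO (χ : G → ℂ) ↔
      (∀ g : G, ((χ : G → ℂ) g).im = 0) ∧ Odd (charDegree (χ : G → ℂ)) := by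
  constructor
  · rintro ⟨-, hr, d, hd, h1⟩
    refine ⟨fun g => Complex.conj_eq_iff_im.1 (hr g), ?_⟩
    rw [charDegree, h1, Complex.natCast_re, Nat.floor_natCast]
    exact hd
  · rintro ⟨hr, hd⟩
    exact ⟨χ.2, fun g => Complex.conj_eq_iff_im.2 (hr g), _, hd,
      IsChar.degree_spec (IsIrr.isCharacter χ.2)⟩

section

variable {P N : Subgroup G} (hPN : P ≤ N)

/-- The correspondence between real characters of odd degree. -/
def Rel (χ : G → ℂ) (ψ : N → ℂ) : Prop :=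
  ∃ e : P →* ℂˣ, (∀ x, e x * e x = 1) ∧ OddMult P χ e ∧ OddMult (P.subgroupOf N) ψ (epsT hPN e)

theorem rel_unique (hG : Main G) (hN : Main N) (hS : IsSyl P)
    (hNP : N = Subgroup.normalizer (P : Set G)) {χ : G → ℂ} (hχ : RO χ) {ψ ψ' : N → ℂ}
    (hψ : RO ψ) (hψ' : RO ψ') (h : Rel hPN χ ψ) (h' : Rel hPN χ ψ') : ψ = ψ' := by
  obtain ⟨e, he, h1, h2⟩ := h
  obtain ⟨e', he', h1', h2'⟩ := h'
  obtain ⟨n, hn⟩ := hG.fuse P hS χ hχ e' e he' he h1' h1
  have hnN : (n : G) ∈ N := hNP ▸ n.2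
  have hn' : (⟨(n : G), hnN⟩ : N) ∈
      Subgroup.normalizer ((P.subgroupOf N : Subgroup N) : Set N) :=
    Subgroup.mem_normalizer_iff.2 fun x => Subgroup.mem_normalizer_iff.1 n.2 (x : G)
  refine hN.uniq _ (hS.subgroupOf hPN) ψ ψ' hψ hψ' (epsT hPN e) (fun x => he _) h2 ?_
  rw [show epsT hPN e = (epsT hPN e').comp (cN (P.subgroupOf N) ⟨_, hn'⟩) by rw [hn]; rfl]
  exact h2'.twist (IsIrr.classFun hψ'.1) _

theorem rel_unique' (hG : Main G) (hN : Main N) (hS : IsSyl P) {χ χ' : G → ℂ} (hχ : RO χ)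
    (hχ' : RO χ') {ψ : N → ℂ} (hψ : RO ψ) (h : Rel hPN χ ψ) (h' : Rel hPN χ' ψ) : χ = χ' := by
  obtain ⟨e, he, h1, h2⟩ := h
  obtain ⟨e', he', h1', h2'⟩ := h'
  obtain ⟨n, hn⟩ := Conjug.of_subgroupOf hPN (hN.fuse _ (hS.subgroupOf hPN) ψ hψ
    (epsT hPN e') (epsT hPN e) (fun x => he' _) (fun x => he _) h2' h2)
  refine hG.uniq P hS χ χ' hχ hχ' e he h1 ?_
  rw [hn]
  exact h1'.twist (IsIrr.classFun hχ'.1) n

theorem rel_exists (hS : IsSyl P) {χ : G → ℂ} (hχ : RO χ) :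
    ∃ ψ : N → ℂ, RO ψ ∧ Rel hPN χ ψ := by
  obtain ⟨e, he, h⟩ := exists_oddMult P hS.isPGroup hχ
  obtain ⟨ψ, hψ, h'⟩ := exists_ro_over (P.subgroupOf N) (hS.subgroupOf hPN).odd_index
    (e := epsT hPN e) fun x => he _
  exact ⟨ψ, hψ, e, he, h, h'⟩

theorem rel_exists' (hS : IsSyl P) {ψ : N → ℂ} (hψ : RO ψ) :
    ∃ χ : G → ℂ, RO χ ∧ Rel hPN χ ψ := by
  obtain ⟨f, hf, h⟩ := exists_oddMult (P.subgroupOf N) (hS.subgroupOf hPN).isPGroup hψ
  set e : P →* ℂˣ := f.comp (Subgroup.subgroupOfEquivOfLe hPN).symm.toMonoidHom with he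
  obtain ⟨χ, hχ, h'⟩ := exists_ro_over P hS.odd_index (e := e) fun x => hf _
  refine ⟨χ, hχ, e, fun x => hf _, h', ?_⟩
  rw [show epsT hPN e = f from MonoidHom.ext fun x => congrArg f
    ((Subgroup.subgroupOfEquivOfLe hPN).symm_apply_apply x)]
  exact h

include hPN in
theorem card_ro_eq (hG : Main G) (hN : Main N) (hS : IsSyl P)
    (hNP : N = Subgroup.normalizer (P : Set G)) :
    Nat.card {χ : G → ℂ // RO χ} = Nat.card {ψ : N → ℂ // RO ψ} := by
  choose f hf hfr using fun χ : {χ : G → ℂ // RO χ} => rel_exists hPN hS χ.2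
  refine Nat.card_eq_of_bijective (fun χ => ⟨f χ, hf χ⟩) ⟨fun a b hab => Subtype.ext ?_, ?_⟩
  · have e : f a = f b := congrArg Subtype.val hab
    exact rel_unique' hPN hG hN hS a.2 b.2 (hf a) (hfr a) (e ▸ hfr b)
  · rintro ⟨ψ, hψ⟩
    obtain ⟨χ, hχ, hr⟩ := rel_exists' hPN hS hψ
    exact ⟨⟨χ, hχ⟩, Subtype.ext (rel_unique hPN hG hN hS hNP hχ (hf ⟨χ, hχ⟩) hψ (hfr ⟨χ, hχ⟩) hr)⟩

end

theorem card_subtype_ro (G : Type u) [Group G] [Finite G] :
    Nat.card {χ : IrrCharacter G // (∀ g : G, ((χ : G → ℂ) g).im = 0) ∧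
      Odd (charDegree (χ : G → ℂ))} = Nat.card {χ : G → ℂ // RO χ} :=
  Nat.card_congr
    { toFun := fun χ => ⟨(χ.1 : G → ℂ), (ro_iff χ.1).2 χ.2⟩
      invFun := fun χ => ⟨⟨χ.1, χ.2.1⟩, (ro_iff ⟨χ.1, χ.2.1⟩).1 χ.2⟩
      left_inv := fun _ => rfl
      right_inv := fun _ => rfl }

theorem commutator_eq_frattini_of_sq {Q : Type u} [Group Q] [Finite Q] (hQ : IsPGroup 2 Q)
    (hsq : ∀ (e : Q →* ℂˣ) (x : Q), e x * e x = 1) : commutator Q = frattini Q := by
  classical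
  haveI : Fact (Nat.Prime 2) := ⟨Nat.prime_two⟩
  refine le_antisymm (Grp.pGroup_commutator_le_frattini hQ) fun x hx => ?_
  by_contra hne
  have hne' : Abelianization.of x ≠ 1 := fun h => hne (by
    rw [← Abelianization.ker_of Q]
    exact h)
  obtain ⟨f, hf⟩ : ∃ f : Abelianization Q →* ℂˣ, f (Abelianization.of x) ≠ 1 := by
    by_contra h
    push Not at h
    exact hne' (eq_one_of_forall_linear mul_comm h)
  set e : Q →* ℂˣ := f.comp Abelianization.of with he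
  have hex : e x ≠ 1 := hf
  have hval : ∀ y, e y = 1 ∨ e y = -1 := fun y => by
    have h2 : (e y : ℂ) * (e y : ℂ) = 1 := by rw [← Units.val_mul, hsq, Units.val_one]
    rcases mul_self_eq_one_iff.1 h2 with h | h
    · exact Or.inl (Units.ext h)
    · exact Or.inr (Units.ext (by rw [h, Units.val_neg, Units.val_one]))
  have hxm : e x = -1 := (hval x).resolve_left hex
  have hco : IsCoatom e.ker := by
    refine ⟨fun h => hex (MonoidHom.mem_ker.1 (h ▸ Subgroup.mem_top x)), fun K hK => ?_⟩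
    obtain ⟨y, hy, hy'⟩ := SetLike.exists_of_lt hK
    have hym : e y = -1 := (hval y).resolve_left fun h => hy' (MonoidHom.mem_ker.2 h)
    refine (Subgroup.eq_top_iff' K).2 fun z => ?_
    rcases hval z with h | h
    · exact hK.le (MonoidHom.mem_ker.2 h)
    · have h3 : z * y⁻¹ ∈ e.ker := by rw [MonoidHom.mem_ker, map_mul, map_inv, h, hym, mul_inv_cancel]
      have := K.mul_mem (hK.le h3) hy
      simpa using this
  exact hex (MonoidHom.mem_ker.1 (Order.radical_le_coatom hco hx))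

theorem sq_of_commutator_eq {Q : Type u} [Group Q] [Finite Q] (hQ : IsPGroup 2 Q)
    (h : commutator Q = frattini Q) (e : Q →* ℂˣ) (x : Q) : e x * e x = 1 := by
  haveI : Fact (Nat.Prime 2) := ⟨Nat.prime_two⟩
  have h1 : x ^ 2 ∈ e.ker :=
    Abelianization.commutator_subset_ker e (h ▸ Grp.pGroup_pow_mem_frattini hQ x)
  rw [MonoidHom.mem_ker, sq, map_mul] at h1
  exact h1

end Cfsg.Agent.Char.RealOdd
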