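import Cfsg.Agent.Lib.Char.RealOddSteps
import Cfsg.Agent.Lib.Grp.Solvable
import Cfsg.Agent.Lib.Grp.Basic

/-!
Real-valued characters of odd degree of a solvable group are parametrised by the real linear
characters of a Sylow `2`-subgroup up to fusion in its normalizer.
-/

set_option autoImplicit false

namespace Cfsg.Agent.Char.RealOdd

open scoped ComplexConjugate
open Cfsg Cfsg.Agent.Char

universe u

variable {G : Type u} [Group G] [Finite G]

theorem eq_one_of_two_group {P : Subgroup G} (hP : IsPGroup 2 P) {q : ℕ} (hq : q.Prime)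
    (hq2 : q ≠ 2) (x : P) (hx : (x : G) ^ q = 1) : x = 1 := by
  obtain ⟨k, hk⟩ := hP x
  have h : x ^ Nat.gcd q (2 ^ k) = 1 := pow_gcd_eq_one.2 ⟨Subtype.ext hx, hk⟩
  rwa [Nat.Coprime.pow_right k ((Nat.coprime_primes hq Nat.prime_two).2 hq2), pow_one] at h

theorem odd_card_of_exponent {M : Subgroup G} {q : ℕ} (hq : q.Prime) (hq2 : q ≠ 2)
    (hpow : ∀ x ∈ M, x ^ q = 1) : Odd (Nat.card M) := by
  haveI : Fact q.Prime := ⟨hq⟩
  have hM : IsPGroup q M := fun x => ⟨1, by rw [pow_one]; exact Subtype.ext (hpow x x.2)⟩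
  obtain ⟨k, hk⟩ := IsPGroup.iff_card.1 hM
  rw [hk]
  exact (hq.odd_of_ne_two hq2).pow

/-- The induction step over a minimal normal subgroup inside `P`. -/
theorem step_two (M : Subgroup G) [M.Normal] (hQ : Main (G ⧸ M))
    (hT : ∀ T : Subgroup G, T ≠ ⊤ → Main T) {P : Subgroup G} (hS : IsSyl P) (hMP : M ≤ P) :
    (∀ χ χ' : G → ℂ, RO χ → RO χ' → ∀ e : P →* ℂˣ, (∀ x, e x * e x = 1) → OddMult P χ e →
      OddMult P χ' e → χ = χ') ∧
    ∀ χ : G → ℂ, RO χ → ∀ e e' : P →* ℂˣ, (∀ x, e x * e x = 1) → (∀ x, e' x * e' x = 1) →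
      OddMult P χ e → OddMult P χ e' →
      e'.comp (Subgroup.inclusion hMP) = e.comp (Subgroup.inclusion hMP) → Conjug P e e' := by
  have hl : ∀ e : P →* ℂˣ, (∀ x, e x * e x = 1) →
      ∀ m, e.comp (Subgroup.inclusion hMP) m * e.comp (Subgroup.inclusion hMP) m = 1 :=
    fun e he m => he _
  have hlr : ∀ e : P →* ℂˣ, (∀ x, e x * e x = 1) → ∀ m : M,
      conj ((e.comp (Subgroup.inclusion hMP) m : ℂˣ) : ℂ) =
        (e.comp (Subgroup.inclusion hMP) m : ℂ) :=
    fun e he m => linear_real _ (hl e he) m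
  have htwist : ∀ (μ : G →* ℂˣ) (e : P →* ℂˣ), (∀ g, μ g * μ g = 1) → (∀ x, e x * e x = 1) →
      (∀ m : M, μ m = e.comp (Subgroup.inclusion hMP) m) →
      (∀ x, (μ.comp P.subtype * e) x * (μ.comp P.subtype * e) x = 1) ∧
        ∀ x : P, (x : G) ∈ M → (μ.comp P.subtype * e) x = 1 := by
    refine fun μ e hμ he hμe => ⟨fun x => ?_, fun x hx => ?_⟩
    · simp only [MonoidHom.mul_apply, MonoidHom.comp_apply, Subgroup.subtype_apply]
      rw [mul_mul_mul_comm, hμ, he, one_mul]
    · show μ (x : G) * e x = 1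
      rw [hμe ⟨x, hx⟩]
      exact he x
  have hkill : ∀ (μ : G →* ℂˣ) (e : P →* ℂˣ) (χ : G → ℂ) (d : ℕ), (∀ x, e x * e x = 1) →
      χ 1 = d → (∀ m : M, μ m = e.comp (Subgroup.inclusion hMP) m) →
      (∀ m : M, χ m = d * (e.comp (Subgroup.inclusion hMP) m : ℂ)) →
      ∀ m ∈ M, (μ m : ℂ) * χ m = (μ 1 : ℂ) * χ 1 := by
    intro μ e χ d he h1 hμe hv m hm
    have h2 := congrArg (fun u : ℂˣ => (u : ℂ)) (hl e he ⟨m, hm⟩)
    simp only [Units.val_mul, Units.val_one] at h2
    rw [hμe ⟨m, hm⟩, hv ⟨m, hm⟩, map_one, Units.val_one, one_mul, h1,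
      ← mul_assoc, mul_comm _ (d : ℂ), mul_assoc, h2, mul_one]
  constructor
  · intro χ χ' hχ hχ' e he h h'
    set l := e.comp (Subgroup.inclusion hMP) with hldef
    have hover := over_of_oddMult M hMP (IsIrr.isCharacter hχ.1) h
    have hover' := over_of_oddMult M hMP (IsIrr.isCharacter hχ'.1) h'
    have hPT := le_inertia_res M hMP e
    by_cases hTtop : inertia M (fun m : M => (l m : ℂ)) = ⊤
    · obtain ⟨d, hd, h1⟩ := hχ.2.2
      obtain ⟨d', hd', h1'⟩ := hχ'.2.2
      obtain ⟨μ, hμl, hv, hμr⟩ := exists_det_ext M (hl e he) hχ.1 hd h1 hover hTtop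
      obtain ⟨-, -, hv', -⟩ := exists_det_ext M (hl e he) hχ'.1 hd' h1' hover' hTtop
      have hμ := hμr hχ.2.1
      obtain ⟨hsq, hM1⟩ := htwist μ e hμ he hμl
      have := quot_uniq M hQ hS (RO.mul_linear hχ hμ) (RO.mul_linear hχ' hμ)
        (hkill μ e χ d he h1 hμl hv) (hkill μ e χ' d' he h1' hμl hv') hsq hM1
        (h.mul_linear μ) (h'.mul_linear μ)
      funext g
      exact mul_left_cancel₀ (μ g).ne_zero (congrFun this g)
    · set T := inertia M (fun m : M => (l m : ℂ)) with hTdef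
      have hMT : M ≤ T := hMP.trans hPT
      have hθ : IsIrrCharacter M (fun m : M => (l m : ℂ)) := isIrr_linear l
      obtain ⟨ψ, hψ, hi, hψθ⟩ := exists_ro_correspondent M hθ (hlr e he) hTdef hMT hχ hover
      obtain ⟨ψ', hψ', hi', hψθ'⟩ := exists_ro_correspondent M hθ (hlr e he) hTdef hMT hχ' hover'
      have e1 := ip_res_correspondent M hθ hTdef hMT hχ.1 hψ.1 hi hψθ hPT hMP e (fun m => rfl)
      have e2 := ip_res_correspondent M hθ hTdef hMT hχ'.1 hψ'.1 hi' hψθ' hPT hMP e (fun m => rfl)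
      have := (hT T hTtop).uniq _ (hS.subgroupOf hPT) ψ ψ' hψ hψ' (epsT hPT e) (fun x => he _)
        (by obtain ⟨m, hm, hm'⟩ := h; exact ⟨m, hm, e1.trans hm'⟩)
        (by obtain ⟨m, hm, hm'⟩ := h'; exact ⟨m, hm, e2.trans hm'⟩)
      funext g
      rw [← hi, ← hi', this]
  · intro χ hχ e e' he he' h h' hee
    set l := e.comp (Subgroup.inclusion hMP) with hldef
    have hover := over_of_oddMult M hMP (IsIrr.isCharacter hχ.1) h
    have hPT := le_inertia_res M hMP e
    by_cases hTtop : inertia M (fun m : M => (l m : ℂ)) = ⊤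
    · obtain ⟨d, hd, h1⟩ := hχ.2.2
      obtain ⟨μ, hμl, hv, hμr⟩ := exists_det_ext M (hl e he) hχ.1 hd h1 hover hTtop
      have hμ := hμr hχ.2.1
      obtain ⟨hsq, hM1⟩ := htwist μ e hμ he hμl
      obtain ⟨hsq', hM1'⟩ := htwist μ e' hμ he' (fun m => by rw [hee]; exact hμl m)
      obtain ⟨n, hn⟩ := quot_fuse M hQ hS (RO.mul_linear hχ hμ)
        (hkill μ e χ d he h1 hμl hv) hsq hsq' hM1 hM1' (h.mul_linear μ) (h'.mul_linear μ)
      refine ⟨n, MonoidHom.ext fun x => ?_⟩
      have h2 := DFunLike.congr_fun hn x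
      simp only [MonoidHom.mul_apply, MonoidHom.comp_apply, Subgroup.subtype_apply] at h2
      have h3 : μ ((cN P n x : P) : G) = μ (x : G) := by
        show μ ((n : G) * x * (n : G)⁻¹) = _
        rw [map_mul, map_mul, map_inv, mul_inv_cancel_comm]
      rw [h3] at h2
      exact mul_left_cancel h2
    · set T := inertia M (fun m : M => (l m : ℂ)) with hTdef
      have hMT : M ≤ T := hMP.trans hPT
      have hθ : IsIrrCharacter M (fun m : M => (l m : ℂ)) := isIrr_linear l
      obtain ⟨ψ, hψ, hi, hψθ⟩ := exists_ro_correspondent M hθ (hlr e he) hTdef hMT hχ hover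
      have e1 := ip_res_correspondent M hθ hTdef hMT hχ.1 hψ.1 hi hψθ hPT hMP e (fun m => rfl)
      have e2 := ip_res_correspondent M hθ hTdef hMT hχ.1 hψ.1 hi hψθ hPT hMP e'
        (fun m => congrArg Units.val (DFunLike.congr_fun hee m))
      exact Conjug.of_subgroupOf hPT ((hT T hTtop).fuse _ (hS.subgroupOf hPT) ψ hψ
        (epsT hPT e) (epsT hPT e') (fun x => he _) (fun x => he' _)
        (by obtain ⟨m, hm, hm'⟩ := h; exact ⟨m, hm, e1.trans hm'⟩)
        (by obtain ⟨m, hm, hm'⟩ := h'; exact ⟨m, hm, e2.trans hm'⟩))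

theorem irr_eq_of_subsingleton [Subsingleton G] {χ : G → ℂ} (h : IsIrrCharacter G χ) :
    χ = fun _ => 1 := by
  haveI := Fintype.ofFinite G
  exact irr_const_eq_one h fun g => by rw [Subsingleton.elim g 1]

/-- The parametrisation of real characters of odd degree of solvable groups. -/
theorem main_solvable : ∀ (n : ℕ) (G : Type u) [Group G] [Finite G], Nat.card G = n →
    Group.IsSolvable G → Main G := by
  intro n
  induction n using Nat.strong_induction_on with
  | _ n IH =>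
    intro G _ _ hn hsolv
    classical
    rcases subsingleton_or_nontrivial G with hsub | hnt
    · refine ⟨fun P _ χ χ' hχ hχ' _ _ _ _ => by
        rw [irr_eq_of_subsingleton hχ.1, irr_eq_of_subsingleton hχ'.1],
        fun P _ χ _ e e' _ _ _ _ => ⟨1, MonoidHom.ext fun x => ?_⟩⟩
      rw [Subsingleton.elim x 1, map_one, map_one]
    obtain ⟨M, hMn, hMne, -, hMmin⟩ := Grp.exists_minimal_normal_le (N := (⊤ : Subgroup G))
      (fun h => (not_subsingleton G) (Subgroup.subsingleton_iff.1 (subsingleton_of_bot_eq_top h.symm)))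
    haveI := hMn
    obtain ⟨hMc, q, hq, hpow⟩ := Grp.minimal_normal_solvable (N := M) inferInstance hMne hMmin
    have hQ : Main (G ⧸ M) := IH _ (hn ▸ Grp.card_quotient_lt hMne) (G ⧸ M) rfl inferInstance
    have hT : ∀ T : Subgroup G, T ≠ ⊤ → Main T := fun T hT =>
      IH _ (hn ▸ Grp.card_lt_of_ne_top hT) T rfl inferInstance
    have hcomm : ∀ a b : M, a * b = b * a := fun a b => hMc.1.comm a b
    by_cases hq2 : q = 2
    · subst hq2
      have hMP : ∀ P : Subgroup G, IsSyl P → M ≤ P := fun P hS =>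
        hS.le_of_normal fun x => ⟨1, by rw [pow_one]; exact Subtype.ext (hpow x x.2)⟩
      refine ⟨fun P hS => (step_two M hQ hT hS (hMP P hS)).1,
        fun P hS χ hχ e e' he he' h h' => ?_⟩
      haveI := Fintype.ofFinite G
      haveI := Fintype.ofFinite M
      have hsub := hMP P hS
      have o1 := over_of_oddMult M hsub (IsIrr.isCharacter hχ.1) h
      have o2 := over_of_oddMult M hsub (IsIrr.isCharacter hχ.1) h'
      rw [ip_eq] at o1 o2
      obtain ⟨g, hg⟩ := exists_conj_of_constituents M hχ.1 (isIrr_linear _) (isIrr_linear _) o1 o2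
      obtain ⟨k, hk⟩ := invariant_conj M hS g (le_inertia_res M hsub e)
        (hg ▸ le_inertia_res M hsub e')
      refine Conjug.trans ⟨k, rfl⟩ ((step_two M hQ hT hS hsub).2 χ hχ _ e' (twist_sq he k) he'
        (h.twist (IsIrr.classFun hχ.1) k) h' (MonoidHom.ext fun m => Units.ext ?_))
      exact (congrFun (hk.trans hg) m).symm
    · have hodd := odd_card_of_exponent hq hq2 hpow
      have hek : ∀ P : Subgroup G, IsSyl P → ∀ e : P →* ℂˣ, ∀ x : P, (x : G) ∈ M → e x = 1 :=
        fun P hS e x hx => by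
          rw [eq_one_of_two_group hS.isPGroup hq hq2 x (hpow _ hx), map_one]
      exact ⟨fun P hS χ χ' hχ hχ' e he h h' => quot_uniq M hQ hS hχ hχ' (kill_odd M hcomm hodd hχ)
          (kill_odd M hcomm hodd hχ') he (hek P hS e) h h',
        fun P hS χ hχ e e' he he' h h' => quot_fuse M hQ hS hχ (kill_odd M hcomm hodd hχ) he he'
          (hek P hS e) (hek P hS e') h h'⟩

end Cfsg.Agent.Char.RealOdd
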