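import Cfsg.Agent.Lib.Char.RealOddBasic
import Cfsg.Agent.Lib.Char.CliffordCorr
import Mathlib.GroupTheory.Sylow
import Mathlib.GroupTheory.QuotientGroup.Basic
import Mathlib.LinearAlgebra.Determinant

/-!
Real-valued characters of odd degree: passing to quotients, inertia groups and twists.
-/

set_option autoImplicit false

namespace Cfsg.Agent.Char.RealOdd

open scoped ComplexConjugate
open Cfsg Cfsg.Agent.Char

universe u

variable {G : Type u} [Group G] [Finite G]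

/-- `P` is a Sylow `2`-subgroup. -/
def IsSyl (P : Subgroup G) : Prop := ∃ S : Sylow 2 G, (S : Subgroup G) = P

theorem IsSyl.isPGroup {P : Subgroup G} (h : IsSyl P) : IsPGroup 2 P := by
  obtain ⟨S, rfl⟩ := h
  exact S.isPGroup'

theorem IsSyl.odd_index {P : Subgroup G} (h : IsSyl P) : Odd P.index := by
  obtain ⟨S, rfl⟩ := h
  haveI : Fact (Nat.Prime 2) := ⟨Nat.prime_two⟩
  exact Nat.odd_iff.2 (Nat.two_dvd_ne_zero.1 S.not_dvd_index)

theorem IsSyl.le_of_normal {P : Subgroup G} (h : IsSyl P) {M : Subgroup G} [M.Normal]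
    (hM : IsPGroup 2 M) : M ≤ P := by
  obtain ⟨S, rfl⟩ := h
  haveI : Fact (Nat.Prime 2) := ⟨Nat.prime_two⟩
  exact hM.le_sylow_of_normal S

theorem IsSyl.map_mk {P : Subgroup G} (h : IsSyl P) (M : Subgroup G) [M.Normal] :
    IsSyl (P.map (QuotientGroup.mk' M)) := by
  obtain ⟨S, rfl⟩ := h
  haveI : Fact (Nat.Prime 2) := ⟨Nat.prime_two⟩
  exact ⟨S.mapSurjective (QuotientGroup.mk'_surjective M), rfl⟩

theorem IsSyl.subgroupOf {P : Subgroup G} (h : IsSyl P) {T : Subgroup G} (hPT : P ≤ T) :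
    IsSyl (P.subgroupOf T) := by
  obtain ⟨S, rfl⟩ := h
  exact ⟨S.subtype hPT, rfl⟩

/-- Conjugation by an element of the normalizer. -/
def cN (P : Subgroup G) (n : Subgroup.normalizer (P : Set G)) : P →* P where
  toFun x := ⟨(n : G) * x * (n : G)⁻¹, (Subgroup.mem_normalizer_iff.1 n.2 x).1 x.2⟩
  map_one' := by simp
  map_mul' a b := Subtype.ext (by simp [mul_assoc])

theorem cN_surjective (P : Subgroup G) (n : Subgroup.normalizer (P : Set G)) :
    Function.Surjective (cN P n) := fun y =>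
  ⟨⟨(n : G)⁻¹ * y * (n : G), (Subgroup.mem_normalizer_iff.1 n.2 _).2 (by simp [mul_assoc])⟩,
    Subtype.ext (by simp [cN, mul_assoc])⟩

/-- `e'` is a conjugate of `e` under the normalizer of `P`. -/
def Conjug (P : Subgroup G) (e e' : P →* ℂˣ) : Prop :=
  ∃ n : Subgroup.normalizer (P : Set G), e' = e.comp (cN P n)

theorem twist_sq {P : Subgroup G} {e : P →* ℂˣ} (he : ∀ x, e x * e x = 1)
    (n : Subgroup.normalizer (P : Set G)) (x : P) :
    (e.comp (cN P n)) x * (e.comp (cN P n)) x = 1 := he _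

theorem OddMult.twist {P : Subgroup G} {χ : G → ℂ} {e : P →* ℂˣ} (hχ : IsClassFunction G χ)
    (h : OddMult P χ e) (n : Subgroup.normalizer (P : Set G)) :
    OddMult P χ (e.comp (cN P n)) := by
  obtain ⟨m, hm, hm'⟩ := h
  refine ⟨m, hm, ?_⟩
  rw [← hm']
  refine Eq.trans ?_ (ip_comp_surjective (cN P n) (cN_surjective P n) (fun x : P => χ x)
    (fun x : P => (e x : ℂ)))
  congr 1
  funext x
  exact (hχ x n).symm

theorem Conjug.trans {P : Subgroup G} {e e' e'' : P →* ℂˣ} (h : Conjug P e e')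
    (h' : Conjug P e' e'') : Conjug P e e'' := by
  obtain ⟨n, rfl⟩ := h
  obtain ⟨m, rfl⟩ := h'
  exact ⟨n * m, MonoidHom.ext fun x => congrArg e (Subtype.ext (by simp [cN, mul_assoc]))⟩

theorem Conjug.symm {P : Subgroup G} {e e' : P →* ℂˣ} (h : Conjug P e e') : Conjug P e' e := by
  obtain ⟨n, rfl⟩ := h
  exact ⟨n⁻¹, MonoidHom.ext fun x => congrArg e (Subtype.ext (by simp [cN, mul_assoc]))⟩

/-- The two conclusions proved by induction. -/
structure Main (G : Type u) [Group G] [Finite G] : Prop where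
  uniq : ∀ P : Subgroup G, IsSyl P → ∀ χ χ' : G → ℂ, RO χ → RO χ' → ∀ e : P →* ℂˣ,
    (∀ x, e x * e x = 1) → OddMult P χ e → OddMult P χ' e → χ = χ'
  fuse : ∀ P : Subgroup G, IsSyl P → ∀ χ : G → ℂ, RO χ → ∀ e e' : P →* ℂˣ,
    (∀ x, e x * e x = 1) → (∀ x, e' x * e' x = 1) → OddMult P χ e → OddMult P χ e' →
      Conjug P e e'

/-! ### quotients -/

variable (M : Subgroup G) [M.Normal]

/-- The map from a subgroup to its image in the quotient. -/
noncomputable def sM (P : Subgroup G) : P →* P.map (QuotientGroup.mk' M) :=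
  (QuotientGroup.mk' M).subgroupMap P

theorem sM_surjective (P : Subgroup G) : Function.Surjective (sM M P) :=
  MonoidHom.subgroupMap_surjective _ _

theorem coe_sM (P : Subgroup G) (x : P) : ((sM M P x : G ⧸ M)) = ((x : G) : G ⧸ M) := rfl

theorem factor_eps {P : Subgroup G} {e : P →* ℂˣ} (he : ∀ x, e x * e x = 1)
    (hker : ∀ x : P, (x : G) ∈ M → e x = 1) :
    ∃ eb : P.map (QuotientGroup.mk' M) →* ℂˣ,
      (∀ y, eb y * eb y = 1) ∧ ∀ x, eb (sM M P x) = e x := by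
  have hle : (sM M P).ker ≤ e.ker := by
    intro x hx
    refine hker x ((QuotientGroup.eq_one_iff (x : G)).1 ?_)
    rw [← coe_sM M P x, MonoidHom.mem_ker.1 hx]
    rfl
  refine ⟨(sM M P).liftOfSurjective (sM_surjective M P) ⟨e, hle⟩, fun y => ?_,
    fun x => MonoidHom.liftOfRightInverse_comp_apply _ _ _ _ x⟩
  obtain ⟨x, rfl⟩ := sM_surjective M P y
  show _ * _ = _
  rw [MonoidHom.liftOfSurjective, MonoidHom.liftOfRightInverse_comp_apply]
  exact he x

theorem RO.factor {χ : G → ℂ} (h : RO χ) (hker : ∀ m ∈ M, χ m = χ 1) :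
    ∃ χb : G ⧸ M → ℂ, RO χb ∧ ∀ g : G, χb (g : G ⧸ M) = χ g := by
  obtain ⟨χb, hb, hb'⟩ := IsIrr.exists_factor_quotient h.1 M hker
  refine ⟨χb, ⟨hb, fun q => ?_, ?_⟩, hb'⟩
  · obtain ⟨g, rfl⟩ := QuotientGroup.mk_surjective q
    rw [hb']; exact h.2.1 g
  · obtain ⟨d, hd, h1⟩ := h.2.2
    exact ⟨d, hd, by rw [← QuotientGroup.mk_one, hb', h1]⟩

theorem RO.inflate {χb : G ⧸ M → ℂ} (h : RO χb) : RO (fun g : G => χb (g : G ⧸ M)) :=
  ⟨IsIrr.comp_surjective (QuotientGroup.mk' M) (QuotientGroup.mk'_surjective M) h.1,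
    fun g => h.2.1 _, h.2.2⟩

theorem oddMult_factor {P : Subgroup G} {χ : G → ℂ} {χb : G ⧸ M → ℂ} {e : P →* ℂˣ}
    {eb : P.map (QuotientGroup.mk' M) →* ℂˣ} (hb : ∀ g : G, χb (g : G ⧸ M) = χ g)
    (he : ∀ x, eb (sM M P x) = e x) :
    OddMult P χ e ↔ OddMult (P.map (QuotientGroup.mk' M)) χb eb := by
  unfold OddMult
  rw [← ip_comp_surjective (sM M P) (sM_surjective M P)]
  refine exists_congr fun m => ?_
  simp only [coe_sM, hb, he]

theorem exists_lift_normalizer {P : Subgroup G} (hS : IsSyl P) {q : G ⧸ M}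
    (hq : q ∈ Subgroup.normalizer ((P.map (QuotientGroup.mk' M) : Subgroup (G ⧸ M)) : Set (G ⧸ M))) :
    ∃ n ∈ Subgroup.normalizer (P : Set G), ∃ p ∈ P.map (QuotientGroup.mk' M),
      q = p * (n : G ⧸ M) := by
  obtain ⟨S, rfl⟩ := hS
  haveI : Fact (Nat.Prime 2) := ⟨Nat.prime_two⟩
  obtain ⟨g, rfl⟩ := QuotientGroup.mk_surjective q
  set I := ((S : Subgroup G).map (QuotientGroup.mk' M)).comap (QuotientGroup.mk' M) with hI
  have hPI : (S : Subgroup G) ≤ I := Subgroup.le_comap_map _ _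
  have hgP : ((g • S : Sylow 2 G) : Subgroup G) ≤ I := by
    rintro y ⟨x, hx, rfl⟩
    exact (Subgroup.mem_normalizer_iff.1 hq _).1 (Subgroup.mem_map_of_mem _ hx)
  obtain ⟨i, hi⟩ := MulAction.exists_smul_eq I (S.subtype hPI) ((g • S).subtype hgP)
  rw [Sylow.smul_subtype] at hi
  have e : (i : G) • S = g • S := Sylow.subtype_injective hi
  refine ⟨(i : G)⁻¹ * g, ?_, _, i.2, ?_⟩
  · rw [Sylow.coe_coe, ← Sylow.smul_eq_iff_mem_normalizer, mul_smul, ← e, inv_smul_smul]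
  · simp

theorem quot_uniq (hQ : Main (G ⧸ M)) {P : Subgroup G} (hS : IsSyl P) {χ χ' : G → ℂ}
    (hχ : RO χ) (hχ' : RO χ') (hk : ∀ m ∈ M, χ m = χ 1) (hk' : ∀ m ∈ M, χ' m = χ' 1)
    {e : P →* ℂˣ} (he : ∀ x, e x * e x = 1) (hek : ∀ x : P, (x : G) ∈ M → e x = 1)
    (h : OddMult P χ e) (h' : OddMult P χ' e) : χ = χ' := by
  obtain ⟨eb, heb, hebe⟩ := factor_eps M he hek
  obtain ⟨a, ha, ha'⟩ := RO.factor M hχ hk
  obtain ⟨b, hb, hb'⟩ := RO.factor M hχ' hk'
  have := hQ.uniq _ (IsSyl.map_mk hS M) a b ha hb eb heb ((oddMult_factor M ha' hebe).1 h)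
    ((oddMult_factor M hb' hebe).1 h')
  funext g
  rw [← ha', ← hb', this]

theorem quot_fuse (hQ : Main (G ⧸ M)) {P : Subgroup G} (hS : IsSyl P) {χ : G → ℂ}
    (hχ : RO χ) (hk : ∀ m ∈ M, χ m = χ 1)
    {e e' : P →* ℂˣ} (he : ∀ x, e x * e x = 1) (he' : ∀ x, e' x * e' x = 1)
    (hek : ∀ x : P, (x : G) ∈ M → e x = 1) (hek' : ∀ x : P, (x : G) ∈ M → e' x = 1)
    (h : OddMult P χ e) (h' : OddMult P χ e') : Conjug P e e' := by
  obtain ⟨eb, heb, hebe⟩ := factor_eps M he hek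
  obtain ⟨eb', heb', hebe'⟩ := factor_eps M he' hek'
  obtain ⟨a, ha, ha'⟩ := RO.factor M hχ hk
  obtain ⟨q, hq⟩ := hQ.fuse _ (IsSyl.map_mk hS M) a ha eb eb' heb heb'
    ((oddMult_factor M ha' hebe).1 h) ((oddMult_factor M ha' hebe').1 h')
  obtain ⟨n, hn, p, hp, hqn⟩ := exists_lift_normalizer M hS q.2
  refine ⟨⟨n, hn⟩, MonoidHom.ext fun x => ?_⟩
  rw [← hebe', hq, MonoidHom.comp_apply, MonoidHom.comp_apply, ← hebe]
  have e1 : cN (P.map (QuotientGroup.mk' M)) q (sM M P x) =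
      ⟨p, hp⟩ * sM M P (cN P ⟨n, hn⟩ x) * ⟨p, hp⟩⁻¹ := by
    refine Subtype.ext ?_
    simp only [Subgroup.coe_mul, InvMemClass.coe_inv, coe_sM]
    show (q : G ⧸ M) * ((x : G) : G ⧸ M) * (q : G ⧸ M)⁻¹ =
      p * ((n * (x : G) * n⁻¹ : G) : G ⧸ M) * p⁻¹
    rw [hqn, QuotientGroup.mk_mul, QuotientGroup.mk_mul, QuotientGroup.mk_inv]
    group
  rw [e1, map_mul, map_mul, map_inv, mul_inv_cancel_comm]

/-! ### kernels and constituents -/

/-- Real characters of odd degree are trivial on abelian normal subgroups of odd order. -/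
theorem kill_odd (hcomm : ∀ a b : M, a * b = b * a) (hodd : Odd (Nat.card M)) {χ : G → ℂ}
    (hχ : RO χ) : ∀ m ∈ M, χ m = χ 1 := by
  classical
  haveI := Fintype.ofFinite G
  haveI := Fintype.ofFinite M
  obtain ⟨hirr, hreal, d, hd, h1⟩ := hχ
  obtain ⟨φ, ⟨hφ, hφr, -⟩, j, hj, hj'⟩ := exists_ro_constituent
    (IsChar.res (IsIrr.isCharacter hirr) M) (fun x => hreal x) hd h1
  have hne : classInner (fun m : M => χ m) φ ≠ 0 := by
    rw [← ip_eq, hj', Nat.cast_ne_zero]; exact hj.pos.ne'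
  obtain ⟨l, hl⟩ := linearHom_of_isCharacter (IsIrr.isCharacter hφ) (IsIrr.one_of_comm hcomm hφ)
  have htriv : φ = fun _ => (1 : ℂ) := by
    funext x
    have hinv := IsIrr.apply_inv hφ x
    rw [hφr, hl] at hinv
    simp only [map_inv] at hinv
    have h2 : l x ^ 2 = 1 := by
      rw [sq, ← inv_inj, mul_inv, inv_one]
      nth_rewrite 2 [Units.ext hinv]
      rw [inv_mul_cancel]
    have h3 : l x ^ Nat.card M = 1 := by rw [← map_pow, pow_card_eq_one', map_one]
    rw [hl]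
    obtain ⟨k, hk⟩ := hodd
    rw [hk, pow_succ, pow_mul, h2, one_pow, one_mul] at h3
    simp [h3]
  intro m hm
  have hc := clifford M hirr hφ hne
  have horb : conjOrbit M φ = {fun _ => (1 : ℂ)} := by
    refine Finset.eq_singleton_iff_unique_mem.2 ⟨?_, ?_⟩
    · exact (mem_conjOrbit M).2 ⟨1, by rw [conjN_one, htriv]⟩
    · intro ψ hψ
      obtain ⟨g, rfl⟩ := (mem_conjOrbit M).1 hψ
      rw [htriv]; rfl
  rw [horb, Finset.sum_singleton] at hc
  have e1 := congrFun hc ⟨m, hm⟩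
  have e2 := congrFun hc 1
  simp only [Pi.smul_apply] at e1 e2
  rw [e1, ← OneMemClass.coe_one M, e2]

/-- The restriction of a linear constituent to a smaller subgroup is a constituent. -/
theorem over_of_oddMult {P : Subgroup G} (hMP : M ≤ P) {χ : G → ℂ} (hχ : IsCharacter G χ)
    {e : P →* ℂˣ} (h : OddMult P χ e) :
    ip (fun m : M => χ m) (fun m : M => ((e.comp (Subgroup.inclusion hMP)) m : ℂ)) ≠ 0 :=
  ip_hom_ne_zero (Subgroup.inclusion hMP) (IsChar.res hχ P) (isIrr_linear e) h.ne_zero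
    (η := fun m : M => ((e.comp (Subgroup.inclusion hMP)) m : ℂ))
    (IsIrr.isCharacter (isIrr_linear _)) (by
      rw [show (fun h : M => ((e (Subgroup.inclusion hMP h) : ℂˣ) : ℂ)) =
        fun m : M => ((e.comp (Subgroup.inclusion hMP)) m : ℂ) from rfl,
        ip_self (isIrr_linear _)]
      exact one_ne_zero)

theorem le_inertia_res {P : Subgroup G} (hMP : M ≤ P) (e : P →* ℂˣ) :
    P ≤ inertia M (fun m : M => ((e.comp (Subgroup.inclusion hMP)) m : ℂ)) := by
  intro g hg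
  rw [mem_inertia]
  funext m
  simp only [conjN_apply, MonoidHom.comp_apply]
  have hc : Subgroup.inclusion hMP ⟨g * m * g⁻¹, Subgroup.Normal.conj_mem inferInstance _ m.2 g⟩ =
      (⟨g, hg⟩ : P) * Subgroup.inclusion hMP m * (⟨g, hg⟩ : P)⁻¹ := Subtype.ext rfl
  rw [hc, map_mul, map_mul, map_inv, mul_inv_cancel_comm]

/-- Conjugate invariant characters are conjugate under the normalizer. -/
theorem invariant_conj {P : Subgroup G} (hS : IsSyl P) {θ : M → ℂ} (g : G)
    (h1 : P ≤ inertia M θ) (h2 : P ≤ inertia M (Char.conjN M g θ)) :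
    ∃ n : Subgroup.normalizer (P : Set G), Char.conjN M (n : G) θ = Char.conjN M g θ := by
  obtain ⟨S, rfl⟩ := hS
  haveI : Fact (Nat.Prime 2) := ⟨Nat.prime_two⟩
  set I := inertia M θ
  have hgP : ((g • S : Sylow 2 G) : Subgroup G) ≤ I := by
    rintro y ⟨x, hx, rfl⟩
    show Char.conjN M (g * x * g⁻¹) θ = θ
    have := (mem_inertia M).1 (h2 hx)
    rw [← conjN_mul] at this
    rw [conjN_mul, this, ← conjN_mul, mul_inv_cancel, conjN_one]
  obtain ⟨i, hi⟩ := MulAction.exists_smul_eq I (S.subtype h1) ((g • S).subtype hgP)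
  rw [Sylow.smul_subtype] at hi
  have e : (i : G) • S = g • S := Sylow.subtype_injective hi
  refine ⟨⟨(i : G)⁻¹ * g, ?_⟩, ?_⟩
  · rw [Sylow.coe_coe, ← Sylow.smul_eq_iff_mem_normalizer, mul_smul, ← e, inv_smul_smul]
  · show Char.conjN M ((i : G)⁻¹ * g) θ = _
    rw [conjN_mul, (mem_inertia M).1 (I.inv_mem i.2)]

/-! ### the inertia group -/

theorem exists_ro_correspondent {θ : M → ℂ} (hθ : IsIrrCharacter M θ)
    (hθr : ∀ m, conj (θ m) = θ m) {T : Subgroup G} (hT : T = inertia M θ) (hMT : M ≤ T)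
    {χ : G → ℂ} (hχ : RO χ) (hne : ip (fun m : M => χ m) θ ≠ 0) :
    ∃ ψ : T → ℂ, RO ψ ∧ (∀ g, @indFun G _ (Fintype.ofFinite G) T ψ g = χ g) ∧
      ip (fun m : M => ψ ⟨m, hMT m.2⟩) θ ≠ 0 := by
  haveI := Fintype.ofFinite G
  haveI := Fintype.ofFinite M
  haveI := Fintype.ofFinite T
  obtain ⟨hirr, hreal, d, hd, h1⟩ := hχ
  rw [ip_eq] at hne
  obtain ⟨ψ, hψ, hind, hψθ⟩ := Corr.exists_correspondent M hθ hT hMT hirr hne
  have hψne : classInner (fun m : M => ψ ⟨m, hMT m.2⟩) θ ≠ 0 := by rw [hψθ]; exact hne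
  obtain ⟨-, huniq⟩ := Corr.indFun_irr M hθ hT hMT hψ hψne
  have hψbar : (fun t => conj (ψ t)) = ψ := by
    refine huniq _ (IsIrr.conj hψ) ?_ ?_
    · rw [← ip_eq, show θ = fun m => conj (θ m) from (funext hθr).symm,
        ip_conj (fun m : M => ψ ⟨m, hMT m.2⟩), Ne, map_eq_zero, ip_eq]
      exact hψne
    · funext g
      have e : indFun T (fun t => conj (ψ t)) g = conj (indFun T ψ g) := by
        simp only [indFun, map_mul, map_inv₀, map_natCast, map_sum]
        congr 1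
        refine Finset.sum_congr rfl fun x _ => ?_
        by_cases hx : x⁻¹ * g * x ∈ T
        · rw [extendByZero_of_mem _ hx, extendByZero_of_mem _ hx]
        · rw [extendByZero_not_mem _ hx, extendByZero_not_mem _ hx, map_zero]
      rw [e, hind, hreal]
  obtain ⟨k, -, hk⟩ := IsIrr.one_eq_pos hψ
  refine ⟨ψ, ⟨hψ, fun t => congrFun hψbar t, k, ?_, hk⟩, fun g => ?_, ?_⟩
  · have h := congrFun hind 1
    rw [indFun_one_eq, hk, h1, ← Nat.cast_mul, Nat.cast_inj] at h
    exact (Nat.odd_mul.1 (h ▸ hd)).2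
  · rw [← congrFun hind g]
    congr
    exact Subsingleton.elim _ _
  · rw [ip_eq]; exact hψne

/-- Transport of a homomorphism to the copy of `P` inside an overgroup. -/
noncomputable def epsT {P T : Subgroup G} (hPT : P ≤ T) (e : P →* ℂˣ) : P.subgroupOf T →* ℂˣ :=
  e.comp (Subgroup.subgroupOfEquivOfLe hPT).toMonoidHom

theorem ip_res_correspondent {θ : M → ℂ} (hθ : IsIrrCharacter M θ) {T : Subgroup G}
    (hT : T = inertia M θ) (hMT : M ≤ T) {χ : G → ℂ} (hχ : IsIrrCharacter G χ) {ψ : T → ℂ}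
    (hψ : IsIrrCharacter T ψ) (hind : ∀ g, @indFun G _ (Fintype.ofFinite G) T ψ g = χ g)
    (hψθ : ip (fun m : M => ψ ⟨m, hMT m.2⟩) θ ≠ 0) {P : Subgroup G} (hPT : P ≤ T) (hMP : M ≤ P)
    (e : P →* ℂˣ) (heθ : ∀ m : M, (e (Subgroup.inclusion hMP m) : ℂ) = θ m) :
    ip (fun x : P.subgroupOf T => ψ x) (fun x => (epsT hPT e x : ℂ)) =
      ip (fun x : P => χ x) (fun x => (e x : ℂ)) := by
  classical
  haveI := Fintype.ofFinite G
  haveI := Fintype.ofFinite M
  haveI := Fintype.ofFinite T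
  have hind' : indFun T ψ = χ := by
    funext g
    rw [← hind g]
    congr
    exact Subsingleton.elim _ _
  rw [show (fun x : P.subgroupOf T => ψ x) = fun x : P.subgroupOf T =>
    (fun y : P => ψ ⟨y, hPT y.2⟩) ((Subgroup.subgroupOfEquivOfLe hPT).toMonoidHom x) from rfl]
  unfold epsT
  refine (ip_comp_surjective (Subgroup.subgroupOfEquivOfLe hPT).toMonoidHom
    (Subgroup.subgroupOfEquivOfLe hPT).surjective (fun y : P => ψ ⟨y, hPT y.2⟩)
    (fun y : P => (e y : ℂ))).trans ?_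
  rw [show (fun x : P => χ x) = fun x : P => (fun t : T => χ t) (Subgroup.inclusion hPT x) from rfl,
    ip_hom_sum (Subgroup.inclusion hPT) (IsChar.res (IsIrr.isCharacter hχ) T)]
  have hone : ip (fun t : T => χ t) ψ = 1 := by
    rw [ip_eq, ← classInner_indFun_right T ψ (IsIrr.classFun hχ), hind', classInner_self_irr hχ]
  rw [Finset.sum_eq_single (⟨ψ, hψ⟩ : IrrCharacter T) ?_ (by simp), hone, one_mul]
  · rfl
  intro φ _ hne
  by_contra hmul
  change ¬ _ = 0 at hmul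
  rw [mul_eq_zero, not_or] at hmul
  refine hne (Subtype.ext ?_)
  obtain ⟨-, -, h3⟩ := Corr.core M hθ hT hMT hψ (by rw [← ip_eq]; exact hψθ) hχ
    (by rw [← ip_eq, hone]; exact one_ne_zero)
  refine h3 φ φ.2 (by rw [← ip_eq]; exact hmul.1) ?_
  rw [← ip_eq]
  refine ip_hom_ne_zero (Subgroup.inclusion hMP) (φ := fun x : P => (e x : ℂ))
    (IsChar.comp (Subgroup.inclusion hPT) (IsIrr.isCharacter φ.2)) (isIrr_linear e) hmul.2
    (IsIrr.isCharacter hθ) ?_
  rw [funext heθ, ip_self hθ]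
  exact one_ne_zero

/-- Fusion inside an overgroup gives fusion in the group. -/
theorem Conjug.of_subgroupOf {P T : Subgroup G} (hPT : P ≤ T) {e e' : P →* ℂˣ}
    (h : Conjug (P.subgroupOf T) (epsT hPT e) (epsT hPT e')) : Conjug P e e' := by
  obtain ⟨n, hn⟩ := h
  have hnP : ((n : T) : G) ∈ Subgroup.normalizer (P : Set G) := by
    refine Subgroup.mem_normalizer_iff.2 fun x => ⟨fun hx => ?_, fun hx => ?_⟩
    · exact Subgroup.mem_subgroupOf.1 ((Subgroup.mem_normalizer_iff.1 n.2 ⟨x, hPT hx⟩).1 hx)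
    · have hx' : x ∈ T := by
        have h2 := T.mul_mem (T.mul_mem (T.inv_mem (n : T).2) (hPT hx)) (n : T).2
        simpa [mul_assoc] using h2
      exact Subgroup.mem_subgroupOf.1 ((Subgroup.mem_normalizer_iff.1 n.2 ⟨x, hx'⟩).2 hx)
  refine ⟨⟨((n : T) : G), hnP⟩, MonoidHom.ext fun x => ?_⟩
  exact DFunLike.congr_fun hn ((Subgroup.subgroupOfEquivOfLe hPT).symm x)

/-! ### twisting by a determinant -/

/-- The determinant of an invariant character of odd degree extends the linear character below. -/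
theorem exists_det_ext {l : M →* ℂˣ} (hl : ∀ m, l m * l m = 1) {χ : G → ℂ}
    (hχ : IsIrrCharacter G χ) {d : ℕ} (hd : Odd d) (h1 : χ 1 = d)
    (hne : ip (fun m : M => χ m) (fun m : M => (l m : ℂ)) ≠ 0)
    (hinv : inertia M (fun m : M => (l m : ℂ)) = ⊤) :
    ∃ μ : G →* ℂˣ, (∀ m : M, μ m = l m) ∧ (∀ m : M, χ m = d * (l m : ℂ)) ∧
      ((∀ g, conj (χ g) = χ g) → ∀ g, μ g * μ g = 1) := by
  classical
  haveI := Fintype.ofFinite G
  haveI := Fintype.ofFinite M
  set θ : M → ℂ := fun m => (l m : ℂ) with hθdef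
  have hθ : IsIrrCharacter M θ := isIrr_linear l
  rw [ip_eq] at hne
  have hc := clifford M hχ hθ hne
  have horb : conjOrbit M θ = {θ} := by
    refine Finset.eq_singleton_iff_unique_mem.2 ⟨(mem_conjOrbit M).2 ⟨1, conjN_one M θ⟩, ?_⟩
    intro ψ hψ
    obtain ⟨g, rfl⟩ := (mem_conjOrbit M).1 hψ
    exact (mem_inertia M).1 (hinv ▸ Subgroup.mem_top g)
  rw [horb, Finset.sum_singleton] at hc
  have he : classInner (fun m : M => χ m) θ = d := by
    have := congrFun hc 1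
    simp only [Pi.smul_apply, smul_eq_mul, Subgroup.coe_one, hθdef, map_one, Units.val_one,
      mul_one] at this
    rw [← this, h1]
  have hval : ∀ m : M, χ m = d * (l m : ℂ) := fun m => by
    have := congrFun hc m
    rw [he, Pi.smul_apply, smul_eq_mul] at this
    exact this
  obtain ⟨n, ρ, hρ, rfl, hn, -⟩ := IsIrr.exists_rep hχ
  have hnd : n = d := by exact_mod_cast hn.symm.trans h1
  subst hnd
  refine ⟨detUnits ρ, fun m => ?_, hval, fun hreal g => ?_⟩
  · have hnorm : ‖ρ.character (m : G)‖ = (Module.finrank ℂ (Fin n → ℂ) : ℝ) := by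
      rw [hval m, Module.finrank_fin_fun, norm_mul, Complex.norm_natCast]
      have h2 : (l m : ℂ) * (l m : ℂ) = 1 := by rw [← Units.val_mul, hl, Units.val_one]
      rcases mul_self_eq_one_iff.1 h2 with h | h <;> simp [h]
    obtain ⟨w, hw⟩ := (norm_character_eq_iff ρ (m : G)).1 hnorm
    have hn0 : (n : ℂ) ≠ 0 := Nat.cast_ne_zero.2 hd.pos.ne'
    have hwl : w = (l m : ℂ) := by
      have h2 := hval m
      rw [Representation.character, hw, map_smul, LinearMap.trace_id, Module.finrank_fin_fun,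
        smul_eq_mul, mul_comm] at h2
      exact mul_left_cancel₀ hn0 h2
    refine Units.ext ?_
    rw [detUnits_apply, hw, LinearMap.det_smul, LinearMap.det_id, mul_one,
      Module.finrank_fin_fun, hwl, ← Units.val_pow_eq_pow_val]
    congr 1
    obtain ⟨k, hk⟩ := hd
    rw [hk, pow_succ, pow_mul, sq, hl, one_pow, one_mul]
  · have hchar : ρ.dual.character = ρ.character := by
      funext x
      rw [Representation.char_dual, IsIrr.apply_inv hχ, hreal]
    haveI : ρ.dual.IsIrreducible := irreducible_of_character _ (hchar ▸ hχ)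
    haveI := hρ
    have h2 := detChar_eq ρ.dual g
    rw [hchar, detChar_eq ρ g, Representation.dual_apply] at h2
    have h3 : LinearMap.det (Module.Dual.transpose (R := ℂ) (ρ g⁻¹)) = LinearMap.det (ρ g⁻¹) :=
      LinearMap.det_dualMap _
    rw [h3] at h2
    have h4 : detUnits ρ g = detUnits ρ g⁻¹ := Units.ext h2
    rw [map_inv] at h4
    nth_rewrite 2 [h4]
    rw [mul_inv_cancel]

theorem RO.mul_linear {χ : G → ℂ} (h : RO χ) {μ : G →* ℂˣ} (hμ : ∀ g, μ g * μ g = 1) :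
    RO (fun g => (μ g : ℂ) * χ g) := by
  obtain ⟨hirr, hreal, d, hd, h1⟩ := h
  refine ⟨IsIrr.mul_linear hirr μ, fun g => by rw [map_mul, linear_real μ hμ, hreal], d, hd, ?_⟩
  show (μ 1 : ℂ) * χ 1 = _
  rw [map_one, Units.val_one, one_mul, h1]

theorem OddMult.mul_linear {P : Subgroup G} {χ : G → ℂ} {e : P →* ℂˣ} (h : OddMult P χ e)
    (μ : G →* ℂˣ) :
    OddMult P (fun g => (μ g : ℂ) * χ g) (μ.comp P.subtype * e) := by
  obtain ⟨m, hm, hm'⟩ := h
  refine ⟨m, hm, ?_⟩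
  rw [← hm', ← ip_mul_linear (fun x : P => χ x) (fun x : P => (e x : ℂ)) (μ.comp P.subtype)]
  rfl

end Cfsg.Agent.Char.RealOdd
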