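import Cfsg.Agent.Lib.Char.QuasiPrimitiveMain
import Cfsg.Agent.Lib.Char.RamifiedComplement
import Mathlib.GroupTheory.Nilpotent
import Mathlib.GroupTheory.Sylow

/-!
Monomiality above a normal subgroup with abelian Sylow subgroups.
-/

open scoped ComplexConjugate commutatorElement

namespace Cfsg.Agent.Char.RelMono

open Cfsg Cfsg.Agent.Char

set_option linter.unusedSectionVars false
set_option linter.style.haveILetI false

universe u

/-- All subgroups of prime power order are abelian. -/
def AbSyl (X : Type u) [Group X] : Prop :=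
  ∀ p : ℕ, p.Prime → ∀ S : Subgroup X, IsPGroup p S → ∀ a ∈ S, ∀ b ∈ S, a * b = b * a

theorem abSyl_of_sylow {X : Type u} [Group X]
    (h : ∀ (p : ℕ) [Fact p.Prime] (P : Sylow p X), ∀ a ∈ P, ∀ b ∈ P, a * b = b * a) : AbSyl X := by
  intro p hp S hS a ha b hb
  haveI := Fact.mk hp
  obtain ⟨P, hP⟩ := hS.exists_le_sylow
  exact h p P a (hP ha) b (hP hb)

theorem AbSyl.of_injective {X Y : Type u} [Group X] [Group Y] (f : X →* Y)
    (hf : Function.Injective f) (h : AbSyl Y) : AbSyl X := fun p hp S hS a ha b hb =>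
  hf (by rw [map_mul, map_mul]; exact h p hp _ (hS.map f) _ ⟨a, ha, rfl⟩ _ ⟨b, hb, rfl⟩)

theorem AbSyl.of_surjective {X Y : Type u} [Group X] [Finite X] [Group Y] (f : X →* Y)
    (hf : Function.Surjective f) (h : AbSyl X) : AbSyl Y := by
  intro p hp S hS a ha b hb
  haveI := Fact.mk hp
  obtain ⟨P, hP⟩ := hS.exists_le_sylow
  obtain ⟨Q, rfl⟩ := Sylow.mapSurjective_surjective hf p P
  obtain ⟨x, hx, rfl⟩ := hP ha
  obtain ⟨y, hy, rfl⟩ := hP hb
  rw [← map_mul, ← map_mul, h p hp _ Q.2 x hx y hy]

theorem AbSyl.comm_of_nilpotent {X : Type u} [Group X] [Finite X] (h : AbSyl X)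
    [Group.IsNilpotent X] : ∀ a b : X, a * b = b * a := by
  obtain ⟨e⟩ := (Group.isNilpotent_of_finite_tfae (G := X)).out 0 4 rfl rfl |>.1 ‹_›
  intro a b
  obtain ⟨x, rfl⟩ := e.surjective a
  obtain ⟨y, rfl⟩ := e.surjective b
  rw [← map_mul, ← map_mul]
  congr 1
  funext p P
  haveI : Fact (p : ℕ).Prime := ⟨Nat.prime_of_mem_primeFactors p.2⟩
  exact Subtype.ext (h p (Nat.prime_of_mem_primeFactors p.2) _ P.2 _ (x p P).2 _ (y p P).2)

/-- A faithful character homogeneous on abelian normal subgroups is linear on such a subgroup. -/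
theorem abelian_of_homog {U : Type u} [Group U] [Fintype U] {η : U → ℂ} (hη : IsIrrCharacter U η)
    (hfaith : ∀ g, η g = η 1 → g = 1) (M : Subgroup U) [M.Normal] [Group.IsSolvable M]
    (hM : AbSyl M)
    (hhom : ∀ A : Subgroup U, A.Normal → ∃ (θ : A → ℂ) (e : ℕ), IsIrrCharacter A θ ∧
      (fun x : A => η x) = (e : ℂ) • θ) :
    ∀ a b : M, a * b = b * a := by
  classical
  have hη0 : η 1 ≠ 0 := IsIrr.one_ne_zero hη
  have hcen : ∀ A : Subgroup U, A.Normal → (∀ a b : A, a * b = b * a) →
      A ≤ Subgroup.center U := by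
    intro A hA hAc a ha
    obtain ⟨θ, e, hθ, hres⟩ := hhom A hA
    letI := Fintype.ofFinite A
    have hθ1 : θ 1 = 1 := IsIrr.one_of_comm hAc hθ
    obtain ⟨l, hl⟩ := linearHom_of_isCharacter (IsIrr.isCharacter hθ) hθ1
    have he : η 1 = (e : ℂ) := by
      simpa [hθ1] using congrFun hres 1
    rw [Subgroup.mem_center_iff]
    intro g
    refine mul_inv_eq_one.1 (hfaith _ ?_)
    rw [show g * a * (a * g)⁻¹ = (g * a * g⁻¹) * a⁻¹ by group]
    have hA' : g * a * g⁻¹ ∈ A := hA.conj_mem a ha g
    have h2 := congrFun hres ⟨_, mul_mem hA' (inv_mem ha)⟩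
    have h3 := congrFun hres ⟨_, hA'⟩
    have h4 := congrFun hres ⟨_, ha⟩
    simp only [Pi.smul_apply, smul_eq_mul] at h2 h3 h4
    rw [IsIrr.classFun hη a g, h4] at h3
    have he0 : (e : ℂ) ≠ 0 := he ▸ hη0
    have h5 : θ ⟨_, hA'⟩ = θ ⟨a, ha⟩ := (mul_left_cancel₀ he0 h3).symm
    have hl' : ∀ y : A, θ y = (l y : ℂ) := fun y => by first | exact congrFun hl y | exact (congrFun hl y).symm | exact hl y | exact (hl y).symm
    rw [hl', hl'] at h5
    rw [h2, he, hl',
      show (⟨g * a * g⁻¹ * a⁻¹, mul_mem hA' (inv_mem ha)⟩ : A) = ⟨_, hA'⟩ * ⟨a, ha⟩⁻¹ from rfl,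
      map_mul, Units.val_mul, h5, ← Units.val_mul, ← map_mul, mul_inv_cancel, map_one,
      Units.val_one, mul_one]
  by_contra hne
  -- the centre of the subgroup
  set Z : Subgroup U := M ⊓ Subgroup.centralizer (M : Set U) with hZ
  haveI hZn : Z.Normal := Subgroup.normal_inf_normal _ _
  have hZM : Z < M := by
    refine lt_of_le_of_ne inf_le_left fun h => hne fun a b => Subtype.ext ?_
    have ha : (a : U) ∈ Z := h.symm ▸ a.2
    exact (Subgroup.mem_centralizer_iff.1 ha.2 b b.2).symm
  -- derived series through the quotient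
  obtain ⟨n, hn⟩ := (Group.isSolvable_def M).1 inferInstance
  let D : ℕ → Subgroup U := fun k => (derivedSeries M k).map M.subtype ⊔ Z
  have hD0 : D 0 = M := by
    show (derivedSeries M 0).map M.subtype ⊔ Z = M
    rw [derivedSeries_zero, ← MonoidHom.range_eq_map, Subgroup.range_subtype,
      sup_eq_left.2 hZM.le]
  have hDn : D n = Z := by
    show (derivedSeries M n).map M.subtype ⊔ Z = Z
    rw [hn, Subgroup.map_bot, bot_sup_eq]
  have hex : ∃ k, D k = Z := ⟨n, hDn⟩
  have hk0 : Nat.find hex ≠ 0 := fun h => hZM.ne ((h ▸ Nat.find_spec hex).symm.trans hD0)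
  obtain ⟨k, hk⟩ := Nat.exists_eq_succ_of_ne_zero hk0
  have hk1 : D (k + 1) = Z := by
    have h := Nat.find_spec hex
    rwa [hk] at h
  have hk2 : D k ≠ Z := Nat.find_min hex (by omega)
  set B := D k with hB
  have hBn : B.Normal := by
    haveI : (derivedSeries M k).Characteristic := by
      induction k with
      | zero => rw [derivedSeries_zero]; infer_instance
      | succ j ih => rw [derivedSeries_succ]; exact Subgroup.commutator_characteristic _ _
    haveI : ((derivedSeries M k).map M.subtype).Normal := inferInstance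
    exact Subgroup.sup_normal _ _
  have hBM : B ≤ M := sup_le (Subgroup.map_subtype_le _) inf_le_left
  haveI := hBn
  -- nilpotent of class two
  have hcent : ∀ a ∈ B, ∀ b ∈ B, ∀ m ∈ M, ⁅a, b⁆ * m = m * ⁅a, b⁆ := by
    have hBB : ⁅B, B⁆ ≤ Z := by
      rw [Subgroup.commutator_le]
      intro a ha b hb
      obtain ⟨a₁, ha₁, a₂, ha₂, rfl⟩ := Subgroup.mem_sup_of_normal_right.1 ha
      obtain ⟨b₁, hb₁, b₂, hb₂, rfl⟩ := Subgroup.mem_sup_of_normal_right.1 hb
      have hmk : ∀ {z : U}, z ∈ Z → QuotientGroup.mk' Z z = 1 := fun hz =>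
        (QuotientGroup.eq_one_iff _).2 hz
      rw [← QuotientGroup.eq_one_iff]
      show QuotientGroup.mk' Z _ = 1
      rw [map_commutatorElement, map_mul, map_mul, hmk ha₂, hmk hb₂, mul_one, mul_one,
        ← map_commutatorElement, QuotientGroup.mk'_apply, QuotientGroup.eq_one_iff, ← hk1]
      refine Subgroup.mem_sup_left ?_
      obtain ⟨x, hx, rfl⟩ := ha₁
      obtain ⟨y, hy, rfl⟩ := hb₁
      rw [← map_commutatorElement, derivedSeries_succ]
      exact Subgroup.mem_map_of_mem _ (Subgroup.commutator_mem_commutator hx hy)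
    intro a ha b hb m hm
    exact (Subgroup.mem_centralizer_iff.1
      (hBB (Subgroup.commutator_mem_commutator ha hb)).2 m hm).symm
  haveI : Group.IsNilpotent B := by
    let f : B →* B ⧸ Subgroup.center B := QuotientGroup.mk' _
    haveI : Group.IsNilpotent (B ⧸ Subgroup.center B) := by
      letI : CommGroup (B ⧸ Subgroup.center B) :=
        { (inferInstance : Group (B ⧸ Subgroup.center B)) with
          mul_comm := fun x y => by
            obtain ⟨a, rfl⟩ := QuotientGroup.mk'_surjective _ x
            obtain ⟨b, rfl⟩ := QuotientGroup.mk'_surjective _ y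
            rw [← commutatorElement_eq_one_iff_mul_comm, ← map_commutatorElement,
              QuotientGroup.mk'_apply, QuotientGroup.eq_one_iff, Subgroup.mem_center_iff]
            intro c
            refine Subtype.ext ?_
            show (c : U) * ((⁅a, b⁆ : B) : U) = ((⁅a, b⁆ : B) : U) * c
            exact (hcent a a.2 b b.2 c (hBM c.2)).symm }
      infer_instance
    exact isNilpotent_of_ker_le_center f (by rw [QuotientGroup.ker_mk'])
  have hBc := (AbSyl.of_injective (Subgroup.inclusion hBM) (Subgroup.inclusion_injective hBM)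
    hM).comm_of_nilpotent
  refine hk2 (le_antisymm (le_inf hBM fun b hb => ?_) le_sup_right)
  rw [Subgroup.mem_centralizer_iff]
  intro m _
  exact Subgroup.mem_center_iff.1 (hcen B hBn hBc hb) m

/-- A character irreducible on such a normal subgroup is monomial. -/
theorem monomial {X : Type u} [Group X] [Fintype X] [Group.IsSolvable X] (N : Subgroup X)
    [N.Normal] (hN : AbSyl N) {ψ : X → ℂ} (hψ : IsIrrCharacter X ψ) [Fintype N]
    (hres : IsIrrCharacter N (fun n : N => ψ n)) :
    ∃ (U : Subgroup X) (l : U → ℂ), IsCharacter U l ∧ l 1 = 1 ∧ indFun U l = ψ := by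
  classical
  have hex : ∃ n, ∃ (U : Subgroup X) (η : U → ℂ), IsCharacter U η ∧ indFun U η = ψ ∧
      Nat.card U = n :=
    ⟨_, ⊤, fun x => ψ x, IsChar.res (IsIrr.isCharacter hψ) _,
      Brauer.indFun_top (IsIrr.classFun hψ), rfl⟩
  obtain ⟨U, η, hη, hind, hcard⟩ := Nat.find_spec hex
  letI := Fintype.ofFinite U
  have hmin : ∀ (V : Subgroup X) (φ : V → ℂ), IsCharacter V φ → indFun V φ = ψ →
      Nat.card U ≤ Nat.card V := fun V φ h1 h2 => hcard ▸ Nat.find_le ⟨V, φ, h1, h2, rfl⟩
  have hηi : IsIrrCharacter U η := QPrim.irr_of_ind hη (hind.symm ▸ hψ)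
  -- the subgroup supplements
  have hsup : N ⊔ U = ⊤ := by
    set W := N ⊔ U with hW
    letI := Fintype.ofFinite W
    have hUW : U ≤ W := le_sup_right
    set ω : W → ℂ := indFun (U.subgroupOf W) (fun x : U.subgroupOf W => η ⟨((x : W) : X), x.2⟩)
      with hω
    have hωind : indFun W ω = ψ := by
      rw [hω, Brauer.indFun_indFun, ← hind]
      refine QPrim.indFun_eq_of_eq (Subgroup.map_subgroupOf_eq_of_le hUW) fun a b hab => ?_
      refine congrArg η (Subtype.ext ?_)
      rw [← hab]
      exact congrArg Subtype.val (MulEquiv.apply_symm_apply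
        ((U.subgroupOf W).equivMapOfInjective W.subtype W.subtype_injective) a)
    have hωi : IsIrrCharacter W ω := QPrim.irr_of_ind (isCharacter_indFun _
      (IsChar.comp (Subgroup.subgroupOfEquivOfLe hUW).toMonoidHom hη)) (hωind.symm ▸ hψ)
    have hψω : classInner (fun x : W => ψ x) ω ≠ 0 := by
      rw [← classInner_conj_symm, ← classInner_indFun W ω (IsIrr.classFun hψ), hωind,
        classInner_self_irr hψ, map_one]
      exact one_ne_zero
    have hNW : N ≤ W := le_sup_left
    obtain ⟨θ', hθ'⟩ := IsChar.exists_constituent'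
      (IsChar.comp (Subgroup.inclusion hNW) (IsIrr.isCharacter hωi))
      (show ω (Subgroup.inclusion hNW 1) ≠ 0 by rw [map_one]; exact IsIrr.one_ne_zero hωi)
    have h1 := RamCompl.pos_of_constituent (Subgroup.inclusion hNW)
      (IsChar.res (IsIrr.isCharacter hψ) W) hωi hψω θ'.2 hθ'
    have h2 : (fun n : N => ψ n) = θ' := eq_of_constituent_irr hres θ'.2 h1
    obtain ⟨a, ha⟩ := IsChar.one_eq_nat (IsIrr.isCharacter hωi)
    obtain ⟨b, hb0, hb⟩ := IsIrr.one_eq_pos hψ
    have hle := degree_le_of_constituent (IsChar.comp (Subgroup.inclusion hNW)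
      (IsIrr.isCharacter hωi)) θ'.2 hθ' (m := a) (n := b) (by rw [← ha]; exact congrArg ω (map_one _))
      (by rw [← h2, ← hb]; rfl)
    have h3 := congrFun hωind 1
    rw [indFun_one_eq, ha, hb, ← Nat.cast_mul, Nat.cast_inj] at h3
    by_contra htop
    have h4 : W.index ≠ 1 := fun h => htop (Subgroup.index_eq_one.1 h)
    have h5 : 0 < W.index := Nat.pos_of_ne_zero Subgroup.index_ne_zero_of_finite
    have h6 : 2 * a ≤ W.index * a := Nat.mul_le_mul_right _ (by omega)
    omega
  -- irreducible on the intersection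
  set M : Subgroup U := N.subgroupOf U with hM
  haveI : M.Normal := Subgroup.Normal.subgroupOf inferInstance _
  letI := Fintype.ofFinite M
  have hMi : IsIrrCharacter M (fun x : M => η x) := by
    set V : Subgroup N := U.subgroupOf N with hV
    letI := Fintype.ofFinite V
    set ζ : V → ℂ := fun x => η ⟨((x : N) : X), x.2⟩ with hζ
    let j : V →* U :=
      { toFun := fun x => ⟨((x : N) : X), x.2⟩, map_one' := rfl, map_mul' := fun _ _ => rfl }
    have hζc : IsCharacter V ζ := IsChar.comp j hη
    have hζind : indFun V ζ = fun n : N => ψ n := by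
      funext n
      rw [← hind, Berger.ind_res (IsChar.classFun hη) hsup]
      show (Nat.card V : ℂ)⁻¹ * _ = _
      rw [show Nat.card V = Nat.card (N ⊓ U : Subgroup X) by
        rw [hV, inf_comm, ← Subgroup.subgroupOf_map_subtype]
        exact Nat.card_congr ((U.subgroupOf N).equivMapOfInjective N.subtype
          N.subtype_injective).toEquiv]
      congr 1
      refine Finset.sum_congr rfl fun x _ => ?_
      by_cases hx : ((x : X))⁻¹ * (n : X) * x ∈ U
      · rw [extendByZero_of_mem _ hx, extendByZero_of_mem _ (show x⁻¹ * n * x ∈ V from hx)]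
        rfl
      · rw [extendByZero_not_mem _ hx, extendByZero_not_mem _ (show x⁻¹ * n * x ∉ V from hx)]
    have hζi : IsIrrCharacter V ζ := QPrim.irr_of_ind hζc (hζind.symm ▸ hres)
    let E : M ≃* V :=
      { toFun := fun x => ⟨⟨((x : U) : X), x.2⟩, (x : U).2⟩
        invFun := fun x => ⟨⟨((x : N) : X), x.2⟩, (x : N).2⟩
        left_inv := fun _ => rfl
        right_inv := fun _ => rfl
        map_mul' := fun _ _ => rfl }
    exact IsIrr.comp_mulEquiv E hζi
  -- homogeneity
  have hhom : ∀ A : Subgroup U, A.Normal → ∃ (θ : A → ℂ) (e : ℕ), IsIrrCharacter A θ ∧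
      (fun x : A => η x) = (e : ℂ) • θ := by
    intro A hA
    letI := Fintype.ofFinite A
    obtain ⟨θ, hθ⟩ := IsChar.exists_constituent' (IsChar.res hη A)
      (show η ((1 : A) : U) ≠ 0 from IsIrr.one_ne_zero hηi)
    obtain ⟨e, he⟩ := IsChar.classInner_nat (IsChar.res hη A) (IsIrr.isCharacter θ.2)
    refine ⟨θ, e, θ.2, ?_⟩
    set T := inertia A (θ : A → ℂ) with hT
    letI := Fintype.ofFinite T
    obtain ⟨φ, hφ, hφind, -⟩ := Corr.exists_correspondent A θ.2 hT
      (le_inertia A (IsIrr.classFun θ.2)) hηi hθ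
    have hTtop : T = ⊤ := by
      let ι := T.equivMapOfInjective U.subtype U.subtype_injective
      have h1 := hmin (T.map U.subtype) (fun x => φ (ι.symm x))
        (IsChar.comp ι.symm.toMonoidHom (IsIrr.isCharacter hφ)) (by
          rw [← hind, ← hφind, Brauer.indFun_indFun])
      rw [← Nat.card_congr ι.toEquiv] at h1
      exact Subgroup.eq_top_of_card_eq _ (le_antisymm (Subgroup.card_le_card_group _) h1)
    rw [clifford A hηi θ.2 hθ, he]
    congr 1
    rw [show conjOrbit A (θ : A → ℂ) = {(θ : A → ℂ)} from Finset.eq_singleton_iff_unique_mem.2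
      ⟨(mem_conjOrbit _).2 ⟨1, conjN_one _ _⟩, fun f hf => by
        obtain ⟨q, rfl⟩ := (mem_conjOrbit _).1 hf
        exact (mem_inertia _).1 (by rw [← hT, hTtop]; exact Subgroup.mem_top q)⟩,
      Finset.sum_singleton]
  -- pass to the faithful quotient
  set K := charKer hη with hK
  haveI : K.Normal := charKer_normal hη
  obtain ⟨η', hη', hη'e⟩ := IsIrr.exists_factor_quotient hηi K fun n hn => (mem_charKer hη).1 hn
  letI := Fintype.ofFinite (U ⧸ K)
  let q : U →* U ⧸ K := QuotientGroup.mk' K
  have hqs : Function.Surjective q := QuotientGroup.mk'_surjective K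
  set M' := M.map q with hM'
  haveI : M'.Normal := Subgroup.Normal.map inferInstance q hqs
  have hfaith : ∀ g, η' g = η' 1 → g = 1 := by
    intro g hg
    obtain ⟨x, rfl⟩ := hqs g
    rw [show (1 : U ⧸ K) = q 1 from (map_one q).symm] at hg
    exact (QuotientGroup.eq_one_iff x).2 ((mem_charKer hη).2
      ((hη'e x).symm.trans (hg.trans (hη'e 1))))
  have hMab : AbSyl M :=
    AbSyl.of_injective
      ({ toFun := fun x => ⟨((x : U) : X), x.2⟩, map_one' := rfl, map_mul' := fun _ _ => rfl } :
        M →* N)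
      (fun a b h => Subtype.ext (Subtype.ext (congrArg (fun y : N => (y : X)) h))) hN
  haveI : Group.IsSolvable M' :=
    solvable_of_surjective (f := q.subgroupMap M) (q.subgroupMap_surjective M)
  have hcomm := abelian_of_homog hη' hfaith M'
    (hMab.of_surjective (q.subgroupMap M) (q.subgroupMap_surjective M)) fun A hA => by
      letI := Fintype.ofFinite A
      haveI := hA
      obtain ⟨θ, e, hθ, hθe⟩ := hhom (A.comap q) (hA.comap q)
      letI := Fintype.ofFinite (A.comap q)
      obtain ⟨θ', hθ'⟩ := IsChar.exists_constituent' (IsChar.res (IsIrr.isCharacter hη') A)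
        (show η' ((1 : A) : U ⧸ K) ≠ 0 from IsIrr.one_ne_zero hη')
      obtain ⟨e', he'⟩ := IsChar.classInner_nat (IsChar.res (IsIrr.isCharacter hη') A)
        (IsIrr.isCharacter θ'.2)
      refine ⟨θ', e, θ'.2, ?_⟩
      have hqA : Function.Surjective (q.subgroupComap A) := fun y => by
        obtain ⟨x, hx⟩ := hqs (y : U ⧸ K)
        exact ⟨⟨x, show q x ∈ A from hx.symm ▸ y.2⟩, Subtype.ext hx⟩
      have hlift := IsIrr.comp_surjective (q.subgroupComap A) hqA θ'.2
      have h1 : classInner (fun x : A.comap q => η x)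
          (fun x => (θ' : A → ℂ) (q.subgroupComap A x)) ≠ 0 := by
        rw [show (fun x : A.comap q => η x) =
          fun x => (fun a : A => η' a) (q.subgroupComap A x) from
            funext fun x => (hη'e (x : U)).symm,
          classInner_comp_surjective (q.subgroupComap A) hqA (fun a : A => η' a) (θ' : A → ℂ)]
        exact hθ'
      rw [hθe, classInner_smul_left] at h1
      have h2 := eq_of_constituent_irr hθ hlift (right_ne_zero_of_mul h1)
      funext y
      obtain ⟨x, rfl⟩ := hqA y
      have h3 := congrFun hθe x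
      rw [h2] at h3
      exact (hη'e (x : U)).trans h3
  obtain ⟨ζ', hζ'⟩ : ∃ f : M' → ℂ, f = fun x : M' => η' x := ⟨_, rfl⟩
  have hζi : IsIrrCharacter M' ζ' := by
    refine IsChar.irr_of_norm_one (hζ' ▸ IsChar.res (IsIrr.isCharacter hη') M') ?_
    rw [hζ', ← classInner_comp_surjective (q.subgroupMap M) (q.subgroupMap_surjective M),
      show (fun x : M => η' ((q.subgroupMap M x : M') : U ⧸ K)) = fun x : M => η x from
        funext fun x => hη'e (x : U)]
    exact classInner_self_irr hMi
  refine ⟨U, η, hη, ?_, hind⟩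
  rw [← hη'e 1, QuotientGroup.mk_one]
  have h := IsIrr.one_of_comm hcomm hζi
  rwa [hζ'] at h

end Cfsg.Agent.Char.RelMono
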