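import Cfsg.Agent.Lib.Char.StarBlock
import Cfsg.Agent.Lib.Char.SectionRank
import Cfsg.Agent.Lib.Char.PairPrincipalNilpotent
import Cfsg.Agent.Lib.Block.KleinFour
import Cfsg.Agent.Lib.Transfer.Burnside

/-!
The inner product of two characters over one p-section, for the principal block: orthogonality,
traces, integrality against fusion-closed subgroups of a Sylow subgroup, and rank-one columns.
-/

open scoped ComplexConjugate

namespace Cfsg.Agent.Char.SecInner

open Cfsg.Agent.Block Cfsg.Agent.Char Cfsg.Agent.Char.BP Cfsg.Agent.Char.Spec Cfsg.Agent.Char.Star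

set_option linter.unusedSectionVars false
set_option linter.style.haveILetI false

universe u

variable {G : Type u} [Group G] [Fintype G] {p : ℕ} [Fact p.Prime] {M : Ideal AlgInt}

/-- The inner product over the section of `u`. -/
noncomputable def T (p : ℕ) [Fact p.Prime] (u : G) (f f' : G → ℂ) : ℂ := by
  classical
  exact (Nat.card G : ℂ)⁻¹ *
    ∑ g : G, if IsConj u (ppt p g) then f g * conj (f' g) else 0

theorem T_congr {u u' : G} (h : IsConj u u') (f f' : G → ℂ) : T p u f f' = T p u' f f' := by
  classical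
  simp only [T]
  congr 1
  refine Finset.sum_congr rfl fun g _ => ?_
  congr 1
  exact propext ⟨fun h' => h.symm.trans h', fun h' => h.trans h'⟩

theorem T_conj (u : G) (f f' : G → ℂ) : T p u f' f = conj (T p u f f') := by
  classical
  simp only [T, map_mul, map_inv₀, map_natCast, map_sum]
  congr 1
  refine Finset.sum_congr rfl fun g _ => ?_
  split_ifs <;> simp [mul_comm]

theorem ppt_spec (g : G) : IsPPart p g (ppt p g) := by
  obtain ⟨v', h1, h2, h3, h4, -, -⟩ := (exists_pPart_zpowers (p := p) g).choose_spec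
  exact ⟨v', h1, h2, h3, h4⟩

theorem exists_ppow_ppt (g : G) : ∃ k, orderOf (ppt p g) = p ^ k := by
  obtain ⟨v, -, -, h, -⟩ := ppt_spec (p := p) g
  exact h

theorem isConj_ppt {u : G} {g : G} (P : Sylow p G) (h : IsConj u (ppt p g)) :
    ∃ w ∈ (P : Subgroup G), IsConj w (ppt p g) ∧ IsConj u w := by
  obtain ⟨k, hk⟩ := exists_ppow_ppt (p := p) g
  have hp : IsPGroup p (Subgroup.zpowers (ppt p g)) :=
    IsPGroup.of_card (n := k) (by rw [Nat.card_zpowers, hk])
  obtain ⟨Q, hQ⟩ := hp.exists_le_sylow
  obtain ⟨t, ht⟩ := MulAction.exists_smul_eq G Q P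
  have hmem : t * ppt p g * t⁻¹ ∈ (P : Subgroup G) := by
    rw [← ht, Sylow.coe_subgroup_smul]
    exact Subgroup.smul_mem_pointwise_smul _ (MulAut.conj t) _ (hQ (Subgroup.mem_zpowers _))
  exact ⟨_, hmem, (isConj_iff.2 ⟨t, rfl⟩ : IsConj (ppt p g) _).symm,
    h.trans (isConj_iff.2 ⟨t, rfl⟩)⟩

theorem exists_mem_conj_ppt (g : G) (P : Sylow p G) :
    ∃ w ∈ (P : Subgroup G), IsConj w (ppt p g) := by
  obtain ⟨w, h1, h2, -⟩ := isConj_ppt (u := ppt p g) P (IsConj.refl _)
  exact ⟨w, h1, h2⟩

open Classical in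
/-- The number of conjugates in the Sylow subgroup. -/
noncomputable def cnum (P : Sylow p G) (v : G) : ℕ :=
  (Finset.univ.filter fun w : G => w ∈ (P : Subgroup G) ∧ IsConj v w).card

open Classical in
/-- The sections partition the group. -/
theorem sum_T (P : Sylow p G) (f f' : G → ℂ) :
    ∑ v ∈ Finset.univ.filter (fun v : G => v ∈ (P : Subgroup G)),
      T p v f f' / (cnum P v : ℂ) = classInner f f' := by
  classical
  simp only [T, classInner, mul_div_assoc, ← Finset.mul_sum, Finset.sum_div]
  congr 1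
  rw [Finset.sum_comm]
  refine Finset.sum_congr rfl fun g _ => ?_
  obtain ⟨w, hw, hwc⟩ := exists_mem_conj_ppt g P
  have hn : cnum P w ≠ 0 := Finset.card_ne_zero.2
    ⟨w, Finset.mem_filter.2 ⟨Finset.mem_univ _, hw, IsConj.refl _⟩⟩
  calc ∑ v ∈ Finset.univ.filter (fun v : G => v ∈ (P : Subgroup G)),
        (if IsConj v (ppt p g) then f g * conj (f' g) else 0) / (cnum P v : ℂ)
      = ∑ v ∈ (Finset.univ.filter (fun v : G => v ∈ (P : Subgroup G))).filter
          (fun v => IsConj v (ppt p g)), f g * conj (f' g) / (cnum P w : ℂ) := by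
        conv_rhs => rw [Finset.sum_filter]
        refine Finset.sum_congr rfl fun v _ => ?_
        split_ifs with hv
        · have : cnum P v = cnum P w := congrArg Finset.card (Finset.filter_congr fun t _ =>
            and_congr_right fun _ => ⟨fun h => (hwc.trans hv.symm).trans h,
              fun h => (hv.trans hwc.symm).trans h⟩)
          rw [this]
        · rw [zero_div]
    _ = _ := by
        rw [Finset.sum_const, nsmul_eq_mul]
        have : ((Finset.univ.filter (fun v : G => v ∈ (P : Subgroup G))).filter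
          (fun v => IsConj v (ppt p g))).card = cnum P w := by
          rw [Finset.filter_filter]
          exact congrArg Finset.card (Finset.filter_congr fun t _ =>
            and_congr_right fun _ => ⟨fun h => hwc.trans h.symm, fun h => h.symm.trans hwc⟩)
        rw [this, mul_div_cancel₀ _ (Nat.cast_ne_zero.2 hn)]

/-- Orthogonality and idempotence of the sections inside a block. -/
theorem T_mul (hM : IsPModular p M) {B : Set (IrrCharacter G)} (hB : IsPBlock M B)
    [DecidablePred (· ∈ B)] {χ : IrrCharacter G} (hχ : χ ∈ B) (ψ : G → ℂ) (u w : G) :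
    ∑ η ∈ Finset.univ.filter (· ∈ B), T p u (χ : G → ℂ) (η : G → ℂ) * T p w (η : G → ℂ) ψ =
      (open Classical in if IsConj u w then T p u (χ : G → ℂ) ψ else 0) := by
  classical
  set ϑ : G → ℂ := fun g => if IsConj u (ppt p g) then (χ : G → ℂ) g else 0 with hϑ
  have hin : ∀ η : IrrCharacter G, classInner ϑ (η : G → ℂ) = T p u (χ : G → ℂ) (η : G → ℂ) := by
    intro η
    simp only [classInner, T, hϑ]
    congr 1
    refine Finset.sum_congr rfl fun g _ => ?_
    split_ifs <;> simp
  have hpart : ∀ g, blockPart B ϑ g = ϑ g := by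
    intro g
    by_cases hg : IsConj u (ppt p g)
    · set ϑ' : G → ℂ := fun g => (χ : G → ℂ) g - ϑ g with hϑ'
      have h0 : blockPart B ϑ' g = 0 := by
        refine blockPart_eq_zero_of_vanish hM (x := u) (fun a z hz hc => ?_) hB (ppt_spec g) hg
        have : ppt p a = z := pPart_unique (ppt_spec a) hz
        show (χ : G → ℂ) a - (if IsConj u (ppt p a) then (χ : G → ℂ) a else 0) = 0
        rw [this, if_pos hc, sub_self]
      have hsub : blockPart B ϑ' g = (χ : G → ℂ) g - blockPart B ϑ g := by
        simp only [blockPart]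
        rw [finsum_mem_block, finsum_mem_block]
        have : ∀ η : IrrCharacter G, classInner ϑ' (η : G → ℂ) =
            classInner (χ : G → ℂ) (η : G → ℂ) - classInner ϑ (η : G → ℂ) := fun η => by
          rw [show ϑ' = (χ : G → ℂ) - ϑ from rfl, classInner_sub_left]
        have key : ∀ (a b : G → ℂ), @classInner G _ (Fintype.ofFinite G) a b = classInner a b :=
          fun a b => by simp only [classInner]; congr!
        simp only [key, this, sub_mul, Finset.sum_sub_distrib]
        congr 1
        rw [Finset.sum_eq_single χ (fun η _ hne => by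
          rw [classInner_irr_ne χ.2 η.2 (fun e => hne (Subtype.ext e).symm), zero_mul])
          (fun h => absurd (Finset.mem_filter.2 ⟨Finset.mem_univ _, hχ⟩) h),
          classInner_self_irr χ.2, one_mul]
      rw [hsub, sub_eq_zero] at h0
      rw [← h0]
      exact (if_pos hg).symm
    · rw [show ϑ g = 0 from if_neg hg]
      refine blockPart_eq_zero_of_vanish hM (x := ppt p g) (fun a z hz hc => ?_) hB (ppt_spec g)
        (IsConj.refl _)
      have : ppt p a = z := pPart_unique (ppt_spec a) hz
      simp only [hϑ, this]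
      rw [if_neg fun h => hg (h.trans hc.symm)]
  have hexp : ∀ g, ∑ η ∈ Finset.univ.filter (· ∈ B),
      T p u (χ : G → ℂ) (η : G → ℂ) * (η : G → ℂ) g = ϑ g := by
    intro g
    rw [← hpart g]
    simp only [blockPart]
    rw [finsum_mem_block]
    exact Finset.sum_congr rfl fun η _ => by rw [← hin]; simp only [classInner]; congr!
  calc ∑ η ∈ Finset.univ.filter (· ∈ B), T p u (χ : G → ℂ) (η : G → ℂ) * T p w (η : G → ℂ) ψ
      = (Nat.card G : ℂ)⁻¹ * ∑ g : G, if IsConj w (ppt p g) then ϑ g * conj (ψ g) else 0 := by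
        simp only [← hexp, Finset.sum_mul]
        unfold T
        simp only [Finset.mul_sum]
        rw [Finset.sum_comm]
        refine Finset.sum_congr rfl fun g _ => ?_
        split_ifs
        · rw [Finset.mul_sum]
          exact Finset.sum_congr rfl fun η _ => by ring
        · simp
    _ = _ := by
        split_ifs with huw
        · simp only [T]
          congr 1
          refine Finset.sum_congr rfl fun g _ => ?_
          by_cases h : IsConj w (ppt p g)
          · rw [if_pos h, if_pos (huw.trans h), hϑ]; simp only; rw [if_pos (huw.trans h)]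
          · rw [if_neg h, if_neg fun h' => h (huw.symm.trans h')]
        · rw [Finset.sum_eq_zero, mul_zero]
          intro g _
          by_cases h : IsConj w (ppt p g)
          · rw [if_pos h, show ϑ g = 0 from if_neg fun h' => huw (h'.trans h.symm), zero_mul]
          · rw [if_neg h]

/-- A section as a sum over a centralizer. -/
theorem T_eq_cent {u : G} (hu : ∃ k, orderOf u = p ^ k) [Fintype (Subgroup.centralizer ({u} : Set G))]
    {f f' : G → ℂ} (hf : IsClassFunction G f) (hf' : IsClassFunction G f') :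
    T p u f f' = (Nat.card (Subgroup.centralizer ({u} : Set G)) : ℂ)⁻¹ *
      ∑ c ∈ Finset.univ.filter (fun c : Subgroup.centralizer ({u} : Set G) => ¬ p ∣ orderOf c),
        f (u * (c : G)) * conj (f' (u * (c : G))) := by
  classical
  set R := Finset.univ.filter (fun c : (Subgroup.centralizer ({u} : Set G)) => ¬ p ∣ orderOf c) with hR
  set F : G → ℂ := fun g => f g * conj (f' g) with hF
  set S := Finset.univ.filter (fun g : G => IsConj u (ppt p g)) with hS
  let φ : G × (Subgroup.centralizer ({u} : Set G)) → G := fun s => s.1 * (u * (s.2 : G)) * s.1⁻¹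
  have hppt : ∀ (t : G) (c : (Subgroup.centralizer ({u} : Set G))), c ∈ R → ppt p (φ (t, c)) = t * u * t⁻¹ := fun t c hc => by
    have hcu : Commute (c : G) u := Subgroup.mem_centralizer_singleton_iff.1 c.2
    have e : φ (t, c) = (t * u * t⁻¹) * (t * (c : G) * t⁻¹) := by simp [φ, mul_assoc]
    have ho : ∀ a : G, orderOf (t * a * t⁻¹) = orderOf a := fun a => by
      rw [← MulAut.conj_apply, MulEquiv.orderOf_eq]
    rw [e]
    obtain ⟨k, hk⟩ := hu
    refine ppt_eq (hcu.symm.map (MulAut.conj t).toMonoidHom) ⟨k, by rw [ho, hk]⟩ ?_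
    rw [ho, Subgroup.orderOf_coe]
    simpa [R] using hc
  have hmaps : ∀ s ∈ (Finset.univ : Finset G) ×ˢ R, φ s ∈ S := by
    rintro ⟨t, c⟩ hs
    simp only [S, Finset.mem_filter, Finset.mem_univ, true_and,
      hppt t c (Finset.mem_product.1 hs).2]
    exact isConj_iff.2 ⟨t, rfl⟩
  have hfib : ∀ g ∈ S, (((Finset.univ : Finset G) ×ˢ R).filter (fun s => φ s = g)).card =
      Nat.card (Subgroup.centralizer ({u} : Set G)) := by
    intro g hg
    obtain ⟨t₀, ht₀⟩ := isConj_iff.1 (Finset.mem_filter.1 hg).2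
    obtain ⟨v, hv, hcv, -, hvr⟩ := ppt_spec (p := p) g
    have hcC : t₀⁻¹ * v * t₀ ∈ (Subgroup.centralizer ({u} : Set G)) := by
      rw [Subgroup.mem_centralizer_singleton_iff]
      have hw : Commute (t₀ * u * t₀⁻¹) v := ht₀ ▸ hcv
      have := hw.map (MulAut.conj t₀⁻¹).toMonoidHom
      simpa [Commute, SemiconjBy, mul_assoc] using this.symm.eq
    have hc₀ : (⟨_, hcC⟩ : (Subgroup.centralizer ({u} : Set G))) ∈ R := by
      simp only [R, Finset.mem_filter, Finset.mem_univ, true_and]
      rw [Subgroup.orderOf_mk, show t₀⁻¹ * v * t₀ = MulAut.conj t₀⁻¹ v by simp,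
        MulEquiv.orderOf_eq]
      exact hvr
    rw [Nat.card_eq_fintype_card, ← Finset.card_univ]
    refine (Finset.card_bij (fun (d : (Subgroup.centralizer ({u} : Set G))) _ => (t₀ * (d : G),
      (d⁻¹ * ⟨_, hcC⟩ * d : (Subgroup.centralizer ({u} : Set G))))) (fun d _ => ?_) (fun d _ d' _ h => ?_) fun s hs => ?_).symm
    · refine Finset.mem_filter.2 ⟨Finset.mem_product.2 ⟨Finset.mem_univ _, ?_⟩, ?_⟩
      · simp only [R, Finset.mem_filter, Finset.mem_univ, true_and] at hc₀ ⊢
        rwa [show d⁻¹ * (⟨_, hcC⟩ : (Subgroup.centralizer ({u} : Set G))) * d = MulAut.conj d⁻¹ ⟨_, hcC⟩ by simp, MulEquiv.orderOf_eq]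
      · have hd : (d : G) * u = u * d := Subgroup.mem_centralizer_singleton_iff.1 d.2
        rw [← hv, ← ht₀]
        simp only [φ, Subgroup.coe_mul, Subgroup.coe_inv]
        calc t₀ * (d : G) * (u * ((d : G)⁻¹ * (t₀⁻¹ * v * t₀) * d)) * (t₀ * (d : G))⁻¹
            = t₀ * ((d : G) * u) * (d : G)⁻¹ * (t₀⁻¹ * v) := by group
          _ = t₀ * u * t₀⁻¹ * v := by rw [hd]; group
    · exact Subtype.ext (mul_left_cancel (congrArg Prod.fst h))
    · obtain ⟨t, c⟩ := s
      obtain ⟨hs1, hs2⟩ := Finset.mem_filter.1 hs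
      have h1 : t * u * t⁻¹ = t₀ * u * t₀⁻¹ := by
        rw [← hppt t c (Finset.mem_product.1 hs1).2, hs2, ht₀]
      have hd : t₀⁻¹ * t ∈ (Subgroup.centralizer ({u} : Set G)) := by
        rw [Subgroup.mem_centralizer_singleton_iff]
        calc t₀⁻¹ * t * u = t₀⁻¹ * (t * u * t⁻¹) * t := by group
          _ = u * (t₀⁻¹ * t) := by rw [h1]; group
      refine ⟨⟨_, hd⟩, Finset.mem_univ _, Prod.ext (by simp) (Subtype.ext ?_)⟩
      have hv' : v = t * (c : G) * t⁻¹ := by
        have : ppt p g * v = φ (t, c) := hv.trans hs2.symm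
        rw [← ht₀, ← h1] at this
        refine mul_left_cancel (this.trans ?_)
        simp [φ, mul_assoc]
      simp only [Subgroup.coe_mul, Subgroup.coe_inv]
      rw [hv']
      group
  have hsum : ∑ s ∈ (Finset.univ : Finset G) ×ˢ R, F (φ s) =
      (Nat.card (Subgroup.centralizer ({u} : Set G)) : ℂ) * ∑ g ∈ S, F g := by
    rw [← Finset.sum_fiberwise_of_maps_to hmaps, Finset.mul_sum]
    refine Finset.sum_congr rfl fun g hg => ?_
    rw [Finset.sum_congr rfl fun s hs => show F (φ s) = F g by rw [(Finset.mem_filter.1 hs).2],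
      Finset.sum_const, hfib g hg, nsmul_eq_mul]
  rw [Finset.sum_product, Finset.sum_congr rfl (fun t _ => Finset.sum_congr rfl fun c _ =>
    show F (φ (t, c)) = F (u * (c : G)) by simp only [F, φ]; rw [hf _ t, hf' _ t]),
    Finset.sum_const, Finset.card_univ, ← Nat.card_eq_fintype_card, nsmul_eq_mul] at hsum
  have hGne : (Nat.card G : ℂ) ≠ 0 := Nat.cast_ne_zero.2 Nat.card_pos.ne'
  have hCne : (Nat.card (Subgroup.centralizer ({u} : Set G)) : ℂ) ≠ 0 := Nat.cast_ne_zero.2 Nat.card_pos.ne'
  rw [T, ← Finset.sum_filter]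
  simp only [S, F, R] at hsum
  field_simp
  linear_combination -hsum

/-- The trace of a section on the principal block. -/
theorem sum_T_self (hM : IsPModular p M) [DecidablePred (· ∈ principalBlock M G)] {u : G}
    (hu : ∃ k, orderOf u = p ^ k) :
    ∑ χ ∈ Finset.univ.filter (· ∈ principalBlock M G), T p u (χ : G → ℂ) (χ : G → ℂ) =
      (blockRank p (principalBlock M (Subgroup.centralizer ({u} : Set G))) : ℂ) := by
  classical
  cases nonempty_fintype (Subgroup.centralizer ({u} : Set G))
  rw [Finset.sum_congr rfl fun χ _ => T_eq_cent hu (irr_classFun χ) (irr_classFun χ),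
    ← Finset.mul_sum, Finset.sum_comm]
  have key := sum_regSum_self hM
    (isPBlock_principalBlock (M := M) (G := Subgroup.centralizer ({u} : Set G)))
  rw [Finset.sum_congr rfl fun c hc => ?_, Finset.sum_comm (s := Finset.univ.filter _),
    Finset.sum_congr rfl fun ξ _ => (regSum_eq_sum p _ _).symm, key,
    inv_mul_cancel_left₀ (Nat.cast_ne_zero.2 Nat.card_pos.ne')]
  have := principal_column hM hu (y := c) (Finset.mem_filter.1 hc).2
  rw [finsum_mem_block, finsum_mem_block] at this
  exact this

/-- The principal block values on a section with rank one. -/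
theorem value_rank_one (hM : IsPModular p M) {u : G} (hu : ∃ k, orderOf u = p ^ k)
    (hc : HasNormalPComplement p (Subgroup.centralizer ({u} : Set G))) {χ : IrrCharacter G}
    (hχ : χ ∈ principalBlock M G) {c : Subgroup.centralizer ({u} : Set G)}
    (hcr : ¬ p ∣ orderOf c) : (χ : G → ℂ) (u * (c : G)) = (χ : G → ℂ) u := by
  classical
  cases nonempty_fintype (Subgroup.centralizer ({u} : Set G))
  obtain ⟨k, hk⟩ := hu
  have hr := rank_one_of_complement hM hc
  have hdef : ∀ ξ : IrrCharacter (Subgroup.centralizer ({u} : Set G)), InducedBlockDefined M (Subgroup.centralizer ({u} : Set G)) (blockOf M (ξ : (Subgroup.centralizer ({u} : Set G)) → ℂ)) := fun ξ => by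
    refine inducedBlockDefined_brauer hM
      (IsPGroup.of_card (n := k) (by rw [Nat.card_zpowers, hk]))
      (Subgroup.zpowers_le.2 (centralizer_self_mem u))
      (Subgroup.centralizer_le (Set.singleton_subset_iff.2 (Subgroup.mem_zpowers u))) ?_
      (isPBlock_blockOf ξ)
    refine le_trans ?_ (Subgroup.centralizer_le_normalizer _)
    rw [← cg_zpowers]
  have hfilter : (Finset.univ.filter fun ξ : IrrCharacter (Subgroup.centralizer ({u} : Set G)) =>
      IsInducedBlock M (Subgroup.centralizer ({u} : Set G)) (blockOf M (ξ : (Subgroup.centralizer ({u} : Set G)) → ℂ)) (principalBlock M G)) =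
      Finset.univ.filter (fun ξ : IrrCharacter (Subgroup.centralizer ({u} : Set G)) => ξ ∈ principalBlock M (Subgroup.centralizer ({u} : Set G))) := by
    ext ξ
    simp only [Finset.mem_filter, Finset.mem_univ, true_and]
    rw [principal_third_main hM (hdef ξ)]
    exact ⟨fun h => h ▸ mem_blockOf_self hM ξ,
      fun h => (pblock_eq_blockOf hM isPBlock_principalBlock h).symm⟩
  have hval : ∀ d : (Subgroup.centralizer ({u} : Set G)), ¬ p ∣ orderOf d → (χ : G → ℂ) (u * (d : G)) =
      ∑ ξ ∈ Finset.univ.filter (fun ξ : IrrCharacter (Subgroup.centralizer ({u} : Set G)) => ξ ∈ principalBlock M (Subgroup.centralizer ({u} : Set G))),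
        classInner (fun c : (Subgroup.centralizer ({u} : Set G)) => (χ : G → ℂ) (u * (c : G))) (ξ : (Subgroup.centralizer ({u} : Set G)) → ℂ) * (ξ : (Subgroup.centralizer ({u} : Set G)) → ℂ) d := by
    intro d hd
    rw [← hfilter, value_eq_sum_inducing hM ⟨k, hk⟩ isPBlock_principalBlock hd χ, if_pos hχ]
  have h1 : ¬ p ∣ orderOf (1 : (Subgroup.centralizer ({u} : Set G))) := by
    rw [orderOf_one]; exact (Fact.out : p.Prime).not_dvd_one
  rw [hval c hcr, Finset.sum_congr rfl fun ξ hξ => by
    rw [regular_const_of_rank_one hM hr (Finset.mem_filter.1 hξ).2 hcr], ← hval 1 h1,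
    Subgroup.coe_one, mul_one]

/-- The section of an element with rank one. -/
theorem T_rank_one (hM : IsPModular p M) (P : Sylow p G) {u : G} (huP : u ∈ (P : Subgroup G))
    (hab : IsMulCommutative (P : Subgroup G))
    (hc : HasNormalPComplement p (Subgroup.centralizer ({u} : Set G))) {χ η : IrrCharacter G}
    (hχ : χ ∈ principalBlock M G) (hη : η ∈ principalBlock M G) :
    T p u (χ : G → ℂ) (η : G → ℂ) =
      (χ : G → ℂ) u * conj ((η : G → ℂ) u) / (Nat.card (P : Subgroup G) : ℂ) := by
  classical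
  set C := Subgroup.centralizer ({u} : Set G) with hC
  cases nonempty_fintype C
  have hu : ∃ k, orderOf u = p ^ k := by
    obtain ⟨k, hk⟩ := IsPGroup.iff_orderOf.1 P.isPGroup' ⟨u, huP⟩
    exact ⟨k, by rwa [Subgroup.orderOf_mk] at hk⟩
  have hPC : (P : Subgroup G) ≤ C := fun w hw => Subgroup.mem_centralizer_singleton_iff.2
    (congrArg Subtype.val (hab.is_comm.comm ⟨w, hw⟩ ⟨u, huP⟩))
  obtain ⟨N, hn, hd, k, hk⟩ := Cfsg.Agent.Transfer.hasNormalPComplement_iff_exists.1 hc
  haveI := hn
  have hk' : p ^ k = Nat.card (P : Subgroup G) := by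
    have h1 : Nat.card C = Nat.card N * p ^ k := by rw [← hk, mul_comm]; exact N.index_mul_card.symm
    refine Nat.dvd_antisymm ?_ ?_
    · have h2 : p ^ k ∣ Nat.card G := (Dvd.intro_left _ h1.symm).trans
        (Subgroup.card_subgroup_dvd_card C)
      rw [Sylow.card_eq_multiplicity P]
      exact pow_dvd_pow p (((Fact.out : p.Prime).pow_dvd_iff_le_factorization Nat.card_pos.ne').1 h2)
    · have h2 := Subgroup.card_dvd_of_le hPC
      rw [h1] at h2
      refine Nat.Coprime.dvd_of_dvd_mul_left ?_ h2
      rw [Sylow.card_eq_multiplicity P]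
      exact ((Fact.out : p.Prime).coprime_iff_not_dvd.2 hd).pow_left _
  have hreg : Finset.univ.filter (fun c : C => ¬ p ∣ orderOf c) =
      Finset.univ.filter (fun c : C => c ∈ N) := Finset.filter_congr fun c _ =>
    ⟨fun h => regular_mem_of_index_pPow hk h, fun h hdv => hd (hdv.trans
      ((Subgroup.orderOf_mk c h ▸ orderOf_dvd_natCard (⟨c, h⟩ : N))))⟩
  rw [T_eq_cent hu (irr_classFun χ) (irr_classFun η), Finset.sum_congr rfl fun c hc' => by
    rw [value_rank_one hM hu hc hχ (Finset.mem_filter.1 hc').2,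
      value_rank_one hM hu hc hη (Finset.mem_filter.1 hc').2], Finset.sum_const, hreg,
    ← Fintype.card_subtype, nsmul_eq_mul, ← hk']
  have hN : (Fintype.card {c : C // c ∈ N} : ℂ) = Nat.card N := by
    rw [Nat.card_eq_fintype_card]
  have h1 : (Nat.card C : ℂ) = (Nat.card N : ℂ) * ((p ^ k : ℕ) : ℂ) := by
    rw [← Nat.cast_mul, ← hk, mul_comm (Nat.card N), N.index_mul_card]
  rw [hN, h1]
  have hN0 : (Nat.card N : ℂ) ≠ 0 := Nat.cast_ne_zero.2 Nat.card_pos.ne'
  field_simp

/-- The indicator of a fusion-closed subgroup, lifted through the p-part, is a generalized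
character after scaling by the index. -/
theorem isGenChar_closed (P : Sylow p G) (F : Subgroup G) (hF : F ≤ (P : Subgroup G))
    (hN : (F.subgroupOf (P : Subgroup G)).Normal)
    (hcl : ∀ f ∈ F, ∀ w ∈ (P : Subgroup G), IsConj f w → w ∈ F) :
    IsGeneralizedCharacter G (fun g : G => (open Classical in
      if ∃ f ∈ F, IsConj f (ppt p g) then
        ((Nat.card (P : Subgroup G) : ℂ) / (Nat.card F : ℂ)) else 0)) := by
  classical
  letI := Fintype.ofFinite (P : Subgroup G)
  set FP := F.subgroupOf (P : Subgroup G) with hFP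
  set ψ : ↥(P : Subgroup G) → ℂ := fun u =>
    if (u : G) ∈ F then (Nat.card (P : Subgroup G) : ℂ) / (Nat.card F : ℂ) else 0 with hψ
  have hψg : IsGeneralizedCharacter (P : Subgroup G) ψ := by
    letI := Fintype.ofFinite FP
    have h := IsGenChar.ind FP (α := fun _ : FP => (1 : ℂ))
      (IsGenChar.of_isCharacter IsChar.one)
    convert h using 1
    funext u
    rw [indFun, Finset.sum_congr rfl fun x _ => show extendByZero FP (fun _ : FP => (1 : ℂ))
      (x⁻¹ * u * x) = if u ∈ FP then 1 else 0 from ?_]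
    · have hcard : Nat.card FP = Nat.card F :=
        Nat.card_congr (Subgroup.subgroupOfEquivOfLe hF).toEquiv
      rw [hcard]
      simp only [hψ, Finset.sum_const, Finset.card_univ, ← Nat.card_eq_fintype_card,
        nsmul_eq_mul, FP, Subgroup.mem_subgroupOf]
      split_ifs <;> ring
    · have hiff : x⁻¹ * u * x ∈ FP ↔ u ∈ FP := by
        refine ⟨fun h => ?_, fun h => by simpa using hN.conj_mem u h x⁻¹⟩
        simpa [mul_assoc] using hN.conj_mem _ h x
      by_cases hu : u ∈ FP
      · rw [if_pos hu, extendByZero_of_mem _ (hiff.2 hu)]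
      · rw [if_neg hu]
        rw [extendByZero]
        exact Function.extend_apply' _ _ _ fun ⟨a, ha'⟩ => hiff.not.2 hu (ha' ▸ a.2)
  refine Brauer.isGenChar_of_elementary (fun g h => ?_) fun E hE => ?_
  · obtain ⟨v, hv, hc, hk, hr⟩ := ppt_spec (p := p) g
    have hm : ppt p (h * g * h⁻¹) = h * ppt p g * h⁻¹ := by
      obtain ⟨k, hk⟩ := hk
      have ho : ∀ a : G, orderOf (h * a * h⁻¹) = orderOf a := fun a => by
        rw [← MulAut.conj_apply, MulEquiv.orderOf_eq]
      conv_lhs => rw [← hv, ← conj_mul]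
      exact ppt_eq (hc.map (MulAut.conj h).toMonoidHom) ⟨k, by rw [ho, hk]⟩ (by rwa [ho])
    have hcj : IsConj (ppt p g) (ppt p (h * g * h⁻¹)) := isConj_iff.2 ⟨h, hm.symm⟩
    exact if_congr ⟨fun ⟨f, hf, hfc⟩ => ⟨f, hf, hfc.trans hcj.symm⟩,
      fun ⟨f, hf, hfc⟩ => ⟨f, hf, hfc.trans hcj⟩⟩ rfl rfl
  · obtain ⟨q, hq, hqE⟩ := hE
    have hnil : Group.IsNilpotent E := Brauer.isNilpotent_of_elementary hq hqE
    obtain ⟨S⟩ : Nonempty (Sylow p E) := inferInstance
    haveI : (S : Subgroup E).Normal :=
      (show Group.IsNilpotent E ↔ ∀ (r : ℕ) (_ : Fact r.Prime) (P : Sylow r E),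
          (P : Subgroup E).Normal from Group.isNilpotent_of_finite_tfae.out 0 3).1 hnil p
        inferInstance S
    have hcopQ : (Nat.card (S : Subgroup E)).Coprime (S : Subgroup E).index := by
      obtain ⟨k, hk⟩ := IsPGroup.iff_card.1 S.isPGroup'
      rw [hk]
      exact ((Fact.out : p.Prime).coprime_iff_not_dvd.2 S.not_dvd_index).pow_left _
    obtain ⟨R, hR⟩ := Subgroup.exists_right_complement'_of_coprime hcopQ
    have hRp : ¬ p ∣ Nat.card R := hR.symm.index_eq_card ▸ S.not_dvd_index
    have hcomm : ∀ (s : (S : Subgroup E)) (r : R), Commute (s : E) (r : E) := fun s r => by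
      refine commute_of_coprime_order hnil ?_
      obtain ⟨k, hk⟩ := IsPGroup.iff_orderOf.1 S.isPGroup' s
      rw [Subgroup.orderOf_coe, Subgroup.orderOf_coe, hk]
      exact (((Fact.out : p.Prime).coprime_iff_not_dvd.2 hRp).pow_left _).coprime_dvd_right
        (orderOf_dvd_natCard r)
    let φ : ↥(S : Subgroup E) × R →* E :=
      MonoidHom.noncommCoprod (S : Subgroup E).subtype R.subtype hcomm
    have hφ : Function.Bijective φ := hR
    let e := (MulEquiv.ofBijective φ hφ).symm
    set Q : Subgroup G := (S : Subgroup E).map E.subtype with hQ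
    obtain ⟨P', hP'⟩ := (S.isPGroup'.map E.subtype : IsPGroup p Q).exists_le_sylow
    obtain ⟨t, ht⟩ := MulAction.exists_smul_eq G P' P
    have hmem : ∀ s : (S : Subgroup E), t * ((s : E) : G) * t⁻¹ ∈ (P : Subgroup G) := fun s => by
      rw [← ht, Sylow.coe_subgroup_smul]
      exact Subgroup.smul_mem_pointwise_smul _ (MulAut.conj t) _ (hP' ⟨s, s.2, rfl⟩)
    let π : E →* (P : Subgroup G) :=
      (((MulAut.conj t).toMonoidHom.comp (E.subtype.comp (S : Subgroup E).subtype)).codRestrict _
        hmem).comp ((MonoidHom.fst _ _).comp e.toMonoidHom)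
    convert IsGenChar.comp π hψg using 1
    funext g
    have hpp : ppt p (g : G) = ((e g).1 : G) := by
      have hg : φ (e g) = g := (MulEquiv.ofBijective φ hφ).apply_symm_apply g
      conv_lhs => rw [← hg]
      show ppt p ((((e g).1 : E) * ((e g).2 : E) : E) : G) = _
      rw [Subgroup.coe_mul]
      obtain ⟨k, hk⟩ := IsPGroup.iff_orderOf.1 S.isPGroup' (e g).1
      refine ppt_eq ((hcomm (e g).1 (e g).2).map E.subtype) ⟨k, ?_⟩ ?_
      · rwa [Subgroup.orderOf_coe, Subgroup.orderOf_coe]
      · rw [Subgroup.orderOf_coe, Subgroup.orderOf_coe]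
        exact fun h => hRp (h.trans (orderOf_dvd_natCard _))
    have hπ : (π g : G) = t * ppt p (g : G) * t⁻¹ := by rw [hpp]; rfl
    have hcj : IsConj (ppt p (g : G)) (π g : G) := isConj_iff.2 ⟨t, hπ.symm⟩
    exact if_congr ⟨fun ⟨f, hf, hfc⟩ => hcl f hf _ (π g).2 (hfc.trans hcj),
      fun h => ⟨_, h, hcj.symm⟩⟩ rfl rfl

open Classical in
/-- The sections over a fusion-closed subgroup, scaled by the index, sum to an integer. -/
theorem sum_T_closed (P : Sylow p G) (F : Subgroup G) (hF : F ≤ (P : Subgroup G))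
    (hN : (F.subgroupOf (P : Subgroup G)).Normal)
    (hcl : ∀ f ∈ F, ∀ w ∈ (P : Subgroup G), IsConj f w → w ∈ F) (χ η : IrrCharacter G) :
    ∃ z : ℤ, (Nat.card (P : Subgroup G) : ℂ) / (Nat.card F : ℂ) *
      ∑ f ∈ Finset.univ.filter (fun v : G => v ∈ F),
        T p f (χ : G → ℂ) (η : G → ℂ) / (cnum P f : ℂ) = z := by
  classical
  set a : ℂ := (Nat.card (P : Subgroup G) : ℂ) / (Nat.card F : ℂ) with ha
  set θ : G → ℂ := fun g => if ∃ f ∈ F, IsConj f (ppt p g) then a else 0 with hθ
  have hg : IsGeneralizedCharacter G θ := isGenChar_closed P F hF hN hcl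
  obtain ⟨z, hz⟩ := IsGenChar.classInner_int
    (IsGenChar.mul (IsGenChar.of_isCharacter (irr_isChar χ)) hg)
    (IsGenChar.of_isCharacter (irr_isChar η))
  refine ⟨z, ?_⟩
  rw [← hz, ← sum_T P, Finset.mul_sum]
  have hsub : Finset.univ.filter (fun v : G => v ∈ F) ⊆
      Finset.univ.filter (fun v : G => v ∈ (P : Subgroup G)) := fun v hv => by
    simp only [Finset.mem_filter, Finset.mem_univ, true_and] at hv ⊢
    exact hF hv
  rw [← Finset.sum_subset hsub fun v hv hvF => ?_]
  · refine Finset.sum_congr rfl fun v hv => ?_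
    rw [← mul_div_assoc]
    congr 1
    simp only [T, Finset.mul_sum]
    refine Finset.sum_congr rfl fun g _ => ?_
    split_ifs with h
    · simp only [Pi.mul_apply, hθ]
      rw [if_pos ⟨v, (Finset.mem_filter.1 hv).2, h⟩]
      ring
    · simp
  · simp only [T]
    rw [Finset.sum_eq_zero, mul_zero, zero_div]
    intro g _
    split_ifs with h
    · simp only [Pi.mul_apply, hθ]
      rw [if_neg, mul_zero, zero_mul]
      rintro ⟨f, hf, hfc⟩
      exact hvF (Finset.mem_filter.2 ⟨Finset.mem_univ _, hcl f hf v (Finset.mem_filter.1 hv).2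
        (hfc.trans h.symm)⟩)
    · rfl

/-- A character of the principal block does not vanish at an element with Sylow centralizer. -/
theorem value_ne_zero (hM : IsPModular p M) (P : Sylow p G) {u : G}
    (hPC : (P : Subgroup G) ≤ Subgroup.centralizer ({u} : Set G)) {χ : IrrCharacter G}
    (hχ : χ ∈ principalBlock M G) : (χ : G → ℂ) u ≠ 0 := by
  intro h0
  have h := pblock_sameBlock hM isPBlock_principalBlock (trivial_mem_principalBlock hM) hχ u
  have e : centralChar (trivialIrr G : G → ℂ) u - centralChar (χ : G → ℂ) u =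
      ((Subgroup.centralizer ({u} : Set G)).index : ℂ) := by
    simp [centralChar, trivialIrr, h0]
  rw [e] at h
  exact P.not_dvd_index (((ideal_natCast_iff hM _).1 h).trans (Subgroup.index_dvd_of_le hPC))

end Cfsg.Agent.Char.SecInner
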