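import Cfsg.Agent.Lib.Char.DiffOne
import Cfsg.Agent.Lib.Block.ElemEight.Column
import Cfsg.Agent.Lib.Block.UniqueDegP.ESide

/-!
The column of the principal block at a central element of a Sylow subgroup, in a group whose
principal block has at most one character more than its regular rank: it is integral, orthogonal
to the regular elements, has norm the order of a Sylow subgroup and, for an odd prime, pairs to
one with the indicators.
-/

open scoped ComplexConjugate

set_option autoImplicit false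
set_option linter.unusedSectionVars false
set_option linter.style.haveILetI false

namespace Cfsg.Agent.Char.SectionColumnInd

open Cfsg Cfsg.Agent.Block Cfsg.Agent.Char Cfsg.Agent.Char.BP Cfsg.Agent.Char.Spec

universe u

variable {G : Type u} [Group G] [Fintype G] {p : ℕ} [Fact p.Prime] {M : Ideal AlgInt} {z : G}

/-- The sum of a character over the coset of the normal complement in a section. -/
theorem sum_coset (hM : IsPModular p M) (hz : ∃ k : ℕ, orderOf z = p ^ k)
    {N : Subgroup (Subgroup.centralizer ({z} : Set G))} [N.Normal] [Fintype N] {k : ℕ}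
    (hd : ¬ p ∣ Nat.card N) (hk : N.index = p ^ k) (χ : IrrCharacter G)
    [Decidable (χ ∈ principalBlock M G)] :
    ∑ c : N, (χ : G → ℂ) (z * ((c : Subgroup.centralizer ({z} : Set G)) : G)) =
      (Nat.card N : ℂ) * if χ ∈ principalBlock M G then (χ : G → ℂ) z else 0 := by
  classical
  letI := Fintype.ofFinite (Subgroup.centralizer ({z} : Set G))
  obtain ⟨j, hj⟩ := hz
  have hP : IsPGroup p (Subgroup.zpowers z) :=
    IsPGroup.of_card (n := j) (by rw [Nat.card_zpowers, hj])
  have hdef : ∀ ξ : IrrCharacter (Subgroup.centralizer ({z} : Set G)),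
      InducedBlockDefined M (Subgroup.centralizer ({z} : Set G)) (blockOf M (ξ : (Subgroup.centralizer ({z} : Set G)) → ℂ)) := fun ξ => by
    refine inducedBlockDefined_brauer hM hP (Subgroup.zpowers_le.2 (centralizer_self_mem z)) ?_ ?_
      (isPBlock_blockOf ξ)
    · exact le_of_eq (cg_zpowers z)
    · exact cg_zpowers z ▸ cg_le_normalizer _
  have hN : ∀ ξ : IrrCharacter (Subgroup.centralizer ({z} : Set G)), ξ ∈ principalBlock M (Subgroup.centralizer ({z} : Set G)) ↔
      ∀ k ∈ N, (ξ : (Subgroup.centralizer ({z} : Set G)) → ℂ) k = (ξ : (Subgroup.centralizer ({z} : Set G)) → ℂ) 1 := fun ξ =>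
    ⟨fun h _ hu => principal_ker_of_coprime hM hd h hu,
      mem_principal_of_ker hM fun y hy => regular_mem_of_index_pPow hk hy⟩
  have hfilter : (Finset.univ.filter fun ξ : IrrCharacter (Subgroup.centralizer ({z} : Set G)) =>
      IsInducedBlock M (Subgroup.centralizer ({z} : Set G)) (blockOf M (ξ : (Subgroup.centralizer ({z} : Set G)) → ℂ)) (principalBlock M G)) =
      Finset.univ.filter (fun ξ : IrrCharacter (Subgroup.centralizer ({z} : Set G)) => ξ ∈ principalBlock M (Subgroup.centralizer ({z} : Set G))) := by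
    ext ξ
    simp only [Finset.mem_filter, Finset.mem_univ, true_and]
    rw [principal_third_main hM (hdef ξ)]
    exact ⟨fun h => h ▸ mem_blockOf_self hM ξ,
      fun h => (pblock_eq_blockOf hM isPBlock_principalBlock h).symm⟩
  have h1 := value_eq_sum_inducing hM ⟨j, hj⟩ (isPBlock_principalBlock (M := M) (G := G))
    (y := (1 : (Subgroup.centralizer ({z} : Set G)))) (by rw [orderOf_one]; exact (Fact.out : p.Prime).not_dvd_one) χ
  rw [hfilter] at h1
  set θ : (Subgroup.centralizer ({z} : Set G)) → ℂ := fun c => (χ : G → ℂ) (z * (c : G))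
  set Φ : (Subgroup.centralizer ({z} : Set G)) → ℂ := fun c => ∑ ξ ∈ Finset.univ.filter
    (fun ξ : IrrCharacter (Subgroup.centralizer ({z} : Set G)) => ξ ∈ principalBlock M (Subgroup.centralizer ({z} : Set G))), (ξ : (Subgroup.centralizer ({z} : Set G)) → ℂ) 1 * conj ((ξ : (Subgroup.centralizer ({z} : Set G)) → ℂ) c)
  have hΦ : ∀ c : (Subgroup.centralizer ({z} : Set G)), Φ c = if c ∈ N then ((p ^ k : ℕ) : ℂ) else 0 := fun c => by
    have h := ElemEight.principal_sum_quotient (M := M) hN 1 c
    rw [finsum_mem_block] at h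
    refine Eq.trans h ?_
    by_cases hc : c ∈ N
    · have e : ((c : (Subgroup.centralizer ({z} : Set G))) : (Subgroup.centralizer ({z} : Set G)) ⧸ N) = 1 := (QuotientGroup.eq_one_iff c).2 hc
      rw [if_pos hc, e, QuotientGroup.mk_one, if_pos (IsConj.refl _),
        show Subgroup.centralizer ({(1 : (Subgroup.centralizer ({z} : Set G)) ⧸ N)} : Set ((Subgroup.centralizer ({z} : Set G)) ⧸ N)) = ⊤ from
          top_unique fun a _ => Subgroup.mem_centralizer_singleton_iff.2 (by simp),
        Subgroup.card_top, ← Subgroup.index_eq_card, hk]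
    · rw [if_neg hc, if_neg]
      rw [QuotientGroup.mk_one, isConj_one_right]
      exact fun h' => hc ((QuotientGroup.eq_one_iff c).1 h')
  have h2 : ∑ c : (Subgroup.centralizer ({z} : Set G)), θ c * Φ c = (Nat.card (Subgroup.centralizer ({z} : Set G)) : ℂ) *
      if χ ∈ principalBlock M G then (χ : G → ℂ) z else 0 := by
    simp only [Subgroup.coe_one, mul_one] at h1
    rw [← h1]
    simp only [Φ, classInner, Finset.mul_sum, Finset.sum_mul]
    rw [Finset.sum_comm]
    refine Finset.sum_congr rfl fun ξ _ => Finset.sum_congr rfl fun c _ => ?_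
    have hC : (Nat.card (Subgroup.centralizer ({z} : Set G)) : ℂ) ≠ 0 := Nat.cast_ne_zero.2 Nat.card_pos.ne'
    field_simp
  simp only [hΦ, mul_ite, mul_zero] at h2
  rw [← Finset.sum_filter, Finset.sum_subtype (Finset.univ.filter (· ∈ N)) (p := fun c => c ∈ N)
    (fun c => by simp) (fun c => θ c * ((p ^ k : ℕ) : ℂ)), ← Finset.sum_mul,
    show (Nat.card (Subgroup.centralizer ({z} : Set G)) : ℂ) = (Nat.card N : ℂ) * ((p ^ k : ℕ) : ℂ) by
      rw [← Nat.cast_mul, ← hk, Subgroup.card_mul_index]] at h2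
  refine mul_right_cancel₀ (b := ((p ^ k : ℕ) : ℂ))
    (Nat.cast_ne_zero.2 (pow_ne_zero _ (Fact.out : p.Prime).ne_zero)) ?_
  refine h2.trans ?_
  split_ifs <;> ring

/-- For an odd prime the indicators pair to one with the column. -/
theorem ind_column (hM : IsPModular p M) (hp2 : p ≠ 2) (hz : ∃ k : ℕ, orderOf z = p ^ k)
    {N : Subgroup (Subgroup.centralizer ({z} : Set G))} [N.Normal] {k : ℕ}
    (hd : ¬ p ∣ Nat.card N) (hk : N.index = p ^ k) :
    ∑ᶠ χ ∈ principalBlock M G, FS.ind (χ : G → ℂ) * (χ : G → ℂ) z = 1 := by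
  classical
  letI := Fintype.ofFinite N
  obtain ⟨j, hj⟩ := hz
  have hp : p.Prime := Fact.out
  obtain ⟨m, hm⟩ : Odd (orderOf z) := hj ▸ (hp.odd_of_ne_two hp2).pow
  set r : (Subgroup.centralizer ({z} : Set G)) := ⟨z ^ (m + 1), Subgroup.mem_centralizer_singleton_iff.2
    ((Commute.refl z).pow_left _).eq⟩
  have hr : ((r * r : (Subgroup.centralizer ({z} : Set G))) : G) = z := by
    show z ^ (m + 1) * z ^ (m + 1) = z
    rw [← pow_add, show m + 1 + (m + 1) = orderOf z + 1 by omega, pow_succ, pow_orderOf_eq_one,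
      one_mul]
  have hidx : Odd (Nat.card ((Subgroup.centralizer ({z} : Set G)) ⧸ N)) := by
    rw [← Subgroup.index_eq_card, hk]; exact (hp.odd_of_ne_two hp2).pow
  have hreg : ∀ c : N, ¬ p ∣ orderOf (c : (Subgroup.centralizer ({z} : Set G))) := fun c h => hd (h.trans (N.orderOf_dvd_natCard c.2))
  have hmemC : ∀ (c : N) (y : G), y * y = z * ((c : (Subgroup.centralizer ({z} : Set G))) : G) → y ∈ (Subgroup.centralizer ({z} : Set G)) := by
    intro c y hy
    have hcomm : Commute z ((c : (Subgroup.centralizer ({z} : Set G))) : G) :=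
      (Subgroup.mem_centralizer_singleton_iff.1 (c : (Subgroup.centralizer ({z} : Set G))).2).symm
    have hzm : z ∈ Subgroup.zpowers (z * ((c : (Subgroup.centralizer ({z} : Set G))) : G)) := mem_zpowers_of_pPart (p := p)
      ⟨((c : (Subgroup.centralizer ({z} : Set G))) : G), rfl, hcomm, ⟨j, hj⟩, by rw [Subgroup.orderOf_coe]; exact hreg c⟩
    obtain ⟨i, hi⟩ := Subgroup.mem_zpowers_iff.1 hzm
    refine Subgroup.mem_centralizer_singleton_iff.2 ?_
    rw [← hy] at hi
    rw [← hi]
    exact (((Commute.refl y).mul_right (Commute.refl y)).zpow_right i).eq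
  have hsq : ∀ (c : N) (y : G) (hy : y * y = z * ((c : (Subgroup.centralizer ({z} : Set G))) : G)),
      r⁻¹ * (⟨y, hmemC c y hy⟩ : (Subgroup.centralizer ({z} : Set G))) ∈ N := by
    intro c y hy
    rw [← QuotientGroup.eq]
    have h : (((⟨y, hmemC c y hy⟩ : (Subgroup.centralizer ({z} : Set G))) * ⟨y, hmemC c y hy⟩ : (Subgroup.centralizer ({z} : Set G))) : (Subgroup.centralizer ({z} : Set G)) ⧸ N) = ((r * r : (Subgroup.centralizer ({z} : Set G))) : (Subgroup.centralizer ({z} : Set G)) ⧸ N) := by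
      rw [QuotientGroup.eq_iff_div_mem, div_eq_mul_inv]
      have e : (⟨y, hmemC c y hy⟩ : (Subgroup.centralizer ({z} : Set G))) * ⟨y, hmemC c y hy⟩ * (r * r)⁻¹ =
          (r * r) * (c : (Subgroup.centralizer ({z} : Set G))) * (r * r)⁻¹ := Subtype.ext (by
        rw [Subgroup.coe_mul, Subgroup.coe_mul, Subgroup.coe_mul, Subgroup.coe_mul,
          Subgroup.coe_inv, hr]
        show y * y * z⁻¹ = _
        rw [hy])
      rw [e]
      exact Subgroup.Normal.conj_mem inferInstance _ c.2 _
    have hcop : (Nat.card ((Subgroup.centralizer ({z} : Set G)) ⧸ N)).Coprime 2 := hidx.coprime_two_right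
    refine ((powCoprime hcop).injective ?_).symm
    show ((⟨y, hmemC c y hy⟩ : (Subgroup.centralizer ({z} : Set G))) : (Subgroup.centralizer ({z} : Set G)) ⧸ N) ^ 2 = (r : (Subgroup.centralizer ({z} : Set G)) ⧸ N) ^ 2
    rw [pow_two, pow_two, ← QuotientGroup.mk_mul, ← QuotientGroup.mk_mul, h]
  have hcN : ∀ o : N, (r * r)⁻¹ * (r * (o : (Subgroup.centralizer ({z} : Set G))) * (r * (o : (Subgroup.centralizer ({z} : Set G))))) ∈ N := fun o => by
    rw [show (r * r)⁻¹ * (r * (o : (Subgroup.centralizer ({z} : Set G))) * (r * (o : (Subgroup.centralizer ({z} : Set G))))) = r⁻¹ * (o : (Subgroup.centralizer ({z} : Set G))) * r⁻¹⁻¹ * (o : (Subgroup.centralizer ({z} : Set G))) by group]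
    exact mul_mem (Subgroup.Normal.conj_mem inferInstance _ o.2 _) o.2
  have hcount : Nat.card (Σ c : N, {y : G // y * y = z * ((c : (Subgroup.centralizer ({z} : Set G))) : G)}) = Nat.card N :=
    Nat.card_congr
      { toFun := fun t => ⟨r⁻¹ * ⟨t.2.1, hmemC t.1 t.2.1 t.2.2⟩, hsq t.1 t.2.1 t.2.2⟩
        invFun := fun o => ⟨⟨_, hcN o⟩, ⟨((r * (o : (Subgroup.centralizer ({z} : Set G))) : (Subgroup.centralizer ({z} : Set G))) : G), by
          show _ = z * (((r * r)⁻¹ * (r * (o : (Subgroup.centralizer ({z} : Set G))) * (r * (o : (Subgroup.centralizer ({z} : Set G))))) : (Subgroup.centralizer ({z} : Set G))) : G)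
          refine Eq.trans ?_ (congrArg (· * _) hr)
          rw [← Subgroup.coe_mul, ← Subgroup.coe_mul, mul_inv_cancel_left]⟩⟩
        left_inv := fun t => by
          obtain ⟨⟨c, hc⟩, y, hy⟩ := t
          have e : r * (r⁻¹ * (⟨y, hmemC ⟨c, hc⟩ y hy⟩ : (Subgroup.centralizer ({z} : Set G)))) = ⟨y, hmemC ⟨c, hc⟩ y hy⟩ :=
            mul_inv_cancel_left _ _
          have e2 : (r * r)⁻¹ * ((⟨y, hmemC ⟨c, hc⟩ y hy⟩ : (Subgroup.centralizer ({z} : Set G))) * ⟨y, hmemC ⟨c, hc⟩ y hy⟩) = c := by
            rw [inv_mul_eq_iff_eq_mul]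
            refine Subtype.ext ?_
            rw [Subgroup.coe_mul, Subgroup.coe_mul (H := (Subgroup.centralizer ({z} : Set G))) (r * r), hr]
            exact hy
          refine Sigma.subtype_ext (Subtype.ext ?_) ?_
          · simp only [e, e2]
          · simp only [e]
        right_inv := fun o => Subtype.ext (inv_mul_cancel_left _ _) }
  have hN0 : (Nat.card N : ℂ) ≠ 0 := Nat.cast_ne_zero.2 Nat.card_pos.ne'
  refine mul_left_cancel₀ hN0 ?_
  rw [finsum_mem_block, Finset.mul_sum, Finset.sum_filter, mul_one]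
  conv_rhs => rw [← hcount, Nat.card_sigma, Nat.cast_sum]
  rw [Finset.sum_congr rfl fun (c : N) _ => (UniqueDegP.sum_ind (z * ((c : (Subgroup.centralizer ({z} : Set G))) : G))).symm,
    Finset.sum_comm]
  refine Finset.sum_congr rfl fun χ _ => ?_
  rw [← Finset.mul_sum, sum_coset hM ⟨j, hj⟩ hd hk χ]
  split_ifs <;> ring

/-- The column. -/
theorem exists_column (hM : IsPModular p M) (hdvd : p ∣ Nat.card G)
    (hk : Nat.card (principalBlock M G) ≤ blockRank p (principalBlock M G) + 1) :
    ∃ x : G, ∃ a : IrrCharacter G → ℤ,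
      (∀ χ ∈ principalBlock M G, (χ : G → ℂ) x = a χ) ∧
      ∑ᶠ χ ∈ principalBlock M G, (a χ : ℂ) * a χ =
        ((p ^ (Nat.card G).factorization p : ℕ) : ℂ) ∧
      (∀ g : G, ¬ p ∣ orderOf g →
        ∑ᶠ χ ∈ principalBlock M G, (χ : G → ℂ) g * (a χ : ℂ) = 0) ∧
      (p ≠ 2 → ∑ᶠ χ ∈ principalBlock M G, FS.ind (χ : G → ℂ) * (a χ : ℂ) = 1) := by
  classical
  have hp : p.Prime := Fact.out
  have hB : IsPBlock M (principalBlock M G) := isPBlock_principalBlock
  obtain ⟨D, hD⟩ := exists_isDefectGroup hM hB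
  have hcard : Nat.card D = p ^ (Nat.card G).factorization p := by
    rw [card_defectGroup hM hB hD, GalParity.principal_defect hM]
  have hDp : IsPGroup p D := IsDefectGroup.isPGroup hD
  haveI : Nontrivial D := by
    rw [← Finite.one_lt_card_iff_nontrivial, hcard]
    exact Nat.one_lt_pow (hp.factorization_pos_of_dvd Nat.card_pos.ne' hdvd).ne' hp.one_lt
  haveI := hDp.center_nontrivial
  obtain ⟨z₀, hz₀⟩ := exists_ne (1 : Subgroup.center D)
  set x : G := ((z₀ : D) : G) with hx
  have hxD : x ∈ D := (z₀ : D).2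
  have hx1 : x ≠ 1 := fun h => hz₀ (Subtype.ext (Subtype.ext h))
  have hDC : D ≤ Subgroup.centralizer ({x} : Set G) := fun a ha =>
    Subgroup.mem_centralizer_singleton_iff.2
      (congrArg Subtype.val (Subgroup.mem_center_iff.1 z₀.2 ⟨a, ha⟩))
  set C := Subgroup.centralizer ({x} : Set G) with hC
  letI := Fintype.ofFinite C
  have hxp := DiffOne.ppow_of_mem hDp hxD
  obtain ⟨hconj, hrank⟩ := DiffOne.sections hM hB hD hk hxD hx1
  have hpz := isPGroup_zpowers hxp
  have hdef := inducedBlockDefined_brauer hM hpz (Subgroup.zpowers_le.2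
    (centralizer_self_mem x)) (le_of_eq (cg_zpowers x))
    (cg_zpowers x ▸ cg_le_normalizer _)
    (isPBlock_principalBlock (M := M) (G := C))
  obtain ⟨N, hN, hd, k, hNk⟩ := Cfsg.Agent.Transfer.hasNormalPComplement_iff_exists.1
    (BP.complement_of_rank_one hM (hrank _ ((principal_third_main hM hdef).2 rfl)))
  haveI := hN
  have hnu : k = (Nat.card G).factorization p := by
    have hCk : (Nat.card C).factorization p = k := by
      rw [← Subgroup.card_mul_index N, hNk, Nat.factorization_mul Nat.card_pos.ne'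
        (pow_ne_zero _ hp.ne_zero), Finsupp.add_apply, Nat.factorization_eq_zero_of_not_dvd hd,
        Nat.Prime.factorization_pow hp, Finsupp.single_eq_same, zero_add]
    refine le_antisymm (hCk ▸ (Nat.factorization_le_iff_dvd Nat.card_pos.ne'
      Nat.card_pos.ne').2 (Subgroup.card_subgroup_dvd_card C) p) ?_
    rw [← hCk, ← hp.pow_dvd_iff_le_factorization Nat.card_pos.ne', ← hcard]
    exact Subgroup.card_dvd_of_le hDC
  have hint : ∀ χ : IrrCharacter G, ∃ m : ℤ, (χ : G → ℂ) x = m := fun χ => by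
    refine IsChar.exists_int_of_fixed (irr_isChar χ) x fun e he => ?_
    refine IsClass.eq_of_isConj (irr_classFun χ) (hconj _ (pow_mem hxD e) fun h => hx1 ?_)
    rw [← orderOf_eq_one_iff]
    exact Nat.eq_one_of_dvd_coprimes he.symm dvd_rfl (orderOf_dvd_of_pow_eq_one h)
  choose a ha using hint
  refine ⟨x, a, fun χ _ => ha χ, ?_, fun g hg => ?_, fun hp2 => ?_⟩
  · have hker : ∀ ξ : IrrCharacter C, ξ ∈ principalBlock M C ↔
        ∀ k ∈ N, (ξ : C → ℂ) k = (ξ : C → ℂ) 1 := fun ξ =>
      ⟨fun h _ hu => principal_ker_of_coprime hM hd h hu,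
        mem_principal_of_ker hM fun y hy => regular_mem_of_index_pPow hNk hy⟩
    have h1 : ¬ p ∣ orderOf (1 : C) := by rw [orderOf_one]; exact hp.not_dvd_one
    have h := ElemEight.section_column hM hxp hker (y := 1) (y' := 1) h1 h1
    rw [if_pos (IsConj.refl _), QuotientGroup.mk_one,
      show Subgroup.centralizer ({(1 : C ⧸ N)} : Set (C ⧸ N)) = ⊤ from
        top_unique fun b _ => Subgroup.mem_centralizer_singleton_iff.2 (by simp),
      Subgroup.card_top, ← Subgroup.index_eq_card, hNk, hnu] at h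
    rw [← h]
    refine finsum_mem_congr rfl fun χ _ => ?_
    simp [ha χ]
  · have hxd : p ∣ orderOf x := by
      obtain ⟨j, hj⟩ := hxp
      refine hj ▸ dvd_pow_self p fun h => hx1 ?_
      rw [h, pow_zero, orderOf_eq_one_iff] at hj
      exact hj
    rw [← weak_orth hM hB hg hxd]
    exact finsum_mem_congr rfl fun χ _ => by simp [ha χ]
  · rw [← ind_column hM hp2 hxp hd hNk]
    exact finsum_mem_congr rfl fun χ _ => by rw [ha χ]

end Cfsg.Agent.Char.SectionColumnInd
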