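import Cfsg.Agent.Lib.Char.NilpotentData
import Cfsg.Agent.Lib.Char.NilpotentMain

/-!
A character of height zero has a nonzero section at every pair of its block; blocks with central
defect group have rank one.
-/

namespace Cfsg.Agent.Char.Spec

open Cfsg.Agent.Block Cfsg.Agent.Char.BP

set_option linter.unusedSectionVars false
set_option linter.style.haveILetI false
set_option maxHeartbeats 800000

universe u

variable {G : Type u} [Group G] [Fintype G] {p : ℕ} {M : Ideal AlgInt}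

/-- A block of the centralizer of a cyclic `p`-group inducing `B` gives a pair of `B`. -/
theorem ofB_of_induced (hM : IsPModular p M) {B : Set (IrrCharacter G)} {a : BrauerPairIdx G}
    (hp : IsPGroup p a.1) (hPH : a.1 ≤ CG a.1) (h : IsInducedBlock M (CG a.1) a.2 B) :
    OfB p M B a := by
  refine ⟨⟨hp, h.1⟩, h.2.1, fun ξ hξ => ?_⟩
  obtain ⟨χ, hχ⟩ := pblock_nonempty hM h.2.1
  have h1 := induced_congr hM h (cenInt_blockInd hM h.2.1) hξ hχ
  have h2 := resCen_sub_brCen_ideal hM hp hPH (cg_le_normalizer a.1) (cenInt_blockInd hM h.2.1) ξ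
  rw [blockInd_of_mem hχ] at h1
  rw [brCen_eq_brauerOmega] at h2
  simpa using ideal_sub hM h1 h2

theorem exists_sct_ne_zero [Fact p.Prime] (hM : IsPModular p M) {B : Set (IrrCharacter G)}
    {χ : IrrCharacter G} (hχ : χ ∈ B) (h0 : blockHeight p B (χ : G → ℂ) = 0)
    {a : BrauerPairIdx G} {x : G} (hax : a.1 = Subgroup.zpowers x) (haB : OfB p M B a) :
    ∃ v ∈ CG a.1, ¬ p ∣ orderOf v ∧ sct (χ : G → ℂ) a x v ≠ 0 := by
  classical
  have hB := haB.2.1
  obtain ⟨P, hD⟩ := exists_isDefectGroup hM hB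
  obtain ⟨i, e, hi, hx, hu, htop⟩ := exists_source hM hB hχ h0 hD
  obtain ⟨l, hl⟩ := le_conj_max hM haB hx
  set a' := cjI l a with ha'
  set y := l * x * l⁻¹ with hy
  have hay : a'.1 = Subgroup.zpowers y := by
    show a.1.map (MulAut.conj l).toMonoidHom = _
    rw [hax, MonoidHom.map_zpowers]
    rfl
  have hyP : y ∈ P := le_subgroup hl (hay ▸ Subgroup.mem_zpowers y)
  obtain ⟨k, hk⟩ := pPow_of_mem (p := p) hx.1.1.1 hyP
  have hne := not_brEq_zero hM hx.1.1.1 (irr_isChar χ) hi.1 hu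
  have hloc : BrEq M a'.1 (i * pz a') i := source_local hM hx.1.1 hi hne htop hl
  have hpr : IsPr p M a' := le_isPr hl hx.1.1
  letI := Fintype.ofFinite (CG a'.1)
  obtain ⟨j, hj, hjj, hzj, hij⟩ :=
    exists_idem_centralizer hM hpr (hi.1.mono (le_subgroup hl)) hi.2.1 hloc
  have hcut := isCharacter_cut (irr_isChar χ) hi.2.1 hi.1.2
  have hunit : ¬ MemLocalIdeal M (ev (χ : G → ℂ) (MonoidAlgebra.single y (1 : ℂ) * i)) := by
    have h1 := (ideal_coe_iff hM _).2
      (IsChar.sub_degree_mem hcut hM (g := (⟨y, hyP⟩ : P)) ⟨k, by rw [Subgroup.orderOf_mk, hk]⟩)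
    have h2 : MemLocalIdeal M (ev (χ : G → ℂ) (MonoidAlgebra.single y (1 : ℂ) * i) -
        ev (χ : G → ℂ) i) := by
      simpa [← MonoidAlgebra.one_def] using h1
    rwa [ideal_congr hM h2]
  by_contra hvan
  push Not at hvan
  have hvan' : ∀ c : CG a'.1, ¬ p ∣ orderOf c → sct (χ : G → ℂ) a' y (c : G) = 0 := by
    intro c hc
    have hc' : l⁻¹ * (c : G) * l ∈ CG a.1 := (cg_map_conj l a.1 _).2 (by
      rw [show l * (l⁻¹ * (c : G) * l) * l⁻¹ = (c : G) by group]; exact c.2)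
    have hord : ¬ p ∣ orderOf (l⁻¹ * (c : G) * l) := by
      rw [show l⁻¹ * (c : G) * l = MulAut.conj l⁻¹ (c : G) by simp [MulAut.conj_apply],
        MulEquiv.orderOf_eq, Subgroup.orderOf_coe]
      exact hc
    have h := sct_conj (irr_classFun χ) a l x (l⁻¹ * (c : G) * l)
    rw [show l * (l⁻¹ * (c : G) * l) * l⁻¹ = (c : G) by group, hvan _ hc' hord] at h
    exact h
  refine hunit ?_
  rw [ev_centralizer hM hpr hay hk (hi.1.mono (le_subgroup hl)) hi.2.1 hj hjj hij (irr_classFun χ)]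
  show MemLocalIdeal M (ev (fun c : CG a'.1 => (χ : G → ℂ) (y * (c : G))) j)
  rw [← hzj, ev_algOf_mul]
  have hs : (fun c : CG a'.1 => ∑ k : CG a'.1,
      blockCoeff a'.2 k * (χ : G → ℂ) (y * ((k * c : CG a'.1) : G))) =
      fun c : CG a'.1 => sct (χ : G → ℂ) a' y (c : G) := funext fun c => by
    rw [sct_eq_sub]
    simp only [Subgroup.coe_mul, mul_assoc]
  obtain ⟨c₀, -, hc₀⟩ := exists_sct_coef (irr_isChar χ) (a := a') (self_mem_cg hay)
    (hay ▸ Subgroup.mem_zpowers y)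
  rw [hs, ev_idem_eq_zero hM hj hjj ?_ hvan']
  · exact ideal_zero hM
  · intro g t
    show sct (χ : G → ℂ) a' y ((t * g * t⁻¹ : CG a'.1) : G) = sct (χ : G → ℂ) a' y (g : G)
    rw [hc₀, hc₀]
    exact Finset.sum_congr rfl fun ξ _ => by rw [irr_classFun ξ g t]

theorem blockPart_ne_zero [Fact p.Prime] (hM : IsPModular p M) {B : Set (IrrCharacter G)}
    {χ : IrrCharacter G} (hχ : χ ∈ B) (h0 : blockHeight p B (χ : G → ℂ) = 0) {x : G}
    (hx : ∃ k : ℕ, orderOf x = p ^ k) {H : Subgroup G} (hH : H = CG (Subgroup.zpowers x))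
    (b : Set (IrrCharacter H)) (hb : IsInducedBlock M H b B) :
    ∃ y : H, ¬ p ∣ orderOf y ∧
      blockPart b (fun c : H => (χ : G → ℂ) (x * (c : G))) y ≠ 0 := by
  classical
  subst hH
  let a : BrauerPairIdx G := ⟨Subgroup.zpowers x, b⟩
  have hPH : a.1 ≤ CG a.1 := Subgroup.zpowers_le.2 (self_mem_cg (a := a) rfl)
  obtain ⟨v, hv, hvr, hne⟩ := exists_sct_ne_zero hM hχ h0 (a := a) (x := x) rfl
    (ofB_of_induced hM (isPGroup_zpowers hx) hPH hb)
  letI : Fintype (CG (Subgroup.zpowers x)) := Fintype.ofFinite _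
  refine ⟨⟨v, hv⟩, by rwa [Subgroup.orderOf_mk], ?_⟩
  rw [blockPart_eq_conv]
  · rw [sct_eq_sub _ a x v] at hne
    simp only [mul_assoc] at hne
    exact hne
  · intro g t
    show (χ : G → ℂ) (x * ((t : G) * (g : G) * (t : G)⁻¹)) = (χ : G → ℂ) (x * (g : G))
    have ht : x * (t : G) = (t : G) * x :=
      Subgroup.mem_centralizer_iff.1 t.2 x (Subgroup.mem_zpowers x)
    rw [← irr_classFun χ (x * (g : G)) (t : G)]
    congr 1
    rw [← mul_assoc, ← mul_assoc, ht, mul_assoc (t : G) x]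

/-- A block with central defect group is nilpotent. -/
theorem nilpotent_of_central_defect [Fact p.Prime] (hM : IsPModular p M)
    {B : Set (IrrCharacter G)} (hB : IsPBlock M B) {P : Subgroup G}
    (hD : IsDefectGroup p M B P) (hPZ : P ≤ Subgroup.center G) : IsNilpotentBlock p M B := by
  refine (nil_iff hM).2 ⟨hB, fun a ha y _ _ => ?_⟩
  obtain ⟨g, hg⟩ := conj_le_defect hM ha hD
  refine Subgroup.mem_centralizer_iff.2 fun v hv => ?_
  have h1 : g * v * g⁻¹ ∈ Subgroup.center G := hPZ (hg (conj_mem_map_conj.2 hv))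
  have h2 : v ∈ Subgroup.center G := by
    have := Subgroup.Normal.conj_mem (inferInstance : (Subgroup.center G).Normal) _ h1 g⁻¹
    simpa [mul_assoc] using this
  exact (Subgroup.mem_center_iff.1 h2 y).symm

end Cfsg.Agent.Char.Spec
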