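import Cfsg.Agent.Lib.Char.SectionRank

/-!
The rank identities phrased with block parts.
-/

open scoped ComplexConjugate

namespace Cfsg.Agent.Char.Spec

open Cfsg.Agent.Block Cfsg.Agent.Char.BP

set_option linter.unusedSectionVars false
set_option linter.style.haveILetI false

universe u

variable {G : Type u} [Group G] [Fintype G] {p : ℕ} {M : Ideal AlgInt}

theorem sum_pRegularPart_self [Fact p.Prime] (hM : IsPModular p M) {B : Set (IrrCharacter G)}
    (hB : IsPBlock M B) :
    (Nat.card G : ℂ) * (blockRank p B : ℂ) =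
      ∑ x : G, ∑ᶠ χ ∈ B, pRegularPart p (χ : G → ℂ) x * (χ : G → ℂ) x⁻¹ := by
  classical
  simp only [finsum_mem_block B]
  rw [← sum_regSum_self hM hB, Finset.sum_comm]
  refine Finset.sum_congr rfl fun χ _ => ?_
  rw [regSum_eq_sum, Finset.sum_filter]
  refine Finset.sum_congr rfl fun x _ => ?_
  by_cases hx : p ∣ orderOf x <;> simp [pRegularPart_apply, IsPRegular, hx, irr_apply_inv]

theorem blockPart_inv_conj {H : Type u} [Group H] [Fintype H] (b : Set (IrrCharacter H))
    {θ θ' : H → ℂ} (h : ∀ c, θ' c⁻¹ = conj (θ c)) (s : H) :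
    blockPart b θ' s⁻¹ = conj (blockPart b θ s) := by
  classical
  have e : ∀ (φ : H → ℂ) (t : H), blockPart b φ t =
      ∑ ξ ∈ Finset.univ.filter (· ∈ b), classInner φ (ξ : H → ℂ) * (ξ : H → ℂ) t := fun φ t => by
    rw [blockPart]
    simp only [classInner]
    rw [finsum_mem_block b]
    refine Finset.sum_congr rfl fun ξ _ => ?_
    congr!
  rw [e, e, map_sum]
  refine Finset.sum_congr rfl fun ξ _ => ?_
  rw [map_mul, irr_apply_inv]
  congr 1
  simp only [classInner, map_mul, map_inv₀, map_natCast, map_sum, Complex.conj_conj]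
  congr 1
  rw [← Equiv.sum_comp (Equiv.inv H)]
  refine Finset.sum_congr rfl fun c _ => ?_
  simp only [Equiv.inv_apply, irr_apply_inv, Complex.conj_conj]
  rw [h c]

theorem sum_blockPart_norms [Fact p.Prime] (hM : IsPModular p M) {B : Set (IrrCharacter G)}
    {u : G} (hu : ∃ k : ℕ, orderOf u = p ^ k)
    {e : Set (IrrCharacter (CG (Subgroup.zpowers u)))}
    (hBe : OfB p M B (⟨Subgroup.zpowers u, e⟩ : BrauerPairIdx G)) :
    ∑ᶠ χ ∈ B, ∑ᶠ s : CG (Subgroup.zpowers u),
        pRegularPart p (blockPart e (fun c : CG (Subgroup.zpowers u) => (χ : G → ℂ) (u * c))) s *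
          blockPart e (fun c : CG (Subgroup.zpowers u) => (χ : G → ℂ) (u⁻¹ * c)) s⁻¹ =
      (Nat.card (CG (Subgroup.zpowers u)) : ℂ) * (blockRank p e : ℂ) := by
  classical
  letI := Fintype.ofFinite (CG (Subgroup.zpowers u))
  let a : BrauerPairIdx G := ⟨Subgroup.zpowers u, e⟩
  rw [finsum_mem_block B, ← sum_sct_sq hM (a := a) hu rfl hBe]
  refine Finset.sum_congr rfl fun χ _ => ?_
  rw [finsum_eq_sum_of_fintype, secT]
  have hpart : ∀ v : CG a.1, ¬ p ∣ orderOf v → sct (χ : G → ℂ) a u (v : G) =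
      blockPart e (fun c : CG (Subgroup.zpowers u) => (χ : G → ℂ) (u * c)) v := fun v _ =>
    (blockPart_eq_sct χ (a := a) (Subgroup.mem_zpowers u) v).symm
  rw [sum_regs_eq_regSum a.1 _ _ _ _ hpart hpart, regSum_eq_sum, Finset.sum_filter]
  refine Finset.sum_congr rfl fun s _ => ?_
  rw [blockPart_inv_conj e (θ := fun c : CG (Subgroup.zpowers u) => (χ : G → ℂ) (u * c))]
  · by_cases hs : p ∣ orderOf s <;> simp [pRegularPart_apply, IsPRegular, hs, a]
  · intro c
    show (χ : G → ℂ) (u⁻¹ * ((c : G))⁻¹) = _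
    rw [← mul_inv_rev, irr_apply_inv, Subgroup.mem_centralizer_iff.1 c.2 u (Subgroup.mem_zpowers u)]

end Cfsg.Agent.Char.Spec
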