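import Cfsg.Agent.Lib.Char.DecompBlock
import Cfsg.Agent.Lib.Block.SecondMain

/-!
The contribution of one section to the number of characters of a block fixed by a twist: it is the
centralizer order times a natural number, and for the regular section that number is the regular rank.
-/

open scoped ComplexConjugate

namespace Cfsg.Agent.Char.SectionTrace

open Cfsg Cfsg.Agent.Block Cfsg.Agent.Char.Spec Cfsg.Agent.Char.BP Cfsg.Agent.Char.Res
  Cfsg.Agent.Char.Decomp

set_option linter.unusedSectionVars false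
set_option linter.style.haveILetI false
set_option maxHeartbeats 1000000

universe u

variable {G : Type u} [Group G] [Fintype G] [DecidableEq G] {p : ℕ} {M : Ideal AlgInt}
variable {C : Type u} [Group C] [Fintype C] [DecidableEq C]

/-- Class functions read on the regular elements through the classes of idempotents. -/
theorem classFun_reg [Fact p.Prime] (Cl : Classes M C) {φ : Fin Cl.n → C → ℂ}
    (hval : ∀ χ : IrrCharacter C, ∀ v, ¬ p ∣ orderOf v →
      (χ : C → ℂ) v = ∑ c, φ c v * ev (χ : C → ℂ) (Cl.i c))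
    {f : C → ℂ} (hf : IsClassFunction C f) {v : C} (hv : ¬ p ∣ orderOf v) :
    f v = ∑ c, φ c v * ev f (Cl.i c) := by
  classical
  conv_lhs => rw [classFunction_expansion hf]
  conv_rhs => arg 2; ext c; rw [classFunction_expansion hf, ev_sum_fun, Finset.mul_sum]
  rw [Finset.sum_comm, Finset.sum_apply]
  refine Finset.sum_congr rfl fun χ _ => ?_
  rw [Pi.smul_apply, smul_eq_mul, hval χ v hv, Finset.mul_sum]
  exact Finset.sum_congr rfl fun c _ => by ring

/-- An endomorphism acts on the classes of idempotents by natural multiplicities. -/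
theorem exists_act [Fact p.Prime] (hM : IsPModular p M) (Cl : Classes M C) (τ : C →* C) :
    ∃ cnt : Fin Cl.n → Fin Cl.n → ℕ, ∀ d, ∀ f : C → ℂ, IsClassFunction C f →
      ev (fun v => f (τ v)) (Cl.i d) = ∑ c, (cnt d c : ℂ) * ev f (Cl.i c) := by
  classical
  let T := MonoidAlgebra.lift ℂ (MonoidAlgebra ℂ C) C ((MonoidAlgebra.of ℂ C).comp τ)
  have hT : ∀ a : MonoidAlgebra ℂ C, T a = algOf τ (fun x => a.coeff x) := by
    intro a
    rw [MonoidAlgebra.lift_apply, Finsupp.sum_fintype _ _ (fun g => by simp), algOf]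
    exact Finset.sum_congr rfl fun x _ => by simp [MonoidAlgebra.of_apply]
  have h : ∀ d, ∃ cnt : Fin Cl.n → ℕ, ∀ f : C → ℂ, IsClassFunction C f →
      ev f (T (Cl.i d)) = ∑ c, (cnt c : ℂ) * ev f (Cl.i c) := fun d => by
    refine Cl.exists_cnt hM ?_ ?_
    · rw [hT]
      exact AlgRing.algOf hM τ fun x => (Cl.pr d).ring x
    · rw [← map_mul, (Cl.pr d).idem]
  choose cnt hcnt using h
  refine ⟨cnt, fun d f hf => ?_⟩
  rw [← hcnt d f hf, hT, ev_algOf]
  rfl

variable (x : G) (ι : C →* G) (B : Set (IrrCharacter G))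

/-- The function of a character on the section of `x`. -/
def sec (χ : IrrCharacter G) : C → ℂ := fun v => (χ : G → ℂ) (x * ι v)

variable {x ι B}

theorem sec_classFun (hx : ∀ v : C, Commute x (ι v)) (χ : IrrCharacter G) :
    IsClassFunction C (sec x ι χ) := fun v t => by
  have h : ι t * (x * ι v) * (ι t)⁻¹ = x * ι (t * v * t⁻¹) := by
    rw [map_mul, map_mul, map_inv, ← mul_assoc (ι t), ← (hx t).eq]
    simp only [mul_assoc]
  show (χ : G → ℂ) (x * ι (t * v * t⁻¹)) = (χ : G → ℂ) (x * ι v)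
  rw [← h]
  exact irr_classFun χ _ _

/-- The number of elements conjugating one element of the section to another. -/
theorem kernel_eq [Fact p.Prime] (hinj : Function.Injective ι)
    (hrange : ∀ t : G, (∃ c, ι c = t) ↔ Commute x t) {j : ℕ} (hj : orderOf x = p ^ j)
    {v w : C} (hv : ¬ p ∣ orderOf v) (hw : ¬ p ∣ orderOf w) :
    ∑ χ : IrrCharacter G, sec x ι χ v * conj (sec x ι χ w) =
      ∑ t : C, if t * v * t⁻¹ = w then (1 : ℂ) else 0 := by
  classical
  have hx : ∀ c, Commute x (ι c) := fun c => (hrange _).1 ⟨c, rfl⟩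
  simp only [sec]
  rw [Cfsg.Agent.Char.sum_irr_mul_conj, Finset.sum_ite, Finset.sum_const_zero, add_zero,
    Finset.sum_const, nsmul_eq_mul, mul_one]
  have hpp : ∀ c : C, ¬ p ∣ orderOf c → IsPPart p (x * ι c) x := fun c hc =>
    ⟨ι c, rfl, hx c, ⟨j, hj⟩, by rwa [orderOf_injective ι hinj]⟩
  split_ifs with hc
  · obtain ⟨t, ht⟩ := isConj_iff.1 hc
    obtain ⟨y, hy, hxy, -, hyo⟩ := hpp v hv
    have hpart : IsPPart p (x * ι w) (t * x * t⁻¹) := by
      refine ⟨t * ι v * t⁻¹, by rw [conj_mul, ht], ?_, ⟨j, ?_⟩, ?_⟩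
      · show t * x * t⁻¹ * (t * ι v * t⁻¹) = t * ι v * t⁻¹ * (t * x * t⁻¹)
        rw [conj_mul, conj_mul, (hx v).eq]
      · rw [← MulAut.conj_apply, MulEquiv.orderOf_eq, hj]
      · rw [← MulAut.conj_apply, MulEquiv.orderOf_eq, orderOf_injective ι hinj]; exact hv
    have htx : t * x * t⁻¹ = x := pPart_unique hpart (hpp w hw)
    obtain ⟨c₀, hc₀⟩ := (hrange t).2 (mul_inv_eq_iff_eq_mul.1 htx).symm
    norm_cast
    rw [Nat.card_eq_fintype_card, Fintype.card_subtype]
    have hcw : c₀ * v * c₀⁻¹ = w := hinj (by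
      rw [map_mul, map_mul, map_inv, hc₀]
      have h1 : x * (t * ι v * t⁻¹) = x * ι w := by
        conv_lhs => arg 1; rw [← htx]
        rw [conj_mul, ht]
      exact mul_left_cancel h1)
    refine Finset.card_bij' (fun g _ => Function.invFun ι g * c₀) (fun c _ => ι (c * c₀⁻¹)) ?_ ?_ ?_ ?_
    all_goals intro a ha; simp only [Finset.mem_filter, Finset.mem_univ, true_and] at ha ⊢
    · have hac := Subgroup.mem_centralizer_singleton_iff.1 ha
      have hpa : IsPPart p (x * ι w) (a * x * a⁻¹) := by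
        refine ⟨a * ι w * a⁻¹, by rw [conj_mul, hac, mul_inv_cancel_right], ?_, ⟨j, ?_⟩, ?_⟩
        · show a * x * a⁻¹ * (a * ι w * a⁻¹) = a * ι w * a⁻¹ * (a * x * a⁻¹)
          rw [conj_mul, conj_mul, (hx w).eq]
        · rw [← MulAut.conj_apply, MulEquiv.orderOf_eq, hj]
        · rw [← MulAut.conj_apply, MulEquiv.orderOf_eq, orderOf_injective ι hinj]; exact hw
      obtain ⟨e, he⟩ := (hrange a).2 (mul_inv_eq_iff_eq_mul.1 (pPart_unique hpa (hpp w hw))).symm
      subst he
      rw [Function.leftInverse_invFun hinj e]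
      have hew : e * w * e⁻¹ = w := by
        refine mul_inv_eq_iff_eq_mul.2 (hinj ?_)
        rw [map_mul, map_mul]
        have h1 := hac
        rw [← mul_assoc, (hx e).eq.symm, mul_assoc, mul_assoc] at h1
        exact mul_left_cancel h1
      calc e * c₀ * v * (e * c₀)⁻¹ = e * (c₀ * v * c₀⁻¹) * e⁻¹ := by group
        _ = w := by rw [hcw, hew]
    · rw [Subgroup.mem_centralizer_singleton_iff]
      have h1 : a * c₀⁻¹ * w * (a * c₀⁻¹)⁻¹ = w := by
        calc a * c₀⁻¹ * w * (a * c₀⁻¹)⁻¹ = a * (c₀⁻¹ * w * c₀) * a⁻¹ := by group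
          _ = w := by rw [← hcw, show c₀⁻¹ * (c₀ * v * c₀⁻¹) * c₀ = v by group, ha, hcw]
      set e := a * c₀⁻¹
      have h2 : ι e * ι w = ι w * ι e := by rw [← map_mul, ← map_mul, mul_inv_eq_iff_eq_mul.1 h1]
      exact Commute.mul_right (hx e).symm h2
    · have hac := Subgroup.mem_centralizer_singleton_iff.1 ha
      have hpa : IsPPart p (x * ι w) (a * x * a⁻¹) := by
        refine ⟨a * ι w * a⁻¹, by rw [conj_mul, hac, mul_inv_cancel_right], ?_, ⟨j, ?_⟩, ?_⟩
        · show a * x * a⁻¹ * (a * ι w * a⁻¹) = a * ι w * a⁻¹ * (a * x * a⁻¹)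
          rw [conj_mul, conj_mul, (hx w).eq]
        · rw [← MulAut.conj_apply, MulEquiv.orderOf_eq, hj]
        · rw [← MulAut.conj_apply, MulEquiv.orderOf_eq, orderOf_injective ι hinj]; exact hw
      obtain ⟨e, he⟩ := (hrange a).2 (mul_inv_eq_iff_eq_mul.1 (pPart_unique hpa (hpp w hw))).symm
      subst he
      rw [Function.leftInverse_invFun hinj e, mul_inv_cancel_right]
    · rw [Function.leftInverse_invFun hinj, inv_mul_cancel_right]
  · norm_cast
    refine (Finset.card_eq_zero.2 (Finset.filter_eq_empty_iff.2 fun t _ ht => hc ?_)).symm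
    refine isConj_iff.2 ⟨ι t, ?_⟩
    rw [← ht, map_mul, map_mul, map_inv, ← mul_assoc (ι t), ← (hx t).eq]
    simp only [mul_assoc]

/-- The contribution of a section. -/
theorem trace_eq [Fact p.Prime] [DecidablePred (· ∈ B)] (hM : IsPModular p M) (Cl : Classes M C)
    {φ : Fin Cl.n → C → ℂ} (hφ : ∀ c, IsClassFunction C (φ c))
    (hval : ∀ χ : IrrCharacter C, ∀ v, ¬ p ∣ orderOf v →
      (χ : C → ℂ) v = ∑ c, φ c v * ev (χ : C → ℂ) (Cl.i c))
    (hdual : ∀ c d, ev (φ c) (Cl.i d) = if c = d then 1 else 0)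
    (hinj : Function.Injective ι) (hrange : ∀ t : G, (∃ c, ι c = t) ↔ Commute x t) {j : ℕ}
    (hj : orderOf x = p ^ j)
    (hU : ∀ c (χ ψ : IrrCharacter G), ev (sec x ι χ) (Cl.i c) ≠ 0 →
      ev (sec x ι ψ) (Cl.i c) ≠ 0 → ψ ∈ B → χ ∈ B)
    (τ : C →* C) (hreg : ∀ v, ¬ p ∣ orderOf v → ¬ p ∣ orderOf (τ v))
    (hcl : ∀ (f : C → ℂ), IsClassFunction C f → IsClassFunction C fun v => f (τ v))
    {cnt : Fin Cl.n → Fin Cl.n → ℕ}
    (hcnt : ∀ d, ∀ f : C → ℂ, IsClassFunction C f →
      ev (fun v => f (τ v)) (Cl.i d) = ∑ c, (cnt d c : ℂ) * ev f (Cl.i c)) :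
    ∑ v ∈ Finset.univ.filter (fun v : C => ¬ p ∣ orderOf v),
        ∑ χ ∈ Finset.univ.filter (· ∈ B), sec x ι χ (τ v) * conj (sec x ι χ v) =
      (Nat.card C : ℂ) * ((∑ c ∈ Finset.univ.filter
        (fun c => ∃ χ ∈ B, ev (sec x ι χ) (Cl.i c) ≠ 0), cnt c c : ℕ) : ℂ) := by
  classical
  have hx : ∀ c, Commute x (ι c) := fun c => (hrange _).1 ⟨c, rfl⟩
  have hn : (Nat.card C : ℂ) ≠ 0 := Nat.cast_ne_zero.2 Nat.card_pos.ne'
  set R := Finset.univ.filter (fun v : C => ¬ p ∣ orderOf v) with hR
  set d : IrrCharacter G → Fin Cl.n → ℂ := fun χ c => ev (sec x ι χ) (Cl.i c) with hd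
  have hsec : ∀ χ v, v ∈ R → sec x ι χ v = ∑ c, φ c v * d χ c := fun χ v hv =>
    classFun_reg Cl hval (sec_classFun hx χ) (Finset.mem_filter.1 hv).2
  set Mm : Fin Cl.n → Fin Cl.n → ℂ := fun c e => ∑ χ, d χ c * conj (d χ e) with hMm
  set Gr : Fin Cl.n → Fin Cl.n → ℂ := fun e f => ∑ v ∈ R, conj (φ e v) * φ f v with hGr
  have hone : ∀ c f, ∑ e, Mm c e * Gr e f = if c = f then (Nat.card C : ℂ) else 0 := by
    intro c f
    set z : Fin Cl.n → ℂ := fun c' => ∑ e, Mm c' e * Gr e f -
      if c' = f then (Nat.card C : ℂ) else 0 with hz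
    have h0 : ev (∑ c', z c' • φ c') (Cl.i c) = 0 := by
      refine ev_idem_eq_zero hM (Cl.pr c).ring (Cl.pr c).idem
        (classFunction_sum fun c' _ => classFunction_smul _ (hφ c')) fun v hv => ?_
      have hvR : v ∈ R := Finset.mem_filter.2 ⟨Finset.mem_univ _, hv⟩
      have h1 : ∑ c', φ c' v * ∑ e, Mm c' e * Gr e f =
          ∑ w ∈ R, (∑ χ : IrrCharacter G, sec x ι χ v * conj (sec x ι χ w)) * φ f w := by
        have e1 : ∀ w ∈ R, (∑ χ : IrrCharacter G, sec x ι χ v * conj (sec x ι χ w)) * φ f w =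
            ∑ c', ∑ e, φ c' v * (Mm c' e * (conj (φ e w) * φ f w)) := by
          intro w hw
          simp only [hMm]
          rw [Finset.sum_congr rfl fun χ _ => by
            rw [hsec χ v hvR, hsec χ w hw, map_sum, Finset.sum_mul_sum], Finset.sum_comm,
            Finset.sum_mul]
          refine Finset.sum_congr rfl fun c' _ => ?_
          rw [Finset.sum_comm, Finset.sum_mul]
          refine Finset.sum_congr rfl fun e _ => ?_
          simp only [Finset.sum_mul, Finset.mul_sum, map_mul]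
          exact Finset.sum_congr rfl fun χ _ => by ring
        rw [Finset.sum_congr rfl e1, Finset.sum_comm (s := R)]
        refine Finset.sum_congr rfl fun c' _ => ?_
        rw [Finset.sum_comm (s := R), Finset.mul_sum]
        refine Finset.sum_congr rfl fun e _ => ?_
        rw [hGr, Finset.mul_sum, Finset.mul_sum]
      have h2 : ∑ w ∈ R, (∑ χ : IrrCharacter G, sec x ι χ v * conj (sec x ι χ w)) * φ f w =
          (Nat.card C : ℂ) * φ f v := by
        rw [Finset.sum_congr rfl fun w hw => by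
          rw [kernel_eq hinj hrange hj hv (Finset.mem_filter.1 hw).2, Finset.sum_mul]]
        rw [Finset.sum_comm]
        rw [Finset.sum_congr rfl (g := fun _ => φ f v) fun t _ => ?_, Finset.sum_const,
          Finset.card_univ, nsmul_eq_mul, Nat.card_eq_fintype_card]
        rw [Finset.sum_eq_single_of_mem (t * v * t⁻¹) ?_ fun w _ hne => by
          rw [if_neg (Ne.symm hne), zero_mul]]
        · rw [if_pos rfl, one_mul]; exact hφ f _ _
        · refine Finset.mem_filter.2 ⟨Finset.mem_univ _, ?_⟩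
          rwa [← MulAut.conj_apply, MulEquiv.orderOf_eq]
      simp only [Finset.sum_apply, Pi.smul_apply, smul_eq_mul, hz, sub_mul, Finset.sum_sub_distrib,
        ite_mul, zero_mul, Finset.sum_ite_eq', Finset.mem_univ, if_true]
      rw [sub_eq_zero, ← h2, ← h1]
      exact Finset.sum_congr rfl fun c' _ => mul_comm _ _
    rw [ev_sum_fun] at h0
    simp only [hdual, mul_ite, mul_one, mul_zero, Finset.sum_ite_eq', Finset.mem_univ,
      if_true] at h0
    exact sub_eq_zero.1 h0
  have hact : ∀ c v, v ∈ R → φ c (τ v) = ∑ e, φ e v * (cnt e c : ℂ) := fun c v hv => by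
    rw [classFun_reg Cl hval (hcl _ (hφ c)) (Finset.mem_filter.1 hv).2]
    refine Finset.sum_congr rfl fun e _ => ?_
    rw [hcnt e _ (hφ c)]
    simp [hdual]
  have hτR : ∀ v ∈ R, τ v ∈ R := fun v hv =>
    Finset.mem_filter.2 ⟨Finset.mem_univ _, hreg v (Finset.mem_filter.1 hv).2⟩
  calc ∑ v ∈ R, ∑ χ ∈ Finset.univ.filter (· ∈ B), sec x ι χ (τ v) * conj (sec x ι χ v)
      = ∑ c, ∑ e, (∑ χ ∈ Finset.univ.filter (· ∈ B), d χ c * conj (d χ e)) *
          ∑ f, (cnt f c : ℂ) * Gr e f := by
        rw [Finset.sum_congr rfl fun v hv => Finset.sum_congr rfl fun χ _ => by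
          rw [hsec χ (τ v) (hτR v hv), hsec χ v hv, map_sum, Finset.sum_mul_sum,
            Finset.sum_congr rfl fun c _ => Finset.sum_congr rfl fun e _ => by
              rw [hact c v hv, map_mul, Finset.sum_mul, Finset.sum_mul]]]
        simp only [hGr, Finset.mul_sum, Finset.sum_mul]
        rw [Finset.sum_comm (s := R)]
        conv_lhs => arg 2; ext χ; rw [Finset.sum_comm]; arg 2; ext c; rw [Finset.sum_comm]; arg 2; ext e; rw [Finset.sum_comm]
        rw [Finset.sum_comm (s := Finset.univ.filter (· ∈ B))]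
        refine Finset.sum_congr rfl fun c _ => ?_
        rw [Finset.sum_comm (s := Finset.univ.filter (· ∈ B))]
        refine Finset.sum_congr rfl fun e _ => ?_
        rw [Finset.sum_comm (s := Finset.univ.filter (· ∈ B))]
        refine Finset.sum_congr rfl fun f _ => ?_
        rw [Finset.sum_comm]
        exact Finset.sum_congr rfl fun v _ => Finset.sum_congr rfl fun χ _ => by ring
    _ = ∑ c, if ∃ χ ∈ B, d χ c ≠ 0 then (Nat.card C : ℂ) * (cnt c c : ℂ) else 0 := by
        refine Finset.sum_congr rfl fun c _ => ?_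
        split_ifs with hc
        · obtain ⟨ψ, hψ, hψc⟩ := hc
          have hM' : ∀ e, ∑ χ ∈ Finset.univ.filter (· ∈ B), d χ c * conj (d χ e) = Mm c e := by
            intro e
            refine Finset.sum_subset (Finset.subset_univ _) fun χ _ hχ => ?_
            by_cases h0 : d χ c = 0
            · rw [h0, zero_mul]
            · exact absurd (Finset.mem_filter.2 ⟨Finset.mem_univ _, hU c χ ψ h0 hψc hψ⟩) hχ
          simp only [hM', Finset.mul_sum]
          rw [Finset.sum_comm, Finset.sum_congr rfl fun f _ => by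
            rw [Finset.sum_congr rfl (g := fun e => (cnt f c : ℂ) * (Mm c e * Gr e f))
              fun e _ => by ring, ← Finset.mul_sum, hone]]
          simp [mul_comm]
        · push Not at hc
          refine Finset.sum_eq_zero fun e _ => ?_
          rw [Finset.sum_eq_zero (fun χ hχ => by
            rw [hc χ (Finset.mem_filter.1 hχ).2, zero_mul]), zero_mul]
    _ = _ := by
        rw [Nat.cast_sum, Finset.mul_sum, Finset.sum_filter]

/-- The idempotent lies in a block. -/
theorem exists_block [Fact p.Prime] (hM : IsPModular p M) {i : MonoidAlgebra ℂ C} (hi : Pr M i)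
    {f : C → ℂ} (hf : IsClassFunction C f) (h : ev f i ≠ 0) :
    ∃ b : Set (IrrCharacter C), IsPBlock M b ∧ bz b * i = i := by
  classical
  by_contra hn
  push Not at hn
  refine h ?_
  rw [classFunction_expansion hf, ev_sum_fun]
  refine Finset.sum_eq_zero fun ξ _ => ?_
  have hb : IsPBlock M (blockOf M (ξ : C → ℂ)) := ⟨ξ, rfl⟩
  have h0 := (bz_dichotomy hM hb hi).resolve_left (hn _ hb)
  rw [← ev_block (B := blockOf M (ξ : C → ℂ)) (mem_blockOf_self hM ξ) i]
  change classInner f _ * ev _ (bz _ * i) = 0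
  rw [h0, ev_zero, mul_zero]

/-- An idempotent meets the characters of one block of the group on the section. -/
theorem unique_block [Fact p.Prime] (hM : IsPModular p M) {x : G} (hx : ∃ k : ℕ, orderOf x = p ^ k)
    {B : Set (IrrCharacter G)} (hB : IsPBlock M B)
    [Fintype (Subgroup.centralizer ({x} : Set G))]
    {i : MonoidAlgebra ℂ (Subgroup.centralizer ({x} : Set G))} (hi : Pr M i)
    (χ ψ : IrrCharacter G)
    (hχ : ev (sec x (Subgroup.centralizer ({x} : Set G)).subtype χ) i ≠ 0)
    (hψ : ev (sec x (Subgroup.centralizer ({x} : Set G)).subtype ψ) i ≠ 0) (hψB : ψ ∈ B) :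
    χ ∈ B := by
  classical
  obtain ⟨b, hb, hbi⟩ := exists_block hM hi (sectionFun_classFun χ x) hχ
  have key : ∀ (η : IrrCharacter G), ev (sec x (Subgroup.centralizer ({x} : Set G)).subtype η) i ≠ 0 →
      IsInducedBlock M _ b (blockOf M (η : G → ℂ)) := by
    intro η hη
    by_contra hnot
    refine hη ?_
    have hf : IsClassFunction (Subgroup.centralizer ({x} : Set G))
        (sec x (Subgroup.centralizer ({x} : Set G)).subtype η) := sectionFun_classFun η x
    set f := sec x (Subgroup.centralizer ({x} : Set G)).subtype η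
    have hev : ev f i = ev (∑ ξ ∈ Finset.univ.filter (· ∈ b), classInner f (ξ : _ → ℂ) • (ξ : _ → ℂ)) i := by
      rw [ev_sum_fun]
      conv_lhs => rw [← hbi, classFunction_expansion hf, ev_sum_fun]
      rw [Finset.sum_filter]
      exact Finset.sum_congr rfl fun ξ _ => by rw [ev_bz, mul_ite, mul_zero]
    rw [hev]
    refine ev_idem_eq_zero hM hi.ring hi.idem
      (classFunction_sum fun ξ _ => classFunction_smul _ (irr_classFun ξ)) fun y hy => ?_
    have h2 := second_main hM hx (isPBlock_blockOf (M := M) η) (mem_blockOf_self hM η) hb hnot hy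
    rw [← h2, blockPart, finsum_mem_block, Finset.sum_apply]
    refine Finset.sum_congr rfl fun ξ _ => ?_
    rw [Pi.smul_apply, smul_eq_mul]
    congr 1
    unfold classInner
    congr!
  obtain ⟨_, _, hc⟩ := key χ hχ
  obtain ⟨_, _, hc'⟩ := key ψ hψ
  obtain ⟨ξ, hξ⟩ := pblock_nonempty hM hb
  rw [pblock_eq_blockOf hM hB hψB]
  refine fun g => ?_
  have h1 := hc ξ hξ χ (mem_blockOf_self hM χ) g
  have h2 := hc' ξ hξ ψ (mem_blockOf_self hM ψ) g
  have h3 := ideal_sub hM h1 h2
  rwa [sub_sub_sub_cancel_left] at h3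

end Cfsg.Agent.Char.SectionTrace
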