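import Cfsg.Agent.Lib.Char.SemiBlockCount

/-!
The centralizer of the central involution of a semidihedral defect group: the number of characters,
and the parts of the sections inside it read through the multiplicities of the restrictions.
-/

open scoped ComplexConjugate

namespace Cfsg.Agent.Char.SemiBlk

open Cfsg Cfsg.Agent.Block Cfsg.Agent.Char Cfsg.Agent.Char.BP Cfsg.Agent.Char.Spec
open Cfsg.Agent.Char.QuatBlk (E_one dn_cjI)

set_option linter.unusedSectionVars false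
set_option linter.style.haveILetI false
set_option maxHeartbeats 800000

universe u

variable {G : Type u} [Group G] [Fintype G] {M : Ideal AlgInt} {B : Set (IrrCharacter G)}

theorem cg_dn {H : Subgroup G} [Fintype H] {a : BrauerPairIdx G} (h1 : a.1 ≤ H) (h2 : CG a.1 ≤ H)
    (v : H) : v ∈ CG (dn H a h1 h2).1 ↔ (v : G) ∈ CG a.1 := by
  rw [dn_fst]
  simp only [Subgroup.mem_centralizer_iff]
  constructor
  · intro h g hg
    exact congrArg Subtype.val (h ⟨g, h1 hg⟩ (Subgroup.mem_subgroupOf.2 hg))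
  · intro h g hg
    exact Subtype.ext (h (g : G) (Subgroup.mem_subgroupOf.1 hg))

theorem card_cg_dn {H : Subgroup G} [Fintype H] {a : BrauerPairIdx G} (h1 : a.1 ≤ H)
    (h2 : CG a.1 ≤ H) : Nat.card (CG (dn H a h1 h2).1) = Nat.card (CG a.1) := by
  refine Nat.card_congr
    { toFun := fun v => ⟨((v : H) : G), (cg_dn h1 h2 v.1).1 v.2⟩
      invFun := fun v => ⟨⟨(v : G), h2 v.2⟩, (cg_dn h1 h2 _).2 v.2⟩
      left_inv := fun v => rfl
      right_inv := fun v => rfl }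

/-- A part read in an overgroup of the centralizer, through the restrictions. -/
theorem E_dn {p : ℕ} [Fact p.Prime] (hM : IsPModular p M) {H : Subgroup G} [Fintype H]
    {bH : Set (IrrCharacter H)} [DecidablePred (· ∈ bH)] {a : BrauerPairIdx G} (h1 : a.1 ≤ H)
    (h2 : CG a.1 ≤ H) (hof : OfB p M bH (dn H a h1 h2)) {x : H} (hx : ∃ k, orderOf x = p ^ k)
    (hax : a.1 = Subgroup.zpowers (x : G)) (χ η : IrrCharacter G) :
    SecRep.E p ((x : G), a) χ η =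
      ∑ ξ ∈ Finset.univ.filter (· ∈ bH), ∑ ξ' ∈ Finset.univ.filter (· ∈ bH),
        (Glaub.mult H (χ : G → ℂ) (ξ : H → ℂ) : ℂ) * (Glaub.mult H (η : G → ℂ) (ξ' : H → ℂ) : ℂ) *
          SecRep.E p (x, dn H a h1 h2) ξ ξ' := by
  classical
  set a' := dn H a h1 h2 with ha'
  have hax' : a'.1 = Subgroup.zpowers x := by
    rw [ha', dn_fst, hax]
    ext w
    rw [Subgroup.mem_subgroupOf]
    constructor
    · rintro ⟨k, hk⟩; exact ⟨k, Subtype.ext (by simpa using hk)⟩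
    · rintro ⟨k, rfl⟩; exact ⟨k, by simp⟩
  have hregs : regs p a.1 = (regs p a'.1).map ⟨Subtype.val, Subtype.val_injective⟩ := by
    ext v
    simp only [Finset.mem_map, mem_regs, Function.Embedding.coeFn_mk]
    constructor
    · rintro ⟨hv, ho⟩
      exact ⟨⟨v, h2 hv⟩, ⟨(cg_dn h1 h2 _).2 hv, by rwa [← Subgroup.orderOf_coe]⟩, rfl⟩
    · rintro ⟨w, ⟨hw, ho⟩, rfl⟩
      exact ⟨(cg_dn h1 h2 _).1 hw, by rwa [Subgroup.orderOf_coe]⟩
  have hsct : ∀ φ : IrrCharacter G, ∀ v ∈ regs p a'.1, sct (φ : G → ℂ) a (x : G) (v : G) =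
      ∑ ξ ∈ Finset.univ.filter (· ∈ bH),
        (Glaub.mult H (φ : G → ℂ) (ξ : H → ℂ) : ℂ) * sct (ξ : H → ℂ) a' x v := by
    intro φ v hv
    have e1 : sct (φ : G → ℂ) a (x : G) (v : G) =
        ∑ k : H, be a' k * (φ : G → ℂ) ((x * k * v : H) : G) := by
      rw [sct, ← Finset.sum_subset (Finset.subset_univ (Finset.univ.filter (· ∈ H)))
        fun k _ hk => by
          rw [show be a k = 0 from bc_supp _ _ _ fun h => hk (by simpa using h2 h), zero_mul],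
        Finset.sum_subtype (p := fun k => k ∈ H) _ (fun k => by simp)]
      refine Finset.sum_congr rfl fun k _ => ?_
      rw [ha', be_dn]
      rfl
    rw [e1]
    simp only [Glaub.res_expansion H (irr_isChar φ), Finset.mul_sum]
    rw [Finset.sum_comm, Finset.sum_filter]
    refine Finset.sum_congr rfl fun ξ _ => ?_
    have e2 : ∑ k : H, be a' k * ((Glaub.mult H (φ : G → ℂ) (ξ : H → ℂ) : ℂ) *
        (ξ : H → ℂ) (x * k * v)) =
        (Glaub.mult H (φ : G → ℂ) (ξ : H → ℂ) : ℂ) * sct (ξ : H → ℂ) a' x v := by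
      rw [sct, Finset.mul_sum]
      exact Finset.sum_congr rfl fun k _ => by ring
    rw [e2]
    by_cases hξ : ξ ∈ bH
    · rw [if_pos hξ]
    · have hnot : ¬ OfB p M (blockOf M (ξ : H → ℂ)) a' := fun h =>
        hξ (by rw [ofB_unique hM hof h]; exact mem_blockOf_self hM ξ)
      rw [if_neg hξ, sct_eq_zero hM (mem_blockOf_self hM ξ) (isPBlock_blockOf ξ) hof.1 hx hax'
        hnot (mem_regs.1 hv).1 (mem_regs.1 hv).2, mul_zero]
  simp only [SecRep.E]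
  rw [← card_cg_dn h1 h2, ← ha']
  simp only [← mul_div_assoc, ← Finset.sum_div]
  congr 1
  simp only [secT, Finset.mul_sum]
  rw [hregs, Finset.sum_map]
  simp only [Function.Embedding.coeFn_mk]
  rw [Finset.sum_congr rfl fun v hv => by rw [hsct χ v hv, hsct η v hv, map_sum,
      Finset.sum_mul_sum], Finset.sum_comm]
  refine Finset.sum_congr rfl fun ξ _ => ?_
  rw [Finset.sum_comm]
  refine Finset.sum_congr rfl fun ξ' _ => Finset.sum_congr rfl fun v _ => ?_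
  rw [map_mul, Complex.conj_natCast]
  ring

variable {P : Subgroup G} {e : Set (IrrCharacter (CG P))} {r s : G} {t : ℕ}

namespace Setup

variable (S : Setup M B P e r s t)
include S

/-- The equipment in the centralizer of the involution. -/
theorem exists_local : ∃ (hr : r ∈ CG (S.bel (r ^ 2 ^ t)).1) (hs : s ∈ CG (S.bel (r ^ 2 ^ t)).1)
    (e' : Set (IrrCharacter (CG (P.subgroupOf (CG (S.bel (r ^ 2 ^ t)).1)))))
    (S' : Setup M (S.bel (r ^ 2 ^ t)).2 (P.subgroupOf (CG (S.bel (r ^ 2 ^ t)).1)) e'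
      ⟨r, hr⟩ ⟨s, hs⟩ t),
    (∀ g : CG (S.bel (r ^ 2 ^ t)).1,
      g * (⟨r, hr⟩ : CG (S.bel (r ^ 2 ^ t)).1) ^ 2 ^ t =
        (⟨r, hr⟩ : CG (S.bel (r ^ 2 ^ t)).1) ^ 2 ^ t * g) ∧
    ∀ [Fintype (CG (S.bel (r ^ 2 ^ t)).1)] (x : CG (S.bel (r ^ 2 ^ t)).1), (x : G) ∈ P →
      r ^ 2 ^ t ∈ Subgroup.zpowers (x : G) →
      ∃ (h1 : (S.bel (x : G)).1 ≤ CG (S.bel (r ^ 2 ^ t)).1)
        (h2 : CG (S.bel (x : G)).1 ≤ CG (S.bel (r ^ 2 ^ t)).1),
        dn (CG (S.bel (r ^ 2 ^ t)).1) (S.bel (x : G)) h1 h2 = S'.bel x := by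
  classical
  set z := r ^ 2 ^ t with hz
  have hzP := S.sd.pow_mem' (2 ^ t)
  set a := S.bel z with ha
  have ha1 : a.1 = Subgroup.zpowers z := S.bel_fst hzP
  set C := CG a.1 with hC
  letI := Fintype.ofFinite C
  have hmemC : ∀ {g : G}, g ∈ C ↔ g * z = z * g := fun {g} => by
    rw [hC, ha1, cg_zpowers, Subgroup.mem_centralizer_singleton_iff]
  have hPC : P ≤ C := fun w hw => hmemC.2 (S.sd.z_central hw)
  have hale : LE 2 M a (⟨P, e⟩ : BrauerPairIdx G) := S.bel_le hzP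
  have hCP : CG P ≤ C := Subgroup.centralizer_le (le_subgroup hale)
  obtain ⟨x, hx, hst, hxx⟩ := step_below S.hM S.isPr hale (le_subgroup hale) le_rfl
    (hPC.trans (cg_le_normalizer a.1))
  obtain rfl : x = (⟨P, e⟩ : BrauerPairIdx G) := eq_of_le_of_subgroup S.hM hxx hx.ge
  set y := dn C (⟨P, e⟩ : BrauerPairIdx G) hPC hCP with hy
  have hyB : OfB 2 M a.2 y := by
    refine ofB_of_holds (le_isPr hale S.isPr).2 (isPr_dn S.hM S.isPr hPC hCP) ?_
    rw [← bc_res C a.2]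
    exact (holds_dn (⟨P, e⟩ : BrauerPairIdx G) hPC hCP _).2 ((step_iff S.hM).1 hst).2.2.2.2.2
  have hD : IsDefectGroup 2 M a.2 (P.subgroupOf C) := by
    have h := isDefect_inf_of_card S.hM S.isPr hale ?_
    · rwa [show (⟨P, e⟩ : BrauerPairIdx G).1 ⊓ CG a.1 = P from inf_eq_left.2 hPC] at h
    · rw [show (⟨P, e⟩ : BrauerPairIdx G).1 ⊓ CG a.1 = P from inf_eq_left.2 hPC, S.sd.card,
        S.defect_major hzP fun w hw => S.sd.z_central hw]
  set r' : C := ⟨r, hPC S.sd.mem⟩ with hr'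
  have hmemr : ∀ {w : C}, w ∈ Subgroup.zpowers r' ↔ (w : G) ∈ Subgroup.zpowers r := by
    intro w
    constructor
    · rintro ⟨k, rfl⟩; exact ⟨k, by simp [hr']⟩
    · rintro ⟨k, hk⟩; exact ⟨k, Subtype.ext (by simpa [hr'] using hk)⟩
  have hsd : Sd (P.subgroupOf C) r' (⟨s, hPC S.sd.smem⟩ : C) t := by
    refine ⟨S.sd.pos, ?_, Subgroup.mem_subgroupOf.2 S.sd.mem, ?_,
      Subgroup.mem_subgroupOf.2 S.sd.smem, fun hc => S.sd.s_not (hmemr.1 hc),
      Subtype.ext S.sd.s_sq, fun w hw hwr => ?_⟩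
    · rw [hr', Subgroup.orderOf_mk, S.sd.order]
    · rw [Nat.card_congr (Subgroup.subgroupOfEquivOfLe hPC).toEquiv, S.sd.card]
    · exact Subtype.ext (by
        simpa [hr'] using S.sd.conj' _ (Subgroup.mem_subgroupOf.1 hw) fun hc => hwr (hmemr.2 hc))
  refine ⟨hPC S.sd.mem, hPC S.sd.smem, y.2, ⟨S.hM, max_of_defect S.hM hyB hD, hsd⟩,
    fun g => Subtype.ext ?_, fun {_} x hx hzx => ?_⟩
  swap
  · have h2 : CG (S.bel (x : G)).1 ≤ C := by
      refine Subgroup.centralizer_le ?_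
      refine SetLike.coe_subset_coe.2 (ha1.le.trans ?_)
      rw [S.bel_fst hx]
      exact Subgroup.zpowers_le.2 hzx
    refine ⟨(le_subgroup (S.bel_le hx)).trans hPC, h2, Setup.bel_unique _ ?_
      (le_dn S.hM (S.bel_le hx) h2 hPC)⟩
    rw [dn_fst, S.bel_fst hx]
    ext w
    rw [Subgroup.mem_subgroupOf]
    constructor
    · rintro ⟨k, hk⟩; exact ⟨k, Subtype.ext (by simpa using hk)⟩
    · rintro ⟨k, rfl⟩; exact ⟨k, by simp⟩
  show (g : G) * ((r' ^ 2 ^ t : C) : G) = ((r' ^ 2 ^ t : C) : G) * (g : G)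
  rw [show ((r' ^ 2 ^ t : C) : G) = z by simp [hr', hz]]
  exact hmemC.1 g.2

open scoped Classical in
/-- The number of classes outside the rotations. -/
theorem uset_card : S.uset.card = (if S.Fus s (r ^ 2 ^ t) then 0 else 1) +
    if S.Fus (r * s) (r ^ 2 ^ (t - 1)) then 0 else 1 := by
  classical
  have hne : r * s ≠ s := fun e => S.sd.z_ne_one (by rw [← S.sd.rs_sq, e, S.sd.s_sq])
  rw [uset, Finset.card_filter, Finset.sum_pair (Ne.symm hne)]
  congr 1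
  · by_cases h : S.Fus s (r ^ 2 ^ t) <;> simp [h]
  · by_cases h : S.Fus (r * s) (r ^ 2 ^ (t - 1)) <;> simp [h, hne]

/-- The number of characters. -/
theorem k_formula : blockRank 2 (S.bel (r ^ 2 ^ t)).2 ≤ 2 ∧
    ∃ a ≤ 1, Nat.card B = blockRank 2 B + 2 ^ t + 1 + a := by
  classical
  obtain ⟨hr, hs, e', S', hzc, hbel⟩ := S.exists_local
  letI := Fintype.ofFinite (CG (S.bel (r ^ 2 ^ t)).1)
  obtain ⟨h1, -⟩ := S'.central_count hzc
  have h2 := S'.quotient_count hzc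
  have hk := S.card_eq
  have hU := S.uset_card
  have hU' := S'.uset_card
  have hns : ¬ S'.Fus (⟨s, hs⟩ : CG (S.bel (r ^ 2 ^ t)).1)
      ((⟨r, hr⟩ : CG (S.bel (r ^ 2 ^ t)).1) ^ 2 ^ t) :=
    (S'.uset_mem (S'.s_mem_uset hzc)).2.2.1
  have hiff : S'.Fus ((⟨r, hr⟩ : CG (S.bel (r ^ 2 ^ t)).1) * ⟨s, hs⟩)
      ((⟨r, hr⟩ : CG (S.bel (r ^ 2 ^ t)).1) ^ 2 ^ (t - 1)) ↔
      S.Fus (r * s) (r ^ 2 ^ (t - 1)) := by
    set u : CG (S.bel (r ^ 2 ^ t)).1 := ⟨r, hr⟩ * ⟨s, hs⟩ with hu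
    set q : CG (S.bel (r ^ 2 ^ t)).1 := ⟨r, hr⟩ ^ 2 ^ (t - 1) with hq
    have hq' : (q : G) = r ^ 2 ^ (t - 1) := by simp [hq]
    have hu' : (u : G) = r * s := by simp [hu]
    obtain ⟨a1, a2, ea⟩ := hbel u (hu' ▸ S.sd.rs_mem)
      (by rw [hu', ← S.sd.rs_sq]; exact mul_mem (Subgroup.mem_zpowers _) (Subgroup.mem_zpowers _))
    obtain ⟨b1, b2, eb⟩ := hbel q (hq' ▸ S.sd.pow_mem' _)
      (by rw [hq', ← S.sd.q_sq]; exact mul_mem (Subgroup.mem_zpowers _) (Subgroup.mem_zpowers _))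
    constructor
    · rintro ⟨c, hc, he⟩
      rw [← ea, ← eb] at he
      refine ⟨(c : G), by rw [← hu', ← hq', ← hc]; rfl, ?_⟩
      rw [← hu', ← hq']
      exact (dn_conj_eq S.hM a1 a2 b1 b2 he.symm).symm
    · rintro ⟨g, hg, he⟩
      have hgC : g ∈ CG (S.bel (r ^ 2 ^ t)).1 := by
        rw [S.bel_fst (S.sd.pow_mem' _), cg_zpowers, Subgroup.mem_centralizer_singleton_iff]
        refine mul_inv_eq_iff_eq_mul.1 ?_
        calc g * r ^ 2 ^ t * g⁻¹ = g * (r * s) * g⁻¹ * (g * (r * s) * g⁻¹) := by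
              rw [← S.sd.rs_sq]; group
          _ = r ^ 2 ^ t := by rw [hg, S.sd.q_sq]
      rw [← hu', ← hq'] at he
      refine ⟨⟨g, hgC⟩, Subtype.ext (by rw [hq', ← hg, ← hu']; rfl), ?_⟩
      rw [← ea, ← eb, ← dn_cjI ⟨g, hgC⟩ _ a1 a2 (he ▸ b1) (he ▸ b2)]
      congr 1
  simp only [hns, hiff, if_false] at hU'
  rw [hU'] at h1
  rw [hU] at hk
  have ht2 : 2 ^ t = 2 * 2 ^ (t - 1) := by
    rw [← pow_succ', Nat.sub_add_cancel (by have := S.sd.pos; omega)]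
  have := Nat.two_pow_pos (t - 1)
  refine ⟨?_, ?_⟩
  · split_ifs at h1 <;> omega
  · by_cases hA : S.Fus s (r ^ 2 ^ t)
    · refine ⟨0, by omega, ?_⟩
      rw [if_pos hA] at hk
      split_ifs at h1 hk <;> omega
    · refine ⟨1, le_rfl, ?_⟩
      rw [if_neg hA] at hk
      split_ifs at h1 hk <;> omega

section Local

variable {hr : r ∈ CG (S.bel (r ^ 2 ^ t)).1} {hs : s ∈ CG (S.bel (r ^ 2 ^ t)).1}
  {e' : Set (IrrCharacter (CG (P.subgroupOf (CG (S.bel (r ^ 2 ^ t)).1))))}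
  [Fintype (CG (S.bel (r ^ 2 ^ t)).1)] [DecidablePred (· ∈ (S.bel (r ^ 2 ^ t)).2)]
  (S' : Setup M (S.bel (r ^ 2 ^ t)).2 (P.subgroupOf (CG (S.bel (r ^ 2 ^ t)).1)) e'
    ⟨r, hr⟩ ⟨s, hs⟩ t)
  (hbel : ∀ (x : CG (S.bel (r ^ 2 ^ t)).1), (x : G) ∈ P → r ^ 2 ^ t ∈ Subgroup.zpowers (x : G) →
      ∃ (h1 : (S.bel (x : G)).1 ≤ CG (S.bel (r ^ 2 ^ t)).1)
        (h2 : CG (S.bel (x : G)).1 ≤ CG (S.bel (r ^ 2 ^ t)).1),
        dn (CG (S.bel (r ^ 2 ^ t)).1) (S.bel (x : G)) h1 h2 = S'.bel x)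
include hbel

/-- A part inside the centralizer, through the restrictions. -/
theorem E_local {x : CG (S.bel (r ^ 2 ^ t)).1} (hx : (x : G) ∈ P)
    (hzx : r ^ 2 ^ t ∈ Subgroup.zpowers (x : G)) (χ η : IrrCharacter G) :
    SecRep.E 2 ((x : G), S.bel (x : G)) χ η =
      ∑ ξ ∈ Finset.univ.filter (· ∈ (S.bel (r ^ 2 ^ t)).2),
        ∑ ξ' ∈ Finset.univ.filter (· ∈ (S.bel (r ^ 2 ^ t)).2),
          (Glaub.mult _ (χ : G → ℂ) (ξ : CG (S.bel (r ^ 2 ^ t)).1 → ℂ) : ℂ) *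
          (Glaub.mult _ (η : G → ℂ) (ξ' : CG (S.bel (r ^ 2 ^ t)).1 → ℂ) : ℂ) *
            SecRep.E 2 (x, S'.bel x) ξ ξ' := by
  have hx' : x ∈ P.subgroupOf (CG (S.bel (r ^ 2 ^ t)).1) := Subgroup.mem_subgroupOf.2 hx
  obtain ⟨h1, h2, he⟩ := hbel x hx hzx
  have h := E_dn S.hM h1 h2 (bH := (S.bel (r ^ 2 ^ t)).2) (he ▸ S'.bel_ofB hx')
    (S'.ppow_mem hx') (S.bel_fst hx) χ η
  rw [he] at h
  exact h

end Local

end Setup

end Cfsg.Agent.Char.SemiBlk
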