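import Cfsg.Agent.Lib.Char.SemiBlockTwist
import Cfsg.Agent.Lib.Char.QuatBlockCount
import Cfsg.Agent.Lib.Char.DihBlockMain

/-!
The number of characters of a 2-block with semidihedral defect group, through the blocks of the
centralizer of the involution and of its quotient; the sections inside that centralizer.
-/

open scoped ComplexConjugate

namespace Cfsg.Agent.Char.SemiBlk

open Cfsg Cfsg.Agent.Block Cfsg.Agent.Char Cfsg.Agent.Char.BP Cfsg.Agent.Char.Spec
open Cfsg.Agent.Char.QuotDefect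
open Cfsg.Agent.Char.QuatBlk (E_one dn_cjI)

set_option linter.unusedSectionVars false
set_option linter.style.haveILetI false
set_option maxHeartbeats 800000

universe u

variable {G : Type u} [Group G] [Fintype G] {M : Ideal AlgInt} {B : Set (IrrCharacter G)}
variable {P : Subgroup G} {e : Set (IrrCharacter (CG P))} {r s : G} {t : ℕ}

namespace Setup

section Below

variable (S : Setup M B P e r s t)
include S

/-- Elements with one centralizer have one block below. -/
theorem be_bel_eq {x y : G} (hx : x ∈ P) (hy : y ∈ P) (hxy : x * y = y * x)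
    (hc : CG (S.bel x).1 = CG (S.bel y).1) : be (S.bel x) = be (S.bel y) := by
  set Q := Subgroup.zpowers x ⊔ Subgroup.zpowers y with hQ
  have hQP : Q ≤ P := sup_le (Subgroup.zpowers_le.2 hx) (Subgroup.zpowers_le.2 hy)
  obtain ⟨h1, h2⟩ := Wat.bl_spec (x := (⟨P, e⟩ : BrauerPairIdx G)) (Q := Q) S.hM S.isPr hQP
  set w := Wat.bl 2 M (⟨P, e⟩ : BrauerPairIdx G) Q
  have hwp : IsPr 2 M w := le_isPr h2 S.isPr
  have hcomm : ∀ v ∈ Q, v * x = x * v ∧ v * y = y * v := by
    have hle : Q ≤ Subgroup.centralizer ({x, y} : Set G) := by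
      refine sup_le (Subgroup.zpowers_le.2 ?_) (Subgroup.zpowers_le.2 ?_) <;>
        refine Subgroup.mem_centralizer_iff.2 fun v hv => ?_ <;>
        rcases hv with rfl | rfl
      · rfl
      · exact hxy.symm
      · exact hxy
      · rfl
    intro v hv
    have h := Subgroup.mem_centralizer_iff.1 (hle hv)
    exact ⟨(h x (Or.inl rfl)).symm, (h y (Or.inr rfl)).symm⟩
  have hab : ∀ v ∈ w.1, ∀ v' ∈ w.1, v * v' = v' * v := by
    intro v hv v' hv'
    rw [h1] at hv hv'
    have hle : Q ≤ Subgroup.centralizer ({v} : Set G) := by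
      refine sup_le (Subgroup.zpowers_le.2 ?_) (Subgroup.zpowers_le.2 ?_) <;>
        rw [Subgroup.mem_centralizer_singleton_iff]
      · exact (hcomm v hv).1.symm
      · exact (hcomm v hv).2.symm
    exact (Subgroup.mem_centralizer_singleton_iff.1 (hle hv')).symm
  have hbelow : ∀ {u : G}, u ∈ Q → LE 2 M (S.bel u) w := fun {u} hu => by
    obtain ⟨a, ha1, ha2⟩ := exists_le S.hM hwp (Q := Subgroup.zpowers u)
      (Subgroup.zpowers_le.2 (h1.symm ▸ hu))
    rwa [← S.bel_unique ha1 (ha2.trans h2)]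
  have hxQ : x ∈ Q := (le_sup_left : Subgroup.zpowers x ≤ Q) (Subgroup.mem_zpowers x)
  have hyQ : y ∈ Q := (le_sup_right : Subgroup.zpowers y ≤ Q) (Subgroup.mem_zpowers y)
  obtain ⟨-, k2, -, -, k5, k6⟩ := (step_iff S.hM).1
    (Wat.step_of_le S.hM hwp hab (hbelow hxQ))
  obtain ⟨f, hf, hbe, -⟩ := Wat.exists_same_cg (p := 2) (S.bel x).2
    (le_isPr (hbelow hxQ) hwp).2 hc
  have hst : Step 2 M (⟨(S.bel y).1, f⟩ : BrauerPairIdx G) w := by
    refine (step_iff S.hM).2 ⟨⟨(le_isPr (hbelow hyQ) hwp).1, hf⟩, k2,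
      (show (S.bel y).1 ≤ w.1 from le_subgroup (hbelow hyQ)),
      ?_, ?_, ?_⟩
    · refine le_trans (fun v hv => ?_) (cg_le_normalizer (S.bel y).1)
      exact Subgroup.mem_centralizer_iff.2 fun v' hv' => hab v' (le_subgroup (hbelow hyQ) hv') v hv
    · show Inv w.1 (bc (CG (S.bel y).1) f)
      rw [hbe]; exact k5
    · show Holds M w (bc (CG (S.bel y).1) f)
      rw [hbe]; exact k6
  have he : (⟨(S.bel y).1, f⟩ : BrauerPairIdx G) = S.bel y :=
    S.bel_unique (S.bel_fst hy) ((Relation.ReflTransGen.single hst).trans h2)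
  exact hbe.symm.trans (congrArg (fun c : BrauerPairIdx G => be c) he)

end Below

section Central

variable (S : Setup M B P e r s t) (hzc : ∀ g : G, g * r ^ 2 ^ t = r ^ 2 ^ t * g)
include S hzc

theorem val_z (χ : IrrCharacter G) (v : G) : (χ : G → ℂ) (r ^ 2 ^ t * v) =
    centralChar (χ : G → ℂ) (r ^ 2 ^ t) * (χ : G → ℂ) v :=
  centralChar_of_center (Subgroup.mem_center_iff.2 hzc) v

theorem omega_sq (χ : IrrCharacter G) :
    centralChar (χ : G → ℂ) (r ^ 2 ^ t) * centralChar (χ : G → ℂ) (r ^ 2 ^ t) = 1 := by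
  refine mul_right_cancel₀ (irr_one_ne_zero χ) ?_
  rw [mul_assoc, ← S.val_z hzc χ 1, ← S.val_z hzc χ (r ^ 2 ^ t * 1), ← mul_assoc, S.sd.z_mul_self,
    one_mul, one_mul]

theorem sct_mul_z (χ : IrrCharacter G) (a : BrauerPairIdx G) (x v : G) :
    sct (χ : G → ℂ) a (x * r ^ 2 ^ t) v =
      centralChar (χ : G → ℂ) (r ^ 2 ^ t) * sct (χ : G → ℂ) a x v := by
  simp only [sct, Finset.mul_sum]
  refine Finset.sum_congr rfl fun k _ => ?_
  rw [show x * r ^ 2 ^ t * k * v = r ^ 2 ^ t * (x * k * v) by rw [hzc x]; group, S.val_z hzc]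
  ring

theorem pairsAt_central {x : G} (hx : x = 1 ∨ x = r ^ 2 ^ t) :
    pairsAt 2 M B x = {S.bel x} := by
  have hxP : x ∈ P := by
    rcases hx with rfl | rfl
    · exact one_mem _
    · exact S.sd.pow_mem' _
  have hc : ∀ g : G, g * x = x * g := by
    rcases hx with rfl | rfl
    · intro g; simp
    · exact hzc
  refine Finset.eq_singleton_iff_unique_mem.2
    ⟨mem_pairsAt.2 ⟨S.bel_fst hxP, S.bel_ofB hxP⟩, fun a ha => ?_⟩
  obtain ⟨h1, h2⟩ := mem_pairsAt.1 ha
  obtain ⟨g, hg⟩ := le_conj_max S.hM h2 S.max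
  have hga : cjI g a = a := by
    refine cjI_of_mem_cg ?_
    rw [h1, cg_zpowers, Subgroup.mem_centralizer_singleton_iff]
    exact hc g
  rw [hga] at hg
  exact S.bel_unique h1 hg

theorem sct_z {χ : IrrCharacter G} (hχ : χ ∈ B) {v : G} (hv : ¬ 2 ∣ orderOf v) :
    sct (χ : G → ℂ) (S.bel (r ^ 2 ^ t)) (r ^ 2 ^ t) v =
      centralChar (χ : G → ℂ) (r ^ 2 ^ t) * sct (χ : G → ℂ) (S.bel 1) 1 v := by
  have hcz : v ∈ CG (Subgroup.zpowers (r ^ 2 ^ t)) := by
    rw [cg_zpowers, Subgroup.mem_centralizer_singleton_iff]; exact hzc v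
  have hc1 : v ∈ CG (Subgroup.zpowers (1 : G)) := by
    rw [cg_zpowers, Subgroup.mem_centralizer_singleton_iff]; simp
  have h1 := DihBlk.value_eq_pairs S.hM S.isBlock hχ (S.ppow_mem (one_mem _)) hc1 hv
  have h2 := DihBlk.value_eq_pairs S.hM S.isBlock hχ (S.ppow_mem (S.sd.pow_mem' _)) hcz hv
  rw [S.pairsAt_central hzc (Or.inl rfl), Finset.sum_singleton, one_mul] at h1
  rw [S.pairsAt_central hzc (Or.inr rfl), Finset.sum_singleton, S.val_z hzc, h1] at h2
  exact h2.symm

theorem cg_bel_central {x : G} (hx : x ∈ P) (hc : ∀ g : G, g * x = x * g) :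
    CG (S.bel x).1 = ⊤ := by
  rw [S.bel_fst hx, cg_zpowers, eq_top_iff]
  exact fun g _ => Subgroup.mem_centralizer_singleton_iff.2 (hc g)

theorem regs_central {x : G} (hx : x ∈ P) (hc : ∀ g : G, g * x = x * g) {v : G} :
    v ∈ regs 2 (S.bel x).1 ↔ ¬ 2 ∣ orderOf v := by
  rw [mem_regs, S.cg_bel_central hzc hx hc]
  simp

theorem E_z_eq {χ η : IrrCharacter G} (hχ : χ ∈ B) (hη : η ∈ B) :
    SecRep.E 2 (r ^ 2 ^ t, S.bel (r ^ 2 ^ t)) χ η =
      centralChar (χ : G → ℂ) (r ^ 2 ^ t) * conj (centralChar (η : G → ℂ) (r ^ 2 ^ t)) *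
        SecRep.E 2 (1, S.bel 1) χ η := by
  have hzP := S.sd.pow_mem' (2 ^ t)
  have h1c : ∀ g : G, g * 1 = 1 * g := fun g => by simp
  simp only [SecRep.E]
  rw [S.cg_bel_central hzc hzP hzc, S.cg_bel_central hzc (one_mem _) h1c, ← mul_div_assoc]
  congr 1
  simp only [secT, Finset.mul_sum]
  refine Finset.sum_congr ?_ fun v hv => ?_
  · ext v
    rw [S.regs_central hzc hzP hzc, S.regs_central hzc (one_mem _) h1c]
  · have hv' := (S.regs_central hzc (one_mem _) h1c).1 hv
    rw [S.sct_z hzc hχ hv', S.sct_z hzc hη hv', map_mul]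
    ring

theorem omega_real (χ : IrrCharacter G) :
    conj (centralChar (χ : G → ℂ) (r ^ 2 ^ t)) = centralChar (χ : G → ℂ) (r ^ 2 ^ t) := by
  rcases mul_self_eq_one_iff.1 (S.omega_sq hzc χ) with h | h <;> rw [h] <;> simp

/-- In the centralizer the involution outside the rotations is not fused to the central one. -/
theorem s_mem_uset : s ∈ S.uset := by
  classical
  rw [uset, Finset.mem_filter, Finset.mem_insert]
  refine ⟨Or.inl rfl, fun _ ⟨g, hg, _⟩ => S.sd.s_not ?_, fun h => absurd rfl h⟩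
  have h1 : g * s * g⁻¹ = g * r ^ 2 ^ t * g⁻¹ := by rw [hg, hzc g, mul_inv_cancel_right]
  rw [mul_left_cancel (mul_right_cancel h1)]
  exact pow_mem (Subgroup.mem_zpowers r) _

/-- A conjugation to the product with the involution fixes the column. -/
theorem omega_col {x w : G} (hx : x ∈ P) (hw : w ∈ P) (hwx : w * x * w⁻¹ = x * r ^ 2 ^ t)
    (o : DihBlk.One 2 (S.bel x)) (χ : IrrCharacter G) :
    centralChar (χ : G → ℂ) (r ^ 2 ^ t) * o.col χ x = o.col χ x := by
  have hxzP : x * r ^ 2 ^ t ∈ P := mul_mem hx (S.sd.pow_mem' _)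
  have h1 := sct_conj (irr_classFun χ) (S.bel x) w x 1
  rw [S.cjI_bel hx hw, hwx, mul_one, mul_inv_cancel] at h1
  have hcg : CG (S.bel (x * r ^ 2 ^ t)).1 = CG (S.bel x).1 := by
    rw [S.bel_fst hxzP, S.bel_fst hx, cg_zpowers, cg_zpowers]
    ext g
    rw [Subgroup.mem_centralizer_singleton_iff, Subgroup.mem_centralizer_singleton_iff,
      ← mul_assoc g x, mul_assoc x (r ^ 2 ^ t) g, ← hzc g, ← mul_assoc x g]
    exact ⟨fun h => mul_right_cancel h, fun h => by rw [h]⟩
  have hbe := S.be_bel_eq hxzP hx (by rw [mul_assoc, ← hzc x]) hcg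
  have h2 : sct (χ : G → ℂ) (S.bel (x * r ^ 2 ^ t)) (x * r ^ 2 ^ t) 1 =
      sct (χ : G → ℂ) (S.bel x) (x * r ^ 2 ^ t) 1 := by
    simp only [sct, hbe]
  rw [h2, S.sct_mul_z hzc] at h1
  simp only [DihBlk.One.col, ← mul_div_assoc]
  exact congrArg (· / (o.g0 : ℂ)) h1

/-- The characters trivial on the involution, by sections. -/
theorem central_count :
    2 * Nat.card {χ : IrrCharacter G // χ ∈ B ∧ (χ : G → ℂ) (r ^ 2 ^ t) = (χ : G → ℂ) 1} =
        2 * blockRank 2 B + 2 ^ t + 2 * S.uset.card ∧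
      blockRank 2 (S.bel (r ^ 2 ^ t)).2 = blockRank 2 B := by
  classical
  set A := Finset.univ.filter (· ∈ B) with hA
  set z := r ^ 2 ^ t with hz
  set om : IrrCharacter G → ℂ := fun χ => centralChar (χ : G → ℂ) z with hom
  have hR := S.isReps
  have hz1 : (z, S.bel z) ∈ S.reps := S.reps_mem (Or.inr (Or.inl rfl))
  have h11 : ((1 : G), S.bel 1) ∈ S.reps := S.reps_mem (Or.inl rfl)
  have hrank : blockRank 2 (S.bel z).2 = blockRank 2 B := by
    have h1 := hR.sum_diag S.hM hz1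
    have h2 := hR.sum_diag S.hM h11
    rw [S.rank_bel_one] at h2
    have h3 : ((blockRank 2 (S.bel z).2 : ℕ) : ℂ) = ((blockRank 2 B : ℕ) : ℂ) := by
      rw [← h1, ← h2]
      refine Finset.sum_congr rfl fun χ hχ => ?_
      have hχ' := (Finset.mem_filter.1 hχ).2
      rw [S.E_z_eq hzc hχ' hχ', S.omega_real hzc, S.omega_sq hzc, one_mul]
    exact Nat.cast_injective h3
  refine ⟨?_, hrank⟩
  -- the trace of the central character
  have htr : ∀ a ∈ S.reps, ∀ F : ℂ, (∀ χ ∈ A, om χ * SecRep.E 2 a χ χ = F * SecRep.E 2 a χ χ) →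
      ∑ χ ∈ A, om χ * SecRep.E 2 a χ χ = F * (blockRank 2 a.2.2 : ℂ) := fun a ha F h => by
    rw [Finset.sum_congr rfl h, ← Finset.mul_sum, hR.sum_diag S.hM ha]
  have hzero : ∑ χ ∈ A, om χ * SecRep.E 2 (1, S.bel 1) χ χ = 0 := by
    simp only [SecRep.E, ← mul_div_assoc]
    rw [← Finset.sum_div, div_eq_zero_iff]
    left
    simp only [secT, Finset.mul_sum]
    rw [Finset.sum_comm]
    refine Finset.sum_eq_zero fun v hv => ?_
    have hv' := (S.regs_central hzc (one_mem _) (fun g => by simp)).1 hv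
    rw [Finset.sum_congr rfl (g := fun χ : IrrCharacter G =>
        sct (χ : G → ℂ) (S.bel z) z v * conj (sct (χ : G → ℂ) (S.bel 1) 1 v)) fun χ hχ => by
      rw [S.sct_z hzc (Finset.mem_filter.1 hχ).2 hv', mul_assoc]]
    refine hR.cross S.hM hz1 h11 (fun h => S.sd.z_ne_one (congrArg Prod.fst h)) ?_ hv
    exact (S.regs_central hzc (S.sd.pow_mem' _) hzc).2 hv'
  have hzero' : ∑ χ ∈ A, om χ * SecRep.E 2 (z, S.bel z) χ χ = 0 := by
    rw [← hzero]
    refine Finset.sum_congr rfl fun χ hχ => ?_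
    have hχ' := (Finset.mem_filter.1 hχ).2
    rw [S.E_z_eq hzc hχ' hχ', S.omega_real hzc, S.omega_sq hzc, one_mul]
  have hfour : ∀ {x : G}, (x, S.bel x) ∈ S.reps → x ∈ P → blockRank 2 (S.bel x).2 = 1 →
      (∃ w ∈ P, w * x * w⁻¹ = x * z) →
      ∑ χ ∈ A, om χ * SecRep.E 2 (x, S.bel x) χ χ = 1 := by
    rintro x hx hxP hrk ⟨w, hw, hwx⟩
    obtain ⟨o⟩ := DihBlk.exists_one S.hM (S.bel_ofB hxP).1.2 hrk
    rw [htr _ hx 1 fun χ _ => ?_, one_mul, hrk, Nat.cast_one]
    rw [one_mul, E_one S.hM o (S.ppow_mem hxP) (S.bel_fst hxP) (S.bel_ofB hxP),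
      ← mul_div_assoc, ← mul_assoc, S.omega_col hzc hxP hw hwx o χ]
  obtain ⟨d, hd⟩ : ∃ d, t = d + 1 := ⟨t - 1, by have := S.sd.pos; omega⟩
  have hrotz : ∀ i ∈ Finset.Ico 1 (2 ^ t),
      ∑ χ ∈ A, om χ * SecRep.E 2 (r ^ rexp t i, S.bel (r ^ rexp t i)) χ χ =
      if i = 2 ^ d then 1 else 0 := by
    intro i hi
    rw [Finset.mem_Ico] at hi
    have hd1 : 1 ≤ d := by have := S.sd.pos; omega
    have hq2 : 2 ∣ 2 ^ d := dvd_pow_self 2 (by omega)
    have hsq := S.rot_sq_ne' hi.1 hi.2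
    have hx : (r ^ rexp t i, S.bel (r ^ rexp t i)) ∈ S.reps :=
      S.reps_mem (Or.inr (Or.inr (Or.inl ⟨i, hi.1, hi.2, rfl⟩)))
    split_ifs with h
    · have he : rexp t i = 2 ^ d := by rw [rexp, if_neg (fun hc => by omega), h]
      refine hfour hx (S.sd.pow_mem' _) (S.rank_bel (S.sd.pow_mem' _)
        (fun e => hsq (by rw [e, one_mul])) (S.not_fus_z hsq)) ⟨s, S.sd.smem, ?_⟩
      rw [he, S.sd.refl_pow_even S.sd.smem S.sd.s_not hq2]
      refine inv_eq_of_mul_eq_one_right ?_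
      rw [← mul_assoc, ← pow_add, hz, hd, ← two_mul, ← pow_succ', ← hd, S.sd.z_mul_self]
    · simp only [SecRep.E, ← mul_div_assoc]
      rw [← Finset.sum_div, div_eq_zero_iff]
      left
      simp only [secT, Finset.mul_sum]
      rw [Finset.sum_comm]
      refine Finset.sum_eq_zero fun v hv => ?_
      rw [Finset.sum_congr rfl (g := fun χ : IrrCharacter G =>
        sct (χ : G → ℂ) (S.bel (r ^ rexp t i)) (r ^ rexp t i * z) v *
          conj (sct (χ : G → ℂ) (S.bel (r ^ rexp t i)) (r ^ rexp t i) v)) fun χ _ => by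
        rw [S.sct_mul_z hzc, mul_assoc]]
      obtain ⟨k1, k2, k3, k4⟩ := S.rexp_cases hi.1 hi.2
      set k := rexp t i with hk
      have hxP := S.sd.pow_mem' k
      have hxzP : r ^ k * z ∈ P := mul_mem hxP (S.sd.pow_mem' _)
      have hzp : Subgroup.zpowers (r ^ k * z) = Subgroup.zpowers (r ^ k) := by
        refine DihBlk.zpowers_eq_of_orderOf (r := r)
          (mul_mem (pow_mem (Subgroup.mem_zpowers r) k) (pow_mem (Subgroup.mem_zpowers r) _))
          (pow_mem (Subgroup.mem_zpowers r) k) ?_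
        rw [hz, ← pow_add, orderOf_pow, orderOf_pow, S.sd.order]
        congr 1
        obtain ⟨j, m', hm', hkm⟩ := Nat.exists_eq_two_pow_mul_odd (n := k) (by omega)
        have hjt : j < t := by
          by_contra hc
          push Not at hc
          have h3 : 2 ^ t * 1 ≤ 2 ^ j * m' :=
            Nat.mul_le_mul (Nat.pow_le_pow_right two_pos hc) (Nat.pos_of_ne_zero (by
              rintro rfl; simp at hm'))
          rcases k4 with ⟨-, k5⟩ | ⟨k5, -⟩
          · omega
          · refine k5 (hkm ▸ Dvd.dvd.mul_right (dvd_pow_self 2 ?_) _)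
            intro j0
            subst j0
            have := S.sd.pos
            omega
        have e1 : k + 2 ^ t = 2 ^ j * (m' + 2 ^ (t - j)) := by
          rw [mul_add, ← hkm, ← pow_add, Nat.add_sub_cancel' hjt.le]
        have e2 : 2 ^ (t + 1) = 2 ^ j * 2 ^ (t + 1 - j) := by
          rw [← pow_add]; congr 1; omega
        have hev : 2 ∣ 2 ^ (t - j) := dvd_pow_self 2 (by omega)
        have hodd : ∀ {b : ℕ}, Odd b → Nat.gcd (2 ^ (t + 1)) (2 ^ j * b) = 2 ^ j := fun {b} hb => by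
          rw [e2, Nat.gcd_mul_left, Nat.Coprime.gcd_eq_one
            (Nat.Coprime.pow_left _ (Nat.coprime_two_left.2 hb)), mul_one]
        rw [e1, hkm, hodd hm', hodd (hm'.add_even (even_iff_two_dvd.2 hev))]
      refine DihBlk.sum_sct_cross S.hM (S.ppow_mem hxzP) (S.ppow_mem hxP)
        ((S.bel_fst hxP).trans hzp.symm) (S.bel_fst hxP) (S.bel_ofB hxP) (S.bel_ofB hxP)
        (fun g hg he => ?_) (mem_regs.1 hv).1 (mem_regs.1 hv).2 (mem_regs.1 hv).1 (mem_regs.1 hv).2
      have hf : S.Fus (r ^ k * z) (r ^ k) := ⟨g, hg, by rw [S.bel_congr hxzP hzp]; exact he⟩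
      rcases S.rotation_fusion (mul_mem (pow_mem (Subgroup.mem_zpowers r) k)
        (pow_mem (Subgroup.mem_zpowers r) _)) (pow_mem (Subgroup.mem_zpowers r) k) hf with e | e
      · exact S.sd.z_ne_one (mul_eq_left.1 e.symm)
      · rw [← pow_add, S.sd.refl_pow S.sd.smem S.sd.s_not] at e
        obtain ⟨c, hc⟩ := Nat.modEq_iff_dvd.1 (S.sd.pow_inj e)
        have e0 : 2 ^ (t - 1) = 2 ^ d := by rw [hd, Nat.add_sub_cancel]
        have e1 : 2 ^ t = 2 * 2 ^ d := by rw [hd, pow_succ]; ring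
        have e2 : 2 ^ (t + 1) = 4 * 2 ^ d := by rw [pow_succ, e1]; ring
        rw [e1, e2] at hc
        push_cast [Nat.cast_sub (show 1 ≤ 2 * 2 ^ d by have := Nat.two_pow_pos d; omega)] at hc
        rw [e0, e1] at k4
        rw [e2] at k2
        have hki : k = 2 ^ d → i = 2 ^ d := fun e => by
          rw [hk, rexp, e0] at e
          split_ifs at e with hc'
          · omega
          · exact e
        refine h (hki ?_)
        obtain ⟨a, ha⟩ : ∃ a : ℕ, 2 ^ d = 2 * a := hq2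
        have ha' : (2 : ℤ) ^ d = 2 * a := by exact_mod_cast ha
        rw [ha'] at hc
        rw [ha] at k2 k4 ⊢
        obtain ⟨u, hu, hpar⟩ : ∃ u : ℤ, (k : ℤ) = 2 * a * u ∧ u % 2 = 1 :=
          ⟨(k : ℤ) + (4 * a - 1) - 2 * c, by linarith, by
            rcases k4 with ⟨h4, -⟩ | ⟨h4, -⟩
            · omega
            · exfalso
              refine h4 (Int.natCast_dvd_natCast.1 (⟨a * ((k : ℤ) + (4 * a - 1) - 2 * c), by push_cast; linarith⟩ :
                ((2 : ℕ) : ℤ) ∣ (k : ℤ)))⟩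
        have hapos : 1 ≤ a := by have := Nat.two_pow_pos d; omega
        have hu1 : u = 1 := by
          rcases le_or_gt 3 u with h3 | h3
          · have h5 : 2 * (a : ℤ) * 3 ≤ 2 * a * u := mul_le_mul_of_nonneg_left h3 (by positivity)
            rcases k4 with ⟨-, h4⟩ | ⟨h4, -⟩
            · omega
            · exact absurd (Int.natCast_dvd_natCast.1 (⟨(a : ℤ) * u, by push_cast; linarith⟩ : ((2 : ℕ) : ℤ) ∣ (k : ℤ))) h4
          rcases le_or_gt u 0 with h3' | h3'
          · have h5 : 2 * (a : ℤ) * u ≤ 0 := mul_nonpos_of_nonneg_of_nonpos (by positivity) h3'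
            omega
          omega
        rw [hu1] at hu
        omega
  have htrace : ∑ χ ∈ A, om χ = 1 + (S.uset.card : ℂ) := by
    rw [Finset.sum_congr rfl (g := fun χ => ∑ a ∈ S.reps, om χ * SecRep.E 2 a χ χ) fun χ hχ => by
      rw [← Finset.mul_sum, hR.resolution S.hM S.isBlock (Finset.mem_filter.1 hχ).2
        (Finset.mem_filter.1 hχ).2, if_pos rfl, mul_one], Finset.sum_comm,
      S.sum_reps (fun a => ∑ χ ∈ A, om χ * SecRep.E 2 a χ χ), hzero, hzero',
      Finset.sum_congr rfl hrotz, Finset.sum_ite_eq', if_pos (Finset.mem_Ico.2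
        ⟨Nat.one_le_two_pow, by rw [hd]; exact Nat.pow_lt_pow_right one_lt_two (by omega)⟩),
      Finset.sum_congr rfl (g := fun _ => (1 : ℂ)) fun v hv => by
        obtain ⟨h1, h2, -⟩ := S.uset_mem hv
        exact hfour (S.reps_mem (Or.inr (Or.inr (Or.inr hv)))) h1 (S.uset_rank hv)
          ⟨r ^ 2 ^ (t - 1), S.sd.pow_mem' _, by rw [S.sd.refl_conj_z h1 h2, hzc v]⟩,
      Finset.sum_const, nsmul_eq_mul, mul_one]
    ring
  -- the characters
  have hhalf : ∀ χ : IrrCharacter G,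
      (if (χ : G → ℂ) z = (χ : G → ℂ) 1 then (2 : ℂ) else 0) = 1 + om χ := by
    intro χ
    have hval : (χ : G → ℂ) z = om χ * (χ : G → ℂ) 1 := by
      have := S.val_z hzc χ 1
      rwa [mul_one] at this
    rcases mul_self_eq_one_iff.1 (S.omega_sq hzc χ) with h | h
    · rw [show om χ = 1 from h] at hval ⊢
      rw [if_pos (by rw [hval, one_mul])]
      norm_num
    · rw [show om χ = -1 from h] at hval ⊢
      rw [if_neg (fun e => irr_one_ne_zero χ (by linear_combination (e - hval) / (-2)))]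
      ring
  have hk := S.card_eq
  rw [hrank] at hk
  have hcard : Nat.card {χ : IrrCharacter G // χ ∈ B ∧ (χ : G → ℂ) z = (χ : G → ℂ) 1} =
      (A.filter fun χ : IrrCharacter G => (χ : G → ℂ) z = (χ : G → ℂ) 1).card := by
    rw [Nat.card_eq_fintype_card]
    exact Fintype.card_of_subtype _ fun χ => by simp [hA]
  rw [hcard]
  have hAc : A.card = Nat.card B := by
    rw [Nat.card_eq_fintype_card]
    exact (Fintype.card_of_subtype A fun χ => by simp [hA]).symm
  have h : ((2 * (A.filter fun χ : IrrCharacter G => (χ : G → ℂ) z = (χ : G → ℂ) 1).card : ℕ) : ℂ) =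
      ((Nat.card B + (1 + S.uset.card) : ℕ) : ℂ) := by
    push_cast
    rw [← htrace, ← hAc, Finset.card_filter, Nat.cast_sum, Finset.mul_sum, Finset.card_eq_sum_ones,
      Nat.cast_sum, ← Finset.sum_add_distrib]
    refine Finset.sum_congr rfl fun χ _ => ?_
    rw [Nat.cast_one, ← hhalf χ]
    split_ifs <;> simp
  have h' := Nat.cast_injective h
  have := Nat.two_pow_pos t
  omega

/-- The characters trivial on the involution, through the quotient. -/
theorem quotient_count :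
    Nat.card {χ : IrrCharacter G // χ ∈ B ∧ (χ : G → ℂ) (r ^ 2 ^ t) = (χ : G → ℂ) 1} =
      2 ^ (t - 1) + 3 := by
  classical
  set z := r ^ 2 ^ t with hz
  have hZc : Subgroup.zpowers z ≤ Subgroup.center G :=
    Subgroup.zpowers_le.2 (Subgroup.mem_center_iff.2 hzc)
  haveI : (Subgroup.zpowers z).Normal := ⟨fun v hv g => by
    rwa [Subgroup.mem_center_iff.1 (hZc hv) g, mul_inv_cancel_right]⟩
  have hZp : IsPGroup 2 (Subgroup.zpowers z) := isPGroup_zpowers (S.ppow_mem (S.sd.pow_mem' _))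
  letI := Fintype.ofFinite (G ⧸ Subgroup.zpowers z)
  obtain ⟨hBb, hdef⟩ := RankBound.liftSet_block (Subgroup.zpowers z) S.hM hZc hZp S.isBlock
  have hDq := hdef P (defect_of_max S.hM S.max)
  have hcard : Nat.card (liftSet (Subgroup.zpowers z) B) = 2 ^ (t - 1) + 3 := by
    obtain ⟨f, S'⟩ := DihBlk.exists_setup S.hM hBb hDq S.sd.dh_quotient
    exact S'.invariants.1
  rw [← hcard]
  symm
  refine Nat.card_congr (Equiv.ofBijective (fun χ : liftSet (Subgroup.zpowers z) B =>
    (⟨qinfl (Subgroup.zpowers z) χ.1, χ.2, ?_⟩ :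
      {χ : IrrCharacter G // χ ∈ B ∧ (χ : G → ℂ) z = (χ : G → ℂ) 1})) ⟨?_, ?_⟩)
  · rw [qinfl_apply, qinfl_apply, (QuotientGroup.eq_one_iff z).2 (Subgroup.mem_zpowers z),
      QuotientGroup.mk_one]
  · intro a b h
    refine Subtype.ext (Subtype.ext (funext fun q => ?_))
    obtain ⟨y, rfl⟩ := QuotientGroup.mk_surjective q
    exact congrFun (congrArg Subtype.val (congrArg Subtype.val h)) y
  · rintro ⟨χ, hχ, hχz⟩
    have hker : ∀ u ∈ Subgroup.zpowers z, (χ : G → ℂ) u = (χ : G → ℂ) 1 := by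
      intro u hu
      obtain ⟨k, rfl⟩ := (isOfFinOrder_of_finite z).mem_powers_iff_mem_zpowers.2 hu
      show (χ : G → ℂ) (z ^ k) = _
      induction k with
      | zero => rw [pow_zero]
      | succ k ih =>
        rw [pow_succ', S.val_z hzc, ih (pow_mem (Subgroup.mem_zpowers z) k)]
        have := S.val_z hzc χ 1
        rw [mul_one, ← hz, hχz] at this
        exact this.symm
    obtain ⟨ψ, hψ, e⟩ := IsIrr.exists_factor_quotient χ.2 (Subgroup.zpowers z) hker
    have e' : qinfl (Subgroup.zpowers z) ⟨ψ, hψ⟩ = χ := Subtype.ext (funext fun y => e y)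
    exact ⟨⟨⟨ψ, hψ⟩, show qinfl _ _ ∈ B from e'.symm ▸ hχ⟩, Subtype.ext e'⟩

end Central

end Setup

end Cfsg.Agent.Char.SemiBlk
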