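import Cfsg.Agent.Lib.Char.QuatBlockGroup
import Cfsg.Agent.Lib.Invol.QuasiDihedral

/-!
Semidihedral 2-subgroups: rotations, the two classes of the other elements, the quotient by the
central involution, and the characters used to twist.
-/

namespace Cfsg.Agent.Char.SemiBlk

open Cfsg
open Cfsg.Agent.Char.QuatBlk (zeta zeta_prim zeta_half zeta_congr cs cs_congr cs_neg cs_quarter)

set_option linter.unusedSectionVars false
set_option linter.style.haveILetI false
set_option maxHeartbeats 800000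

universe u

variable {G : Type u} [Group G]

/-- A semidihedral subgroup of order `4 * m` with rotation `r` and involution `s`, `m = 2 ^ t`. -/
structure Sd (P : Subgroup G) (r s : G) (t : ℕ) : Prop where
  pos : 2 ≤ t
  order : orderOf r = 2 ^ (t + 1)
  mem : r ∈ P
  card : Nat.card P = 2 ^ (t + 2)
  smem : s ∈ P
  s_not : s ∉ Subgroup.zpowers r
  s_sq : s * s = 1
  conj' : ∀ w ∈ P, w ∉ Subgroup.zpowers r → w * r * w⁻¹ = r ^ (2 ^ t - 1)

theorem exists_sd [Finite G] {D : Subgroup G} {n : ℕ} (hn : 4 ≤ n) (hcard : Nat.card D = 2 ^ n)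
    (h : Cfsg.IsQuasiDihedral D) : ∃ r s, Sd D r s (n - 2) := by
  obtain ⟨d, hd, hc, x, y, hx, hy, hxy⟩ := h
  obtain rfl : n = d + 1 := Nat.pow_right_injective le_rfl (hcard.symm.trans hc)
  rw [show d + 1 - 2 = d - 1 by omega]
  set m := 2 ^ (d - 1) with hm
  have hm4 : 2 ^ 2 ≤ m := Nat.pow_le_pow_right two_pos (by omega)
  have hxm : 2 ^ d = m * 2 := by rw [hm, ← pow_succ]; congr 1; omega
  have hxy' : (y : G) * (x : G) * (y : G)⁻¹ = (x : G) ^ (m - 1) := by
    simpa using congrArg Subtype.val hxy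
  have hox : orderOf (x : G) = 2 ^ d := by rw [Subgroup.orderOf_coe, hx]
  have hyn : (y : G) ∉ Subgroup.zpowers (x : G) := by
    intro hc'
    obtain ⟨k, hk⟩ := Subgroup.mem_zpowers_iff.1 hc'
    have h1 : (y : G) * (x : G) * (y : G)⁻¹ = (x : G) := by
      rw [← hk, ((Commute.refl (x : G)).zpow_left k).eq, mul_inv_cancel_right]
    rw [h1] at hxy'
    have h2 := (pow_eq_pow_iff_modEq (x := (x : G)) (m := 1) (n := m - 1)).1
      (by rw [pow_one]; exact hxy'.symm)
    rw [hox, hxm, Nat.ModEq, Nat.mod_eq_of_lt (by omega), Nat.mod_eq_of_lt (by omega)] at h2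
    omega
  refine ⟨(x : G), (y : G), by omega, ?_, x.2, ?_, y.2, hyn, ?_, fun w hw hwx => ?_⟩
  · rw [hox]; congr 1; omega
  · rw [hcard]; congr 1; omega
  · rw [← pow_two, ← hy, ← Subgroup.orderOf_coe, pow_orderOf_eq_one]
  · have hidx : ((Subgroup.zpowers (x : G)).subgroupOf D).index = 2 := by
      have h1 := ((Subgroup.zpowers (x : G)).subgroupOf D).card_mul_index
      rw [Nat.card_congr (Subgroup.subgroupOfEquivOfLe (Subgroup.zpowers_le.2 x.2)).toEquiv,
        Nat.card_zpowers, hox, hc, pow_succ 2 d] at h1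
      exact Nat.eq_of_mul_eq_mul_left (Nat.two_pow_pos _) h1
    have hm2 : w * (y : G)⁻¹ ∈ Subgroup.zpowers (x : G) := by
      have h1 := Subgroup.mul_mem_iff_of_index_two hidx (a := (⟨w, hw⟩ : D)) (b := y⁻¹)
      simp only [Subgroup.mem_subgroupOf, Subgroup.coe_mul, InvMemClass.coe_inv, hwx, inv_mem_iff,
        hyn] at h1
      exact h1.2 trivial
    obtain ⟨k, hk⟩ := Subgroup.mem_zpowers_iff.1 hm2
    have hw' : w = (x : G) ^ k * (y : G) := by rw [hk, inv_mul_cancel_right]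
    rw [hw', show (x : G) ^ k * (y : G) * (x : G) * ((x : G) ^ k * (y : G))⁻¹ =
        (x : G) ^ k * ((y : G) * (x : G) * (y : G)⁻¹) * ((x : G) ^ k)⁻¹ by group, hxy',
      (((Commute.refl (x : G)).zpow_left k).pow_right _).eq, mul_inv_cancel_right]

/-- The value of an induced linear character on a rotation. -/
noncomputable def sp (t l k : ℕ) : ℂ := zeta t ^ (l * k) + zeta t ^ (l * ((2 ^ t - 1) * k))

theorem sp_congr {t l a b : ℕ} (h : a ≡ b [MOD 2 ^ (t + 1)]) : sp t l a = sp t l b := by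
  simp only [sp, zeta_congr (h.mul_left l), zeta_congr ((h.mul_left (2 ^ t - 1)).mul_left l)]

theorem sp_flip {t : ℕ} (ht : 1 ≤ t) (l k : ℕ) : sp t l ((2 ^ t - 1) * k) = sp t l k := by
  obtain ⟨d, rfl⟩ : ∃ d, t = d + 1 := ⟨t - 1, by omega⟩
  have e : (2 ^ (d + 1) - 1) * ((2 ^ (d + 1) - 1) * k) ≡ k [MOD 2 ^ (d + 1 + 1)] := by
    have h1 : 1 ≤ 2 ^ (d + 1) := Nat.one_le_two_pow
    rw [← mul_assoc]
    conv_rhs => rw [← one_mul k]
    refine Nat.ModEq.mul_right k ?_
    obtain ⟨c, hc⟩ : ∃ c, 2 ^ (d + 1) = c + 1 := ⟨2 ^ (d + 1) - 1, by omega⟩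
    have h2 : 2 ^ (d + 1 + 1) = 2 * (c + 1) := by rw [pow_succ, hc]; ring
    rw [hc, Nat.add_sub_cancel, h2]
    have h3 : c % 2 = 1 := by rw [pow_succ] at hc; omega
    obtain ⟨b, rfl⟩ : ∃ b, c = 2 * b + 1 := ⟨c / 2, by omega⟩
    have : (2 * b + 1) * (2 * b + 1) = 1 + 2 * (2 * b + 1 + 1) * b := by ring
    rw [this]
    exact Nat.add_mul_mod_self_left 1 _ b
  rw [sp, sp, zeta_congr (e.mul_left l), add_comm]

theorem sp_even {t l k : ℕ} (hk : 2 ∣ k) : sp t l k = cs t l k := by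
  rw [sp, cs]
  congr 1
  refine eq_inv_of_mul_eq_one_left ?_
  obtain ⟨c, rfl⟩ := hk
  rw [← pow_add, show l * ((2 ^ t - 1) * (2 * c)) + l * (2 * c) = 2 ^ (t + 1) * (l * c) by
    rw [← mul_add, ← Nat.succ_mul, Nat.succ_eq_add_one, Nat.sub_add_cancel Nat.one_le_two_pow,
      pow_succ]
    ring, pow_mul, (zeta_prim t).pow_eq_one, one_pow]

namespace Sd

variable {P : Subgroup G} {r s : G} {t : ℕ} (h : Sd P r s t)
include h

theorem pow_mem' (i : ℕ) : r ^ i ∈ P := P.pow_mem h.mem i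

theorem pow_eq_one_iff {i : ℕ} : r ^ i = 1 ↔ 2 ^ (t + 1) ∣ i := by
  rw [← h.order, orderOf_dvd_iff_pow_eq_one]

theorem pow_inj {i j : ℕ} (hij : r ^ i = r ^ j) : i ≡ j [MOD 2 ^ (t + 1)] := by
  rw [← h.order]
  exact pow_eq_pow_iff_modEq.1 hij

theorem pow_congr {i j : ℕ} (hij : i ≡ j [MOD 2 ^ (t + 1)]) : r ^ i = r ^ j := by
  rw [pow_eq_pow_iff_modEq, h.order]
  exact hij

theorem z_ne_one : r ^ 2 ^ t ≠ 1 := fun hc => by
  have := Nat.le_of_dvd (Nat.two_pow_pos t) (h.pow_eq_one_iff.1 hc)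
  rw [pow_succ] at this
  have := Nat.two_pow_pos t
  omega

theorem z_mul_self : r ^ 2 ^ t * r ^ 2 ^ t = 1 := by
  rw [← pow_add, ← two_mul, ← pow_succ', ← h.order, pow_orderOf_eq_one]

theorem z_inv : (r ^ 2 ^ t)⁻¹ = r ^ 2 ^ t := inv_eq_of_mul_eq_one_right h.z_mul_self

theorem q_sq : r ^ 2 ^ (t - 1) * r ^ 2 ^ (t - 1) = r ^ 2 ^ t := by
  rw [← pow_add, ← two_mul, ← pow_succ', Nat.sub_add_cancel (by have := h.pos; omega)]

theorem q_sq_ne : r ^ 2 ^ (t - 1) * r ^ 2 ^ (t - 1) ≠ 1 := by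
  rw [h.q_sq]; exact h.z_ne_one

theorem refl_pow {w : G} (hw : w ∈ P) (hwr : w ∉ Subgroup.zpowers r) (i : ℕ) :
    w * r ^ i * w⁻¹ = r ^ ((2 ^ t - 1) * i) := by
  rw [← MulAut.conj_apply, map_pow, MulAut.conj_apply, h.conj' w hw hwr, pow_mul]

theorem refl_pow_even {w : G} (hw : w ∈ P) (hwr : w ∉ Subgroup.zpowers r) {i : ℕ} (hi : 2 ∣ i) :
    w * r ^ i * w⁻¹ = (r ^ i)⁻¹ := by
  rw [h.refl_pow hw hwr, eq_inv_iff_mul_eq_one, ← pow_add, h.pow_eq_one_iff]
  obtain ⟨c, rfl⟩ := hi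
  refine ⟨c, ?_⟩
  rw [← Nat.succ_mul, Nat.succ_eq_add_one, Nat.sub_add_cancel Nat.one_le_two_pow, pow_succ]
  ring

theorem rs_mem : r * s ∈ P := mul_mem h.mem h.smem

theorem rs_not : r * s ∉ Subgroup.zpowers r := fun hc => h.s_not (by
  simpa using mul_mem (inv_mem (Subgroup.mem_zpowers r)) hc)

theorem pow_s_not (i : ℕ) : r ^ i * s ∉ Subgroup.zpowers r := fun hc => h.s_not (by
  simpa using mul_mem (inv_mem (pow_mem (Subgroup.mem_zpowers r) i)) hc)

theorem pow_s_sq (i : ℕ) : r ^ i * s * (r ^ i * s) = r ^ (2 ^ t * i) := by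
  have h1 : s * r ^ i = r ^ ((2 ^ t - 1) * i) * s :=
    mul_inv_eq_iff_eq_mul.1 (h.refl_pow h.smem h.s_not i)
  rw [mul_assoc, ← mul_assoc s, h1, mul_assoc (r ^ _) s, h.s_sq, mul_one, ← pow_add]
  congr 1
  have := Nat.two_pow_pos t
  nth_rw 1 [← one_mul i]
  rw [← add_mul]
  congr 1
  omega

theorem rs_sq : r * s * (r * s) = r ^ 2 ^ t := by
  simpa using h.pow_s_sq 1

variable [Finite G]

theorem mem_cases {x : G} (hx : x ∈ P) :
    (∃ i < 2 ^ (t + 1), x = r ^ i) ∨ x ∉ Subgroup.zpowers r := by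
  by_cases hxr : x ∈ Subgroup.zpowers r
  · obtain ⟨i, rfl⟩ := (isOfFinOrder_of_finite r).mem_powers_iff_mem_zpowers.2 hxr
    refine Or.inl ⟨i % 2 ^ (t + 1), Nat.mod_lt _ (Nat.two_pow_pos _), ?_⟩
    show r ^ i = _
    rw [← h.order, pow_mod_orderOf]
  · exact Or.inr hxr

theorem mul_mem_iff (x y : P) :
    ((x * y : P) : G) ∈ Subgroup.zpowers r ↔
      ((x : G) ∈ Subgroup.zpowers r ↔ (y : G) ∈ Subgroup.zpowers r) := by
  have hidx : ((Subgroup.zpowers r).subgroupOf P).index = 2 := by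
    have h1 := ((Subgroup.zpowers r).subgroupOf P).card_mul_index
    rw [Nat.card_congr (Subgroup.subgroupOfEquivOfLe (Subgroup.zpowers_le.2 h.mem)).toEquiv,
      Nat.card_zpowers, h.order, h.card, pow_succ 2 (t + 1)] at h1
    exact Nat.eq_of_mul_eq_mul_left (Nat.two_pow_pos _) h1
  exact Subgroup.mul_mem_iff_of_index_two hidx

theorem exists_rep {x : G} (hx : x ∈ P) (hxr : x ∉ Subgroup.zpowers r) :
    ∃ i < 2 ^ (t + 1), x = r ^ i * s := by
  have h1 := h.mul_mem_iff ⟨x, hx⟩ ⟨s, h.smem⟩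
  simp only [hxr, h.s_not, iff_self, iff_true] at h1
  obtain ⟨i, hi, e⟩ := (h.mem_cases (mul_mem hx h.smem)).resolve_right (fun hn => hn h1)
  exact ⟨i, hi, by rw [← e, mul_assoc, h.s_sq, mul_one]⟩

theorem refl_sq {x : G} (hx : x ∈ P) (hxr : x ∉ Subgroup.zpowers r) :
    x * x = 1 ∨ x * x = r ^ 2 ^ t := by
  obtain ⟨i, -, rfl⟩ := h.exists_rep hx hxr
  rw [h.pow_s_sq]
  rcases Nat.even_or_odd i with ⟨c, rfl⟩ | ⟨c, rfl⟩
  · exact Or.inl (h.pow_eq_one_iff.2 ⟨c, by rw [pow_succ]; ring⟩)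
  · refine Or.inr ?_
    rw [show 2 ^ t * (2 * c + 1) = 2 ^ (t + 1) * c + 2 ^ t by rw [pow_succ]; ring, pow_add, pow_mul,
      ← h.order, pow_orderOf_eq_one, one_pow, one_mul]

theorem z_central {w : G} (hw : w ∈ P) : w * r ^ 2 ^ t = r ^ 2 ^ t * w := by
  by_cases hwr : w ∈ Subgroup.zpowers r
  · obtain ⟨i, rfl⟩ := (isOfFinOrder_of_finite r).mem_powers_iff_mem_zpowers.2 hwr
    show r ^ i * r ^ 2 ^ t = r ^ 2 ^ t * r ^ i
    rw [← pow_add, ← pow_add, add_comm]
  · have h1 := h.refl_pow_even hw hwr (i := 2 ^ t) (dvd_pow_self 2 (by have := h.pos; omega))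
    rw [h.z_inv] at h1
    exact mul_inv_eq_iff_eq_mul.1 h1

/-- The rotations of order at most two. -/
theorem rot_sq {x : G} (hx : x ∈ Subgroup.zpowers r) (hxx : x * x = 1) :
    x = 1 ∨ x = r ^ 2 ^ t := by
  obtain ⟨i, hi, rfl⟩ := (h.mem_cases ((Subgroup.zpowers_le.2 h.mem) hx)).resolve_right
    (fun hn => hn hx)
  rw [← pow_add, h.pow_eq_one_iff] at hxx
  obtain ⟨c, hc⟩ := hxx
  rcases c with _ | _ | c
  · exact Or.inl (by rw [show i = 0 by omega, pow_zero])
  · rw [pow_succ] at hc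
    exact Or.inr (by congr 1; omega)
  · exfalso
    have : 2 ^ (t + 1) * 2 ≤ 2 ^ (t + 1) * (c + 1 + 1) := Nat.mul_le_mul_left _ (by omega)
    omega

theorem centralizer_rotation {x w : G} (hx : x ∈ Subgroup.zpowers r) (hxx : x * x ≠ 1)
    (hw : w ∈ P) (hc : w * x = x * w) : w ∈ Subgroup.zpowers r := by
  by_contra hwr
  obtain ⟨i, rfl⟩ := (isOfFinOrder_of_finite r).mem_powers_iff_mem_zpowers.2 hx
  have h1 := h.refl_pow hw hwr i
  simp only at hc hxx
  rw [hc, mul_inv_cancel_right] at h1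
  have h2 := h.pow_inj h1
  refine hxx ?_
  rw [← pow_add, h.pow_eq_one_iff]
  obtain ⟨d, hd⟩ : ∃ d, t = d + 2 := ⟨t - 2, by have := h.pos; omega⟩
  have hm : 2 ^ t = 4 * 2 ^ d := by rw [hd, pow_add]; ring
  have hN : 2 ^ (t + 1) = 2 * (4 * 2 ^ d) := by rw [pow_succ, hm]; ring
  have hp := Nat.two_pow_pos d
  have h3 : ((2 ^ (t + 1) : ℕ) : ℤ) ∣ ((4 * 2 ^ d : ℕ) : ℤ) * i - 2 * i := by
    have := Nat.modEq_iff_dvd.1 h2
    rw [hm] at this
    rw [Nat.cast_mul, Nat.cast_sub (by omega)] at this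
    rw [hN] at this ⊢
    push_cast at this ⊢
    convert this using 1
    ring
  have h4 : ((2 ^ (t + 1) : ℕ) : ℤ) ∣ 2 * i := by
    rcases Nat.even_or_odd i with ⟨c, hc'⟩ | ⟨c, hc'⟩
    · rw [hN] at h3 ⊢
      have e : ((2 * (4 * 2 ^ d) : ℕ) : ℤ) ∣ ((4 * 2 ^ d : ℕ) : ℤ) * i := ⟨c, by
        rw [hc']; push_cast; ring⟩
      exact (dvd_sub_right e).1 h3
    · exfalso
      rw [hN, hc'] at h3
      obtain ⟨q, hq⟩ := h3
      push_cast at hq
      have h5 : (4 : ℤ) ∣ 2 * (2 * (c : ℤ) + 1) :=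
        ⟨2 ^ d * (2 * c + 1) - 2 * 2 ^ d * q, by linear_combination -hq⟩
      omega
  rw [show i + i = 2 * i by ring]
  exact_mod_cast h4

theorem centralizer_refl {x w : G} (hx : x ∈ P) (hxr : x ∉ Subgroup.zpowers r)
    (hw : w ∈ P) (hc : w * x = x * w) :
    w = 1 ∨ w = r ^ 2 ^ t ∨ w = x ∨ w = r ^ 2 ^ t * x := by
  have key : ∀ v ∈ Subgroup.zpowers r, v * x = x * v → v = 1 ∨ v = r ^ 2 ^ t := by
    intro v hv hvc
    refine h.rot_sq hv ?_
    by_contra hvv
    exact hxr (h.centralizer_rotation hv hvv hx hvc.symm)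
  by_cases hwr : w ∈ Subgroup.zpowers r
  · exact (key w hwr hc).imp id Or.inl
  · have hwx : w * x⁻¹ ∈ Subgroup.zpowers r := by
      have h1 := h.mul_mem_iff ⟨w, hw⟩ ⟨x⁻¹, inv_mem hx⟩
      simp only [hwr, inv_mem_iff, hxr, iff_self, iff_true] at h1
      exact h1
    rcases key _ hwx (by rw [inv_mul_cancel_right, ← mul_assoc, ← hc, mul_inv_cancel_right]) with
      e | e
    · exact Or.inr (Or.inr (Or.inl (mul_inv_eq_one.1 e)))
    · exact Or.inr (Or.inr (Or.inr (mul_inv_eq_iff_eq_mul.1 e)))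

/-- An element of odd order centralizing an element which is neither trivial nor central
centralizes the abelian groups around it which it normalizes. -/
theorem odd_fix {R : Subgroup G} (hR : R ≤ P) {x : G} (hx : x ∈ R) (hx1 : x ≠ 1)
    (hxz : x ≠ r ^ 2 ^ t) (hxc : ∀ w ∈ R, w * x = x * w) {y : G} (hy : Odd (orderOf y))
    (hyN : ∀ w, w ∈ R ↔ y * w * y⁻¹ ∈ R) (hyx : y * x * y⁻¹ = x) :
    ∀ w ∈ R, y * w * y⁻¹ = w := by
  by_cases hxr : x ∈ Subgroup.zpowers r
  · have hxx : x * x ≠ 1 := fun e => (h.rot_sq hxr e).elim hx1 hxz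
    have hRr : R ≤ Subgroup.zpowers r := fun w hw =>
      h.centralizer_rotation hxr hxx (hR hw) (hxc w hw)
    haveI : IsCyclic R :=
      isCyclic_of_injective (Subgroup.inclusion hRr) (Subgroup.inclusion_injective hRr)
    obtain ⟨k, -, hk⟩ := (Nat.dvd_prime_pow Nat.prime_two).1
      (h.card ▸ Subgroup.card_dvd_of_le hR : Nat.card R ∣ 2 ^ (t + 2))
    set α : MulAut R := R.normalizerMonoidHom ⟨y, Subgroup.mem_normalizer_iff.2 hyN⟩ with hα
    have h1 : orderOf α ∣ orderOf y := by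
      refine (orderOf_map_dvd R.normalizerMonoidHom _).trans ?_
      rw [Subgroup.orderOf_mk]
    have hα1 : α = 1 := by
      rw [← orderOf_eq_one_iff]
      obtain ⟨j, hj⟩ : ∃ j, Nat.card (MulAut R) = 2 ^ j := by
        refine ⟨k - 1, ?_⟩
        rw [IsCyclic.card_mulAut, hk]
        rcases k with _ | k
        · simp
        · rw [Nat.totient_prime_pow_succ Nat.prime_two]; simp
      obtain ⟨i, -, hi⟩ := (Nat.dvd_prime_pow Nat.prime_two).1 (hj ▸ orderOf_dvd_natCard α)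
      rcases i with _ | i
      · simpa using hi
      · exfalso
        refine Nat.not_even_iff_odd.2 hy (even_iff_two_dvd.2 (dvd_trans ?_ h1))
        rw [hi]
        exact dvd_pow_self 2 i.succ_ne_zero
    intro w hw
    have h2 : (α ⟨w, hw⟩ : G) = w := by rw [hα1]; rfl
    exact h2
  · have hcase : ∀ w ∈ R, w = 1 ∨ w = r ^ 2 ^ t ∨ w = x ∨ w = r ^ 2 ^ t * x := fun w hw =>
      h.centralizer_refl (hR hx) hxr (hR hw) (hxc w hw)
    set z := r ^ 2 ^ t with hz
    set c : G →* G := (MulAut.conj y).toMonoidHom with hc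
    have hcx : c x = x := hyx
    have hci : Function.Injective c := (MulAut.conj y).injective
    have hcc : ∀ w ∈ R, c (c w) = w := by
      have hzfix : z ∈ R → c (c z) = z := by
        intro hzR
        rcases hcase (c z) ((hyN z).1 hzR) with e | e | e | e
        · exact absurd (hci (e.trans (map_one c).symm)) h.z_ne_one
        · rw [e, e]
        · exact absurd (hci (e.trans hcx.symm)) (Ne.symm hxz)
        · rw [e, map_mul, e, hcx, mul_assoc]
          rcases h.refl_sq (hR hx) hxr with e2 | e2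
          · rw [e2, mul_one]
          · exfalso
            refine h.z_ne_one (hci (hci ?_))
            rw [map_one, map_one, ← hz, e, map_mul, e, hcx, mul_assoc, e2, ← hz, h.z_mul_self]
      intro w hw
      rcases hcase w hw with e | e | e | e <;> rw [e]
      · rw [map_one, map_one]
      · exact hzfix (e ▸ hw)
      · rw [hcx, hcx]
      · rw [map_mul, map_mul, hcx, hcx,
          hzfix (by simpa using mul_mem (e ▸ hw : z * x ∈ R) (inv_mem hx))]
    intro w hw
    have hpow : ∀ n, (y ^ (2 * n)) * w * (y ^ (2 * n))⁻¹ = w := by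
      intro n
      induction n with
      | zero => simp
      | succ n ih =>
        calc y ^ (2 * (n + 1)) * w * (y ^ (2 * (n + 1)))⁻¹
            = c (c (y ^ (2 * n) * w * (y ^ (2 * n))⁻¹)) := by
              rw [show 2 * (n + 1) = 2 + 2 * n by ring, pow_add, pow_two]
              show _ = y * (y * (y ^ (2 * n) * w * (y ^ (2 * n))⁻¹) * y⁻¹) * y⁻¹
              group
          _ = w := by rw [ih, hcc w hw]
    obtain ⟨n, hn⟩ := hy
    have h1 : y ^ (2 * (n + 1)) = y := by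
      rw [show 2 * (n + 1) = 2 * n + 1 + 1 by ring, pow_succ, ← hn, pow_orderOf_eq_one, one_mul]
    simpa [h1] using hpow (n + 1)

/-- A rotation is moved to its flip, and outside the rotations an element is moved by the quarter
to its product with the involution. -/
theorem refl_conj_z {x : G} (hx : x ∈ P) (hxr : x ∉ Subgroup.zpowers r) :
    r ^ 2 ^ (t - 1) * x * (r ^ 2 ^ (t - 1))⁻¹ = r ^ 2 ^ t * x := by
  have h1 := h.refl_pow_even hx hxr (i := 2 ^ (t - 1))
    (dvd_pow_self 2 (by have := h.pos; omega))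
  have h2 : x * (r ^ 2 ^ (t - 1))⁻¹ = r ^ 2 ^ (t - 1) * x :=
    mul_inv_eq_iff_eq_mul.1 (by rw [← conj_inv, h1, inv_inv])
  rw [mul_assoc, h2, ← mul_assoc, h.q_sq]

theorem refl_inverts {x : G} (hx : x ∈ P) (hxr : x ∉ Subgroup.zpowers r) :
    ∃ w ∈ P, w * x * w⁻¹ = x⁻¹ := by
  rcases h.refl_sq hx hxr with e | e
  · exact ⟨1, one_mem _, by rw [one_mul, inv_one, mul_one, inv_eq_of_mul_eq_one_right e]⟩
  · refine ⟨r ^ 2 ^ (t - 1), h.pow_mem' _, ?_⟩
    rw [h.refl_conj_z hx hxr]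
    refine eq_inv_of_mul_eq_one_left ?_
    rw [mul_assoc, e, h.z_mul_self]

/-- Up to conjugation in the group there are two classes outside the rotations. -/
theorem refl_cases {v : G} (hv : v ∈ P) (hvr : v ∉ Subgroup.zpowers r) :
    (∃ w ∈ P, w * s * w⁻¹ = v) ∨ ∃ w ∈ P, w * (r * s) * w⁻¹ = v := by
  classical
  have hkey : ∀ a b : G, (a = s ∧ b = 1) ∨ (a = r * s ∧ b = r) →
      ∃ T : Finset ℕ, T ⊆ Finset.range (2 ^ (t + 1)) ∧ T.card = 2 ^ t ∧
        (∀ i ∈ T, (2 ∣ i ↔ a = s)) ∧ ∀ i ∈ T, ∃ w ∈ P, w * a * w⁻¹ = r ^ i * s := by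
    intro a b hab
    have haP : a ∈ P := by
      rcases hab with ⟨rfl, -⟩ | ⟨rfl, -⟩
      · exact h.smem
      · exact h.rs_mem
    have har : a ∉ Subgroup.zpowers r := by
      rcases hab with ⟨rfl, -⟩ | ⟨rfl, -⟩
      · exact h.s_not
      · exact h.rs_not
    have hex : ∀ j, ∃ i < 2 ^ (t + 1), r ^ j * a * (r ^ j)⁻¹ = r ^ i * s := fun j =>
      h.exists_rep (mul_mem (mul_mem (h.pow_mem' j) haP) (inv_mem (h.pow_mem' j))) fun hc => har (by
        have := mul_mem (mul_mem (inv_mem (pow_mem (Subgroup.mem_zpowers r) j)) hc)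
          (pow_mem (Subgroup.mem_zpowers r) j)
        simpa [mul_assoc] using this)
    choose f hf hfe using hex
    refine ⟨(Finset.range (2 ^ t)).image f, fun i hi => ?_, ?_, fun i hi => ?_, fun i hi => ?_⟩
    · obtain ⟨j, -, rfl⟩ := Finset.mem_image.1 hi
      exact Finset.mem_range.2 (hf j)
    · rw [Finset.card_image_of_injOn, Finset.card_range]
      intro j hj k hk e
      simp only [Finset.coe_range, Set.mem_Iio] at hj hk
      have e1 : r ^ j * a * (r ^ j)⁻¹ = r ^ k * a * (r ^ k)⁻¹ := by rw [hfe, hfe, e]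
      have hc : (r ^ k)⁻¹ * r ^ j * a = a * ((r ^ k)⁻¹ * r ^ j) :=
        mul_inv_eq_iff_eq_mul.1 (by
          calc (r ^ k)⁻¹ * r ^ j * a * ((r ^ k)⁻¹ * r ^ j)⁻¹
              = (r ^ k)⁻¹ * (r ^ j * a * (r ^ j)⁻¹) * r ^ k := by group
            _ = a := by rw [e1]; group)
      have hmr : (r ^ k)⁻¹ * r ^ j ∈ Subgroup.zpowers r :=
        mul_mem (inv_mem (pow_mem (Subgroup.mem_zpowers r) k)) (pow_mem (Subgroup.mem_zpowers r) j)
      rcases h.centralizer_refl haP har
        (mul_mem (inv_mem (h.pow_mem' k)) (h.pow_mem' j)) hc with e2 | e2 | e2 | e2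
      · have h3 := h.pow_inj (inv_mul_eq_one.1 e2)
        rw [Nat.ModEq, pow_succ, Nat.mod_eq_of_lt (by omega), Nat.mod_eq_of_lt (by omega)] at h3
        exact h3.symm
      · rw [inv_mul_eq_iff_eq_mul, ← pow_add] at e2
        have h3 := h.pow_inj e2
        rw [Nat.ModEq, pow_succ, Nat.mod_eq_of_lt (by omega), Nat.mod_eq_of_lt (by omega)] at h3
        omega
      · exact absurd (e2 ▸ hmr) har
      · refine absurd ?_ har
        have := mul_mem (inv_mem (pow_mem (Subgroup.mem_zpowers r) (2 ^ t))) (e2 ▸ hmr)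
        rwa [inv_mul_cancel_left] at this
    · obtain ⟨j, -, rfl⟩ := Finset.mem_image.1 hi
      have h1 : r ^ (2 ^ t * f j) = r ^ j * (a * a) * (r ^ j)⁻¹ := by
        rw [← h.pow_s_sq, ← hfe]; group
      have h2 : r ^ (2 ^ t * f j) = if a = s then 1 else r ^ 2 ^ t := by
        rw [h1]
        rcases hab with ⟨rfl, -⟩ | ⟨rfl, -⟩
        · rw [if_pos rfl, h.s_sq, mul_one, mul_inv_cancel]
        · rw [if_neg (fun e => h.z_ne_one (by rw [← h.rs_sq, e, h.s_sq])), h.rs_sq, ← pow_add,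
            add_comm, pow_add, mul_inv_cancel_right]
      have hp : 2 ^ (t + 1) ∣ 2 ^ t * f j ↔ 2 ∣ f j := by
        rw [pow_succ]
        exact Nat.mul_dvd_mul_iff_left (Nat.two_pow_pos t)
      rw [← hp, ← h.pow_eq_one_iff, h2]
      split_ifs with e
      · simp [e]
      · simp [e, h.z_ne_one]
    · obtain ⟨j, -, rfl⟩ := Finset.mem_image.1 hi
      exact ⟨r ^ j, h.pow_mem' j, hfe j⟩
  obtain ⟨Ts, hTs, hcs, hps, hws⟩ := hkey s 1 (Or.inl ⟨rfl, rfl⟩)
  obtain ⟨Tu, hTu, hcu, hpu, hwu⟩ := hkey (r * s) r (Or.inr ⟨rfl, rfl⟩)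
  have hne : r * s ≠ s := fun e => h.z_ne_one (by rw [← h.rs_sq, e, h.s_sq])
  have hdis : Disjoint Ts Tu := Finset.disjoint_left.2 fun i hi hi' =>
    hne ((hpu i hi').1 ((hps i hi).2 rfl))
  have hall : Ts ∪ Tu = Finset.range (2 ^ (t + 1)) :=
    Finset.eq_of_subset_of_card_le (Finset.union_subset hTs hTu) (by
      rw [Finset.card_union_of_disjoint hdis, hcs, hcu, Finset.card_range, pow_succ]; omega)
  obtain ⟨i, hi, rfl⟩ := h.exists_rep hv hvr
  rcases Finset.mem_union.1 (hall ▸ Finset.mem_range.2 hi) with hm | hm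
  · exact Or.inl (hws i hm)
  · exact Or.inr (hwu i hm)

/-- The exponent of a rotation. -/
noncomputable def ex (_h : Sd P r s t) (x : G) : ℕ := by
  classical
  exact if hx : ∃ i, r ^ i = x then hx.choose else 0

theorem ex_pow (i : ℕ) : h.ex (r ^ i) ≡ i [MOD 2 ^ (t + 1)] := by
  classical
  have hx : ∃ j, r ^ j = r ^ i := ⟨i, rfl⟩
  rw [ex, dif_pos hx]
  exact h.pow_inj hx.choose_spec

/-- The induced linear characters. -/
noncomputable def psi (_h : Sd P r s t) (l : ℕ) (x : G) : ℂ := by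
  classical
  exact if x ∈ Subgroup.zpowers r then sp t l (_h.ex x) else 0

theorem psi_pow (l i : ℕ) : h.psi l (r ^ i) = sp t l i := by
  classical
  rw [psi, if_pos (pow_mem (Subgroup.mem_zpowers r) i), sp_congr (h.ex_pow i)]

theorem psi_refl (l : ℕ) {x : G} (hx : x ∉ Subgroup.zpowers r) : h.psi l x = 0 := by
  classical
  rw [psi, if_neg hx]

theorem genChar_psi (l : ℕ) [Fintype G] :
    IsGeneralizedCharacter P (fun x : P => h.psi l (x : G)) := by
  classical
  haveI := Fintype.ofFinite P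
  set H := (Subgroup.zpowers r).subgroupOf P with hH
  have hcardH : Nat.card H = 2 ^ (t + 1) := by
    rw [Nat.card_congr (Subgroup.subgroupOfEquivOfLe (Subgroup.zpowers_le.2 h.mem)).toEquiv,
      Nat.card_zpowers, h.order]
  have hexH : ∀ x : H, r ^ h.ex ((x : P) : G) = ((x : P) : G) := by
    intro x
    obtain ⟨i, hi⟩ := (isOfFinOrder_of_finite r).mem_powers_iff_mem_zpowers.2
      (Subgroup.mem_subgroupOf.1 x.2)
    simp only at hi
    rw [← hi]
    exact h.pow_congr (h.ex_pow i)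
  let lam : H →* ℂ :=
    { toFun := fun x => zeta t ^ (l * h.ex ((x : P) : G))
      map_one' := by
        have h1 := h.ex_pow 0
        rw [pow_zero] at h1
        show zeta t ^ (l * h.ex ((1 : G))) = 1
        rw [zeta_congr (h1.mul_left l), mul_zero, pow_zero]
      map_mul' := fun x y => by
        rw [← pow_add, ← mul_add]
        refine zeta_congr (Nat.ModEq.mul_left l (h.pow_inj ?_))
        rw [pow_add, hexH, hexH, hexH]
        rfl }
  have hlam : IsCharacter H (fun x => lam x) := by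
    simpa using Star.isCharacter_hom lam.toHomUnits
  have e : (fun x : P => h.psi l (x : G)) = indFun H (fun x => lam x) := by
    funext x
    by_cases hx : (x : G) ∈ Subgroup.zpowers r
    · obtain ⟨i, hi⟩ := (isOfFinOrder_of_finite r).mem_powers_iff_mem_zpowers.2 hx
      simp only at hi
      rw [← hi, h.psi_pow, indFun]
      have hmemH : x ∈ H := Subgroup.mem_subgroupOf.2 hx
      have hterm : ∀ y : P, extendByZero H (fun x => lam x) (y⁻¹ * x * y) =
          if y ∈ H then zeta t ^ (l * i) else zeta t ^ (l * ((2 ^ t - 1) * i)) := by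
        intro y
        have hval : ∀ (hm : y⁻¹ * x * y ∈ H) (k : ℕ), (y : G)⁻¹ * (x : G) * (y : G) = r ^ k →
            lam ⟨y⁻¹ * x * y, hm⟩ = zeta t ^ (l * k) := fun hm k hk => by
          show zeta t ^ (l * h.ex ((y : G)⁻¹ * (x : G) * (y : G))) = _
          rw [hk]
          exact zeta_congr ((h.ex_pow k).mul_left l)
        by_cases hy : y ∈ H
        · have e1 : (y : G)⁻¹ * (x : G) * (y : G) = r ^ i := by
            obtain ⟨j, hj⟩ := (isOfFinOrder_of_finite r).mem_powers_iff_mem_zpowers.2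
              (Subgroup.mem_subgroupOf.1 hy)
            simp only at hj
            rw [← hi, ← hj, mul_assoc, ← pow_add, add_comm, pow_add, inv_mul_cancel_left]
          have hm : y⁻¹ * x * y ∈ H :=
            Subgroup.mem_subgroupOf.2 (show (y : G)⁻¹ * (x : G) * (y : G) ∈ _ by
              rw [e1]; exact pow_mem (Subgroup.mem_zpowers r) i)
          rw [if_pos hy, extendByZero_of_mem _ hm, hval hm i e1]
        · have hy' : (y : G)⁻¹ ∉ Subgroup.zpowers r := fun hc =>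
            hy (Subgroup.mem_subgroupOf.2 (inv_mem_iff.1 hc))
          have e1 : (y : G)⁻¹ * (x : G) * (y : G) = r ^ ((2 ^ t - 1) * i) := by
            rw [← h.refl_pow (inv_mem y.2) hy' i, inv_inv, hi]
          have hm : y⁻¹ * x * y ∈ H :=
            Subgroup.mem_subgroupOf.2 (show (y : G)⁻¹ * (x : G) * (y : G) ∈ _ by
              rw [e1]; exact pow_mem (Subgroup.mem_zpowers r) _)
          rw [if_neg hy, extendByZero_of_mem _ hm, hval hm _ e1]
      rw [Finset.sum_congr rfl fun y _ => hterm y, Finset.sum_ite, Finset.sum_const,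
        Finset.sum_const, nsmul_eq_mul, nsmul_eq_mul]
      have hc1 : (Finset.univ.filter fun y : P => y ∈ H).card = 2 ^ (t + 1) := by
        rw [← hcardH, Nat.card_eq_fintype_card, Fintype.card_subtype]
      have hc2 : (Finset.univ.filter fun y : P => ¬ y ∈ H).card = 2 ^ (t + 1) := by
        have h1 := Finset.card_filter_add_card_filter_not (s := (Finset.univ : Finset P))
          (fun y => y ∈ H)
        rw [hc1, Finset.card_univ, ← Nat.card_eq_fintype_card, h.card, pow_succ 2 (t + 1)] at h1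
        omega
      rw [hc1, hc2, hcardH, sp, ← mul_add, Nat.cast_pow, Nat.cast_ofNat,
        inv_mul_cancel_left₀ (pow_ne_zero _ two_ne_zero)]
    · rw [h.psi_refl l hx, indFun_eq_zero_of_not_conj]
      intro y hy
      exfalso
      rw [Subgroup.mem_subgroupOf] at hy
      refine hx ?_
      have h1 := (h.mul_mem_iff (y⁻¹ * x) y).1 hy
      have h2 := h.mul_mem_iff y⁻¹ x
      have h3 : ((y⁻¹ : P) : G) ∈ Subgroup.zpowers r ↔ (y : G) ∈ Subgroup.zpowers r := by
        simp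
      tauto
  rw [e]
  exact IsGenChar.of_isCharacter (isCharacter_indFun H hlam)

/-- The linear characters: a sign `a` on the generator and a sign `b` on the involution. -/
theorem exists_hom (a b : ℤˣ) : ∃ f : P →* ℂˣ, ∀ x : P, ∀ i : ℕ,
    ((x : G) = r ^ i → (f x : ℂ) = ((a ^ i : ℤˣ) : ℤ)) ∧
      ((x : G) = r ^ i * s → (f x : ℂ) = ((a ^ i * b : ℤˣ) : ℤ)) := by
  classical
  have hex : ∀ x : P, ∃ (i : ℕ) (σ : Bool), (x : G) = r ^ i * (cond σ s 1) := by
    intro x
    rcases h.mem_cases x.2 with ⟨i, -, hi⟩ | hn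
    · exact ⟨i, false, by simp [hi]⟩
    · obtain ⟨i, -, hi⟩ := h.exists_rep x.2 hn
      exact ⟨i, true, by simp [hi]⟩
  have hpar : ∀ {i k : ℕ}, i ≡ k [MOD 2 ^ (t + 1)] → a ^ i = a ^ k := fun {i k} hik => by
    have h2 : i ≡ k [MOD 2] := hik.of_dvd (dvd_pow_self 2 t.succ_ne_zero)
    rw [Int.units_pow_eq_pow_mod_two a i, Int.units_pow_eq_pow_mod_two a k, h2]
  let v : ℕ → Bool → ℤˣ := fun i σ => a ^ i * cond σ b 1
  have huniq : ∀ {i k : ℕ} {σ τ : Bool},
      r ^ i * (cond σ s 1) = r ^ k * (cond τ s 1) → v i σ = v k τ := by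
    intro i k σ τ e
    cases σ <;> cases τ <;> simp only [cond_false, cond_true, mul_one] at e
    · simp only [v, cond_false, mul_one]; exact hpar (h.pow_inj e)
    · exact absurd (e ▸ pow_mem (Subgroup.mem_zpowers r) i) (h.pow_s_not k)
    · exact absurd (e ▸ pow_mem (Subgroup.mem_zpowers r) k) (h.pow_s_not i)
    · simp only [v, cond_true]; rw [hpar (h.pow_inj (mul_right_cancel e))]
  choose fi fσ hf using hex
  let F : P → ℤˣ := fun x => v (fi x) (fσ x)
  have hF : ∀ (x : P) (i : ℕ) (σ : Bool), (x : G) = r ^ i * (cond σ s 1) → F x = v i σ :=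
    fun x i σ e => huniq ((hf x).symm.trans e)
  have hmul : ∀ x y : P, F (x * y) = F x * F y := by
    intro x y
    obtain ⟨i, σ, hx⟩ : ∃ i σ, (x : G) = r ^ i * (cond σ s 1) := ⟨_, _, hf x⟩
    obtain ⟨k, τ, hy⟩ : ∃ i σ, (y : G) = r ^ i * (cond σ s 1) := ⟨_, _, hf y⟩
    rw [hF x i σ hx, hF y k τ hy]
    cases σ
    · rw [hF (x * y) (i + k) τ (by
        show (x : G) * (y : G) = _
        rw [hx, hy, pow_add]; simp [mul_assoc])]
      simp [v, pow_add, mul_assoc]
    · have hsk : s * r ^ k = r ^ ((2 ^ t - 1) * k) * s :=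
        mul_inv_eq_iff_eq_mul.1 (h.refl_pow h.smem h.s_not k)
      have hodd : a ^ ((2 ^ t - 1) * k) = a ^ k := by
        rw [pow_mul, Int.units_pow_eq_pow_mod_two a (2 ^ t - 1),
          show (2 ^ t - 1) % 2 = 1 by
            obtain ⟨d, hd⟩ : ∃ d, t = d + 1 := ⟨t - 1, by have := h.pos; omega⟩
            have := Nat.two_pow_pos d
            rw [hd, pow_succ]; omega, pow_one]
      rw [hF (x * y) (i + (2 ^ t - 1) * k) (!τ) (by
        show (x : G) * (y : G) = _
        rw [hx, hy, pow_add]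
        cases τ <;> simp only [cond_true, cond_false, Bool.not_false, Bool.not_true, mul_one]
        · rw [mul_assoc, hsk, mul_assoc]
        · rw [mul_assoc, ← mul_assoc s, hsk, mul_assoc (r ^ _) s, h.s_sq, mul_one])]
      simp only [v]
      rw [pow_add, hodd]
      cases τ <;> simp [mul_comm, mul_left_comm, Int.units_mul_self]
      all_goals simp [← mul_assoc, Int.units_mul_self]
  refine ⟨(Units.map (Int.castRingHom ℂ).toMonoidHom).comp
    { toFun := F, map_one' := ?_, map_mul' := hmul }, fun x i => ⟨fun e => ?_, fun e => ?_⟩⟩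
  · rw [hF 1 0 false (by simp)]; simp [v]
  · show (((F x : ℤˣ) : ℤ) : ℂ) = _
    rw [hF x i false (by simp [e])]
    simp [v]
  · show (((F x : ℤˣ) : ℤ) : ℂ) = _
    rw [hF x i true (by simp [e])]
    simp [v]

/-- The value of the twist of a level. -/
noncomputable def wfn (_h : Sd P r s t) (l : ℕ) (x : G) : ℂ := by
  classical
  exact if x ∈ Subgroup.zpowers r then _h.psi l x - (if Odd l then _h.psi 1 x else 0)
    else if Odd l then 0 else if x * x = 1 then 2 else cs t l (2 ^ (t - 1))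

theorem wfn_pow (l i : ℕ) :
    h.wfn l (r ^ i) = sp t l i - if Odd l then sp t 1 i else 0 := by
  classical
  rw [wfn, if_pos (pow_mem (Subgroup.mem_zpowers r) i), h.psi_pow, h.psi_pow]

theorem wfn_sq (l : ℕ) {x : G} (hx : x ∈ P) (hxx : x * x = 1) :
    h.wfn l x = if Odd l then 0 else 2 := by
  classical
  by_cases hxr : x ∈ Subgroup.zpowers r
  · have h2 : 2 ∣ 2 ^ t := dvd_pow_self 2 (by have := h.pos; omega)
    have key : ∀ l, sp t l (2 ^ t) = 2 * (-1) ^ l := fun l => by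
      rw [sp_even h2, cs, mul_comm, pow_mul, zeta_half, ← inv_pow, inv_neg, inv_one]; ring
    rcases h.rot_sq hxr hxx with rfl | rfl
    · rw [← pow_zero r, h.wfn_pow]
      split_ifs <;> simp [sp]
      all_goals norm_num
    · rw [h.wfn_pow, key, key]
      split_ifs with ho
      · rw [ho.neg_one_pow]; ring
      · rw [(Nat.not_odd_iff_even.1 ho).neg_one_pow]; ring
  · rw [wfn, if_neg hxr, if_pos hxx]

theorem wfn_four (l : ℕ) {x : G} (hx : x ∈ P) (hxx : x * x ≠ 1) (h4 : orderOf x ∣ 4) :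
    h.wfn l x = cs t l (2 ^ (t - 1)) := by
  classical
  obtain ⟨d, hd⟩ : ∃ d, t = d + 2 := ⟨t - 2, by have := h.pos; omega⟩
  have hodd : ∀ l, Odd l → cs t l (2 ^ (t - 1)) = 0 := fun l hl => by
    rw [hd]
    exact (cs_quarter (d + 1) l).1 hl
  by_cases hxr : x ∈ Subgroup.zpowers r
  · obtain ⟨i, hi, rfl⟩ := (h.mem_cases hx).resolve_right (fun hn => hn hxr)
    rw [orderOf_dvd_iff_pow_eq_one, ← pow_mul, h.pow_eq_one_iff] at h4
    rw [← pow_add, Ne, h.pow_eq_one_iff] at hxx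
    have hN : 2 ^ (t + 1) = 4 * 2 ^ (t - 1) := by
      rw [hd, show d + 2 - 1 = d + 1 by omega, pow_succ 2 (d + 2), pow_succ 2 (d + 1)]; ring
    have hq2 : 2 ∣ 2 ^ (t - 1) := dvd_pow_self 2 (by omega)
    rw [hN, mul_comm i 4] at h4
    obtain ⟨c, rfl⟩ := Nat.dvd_of_mul_dvd_mul_left four_pos h4
    have hc4 : c < 4 := by
      by_contra hc4
      push Not at hc4
      have : 2 ^ (t - 1) * 4 ≤ 2 ^ (t - 1) * c := Nat.mul_le_mul_left _ hc4
      omega
    have hsp : ∀ l, sp t l (2 ^ (t - 1) * c) = cs t l (2 ^ (t - 1)) := fun l => by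
      rw [sp_even (dvd_mul_of_dvd_left hq2 c)]
      interval_cases c
      · exact absurd ⟨0, by omega⟩ hxx
      · rw [mul_one]
      · exact absurd ⟨1, by omega⟩ hxx
      · exact cs_neg ⟨1, by omega⟩
    rw [h.wfn_pow, hsp, hsp]
    split_ifs
    · rw [hodd 1 odd_one, sub_zero]
    · rw [sub_zero]
  · rw [wfn, if_neg hxr, if_neg hxx]
    split_ifs with hl
    · exact (hodd l hl).symm
    · rfl

theorem genChar_wfn (l : ℕ) [Fintype G] :
    IsGeneralizedCharacter P (fun x : P => h.wfn l (x : G)) := by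
  classical
  have hchar : ∀ f : P →* ℂˣ, IsGeneralizedCharacter P (fun x => (f x : ℂ)) := fun f =>
    IsGenChar.of_isCharacter (Star.isCharacter_hom f)
  rcases Nat.even_or_odd l with ⟨c, hc⟩ | hl
  · have hno : ¬ Odd l := Nat.not_odd_iff_even.2 ⟨c, hc⟩
    obtain ⟨a, ha⟩ : ∃ a : ℤˣ, a = (-1 : ℤˣ) ^ c := ⟨_, rfl⟩
    obtain ⟨f, hf⟩ := h.exists_hom a 1
    obtain ⟨f', hf'⟩ := h.exists_hom a (-1)
    have e : (fun x : P => h.wfn l (x : G)) = (fun x : P => h.psi l (x : G)) +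
        ((fun x => (f x : ℂ)) - fun x => (f' x : ℂ)) := by
      funext x
      simp only [Pi.add_apply, Pi.sub_apply]
      rcases h.mem_cases x.2 with ⟨i, -, hi⟩ | hxr
      · rw [(hf x i).1 hi, (hf' x i).1 hi, sub_self, add_zero, hi, h.wfn_pow, h.psi_pow,
          if_neg hno, sub_zero]
      · obtain ⟨i, -, hi⟩ := h.exists_rep x.2 hxr
        rw [(hf x i).2 hi, (hf' x i).2 hi, h.psi_refl l hxr, zero_add, hi, wfn,
          if_neg (hi ▸ hxr), if_neg hno, h.pow_s_sq]
        rcases Nat.even_or_odd i with ⟨j, rfl⟩ | ⟨j, rfl⟩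
        · rw [if_pos (h.pow_eq_one_iff.2 ⟨j, by rw [pow_succ]; ring⟩)]
          have : a ^ (j + j) = 1 := by rw [pow_add, Int.units_mul_self]
          simp [this]
          norm_num
        · rw [if_neg fun e => by
            rw [h.pow_eq_one_iff, pow_succ, Nat.mul_dvd_mul_iff_left (Nat.two_pow_pos t)] at e
            omega]
          have h1 : a ^ (2 * j + 1) = a := by rw [pow_succ, pow_mul, Int.units_sq, one_pow, one_mul]
          obtain ⟨d, hd⟩ : ∃ d, t = d + 1 := ⟨t - 1, by have := h.pos; omega⟩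
          have hq := (cs_quarter d l).2 c (by omega)
          rw [← hd] at hq
          rw [h1, show t - 1 = d by omega, hq, ha]
          push_cast
          ring
    rw [e]
    exact IsGenChar.add (h.genChar_psi l) (IsGenChar.sub (hchar f) (hchar f'))
  · have e : (fun x : P => h.wfn l (x : G)) =
        (fun x : P => h.psi l (x : G)) - fun x : P => h.psi 1 (x : G) := by
      funext x
      simp only [Pi.sub_apply]
      by_cases hxr : (x : G) ∈ Subgroup.zpowers r
      · rw [wfn, if_pos hxr, if_pos hl]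
      · rw [wfn, if_neg hxr, if_pos hl, h.psi_refl l hxr, h.psi_refl 1 hxr, sub_zero]
    rw [e]
    exact IsGenChar.sub (h.genChar_psi l) (h.genChar_psi 1)

/-- The quotient by the involution is dihedral. -/
theorem dh_quotient [(Subgroup.zpowers (r ^ 2 ^ t)).Normal] :
    DihBlk.Dh (P.map (QuotientGroup.mk' (Subgroup.zpowers (r ^ 2 ^ t))))
      ((r : G) : G ⧸ Subgroup.zpowers (r ^ 2 ^ t)) (t - 1) := by
  obtain ⟨e, rfl⟩ : ∃ e, t = e + 1 := ⟨t - 1, by have := h.pos; omega⟩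
  have he : 1 ≤ e := by have := h.pos; omega
  set z := r ^ 2 ^ (e + 1) with hz
  set Z := Subgroup.zpowers z with hZ
  have hzpow : ∀ {i}, 2 ^ (e + 1) ∣ i → ((r ^ i : G) : G ⧸ Z) = 1 := by
    rintro i ⟨c, rfl⟩
    rw [QuotientGroup.eq_one_iff, pow_mul]
    exact pow_mem (Subgroup.mem_zpowers z) c
  have hzeq : ∀ {v : G}, v ∈ Z → v = 1 ∨ v = z := fun {v} hv =>
    h.rot_sq ((Subgroup.zpowers_le.2 (pow_mem (Subgroup.mem_zpowers r) _)) hv) (by
      obtain ⟨k, rfl⟩ := Subgroup.mem_zpowers_iff.1 hv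
      rw [← ((Commute.refl z).mul_zpow k), hz, h.z_mul_self, one_zpow])
  refine ⟨by omega, ?_, ⟨r, h.mem, rfl⟩, ?_, ?_, ?_⟩
  · rw [Nat.add_sub_cancel]
    refine orderOf_eq_prime_pow (fun hc => ?_) ?_
    · rw [← QuotientGroup.mk_pow, QuotientGroup.eq_one_iff] at hc
      rcases hzeq hc with h1 | h1
      · rw [h.pow_eq_one_iff] at h1
        exact absurd (Nat.le_of_dvd (Nat.two_pow_pos _) h1)
          (not_le.2 (Nat.pow_lt_pow_right one_lt_two (by omega)))
      · have h2 := h.pow_inj (hz ▸ h1)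
        rw [Nat.ModEq, Nat.mod_eq_of_lt (Nat.pow_lt_pow_right one_lt_two (by omega)),
          Nat.mod_eq_of_lt (Nat.pow_lt_pow_right one_lt_two (by omega))] at h2
        exact absurd h2 (ne_of_lt (Nat.pow_lt_pow_right one_lt_two (by omega)))
    · rw [← QuotientGroup.mk_pow]
      exact hzpow dvd_rfl
  · rw [Nat.add_sub_cancel, show e + 2 = e + 1 + 1 from rfl]
    have hle : Z ≤ P := Subgroup.zpowers_le.2 (h.pow_mem' _)
    have hcZ : Nat.card Z = 2 := by
      rw [hZ, Nat.card_zpowers]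
      exact orderOf_eq_prime (by rw [pow_two, hz, h.z_mul_self]) h.z_ne_one
    have h1 := (Z.subgroupOf P).card_mul_index
    rw [Nat.card_congr (Subgroup.subgroupOfEquivOfLe hle).toEquiv, hcZ, h.card,
      pow_succ 2 (e + 1 + 1)] at h1
    rw [← Subgroup.relIndex_ker, QuotientGroup.ker_mk']
    show (Z.subgroupOf P).index = _
    omega
  · rintro _ ⟨v, hv, rfl⟩ hnot
    have hvr : v ∉ Subgroup.zpowers r := fun hc => hnot (by
      obtain ⟨i, rfl⟩ := (isOfFinOrder_of_finite r).mem_powers_iff_mem_zpowers.2 hc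
      exact pow_mem (Subgroup.mem_zpowers _) i)
    constructor
    · show (QuotientGroup.mk' Z) v * (QuotientGroup.mk' Z) v = 1
      rw [← map_mul]
      refine (QuotientGroup.eq_one_iff _).2 ?_
      rcases h.refl_sq hv hvr with h1 | h1 <;> rw [h1]
      · exact one_mem _
      · exact Subgroup.mem_zpowers _
    · show (QuotientGroup.mk' Z) v * (QuotientGroup.mk' Z) r * ((QuotientGroup.mk' Z) v)⁻¹ =
        ((QuotientGroup.mk' Z) r)⁻¹
      rw [← map_mul, ← map_inv, ← map_mul, h.conj' v hv hvr, eq_inv_iff_mul_eq_one, ← map_mul,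
        ← pow_succ, Nat.sub_add_cancel Nat.one_le_two_pow]
      exact hzpow dvd_rfl
  · refine ⟨(s : G ⧸ Z), ⟨s, h.smem, rfl⟩, fun hc => h.s_not ?_⟩
    obtain ⟨k, hk⟩ := Subgroup.mem_zpowers_iff.1 hc
    rw [← QuotientGroup.mk_zpow, QuotientGroup.eq] at hk
    have h1 : (r ^ k)⁻¹ * s ∈ Subgroup.zpowers r :=
      (Subgroup.zpowers_le.2 (pow_mem (Subgroup.mem_zpowers r) _)) hk
    simpa using mul_mem (Subgroup.zpow_mem _ (Subgroup.mem_zpowers r) k) h1

end Sd

end Cfsg.Agent.Char.SemiBlk
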