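import Cfsg.Agent.Lib.Char.SemiBlockTwist
import Cfsg.Agent.Lib.Char.QuatBlockHeights

/-!
The coefficients of the columns of a 2-block with semidihedral defect group, level by level: the
symmetry, Gram relations, orthogonality and divisibility.
-/

open scoped ComplexConjugate

namespace Cfsg.Agent.Char.SemiBlk

open Polynomial Cfsg Cfsg.Agent.Block Cfsg.Agent.Char Cfsg.Agent.Char.BP Cfsg.Agent.Char.Spec
open Cfsg.Agent.Char.QuatBlk (zeta zeta_prim zeta_half zeta_congr exists_poly sum_odd_pow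
  zeta_conj_pow coeff_inv parseval E_one eval_congr)

set_option linter.unusedSectionVars false
set_option linter.style.haveILetI false
set_option maxHeartbeats 800000

universe u

section Coeff

variable {J : ℕ}

/-- The Gram relations of the coefficients under the flip of the first level. -/
theorem gram_flip {ι : Type*} (A : Finset ι) (P : ι → ℤ[X]) (hP : ∀ x, (P x).natDegree < 2 ^ J) (T : ℂ)
    (σ : ℕ → ℕ) (hσ : ∀ s < 2 ^ J, σ s < 2 ^ J ∧
      (2 * σ s + 2 * s + 2 = 2 ^ J ∨ 2 * σ s + 2 * s + 2 = 3 * 2 ^ J))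
    (h : ∀ s < 2 ^ J, ∀ s' < 2 ^ J, ∑ x ∈ A,
      aeval (zeta J ^ (2 * s + 1)) (P x) * conj (aeval (zeta J ^ (2 * s' + 1)) (P x)) =
        (if s' = s then T else 0) + if s' = σ s then T else 0)
    {k k' : ℕ} (hk : k < 2 ^ J) (hk' : k' < 2 ^ J) :
    (2 : ℂ) ^ J * ∑ x ∈ A, (((P x).coeff k * (P x).coeff k' : ℤ) : ℂ) =
      T * ((if k = k' then 1 else 0) + (-1) ^ k' * ((if k + k' = 0 then 1 else 0) -
        if k + k' = 2 ^ J then 1 else 0)) := by
  set N := 2 ^ J with hNdef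
  have hN : 0 < N := Nat.two_pow_pos J
  have h2 : 2 ^ (J + 1) = N + N := by rw [pow_succ]; omega
  set E : ℕ → ℕ → ℂ := fun s k => zeta J ^ ((2 * s + 1) * (2 ^ (J + 1) - k)) with hE
  have hsq : ∀ x ∈ A, (2 : ℂ) ^ J * ((2 : ℂ) ^ J * (((P x).coeff k * (P x).coeff k' : ℤ) : ℂ)) =
      ∑ s ∈ Finset.range N, ∑ s' ∈ Finset.range N, E s k * conj (E s' k') *
        (aeval (zeta J ^ (2 * s + 1)) (P x) * conj (aeval (zeta J ^ (2 * s' + 1)) (P x))) := by
    intro x _
    have h1 := coeff_inv (hP x) hk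
    have h3 := congrArg conj (coeff_inv (hP x) hk')
    rw [map_mul, map_pow, map_ofNat, map_intCast, map_sum] at h3
    calc _ = ((2 : ℂ) ^ J * ((P x).coeff k : ℂ)) * ((2 : ℂ) ^ J * ((P x).coeff k' : ℂ)) := by
          push_cast; ring
      _ = _ := by
          rw [← h1, ← h3, Finset.sum_mul_sum]
          refine Finset.sum_congr rfl fun s _ => Finset.sum_congr rfl fun s' _ => ?_
          simp only [hE, map_mul]
          ring
  have hkey : (2 : ℂ) ^ J * ((2 : ℂ) ^ J * ∑ x ∈ A, (((P x).coeff k * (P x).coeff k' : ℤ) : ℂ)) =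
      ∑ s ∈ Finset.range N, (E s k * conj (E s k') + E s k * conj (E (σ s) k')) * T := by
    rw [Finset.mul_sum, Finset.mul_sum, Finset.sum_congr rfl hsq, Finset.sum_comm]
    refine Finset.sum_congr rfl fun s hs => ?_
    rw [Finset.mem_range] at hs
    rw [Finset.sum_comm, Finset.sum_congr rfl fun s' hs' => by
      rw [← Finset.mul_sum, h s hs s' (Finset.mem_range.1 hs')]]
    simp only [mul_add, mul_ite, mul_zero, Finset.sum_add_distrib, Finset.sum_ite_eq']
    rw [if_pos (Finset.mem_range.2 hs), if_pos (Finset.mem_range.2 (hσ s hs).1)]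
    ring
  rw [← Finset.sum_mul, Finset.sum_add_distrib] at hkey
  have hconj : ∀ s, conj (E s k') = zeta J ^ ((2 * s + 1) * k') := fun s => by
    rw [hE]
    show conj (zeta J ^ _) = _
    rw [← zeta_conj_pow (by omega), Complex.conj_conj]
  have e1 : ∀ s, E s k * conj (E s k') = zeta J ^ ((2 * s + 1) * (2 ^ (J + 1) - k + k')) :=
    fun s => by rw [hconj, hE, ← pow_add, ← mul_add]
  have e2 : ∀ s, s < N → E s k * conj (E (σ s) k') = ((-1 : ℂ) ^ k') *
      zeta J ^ ((2 * s + 1) * (2 ^ (J + 1) - k + (2 ^ (J + 1) - k'))) := by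
    intro s hs
    have hinv : zeta J ^ ((2 * s + 1) * k') * zeta J ^ ((2 * s + 1) * (2 ^ (J + 1) - k')) = 1 := by
      rw [← pow_add, ← mul_add, Nat.add_sub_cancel' (by omega), mul_comm, pow_mul,
        (zeta_prim J).pow_eq_one, one_pow]
    have hadd : zeta J ^ ((2 * σ s + 1) * k') * zeta J ^ ((2 * s + 1) * k') = (-1) ^ k' := by
      rw [← pow_add, ← add_mul, pow_mul]
      rcases (hσ s hs).2 with e | e
      · rw [show 2 * σ s + 1 + (2 * s + 1) = 2 ^ J by omega, zeta_half]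
      · rw [show 2 * σ s + 1 + (2 * s + 1) = 2 ^ J * 3 by omega, pow_mul (zeta J), zeta_half]
        norm_num
    rw [hconj, hE]
    simp only
    rw [mul_add (2 * s + 1), pow_add (zeta J)]
    linear_combination (zeta J ^ ((2 * s + 1) * (2 ^ (J + 1) - k)) *
      zeta J ^ ((2 * s + 1) * (2 ^ (J + 1) - k'))) * hadd -
      (zeta J ^ ((2 * s + 1) * (2 ^ (J + 1) - k)) * zeta J ^ ((2 * σ s + 1) * k')) * hinv
  rw [Finset.sum_congr rfl fun s _ => e1 s, Finset.sum_congr rfl fun s hs =>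
    e2 s (Finset.mem_range.1 hs), ← Finset.mul_sum, sum_odd_pow, sum_odd_pow, ← hNdef] at hkey
  refine mul_left_cancel₀ (pow_ne_zero J (two_ne_zero (α := ℂ))) (hkey.trans ?_)
  have hA : (if N ∣ 2 ^ (J + 1) - k + k' then (2 : ℂ) ^ J * (-1) ^ ((2 ^ (J + 1) - k + k') / N)
      else 0) = (2 : ℂ) ^ J * if k = k' then 1 else 0 := by
    by_cases e : k = k'
    · subst e
      have e3 : 2 ^ (J + 1) - k + k = N * 2 := by omega
      rw [e3, if_pos ⟨2, rfl⟩, if_pos rfl, Nat.mul_div_cancel_left _ hN]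
      norm_num
    · rw [if_neg e, if_neg, mul_zero]
      rintro ⟨c, hc⟩
      rcases c with _ | _ | _ | c
      · omega
      · omega
      · omega
      · have : N * 3 ≤ N * (c + 1 + 1 + 1) := Nat.mul_le_mul_left _ (by omega)
        omega
  have hB : (if N ∣ 2 ^ (J + 1) - k + (2 ^ (J + 1) - k') then
      (2 : ℂ) ^ J * (-1) ^ ((2 ^ (J + 1) - k + (2 ^ (J + 1) - k')) / N) else 0) =
      (2 : ℂ) ^ J * ((if k + k' = 0 then 1 else 0) - if k + k' = N then 1 else 0) := by
    by_cases e : k + k' = 0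
    · have e3 : 2 ^ (J + 1) - k + (2 ^ (J + 1) - k') = N * 4 := by omega
      rw [e3, if_pos ⟨4, rfl⟩, if_pos e, if_neg (by omega), Nat.mul_div_cancel_left _ hN]
      norm_num
    by_cases e' : k + k' = N
    · have e3 : 2 ^ (J + 1) - k + (2 ^ (J + 1) - k') = N * 3 := by omega
      rw [e3, if_pos ⟨3, rfl⟩, if_neg e, if_pos e', Nat.mul_div_cancel_left _ hN]
      norm_num
    · rw [if_neg e, if_neg e', if_neg, sub_zero, mul_zero]
      rintro ⟨c, hc⟩
      rcases c with _ | _ | _ | _ | c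
      · omega
      · omega
      · omega
      · omega
      · have : N * 4 ≤ N * (c + 1 + 1 + 1 + 1) := Nat.mul_le_mul_left _ (by omega)
        omega
  rw [hA, hB]
  ring

end Coeff

variable {G : Type u} [Group G] [Fintype G] {M : Ideal AlgInt} {B : Set (IrrCharacter G)}
variable {P : Subgroup G} {e : Set (IrrCharacter (CG P))} {r s : G} {t : ℕ}

/-- The partner of an index at a level. -/
def flip' (t j i : ℕ) : ℕ :=
  if j = 0 then (if i < 2 ^ (t - 1) then 2 ^ (t - 1) - 1 - i else 3 * 2 ^ (t - 1) - 1 - i)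
  else 2 ^ (t - j) - 1 - i

/-- The index of a representative at a level. -/
def idx (t j u : ℕ) : ℕ := if j = 0 ∧ 2 ^ (t - 2) ≤ u then u + 2 ^ (t - 2) else u

namespace Setup

variable (S : Setup M B P e r s t)
include S

/-- A column is invariant under a conjugation in the group. -/
theorem col_conj {a : BrauerPairIdx G} (o : DihBlk.One 2 a) {u w : G} (ha : a = S.bel u)
    (hu : u ∈ P) (hw : w ∈ P) (hz : Subgroup.zpowers (w * u * w⁻¹) = Subgroup.zpowers u)
    (χ : IrrCharacter G) : o.col χ (w * u * w⁻¹) = o.col χ u := by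
  have h := sct_conj (irr_classFun χ) a w u 1
  rw [ha, S.cjI_bel hu hw, S.bel_congr (mul_mem (mul_mem hw hu) (inv_mem hw)) hz, ← ha,
    mul_one, mul_inv_cancel] at h
  simp only [DihBlk.One.col, h]

/-- An inverted element has a real column. -/
theorem col_real {a : BrauerPairIdx G} (o : DihBlk.One 2 a) {u : G} (ha : a = S.bel u) (hu : u ∈ P)
    (hinv : ∃ w ∈ P, w * u * w⁻¹ = u⁻¹) (χ : IrrCharacter G) :
    conj (o.col χ u) = o.col χ u := by
  have h1 : a.1 = Subgroup.zpowers u := ha ▸ S.bel_fst hu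
  obtain ⟨w, hw, hwx⟩ := hinv
  rw [o.conj_col (DihBlk.One.comm_of_gen h1) χ (h1 ▸ Subgroup.mem_zpowers u), ← hwx,
    S.col_conj o ha hu hw (by rw [hwx]; exact Subgroup.zpowers_inv) χ]

/-- The polynomial of a column on the generators. -/
theorem exists_col_poly {a : BrauerPairIdx G} (o : DihBlk.One 2 a) {u : G}
    (ha : a.1 = Subgroup.zpowers u) {J : ℕ} (hJ : orderOf u = 2 ^ (J + 1)) (χ : IrrCharacter G) :
    ∃ A : ℤ[X], A.natDegree < 2 ^ J ∧
      ∀ k : ℕ, Odd k → o.col χ (u ^ k) = aeval (zeta J ^ k) A := by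
  haveI := Fintype.ofFinite (Subgroup.zpowers u)
  have hgen := o.col_genChar' (DihBlk.One.comm_of_gen ha) ha χ
  have htop : Subgroup.zpowers (⟨u, Subgroup.mem_zpowers u⟩ : Subgroup.zpowers u) = ⊤ :=
    (Subgroup.eq_top_iff' _).2 fun v => by
      obtain ⟨k, hk⟩ := Subgroup.mem_zpowers_iff.1 v.2
      exact ⟨k, Subtype.ext (by simpa using hk)⟩
  obtain ⟨A, hA, hval⟩ := exists_poly htop (by rw [Subgroup.orderOf_mk, hJ]) hgen
  exact ⟨A, hA, fun k hk => by simpa using hval k hk⟩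

/-- The equipment at a level. -/
structure Lvl (S : Setup M B P e r s t) (j : ℕ) where
  o : DihBlk.One 2 (S.bel (r ^ 2 ^ j))
  A : IrrCharacter G → ℤ[X]
  deg : ∀ χ, (A χ).natDegree < 2 ^ (t - j)
  val : ∀ χ, ∀ k : ℕ, Odd k → o.col χ ((r ^ 2 ^ j) ^ k) = aeval (zeta (t - j) ^ k) (A χ)

theorem order_pow {j : ℕ} (hj : j < t) : orderOf (r ^ 2 ^ j) = 2 ^ (t - j + 1) := by
  rw [orderOf_pow' _ (pow_ne_zero _ two_ne_zero), S.sd.order,
    Nat.gcd_eq_right (pow_dvd_pow 2 (by omega)), Nat.pow_div (by omega) two_pos]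
  congr 1
  omega

/-- The generators at a level. -/
def gen (_S : Setup M B P e r s t) (j i : ℕ) : G := r ^ (2 ^ j * (2 * i + 1))

theorem gen_mem (j i : ℕ) : S.gen j i ∈ Subgroup.zpowers r := pow_mem (Subgroup.mem_zpowers r) _

theorem gen_memP (j i : ℕ) : S.gen j i ∈ P := S.sd.pow_mem' _

theorem gen_order {j : ℕ} (hj : j < t) (i : ℕ) : orderOf (S.gen j i) = 2 ^ (t - j + 1) := by
  rw [gen, pow_mul, orderOf_pow, S.order_pow hj,
    Nat.Coprime.gcd_eq_one (Nat.Coprime.pow_left _ (Nat.coprime_two_left.2 ⟨i, rfl⟩)), Nat.div_one]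

theorem gen_sq {j : ℕ} (hj : j < t) (i : ℕ) : S.gen j i * S.gen j i ≠ 1 := by
  intro h
  have h1 := Nat.le_of_dvd two_pos (orderOf_dvd_of_pow_eq_one ((pow_two (S.gen j i)).trans h))
  rw [S.gen_order hj, pow_succ] at h1
  have : 2 ^ 1 ≤ 2 ^ (t - j) := Nat.pow_le_pow_right two_pos (by omega)
  omega

theorem gen_bel {j : ℕ} (hj : j < t) (i : ℕ) : S.bel (S.gen j i) = S.bel (r ^ 2 ^ j) :=
  S.bel_congr (S.gen_memP j i) (DihBlk.zpowers_eq_of_orderOf (r := r) (S.gen_mem j i)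
    (pow_mem (Subgroup.mem_zpowers r) _) (by rw [S.gen_order hj, S.order_pow hj]))

theorem exists_lvl {j : ℕ} (hj : j < t) : Nonempty (Lvl S j) := by
  have hP := S.sd.pow_mem' (2 ^ j)
  have hxx := S.gen_sq hj 0
  rw [show S.gen j 0 = r ^ 2 ^ j by simp [gen]] at hxx
  obtain ⟨o⟩ := DihBlk.exists_one S.hM (S.bel_ofB hP).1.2
    (S.rank_bel hP (fun e => hxx (by rw [e, one_mul])) (S.not_fus_z hxx))
  choose A hA hval using fun χ => S.exists_col_poly o (S.bel_fst hP) (S.order_pow hj) χ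
  exact ⟨⟨o, A, hA, hval⟩⟩

theorem q_facts : 2 ^ t = 4 * 2 ^ (t - 2) ∧ 2 ^ (t - 1) = 2 * 2 ^ (t - 2) ∧
    2 ^ (t + 1) = 8 * 2 ^ (t - 2) := by
  obtain ⟨d, hd⟩ : ∃ d, t = d + 2 := ⟨t - 2, by have := S.sd.pos; omega⟩
  rw [hd, show d + 2 - 2 = d by omega, show d + 2 - 1 = d + 1 by omega, pow_succ 2 d,
    pow_succ 2 (d + 2), pow_succ 2 (d + 1), pow_succ 2 d]
  omega

theorem level_half {j : ℕ} (hj : j < t) : 2 ^ (t - j) = 2 ^ (t - j - 1) + 2 ^ (t - j - 1) := by
  rw [← two_mul, ← pow_succ']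
  congr 1
  omega

theorem flip_facts {j : ℕ} (hj : j < t) {i : ℕ} (hi : i < 2 ^ (t - j)) :
    flip' t j i < 2 ^ (t - j) ∧ flip' t j i ≠ i := by
  obtain ⟨h1, h2, h3⟩ := S.q_facts
  have h := S.level_half hj
  have := Nat.two_pow_pos (t - 2)
  rcases Nat.eq_zero_or_pos j with rfl | hj0
  · rw [flip', if_pos rfl]
    rw [Nat.sub_zero] at hi ⊢
    split_ifs <;> omega
  · rw [flip', if_neg (by omega)]
    omega

theorem gen_exp_lt {j i : ℕ} (hj : j ≤ t) (hi : i < 2 ^ (t - j)) :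
    2 ^ j * (2 * i + 1) < 2 ^ (t + 1) := by
  have e : 2 ^ (t + 1) = 2 ^ j * (2 * 2 ^ (t - j)) := by
    rw [← pow_succ', ← pow_add]; congr 1; omega
  rw [e]
  exact Nat.mul_lt_mul_of_pos_left (by omega) (Nat.two_pow_pos j)

theorem gen_inj {j i i' : ℕ} (hj : j ≤ t) (hi : i < 2 ^ (t - j)) (hi' : i' < 2 ^ (t - j))
    (h : S.gen j i = S.gen j i') : i = i' := by
  have h1 := pow_injOn_Iio_orderOf (x := r)
    (Set.mem_Iio.2 (by rw [S.sd.order]; exact S.gen_exp_lt hj hi))
    (Set.mem_Iio.2 (by rw [S.sd.order]; exact S.gen_exp_lt hj hi')) h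
  have := Nat.eq_of_mul_eq_mul_left (Nat.two_pow_pos j) h1
  omega

/-- The partner is the conjugate. -/
theorem gen_flip {j i : ℕ} (hj : j < t) (hi : i < 2 ^ (t - j)) :
    S.gen j (flip' t j i) = s * S.gen j i * s⁻¹ := by
  rcases Nat.eq_zero_or_pos j with rfl | hj0
  · obtain ⟨h1, h2, h3⟩ := S.q_facts
    rw [Nat.sub_zero] at hi
    simp only [gen, pow_zero, one_mul]
    rw [S.sd.refl_pow S.sd.smem S.sd.s_not]
    refine S.sd.pow_congr (Nat.ModEq.add_right_cancel' (2 * i + 1) ?_)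
    rw [← Nat.succ_mul, Nat.succ_eq_add_one, Nat.sub_add_cancel Nat.one_le_two_pow, mul_add,
      mul_one, show 2 ^ t * (2 * i) = 2 ^ (t + 1) * i by rw [pow_succ]; ring]
    refine Nat.ModEq.trans ?_ (Nat.mul_add_mod _ _ _).symm
    rw [flip', if_pos rfl]
    split_ifs with hlt
    · rw [show 2 * (2 ^ (t - 1) - 1 - i) + 1 + (2 * i + 1) = 2 ^ t by omega]
    · rw [show 2 * (3 * 2 ^ (t - 1) - 1 - i) + 1 + (2 * i + 1) = 2 ^ (t + 1) + 2 ^ t by omega]
      exact Nat.add_mod_left _ _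
  · rw [gen, gen, S.sd.refl_pow_even S.sd.smem S.sd.s_not
      (Dvd.dvd.mul_right (dvd_pow_self 2 (by omega)) _), eq_inv_iff_mul_eq_one, ← pow_add,
      ← mul_add, S.sd.pow_eq_one_iff]
    rw [flip', if_neg (by omega),
      show 2 * (2 ^ (t - j) - 1 - i) + 1 + (2 * i + 1) = 2 * 2 ^ (t - j) by omega,
      ← pow_succ', ← pow_add]
    exact pow_dvd_pow 2 (by omega)

theorem idx_facts {j u : ℕ} (hj : j < t) (hu : u < 2 ^ (t - j - 1)) :
    idx t j u < 2 ^ (t - j) ∧ 1 ≤ 2 ^ j * (2 * u + 1) ∧ 2 ^ j * (2 * u + 1) < 2 ^ t ∧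
      r ^ rexp t (2 ^ j * (2 * u + 1)) = S.gen j (idx t j u) := by
  obtain ⟨h1, h2, h3⟩ := S.q_facts
  have h := S.level_half hj
  have hlow : 2 ^ j * (2 * u + 1) < 2 ^ t := by
    have e : 2 ^ t = 2 ^ j * (2 * 2 ^ (t - j - 1)) := by
      rw [← pow_succ', ← pow_add]; congr 1; omega
    rw [e]
    exact Nat.mul_lt_mul_of_pos_left (by omega) (Nat.two_pow_pos j)
  have hone : 1 ≤ 2 ^ j * (2 * u + 1) :=
    Nat.one_le_iff_ne_zero.2 (Nat.mul_ne_zero (Nat.two_pow_pos j).ne' (by omega))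
  rcases Nat.eq_zero_or_pos j with rfl | hj0
  · rw [pow_zero, one_mul] at hone hlow
    simp only [Nat.sub_zero] at hu ⊢
    refine ⟨?_, by simp, by simpa using hlow, ?_⟩
    · rw [idx]; split_ifs <;> omega
    · simp only [gen, pow_zero, one_mul]
      congr 1
      rw [rexp, idx]
      split_ifs <;> omega
  · have hev : 2 ∣ 2 ^ j * (2 * u + 1) := Dvd.dvd.mul_right (dvd_pow_self 2 (by omega)) _
    refine ⟨?_, hone, hlow, ?_⟩
    · rw [idx, if_neg (by omega)]; omega
    · rw [gen, idx, if_neg (by omega), rexp, if_neg (by omega)]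

/-- Every index is a representative or the partner of one. -/
theorem exists_idx {j i : ℕ} (hj : j < t) (hi : i < 2 ^ (t - j)) :
    ∃ u < 2 ^ (t - j - 1), i = idx t j u ∨ i = flip' t j (idx t j u) := by
  obtain ⟨h1, h2, h3⟩ := S.q_facts
  have h := S.level_half hj
  rcases Nat.eq_zero_or_pos j with rfl | hj0
  · simp only [Nat.sub_zero] at hi ⊢
    by_cases a1 : i < 2 ^ (t - 2)
    · exact ⟨i, by omega, Or.inl (by rw [idx, if_neg (by omega)])⟩
    by_cases a2 : i < 2 ^ (t - 1)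
    · refine ⟨2 ^ (t - 1) - 1 - i, by omega, Or.inr ?_⟩
      rw [idx, if_neg (by omega), flip', if_pos rfl, if_pos (by omega)]
      omega
    by_cases a3 : i < 3 * 2 ^ (t - 2)
    · refine ⟨i - 2 ^ (t - 2), by omega, Or.inl ?_⟩
      rw [idx, if_pos ⟨rfl, by omega⟩]
      omega
    · refine ⟨5 * 2 ^ (t - 2) - 1 - i, by omega, Or.inr ?_⟩
      rw [idx, if_pos ⟨rfl, by omega⟩, flip', if_pos rfl, if_neg (by omega)]
      omega
  · by_cases a1 : i < 2 ^ (t - j - 1)
    · exact ⟨i, a1, Or.inl (by rw [idx, if_neg (by omega)])⟩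
    · refine ⟨2 ^ (t - j) - 1 - i, by omega, Or.inr ?_⟩
      rw [idx, if_neg (by omega), flip', if_neg (by omega)]
      omega

omit S in
theorem sum_reflect_two (n : ℕ) (f : ℕ → ℂ) (hf : ∀ i < n + n, f (n + n - 1 - i) = f i) :
    ∑ i ∈ Finset.range (n + n), f i = 2 * ∑ i ∈ Finset.range n, f i := by
  rw [Finset.sum_range_add, two_mul]
  refine congrArg (_ + ·) ?_
  rw [← Finset.sum_range_reflect (fun i => f (n + i))]
  refine Finset.sum_congr rfl fun i hi => ?_
  rw [Finset.mem_range] at hi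
  rw [show n + (n - 1 - i) = n + n - 1 - i by omega]
  exact hf i (by omega)

/-- A sum over a level against the representatives. -/
theorem level_sum {j : ℕ} (hj : j < t) (f : ℕ → ℂ)
    (hf : ∀ i < 2 ^ (t - j), f (flip' t j i) = f i) :
    ∑ i ∈ Finset.range (2 ^ (t - j)), f i =
      2 * ∑ u ∈ Finset.range (2 ^ (t - j - 1)), f (idx t j u) := by
  obtain ⟨h1, h2, h3⟩ := S.q_facts
  rcases Nat.eq_zero_or_pos j with rfl | hj0
  · simp only [Nat.sub_zero] at hf ⊢
    set p := 2 ^ (t - 2) with hp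
    rw [show 2 ^ t = p + p + (p + p) by omega, show 2 ^ (t - 1) = p + p by omega,
      Finset.sum_range_add f (p + p) (p + p),
      Finset.sum_range_add (fun u => f (idx t 0 u)) p p]
    have e1 : ∀ i < p + p, f (p + p - 1 - i) = f i := fun i hi => by
      have := hf i (by omega)
      rwa [flip', if_pos rfl, if_pos (by omega), show 2 ^ (t - 1) = p + p by omega] at this
    have e2 : ∀ i < p + p, (fun k => f (p + p + k)) (p + p - 1 - i) =
        (fun k => f (p + p + k)) i := fun i hi => by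
      show f (p + p + (p + p - 1 - i)) = f (p + p + i)
      have := hf (p + p + i) (by omega)
      rw [flip', if_pos rfl, if_neg (by omega)] at this
      rw [← this]
      congr 1
      omega
    rw [sum_reflect_two p f e1, sum_reflect_two p _ e2, ← mul_add]
    congr 2
    · exact Finset.sum_congr rfl fun u hu => by
        rw [Finset.mem_range] at hu
        rw [idx, if_neg (by omega)]
    · exact Finset.sum_congr rfl fun u hu => by
        rw [idx, if_pos ⟨rfl, by omega⟩]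
        congr 1
        omega
  · rw [S.level_half hj, sum_reflect_two _ f fun i hi => by
      have h := hf i (by rw [S.level_half hj]; exact hi)
      rwa [flip', if_neg (by omega), S.level_half hj] at h]
    refine congrArg (2 * ·) (Finset.sum_congr rfl fun u _ => ?_)
    rw [idx, if_neg (by omega)]

/-- Every rotation representative lies on a level. -/
theorem exists_level_of {i : ℕ} (h1 : 1 ≤ i) (h2 : i < 2 ^ t) :
    ∃ j u, j < t ∧ u < 2 ^ (t - j - 1) ∧ i = 2 ^ j * (2 * u + 1) := by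
  obtain ⟨j, m, hm, rfl⟩ := Nat.exists_eq_two_pow_mul_odd (n := i) (by omega)
  obtain ⟨u, rfl⟩ := hm
  have hj : j < t := by
    by_contra hc
    push Not at hc
    have h3 : 2 ^ t * 1 ≤ 2 ^ j * (2 * u + 1) :=
      Nat.mul_le_mul (Nat.pow_le_pow_right two_pos hc) (by omega)
    omega
  refine ⟨j, u, hj, ?_, rfl⟩
  have e : 2 ^ t = 2 ^ j * (2 * 2 ^ (t - j - 1)) := by
    rw [← pow_succ', ← pow_add]; congr 1; omega
  rw [e] at h2
  have := Nat.lt_of_mul_lt_mul_left h2
  omega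

variable {j : ℕ} (L : Lvl S j) (hj : j < t)

/-- The column of a level. -/
noncomputable def lcol (L : Lvl S j) (χ : IrrCharacter G) (i : ℕ) : ℂ :=
  aeval (zeta (t - j) ^ (2 * i + 1)) (L.A χ)

/-- The coefficients of a level. -/
noncomputable def lco (L : Lvl S j) (χ : IrrCharacter G) (k : ℕ) : ℤ := (L.A χ).coeff k

theorem lcol_eq (χ : IrrCharacter G) (i : ℕ) : S.lcol L χ i = L.o.col χ (S.gen j i) := by
  rw [lcol, gen, pow_mul, L.val χ _ ⟨i, rfl⟩]

theorem lcol_zero {χ : IrrCharacter G} (h : ∀ k < 2 ^ (t - j), S.lco L χ k = 0) (i : ℕ) :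
    S.lcol L χ i = 0 := by
  rw [lcol, aeval_eq_sum_range' (L.deg χ)]
  refine Finset.sum_eq_zero fun k hk => ?_
  rw [show (L.A χ).coeff k = 0 from h k (Finset.mem_range.1 hk), zero_smul]

include hj in
theorem lcol_flip (χ : IrrCharacter G) {i : ℕ} (hi : i < 2 ^ (t - j)) :
    S.lcol L χ (flip' t j i) = S.lcol L χ i := by
  rw [S.lcol_eq, S.lcol_eq, S.gen_flip hj hi]
  refine S.col_conj L.o (S.gen_bel hj i).symm (S.gen_memP j i) S.sd.smem ?_ χ
  rw [← S.gen_flip hj hi]
  refine DihBlk.zpowers_eq_of_orderOf (r := r) (S.gen_mem _ _) (S.gen_mem _ _) ?_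
  rw [S.gen_order hj, S.gen_order hj]

include hj in
theorem lcol_real (hj0 : 1 ≤ j) (χ : IrrCharacter G) (i : ℕ) :
    conj (S.lcol L χ i) = S.lcol L χ i := by
  rw [S.lcol_eq]
  exact S.col_real L.o (S.gen_bel hj i).symm (S.gen_memP j i) ⟨s, S.sd.smem,
    S.sd.refl_pow_even S.sd.smem S.sd.s_not (Dvd.dvd.mul_right (dvd_pow_self 2 (by omega)) _)⟩ χ

include hj in
/-- The part of a generator of the level. -/
theorem E_gen (i : ℕ) (χ η : IrrCharacter G) :
    SecRep.E 2 (S.gen j i, S.bel (S.gen j i)) χ η =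
      S.lcol L χ i * conj (S.lcol L η i) / (2 : ℂ) ^ (t + 1) := by
  have hP := S.gen_memP j i
  have hau : (S.bel (r ^ 2 ^ j)).1 = Subgroup.zpowers (S.gen j i) := by
    rw [← S.gen_bel hj i]; exact S.bel_fst hP
  have hd : blockDefect 2 (S.bel (r ^ 2 ^ j)).2 = t + 1 := by
    rw [← S.gen_bel hj i]
    exact S.defect_rotation (S.gen_mem j i) (S.gen_sq hj i)
  rw [S.gen_bel hj i, E_one S.hM L.o (S.ppow_mem hP) hau (S.bel_ofB (S.sd.pow_mem' _)), hd,
    ← S.lcol_eq, ← S.lcol_eq, Nat.cast_ofNat]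

variable [DecidablePred (· ∈ B)]

include hj in
theorem col_gram {i i' : ℕ} (hi : i < 2 ^ (t - j)) (hi' : i' < 2 ^ (t - j)) :
    ∑ χ ∈ Finset.univ.filter (· ∈ B), S.lcol L χ i * conj (S.lcol L χ i') =
      (if i' = i then (2 : ℂ) ^ (t + 1) else 0) +
        if i' = flip' t j i then (2 : ℂ) ^ (t + 1) else 0 := by
  have hau : ∀ i, (S.bel (r ^ 2 ^ j)).1 = Subgroup.zpowers (S.gen j i) := fun i => by
    rw [← S.gen_bel hj i]; exact S.bel_fst (S.gen_memP j i)
  have haB := S.bel_ofB (S.sd.pow_mem' (2 ^ j))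
  have hn : ∑ χ ∈ Finset.univ.filter (· ∈ B), S.lcol L χ i * conj (S.lcol L χ i) =
      (2 : ℂ) ^ (t + 1) := by
    simp only [S.lcol_eq]
    rw [L.o.norm S.hM (S.ppow_mem (S.gen_memP j i)) (hau i) haB, ← S.gen_bel hj i,
      S.defect_rotation (S.gen_mem j i) (S.gen_sq hj i), Nat.cast_ofNat]
  obtain ⟨hf1, hf2⟩ := S.flip_facts hj hi
  by_cases h1 : i' = i
  · subst h1; rw [if_pos rfl, if_neg (Ne.symm hf2), add_zero, hn]
  by_cases h2 : i' = flip' t j i
  · subst h2
    rw [if_neg h1, if_pos rfl, zero_add, ← hn]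
    exact Finset.sum_congr rfl fun χ _ => by rw [S.lcol_flip L hj χ hi]
  rw [if_neg h1, if_neg h2, add_zero]
  have h := DihBlk.sum_sct_cross (B := B) S.hM (S.ppow_mem (S.gen_memP j i))
    (S.ppow_mem (S.gen_memP j i')) (hau i) (hau i') haB haB (fun g hg he => ?_) (one_mem _)
    (by simp) (one_mem _) (by simp)
  · simp only [L.o.sct_one, map_mul, map_natCast, ← S.lcol_eq] at h
    have h3 : (∑ χ ∈ Finset.univ.filter (· ∈ B), S.lcol L χ i * conj (S.lcol L χ i')) *
        ((L.o.g0 : ℂ) * L.o.g0) = 0 := by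
      rw [Finset.sum_mul, ← h]
      exact Finset.sum_congr rfl fun χ _ => by ring
    exact (mul_eq_zero.1 h3).resolve_right (mul_ne_zero L.o.g0_ne L.o.g0_ne)
  · rcases S.rotation_fusion (S.gen_mem j i) (S.gen_mem j i')
      ⟨g, hg, by rw [S.gen_bel hj i, S.gen_bel hj i']; exact he⟩ with e | e
    · exact h1 (S.gen_inj hj.le hi' hi e)
    · rw [← S.gen_flip hj hi] at e
      exact h2 (S.gen_inj hj.le hi' hf1 e)

include hj in
/-- The Gram relations at a level. -/
theorem lco_gram {k k' : ℕ} (hk : k < 2 ^ (t - j)) (hk' : k' < 2 ^ (t - j)) :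
    ∑ χ ∈ Finset.univ.filter (· ∈ B), S.lco L χ k * S.lco L χ k' =
      2 ^ (j + 1) * ((if k = k' then 1 else 0) + (if j = 0 then (-1) ^ k' else 1) *
        ((if k + k' = 0 then 1 else 0) - if k + k' = 2 ^ (t - j) then 1 else 0)) := by
  have e : (2 : ℂ) ^ (t + 1) = (2 : ℂ) ^ (t - j) * (2 : ℂ) ^ (j + 1) := by
    rw [← pow_add]; congr 1; omega
  rcases Nat.eq_zero_or_pos j with rfl | hj0
  · obtain ⟨h1, h2, h3⟩ := S.q_facts
    have h := gram_flip (Finset.univ.filter (· ∈ B)) L.A L.deg ((2 : ℂ) ^ (t + 1)) (flip' t 0)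
      (fun i hi => by
        refine ⟨(S.flip_facts hj hi).1, ?_⟩
        rw [Nat.sub_zero] at hi ⊢
        rw [flip', if_pos rfl]
        split_ifs <;> omega)
      (fun i hi i' hi' => S.col_gram L hj hi hi') hk hk'
    rw [e, mul_assoc] at h
    have h2 := mul_left_cancel₀ (pow_ne_zero _ two_ne_zero) h
    apply Int.cast_injective (α := ℂ)
    simp only [lco, if_true]
    push_cast
    push_cast at h2
    rw [h2, pow_one]
  · have h := QuatBlk.gram (Finset.univ.filter (· ∈ B)) L.A L.deg ((2 : ℂ) ^ (t + 1))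
      (fun i hi i' hi' => by
        have := S.col_gram L hj hi hi'
        rwa [flip', if_neg (show ¬ j = 0 by omega)] at this) hk hk'
    rw [e, mul_assoc] at h
    have h2 := mul_left_cancel₀ (pow_ne_zero _ two_ne_zero) h
    apply Int.cast_injective (α := ℂ)
    simp only [lco, if_neg (show ¬ j = 0 by omega), one_mul]
    push_cast
    push_cast at h2
    rw [h2]
    ring

omit hj L in
/-- The first level is symmetric up to sign. -/
theorem lco_anti (L : Lvl S 0) {k : ℕ} (h1 : 1 ≤ k) (hk : k < 2 ^ t) {χ : IrrCharacter G}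
    (hχ : χ ∈ B) : S.lco L χ (2 ^ t - k) = -(-1) ^ k * S.lco L χ k := by
  have h0 : 0 < t := by have := S.sd.pos; omega
  have hk' : k < 2 ^ (t - 0) := by simpa using hk
  have hl : 2 ^ t - k < 2 ^ (t - 0) := by rw [Nat.sub_zero]; omega
  have a := S.lco_gram L h0 hk' hk'
  have b := S.lco_gram L h0 hl hl
  have c := S.lco_gram L h0 hk' hl
  simp only [Nat.sub_zero, zero_add, pow_one, if_true] at a b c
  rw [if_neg (show ¬ k + k = 0 by omega)] at a
  rw [if_neg (show ¬ 2 ^ t - k + (2 ^ t - k) = 0 by omega)] at b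
  rw [if_neg (show ¬ k + (2 ^ t - k) = 0 by omega),
    if_pos (show k + (2 ^ t - k) = 2 ^ t by omega)] at c
  obtain ⟨e1, e2, -⟩ := S.q_facts
  have hsgn : (-1 : ℤ) ^ (2 ^ t - k) = (-1) ^ k := by
    have h2 : (-1 : ℤ) ^ (2 ^ t - k) * (-1) ^ k = 1 := by
      rw [← pow_add, Nat.sub_add_cancel hk.le, Even.neg_one_pow ⟨2 ^ (t - 1), by omega⟩]
    rcases neg_one_pow_eq_or ℤ k with h | h <;> rw [h] at h2 ⊢ <;> linarith
  rw [hsgn] at b c
  have hsum : ∑ η ∈ Finset.univ.filter (· ∈ B),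
      (S.lco L η (2 ^ t - k) + (-1) ^ k * S.lco L η k) ^ 2 = 0 := by
    rw [Finset.sum_congr rfl (g := fun η : IrrCharacter G => S.lco L η (2 ^ t - k) *
      S.lco L η (2 ^ t - k) + 2 * (-1) ^ k * (S.lco L η k * S.lco L η (2 ^ t - k)) +
        S.lco L η k * S.lco L η k) fun η _ => by
          rcases neg_one_pow_eq_or ℤ k with h | h <;> rw [h] <;> ring,
      Finset.sum_add_distrib, Finset.sum_add_distrib, ← Finset.mul_sum, a, b, c]
    by_cases e : k = 2 ^ t - k
    · have hev : (-1 : ℤ) ^ k = 1 := Even.neg_one_pow ⟨2 ^ (t - 2), by omega⟩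
      rw [if_pos e, if_pos (show k + k = 2 ^ t by omega),
        if_pos (show 2 ^ t - k + (2 ^ t - k) = 2 ^ t by omega), hev]
      norm_num
    · rw [if_neg e, if_neg (show ¬ k + k = 2 ^ t by omega),
        if_neg (show ¬ 2 ^ t - k + (2 ^ t - k) = 2 ^ t by omega)]
      rcases neg_one_pow_eq_or ℤ k with h | h <;> rw [h] <;> norm_num
  have := (Finset.sum_eq_zero_iff_of_nonneg fun η _ => sq_nonneg
    (S.lco L η (2 ^ t - k) + (-1) ^ k * S.lco L η k)).1 hsum χ (by simp [hχ])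
  rw [pow_eq_zero_iff two_ne_zero] at this
  linarith

include hj in
/-- The sum of the coefficients has the parity of the constant one. -/
theorem lco_parity {χ : IrrCharacter G} (hχ : χ ∈ B) :
    (2 : ℤ) ∣ (∑ i ∈ Finset.range (2 ^ (t - j)), S.lco L χ i) - S.lco L χ 0 := by
  rcases Nat.eq_zero_or_pos j with rfl | hj0
  · obtain ⟨e1, e2, -⟩ := S.q_facts
    rw [Nat.sub_zero]
    have hfix : ((∑ i ∈ (Finset.range (2 ^ t)).erase 0, S.lco L χ i : ℤ) : ZMod 2) = 0 := by
      push_cast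
      refine Finset.sum_involution (fun i _ => 2 ^ t - i) (fun i hi => ?_) (fun i hi hne hfi => ?_)
        (fun i hi => ?_) fun i hi => ?_
      · simp only [Finset.mem_erase, Finset.mem_range] at hi
        rw [S.lco_anti L (by omega) hi.2 hχ]
        push_cast
        rw [show (-1 : ZMod 2) = 1 from rfl, one_pow, neg_mul, one_mul, add_neg_cancel]
      · simp only [Finset.mem_erase, Finset.mem_range] at hi
        refine hne ?_
        have h := S.lco_anti L (k := i) (by omega) hi.2 hχ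
        rw [hfi, Even.neg_one_pow ⟨2 ^ (t - 2), by omega⟩] at h
        rw [show S.lco L χ i = 0 by linarith]
        rfl
      · simp only [Finset.mem_erase, Finset.mem_range] at hi ⊢
        omega
      · simp only [Finset.mem_erase, Finset.mem_range] at hi
        omega
    rw [← Finset.add_sum_erase _ _ (Finset.mem_range.2 (Nat.two_pow_pos t)), add_sub_cancel_left]
    exact (ZMod.intCast_zmod_eq_zero_iff_dvd _ _).1 hfix
  · have hreal : conj (aeval (zeta (t - j)) (L.A χ)) = aeval (zeta (t - j)) (L.A χ) := by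
      have h := S.lcol_real L hj hj0 χ 0
      simpa [lcol] using h
    exact CycloTwo.parity_of_real S.hM (zeta_half _) (L.deg χ) hreal

include hj in
/-- The diagonal over a level. -/
theorem level_diag (χ : IrrCharacter G) :
    2 * ∑ u ∈ Finset.range (2 ^ (t - j - 1)),
        SecRep.E 2 (S.gen j (idx t j u), S.bel (S.gen j (idx t j u))) χ χ =
      (2 : ℂ) ^ (t - j) / (2 : ℂ) ^ (t + 1) *
        ∑ k ∈ Finset.range (2 ^ (t - j)), ((S.lco L χ k ^ 2 : ℤ) : ℂ) := by
  have h : ∑ i ∈ Finset.range (2 ^ (t - j)),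
      SecRep.E 2 (S.gen j i, S.bel (S.gen j i)) χ χ =
      (2 : ℂ) ^ (t - j) / (2 : ℂ) ^ (t + 1) *
        ∑ k ∈ Finset.range (2 ^ (t - j)), ((S.lco L χ k ^ 2 : ℤ) : ℂ) := by
    rw [Finset.sum_congr rfl fun i _ => S.E_gen L hj i χ χ, ← Finset.sum_div]
    simp only [lcol, lco]
    rw [parseval (L.deg χ)]
    ring
  rw [← h, S.level_sum hj _ fun i hi => ?_]
  rw [S.E_gen L hj, S.E_gen L hj, S.lcol_flip L hj χ hi]

omit [DecidablePred (· ∈ B)] in
include hj in
/-- On the height zero characters the constant coefficient is odd. -/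
theorem lco_odd [DecidablePred (· ∈ B)] {χ : IrrCharacter G} (hχ : χ ∈ B)
    (h0 : blockHeight 2 B (χ : G → ℂ) = 0) : Odd (S.lco L χ 0) := by
  have hP := S.sd.pow_mem' (2 ^ j)
  have hu := L.o.unit S.hM (S.ppow_mem hP) (S.bel_fst hP) (S.bel_ofB hP) hχ h0
  have hv := L.val χ 1 odd_one
  rw [pow_one, pow_one] at hv
  rw [hv] at hu
  rw [← Int.not_even_iff_odd, even_iff_two_dvd]
  intro hd
  refine hu ((ideal_congr S.hM (eval_congr S.hM (L.deg χ))).2 ?_)
  rw [ideal_intCast_iff S.hM]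
  exact (dvd_sub_left hd).1 (S.lco_parity L hj hχ)

include hj in
theorem gen_rep (u : ℕ) (hu : u < 2 ^ (t - j - 1)) :
    (S.gen j (idx t j u), S.bel (S.gen j (idx t j u))) ∈ S.reps := by
  obtain ⟨-, h1, h2, h3⟩ := S.idx_facts hj hu
  rw [← h3]
  exact S.reps_mem (Or.inr (Or.inr (Or.inl ⟨_, h1, h2, rfl⟩)))

include hj in
/-- A linear combination annihilated on the representatives of the level annihilates the
coefficients. -/
theorem kill_lco (F : IrrCharacter G → ℂ)
    (h : ∀ u < 2 ^ (t - j - 1),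
      ∑ χ ∈ Finset.univ.filter (· ∈ B), F χ * S.lcol L χ (idx t j u) = 0) {k : ℕ}
    (hk : k < 2 ^ (t - j)) :
    ∑ χ ∈ Finset.univ.filter (· ∈ B), F χ * (S.lco L χ k : ℂ) = 0 := by
  have hall : ∀ i < 2 ^ (t - j), ∑ χ ∈ Finset.univ.filter (· ∈ B), F χ * S.lcol L χ i = 0 := by
    intro i hi
    obtain ⟨u, hu, hiu | hiu⟩ := S.exists_idx hj hi
    · rw [hiu]; exact h u hu
    · rw [hiu, ← h u hu]
      exact Finset.sum_congr rfl fun χ _ => by rw [S.lcol_flip L hj χ (S.idx_facts hj hu).1]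
  refine mul_left_cancel₀ (pow_ne_zero (t - j) (two_ne_zero (α := ℂ))) ?_
  rw [mul_zero, Finset.mul_sum, Finset.sum_congr rfl fun χ _ => by
    rw [lco, mul_left_comm, ← coeff_inv (L.deg χ) hk, Finset.mul_sum], Finset.sum_comm]
  refine Finset.sum_eq_zero fun i hi => ?_
  rw [Finset.sum_congr rfl (g := fun χ : IrrCharacter G => F χ * S.lcol L χ i *
      zeta (t - j) ^ ((2 * i + 1) * (2 ^ (t - j + 1) - k))) fun χ _ => by rw [lcol]; ring,
    ← Finset.sum_mul, hall i (Finset.mem_range.1 hi), zero_mul]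

include hj in
/-- The degrees are orthogonal to a level. -/
theorem degree_lco {k : ℕ} (hk : k < 2 ^ (t - j)) :
    ∑ χ ∈ Finset.univ.filter (· ∈ B), (charDegree (χ : G → ℂ) : ℤ) * S.lco L χ k = 0 := by
  have h : ∑ χ ∈ Finset.univ.filter (· ∈ B), (χ : G → ℂ) 1 * (S.lco L χ k : ℂ) = 0 := by
    refine S.kill_lco L hj _ (fun u hu => ?_) hk
    set i := idx t j u
    have hne : (S.gen j i, S.bel (S.gen j i)) ≠ ((1 : G), S.bel 1) := fun e =>
      S.gen_sq hj i (by rw [show S.gen j i = 1 from congrArg Prod.fst e, mul_one])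
    have h := S.isReps.cross S.hM (S.gen_rep hj u hu)
      (S.reps_mem (Or.inl rfl)) hne (s := 1) (s' := 1)
      (mem_regs.2 ⟨one_mem _, by simp⟩) (mem_regs.2 ⟨one_mem _, by simp⟩)
    have hval : ∀ χ ∈ Finset.univ.filter (· ∈ B), (χ : G → ℂ) 1 =
        sct (χ : G → ℂ) (S.bel 1) 1 1 := fun χ hχ => by
      have h1 := DihBlk.value_eq_pairs S.hM S.isBlock (Finset.mem_filter.1 hχ).2
        (x := (1 : G)) ⟨0, by simp⟩ (one_mem _) (by simp)
      rw [mul_one] at h1
      rw [h1]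
      refine Finset.sum_eq_single (S.bel 1) (fun a ha hne => absurd ?_ hne) fun h => absurd
        (mem_pairsAt.2 ⟨S.bel_fst (one_mem _), S.bel_ofB (one_mem _)⟩) h
      obtain ⟨h2, h3⟩ := mem_pairsAt.1 ha
      exact S.bel_unique h2 (eq_bot_pair S.hM S.max (h2.trans Subgroup.zpowers_one_eq_bot) h3)
    have h3 : (∑ χ ∈ Finset.univ.filter (· ∈ B), (χ : G → ℂ) 1 * S.lcol L χ i) *
        (L.o.g0 : ℂ) = 0 := by
      rw [Finset.sum_mul, ← h]
      refine Finset.sum_congr rfl fun χ hχ => ?_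
      rw [← hval χ hχ, charDeg_spec', map_natCast, ← charDeg_spec', S.gen_bel hj i, L.o.sct_one,
        S.lcol_eq]
      ring
    exact (mul_eq_zero.1 h3).resolve_right L.o.g0_ne
  apply Int.cast_injective (α := ℂ)
  push_cast
  rw [← h]
  exact Finset.sum_congr rfl fun χ _ => by rw [charDeg_spec']

include hj in
/-- The coefficients of a character vanishing below the level are divisible. -/
theorem lco_dvd (hj0 : 1 ≤ j) {w η : IrrCharacter G} (hη : η ∈ B)
    (h0 : blockHeight 2 B (η : G → ℂ) = 0)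
    (hlow : ∀ i, 1 ≤ i → i < 2 ^ t → ¬ 2 ^ j ∣ i →
      SecRep.E 2 (r ^ rexp t i, S.bel (r ^ rexp t i)) w η = 0)
    (hu : ∀ v ∈ S.uset, SecRep.E 2 (v, S.bel v) w η = 0) (k : ℕ) :
    (2 : ℤ) ^ j ∣ S.lco L w k := by
  have hint := S.int_level w hη hj0 hj hlow hu
  have hP := S.sd.pow_mem' (2 ^ j)
  have hgen : S.gen j 0 = r ^ 2 ^ j := by simp [gen]
  have hE := S.E_gen L hj 0 w η
  rw [hgen] at hE
  rw [hE, S.lcol_real L hj hj0] at hint
  have e : (2 : ℂ) ^ (t + 1 - j) * (S.lcol L w 0 * S.lcol L η 0 / (2 : ℂ) ^ (t + 1)) =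
      S.lcol L w 0 / (2 : ℂ) ^ j * S.lcol L η 0 := by
    rw [show (2 : ℂ) ^ (t + 1) = (2 : ℂ) ^ (t + 1 - j) * (2 : ℂ) ^ j by
      rw [← pow_add]; congr 1; omega]
    field_simp
  rw [e] at hint
  have hunit : ¬ MemLocalIdeal M (S.lcol L η 0) := by
    rw [S.lcol_eq, hgen]
    exact L.o.unit S.hM (S.ppow_mem hP) (S.bel_fst hP) (S.bel_ofB hP) hη h0
  have hring : MemLocalRing M (S.lcol L η 0) := by
    rw [S.lcol_eq, hgen]
    exact ring_of_integral S.hM (L.o.col_isIntegral (DihBlk.One.comm_of_gen (S.bel_fst hP)) η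
      (S.bel_fst hP ▸ Subgroup.mem_zpowers _))
  have h1 := ring_mul S.hM (ring_of_integral S.hM hint) (ring_inv S.hM hring hunit)
  have hne0 : S.lcol L η 0 ≠ 0 := fun e0 => hunit (e0 ▸ ideal_zero S.hM)
  rw [mul_inv_cancel_right₀ hne0, lcol, mul_zero, zero_add, pow_one] at h1
  obtain ⟨A', hA', -⟩ := CycloTwo.exists_div S.hM (zeta_half _) (L.deg w) j h1
  exact ⟨A'.coeff k, by rw [lco, hA', coeff_C_mul]⟩

omit hj L [DecidablePred (· ∈ B)] in
/-- The column of a class outside the rotations is integral. -/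
theorem refl_col {v : G} (hv : v ∈ S.uset) (o : DihBlk.One 2 (S.bel v)) (χ : IrrCharacter G) :
    ∃ c : ℤ, o.col χ v = c := by
  obtain ⟨hvP, hvr, -, -⟩ := S.uset_mem hv
  have hv1 : v ≠ 1 := fun e => hvr (e ▸ one_mem _)
  rcases S.sd.refl_sq hvP hvr with hvv | hvv
  · obtain ⟨A, hA, hval⟩ := S.exists_col_poly o (S.bel_fst hvP) (J := 0)
      ((orderOf_eq_prime (p := 2) (by rw [pow_two, hvv]) hv1).trans (by norm_num)) χ
    refine ⟨A.coeff 0, ?_⟩
    have h1 := hval 1 odd_one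
    rw [pow_one, pow_one, aeval_eq_sum_range' hA] at h1
    simpa using h1
  · obtain ⟨A, hA, hval⟩ := S.exists_col_poly o (S.bel_fst hvP) (J := 1)
      (orderOf_eq_prime_pow (p := 2) (n := 1)
        (by rw [pow_one, pow_two, hvv]; exact S.sd.z_ne_one)
        (by rw [show 2 ^ (1 + 1) = 2 * 2 from rfl, pow_mul, pow_two, pow_two, hvv,
          S.sd.z_mul_self])) χ
    refine ⟨A.coeff 0, ?_⟩
    have h1 := hval 1 odd_one
    have h2 := S.col_real o rfl hvP (S.sd.refl_inverts hvP hvr) χ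
    rw [pow_one, pow_one, aeval_eq_sum_range' hA] at h1
    simp only [pow_one, Finset.sum_range_succ, Finset.sum_range_zero, zero_add, pow_zero,
      zsmul_eq_mul, mul_one] at h1
    have hz : conj (zeta 1) = -zeta 1 := by
      have h3 := zeta_conj_pow (J := 1) (n := 1) (k := 1) (by norm_num)
      norm_num at h3
      rw [h3, pow_succ, show zeta 1 ^ 2 = -1 by simpa using zeta_half 1]
      ring
    rw [h1, map_add, map_mul, map_intCast, map_intCast, hz] at h2
    have hz0 : zeta 1 ≠ 0 := fun e => by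
      have := zeta_half 1
      rw [e, zero_pow (by norm_num)] at this
      norm_num at this
    have h4' : (A.coeff 1 : ℂ) * zeta 1 = 0 := by linear_combination (-1 / 2 : ℂ) * h2
    rw [h1, (mul_eq_zero.1 h4').resolve_right hz0]
    simp

omit hj L in
/-- On a class outside the rotations the column is odd on the four characters of height zero and
zero elsewhere. -/
theorem refl_col_parity (h4 : ((Finset.univ.filter (· ∈ B)).filter fun χ : IrrCharacter G =>
      blockHeight 2 B (χ : G → ℂ) = 0).card = 4) {v : G} (hv : v ∈ S.uset)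
    (o : DihBlk.One 2 (S.bel v)) {χ : IrrCharacter G} (hχ : χ ∈ B) {c : ℤ}
    (hc : o.col χ v = c) :
    (blockHeight 2 B (χ : G → ℂ) = 0 → Odd c) ∧ (blockHeight 2 B (χ : G → ℂ) ≠ 0 → c = 0) := by
  classical
  obtain ⟨hvP, -⟩ := S.uset_mem hv
  have hd := S.uset_defect hv
  have hu := S.ppow_mem hvP
  choose c' hc' using S.refl_col hv o
  obtain rfl : c' χ = c := Int.cast_injective (α := ℂ) ((hc' χ).symm.trans hc)
  have hne : ∀ η ∈ (Finset.univ.filter (· ∈ B)).filter (fun χ : IrrCharacter G =>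
      blockHeight 2 B (χ : G → ℂ) = 0), c' η ≠ 0 := by
    intro η hη e
    obtain ⟨hηB, hη0⟩ := Finset.mem_filter.1 hη
    exact o.unit S.hM hu (S.bel_fst hvP) (S.bel_ofB hvP) (Finset.mem_filter.1 hηB).2 hη0
      (by rw [hc', e, Int.cast_zero]; exact ideal_zero S.hM)
  have hsum : ∑ η ∈ Finset.univ.filter (· ∈ B), c' η ^ 2 = 4 := by
    have h := o.norm S.hM hu (S.bel_fst hvP) (S.bel_ofB hvP)
    simp only [hc', map_intCast, hd] at h
    apply Int.cast_injective (α := ℂ)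
    push_cast
    rw [show (4 : ℂ) = ((2 : ℕ) : ℂ) ^ 2 by norm_num, ← h]
    exact Finset.sum_congr rfl fun η _ => by ring
  obtain ⟨h1, h2⟩ := QuatBlk.tight (Finset.filter_subset _ _) hne (by rw [hsum, h4]; rfl)
  have hA : χ ∈ Finset.univ.filter (· ∈ B) := by simp [hχ]
  exact ⟨fun h0 => by
    rcases h1 χ (Finset.mem_filter.2 ⟨hA, h0⟩) with e | e <;> rw [e] <;> decide,
    fun h0 => h2 χ hA fun hm => h0 (Finset.mem_filter.1 hm).2⟩

omit hj L in
/-- The parts of the classes outside the rotations vanish off the characters of height zero. -/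
theorem u_vanish (h4 : ((Finset.univ.filter (· ∈ B)).filter fun χ : IrrCharacter G =>
      blockHeight 2 B (χ : G → ℂ) = 0).card = 4) {v : G} (hv : v ∈ S.uset) {w : IrrCharacter G}
    (hw : w ∈ B) (hh : blockHeight 2 B (w : G → ℂ) ≠ 0) (η : IrrCharacter G) :
    SecRep.E 2 (v, S.bel v) w η = 0 := by
  obtain ⟨hvP, -⟩ := S.uset_mem hv
  obtain ⟨o⟩ := DihBlk.exists_one S.hM (S.bel_ofB hvP).1.2 (S.uset_rank hv)
  obtain ⟨c, hc⟩ := S.refl_col hv o w
  rw [E_one S.hM o (S.ppow_mem hvP) (S.bel_fst hvP) (S.bel_ofB hvP), hc,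
    (S.refl_col_parity h4 hv o hw hc).2 hh, Int.cast_zero, zero_mul, zero_div]

end Setup

end Cfsg.Agent.Char.SemiBlk
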