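import Cfsg.Agent.Lib.Char.SemiBlockShape

/-!
The part at the central involution of a 2-block with semidihedral defect group: its integrality,
read in the centralizer, and a sharper divisibility for the characters vanishing on the rotations.
-/

open scoped ComplexConjugate

namespace Cfsg.Agent.Char.SemiBlk

open Cfsg Cfsg.Agent.Block Cfsg.Agent.Char Cfsg.Agent.Char.BP Cfsg.Agent.Char.Spec
open Cfsg.Agent.Char.QuatBlk (zeta zeta_half E_one cs cs_quarter)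

set_option linter.unusedSectionVars false
set_option linter.style.haveILetI false
set_option maxHeartbeats 800000

universe u

variable {G : Type u} [Group G] [Fintype G] {M : Ideal AlgInt} {B : Set (IrrCharacter G)}
variable {P : Subgroup G} {e : Set (IrrCharacter (CG P))} {r s : G} {t : ℕ}

namespace Setup

variable (S : Setup M B P e r s t)
include S

/-- A nontrivial rotation has the involution among its powers. -/
theorem z_mem_zpowers {x : G} (hx : x ∈ Subgroup.zpowers r) (hx1 : x ≠ 1) :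
    r ^ 2 ^ t ∈ Subgroup.zpowers x := by
  obtain ⟨k, hk⟩ := S.ppow_mem ((Subgroup.zpowers_le.2 S.sd.mem) hx)
  rcases k with _ | k
  · rw [pow_zero, orderOf_eq_one_iff] at hk
    exact absurd hk hx1
  have h1 : x ^ 2 ^ k * x ^ 2 ^ k = 1 := by
    rw [← pow_add, ← two_mul, ← pow_succ', ← hk, pow_orderOf_eq_one]
  rcases S.sd.rot_sq (pow_mem hx _) h1 with e | e
  · exfalso
    have h2 := Nat.le_of_dvd (Nat.two_pow_pos _) (orderOf_dvd_of_pow_eq_one e)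
    rw [hk, pow_succ] at h2
    have := Nat.two_pow_pos k
    omega
  · rw [← e]
    exact pow_mem (Subgroup.mem_zpowers x) _

section Central

variable (hzc : ∀ g : G, g * r ^ 2 ^ t = r ^ 2 ^ t * g)
include hzc

/-- In the centralizer the first induced character is stable. -/
theorem psi_one_fus {v v' : G} (hv : v ∈ P) (hv' : v' ∈ P) (h : S.Fus v v') :
    S.sd.psi 1 v = S.sd.psi 1 v' := by
  have ho := S.fus_order h
  have hfix : ∀ {a b : G}, S.Fus a b → (∀ g : G, g * a = a * g) → b = a := by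
    rintro a b ⟨g, rfl, -⟩ hc
    rw [hc g, mul_inv_cancel_right]
  have hcen : ∀ {a b : G}, S.Fus a b → a ∈ Subgroup.zpowers r → a * a = 1 → b = a := by
    intro a b hab ha haa
    rcases S.sd.rot_sq ha haa with e | e <;> subst e
    · exact hfix hab fun g => by simp
    · exact hfix hab hzc
  have hzero : ∀ {x}, x ∈ P → x * x ≠ 1 → orderOf x ∣ 4 → S.sd.psi 1 x = 0 := by
    intro x hx hxx h4
    by_cases hxr : x ∈ Subgroup.zpowers r
    · have hq : sp t 1 (2 ^ (t - 1)) = 0 := by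
        have h2 : 2 ∣ 2 ^ (t - 1) := dvd_pow_self 2 (by have := S.sd.pos; omega)
        rw [sp_even h2]
        obtain ⟨d, hd⟩ : ∃ d, t = d + 1 := ⟨t - 1, by have := S.sd.pos; omega⟩
        rw [hd, Nat.add_sub_cancel]
        exact (cs_quarter d 1).1 odd_one
      rcases S.quarter_cases hxr h4 hxx with e | e <;> subst e
      · rw [S.sd.psi_pow, hq]
      · rw [← S.sd.refl_pow_even S.sd.smem S.sd.s_not
          (dvd_pow_self 2 (by have := S.sd.pos; omega)), S.sd.refl_pow S.sd.smem S.sd.s_not,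
          S.sd.psi_pow, sp_flip (by have := S.sd.pos; omega), hq]
    · exact S.sd.psi_refl 1 hxr
  by_cases hvv : v * v = 1
  · by_cases hvr : v ∈ Subgroup.zpowers r
    · rw [hcen h hvr hvv]
    · have hvv' : v' * v' = 1 := by
        obtain ⟨g, rfl, -⟩ := h
        rw [conj_mul, hvv, mul_one, mul_inv_cancel]
      have hvr' : v' ∉ Subgroup.zpowers r := fun hc =>
        hvr (hcen (S.fus_symm h) hc hvv' ▸ hc)
      rw [S.sd.psi_refl 1 hvr, S.sd.psi_refl 1 hvr']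
  have hvv' : v' * v' ≠ 1 := fun e => hvv (by
    obtain ⟨g, rfl, -⟩ := h
    rwa [conj_mul, conj_eq_one_iff] at e)
  by_cases h4 : orderOf v ∣ 4
  · rw [hzero hv hvv h4, hzero hv' hvv' (ho ▸ h4)]
  have hr : ∀ {x}, x ∈ P → ¬ orderOf x ∣ 4 → x ∈ Subgroup.zpowers r := by
    intro x hx hn
    by_contra hxr
    refine hn (orderOf_dvd_iff_pow_eq_one.2 ?_)
    rw [show 4 = 2 * 2 from rfl, pow_mul, pow_two, pow_two]
    rcases S.sd.refl_sq hx hxr with e | e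
    · rw [e, one_mul]
    · rw [e, S.sd.z_mul_self]
  have hvr := hr hv h4
  obtain ⟨i, -, rfl⟩ := (S.sd.mem_cases hv).resolve_right (fun hn => hn hvr)
  rcases S.rotation_fusion hvr (hr hv' (ho ▸ h4)) h with rfl | rfl
  · rfl
  · rw [S.sd.refl_pow S.sd.smem S.sd.s_not, S.sd.psi_pow, S.sd.psi_pow,
      sp_flip (by have := S.sd.pos; omega)]

/-- The twist by the first induced character, less twice the resolution. -/
theorem psi_one_int {χ η : IrrCharacter G} (hχ : χ ∈ B) (hη : η ∈ B) :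
    ∃ n : ℤ, -4 * SecRep.E 2 (r ^ 2 ^ t, S.bel (r ^ 2 ^ t)) χ η +
      (∑ i ∈ Finset.Ico 1 (2 ^ t), (sp t 1 (rexp t i) - 2) *
        SecRep.E 2 (r ^ rexp t i, S.bel (r ^ rexp t i)) χ η) -
      2 * ∑ v ∈ S.uset, SecRep.E 2 (v, S.bel v) χ η = n := by
  classical
  obtain ⟨N, hN⟩ := S.twist_int (f := S.sd.psi 1) (fun v hv v' hv' h => S.psi_one_fus hzc hv hv' h)
    (S.sd.genChar_psi 1) χ hη
  refine ⟨N - 2 * if χ = η then 1 else 0, ?_⟩
  have hres := S.isReps.resolution S.hM S.isBlock hχ hη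
  rw [S.sum_reps (fun a => SecRep.E 2 a χ η)] at hres
  rw [S.sum_reps (fun a => S.sd.psi 1 a.1 * SecRep.E 2 a χ η)] at hN
  have h1 : S.sd.psi 1 1 = 2 := by
    rw [← pow_zero r, S.sd.psi_pow, sp]; norm_num
  have hz : S.sd.psi 1 (r ^ 2 ^ t) = -2 := by
    rw [S.sd.psi_pow, sp, one_mul, one_mul, zeta_half, mul_comm, pow_mul, zeta_half,
      Odd.neg_one_pow ⟨2 ^ (t - 1) - 1, by
        have h2 : 2 ^ t = 2 * 2 ^ (t - 1) := by
          rw [← pow_succ', Nat.sub_add_cancel (by have := S.sd.pos; omega)]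
        have := Nat.two_pow_pos (t - 1)
        omega⟩]
    norm_num
  rw [h1, hz, Finset.sum_congr rfl (g := fun i => sp t 1 (rexp t i) *
      SecRep.E 2 (r ^ rexp t i, S.bel (r ^ rexp t i)) χ η) fun i _ => by rw [S.sd.psi_pow],
    Finset.sum_eq_zero (s := S.uset) fun v hv => by
      rw [S.sd.psi_refl 1 (S.uset_mem hv).2.1, zero_mul]] at hN
  simp only [sub_mul, Finset.sum_sub_distrib, ← Finset.mul_sum]
  push_cast
  linear_combination hN - 2 * hres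

end Central

/-- The part at the involution is integral. -/
theorem exists_y : ∃ y : IrrCharacter G → IrrCharacter G → ℤ, ∀ χ η,
    (2 : ℂ) ^ (t + 2) * SecRep.E 2 (r ^ 2 ^ t, S.bel (r ^ 2 ^ t)) χ η = y χ η := by
  classical
  obtain ⟨hr, hs, e', S', hzc, hbel⟩ := S.exists_local
  letI := Fintype.ofFinite (CG (S.bel (r ^ 2 ^ t)).1)
  suffices h : ∀ χ η : IrrCharacter G, ∃ y : ℤ,
      (2 : ℂ) ^ (t + 2) * SecRep.E 2 (r ^ 2 ^ t, S.bel (r ^ 2 ^ t)) χ η = y by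
    choose y hy using h
    exact ⟨y, hy⟩
  intro χ η
  obtain ⟨g, hg⟩ := S'.exists_g
  set x : CG (S.bel (r ^ 2 ^ t)).1 := ⟨r, hr⟩ ^ 2 ^ t with hxdef
  have hx : (x : G) = r ^ 2 ^ t := by simp [hxdef]
  have h := S.E_local S' (fun v hv hz => hbel v hv hz) (x := x) (by rw [hx]; exact S.sd.pow_mem' _)
    (by rw [hx]; exact Subgroup.mem_zpowers _) χ η
  rw [hx] at h
  choose σ hσ using fun ξ : IrrCharacter (CG (S.bel (r ^ 2 ^ t)).1) =>
    (show ∃ a : ℤ, centralChar (ξ : CG (S.bel (r ^ 2 ^ t)).1 → ℂ) x = a from by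
      rcases mul_self_eq_one_iff.1 (S'.omega_sq hzc ξ) with e | e
      · exact ⟨1, by rw [e]; simp⟩
      · exact ⟨-1, by rw [e]; simp⟩)
  refine ⟨∑ ξ ∈ Finset.univ.filter (· ∈ (S.bel (r ^ 2 ^ t)).2),
    ∑ ξ' ∈ Finset.univ.filter (· ∈ (S.bel (r ^ 2 ^ t)).2),
      (Glaub.mult _ (χ : G → ℂ) (ξ : CG (S.bel (r ^ 2 ^ t)).1 → ℂ) : ℤ) *
        (Glaub.mult _ (η : G → ℂ) (ξ' : CG (S.bel (r ^ 2 ^ t)).1 → ℂ) : ℤ) *
          (σ ξ * σ ξ' * g ξ ξ'), ?_⟩
  rw [h, Finset.mul_sum, Int.cast_sum]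
  refine Finset.sum_congr rfl fun ξ hξ => ?_
  rw [Finset.mul_sum, Int.cast_sum]
  refine Finset.sum_congr rfl fun ξ' hξ' => ?_
  rw [S'.E_z_eq hzc (Finset.mem_filter.1 hξ).2 (Finset.mem_filter.1 hξ').2, ← hxdef, hσ, hσ,
    map_intCast]
  push_cast
  rw [← hg ξ ξ' (Finset.mem_filter.1 hξ').2]
  ring

variable {g : IrrCharacter G → IrrCharacter G → ℤ}
  (hg : ∀ χ, ∀ η ∈ B, (2 : ℂ) ^ (t + 2) * SecRep.E 2 (1, S.bel 1) χ η = g χ η)
variable [DecidablePred (· ∈ B)]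
include hg

/-- A character of positive height vanishing on the rotations has small parts at the involution. -/
theorem four_int {w : IrrCharacter G} (hw : w ∈ B) (hh : blockHeight 2 B (w : G → ℂ) ≠ 0)
    (h4 : ((Finset.univ.filter (· ∈ B)).filter fun χ : IrrCharacter G =>
      blockHeight 2 B (χ : G → ℂ) = 0).card = 4)
    (hrot : ∀ η, ∀ i, 1 ≤ i → i < 2 ^ t →
      SecRep.E 2 (r ^ rexp t i, S.bel (r ^ rexp t i)) w η = 0)
    {η : IrrCharacter G} :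
    ∃ n : ℤ, 4 * SecRep.E 2 (r ^ 2 ^ t, S.bel (r ^ 2 ^ t)) w η = n := by
  classical
  obtain ⟨hr, hs, e', S', hzc, hbel⟩ := S.exists_local
  letI := Fintype.ofFinite (CG (S.bel (r ^ 2 ^ t)).1)
  obtain ⟨g', hg'⟩ := S'.exists_g
  set b := (S.bel (r ^ 2 ^ t)).2 with hb
  set A := Finset.univ.filter (· ∈ b) with hA
  have hAb : ∀ {ξ}, ξ ∈ A → ξ ∈ b := fun h => (Finset.mem_filter.1 h).2
  set x : CG (S.bel (r ^ 2 ^ t)).1 := ⟨r, hr⟩ ^ 2 ^ t with hxdef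
  have hx : (x : G) = r ^ 2 ^ t := by simp [hxdef]
  set m : IrrCharacter G → IrrCharacter (CG (S.bel (r ^ 2 ^ t)).1) → ℤ :=
    fun χ ξ => (Glaub.mult _ (χ : G → ℂ) (ξ : CG (S.bel (r ^ 2 ^ t)).1 → ℂ) : ℤ) with hm
  -- the parts seen in the centralizer
  have hloc : ∀ (v : CG (S.bel (r ^ 2 ^ t)).1), (v : G) ∈ P →
      r ^ 2 ^ t ∈ Subgroup.zpowers (v : G) → ∀ χ ψ,
      SecRep.E 2 ((v : G), S.bel (v : G)) χ ψ =
        ∑ ξ ∈ A, ∑ ξ' ∈ A, (m χ ξ : ℂ) * (m ψ ξ' : ℂ) * SecRep.E 2 (v, S'.bel v) ξ ξ' := by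
    intro v hv hzv χ ψ
    rw [S.E_local S' (fun v hv hz => hbel v hv hz) hv hzv χ ψ]
    simp [hm]
    rfl
  have hlz := hloc x (by rw [hx]; exact S.sd.pow_mem' _) (by rw [hx]; exact Subgroup.mem_zpowers _)
  -- the columns outside the rotations
  have hcol : ∀ v, ∃ c : IrrCharacter (CG (S.bel (r ^ 2 ^ t)).1) → ℤ, v ∈ S'.uset →
      ∀ ξ ∈ A, ((ξ : IrrCharacter _) ∈ b) ∧
        (blockHeight 2 b (ξ : CG (S.bel (r ^ 2 ^ t)).1 → ℂ) = 0 → Odd (c ξ)) ∧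
        (blockHeight 2 b (ξ : CG (S.bel (r ^ 2 ^ t)).1 → ℂ) ≠ 0 → c ξ = 0) ∧
        ∀ ξ' ∈ A, SecRep.E 2 (v, S'.bel v) ξ ξ' = (c ξ : ℂ) * (c ξ' : ℂ) / 4 := by
    intro v
    by_cases hv : v ∈ S'.uset
    · obtain ⟨hvP, -⟩ := S'.uset_mem hv
      obtain ⟨o⟩ := DihBlk.exists_one S'.hM (S'.bel_ofB hvP).1.2 (S'.uset_rank hv)
      choose c hc using S'.refl_col hv o
      refine ⟨c, fun _ ξ hξ => ⟨hAb hξ, ?_⟩⟩
      obtain ⟨p1, p2⟩ := S'.refl_col_parity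
        (S'.height_zero_data (S'.exists_lvl S'.pos_t).some).1 hv o (hAb hξ) (hc ξ)
      refine ⟨p1, p2, fun ξ' _ => ?_⟩
      rw [E_one S'.hM o (S'.ppow_mem hvP) (S'.bel_fst hvP) (S'.bel_ofB hvP), S'.uset_defect hv,
        hc, hc, map_intCast]
      norm_num
    · exact ⟨0, fun h => absurd h hv⟩
  choose c hc using hcol
  -- the parity of the combined column
  have heven : ∀ v ∈ S'.uset, (2 : ℤ) ∣ ∑ ξ ∈ A, m w ξ * c v ξ := by
    intro v hv
    obtain ⟨y, hy⟩ := S.exists_y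
    choose σ hσ using fun ξ : IrrCharacter (CG (S.bel (r ^ 2 ^ t)).1) =>
      (show ∃ a : ℤ, centralChar (ξ : CG (S.bel (r ^ 2 ^ t)).1 → ℂ) x = a ∧ Odd a from by
        rcases mul_self_eq_one_iff.1 (S'.omega_sq hzc ξ) with e | e
        · exact ⟨1, by rw [e]; simp, odd_one⟩
        · exact ⟨-1, by rw [e]; simp, odd_one.neg⟩)
    have hyw : y w w = ∑ ξ ∈ A, ∑ ξ' ∈ A, m w ξ * m w ξ' * (σ ξ * σ ξ' * g' ξ ξ') := by
      apply Int.cast_injective (α := ℂ)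
      have h := hlz w w
      rw [hx] at h
      rw [← hy w w, h, Finset.mul_sum, Int.cast_sum]
      refine Finset.sum_congr rfl fun ξ hξ => ?_
      rw [Finset.mul_sum, Int.cast_sum]
      refine Finset.sum_congr rfl fun ξ' hξ' => ?_
      rw [S'.E_z_eq hzc (hAb hξ) (hAb hξ'), ← hxdef, (hσ ξ).1, (hσ ξ').1, map_intCast]
      push_cast
      rw [← hg' ξ ξ' (hAb hξ')]
      ring
    have hywe : (2 : ℤ) ∣ y w w := by
      have hres := S.isReps.resolution S.hM S.isBlock hw hw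
      rw [if_pos rfl, S.sum_reps (fun a => SecRep.E 2 a w w),
        Finset.sum_eq_zero fun i hi => hrot w i (Finset.mem_Ico.1 hi).1 (Finset.mem_Ico.1 hi).2,
        Finset.sum_eq_zero fun u hu => S.u_vanish h4 hu hw hh w, add_zero, add_zero] at hres
      have hsum : y w w = 2 ^ (t + 2) - g w w := by
        apply Int.cast_injective (α := ℂ)
        push_cast
        rw [← hy w w, ← hg w w hw]
        linear_combination (2 : ℂ) ^ (t + 2) * hres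
      rw [hsum]
      exact dvd_sub (dvd_pow_self 2 (by omega)) ((dvd_pow_self 2 (by omega)).trans
        ((S.major_val (one_mem _) (fun v _ => by simp) hw hw (hg w w hw)).2.2 hh))
    have hpar : ∀ ξ ∈ A, ∀ ξ' ∈ A, ((σ ξ * σ ξ' * g' ξ ξ' : ℤ) : ZMod 2) =
        (c v ξ : ZMod 2) * (c v ξ' : ZMod 2) := by
      intro ξ hξ ξ' hξ'
      obtain ⟨-, a1, a2, -⟩ := hc v hv ξ hξ
      obtain ⟨-, b1, b2, -⟩ := hc v hv ξ' hξ'
      obtain ⟨d1, d2, d3⟩ := S'.major_val (one_mem _) (fun v _ => by simp) (hAb hξ) (hAb hξ')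
        (hg' ξ ξ' (hAb hξ'))
      have one : ∀ {a : ℤ}, Odd a → (a : ZMod 2) = 1 := fun {a} ha => by
        obtain ⟨k, rfl⟩ := ha
        push_cast
        rw [show (2 : ZMod 2) = 0 from rfl, zero_mul, zero_add]
      have zero : ∀ {a : ℤ}, (2 : ℤ) ∣ a → (a : ZMod 2) = 0 := fun {a} ha =>
        (ZMod.intCast_zmod_eq_zero_iff_dvd a 2).2 ha
      push_cast
      rw [one (hσ ξ).2, one (hσ ξ').2, one_mul, one_mul]
      by_cases h0' : blockHeight 2 b (ξ' : CG (S.bel (r ^ 2 ^ t)).1 → ℂ) = 0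
      · by_cases h0 : blockHeight 2 b (ξ : CG (S.bel (r ^ 2 ^ t)).1 → ℂ) = 0
        · have h2 := d2 h0'
          rw [h0, zero_add, pow_one, ← even_iff_two_dvd, Int.not_even_iff_odd] at h2
          rw [one h2, one (a1 h0), one (b1 h0'), one_mul]
        · rw [zero ((dvd_pow_self 2 h0).trans d1), a2 h0, Int.cast_zero, zero_mul]
      · rw [zero ((dvd_pow_self 2 (Nat.succ_ne_zero _)).trans (d3 h0')), b2 h0', Int.cast_zero,
          mul_zero]
    have hsq : ((∑ ξ ∈ A, m w ξ * c v ξ : ℤ) : ZMod 2) * ((∑ ξ ∈ A, m w ξ * c v ξ : ℤ) : ZMod 2) =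
        0 := by
      rw [← (ZMod.intCast_zmod_eq_zero_iff_dvd (y w w) 2).2 hywe, hyw, Int.cast_sum, Int.cast_sum,
        Finset.sum_mul_sum]
      refine Finset.sum_congr rfl fun ξ hξ => ?_
      rw [Int.cast_sum]
      refine Finset.sum_congr rfl fun ξ' hξ' => ?_
      rw [Int.cast_mul (_ * _), hpar ξ hξ ξ' hξ']
      push_cast
      ring
    exact (ZMod.intCast_zmod_eq_zero_iff_dvd _ 2).1 (mul_self_eq_zero.1 hsq)
  -- the combination
  choose n hn using fun (ξ ξ' : IrrCharacter (CG (S.bel (r ^ 2 ^ t)).1)) =>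
    (show ∃ n : ℤ, ξ ∈ b → ξ' ∈ b →
      -4 * SecRep.E 2 (x, S'.bel x) ξ ξ' +
        (∑ i ∈ Finset.Ico 1 (2 ^ t), (sp t 1 (rexp t i) - 2) *
          SecRep.E 2 (⟨r, hr⟩ ^ rexp t i, S'.bel (⟨r, hr⟩ ^ rexp t i)) ξ ξ') -
        2 * ∑ v ∈ S'.uset, SecRep.E 2 (v, S'.bel v) ξ ξ' = n from by
      by_cases h : ξ ∈ b ∧ ξ' ∈ b
      · obtain ⟨n, hn⟩ := S'.psi_one_int hzc h.1 h.2
        exact ⟨n, fun _ _ => hn⟩
      · exact ⟨0, fun h1 h2 => absurd ⟨h1, h2⟩ h⟩)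
  choose k hk using heven
  refine ⟨-(∑ ξ ∈ A, ∑ ξ' ∈ A, m w ξ * m η ξ' * n ξ ξ') -
    ∑ v ∈ S'.uset.attach, k v.1 v.2 * ∑ ξ' ∈ A, m η ξ' * c v.1 ξ', ?_⟩
  have hR : ∀ i ∈ Finset.Ico 1 (2 ^ t), ∑ ξ ∈ A, ∑ ξ' ∈ A, (m w ξ : ℂ) * (m η ξ' : ℂ) *
      SecRep.E 2 (⟨r, hr⟩ ^ rexp t i, S'.bel (⟨r, hr⟩ ^ rexp t i)) ξ ξ' = 0 := by
    intro i hi
    rw [Finset.mem_Ico] at hi
    have hv : ((⟨r, hr⟩ ^ rexp t i : CG (S.bel (r ^ 2 ^ t)).1) : G) = r ^ rexp t i := by simp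
    have hne : r ^ rexp t i ≠ 1 := fun h => S.rot_sq_ne' hi.1 hi.2 (by rw [h, one_mul])
    rw [← hloc _ (hv ▸ S.sd.pow_mem' _)
      (hv ▸ S.z_mem_zpowers (pow_mem (Subgroup.mem_zpowers r) _) hne) w η, hv]
    exact hrot η i hi.1 hi.2
  have hU : ∀ v : {v // v ∈ S'.uset}, ∑ ξ ∈ A, ∑ ξ' ∈ A, (m w ξ : ℂ) * (m η ξ' : ℂ) *
      SecRep.E 2 (v.1, S'.bel v.1) ξ ξ' =
        ((k v.1 v.2 * ∑ ξ' ∈ A, m η ξ' * c v.1 ξ' : ℤ) : ℂ) / 2 := by
    intro v
    have e2 : ((k v.1 v.2 * ∑ ξ' ∈ A, m η ξ' * c v.1 ξ' : ℤ) : ℂ) / 2 =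
        ((∑ ξ ∈ A, m w ξ * c v.1 ξ : ℤ) : ℂ) * ((∑ ξ' ∈ A, m η ξ' * c v.1 ξ' : ℤ) : ℂ) / 4 := by
      rw [hk v.1 v.2]
      push_cast
      ring
    rw [e2, Int.cast_sum, Int.cast_sum, Finset.sum_mul_sum, Finset.sum_div]
    refine Finset.sum_congr rfl fun ξ hξ => ?_
    rw [Finset.sum_div]
    refine Finset.sum_congr rfl fun ξ' hξ' => ?_
    rw [(hc v.1 v.2 ξ hξ).2.2.2 ξ' hξ']
    push_cast
    ring
  have hz := hlz w η
  rw [hx] at hz
  have key : (∑ ξ ∈ A, ∑ ξ' ∈ A, (m w ξ : ℂ) * (m η ξ' : ℂ) * (n ξ ξ' : ℂ)) =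
      -4 * SecRep.E 2 (r ^ 2 ^ t, S.bel (r ^ 2 ^ t)) w η -
        ∑ v ∈ S'.uset.attach, ((k v.1 v.2 * ∑ ξ' ∈ A, m η ξ' * c v.1 ξ' : ℤ) : ℂ) := by
    have hrot0 : ∑ ξ ∈ A, ∑ ξ' ∈ A, (m w ξ : ℂ) * (m η ξ' : ℂ) *
        ∑ i ∈ Finset.Ico 1 (2 ^ t), (sp t 1 (rexp t i) - 2) *
          SecRep.E 2 (⟨r, hr⟩ ^ rexp t i, S'.bel (⟨r, hr⟩ ^ rexp t i)) ξ ξ' = 0 := by
      simp only [Finset.mul_sum]
      rw [Finset.sum_congr rfl fun ξ _ => Finset.sum_comm, Finset.sum_comm]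
      refine Finset.sum_eq_zero fun i hi => ?_
      rw [← mul_zero (sp t 1 (rexp t i) - 2), ← hR i hi, Finset.mul_sum]
      refine Finset.sum_congr rfl fun ξ _ => ?_
      rw [Finset.mul_sum]
      exact Finset.sum_congr rfl fun ξ' _ => by ring
    have hu0 : ∑ ξ ∈ A, ∑ ξ' ∈ A, (m w ξ : ℂ) * (m η ξ' : ℂ) *
        ∑ v ∈ S'.uset, SecRep.E 2 (v, S'.bel v) ξ ξ' =
          (∑ v ∈ S'.uset.attach, ((k v.1 v.2 * ∑ ξ' ∈ A, m η ξ' * c v.1 ξ' : ℤ) : ℂ)) / 2 := by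
      simp only [Finset.mul_sum]
      rw [Finset.sum_congr rfl fun ξ _ => Finset.sum_comm, Finset.sum_comm, Finset.sum_div,
        ← Finset.sum_attach S'.uset]
      refine Finset.sum_congr rfl fun v _ => ?_
      rw [hU v, Finset.mul_sum]
    rw [hz, Finset.sum_congr rfl fun ξ hξ => Finset.sum_congr rfl fun ξ' hξ' => by
      rw [← hn ξ ξ' (hAb hξ) (hAb hξ'), mul_sub, mul_add, mul_left_comm _ (-4 : ℂ),
        mul_left_comm _ (2 : ℂ)]]
    simp only [Finset.sum_sub_distrib, Finset.sum_add_distrib, ← Finset.mul_sum]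
    linear_combination hrot0 - 2 * hu0
  push_cast
  push_cast at key
  linear_combination key

end Setup

end Cfsg.Agent.Char.SemiBlk
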