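import Cfsg.Agent.Lib.Char.SemiBlockLocal
import Cfsg.Agent.Lib.Char.RankOneBasic

/-!
The invariants of a 2-block with semidihedral defect group.
-/

open scoped ComplexConjugate

namespace Cfsg.Agent.Char.SemiBlk

open Polynomial Cfsg Cfsg.Agent.Block Cfsg.Agent.Char Cfsg.Agent.Char.BP Cfsg.Agent.Char.Spec
open Cfsg.Agent.Char.QuatBlk (zeta zeta_half one_le_sq tight norm_two contrib_ring)

set_option linter.unusedSectionVars false
set_option linter.style.haveILetI false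
set_option maxHeartbeats 800000

universe u

variable {G : Type u} [Group G] [Fintype G] {M : Ideal AlgInt} {B : Set (IrrCharacter G)}
variable {P : Subgroup G} {e : Set (IrrCharacter (CG P))} {r s : G} {t : ℕ}

namespace Setup

variable [DecidablePred (· ∈ B)]

/-- The remaining members. -/
noncomputable def rset (S : Setup M B P e r s t) (L : ∀ j, j < t → Lvl S j) :
    Finset (IrrCharacter G) := by
  classical
  exact S.mems.filter fun w => w ∉ S.hset ∧ w ∉ S.oset (L 0 S.pos_t) ∧ S.spc L w = 0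

variable (S : Setup M B P e r s t)
variable (L : ∀ j, j < t → Lvl S j)

omit [DecidablePred (· ∈ B)] in
theorem mem_rset [DecidablePred (· ∈ B)] {w : IrrCharacter G} : w ∈ S.rset L ↔
    w ∈ S.mems ∧ w ∉ S.hset ∧ w ∉ S.oset (L 0 S.pos_t) ∧ S.spc L w = 0 := by
  simp [rset]

section Diag

include S

/-- The sum over the levels is at most the sum over the rotations. -/
theorem levels_le (F : G → ℝ) (hF : ∀ i, 1 ≤ i → i < 2 ^ t → 0 ≤ F (r ^ rexp t i)) :
    ∑ j ∈ Finset.range t, ∑ u ∈ Finset.range (2 ^ (t - j - 1)), F (S.gen j (idx t j u)) ≤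
      ∑ i ∈ Finset.Ico 1 (2 ^ t), F (r ^ rexp t i) := by
  classical
  rw [← Finset.sum_sigma (Finset.range t) (fun j => Finset.range (2 ^ (t - j - 1)))
    (fun p => F (S.gen p.1 (idx t p.1 p.2)))]
  have hmem : ∀ p ∈ (Finset.range t).sigma (fun j => Finset.range (2 ^ (t - j - 1))),
      p.1 < t ∧ p.2 < 2 ^ (t - p.1 - 1) := fun p hp => by
    simpa [Finset.mem_sigma] using hp
  have hinj : Set.InjOn (fun p : (_ : ℕ) × ℕ => 2 ^ p.1 * (2 * p.2 + 1))
      ((Finset.range t).sigma (fun j => Finset.range (2 ^ (t - j - 1))) : Set ((_ : ℕ) × ℕ)) := by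
    rintro ⟨j, u⟩ hp ⟨j', u'⟩ hq hpq
    obtain ⟨hp1, hp2⟩ := hmem _ hp
    obtain ⟨hq1, hq2⟩ := hmem _ hq
    simp only at hp1 hp2 hq1 hq2 hpq
    have hord := congrArg (fun i => orderOf (r ^ rexp t i)) hpq
    simp only [(S.idx_facts hp1 hp2).2.2.2, (S.idx_facts hq1 hq2).2.2.2] at hord
    rw [S.gen_order hp1, S.gen_order hq1] at hord
    have h1 := Nat.pow_right_injective le_rfl hord
    obtain rfl : j = j' := by omega
    obtain rfl : u = u' := by
      have := Nat.eq_of_mul_eq_mul_left (Nat.two_pow_pos j) hpq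
      omega
    rfl
  rw [Finset.sum_congr rfl (g := fun p => F (r ^ rexp t (2 ^ p.1 * (2 * p.2 + 1)))) fun p hp => by
    rw [(S.idx_facts (hmem p hp).1 (hmem p hp).2).2.2.2]]
  refine le_trans (le_of_eq (Finset.sum_image (f := fun i => F (r ^ rexp t i)) hinj).symm) ?_
  refine Finset.sum_le_sum_of_subset_of_nonneg (fun i hi => ?_) fun i hi _ => ?_
  · obtain ⟨p, hp, rfl⟩ := Finset.mem_image.1 hi
    obtain ⟨-, a, b, -⟩ := S.idx_facts (hmem p hp).1 (hmem p hp).2
    exact Finset.mem_Ico.2 ⟨a, b⟩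
  · exact hF i (Finset.mem_Ico.1 hi).1 (Finset.mem_Ico.1 hi).2

/-- The diagonal at a level. -/
theorem level_value {j : ℕ} (hj : j < t) (χ : IrrCharacter G) :
    ∑ u ∈ Finset.range (2 ^ (t - j - 1)),
        (SecRep.E 2 (S.gen j (idx t j u), S.bel (S.gen j (idx t j u))) χ χ).re =
      ((∑ i ∈ Finset.range (2 ^ (t - j)), S.lco (L j hj) χ i ^ 2 : ℤ) : ℝ) / 2 ^ (j + 2) := by
  have h := S.level_diag (L j hj) hj χ
  have e : ∑ u ∈ Finset.range (2 ^ (t - j - 1)), SecRep.E 2 (S.gen j (idx t j u), S.bel (S.gen j (idx t j u))) χ χ =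
      (((((∑ i ∈ Finset.range (2 ^ (t - j)), S.lco (L j hj) χ i ^ 2 : ℤ) : ℝ)) /
        2 ^ (j + 2) : ℝ) : ℂ) := by
    refine mul_left_cancel₀ (two_ne_zero (α := ℂ)) (h.trans ?_)
    rw [show (2 : ℂ) ^ (t + 1) = 2 ^ (t - j) * 2 ^ (j + 1) by rw [← pow_add]; congr 1; omega]
    push_cast
    field_simp
    ring
  have h2 := congrArg Complex.re e
  rwa [Complex.re_sum, Complex.ofReal_re] at h2

/-- The levels of a character of height zero met by the first level. -/
theorem rot_lower {χ : IrrCharacter G} (hχ : χ ∈ S.hset) {k : ℕ}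
    (hne : S.lco (L 0 S.pos_t) χ k ≠ 0) (hk1 : 1 ≤ k) (hk2 : k < 2 ^ (t - 1)) :
    ∀ n, 1 ≤ n → n ≤ t → 1 - 1 / (2 : ℝ) ^ (n + 1) ≤
      ∑ j ∈ Finset.range n, ∑ u ∈ Finset.range (2 ^ (t - j - 1)),
        (SecRep.E 2 (S.gen j (idx t j u), S.bel (S.gen j (idx t j u))) χ χ).re := by
  intro n h1
  obtain ⟨hB, hh0⟩ := S.mem_hset.1 hχ
  have hm := S.half_pos
  induction n, h1 using Nat.le_induction with
  | base =>
    intro _
    rw [Finset.sum_range_one, S.level_value L S.pos_t χ]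
    have hanti : S.lco (L 0 S.pos_t) χ (2 ^ t - k) ^ 2 = S.lco (L 0 S.pos_t) χ k ^ 2 := by
      rw [S.lco_anti _ hk1 (by omega) hB, mul_pow, neg_sq, ← pow_mul, mul_comm k 2, pow_mul, neg_one_sq,
        one_pow, one_mul]
    have h3 : (3 : ℤ) ≤ ∑ i ∈ Finset.range (2 ^ (t - 0)), S.lco (L 0 S.pos_t) χ i ^ 2 := by
      refine le_trans ?_ (Finset.sum_le_sum_of_subset_of_nonneg
        (s := ({0, k, 2 ^ t - k} : Finset ℕ)) (fun i hi => ?_) fun i _ _ => sq_nonneg _)
      · rw [Finset.sum_insert (by simp; omega), Finset.sum_pair (by omega), hanti]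
        have : S.lco (L 0 S.pos_t) χ 0 ^ 2 = 1 := by
          rcases (S.height_zero_data (L 0 S.pos_t)).2.2.1 χ hχ with e | e <;> simp [e]
        have := one_le_sq hne
        linarith
      · simp only [Finset.mem_insert, Finset.mem_singleton] at hi
        rw [Finset.mem_range, Nat.sub_zero]
        omega
    have h3' : (3 : ℝ) ≤
        ((∑ i ∈ Finset.range (2 ^ (t - 0)), S.lco (L 0 S.pos_t) χ i ^ 2 : ℤ) : ℝ) := by
      exact_mod_cast h3
    norm_num at h3' ⊢
    linarith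
  | succ n hn ih =>
    intro hle
    have hn' : n < t := by omega
    rw [Finset.sum_range_succ, S.level_value L hn' χ]
    have h := ih (by omega)
    have h1 : (1 : ℝ) ≤
        ((∑ i ∈ Finset.range (2 ^ (t - n)), S.lco (L n hn') χ i ^ 2 : ℤ) : ℝ) := by
      have h0 : S.lco (L n hn') χ 0 ≠ 0 := fun e => by
        have h1 := S.lco_odd (L n hn') hn' hB hh0
        rw [e] at h1
        simp at h1
      have := (one_le_sq h0).trans (Finset.single_le_sum
        (f := fun i => S.lco (L n hn') χ i ^ 2) (fun i _ => sq_nonneg _)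
        (Finset.mem_range.2 (Nat.two_pow_pos (t - n))))
      exact_mod_cast this
    have h2 : 1 / (2 : ℝ) ^ (n + 2) ≤
        ((∑ i ∈ Finset.range (2 ^ (t - n)), S.lco (L n hn') χ i ^ 2 : ℤ) : ℝ) / 2 ^ (n + 2) :=
      div_le_div_of_nonneg_right h1 (by positivity)
    have e2 : 1 / (2 : ℝ) ^ (n + 1) = 1 / 2 ^ (n + 2) + 1 / 2 ^ (n + 2) := by
      rw [pow_succ _ (n + 1)]; field_simp; ring
    rw [show n + 1 + 1 = n + 2 from rfl]
    linarith

end Diag

variable {g : IrrCharacter G → IrrCharacter G → ℤ}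
  (hg : ∀ χ, ∀ η ∈ B, (2 : ℂ) ^ (t + 2) * SecRep.E 2 (1, S.bel 1) χ η = g χ η)
variable {y : IrrCharacter G → IrrCharacter G → ℤ}
  (hy : ∀ χ η, (2 : ℂ) ^ (t + 2) * SecRep.E 2 (r ^ 2 ^ t, S.bel (r ^ 2 ^ t)) χ η = y χ η)
include S

include hy in
theorem y_symm (χ η : IrrCharacter G) : y χ η = y η χ := by
  apply Int.cast_injective (α := ℂ)
  rw [← hy χ η, ← hy η χ, ← SecRep.E_symm (p := 2) (r ^ 2 ^ t, S.bel (r ^ 2 ^ t)) η χ]
  have h : conj ((2 : ℂ) ^ (t + 2) * SecRep.E 2 (r ^ 2 ^ t, S.bel (r ^ 2 ^ t)) η χ) =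
      (2 : ℂ) ^ (t + 2) * SecRep.E 2 (r ^ 2 ^ t, S.bel (r ^ 2 ^ t)) η χ := by
    rw [hy, map_intCast]
  rw [map_mul, map_pow, map_ofNat] at h
  exact h

include hy in
theorem y_rows {w w' : IrrCharacter G} (hw' : w' ∈ B) :
    ∑ η ∈ S.mems, y w η * y η w' = 2 ^ (t + 2) * y w w' := by
  apply Int.cast_injective (α := ℂ)
  push_cast
  rw [← hy w w', ← S.isReps.E_idem S.hM S.isBlock (S.reps_mem (Or.inr (Or.inl rfl))) w hw',
    Finset.mul_sum, Finset.mul_sum]
  refine Finset.sum_congr rfl fun η _ => ?_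
  rw [← hy w η, ← hy η w']
  ring

include hy in
theorem y_trace : ∑ χ ∈ S.mems, y χ χ ≤ 2 ^ (t + 3) := by
  have h := S.isReps.sum_diag (B := B) S.hM (S.reps_mem (x := r ^ 2 ^ t) (Or.inr (Or.inl rfl)))
  have h2 : ∑ χ ∈ S.mems, y χ χ = 2 ^ (t + 2) * (blockRank 2 (S.bel (r ^ 2 ^ t)).2 : ℤ) := by
    apply Int.cast_injective (α := ℂ)
    push_cast
    rw [← h, mems, Finset.mul_sum]
    exact Finset.sum_congr rfl fun χ _ => by rw [← hy]
  rw [h2, pow_succ _ (t + 2)]
  exact mul_le_mul_of_nonneg_left (by exact_mod_cast S.k_formula.1) (by positivity)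

include L hg hy

/-- A remaining member has height `t`, and its rows at the two central elements are known. -/
theorem rem_data {w : IrrCharacter G} (hw : w ∈ S.rset L) :
    blockHeight 2 B (w : G → ℂ) = t ∧ (∀ η ∈ S.hset, g w η = 2 ^ t ∨ g w η = -2 ^ t) ∧
      (∀ η ∈ S.mems, η ∉ S.hset → η ≠ w → g w η = 0) ∧ g w w = 2 ^ (t + 1) ∧
      ∀ η ∈ S.mems, y w η = (if w = η then 2 ^ (t + 2) else 0) - g w η := by
  classical
  obtain ⟨hwA, hwH, hwO, hsp⟩ := (S.mem_rset L).1 hw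
  have hwB := S.mem_mems.1 hwA
  have hwh : blockHeight 2 B (w : G → ℂ) ≠ 0 := fun h => hwH (S.mem_hset.2 ⟨hwB, h⟩)
  obtain ⟨h4, -, -, -⟩ := S.height_zero_data (L 0 S.pos_t)
  have hrot : ∀ η, ∀ i, 1 ≤ i → i < 2 ^ t →
      SecRep.E 2 (r ^ rexp t i, S.bel (r ^ rexp t i)) w η = 0 :=
    fun η i h1 h2 => S.rot_zero L
      (fun j hj _ => S.coeff_vanish L hwA hwH hwO hsp j hj) h1 h2 (J := t)
      (fun hd => absurd (Nat.le_of_dvd h1 hd) (not_le.2 h2)) η
  have hres : ∀ η ∈ S.mems, SecRep.E 2 (1, S.bel 1) w η +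
      SecRep.E 2 (r ^ 2 ^ t, S.bel (r ^ 2 ^ t)) w η = if w = η then 1 else 0 := by
    intro η hη
    have hres := S.isReps.resolution S.hM S.isBlock hwB (S.mem_mems.1 hη)
    rw [S.sum_reps (fun a => SecRep.E 2 a w η),
      Finset.sum_eq_zero fun i hi => hrot η i (Finset.mem_Ico.1 hi).1 (Finset.mem_Ico.1 hi).2,
      Finset.sum_eq_zero fun v hv => S.u_vanish h4 hv hwB hwh η, add_zero, add_zero] at hres
    exact hres
  have hyg : ∀ η ∈ S.mems, y w η = (if w = η then 2 ^ (t + 2) else 0) - g w η := by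
    intro η hη
    apply Int.cast_injective (α := ℂ)
    push_cast
    rw [← hy w η, ← hg w η (S.mem_mems.1 hη)]
    have h := hres η hη
    split_ifs at h ⊢ <;> push_cast <;> linear_combination (2 : ℂ) ^ (t + 2) * h
  have hv : ∀ η ∈ S.mems, ∃ v : ℤ, g w η = 2 ^ t * (v + if w = η then 2 else 0) := by
    intro η hη
    obtain ⟨n, hn⟩ := S.four_int hg hwB hwh h4 hrot (η := η)
    refine ⟨(if w = η then 2 else 0) - n, ?_⟩
    have hyn : y w η = 2 ^ t * n := by
      apply Int.cast_injective (α := ℂ)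
      push_cast
      rw [← hy w η, ← hn, pow_add]
      ring
    have h := hyg η hη
    rw [hyn] at h
    split_ifs at h ⊢ <;> rw [pow_add] at * <;> linear_combination h
  choose v hv using hv
  set f : IrrCharacter G → ℤ := fun η => if hη : η ∈ S.mems then v η hη else 0 with hf
  have hgf : ∀ η ∈ S.mems, g w η = 2 ^ t * (f η + if w = η then 2 else 0) := fun η hη => by
    simp only [hf, dif_pos hη]
    exact hv η hη
  have hsq : ∑ η ∈ S.mems, f η ^ 2 = 4 := by
    have h := S.g_rows hg hwB hwB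
    change ∑ η ∈ S.mems, _ = _ at h
    rw [Finset.sum_congr rfl (g := fun η => (2 : ℤ) ^ t * 2 ^ t *
        (f η ^ 2 + if w = η then 4 * f η + 4 else 0)) (fun η hη => by
          rw [hgf η hη]; split_ifs <;> ring),
      ← Finset.mul_sum, Finset.sum_add_distrib, Finset.sum_ite_eq, if_pos hwA, hgf w hwA,
      if_pos rfl] at h
    have hp : (2 : ℤ) ^ t * 2 ^ t ≠ 0 := by positivity
    refine mul_left_cancel₀ hp ?_
    rw [pow_add] at h
    linear_combination h
  have hval : ∀ η ∈ S.hset, (2 : ℤ) ^ blockHeight 2 B (w : G → ℂ) ∣ 2 ^ t * f η ∧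
      ¬ (2 : ℤ) ^ (blockHeight 2 B (w : G → ℂ) + 1) ∣ 2 ^ t * f η := fun η hη => by
    obtain ⟨hηB, hη0⟩ := S.mem_hset.1 hη
    have h := S.g_val hg hwB hηB hη0
    rwa [hgf η (S.mem_mems.2 hηB), if_neg (fun e : w = η => hwH (e ▸ hη)), add_zero] at h
  have hne : ∀ η ∈ S.hset, f η ≠ 0 := fun η hη e => (hval η hη).2 (by rw [e, mul_zero]; exact dvd_zero _)
  obtain ⟨hone, hzero⟩ := tight S.hset_subset hne (by rw [hsq, h4]; rfl)
  have hgH : ∀ η ∈ S.hset, g w η = 2 ^ t ∨ g w η = -2 ^ t := fun η hη => by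
    rw [hgf η (S.hset_subset hη), if_neg (fun e : w = η => hwH (e ▸ hη)), add_zero]
    rcases hone η hη with e | e <;> simp [e]
  refine ⟨?_, hgH, fun η hη hH hne => ?_, ?_, hyg⟩
  · obtain ⟨η, hη⟩ := S.hset_nonempty
    obtain ⟨h1, h2⟩ := hval η hη
    have hpr : (2 : ℤ) ^ t * f η = 2 ^ t ∨ (2 : ℤ) ^ t * f η = -2 ^ t := by
      rcases hone η hη with e | e <;> simp [e]
    rcases hpr with e | e <;> rw [e] at h1 h2 <;>
      simp only [dvd_neg, pow_dvd_pow_iff (two_ne_zero (α := ℤ)) (by norm_num [Int.isUnit_iff] : ¬ IsUnit (2 : ℤ))] at h1 h2 <;> omega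
  · rw [hgf η hη, hzero η hη hH, if_neg (Ne.symm hne), add_zero, mul_zero]
  · rw [hgf w hwA, hzero w hwA hwH, if_pos rfl, zero_add, pow_succ]

/-- The rows of remaining members are orthogonal on the height zero ones. -/
theorem rem_orth {w w' : IrrCharacter G} (hw : w ∈ S.rset L) (hw' : w' ∈ S.rset L) (hne : w ≠ w') :
    ∑ η ∈ S.hset, g w η * g w' η = 0 := by
  classical
  obtain ⟨hwA, hwH, -⟩ := (S.mem_rset L).1 hw
  obtain ⟨hwA', hwH', -⟩ := (S.mem_rset L).1 hw'
  obtain ⟨-, -, hz, -, -⟩ := S.rem_data L hg hy hw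
  obtain ⟨-, -, hz', -, -⟩ := S.rem_data L hg hy hw'
  have h := S.g_rows hg (S.mem_mems.1 hwA) (S.mem_mems.1 hwA')
  rw [hz w' hwA' hwH' hne.symm, mul_zero] at h
  change ∑ η ∈ S.mems, _ = _ at h
  rw [← Finset.sum_subset S.hset_subset fun η hη hH => ?_] at h
  · exact h
  · by_cases e : η = w
    · subst e
      rw [hz' η hη hH hne, mul_zero]
    · rw [hz η hη hH e, zero_mul]

omit hg hy in
/-- A character of height zero met by the first level has a partner of height zero there. -/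
theorem oset_partner {χ : IrrCharacter G} (hχ : χ ∈ S.hset) (hO : χ ∈ S.oset (L 0 S.pos_t)) :
    ∃ ψ ∈ S.hset, ψ ∈ S.oset (L 0 S.pos_t) ∧ ψ ≠ χ := by
  classical
  obtain ⟨hA, k, hk, hne⟩ := S.mem_oset.1 hO
  rw [Finset.mem_Ico] at hk
  have hm := S.half_pos
  obtain ⟨-, -, h00, h0out⟩ := S.height_zero_data (L 0 S.pos_t)
  have hk' : k < 2 ^ (t - 0) := by rw [Nat.sub_zero]; omega
  have h2 : ∑ x ∈ S.mems, S.lco (L 0 S.pos_t) x k ^ 2 = 2 := by
    simp only [sq]
    rw [mems, S.lco_gram (L 0 S.pos_t) S.pos_t hk' hk', if_pos rfl,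
      if_neg (show ¬ k + k = 0 by omega),
      if_neg (show ¬ k + k = 2 ^ (t - 0) by rw [Nat.sub_zero]; omega)]
    norm_num
  obtain ⟨hc, hpm⟩ := norm_two (d := fun x : IrrCharacter G => (charDegree (x : G → ℂ) : ℤ))
    (fun x _ => by exact_mod_cast charDeg_pos x) h2 (S.degree_lco (L 0 S.pos_t) S.pos_t hk')
  obtain ⟨ψ, hψ, hψχ⟩ := Finset.exists_mem_ne
    (s := S.mems.filter fun x => S.lco (L 0 S.pos_t) x k ≠ 0) (by omega) χ
  obtain ⟨hψA, hψk⟩ := Finset.mem_filter.1 hψ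
  refine ⟨ψ, by_contra fun hψH => ?_, S.mem_oset.2 ⟨hψA, k, Finset.mem_Ico.2 hk, hψk⟩, hψχ⟩
  have h := S.lco_gram (L 0 S.pos_t) S.pos_t (k := 0) (k' := k) (Nat.two_pow_pos _) hk'
  rw [if_neg (show ¬ 0 = k by omega), if_neg (show ¬ 0 + k = 0 by omega),
    if_neg (show ¬ 0 + k = 2 ^ (t - 0) by rw [Nat.sub_zero]; omega)] at h
  simp only [sub_zero, mul_zero, add_zero] at h
  change ∑ x ∈ S.mems, _ = _ at h
  have hsupp : S.mems.filter (fun x => S.lco (L 0 S.pos_t) x k ≠ 0) = {χ, ψ} := by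
    refine (Finset.eq_of_subset_of_card_le (fun x hx => ?_) ?_).symm
    · rcases Finset.mem_insert.1 hx with rfl | hx
      · exact Finset.mem_filter.2 ⟨hA, hne⟩
      · rw [Finset.mem_singleton.1 hx]; exact hψ
    · rw [hc, Finset.card_pair hψχ.symm]
  rw [← Finset.sum_subset (Finset.filter_subset (fun x => S.lco (L 0 S.pos_t) x k ≠ 0) _)
    (fun x hx hn => by
      rw [show S.lco (L 0 S.pos_t) x k = 0 by
        by_contra h; exact hn (Finset.mem_filter.2 ⟨hx, h⟩), mul_zero]),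
    hsupp, Finset.sum_pair hψχ.symm, h0out ψ hψA hψH, zero_mul, add_zero] at h
  refine mul_ne_zero (fun e => ?_) hne h
  rcases h00 χ hχ with e' | e' <;> rw [e] at e' <;> norm_num at e'

/-- The characters of height zero are not met by the first level. -/
theorem zero_disjoint {χ : IrrCharacter G} (hχ : χ ∈ S.hset) : χ ∉ S.oset (L 0 S.pos_t) := by
  classical
  intro hO
  obtain ⟨hA, k, hk, hne⟩ := S.mem_oset.1 hO
  rw [Finset.mem_Ico] at hk
  obtain ⟨hB, hh0⟩ := S.mem_hset.1 hχ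
  obtain ⟨h4, -, h00, -⟩ := S.height_zero_data (L 0 S.pos_t)
  have hm := S.half_pos
  have ht : 2 ≤ t := S.one_lt_t
  set F : G × BrauerPairIdx G → ℝ := fun a => (SecRep.E 2 a χ χ).re with hF
  have hnn : ∀ a ∈ S.reps, 0 ≤ F a := fun a ha => by
    rw [hF]
    simp only
    rw [← (S.isReps).row_sq S.hM S.isBlock ha hB]
    exact Finset.sum_nonneg fun x _ => Complex.normSq_nonneg _
  have hone : F (1, S.bel 1) + F (r ^ 2 ^ t, S.bel (r ^ 2 ^ t)) +
      ∑ i ∈ Finset.Ico 1 (2 ^ t), F (r ^ rexp t i, S.bel (r ^ rexp t i)) ≤ 1 := by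
    have hres := (S.isReps).resolution S.hM S.isBlock hB hB
    rw [if_pos rfl, S.sum_reps (fun a => SecRep.E 2 a χ χ)] at hres
    have h := congrArg Complex.re hres
    simp only [Complex.add_re, Complex.re_sum, Complex.one_re] at h
    have hU : (0 : ℝ) ≤ ∑ v ∈ S.uset, (SecRep.E 2 (v, S.bel v) χ χ).re :=
      Finset.sum_nonneg fun v hv => hnn _ (S.reps_mem (Or.inr (Or.inr (Or.inr hv))))
    simp only [hF]
    linarith
  have hlow : (1 : ℝ) - 1 / 2 ^ (t + 1) ≤
      ∑ i ∈ Finset.Ico 1 (2 ^ t), F (r ^ rexp t i, S.bel (r ^ rexp t i)) := by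
    refine (S.rot_lower L hχ hne hk.1 hk.2 t S.pos_t le_rfl).trans
      (S.levels_le (fun v => F (v, S.bel v)) fun i h1 h2 => ?_)
    exact hnn _ (S.reps_mem (Or.inr (Or.inr (Or.inl ⟨i, h1, h2, rfl⟩))))
  have hz := hg χ χ hB
  set z := g χ χ with hgz
  have hscale : ∀ (a : G × BrauerPairIdx G) (x : ℤ),
      (2 : ℂ) ^ (t + 2) * SecRep.E 2 a χ χ = x → F a = (x : ℝ) / 2 ^ (t + 2) := by
    intro a x hx
    rw [eq_div_iff (pow_ne_zero _ two_ne_zero), mul_comm]
    have h := congrArg Complex.re hx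
    rw [← Complex.ofReal_ofNat, ← Complex.ofReal_pow, Complex.re_ofReal_mul, Complex.intCast_re] at h
    exact h
  have hF1 := hscale _ _ hz
  have hFz := hscale _ _ (hy χ χ)
  have hzpos : (0 : ℤ) ≤ z := by
    have h := hnn _ (S.reps_mem (Or.inl rfl))
    rw [hF1, div_nonneg_iff] at h
    rcases h with ⟨h, -⟩ | ⟨-, h⟩
    · exact_mod_cast h
    · exact absurd h (not_le.2 (by positivity))
  have hypos : (0 : ℤ) ≤ y χ χ := by
    have h := hnn _ (S.reps_mem (Or.inr (Or.inl rfl)))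
    rw [hFz, div_nonneg_iff] at h
    rcases h with ⟨h, -⟩ | ⟨-, h⟩
    · exact_mod_cast h
    · exact absurd h (not_le.2 (by positivity))
  have hsum2 : z + y χ χ ≤ 2 := by
    have h := hlow
    have hb : ((z : ℝ) + y χ χ) / 2 ^ (t + 2) ≤ 1 / 2 ^ (t + 1) := by
      rw [add_div, ← hF1, ← hFz]
      linarith
    rw [pow_succ _ (t + 1), div_le_div_iff₀ (by positivity) (by positivity)] at hb
    have hb2 : ((z : ℝ) + y χ χ) ≤ 2 :=
      le_of_mul_le_mul_right (by linarith : ((z : ℝ) + y χ χ) * 2 ^ (t + 1) ≤ 2 * 2 ^ (t + 1))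
        (by positivity)
    exact_mod_cast hb2
  have hzodd : ¬ (2 : ℤ) ∣ z := by
    have h := (S.g_val hg hB hB hh0).2
    rwa [← hgz, hh0, zero_add, pow_one] at h
  have hg1 : g χ χ = 1 := by rw [← hgz]; omega
  have hR0 : S.rset L = ∅ := by
    refine Finset.eq_empty_of_forall_notMem fun w hw => ?_
    obtain ⟨hwA, hwH, -⟩ := (S.mem_rset L).1 hw
    have hrow := S.g_rows hg hB hB
    rw [hg1, mul_one] at hrow
    change ∑ η ∈ S.mems, _ = _ at hrow
    have hle := Finset.sum_le_sum_of_subset_of_nonneg (f := fun η => g χ η * g χ η)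
      (s := {χ, w}) (t := S.mems) (by simp [Finset.insert_subset_iff, hA, hwA])
      fun η _ _ => mul_self_nonneg _
    rw [Finset.sum_pair (fun e : χ = w => hwH (e ▸ hχ)), hrow, hg1,
      S.g_symm hg hB (S.mem_mems.1 hwA)] at hle
    have hsq : g w χ * g w χ = (2 : ℤ) ^ (t + t) := by
      rcases (S.rem_data L hg hy hw).2.1 χ hχ with e | e <;> rw [e] <;> ring
    rw [hsq] at hle
    have hp : (2 : ℤ) ^ (t + 2) ≤ 2 ^ (t + t) := pow_le_pow_right₀ (by norm_num) (by omega)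
    linarith
  obtain ⟨-, a, ha, hk'⟩ := S.k_formula
  have hpos := Res.blockRank_pos S.hM S.isBlock
  have hcard : Nat.card B = S.mems.card := by
    rw [mems, ← Fintype.card_subtype, ← Nat.card_eq_fintype_card]
  have hcover : S.mems ⊆ (S.hset ∪ S.oset (L 0 S.pos_t)) ∪
      (S.mems.filter fun w => w ∉ S.hset ∧ w ∉ S.oset (L 0 S.pos_t) ∧ S.spc L w ≠ 0) := by
    intro w hw
    by_contra hc
    simp only [Finset.mem_union, Finset.mem_filter, not_or, not_and] at hc
    obtain ⟨⟨hH, hO'⟩, hq⟩ := hc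
    have h : w ∈ S.rset L := (S.mem_rset L).2 ⟨hw, hH, hO', not_not.1 (hq hw hH hO')⟩
    rw [hR0] at h
    exact Finset.notMem_empty _ h
  have h1 := (Finset.card_le_card hcover).trans (Finset.card_union_le _ _)
  have h2 := Finset.card_union_add_card_inter S.hset (S.oset (L 0 S.pos_t))
  have h3 : 2 ≤ (S.hset ∩ S.oset (L 0 S.pos_t)).card := by
    obtain ⟨ψ, hψ, hψO, hψχ⟩ := S.oset_partner L hχ hO
    exact Finset.one_lt_card.2 ⟨χ, Finset.mem_inter.2 ⟨hχ, hO⟩, ψ, Finset.mem_inter.2 ⟨hψ, hψO⟩,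
      Ne.symm hψχ⟩
  have h5 := (S.oset_card (L 0 S.pos_t)).1
  have h6 := S.card_special L
  have h7 : 2 ^ 2 ≤ 2 ^ t := Nat.pow_le_pow_right two_pos ht
  omega

/-- There is at most one remaining member. -/
theorem card_rem : (S.rset L).card ≤ 1 := by
  classical
  refine Finset.card_le_one.2 fun w hw w' hw' => by_contra fun hne => ?_
  obtain ⟨hwA, hwH, hwO, -⟩ := (S.mem_rset L).1 hw
  obtain ⟨hwA', hwH', hwO', -⟩ := (S.mem_rset L).1 hw'
  obtain ⟨-, hgH, hgz, hgw, hyg⟩ := S.rem_data L hg hy hw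
  obtain ⟨-, hgH', hgz', hgw', hyg'⟩ := S.rem_data L hg hy hw'
  obtain ⟨h4, -, -, -⟩ := S.height_zero_data (L 0 S.pos_t)
  obtain ⟨o, ho⟩ : (S.oset (L 0 S.pos_t)).Nonempty := Finset.card_pos.1 (by
    rw [(S.oset_card (L 0 S.pos_t)).1]
    have : 2 ^ 2 ≤ 2 ^ t := Nat.pow_le_pow_right two_pos S.one_lt_t
    omega)
  have hoA := (S.mem_oset.1 ho).1
  have hoB := S.mem_mems.1 hoA
  have hoH : o ∉ S.hset := fun h => S.zero_disjoint L hg hy h ho
  set q : ℤ := 2 ^ (t + t) with hq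
  have hqpos : 0 < q := by positivity
  have hsqH : ∀ {w : IrrCharacter G}, (∀ η ∈ S.hset, g w η = 2 ^ t ∨ g w η = -2 ^ t) →
      ∀ η ∈ S.hset, g w η * g w η = q := fun {w} h η hη => by
    rcases h η hη with e | e <;> rw [e, hq, pow_add] <;> ring
  have key : ∀ η ∈ S.hset, 2 ^ t < y η η := by
    intro η hη
    obtain ⟨hηB, hη0⟩ := S.mem_hset.1 hη
    have hrow : ∀ {w : IrrCharacter G}, w ∈ S.mems → w ∉ S.hset →
        (∀ x ∈ S.mems, x ∉ S.hset → x ≠ w → g w x = 0) → g w w = 2 ^ (t + 1) →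
        (∀ x ∈ S.mems, y w x = (if w = x then 2 ^ (t + 2) else 0) - g w x) →
        y η w = -g w η ∧ ∑ x ∈ S.hset, y η x * g w x = 2 ^ (t + 1) * g w η := by
      intro w hwA hwH hz hww hyw
      have hηw : y η w = -g w η := by
        rw [S.y_symm hy, hyw η (S.hset_subset hη),
          if_neg (fun e : w = η => hwH (e ▸ hη)), zero_sub]
      refine ⟨hηw, ?_⟩
      have hsub : insert w S.hset ⊆ S.mems := Finset.insert_subset hwA S.hset_subset
      have h := S.y_rows hy (w := η) (w' := w) (S.mem_mems.1 hwA)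
      rw [← Finset.sum_subset hsub fun x hx hn => by
          rw [Finset.mem_insert, not_or] at hn
          rw [S.y_symm hy x w, hyw x hx, if_neg (Ne.symm hn.1), hz x hx hn.2 hn.1]
          ring,
        Finset.sum_insert hwH, hηw, hyw w hwA, if_pos rfl, hww,
        Finset.sum_congr rfl (g := fun x => -(y η x * g w x)) fun x hx => by
          rw [S.y_symm hy x w, hyw x (S.hset_subset hx),
            if_neg (fun e : w = x => hwH (e ▸ hx)), zero_sub, mul_neg],
        Finset.sum_neg_distrib] at h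
      rw [pow_succ _ (t + 1)] at h
      linear_combination -h
    obtain ⟨e1, p1⟩ := hrow hwA hwH hgz hgw hyg
    obtain ⟨e2, p2⟩ := hrow hwA' hwH' hgz' hgw' hyg'
    have hn : ∀ {w : IrrCharacter G}, (∀ η ∈ S.hset, g w η = 2 ^ t ∨ g w η = -2 ^ t) →
        ∑ x ∈ S.hset, g w x * g w x = 4 * q := fun {w} h => by
      rw [Finset.sum_congr rfl (hsqH h), Finset.sum_const, h4, nsmul_eq_mul]; rfl
    have n1 := hn hgH
    have n2 := hn hgH'
    have n12 := S.rem_orth L hg hy hw hw' hne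
    set P1 := ∑ x ∈ S.hset, y η x * g w x with hP1
    set P2 := ∑ x ∈ S.hset, y η x * g w' x with hP2
    set Y := ∑ x ∈ S.hset, y η x * y η x with hY
    have hb : 0 ≤ 4 * q * (4 * q * Y - (P1 * P1 + P2 * P2)) := by
      have e : ∑ x ∈ S.hset, (4 * q * y η x - P1 * g w x - P2 * g w' x) ^ 2 =
          4 * q * (4 * q * Y - (P1 * P1 + P2 * P2)) := by
        rw [Finset.sum_congr rfl (g := fun x => (4 * q) ^ 2 * (y η x * y η x) +
          P1 * P1 * (g w x * g w x) + P2 * P2 * (g w' x * g w' x) -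
          2 * (4 * q) * P1 * (y η x * g w x) - 2 * (4 * q) * P2 * (y η x * g w' x) +
          2 * P1 * P2 * (g w x * g w' x)) fun x _ => by ring]
        simp only [Finset.sum_add_distrib, Finset.sum_sub_distrib, ← Finset.mul_sum]
        rw [← hY, ← hP1, ← hP2, n1, n2, n12]
        ring
      exact e ▸ Finset.sum_nonneg fun x _ => sq_nonneg _
    have hY2 : 2 * q ≤ Y := by
      have h1 : 0 ≤ 4 * q * Y - (P1 * P1 + P2 * P2) :=
        nonneg_of_mul_nonneg_right hb (by linarith)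
      have hpp : P1 * P1 + P2 * P2 = 4 * q * (2 * q) := by
        rw [p1, p2]
        have ht2 : (2 : ℤ) ^ (t + 1) * 2 ^ (t + 1) = 4 * q := by rw [hq, pow_add 2 t t]; ring
        linear_combination (g w η * g w η + g w' η * g w' η) * ht2 +
          4 * q * hsqH hgH η hη + 4 * q * hsqH hgH' η hη
      rw [hpp] at h1
      exact le_of_mul_le_mul_left (by linarith : 4 * q * (2 * q) ≤ 4 * q * Y) (by linarith)
    have hy0 : y η o ≠ 0 := fun e => by
      obtain ⟨-, h2, -⟩ := S.major_val (S.sd.pow_mem' _)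
        (fun v hv => S.sd.z_central hv) hoB hηB (hy o η)
      rw [S.y_symm hy o η, e] at h2
      exact h2 hη0 (dvd_zero _)
    have hall := Finset.sum_le_sum_of_subset_of_nonneg (f := fun x => y η x * y η x)
      (s := S.hset ∪ {w, w', o}) (t := S.mems)
      (Finset.union_subset S.hset_subset (by simp [Finset.insert_subset_iff, hwA, hwA', hoA]))
      fun x _ _ => mul_self_nonneg _
    rw [Finset.sum_union (by simp [hwH, hwH', hoH]),
      Finset.sum_insert (by
        simp only [Finset.mem_insert, Finset.mem_singleton, not_or]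
        exact ⟨hne, fun h : w = o => hwO (h ▸ ho)⟩),
      Finset.sum_pair (fun h : w' = o => hwO' (h ▸ ho)), ← hY, e1, e2, neg_mul_neg, neg_mul_neg,
      hsqH hgH η hη, hsqH hgH' η hη,
      Finset.sum_congr rfl (g := fun x => y η x * y x η) (fun x _ => by rw [S.y_symm hy x η]),
      S.y_rows hy hηB] at hall
    have hpos := mul_self_pos.2 hy0
    have h4q : (2 : ℤ) ^ (t + 2) * 2 ^ t = 4 * q := by rw [hq, pow_add, pow_add]; ring
    by_contra hc
    push Not at hc
    have := mul_le_mul_of_nonneg_left hc (by positivity : (0 : ℤ) ≤ 2 ^ (t + 2))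
    linarith
  have htr := S.y_trace hy
  have hnn : ∀ x ∈ S.mems, 0 ≤ y x x := fun x hx => by
    have h := S.y_rows hy (w := x) (w' := x) (S.mem_mems.1 hx)
    have h1 : (0 : ℤ) ≤ 2 ^ (t + 2) * y x x := h ▸ Finset.sum_nonneg fun z _ => by
      rw [S.y_symm hy z x]; exact mul_self_nonneg _
    exact nonneg_of_mul_nonneg_right h1 (by positivity)
  have hle := Finset.sum_le_sum_of_subset_of_nonneg (f := fun x => y x x)
    (s := S.hset ∪ {w, w'}) (t := S.mems)
    (Finset.union_subset S.hset_subset (by simp [Finset.insert_subset_iff, hwA, hwA']))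
    fun x hx _ => hnn x hx
  rw [Finset.sum_union (by simp [hwH, hwH']), Finset.sum_pair hne, hyg w hwA, hyg' w' hwA',
    if_pos rfl, if_pos rfl, hgw, hgw'] at hle
  have hlt : ∑ x ∈ S.hset, (2 : ℤ) ^ t < ∑ x ∈ S.hset, y x x :=
    Finset.sum_lt_sum_of_nonempty S.hset_nonempty key
  rw [Finset.sum_const, h4, nsmul_eq_mul] at hlt
  simp only [pow_succ] at htr hle
  push_cast at hlt
  linarith

omit hg hy in
/-- The members met by the first level have height one. -/
theorem oset_height {χ : IrrCharacter G} (hO : χ ∈ S.oset (L 0 S.pos_t)) (hH : χ ∉ S.hset) :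
    blockHeight 2 B (χ : G → ℂ) = 1 := by
  classical
  have hB := S.mem_mems.1 (S.mem_oset.1 hO).1
  obtain ⟨η, hη⟩ := S.hset_nonempty
  obtain ⟨hηB, hη0⟩ := S.mem_hset.1 hη
  obtain ⟨k, hk, hpm⟩ := (S.oset_card (L 0 S.pos_t)).2 χ hO
  set h := blockHeight 2 B (χ : G → ℂ) with hh
  have hne : h ≠ 0 := fun e => hH (S.mem_hset.2 ⟨hB, e⟩)
  by_contra hc
  have hP := S.sd.pow_mem' (2 ^ 0)
  have hgen : S.gen 0 0 = r ^ 2 ^ 0 := by simp [gen]
  have hring := contrib_ring S.hM (S.bel_fst hP) (S.bel_ofB hP) hB η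
  set x := S.lcol (L 0 S.pos_t) χ 0 with hx
  set c := conj (S.lcol (L 0 S.pos_t) η 0) with hc'
  have hE := S.E_gen (L 0 S.pos_t) S.pos_t 0 χ η
  rw [hgen] at hE
  have e : contrib 2 (blockDefect 2 B) (S.bel (r ^ 2 ^ 0)) (r ^ 2 ^ 0) χ η / ((2 : ℕ) : ℂ) ^ h =
      x * c / (2 : ℂ) ^ (h - 1) := by
    have he : contrib 2 (blockDefect 2 B) (S.bel (r ^ 2 ^ 0)) (r ^ 2 ^ 0) χ η =
        (2 : ℂ) ^ (t + 2) * SecRep.E 2 (r ^ 2 ^ 0, S.bel (r ^ 2 ^ 0)) χ η := by
      rw [contrib, S.defect, SecRep.E, Nat.cast_ofNat, mul_div_assoc]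
    rw [he, hE, Nat.cast_ofNat, show (2 : ℂ) ^ (t + 2) = 2 ^ (t + 1) * 2 from pow_succ _ _,
      show (2 : ℂ) ^ h = 2 ^ (h - 1) * 2 by rw [← pow_succ]; congr 1; omega]
    field_simp
    simp only [hx, hc']
  rw [← hh, e] at hring
  have hcr : MemLocalRing M c ∧ ¬ MemLocalIdeal M c := by
    have hfst := S.bel_fst hP
    have hinv : r ^ 2 ^ 0 ∈ (S.bel (r ^ 2 ^ 0)).1 := hfst ▸ Subgroup.mem_zpowers _
    have hfst' : (S.bel (r ^ 2 ^ 0)).1 = Subgroup.zpowers (r ^ 2 ^ 0)⁻¹ := by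
      rw [hfst, Subgroup.zpowers_inv]
    rw [hc', S.lcol_eq, hgen,
      (L 0 S.pos_t).o.conj_col (DihBlk.One.comm_of_gen hfst) η hinv]
    exact ⟨ring_of_integral S.hM ((L 0 S.pos_t).o.col_isIntegral
      (DihBlk.One.comm_of_gen hfst) η (inv_mem hinv)),
      (L 0 S.pos_t).o.unit S.hM (S.ppow_mem (inv_mem hP)) hfst' (S.bel_ofB hP) hηB hη0⟩
  have hc0 : c ≠ 0 := fun e0 => hcr.2 (e0 ▸ ideal_zero S.hM)
  have h2 : MemLocalRing M (x / 2) := by
    have h3 := ring_mul S.hM (ring_mul S.hM hring (ring_inv S.hM hcr.1 hcr.2))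
      (ring_natCast S.hM (2 ^ (h - 2)))
    refine (congrArg (MemLocalRing M) ?_).mp h3
    rw [Nat.cast_pow, Nat.cast_ofNat,
      show (2 : ℂ) ^ (h - 1) = 2 ^ (h - 2) * 2 by rw [← pow_succ]; congr 1; omega]
    field_simp
  have hx1 : x = aeval (zeta (t - 0)) ((L 0 S.pos_t).A χ) := by
    rw [hx, lcol]; simp
  rw [hx1] at h2
  have h3 := CycloTwo.coeff_even S.hM (zeta_half _) ((L 0 S.pos_t).deg χ) h2 k
  change (2 : ℤ) ∣ S.lco (L 0 S.pos_t) χ k at h3
  omega

/-- The invariants. -/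
theorem invariants : (Nat.card B = 2 ^ t + 3 ∨ Nat.card B = 2 ^ t + 4) ∧
    1 ≤ blockRank 2 B ∧ blockRank 2 B ≤ 3 ∧ (blockRank 2 B = 3 → Nat.card B = 2 ^ t + 4) ∧
    (blockRank 2 B = 1 → Nat.card B = 2 ^ t + 3) ∧ S.hset.card = 4 ∧
    (S.mems.filter fun χ : IrrCharacter G => blockHeight 2 B (χ : G → ℂ) = 1).card = 2 ^ t - 1 ∧
    ∀ χ ∈ S.mems, blockHeight 2 B (χ : G → ℂ) = 0 ∨ blockHeight 2 B (χ : G → ℂ) = 1 ∨
      blockHeight 2 B (χ : G → ℂ) = t := by
  classical
  obtain ⟨h4, hodd, -, -⟩ := S.height_zero_data (L 0 S.pos_t)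
  obtain ⟨-, a, ha, hk⟩ := S.k_formula
  have hpos : 0 < blockRank 2 B := Res.blockRank_pos S.hM S.isBlock
  have hm : 4 ≤ 2 ^ t := le_of_eq_of_le (by norm_num : 4 = 2 ^ 2)
    (Nat.pow_le_pow_right two_pos S.one_lt_t)
  have hcard : Nat.card B = S.mems.card := by
    rw [mems, ← Fintype.card_subtype, ← Nat.card_eq_fintype_card]
  set O := S.oset (L 0 S.pos_t) with hO
  set Q := S.mems.filter fun w => w ∉ S.hset ∧ w ∉ O ∧ S.spc L w ≠ 0 with hQ
  set R := S.rset L with hR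
  have hQR : Disjoint Q R := by
    rw [Finset.disjoint_left]
    intro w hw hw'
    exact (Finset.mem_filter.1 hw).2.2.2 ((S.mem_rset L).1 hw').2.2.2
  have hOQR : Disjoint O (Q ∪ R) := by
    rw [Finset.disjoint_left]
    intro w hw hw'
    rcases Finset.mem_union.1 hw' with h | h
    · exact (Finset.mem_filter.1 h).2.2.1 hw
    · exact ((S.mem_rset L).1 h).2.2.1 hw
  have hHrest : Disjoint S.hset (O ∪ (Q ∪ R)) := by
    rw [Finset.disjoint_left]
    intro w hw hw'
    rcases Finset.mem_union.1 hw' with h | h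
    · exact S.zero_disjoint L hg hy hw h
    rcases Finset.mem_union.1 h with h | h
    · exact (Finset.mem_filter.1 h).2.1 hw
    · exact ((S.mem_rset L).1 h).2.1 hw
  have hall : S.mems = S.hset ∪ (O ∪ (Q ∪ R)) := by
    refine Finset.Subset.antisymm (fun w hw => ?_) (Finset.union_subset S.hset_subset
      (Finset.union_subset (fun w hw => (S.mem_oset.1 hw).1)
        (Finset.union_subset (Finset.filter_subset _ _) fun w hw => ((S.mem_rset L).1 hw).1)))
    simp only [Finset.mem_union]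
    by_cases h1 : w ∈ S.hset
    · exact Or.inl h1
    by_cases h2 : w ∈ O
    · exact Or.inr (Or.inl h2)
    by_cases h3 : S.spc L w = 0
    · exact Or.inr (Or.inr (Or.inr ((S.mem_rset L).2 ⟨hw, h1, h2, h3⟩)))
    · exact Or.inr (Or.inr (Or.inl (Finset.mem_filter.2 ⟨hw, h1, h2, h3⟩)))
  have hsize := congrArg Finset.card hall
  rw [Finset.card_union_of_disjoint hHrest, Finset.card_union_of_disjoint hOQR,
    Finset.card_union_of_disjoint hQR, h4, (S.oset_card (L 0 S.pos_t)).1] at hsize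
  have hQ1 : Q.card ≤ 1 := S.card_special L
  have hRc : R.card ≤ 1 := S.card_rem L hg hy
  have hOh : ∀ w ∈ O, blockHeight 2 B (w : G → ℂ) = 1 := fun w hw =>
    S.oset_height L hw fun h => S.zero_disjoint L hg hy h hw
  have hRh : ∀ w ∈ R, blockHeight 2 B (w : G → ℂ) = t := fun w hw =>
    (S.rem_data L hg hy hw).1
  set Q1 := Q.filter fun χ : IrrCharacter G => blockHeight 2 B (χ : G → ℂ) = 1 with hQ1def
  have hone : S.mems.filter (fun χ : IrrCharacter G => blockHeight 2 B (χ : G → ℂ) = 1) =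
      O ∪ Q1 := by
    rw [hall, Finset.filter_union, Finset.filter_union, Finset.filter_union,
      Finset.filter_eq_empty_iff.2 fun w hw => by rw [(S.mem_hset.1 hw).2]; decide,
      Finset.filter_eq_self.2 hOh,
      Finset.filter_eq_empty_iff (s := R).2 fun w hw => by
        rw [hRh w hw]; have := S.one_lt_t; omega,
      Finset.empty_union, Finset.union_empty]
  have hc1 := congrArg Finset.card hone
  rw [Finset.card_union_of_disjoint (hOQR.mono_right
    ((Finset.filter_subset _ _).trans Finset.subset_union_left)),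
    (S.oset_card (L 0 S.pos_t)).1] at hc1
  have hq : Q1.card ≤ Q.card := Finset.card_filter_le _ _
  obtain ⟨d, hd⟩ := hodd
  have h2t := S.half_pos
  change _ = _ + Q1.card at hc1
  have hQeq : Q1 = Q := Finset.eq_of_subset_of_card_le (Finset.filter_subset _ _) (by omega)
  refine ⟨by omega, hpos, by omega, fun h => by omega, fun h => by omega, h4, by omega,
    fun w hw => ?_⟩
  rw [hall] at hw
  simp only [Finset.mem_union] at hw
  rcases hw with h | h | h | h
  · exact Or.inl (S.mem_hset.1 h).2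
  · exact Or.inr (Or.inl (hOh w h))
  · rw [← hQeq] at h
    exact Or.inr (Or.inl (Finset.mem_filter.1 h).2)
  · exact Or.inr (Or.inr (hRh w h))

end Setup

end Cfsg.Agent.Char.SemiBlk
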