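import Cfsg.Agent.Lib.Char.SemiBlockGroup
import Cfsg.Agent.Lib.Char.SectionReps
import Cfsg.Agent.Lib.Char.DihBlockOne
import Cfsg.Agent.Lib.Char.NilpotentMain
import Cfsg.Agent.Lib.Char.PairSaturated
import Cfsg.Agent.Lib.Char.DihBlockSetup

/-!
The sections of a 2-block with semidihedral defect group: pairs, fusion, ranks, defects and
representatives.
-/

open scoped ComplexConjugate

namespace Cfsg.Agent.Char.SemiBlk

open Cfsg Cfsg.Agent.Block Cfsg.Agent.Char Cfsg.Agent.Char.BP Cfsg.Agent.Char.Spec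

set_option linter.unusedSectionVars false
set_option linter.style.haveILetI false
set_option maxHeartbeats 800000

universe u

variable {G : Type u} [Group G] [Fintype G] {M : Ideal AlgInt} {B : Set (IrrCharacter G)}
variable {P : Subgroup G} {e : Set (IrrCharacter (CG P))} {r s : G} {t : ℕ}

/-- The equipment: a maximal pair on a semidihedral group. -/
structure Setup (M : Ideal AlgInt) (B : Set (IrrCharacter G)) (P : Subgroup G)
    (e : Set (IrrCharacter (CG P))) (r s : G) (t : ℕ) : Prop where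
  hM : IsPModular 2 M
  max : IsMx 2 M B (⟨P, e⟩ : BrauerPairIdx G)
  sd : Sd P r s t

theorem exists_setup {D : Subgroup G} (hM : IsPModular 2 M) (hB : IsPBlock M B)
    (hD : IsDefectGroup 2 M B D) (hr : Sd D r s t) : ∃ f, Setup M B D f r s t := by
  obtain ⟨f, hf⟩ := (exists_pair_iff hM hB (IsDefectGroup.isPGroup hD)).2
    ((not_brZero_iff hM hB hD (IsDefectGroup.isPGroup hD)).2 ⟨1, by rw [map_conj_one]⟩)
  exact ⟨f, hM, max_of_defect hM hf hD, hr⟩

namespace Setup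

variable (S : Setup M B P e r s t)
include S

theorem isPr : IsPr 2 M (⟨P, e⟩ : BrauerPairIdx G) := S.max.1.1

theorem isBlock : IsPBlock M B := S.max.1.2.1

theorem defect : blockDefect 2 B = t + 2 := by
  have h := card_defectGroup S.hM S.isBlock (defect_of_max S.hM S.max)
  rw [S.sd.card] at h
  exact (Nat.pow_right_injective le_rfl h).symm

theorem ppow_mem {x : G} (hx : x ∈ P) : ∃ k, orderOf x = 2 ^ k := by
  obtain ⟨k, -, hk⟩ := (Nat.dvd_prime_pow Nat.prime_two).1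
    (S.sd.card ▸ Subgroup.orderOf_dvd_natCard (s := P) hx)
  exact ⟨k, hk⟩

theorem ofB_of_le {a : BrauerPairIdx G} (h : LE 2 M a (⟨P, e⟩ : BrauerPairIdx G)) :
    OfB 2 M B a := (ofB_le S.hM h).1 S.max.1

/-- The pair below the maximal pair at an element. -/
noncomputable def bel (_S : Setup M B P e r s t) (x : G) : BrauerPairIdx G := by
  classical
  exact if h : ∃ a : BrauerPairIdx G,
      a.1 = Subgroup.zpowers x ∧ LE 2 M a (⟨P, e⟩ : BrauerPairIdx G)
    then h.choose else ⟨P, e⟩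

theorem bel_spec {x : G} (hx : x ∈ P) :
    (S.bel x).1 = Subgroup.zpowers x ∧ LE 2 M (S.bel x) (⟨P, e⟩ : BrauerPairIdx G) := by
  classical
  have h : ∃ a : BrauerPairIdx G,
      a.1 = Subgroup.zpowers x ∧ LE 2 M a (⟨P, e⟩ : BrauerPairIdx G) :=
    exists_le S.hM S.isPr (Subgroup.zpowers_le.2 hx)
  rw [bel, dif_pos h]
  exact h.choose_spec

theorem bel_fst {x : G} (hx : x ∈ P) : (S.bel x).1 = Subgroup.zpowers x := (S.bel_spec hx).1

theorem bel_le {x : G} (hx : x ∈ P) : LE 2 M (S.bel x) (⟨P, e⟩ : BrauerPairIdx G) :=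
  (S.bel_spec hx).2

theorem bel_ofB {x : G} (hx : x ∈ P) : OfB 2 M B (S.bel x) := S.ofB_of_le (S.bel_le hx)

theorem bel_unique {x : G} {a : BrauerPairIdx G} (ha : a.1 = Subgroup.zpowers x)
    (hle : LE 2 M a (⟨P, e⟩ : BrauerPairIdx G)) : a = S.bel x := by
  have hx : x ∈ P := le_subgroup hle (ha ▸ Subgroup.mem_zpowers x)
  exact le_unique S.hM hle (S.bel_le hx) (ha.trans (S.bel_fst hx).symm)

theorem bel_congr {x y : G} (hx : x ∈ P) (h : Subgroup.zpowers x = Subgroup.zpowers y) :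
    S.bel x = S.bel y :=
  S.bel_unique ((S.bel_fst hx).trans h) (S.bel_le hx)

/-- Fusion of elements with their pairs. -/
def Fus (x y : G) : Prop := ∃ g : G, g * x * g⁻¹ = y ∧ cjI g (S.bel x) = S.bel y

theorem fus_refl (x : G) : S.Fus x x := ⟨1, by group, cjI_one _⟩

theorem fus_symm {x y : G} (h : S.Fus x y) : S.Fus y x := by
  obtain ⟨g, hg, he⟩ := h
  refine ⟨g⁻¹, ?_, ?_⟩
  · rw [← hg]; group
  · rw [← he, cjI_inv_cancel]

theorem fus_trans {x y z : G} (h : S.Fus x y) (h' : S.Fus y z) : S.Fus x z := by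
  obtain ⟨g, hg, he⟩ := h
  obtain ⟨g', hg', he'⟩ := h'
  refine ⟨g' * g, ?_, ?_⟩
  · rw [← hg', ← hg]; group
  · rw [← cjI_cjI, he, he']

theorem cjI_bel {x w : G} (hx : x ∈ P) (hw : w ∈ P) :
    cjI w (S.bel x) = S.bel (w * x * w⁻¹) := by
  refine S.bel_unique ?_ ?_
  · show (S.bel x).1.map (MulAut.conj w).toMonoidHom = _
    rw [S.bel_fst hx, MonoidHom.map_zpowers]
    rfl
  · have h := le_cjI S.hM w (S.bel_le hx)
    rwa [cjI_self (a := (⟨P, e⟩ : BrauerPairIdx G)) hw] at h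

theorem fus_of_mem {x w : G} (hx : x ∈ P) (hw : w ∈ P) : S.Fus x (w * x * w⁻¹) :=
  ⟨w, rfl, S.cjI_bel hx hw⟩

theorem fus_order {x y : G} (h : S.Fus x y) : orderOf y = orderOf x := by
  obtain ⟨g, rfl, -⟩ := h
  exact MulEquiv.orderOf_eq (MulAut.conj g) x

/-- A rotation is fused to its flip. -/
theorem fus_flip {x : G} (hx : x ∈ P) : S.Fus x (s * x * s⁻¹) := S.fus_of_mem hx S.sd.smem

/-- Every block of a section which is not fused to the central involution is of rank one. -/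
theorem rank_one {a : BrauerPairIdx G} {x : G} (hax : a.1 = Subgroup.zpowers x) (hx1 : x ≠ 1)
    (haB : OfB 2 M B a)
    (hnz : ∀ g : G, LE 2 M (cjI g a) (⟨P, e⟩ : BrauerPairIdx G) → g * x * g⁻¹ ≠ r ^ 2 ^ t) :
    blockRank 2 a.2 = 1 := by
  haveI := Fintype.ofFinite (CG a.1)
  refine (rank_of_nilpotent S.hM ((nil_iff S.hM).2 ⟨haB.1.2, fun b hb y hy hyo => ?_⟩)).1
  set R := upIn a b with hR
  have hstep : Step 2 M a R := step_upIn S.hM haB.1 hb
  obtain ⟨l, hl⟩ := le_conj_max S.hM ((ofB_step S.hM hstep).2 haB) S.max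
  have hle : R.1.map (MulAut.conj l).toMonoidHom ≤ P := le_subgroup hl
  have hbR : b.1.map (CG a.1).subtype ≤ R.1 := le_sup_left
  have hxR : x ∈ R.1 := (le_sup_right : a.1 ≤ R.1) (hax ▸ Subgroup.mem_zpowers x)
  have hRC : R.1 ≤ Subgroup.centralizer ({x} : Set G) := by
    rw [← cg_zpowers, ← hax]
    refine sup_le ?_ ?_
    · rintro _ ⟨d, -, rfl⟩; exact d.2
    · rw [hax]; exact Subgroup.zpowers_le.2 (hax ▸ self_mem_cg hax)
  have hla : LE 2 M (cjI l a) (⟨P, e⟩ : BrauerPairIdx G) :=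
    (le_cjI S.hM l (Relation.ReflTransGen.single hstep)).trans hl
  have hyN : (y : G) ∈ Subgroup.normalizer (R.1 : Set G) :=
    stab_le_normalizer _ (mem_stab_upIn hy)
  have hxC : (y : G) * x = x * (y : G) :=
    (Subgroup.mem_centralizer_iff.1 y.2 x (hax ▸ Subgroup.mem_zpowers x)).symm
  have hodd : Odd (orderOf (l * (y : G) * l⁻¹)) := by
    rw [show orderOf (l * (y : G) * l⁻¹) = orderOf (y : G) from
      MulEquiv.orderOf_eq (MulAut.conj l) _, Subgroup.orderOf_coe]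
    exact Nat.not_even_iff_odd.1 fun hc => hyo hc.two_dvd
  have hconj : ∀ w, w ∈ R.1.map (MulAut.conj l).toMonoidHom ↔
      l * (y : G) * l⁻¹ * w * (l * (y : G) * l⁻¹)⁻¹ ∈ R.1.map (MulAut.conj l).toMonoidHom := by
    intro w
    rw [show w = l * (l⁻¹ * w * l) * l⁻¹ by group, conj_mem_map_conj,
      show l * (y : G) * l⁻¹ * (l * (l⁻¹ * w * l) * l⁻¹) * (l * (y : G) * l⁻¹)⁻¹ =
        l * ((y : G) * (l⁻¹ * w * l) * (y : G)⁻¹) * l⁻¹ by group, conj_mem_map_conj]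
    exact Subgroup.mem_normalizer_iff.1 hyN _
  have key := S.sd.odd_fix hle (x := l * x * l⁻¹) (conj_mem_map_conj.2 hxR)
    (fun hc => hx1 (by rwa [conj_eq_one_iff] at hc)) (hnz l hla)
    (fun w hw => by
      obtain ⟨w', hw', rfl⟩ := hw
      show l * w' * l⁻¹ * (l * x * l⁻¹) = l * x * l⁻¹ * (l * w' * l⁻¹)
      rw [conj_mul, conj_mul, Subgroup.mem_centralizer_singleton_iff.1 (hRC hw')])
    (y := l * (y : G) * l⁻¹) hodd hconj
    (by
      rw [show l * (y : G) * l⁻¹ * (l * x * l⁻¹) * (l * (y : G) * l⁻¹)⁻¹ =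
        l * ((y : G) * x * (y : G)⁻¹) * l⁻¹ by group, hxC, mul_inv_cancel_right])
  refine Subgroup.mem_centralizer_iff.2 fun w hw => Subtype.ext ?_
  have h := key (l * (w : G) * l⁻¹) (conj_mem_map_conj.2 (hbR ⟨w, hw, rfl⟩))
  have h2 : (y : G) * (w : G) * (y : G)⁻¹ = (w : G) := by
    refine MulAut.conj l |>.injective ?_
    show l * ((y : G) * (w : G) * (y : G)⁻¹) * l⁻¹ = l * (w : G) * l⁻¹
    conv_rhs => rw [← h]
    group
  exact (mul_inv_eq_iff_eq_mul.1 h2).symm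

theorem rank_bel {x : G} (hx : x ∈ P) (hx1 : x ≠ 1) (hnz : ¬ S.Fus x (r ^ 2 ^ t)) :
    blockRank 2 (S.bel x).2 = 1 := by
  refine S.rank_one (S.bel_fst hx) hx1 (S.bel_ofB hx) fun g hg e => hnz ⟨g, e, ?_⟩
  refine S.bel_unique ?_ hg
  show (S.bel x).1.map (MulAut.conj g).toMonoidHom = _
  rw [S.bel_fst hx, MonoidHom.map_zpowers, ← e]
  rfl

theorem not_fus_z {x : G} (hxx : x * x ≠ 1) : ¬ S.Fus x (r ^ 2 ^ t) := by
  rintro ⟨g, hg, -⟩
  refine hxx (conj_eq_one_iff.1 (?_ : g * (x * x) * g⁻¹ = 1))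
  rw [← conj_mul, hg, S.sd.z_mul_self]

theorem rank_bel_one : blockRank 2 (S.bel 1).2 = blockRank 2 B :=
  rank_bot_pair S.hM S.max S.isBlock (S.bel_fst (one_mem _)) (S.bel_ofB (one_mem _))

/-- The defect of a pair against the centralizers in the maximal subgroup. -/
theorem defect_le {x : G} (hx : x ∈ P) : ∃ x' ∈ P, S.Fus x x' ∧ ∀ T : Finset G,
    (∀ w ∈ P, w * x' = x' * w → w ∈ T) → 2 ^ blockDefect 2 (S.bel x).2 ≤ T.card := by
  classical
  obtain ⟨g, hg, hD⟩ := exists_conj_fully S.hM S.max (S.bel_le hx)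
  have h1 := card_of_isDefect_inf S.hM (le_isPr hg S.isPr) hD
  rw [blockDefect_cjI] at h1
  have hgx : (cjI g (S.bel x)).1 = Subgroup.zpowers (g * x * g⁻¹) := by
    show (S.bel x).1.map (MulAut.conj g).toMonoidHom = _
    rw [S.bel_fst hx, MonoidHom.map_zpowers]
    rfl
  have hgP : g * x * g⁻¹ ∈ P := le_subgroup hg (hgx ▸ Subgroup.mem_zpowers _)
  refine ⟨_, hgP, ⟨g, rfl, S.bel_unique hgx hg⟩, fun T hT => ?_⟩
  rw [← h1, Nat.card_eq_fintype_card, ← Finset.card_univ,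
    ← Finset.card_image_of_injective Finset.univ Subtype.val_injective]
  refine Finset.card_le_card fun w hw => ?_
  obtain ⟨w, -, rfl⟩ := Finset.mem_image.1 hw
  exact hT _ w.2.1 (Subgroup.mem_centralizer_iff.1 w.2.2 _ (hgx ▸ Subgroup.mem_zpowers _)).symm

theorem le_defect {x : G} (hx : x ∈ P) {Q : Subgroup G} (hQ : Q ≤ P)
    (hc : ∀ w ∈ Q, w * x = x * w) : Nat.card Q ≤ 2 ^ blockDefect 2 (S.bel x).2 := by
  refine le_trans ?_ (card_inf_cg_le S.hM S.isPr (S.bel_le hx))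
  refine Subgroup.card_le_of_le fun w hw => ⟨hQ hw, ?_⟩
  show w ∈ CG (S.bel x).1
  rw [S.bel_fst hx, cg_zpowers, Subgroup.mem_centralizer_singleton_iff]
  exact hc w hw

/-- A pair at a rotation of order more than two has defect one less. -/
theorem defect_rotation {x : G} (hx : x ∈ Subgroup.zpowers r) (hxx : x * x ≠ 1) :
    blockDefect 2 (S.bel x).2 = t + 1 := by
  classical
  have hxP : x ∈ P := (Subgroup.zpowers_le.2 S.sd.mem) hx
  refine le_antisymm ?_ ?_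
  · obtain ⟨x', hx', hf, hT⟩ := S.defect_le hxP
    have hxx' : x' * x' ≠ 1 := fun e => hxx (by
      obtain ⟨g, rfl, -⟩ := hf
      rwa [conj_mul, conj_eq_one_iff] at e)
    have h2 : ∃ T : Finset G, T.card ≤ 2 ^ (t + 1) ∧ ∀ w ∈ P, w * x' = x' * w → w ∈ T := by
      by_cases hxr : x' ∈ Subgroup.zpowers r
      · refine ⟨(Finset.range (2 ^ (t + 1))).image (fun i => r ^ i),
          Finset.card_image_le.trans (by rw [Finset.card_range]), fun w hw hc => ?_⟩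
        obtain ⟨i, hi, rfl⟩ := (S.sd.mem_cases hw).resolve_right
          (fun hn => hn (S.sd.centralizer_rotation hxr hxx' hw hc))
        exact Finset.mem_image.2 ⟨i, Finset.mem_range.2 hi, rfl⟩
      · refine ⟨{1, r ^ 2 ^ t, x', r ^ 2 ^ t * x'}, Finset.card_le_four.trans ?_, fun w hw hc => ?_⟩
        · calc 4 = 2 ^ 2 := by norm_num
            _ ≤ 2 ^ (t + 1) := Nat.pow_le_pow_right two_pos (by have := S.sd.pos; omega)
        · simpa using S.sd.centralizer_refl hx' hxr hw hc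
    obtain ⟨T, hTc, hTm⟩ := h2
    exact (Nat.pow_le_pow_iff_right one_lt_two).1 ((hT T hTm).trans hTc)
  · have h := S.le_defect hxP (Subgroup.zpowers_le.2 S.sd.mem) (fun w hw => by
      obtain ⟨i, rfl⟩ := Subgroup.mem_zpowers_iff.1 hw
      obtain ⟨k, rfl⟩ := Subgroup.mem_zpowers_iff.1 hx
      exact ((Commute.refl r).zpow_zpow i k).eq)
    rw [Nat.card_zpowers, S.sd.order] at h
    exact (Nat.pow_le_pow_iff_right one_lt_two).1 h

/-- A pair at a central element is major. -/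
theorem defect_major {x : G} (hx : x ∈ P) (hxc : ∀ w ∈ P, w * x = x * w) :
    blockDefect 2 (S.bel x).2 = t + 2 := by
  rw [blockDefect_of_le_major S.hM S.max (S.bel_le hx) ?_, S.defect]
  intro w hw
  rw [S.bel_fst hx, cg_zpowers, Subgroup.mem_centralizer_singleton_iff]
  exact hxc w hw

/-- A rotation of order four. -/
theorem quarter_cases {x : G} (hx : x ∈ Subgroup.zpowers r) (h4 : orderOf x ∣ 4)
    (hxx : x * x ≠ 1) : x = r ^ 2 ^ (t - 1) ∨ x = (r ^ 2 ^ (t - 1))⁻¹ := by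
  obtain ⟨i, rfl⟩ := (isOfFinOrder_of_finite r).mem_powers_iff_mem_zpowers.2 hx
  simp only at h4 hxx ⊢
  obtain ⟨d, hd⟩ : ∃ d, t = d + 1 := ⟨t - 1, by have := S.sd.pos; omega⟩
  rw [hd, Nat.add_sub_cancel]
  have hN : orderOf r = 4 * 2 ^ d := by rw [S.sd.order, hd, pow_succ, pow_succ]; ring
  rw [orderOf_dvd_iff_pow_eq_one, ← pow_mul, ← orderOf_dvd_iff_pow_eq_one, hN,
    mul_comm i 4] at h4
  obtain ⟨c, rfl⟩ := Nat.dvd_of_mul_dvd_mul_left four_pos h4
  have h4' : (r ^ 2 ^ d) ^ 4 = 1 := by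
    rw [← pow_mul, mul_comm, ← hN, pow_orderOf_eq_one]
  have hc : r ^ (2 ^ d * c) = (r ^ 2 ^ d) ^ (c % 4) := by
    rw [pow_mul]
    conv_lhs => rw [← Nat.mod_add_div c 4, pow_add, pow_mul, h4', one_pow, mul_one]
  rw [hc] at hxx ⊢
  have hlt := Nat.mod_lt c four_pos
  interval_cases c % 4
  · exact absurd (by simp) hxx
  · exact Or.inl (pow_one _)
  · exact absurd (by rw [← pow_add]; exact h4') hxx
  · exact Or.inr (eq_inv_of_mul_eq_one_left (by rw [← pow_succ]; exact h4'))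

/-- The defect of a pair outside the rotations which is not fused to one. -/
theorem defect_refl {x : G} (hx : x ∈ P) (hxr : x ∉ Subgroup.zpowers r)
    (hnz : ¬ S.Fus x (r ^ 2 ^ t)) (hnq : ¬ S.Fus x (r ^ 2 ^ (t - 1))) :
    blockDefect 2 (S.bel x).2 = 2 := by
  classical
  have hx1 : x ≠ 1 := fun e => hxr (e ▸ one_mem _)
  refine le_antisymm ?_ ?_
  · obtain ⟨x', hx', hf, hT⟩ := S.defect_le hx
    have ho : orderOf x' = orderOf x := S.fus_order hf
    have hx'r : x' ∉ Subgroup.zpowers r := fun hc => by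
      by_cases hxx : x * x = 1
      · have he : x' * x' = 1 := by
          obtain ⟨g, rfl, -⟩ := hf
          rw [conj_mul, hxx, mul_one, mul_inv_cancel]
        rcases S.sd.rot_sq hc he with rfl | rfl
        · exact hx1 (orderOf_eq_one_iff.1 (ho.symm.trans orderOf_one))
        · exact hnz hf
      · have h4 : orderOf x ∣ 4 := by
          rw [orderOf_dvd_iff_pow_eq_one, show 4 = 2 * 2 from rfl, pow_mul, pow_two, pow_two]
          rw [(S.sd.refl_sq hx hxr).resolve_left hxx, S.sd.z_mul_self]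
        have hne : x' * x' ≠ 1 := fun e => hxx (by
          obtain ⟨g, rfl, -⟩ := hf
          rwa [conj_mul, conj_eq_one_iff] at e)
        rcases S.quarter_cases hc (ho ▸ h4) hne with e | e
        · exact hnq (e ▸ hf)
        · refine hnq (S.fus_trans (e ▸ hf) (S.fus_symm ?_))
          have h := S.fus_flip (S.sd.pow_mem' (2 ^ (t - 1)))
          rwa [S.sd.refl_pow_even S.sd.smem S.sd.s_not
            (dvd_pow_self 2 (by have := S.sd.pos; omega))] at h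
    refine (Nat.pow_le_pow_iff_right one_lt_two).1
      ((hT {1, r ^ 2 ^ t, x', r ^ 2 ^ t * x'} fun w hw hc => ?_).trans Finset.card_le_four)
    simpa using S.sd.centralizer_refl hx' hx'r hw hc
  · set Q := P ⊓ Subgroup.centralizer ({x} : Set G) with hQ
    have hzQ : r ^ 2 ^ t ∈ Q :=
      ⟨S.sd.pow_mem' _, Subgroup.mem_centralizer_singleton_iff.2 (S.sd.z_central hx).symm⟩
    have hxQ : x ∈ Q := ⟨hx, Subgroup.mem_centralizer_singleton_iff.2 rfl⟩
    have hzr : r ^ 2 ^ t ∈ Subgroup.zpowers r := pow_mem (Subgroup.mem_zpowers r) _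
    have h4 : ({1, r ^ 2 ^ t, x, r ^ 2 ^ t * x} : Finset G).card = 4 := by
      rw [Finset.card_eq_four]
      refine ⟨1, r ^ 2 ^ t, x, r ^ 2 ^ t * x, S.sd.z_ne_one.symm, hx1.symm, fun e => ?_,
        fun e => hxr (e ▸ hzr), fun e => hx1 (mul_eq_left.1 e.symm),
        fun e => S.sd.z_ne_one (mul_eq_right.1 e.symm), rfl⟩
      have h := mul_mem (inv_mem hzr) (e ▸ one_mem (Subgroup.zpowers r) :
        r ^ 2 ^ t * x ∈ Subgroup.zpowers r)
      rw [inv_mul_cancel_left] at h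
      exact hxr h
    have hle : 2 ^ 2 ≤ Nat.card Q := by
      have h5 : ({1, r ^ 2 ^ t, x, r ^ 2 ^ t * x} : Finset G) ⊆
          Finset.univ.filter (fun w => w ∈ Q) := by
        intro w hw
        simp only [Finset.mem_insert, Finset.mem_singleton] at hw
        refine Finset.mem_filter.2 ⟨Finset.mem_univ _, ?_⟩
        rcases hw with rfl | rfl | rfl | rfl
        exacts [one_mem _, hzQ, hxQ, mul_mem hzQ hxQ]
      have h6 := Finset.card_le_card h5
      rw [h4, ← Fintype.card_subtype, ← Nat.card_eq_fintype_card] at h6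
      exact h6
    exact (Nat.pow_le_pow_iff_right one_lt_two).1 (hle.trans (S.le_defect hx inf_le_left
      fun w hw => Subgroup.mem_centralizer_singleton_iff.1 hw.2))

/-- Fusion of rotations is the flip at most. -/
theorem rotation_fusion {x y : G} (hx : x ∈ Subgroup.zpowers r) (hy : y ∈ Subgroup.zpowers r)
    (h : S.Fus x y) : y = x ∨ y = s * x * s⁻¹ := by
  obtain ⟨g, rfl, he⟩ := h
  have hrP : Subgroup.zpowers r ≤ P := Subgroup.zpowers_le.2 S.sd.mem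
  set Q := Subgroup.zpowers x with hQ
  have hQP : Q ≤ P := (Subgroup.zpowers_le.2 hx).trans hrP
  have hQe : Subgroup.zpowers (g * x * g⁻¹) = Q :=
    DihBlk.zpowers_eq_of_orderOf hy hx (MulEquiv.orderOf_eq (MulAut.conj g) x)
  have hgQ : g ∈ Subgroup.normalizer (Q : Set G) := by
    have h1 : Q.map (MulAut.conj g).toMonoidHom = Q := by
      rw [hQ, MonoidHom.map_zpowers]
      exact hQe
    refine Subgroup.mem_normalizer_iff.2 fun v => ?_
    conv_rhs => rw [← h1]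
    exact conj_mem_map_conj.symm
  have key : ∀ w ∈ P, w * x * w⁻¹ = x ∨ w * x * w⁻¹ = s * x * s⁻¹ := by
    intro w hw
    obtain ⟨i, rfl⟩ := (isOfFinOrder_of_finite r).mem_powers_iff_mem_zpowers.2 hx
    by_cases hwr : w ∈ Subgroup.zpowers r
    · left
      obtain ⟨j, rfl⟩ := Subgroup.mem_zpowers_iff.1 hwr
      show r ^ j * r ^ i * (r ^ j)⁻¹ = r ^ i
      rw [((Commute.refl r).zpow_left j).pow_right i |>.eq, mul_inv_cancel_right]
    · right
      show w * r ^ i * w⁻¹ = s * r ^ i * s⁻¹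
      rw [S.sd.refl_pow hw hwr, S.sd.refl_pow S.sd.smem S.sd.s_not]
  have hsx : s * x * s⁻¹ ∈ Q := by
    obtain ⟨i, rfl⟩ := (isOfFinOrder_of_finite r).mem_powers_iff_mem_zpowers.2 hx
    simp only [hQ]
    rw [S.sd.refl_pow S.sd.smem S.sd.s_not, mul_comm, pow_mul]
    exact pow_mem (Subgroup.mem_zpowers _) _
  have hPN : P ≤ Subgroup.normalizer (Q : Set G) := by
    intro w hw
    have h1 : ∀ w ∈ P, ∀ v ∈ Q, w * v * w⁻¹ ∈ Q := by
      intro w hw v hv
      obtain ⟨k, rfl⟩ := Subgroup.mem_zpowers_iff.1 hv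
      rw [← conj_zpow]
      refine Subgroup.zpow_mem _ ?_ k
      rcases key w hw with e | e <;> rw [e]
      · exact Subgroup.mem_zpowers _
      · exact hsx
    refine Subgroup.mem_normalizer_iff.2 fun v => ⟨h1 w hw v, fun hv => ?_⟩
    have := h1 w⁻¹ (inv_mem hw) _ hv
    rwa [show w⁻¹ * (w * v * w⁻¹) * w⁻¹⁻¹ = v by group] at this
  obtain ⟨F, hF, hsat⟩ := exists_saturated S.hM S.max
  have hP : IsPGroup 2 P := S.isPr.1
  have hFN : F.IsFullyNormalized Q := ⟨hQP, fun R hR => by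
    refine Subgroup.card_le_of_le ?_
    rw [show FusionSystem.normalizerIn P Q = P from inf_eq_left.2 hPN]
    exact inf_le_left⟩
  obtain ⟨-, R, hR⟩ := Fus.fullyAutomized_of_fullyNormalized hP hsat hFN
  set α : MulAut Q := Q.normalizerMonoidHom ⟨g, hgQ⟩ with hα
  have hαF : α ∈ F.autGroup Q := (Fus.mem_autGroup hQP).2 <| (isMap_iff hF).2
    ⟨S.bel x, g, S.bel_fst (hrP hx), S.bel_le (hrP hx), he ▸ S.bel_le (hrP hy), fun u hu => by
      rw [show u = ((⟨u, hu⟩ : Q) : G) from rfl, Fus.autFun_coe]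
      rfl⟩
  have h2 : IsPGroup 2 (F.autGroup Q) := by
    obtain ⟨k, hk⟩ := S.ppow_mem (hQP (Subgroup.mem_zpowers x))
    have hc : Nat.card (MulAut Q) = Nat.totient (2 ^ k) := by
      haveI : IsCyclic Q := inferInstanceAs (IsCyclic (Subgroup.zpowers x))
      rw [IsCyclic.card_mulAut, hQ, Nat.card_zpowers, hk]
    refine IsPGroup.to_subgroup (IsPGroup.of_card (n := k - 1) ?_) _
    rw [hc]
    rcases k with _ | k
    · simp
    · rw [Nat.totient_prime_pow_succ Nat.prime_two]; simp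
  have hRt : (R : Subgroup (F.autGroup Q)) = ⊤ :=
    R.3 (h2.to_subgroup ⊤) le_top |>.symm
  have hαR : (⟨α, hαF⟩ : F.autGroup Q) ∈ (autInducedBy P Q).subgroupOf (F.autGroup Q) := by
    rw [← hR, hRt]; exact Subgroup.mem_top _
  obtain ⟨w, hw, hwα⟩ := Fus.mem_autInducedBy.1 (Subgroup.mem_subgroupOf.1 hαR)
  have h3 : g * x * g⁻¹ = w * x * w⁻¹ := hwα ⟨x, Subgroup.mem_zpowers x⟩
  rw [h3]
  exact key w hw

theorem rot_sq_ne {i : ℕ} (hi1 : 1 ≤ i) (hi2 : i < 2 ^ t) : r ^ i * r ^ i ≠ 1 := by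
  rw [← pow_add, Ne, S.sd.pow_eq_one_iff]
  intro hd
  have := Nat.le_of_dvd (by omega) hd
  rw [pow_succ] at this
  omega

omit S in
/-- The exponent of a representative rotation. -/
def rexp (t i : ℕ) : ℕ := if i % 2 = 1 ∧ 2 ^ (t - 1) < i then i + 2 ^ (t - 1) else i

theorem rexp_cases {i : ℕ} (h1 : 1 ≤ i) (h2 : i < 2 ^ t) :
    1 ≤ rexp t i ∧ rexp t i < 2 ^ (t + 1) ∧ rexp t i ≠ 2 ^ t ∧
      ((2 ∣ rexp t i ∧ rexp t i < 2 ^ t) ∨ (¬ 2 ∣ rexp t i ∧
        (rexp t i < 2 ^ (t - 1) ∨ 2 ^ t < rexp t i ∧ rexp t i < 2 ^ t + 2 ^ (t - 1)))) := by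
  obtain ⟨d, hd⟩ : ∃ d, t = d + 2 := ⟨t - 2, by have := S.sd.pos; omega⟩
  have e0 : 2 ^ (t - 1) = 2 * 2 ^ d := by rw [hd, show d + 2 - 1 = d + 1 by omega, pow_succ]; ring
  have e1 : 2 ^ t = 4 * 2 ^ d := by rw [hd, pow_add]; ring
  have e2 : 2 ^ (t + 1) = 8 * 2 ^ d := by rw [pow_succ, e1]; ring
  rw [rexp]
  split_ifs with h <;> omega

theorem rot_sq_ne' {i : ℕ} (h1 : 1 ≤ i) (h2 : i < 2 ^ t) :
    r ^ rexp t i * r ^ rexp t i ≠ 1 := by
  obtain ⟨a, b, c, -⟩ := S.rexp_cases h1 h2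
  intro e
  rcases S.sd.rot_sq (pow_mem (Subgroup.mem_zpowers r) _) e with e | e
  · have := Nat.le_of_dvd a (S.sd.pow_eq_one_iff.1 e)
    omega
  · have h := S.sd.pow_inj e
    rw [Nat.ModEq, Nat.mod_eq_of_lt b,
      Nat.mod_eq_of_lt (Nat.pow_lt_pow_right one_lt_two (by omega))] at h
    exact c h

theorem rexp_inj {i j : ℕ} (hi1 : 1 ≤ i) (hi : i < 2 ^ t) (hj1 : 1 ≤ j) (hj : j < 2 ^ t)
    (h : S.Fus (r ^ rexp t i) (r ^ rexp t j)) : i = j := by
  obtain ⟨a1, a2, a3, a4⟩ := S.rexp_cases hi1 hi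
  obtain ⟨b1, b2, b3, b4⟩ := S.rexp_cases hj1 hj
  have e : rexp t i = rexp t j := by
    rcases S.rotation_fusion (pow_mem (Subgroup.mem_zpowers r) _)
      (pow_mem (Subgroup.mem_zpowers r) _) h with e | e
    · have h := S.sd.pow_inj e
      rw [Nat.ModEq, Nat.mod_eq_of_lt b2, Nat.mod_eq_of_lt a2] at h
      exact h.symm
    · rw [S.sd.refl_pow S.sd.smem S.sd.s_not] at e
      have h := Nat.modEq_iff_dvd.1 (S.sd.pow_inj e)
      obtain ⟨d, hd⟩ : ∃ d, t = d + 2 := ⟨t - 2, by have := S.sd.pos; omega⟩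
      have e0 : 2 ^ (t - 1) = 2 * 2 ^ d := by
        rw [hd, show d + 2 - 1 = d + 1 by omega, pow_succ]; ring
      have e1 : 2 ^ t = 4 * 2 ^ d := by rw [hd, pow_add]; ring
      have e2 : 2 ^ (t + 1) = 8 * 2 ^ d := by rw [pow_succ, e1]; ring
      rw [e2, e1] at h
      rw [e2] at a2 b2
      rw [e1] at a3 b3
      rw [e1, e0] at a4 b4
      generalize rexp t i = a at *
      generalize rexp t j = b at *
      have hp := Nat.two_pow_pos d
      push_cast [Nat.cast_sub (show 1 ≤ 4 * 2 ^ d by omega)] at h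
      obtain ⟨c, hc⟩ := h
      have hP : (0 : ℤ) < (2 : ℤ) ^ d := by positivity
      obtain ⟨q, hq⟩ : ∃ q : ℕ, 2 ^ d = q := ⟨_, rfl⟩
      have hq' : (2 : ℤ) ^ d = q := by exact_mod_cast hq
      rw [hq'] at hc hP
      rw [hq] at a2 a3 a4 b2 b3 b4
      -- the sum is a multiple of the half order, of a parity fixed by the parity of the exponent
      obtain ⟨u, hu⟩ : ∃ u : ℤ, (a : ℤ) + b = 4 * q * u ∧ (u + a) % 2 = 0 :=
        ⟨(a : ℤ) - 2 * c, by linear_combination -hc, by omega⟩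
      obtain ⟨hu, hpar⟩ := hu
      rcases le_or_gt 3 u with hc' | hc'
      · have : 4 * (q : ℤ) * 3 ≤ 4 * q * u := mul_le_mul_of_nonneg_left hc' (by positivity)
        omega
      rcases le_or_gt u 0 with hc'' | hc''
      · have : 4 * (q : ℤ) * u ≤ 0 := mul_nonpos_of_nonneg_of_nonpos (by positivity) hc''
        omega
      interval_cases u <;> omega
  rw [rexp, rexp] at e
  have h0 : 2 ^ t = 2 * 2 ^ (t - 1) := by
    rw [← pow_succ', Nat.sub_add_cancel (by have := S.sd.pos; omega)]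
  have h1 : 2 ∣ 2 ^ (t - 1) := dvd_pow_self 2 (by have := S.sd.pos; omega)
  split_ifs at e <;> omega

/-- The elements outside the rotations that are not fused to one. -/
noncomputable def uset (S : Setup M B P e r s t) : Finset G := by
  classical
  exact ({s, r * s} : Finset G).filter fun v =>
    (v = s → ¬ S.Fus v (r ^ 2 ^ t)) ∧ (v ≠ s → ¬ S.Fus v (r ^ 2 ^ (t - 1)))

/-- The representatives of the sections: the elements. -/
noncomputable def xset (S : Setup M B P e r s t) : Finset G := by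
  classical
  exact insert 1 (insert (r ^ 2 ^ t)
    ((Finset.Ico 1 (2 ^ t)).image (fun i => r ^ rexp t i) ∪ S.uset))

/-- The representatives of the sections. -/
noncomputable def reps (S : Setup M B P e r s t) : Finset (G × BrauerPairIdx G) := by
  classical
  exact S.xset.image fun x => (x, S.bel x)

theorem uset_mem {v : G} (hv : v ∈ S.uset) :
    v ∈ P ∧ v ∉ Subgroup.zpowers r ∧ ¬ S.Fus v (r ^ 2 ^ t) ∧ ¬ S.Fus v (r ^ 2 ^ (t - 1)) := by
  classical
  rw [uset, Finset.mem_filter, Finset.mem_insert, Finset.mem_singleton] at hv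
  obtain ⟨h0, h1, h2⟩ := hv
  have hne : r * s ≠ s := fun e => S.sd.z_ne_one (by rw [← S.sd.rs_sq, e, S.sd.s_sq])
  rcases h0 with rfl | rfl
  · refine ⟨S.sd.smem, S.sd.s_not, h1 rfl, fun ⟨g, hg, _⟩ => S.sd.q_sq_ne ?_⟩
    rw [← hg, conj_mul, S.sd.s_sq, mul_one, mul_inv_cancel]
  · exact ⟨S.sd.rs_mem, S.sd.rs_not, S.not_fus_z (S.sd.rs_sq ▸ S.sd.z_ne_one), h2 hne⟩

theorem uset_rank {v : G} (hv : v ∈ S.uset) : blockRank 2 (S.bel v).2 = 1 := by
  obtain ⟨h1, h2, h3, -⟩ := S.uset_mem hv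
  exact S.rank_bel h1 (fun e => h2 (e ▸ one_mem _)) h3

theorem uset_defect {v : G} (hv : v ∈ S.uset) : blockDefect 2 (S.bel v).2 = 2 := by
  obtain ⟨h1, h2, h3, h4⟩ := S.uset_mem hv
  exact S.defect_refl h1 h2 h3 h4

theorem xset_cases {x : G} (hx : x ∈ S.xset) :
    x = 1 ∨ x = r ^ 2 ^ t ∨ (∃ i, 1 ≤ i ∧ i < 2 ^ t ∧ x = r ^ rexp t i) ∨ x ∈ S.uset := by
  classical
  rw [xset, Finset.mem_insert, Finset.mem_insert, Finset.mem_union, Finset.mem_image] at hx
  rcases hx with h | h | ⟨i, hi, rfl⟩ | h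
  · exact Or.inl h
  · exact Or.inr (Or.inl h)
  · rw [Finset.mem_Ico] at hi
    exact Or.inr (Or.inr (Or.inl ⟨i, hi.1, hi.2, rfl⟩))
  · exact Or.inr (Or.inr (Or.inr h))

theorem xset_mem {x : G} (hx : x ∈ S.xset) : x ∈ P := by
  rcases S.xset_cases hx with rfl | rfl | ⟨i, -, -, rfl⟩ | h
  · exact one_mem _
  · exact S.sd.pow_mem' _
  · exact S.sd.pow_mem' _
  · exact (S.uset_mem h).1

theorem xset_sep {x y : G} (hx : x ∈ S.xset) (hy : y ∈ S.xset) (h : S.Fus x y) : x = y := by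
  classical
  have hf1 : ∀ {v}, S.Fus v 1 → v = 1 := fun {v} hf => by
    have ho := S.fus_order hf
    rw [orderOf_one, eq_comm, orderOf_eq_one_iff] at ho
    exact ho
  have hrot1 : ∀ {i}, 1 ≤ i → i < 2 ^ t → r ^ rexp t i ≠ 1 := fun {i} h1 h2 e =>
    S.rot_sq_ne' h1 h2 (by rw [e, one_mul])
  have hrz : ∀ {i}, 1 ≤ i → i < 2 ^ t → ¬ S.Fus (r ^ rexp t i) (r ^ 2 ^ t) := fun {i} h1 h2 =>
    S.not_fus_z (S.rot_sq_ne' h1 h2)
  have hur : ∀ {i v}, 1 ≤ i → i < 2 ^ t → v ∈ S.uset → ¬ S.Fus v (r ^ rexp t i) := by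
    intro i v h1 h2 hv hf
    obtain ⟨hvP, hvr, -, hvq⟩ := S.uset_mem hv
    have hvv : v * v ≠ 1 := fun e => by
      obtain ⟨g, hg, -⟩ := hf
      exact S.rot_sq_ne' h1 h2 (by rw [← hg, conj_mul, e, mul_one, mul_inv_cancel])
    have h4 : orderOf (r ^ rexp t i) ∣ 4 := by
      rw [S.fus_order hf, orderOf_dvd_iff_pow_eq_one, show 4 = 2 * 2 from rfl, pow_mul, pow_two,
        pow_two, (S.sd.refl_sq hvP hvr).resolve_left hvv, S.sd.z_mul_self]
    rcases S.quarter_cases (pow_mem (Subgroup.mem_zpowers r) _) h4 (S.rot_sq_ne' h1 h2) with e | e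
    · exact hvq (e ▸ hf)
    · refine hvq (S.fus_trans (e ▸ hf) (S.fus_symm ?_))
      have h := S.fus_flip (S.sd.pow_mem' (2 ^ (t - 1)))
      rwa [S.sd.refl_pow_even S.sd.smem S.sd.s_not
        (dvd_pow_self 2 (by have := S.sd.pos; omega))] at h
  have hu1 : ∀ {v}, v ∈ S.uset → v ≠ 1 := fun {v} hv e =>
    (S.uset_mem hv).2.1 (e ▸ one_mem _)
  rcases S.xset_cases hx with rfl | rfl | ⟨i, hi1, hi2, rfl⟩ | hxu
  · exact (hf1 (S.fus_symm h)).symm
  · rcases S.xset_cases hy with rfl | rfl | ⟨j, hj1, hj2, rfl⟩ | hyu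
    · exact hf1 h
    · rfl
    · exact absurd (S.fus_symm h) (hrz hj1 hj2)
    · exact absurd (S.fus_symm h) (S.uset_mem hyu).2.2.1
  · rcases S.xset_cases hy with rfl | rfl | ⟨j, hj1, hj2, rfl⟩ | hyu
    · exact hf1 h
    · exact absurd h (hrz hi1 hi2)
    · rw [S.rexp_inj hi1 hi2 hj1 hj2 h]
    · exact absurd (S.fus_symm h) (hur hi1 hi2 hyu)
  · rcases S.xset_cases hy with rfl | rfl | ⟨j, hj1, hj2, rfl⟩ | hyu
    · exact hf1 h
    · exact absurd h (S.uset_mem hxu).2.2.1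
    · exact absurd h (hur hj1 hj2 hxu)
    · have ho := S.fus_order h
      rw [uset, Finset.mem_filter, Finset.mem_insert, Finset.mem_singleton] at hxu hyu
      have hos : orderOf s = 2 :=
        orderOf_eq_prime (by rw [pow_two, S.sd.s_sq]) fun e => S.sd.s_not (e ▸ one_mem _)
      have hor : orderOf (r * s) ≠ 2 := fun e => S.sd.z_ne_one (by
        rw [← S.sd.rs_sq, ← pow_two, ← e, pow_orderOf_eq_one])
      rcases hxu.1 with rfl | rfl <;> rcases hyu.1 with rfl | rfl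
      · rfl
      · exact absurd (ho.trans hos) hor
      · exact absurd (ho.symm.trans hos) hor
      · rfl

theorem xset_cover {v : G} (hv : v ∈ P) : ∃ x ∈ S.xset, S.Fus x v := by
  classical
  have hmem : ∀ {x}, x ∈ S.xset ↔ x = 1 ∨ x = r ^ 2 ^ t ∨
      (x ∈ (Finset.Ico 1 (2 ^ t)).image (fun i => r ^ rexp t i) ∨ x ∈ S.uset) := by
    intro x
    rw [xset, Finset.mem_insert, Finset.mem_insert, Finset.mem_union]
  have hrot : ∀ {i}, 1 ≤ i → i < 2 ^ t → r ^ rexp t i ∈ S.xset := fun {i} h1 h2 =>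
    hmem.2 (Or.inr (Or.inr (Or.inl (Finset.mem_image.2 ⟨i, Finset.mem_Ico.2 ⟨h1, h2⟩, rfl⟩))))
  have h0 : 2 ^ t = 2 * 2 ^ (t - 1) := by
    rw [← pow_succ', Nat.sub_add_cancel (by have := S.sd.pos; omega)]
  have hq2 : 2 ∣ 2 ^ (t - 1) := dvd_pow_self 2 (by have := S.sd.pos; omega)
  have hN : 2 ^ (t + 1) = 4 * 2 ^ (t - 1) := by rw [pow_succ, h0]; ring
  have hgood : ∀ {k}, 1 ≤ k → ((2 ∣ k ∧ k < 2 ^ t) ∨ (¬ 2 ∣ k ∧ (k < 2 ^ (t - 1) ∨
      2 ^ t < k ∧ k < 2 ^ t + 2 ^ (t - 1)))) → r ^ k ∈ S.xset := by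
    intro k h1 hk
    obtain ⟨i, hi1, hi2, e⟩ : ∃ i, 1 ≤ i ∧ i < 2 ^ t ∧ rexp t i = k := by
      refine ⟨if ¬ 2 ∣ k ∧ 2 ^ t < k then k - 2 ^ (t - 1) else k, ?_, ?_, ?_⟩
      all_goals split_ifs
      any_goals rw [rexp]; split_ifs
      all_goals omega
    exact e ▸ hrot hi1 hi2
  by_cases hvr : v ∈ Subgroup.zpowers r
  · obtain ⟨k, hk, rfl⟩ := (S.sd.mem_cases hv).resolve_right (fun h => h hvr)
    rcases Nat.eq_zero_or_pos k with rfl | hk0
    · exact ⟨1, hmem.2 (Or.inl rfl), by rw [pow_zero]; exact S.fus_refl 1⟩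
    by_cases hkm : k = 2 ^ t
    · exact ⟨_, hmem.2 (Or.inr (Or.inl rfl)), by rw [hkm]; exact S.fus_refl _⟩
    by_cases hok : (2 ∣ k ∧ k < 2 ^ t) ∨ (¬ 2 ∣ k ∧ (k < 2 ^ (t - 1) ∨
        2 ^ t < k ∧ k < 2 ^ t + 2 ^ (t - 1)))
    · exact ⟨_, hgood hk0 hok, S.fus_refl _⟩
    obtain ⟨k', hk', hk'', hsum⟩ : ∃ k', 1 ≤ k' ∧ ((2 ∣ k' ∧ k' < 2 ^ t) ∨ (¬ 2 ∣ k' ∧
        (k' < 2 ^ (t - 1) ∨ 2 ^ t < k' ∧ k' < 2 ^ t + 2 ^ (t - 1)))) ∧
        ((2 ∣ k ∧ k + k' = 2 ^ (t + 1)) ∨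
          (¬ 2 ∣ k ∧ (k + k' = 2 ^ t ∨ k + k' = 2 ^ (t + 1) + 2 ^ t))) := by
      refine ⟨if 2 ∣ k then 2 ^ (t + 1) - k else if k < 2 ^ t then 2 ^ t - k
        else 2 ^ (t + 1) + 2 ^ t - k, ?_, ?_, ?_⟩
      all_goals split_ifs <;> omega
    refine ⟨r ^ k', hgood hk' hk'', ?_⟩
    have hf := S.fus_flip (S.sd.pow_mem' k')
    rw [S.sd.refl_pow S.sd.smem S.sd.s_not] at hf
    have hmod : (2 ^ t - 1) * k' ≡ k [MOD 2 ^ (t + 1)] := by
      refine Nat.ModEq.add_right_cancel' k' ?_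
      rw [← Nat.succ_mul, Nat.succ_eq_add_one, Nat.sub_add_cancel Nat.one_le_two_pow]
      have hp : ∀ c, 2 ^ t * (2 * c) ≡ 0 [MOD 2 ^ (t + 1)] := fun c =>
        Nat.modEq_zero_iff_dvd.2 ⟨c, by rw [pow_succ]; ring⟩
      rcases Nat.even_or_odd k' with ⟨c, hc⟩ | ⟨c, hc⟩
      · rw [show 2 ^ t * k' = 2 ^ t * (2 * c) by rw [hc]; ring]
        refine (hp c).trans (Nat.modEq_zero_iff_dvd.2 ?_).symm
        rcases hsum with ⟨-, e⟩ | ⟨hodd, e⟩
        · rw [e]
        · exfalso; omega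
      · rw [show 2 ^ t * k' = 2 ^ t * (2 * c) + 2 ^ t by rw [hc]; ring]
        refine ((hp c).add_right _).trans ?_
        rw [zero_add]
        rcases hsum with ⟨he, e⟩ | ⟨-, e | e⟩
        · exfalso; omega
        · rw [e]
        · rw [e]
          exact (Nat.add_mod_left _ _).symm
    rwa [S.sd.pow_congr hmod] at hf
  · have hU : ∀ {x}, (x = s ∨ x = r * s) → (x = s → ¬ S.Fus x (r ^ 2 ^ t)) →
        (x ≠ s → ¬ S.Fus x (r ^ 2 ^ (t - 1))) → x ∈ S.xset :=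
      fun {x} h0 h1 h2 => hmem.2 (Or.inr (Or.inr (Or.inr (by
        rw [uset, Finset.mem_filter, Finset.mem_insert, Finset.mem_singleton]
        exact ⟨h0, h1, h2⟩))))
    have hne : r * s ≠ s := fun e => S.sd.z_ne_one (by rw [← S.sd.rs_sq, e, S.sd.s_sq])
    rcases S.sd.refl_cases hv hvr with ⟨w, hw, rfl⟩ | ⟨w, hw, rfl⟩
    · have hf := S.fus_of_mem S.sd.smem hw
      by_cases hz : S.Fus s (r ^ 2 ^ t)
      · exact ⟨_, hmem.2 (Or.inr (Or.inl rfl)), S.fus_trans (S.fus_symm hz) hf⟩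
      · exact ⟨s, hU (Or.inl rfl) (fun _ => hz) (fun h => absurd rfl h), hf⟩
    · have hf := S.fus_of_mem S.sd.rs_mem hw
      by_cases hq : S.Fus (r * s) (r ^ 2 ^ (t - 1))
      · refine ⟨_, hgood Nat.one_le_two_pow (Or.inl ⟨hq2, ?_⟩), S.fus_trans (S.fus_symm hq) hf⟩
        have := Nat.two_pow_pos (t - 1)
        omega
      · exact ⟨r * s, hU (Or.inr rfl) (fun h => absurd h hne) (fun _ => hq), hf⟩

/-- The representatives. -/
theorem isReps : SecRep.IsReps 2 M B S.reps := by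
  classical
  refine ⟨fun a ha => ?_, fun a ha => ?_, fun a ha a' ha' g hg => ?_⟩
  · rw [reps, Finset.mem_image] at ha
    obtain ⟨x, hx, rfl⟩ := ha
    have hxP := S.xset_mem hx
    exact mem_secs.2 ⟨S.ppow_mem hxP, S.bel_fst hxP, S.bel_ofB hxP⟩
  · obtain ⟨x, a⟩ := a
    obtain ⟨h1, h2, h3⟩ := mem_secs.1 ha
    obtain ⟨g, hg⟩ := le_conj_max S.hM h3 S.max
    have hax : (cjI g a).1 = Subgroup.zpowers (g * x * g⁻¹) := by
      show a.1.map (MulAut.conj g).toMonoidHom = _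
      rw [h2, MonoidHom.map_zpowers]
      rfl
    have hgP : g * x * g⁻¹ ∈ P := le_subgroup hg (hax ▸ Subgroup.mem_zpowers _)
    obtain ⟨v, hv, k, hk, hk'⟩ := S.xset_cover hgP
    refine ⟨(v, S.bel v), by rw [reps]; exact Finset.mem_image_of_mem _ hv, g⁻¹ * k,
      Prod.ext ?_ ?_⟩
    · show g⁻¹ * k * v * (g⁻¹ * k)⁻¹ = x
      calc g⁻¹ * k * v * (g⁻¹ * k)⁻¹ = g⁻¹ * (k * v * k⁻¹) * g := by group
        _ = x := by rw [hk]; group
    · show cjI (g⁻¹ * k) (S.bel v) = a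
      rw [← cjI_cjI, hk', ← S.bel_unique hax hg, cjI_inv_cancel]
  · rw [reps, Finset.mem_image] at ha ha'
    obtain ⟨x, hx, rfl⟩ := ha
    obtain ⟨y, hy, rfl⟩ := ha'
    rw [S.xset_sep hx hy ⟨g, congrArg Prod.fst hg, congrArg Prod.snd hg⟩]

/-- A sum over the representatives. -/
theorem sum_reps (F : G × BrauerPairIdx G → ℂ) :
    ∑ a ∈ S.reps, F a = F (1, S.bel 1) + F (r ^ 2 ^ t, S.bel (r ^ 2 ^ t)) +
      (∑ i ∈ Finset.Ico 1 (2 ^ t), F (r ^ rexp t i, S.bel (r ^ rexp t i))) +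
      ∑ v ∈ S.uset, F (v, S.bel v) := by
  classical
  rw [reps, Finset.sum_image fun x _ y _ h => congrArg Prod.fst h, xset]
  have hrot : ∀ i ∈ Finset.Ico 1 (2 ^ t), r ^ rexp t i * r ^ rexp t i ≠ 1 := fun i hi => by
    rw [Finset.mem_Ico] at hi; exact S.rot_sq_ne' hi.1 hi.2
  have hu : ∀ v ∈ S.uset, v ∉ Subgroup.zpowers r := fun v hv => (S.uset_mem hv).2.1
  have hzr : r ^ 2 ^ t ∈ Subgroup.zpowers r := pow_mem (Subgroup.mem_zpowers r) _
  have hdis : Disjoint ((Finset.Ico 1 (2 ^ t)).image (fun i => r ^ rexp t i)) S.uset := by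
    rw [Finset.disjoint_left]
    intro x hx hx'
    obtain ⟨i, -, rfl⟩ := Finset.mem_image.1 hx
    exact hu _ hx' (pow_mem (Subgroup.mem_zpowers r) _)
  have hz : r ^ 2 ^ t ∉ (Finset.Ico 1 (2 ^ t)).image (fun i => r ^ rexp t i) ∪ S.uset := by
    rw [Finset.mem_union, Finset.mem_image]
    rintro (⟨i, hi, e⟩ | h)
    · exact hrot i hi (by rw [e]; exact S.sd.z_mul_self)
    · exact hu _ h hzr
  have h1 : (1 : G) ∉ insert (r ^ 2 ^ t)
      ((Finset.Ico 1 (2 ^ t)).image (fun i => r ^ rexp t i) ∪ S.uset) := by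
    rw [Finset.mem_insert, Finset.mem_union, Finset.mem_image]
    rintro (h | ⟨i, hi, e⟩ | h)
    · exact S.sd.z_ne_one h.symm
    · exact hrot i hi (by rw [e, mul_one])
    · exact hu _ h (one_mem _)
  rw [Finset.sum_insert h1, Finset.sum_insert hz, Finset.sum_union hdis,
    Finset.sum_image fun i hi j hj h => ?_]
  · ring
  · simp only [Finset.coe_Ico, Set.mem_Ico] at hi hj
    have h' : r ^ rexp t i = r ^ rexp t j := h
    exact S.rexp_inj hi.1 hi.2 hj.1 hj.2 (h' ▸ S.fus_refl _)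

theorem reps_mem {x : G} (hx : x = 1 ∨ x = r ^ 2 ^ t ∨
    (∃ i, 1 ≤ i ∧ i < 2 ^ t ∧ x = r ^ rexp t i) ∨ x ∈ S.uset) : (x, S.bel x) ∈ S.reps := by
  classical
  rw [reps]
  refine Finset.mem_image_of_mem _ ?_
  rw [xset, Finset.mem_insert, Finset.mem_insert, Finset.mem_union, Finset.mem_image]
  rcases hx with h | h | ⟨i, h1, h2, rfl⟩ | h
  · exact Or.inl h
  · exact Or.inr (Or.inl h)
  · exact Or.inr (Or.inr (Or.inl ⟨i, Finset.mem_Ico.2 ⟨h1, h2⟩, rfl⟩))
  · exact Or.inr (Or.inr (Or.inr h))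

theorem reps_exists {a : G × BrauerPairIdx G} (ha : a ∈ S.reps) :
    a.1 ∈ S.xset ∧ a.2 = S.bel a.1 := by
  classical
  rw [reps, Finset.mem_image] at ha
  obtain ⟨x, hx, rfl⟩ := ha
  exact ⟨hx, rfl⟩

/-- The count of sections. -/
theorem card_eq : Nat.card B = blockRank 2 B + blockRank 2 (S.bel (r ^ 2 ^ t)).2 + (2 ^ t - 1) +
    S.uset.card := by
  have h := congrArg (fun k : ℕ => (k : ℂ)) (S.isReps.card_eq S.hM S.isBlock)
  simp only [Nat.cast_sum] at h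
  rw [S.sum_reps (fun a => (blockRank 2 a.2.2 : ℂ)), S.rank_bel_one,
    Finset.sum_congr rfl (g := fun _ => (1 : ℂ)) fun i hi => by
      rw [Finset.mem_Ico] at hi
      have h2 := S.rot_sq_ne' hi.1 hi.2
      rw [S.rank_bel (S.sd.pow_mem' _) (fun e => h2 (by rw [e, one_mul])) (S.not_fus_z h2),
        Nat.cast_one],
    Finset.sum_congr rfl (s₁ := S.uset) (g := fun _ => (1 : ℂ)) fun v hv => by
      rw [S.uset_rank hv, Nat.cast_one],
    Finset.sum_const, Finset.sum_const, Nat.card_Ico, nsmul_eq_mul, nsmul_eq_mul, mul_one,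
    mul_one] at h
  exact_mod_cast h

end Setup

end Cfsg.Agent.Char.SemiBlk
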