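import Cfsg.Agent.Lib.Char.SemiBlockSetup
import Cfsg.Agent.Lib.Char.QuatBlockStar

/-!
The twists of the characters of a 2-block with semidihedral defect group by fusion-stable
generalized characters of the defect group.
-/

open scoped ComplexConjugate

namespace Cfsg.Agent.Char.SemiBlk

open Cfsg Cfsg.Agent.Block Cfsg.Agent.Char Cfsg.Agent.Char.BP Cfsg.Agent.Char.Spec
open Cfsg.Agent.Char.QuatBlk (zeta zeta_prim zeta_half zeta_congr cs cs_congr cs_neg cs_quarter
  cs_eq_pow sum_zeta zeta_isIntegral)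

set_option linter.unusedSectionVars false
set_option linter.style.haveILetI false
set_option maxHeartbeats 800000

universe u

variable {G : Type u} [Group G] [Fintype G] {M : Ideal AlgInt} {B : Set (IrrCharacter G)}
variable {P : Subgroup G} {e : Set (IrrCharacter (CG P))} {r s : G} {t : ℕ}

theorem IsGenChar.value_isIntegral {H : Type u} [Group H] [Finite H] {θ : H → ℂ}
    (h : IsGeneralizedCharacter H θ) (x : H) : IsIntegral ℤ (θ x) := by
  haveI := Fintype.ofFinite H
  obtain ⟨χ, ψ, hχ, hψ, rfl⟩ := h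
  exact (IsChar.isIntegral hχ x).sub (IsChar.isIntegral hψ x)

namespace Setup

variable (S : Setup M B P e r s t)
include S

/-- A weight from a function on the group. -/
noncomputable def wgt (_S : Setup M B P e r s t) (f : G → ℂ) (u : G) (a : BrauerPairIdx G) : ℂ := by
  classical
  exact if h : ∃ g : G, LE 2 M (cjI g a) (⟨P, e⟩ : BrauerPairIdx G) ∧ g * u * g⁻¹ ∈ P then
    f (h.choose * u * h.choose⁻¹) else 0

variable {f : G → ℂ} (hfus : ∀ v ∈ P, ∀ v' ∈ P, S.Fus v v' → f v = f v')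
  (hgc : IsGeneralizedCharacter P (fun x : P => f (x : G)))
include hfus hgc

theorem wgt_eq {u g : G} {a : BrauerPairIdx G} (ha : a.1 = Subgroup.zpowers u)
    (hg : LE 2 M (cjI g a) (⟨P, e⟩ : BrauerPairIdx G)) :
    g * u * g⁻¹ ∈ P ∧ S.wgt f u a = f (g * u * g⁻¹) := by
  classical
  have hax : ∀ g : G, (cjI g a).1 = Subgroup.zpowers (g * u * g⁻¹) := fun g => by
    show a.1.map (MulAut.conj g).toMonoidHom = _
    rw [ha, MonoidHom.map_zpowers]
    rfl
  have hm : g * u * g⁻¹ ∈ P := le_subgroup hg (hax g ▸ Subgroup.mem_zpowers _)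
  refine ⟨hm, ?_⟩
  have hex : ∃ g' : G, LE 2 M (cjI g' a) (⟨P, e⟩ : BrauerPairIdx G) ∧ g' * u * g'⁻¹ ∈ P :=
    ⟨g, hg, hm⟩
  rw [wgt, dif_pos hex]
  obtain ⟨hle', hm'⟩ := hex.choose_spec
  refine hfus _ hm' _ hm ⟨g * hex.choose⁻¹, by group, ?_⟩
  rw [← S.bel_unique (hax _) hle', ← S.bel_unique (hax _) hg, cjI_cjI, inv_mul_cancel_right]

theorem wgt_self {x : G} (hx : x ∈ P) : S.wgt f x (S.bel x) = f x := by
  obtain ⟨-, h⟩ := S.wgt_eq hfus hgc (g := 1) (S.bel_fst hx) (by rw [cjI_one]; exact S.bel_le hx)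
  simpa using h

theorem wgt_of_not {u : G} {a : BrauerPairIdx G} (h : ¬ OfB 2 M B a) : S.wgt f u a = 0 := by
  classical
  rw [wgt, dif_neg]
  rintro ⟨g, hg, -⟩
  refine h ?_
  have h1 := ofB_cjI S.hM (S.ofB_of_le hg) g⁻¹
  rwa [cjI_inv_cancel] at h1

theorem wConj_wgt : Star.WConj 2 M (S.wgt f) := by
  intro g u a hu ha hpr
  have ha' : (cjI g a).1 = Subgroup.zpowers (g * u * g⁻¹) := by
    show a.1.map (MulAut.conj g).toMonoidHom = _
    rw [ha, MonoidHom.map_zpowers]
    rfl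
  by_cases hB : OfB 2 M B a
  · obtain ⟨w, hw⟩ := le_conj_max S.hM hB S.max
    obtain ⟨-, he⟩ := S.wgt_eq hfus hgc ha hw
    obtain ⟨-, he'⟩ := S.wgt_eq hfus hgc (g := w * g⁻¹) ha'
      (by rw [cjI_cjI, inv_mul_cancel_right]; exact hw)
    rw [he, he']
    congr 1
    group
  · rw [S.wgt_of_not hfus hgc hB, S.wgt_of_not hfus hgc fun h => hB ?_]
    have h1 := ofB_cjI S.hM h g⁻¹
    rwa [cjI_inv_cancel] at h1

theorem wLoc_wgt : Star.WLoc 2 M (S.wgt f) := by
  intro b hb
  by_cases hB : OfB 2 M B b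
  · obtain ⟨g, hg⟩ := le_conj_max S.hM hB S.max
    let m : b.1 →* P :=
      (((MulAut.conj g).toMonoidHom).comp b.1.subtype).codRestrict P fun v =>
        le_subgroup hg ⟨v, v.2, rfl⟩
    refine ⟨fun v => f ((m v : P) : G), IsGenChar.comp m hgc,
      fun v a ha hle => (S.wgt_eq hfus hgc ha ((le_cjI S.hM g hle).trans hg)).2⟩
  · exact ⟨0, IsGenChar.zero, fun v a _ hle =>
      S.wgt_of_not hfus hgc fun h => hB ((ofB_le S.hM hle).2 h)⟩

theorem isIntegral_wgt (u : G) (a : BrauerPairIdx G) : IsIntegral ℤ (S.wgt f u a) := by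
  classical
  rw [wgt]
  split_ifs with h
  · exact IsGenChar.value_isIntegral hgc ⟨_, h.choose_spec.2⟩
  · exact isIntegral_zero

/-- The twisted inner products are integers. -/
theorem twist_int (χ : IrrCharacter G) {η : IrrCharacter G} (hη : η ∈ B) :
    ∃ n : ℤ, ∑ a ∈ S.reps, f a.1 * SecRep.E 2 a χ η = n := by
  classical
  obtain ⟨n, hn⟩ := IsGenChar.classInner_int
    (Star.genChar_star S.hM (irr_isChar χ) (S.wConj_wgt hfus hgc) (S.wLoc_wgt hfus hgc)
      (S.isIntegral_wgt hfus hgc)) (IsGenChar.of_isCharacter (irr_isChar η))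
  refine ⟨n, ?_⟩
  rw [← hn, S.isReps.inner_star S.hM S.isBlock (S.wConj_wgt hfus hgc) hη]
  refine Finset.sum_congr rfl fun a ha => ?_
  obtain ⟨h1, h2⟩ := S.reps_exists ha
  rw [h2, S.wgt_self hfus hgc (S.xset_mem h1)]

omit hfus hgc

/-- The part at the identity is integral. -/
theorem int_one (χ : IrrCharacter G) {η : IrrCharacter G} (hη : η ∈ B) :
    ∃ n : ℤ, (2 : ℂ) ^ (t + 2) * SecRep.E 2 (1, S.bel 1) χ η = n := by
  classical
  have hfus : ∀ v ∈ P, ∀ v' ∈ P, S.Fus v v' →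
      (fun x : G => if x = 1 then (2 : ℂ) ^ (t + 2) else 0) v =
        (fun x : G => if x = 1 then (2 : ℂ) ^ (t + 2) else 0) v' := by
    intro v _ v' _ h
    have ho := S.fus_order h
    by_cases hv : v = 1
    · subst hv
      rw [orderOf_one, orderOf_eq_one_iff] at ho
      simp [ho]
    · simp only [if_neg hv]
      rw [if_neg fun e => hv ?_]
      rw [e, orderOf_one, eq_comm, orderOf_eq_one_iff] at ho
      exact ho
  have hgc : IsGeneralizedCharacter P
      (fun x : P => (fun x : G => if x = 1 then (2 : ℂ) ^ (t + 2) else 0) (x : G)) := by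
    haveI := Fintype.ofFinite P
    have h1 : IsCharacter (⊥ : Subgroup P) (fun _ => (1 : ℂ)) := by
      simpa using Star.isCharacter_hom (1 : (⊥ : Subgroup P) →* ℂˣ)
    have e : (fun x : P => (fun x : G => if x = 1 then (2 : ℂ) ^ (t + 2) else 0) (x : G)) =
        indFun (⊥ : Subgroup P) (fun _ => (1 : ℂ)) := by
      funext x
      simp only [indFun, Subgroup.card_bot, Nat.cast_one, inv_one, one_mul]
      by_cases hx : x = 1
      · subst hx
        rw [Finset.sum_congr rfl (g := fun _ : P => (1 : ℂ)) fun y _ => by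
          rw [mul_one, inv_mul_cancel]; exact extendByZero_of_mem _ (one_mem _)]
        simp [← Nat.card_eq_fintype_card, S.sd.card]
      · rw [if_neg (show ¬ (x : G) = 1 from fun e => hx (Subtype.ext e)),
          Finset.sum_eq_zero fun y _ => ?_]
        refine extendByZero_not_mem _ fun hm => hx ?_
        rw [Subgroup.mem_bot] at hm
        calc x = y * (y⁻¹ * x * y) * y⁻¹ := by group
          _ = 1 := by rw [hm, mul_one, mul_inv_cancel]
    rw [e]
    exact IsGenChar.of_isCharacter (isCharacter_indFun _ h1)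
  obtain ⟨n, hn⟩ := S.twist_int hfus hgc χ hη
  refine ⟨n, ?_⟩
  rw [← hn, Finset.sum_eq_single (((1 : G), S.bel 1)) (fun a ha hne => ?_)
    (fun h => absurd (S.reps_mem (Or.inl rfl)) h), if_pos rfl]
  show (if a.1 = 1 then (2 : ℂ) ^ (t + 2) else 0) * _ = 0
  rw [if_neg (fun e => hne (Prod.ext e ((S.reps_exists ha).2.trans (congrArg _ e)))), zero_mul]

/-- The twist of a level is stable. -/
theorem wfn_fus (l : ℕ) {v v' : G} (hv : v ∈ P) (hv' : v' ∈ P) (h : S.Fus v v') :
    S.sd.wfn l v = S.sd.wfn l v' := by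
  classical
  have ho := S.fus_order h
  have hsq : v * v = 1 ↔ v' * v' = 1 := by
    obtain ⟨g, rfl, -⟩ := h
    rw [conj_mul, conj_eq_one_iff]
  by_cases hvv : v * v = 1
  · rw [S.sd.wfn_sq l hv hvv, S.sd.wfn_sq l hv' (hsq.1 hvv)]
  have hvv' : v' * v' ≠ 1 := fun e => hvv (hsq.2 e)
  by_cases h4 : orderOf v ∣ 4
  · rw [S.sd.wfn_four l hv hvv h4, S.sd.wfn_four l hv' hvv' (ho ▸ h4)]
  have hr : ∀ {x}, x ∈ P → ¬ orderOf x ∣ 4 → x ∈ Subgroup.zpowers r := by
    intro x hx hn
    by_contra hxr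
    refine hn (orderOf_dvd_iff_pow_eq_one.2 ?_)
    rw [show 4 = 2 * 2 from rfl, pow_mul, pow_two, pow_two]
    rcases S.sd.refl_sq hx hxr with e | e
    · rw [e, one_mul]
    · rw [e, S.sd.z_mul_self]
  have hvr := hr hv h4
  obtain ⟨i, -, rfl⟩ := (S.sd.mem_cases hv).resolve_right (fun hn => hn hvr)
  rcases S.rotation_fusion hvr (hr hv' (ho ▸ h4)) h with rfl | rfl
  · rfl
  · rw [S.sd.refl_pow S.sd.smem S.sd.s_not, S.sd.wfn_pow, S.sd.wfn_pow,
      sp_flip (by have := S.sd.pos; omega), sp_flip (by have := S.sd.pos; omega)]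

/-- A level against the divisibility. -/
theorem int_level (χ : IrrCharacter G) {η : IrrCharacter G} (hη : η ∈ B) {j : ℕ} (hj0 : 1 ≤ j)
    (hj : j < t)
    (hsupp : ∀ i, 1 ≤ i → i < 2 ^ t → ¬ 2 ^ j ∣ i →
      SecRep.E 2 (r ^ rexp t i, S.bel (r ^ rexp t i)) χ η = 0)
    (hu : ∀ v ∈ S.uset, SecRep.E 2 (v, S.bel v) χ η = 0) :
    IsIntegral ℤ ((2 : ℂ) ^ (t + 1 - j) * SecRep.E 2 (r ^ 2 ^ j, S.bel (r ^ 2 ^ j)) χ η) := by
  classical
  have key : ∀ l, ∃ n : ℤ, ∑ a ∈ S.reps, S.sd.wfn l a.1 * SecRep.E 2 a χ η = n := fun l =>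
    S.twist_int (fun v hv v' hv' h => S.wfn_fus l hv hv' h) (S.sd.genChar_wfn l) χ hη
  choose N hN using key
  set T := t + 1 - j with hT
  set n := 2 ^ T with hn
  set b := 2 ^ j with hb
  have hjt : 2 ^ j < 2 ^ t := Nat.pow_lt_pow_right one_lt_two hj
  have hjp := Nat.two_pow_pos j
  have ht2 : 2 ^ (t + 1) = 2 ^ t + 2 ^ t := by rw [pow_succ]; ring
  have h2b : 2 ∣ 2 ^ j := dvd_pow_self 2 (by omega)
  -- the sum over the odd parameters
  have hodd : ∑ l ∈ Finset.range n, (if Odd l then zeta t ^ (l * b) else 0) = 0 := by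
    have h1 := sum_zeta (t := t) (j := j) (c := b) (by omega) dvd_rfl
    have h2 := sum_zeta (t := t) (j := j + 1) (c := 2 * b) (by omega)
      (by rw [hb, pow_succ, mul_comm])
    rw [if_neg (fun h => absurd (Nat.le_of_dvd hjp h) (by omega)), ← hT, ← hn] at h1
    rw [if_neg (fun h => absurd (Nat.le_of_dvd (by omega) h) (by omega))] at h2
    have hhalf : n = 2 ^ (t + 1 - (j + 1)) + 2 ^ (t + 1 - (j + 1)) := by
      rw [hn, hT, ← two_mul, ← pow_succ']; congr 1; omega
    have h3 : ∀ k, ∑ l ∈ Finset.range (k + k), (if Odd l then zeta t ^ (l * b) else 0) =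
        ∑ l ∈ Finset.range (k + k), zeta t ^ (l * b) -
          ∑ l ∈ Finset.range k, zeta t ^ (l * (2 * b)) := by
      intro k
      induction k with
      | zero => simp
      | succ k ih =>
        rw [show k + 1 + (k + 1) = k + k + 1 + 1 by ring, Finset.sum_range_succ, Finset.sum_range_succ,
          Finset.sum_range_succ, Finset.sum_range_succ, Finset.sum_range_succ, ih,
          if_neg (show ¬ Odd (k + k) by rintro ⟨c, hc⟩; omega), if_pos ⟨k, by ring⟩,
          show (k + k) * b = k * (2 * b) by ring]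
        ring
    rw [hhalf, h3, ← hhalf, h1, h2, sub_zero]
  have hterm : ∀ a ∈ S.reps, (∑ l ∈ Finset.range n, S.sd.wfn l a.1 * zeta t ^ (l * b)) *
      SecRep.E 2 a χ η =
        if a = (r ^ 2 ^ j, S.bel (r ^ 2 ^ j)) then (2 : ℂ) ^ T * SecRep.E 2 a χ η else 0 := by
    intro a ha
    obtain ⟨e1, e2⟩ := S.reps_exists ha
    obtain ⟨x, a'⟩ := a
    simp only at e1 e2 ⊢
    subst e2
    have hrot : ∀ {k}, 2 ^ j ∣ k → k < 2 ^ (t + 1) →
        ∑ l ∈ Finset.range n, S.sd.wfn l (r ^ k) * zeta t ^ (l * b) =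
          (if 2 ^ (t + 1) ∣ k + b then (2 : ℂ) ^ T else 0) +
            if 2 ^ (t + 1) ∣ 2 ^ (t + 1) - k + b then (2 : ℂ) ^ T else 0 := by
      intro k hk hk2
      rw [Finset.sum_congr rfl (g := fun l => (zeta t ^ (l * (k + b)) +
          zeta t ^ (l * (2 ^ (t + 1) - k + b))) -
            cs t 1 k * (if Odd l then zeta t ^ (l * b) else 0)) fun l _ => by
          rw [S.sd.wfn_pow, sp_even (h2b.trans hk), sp_even (h2b.trans hk), sub_mul,
            cs_eq_pow (l := l) hk2.le, mul_add l, mul_add l, pow_add, pow_add]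
          split_ifs <;> ring,
        Finset.sum_sub_distrib, ← Finset.mul_sum, hodd, mul_zero, sub_zero,
        Finset.sum_add_distrib, hn, hT, sum_zeta (by omega) (dvd_add hk (dvd_refl _)),
        sum_zeta (by omega) (dvd_add (Nat.dvd_sub (pow_dvd_pow 2 (by omega)) hk) (dvd_refl _))]
    have hb1 : ¬ 2 ^ (t + 1) ∣ b := fun h => absurd (Nat.le_of_dvd hjp h) (by omega)
    have hne0 : ∀ {k}, k ≠ 2 ^ j → k < 2 ^ (t + 1) → r ^ k ≠ r ^ 2 ^ j := fun {k} h1 h2 e => h1 (by
      have h := S.sd.pow_inj e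
      rwa [Nat.ModEq, Nat.mod_eq_of_lt h2, Nat.mod_eq_of_lt (by omega)] at h)
    rcases S.xset_cases e1 with rfl | rfl | ⟨i, hi1, hi2, rfl⟩ | hxu
    · rw [if_neg fun e => hne0 (k := 0) (by omega) (by omega) (by
        rw [pow_zero]; exact congrArg Prod.fst e)]
      rw [← pow_zero r, hrot (dvd_zero _) (Nat.two_pow_pos _), zero_add, if_neg hb1,
        Nat.sub_zero, if_neg fun h => hb1 ((Nat.dvd_add_right dvd_rfl).1 h), add_zero, zero_mul]
    · rw [if_neg fun e => hne0 (k := 2 ^ t) (by omega) (by omega) (congrArg Prod.fst e)]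
      rw [hrot (pow_dvd_pow 2 hj.le) (by omega),
        if_neg fun h => absurd (Nat.le_of_dvd (by omega) h) (by omega),
        if_neg fun h => absurd (Nat.le_of_dvd (by omega) h) (by omega), add_zero, zero_mul]
    · by_cases hd : 2 ^ j ∣ i
      · have hex : rexp t i = i := by
          rw [rexp, if_neg]
          rintro ⟨h, -⟩
          have := h2b.trans hd
          omega
        rw [hex, hrot hd (by omega), if_neg fun h => absurd (Nat.le_of_dvd (by omega) h) (by omega)]
        by_cases he : i = 2 ^ j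
        · subst he
          rw [if_pos (Eq.refl _), if_pos ⟨1, by omega⟩, zero_add]
        · rw [if_neg fun e => hne0 he (by omega) (congrArg Prod.fst e), if_neg, add_zero, zero_mul]
          rintro ⟨c, hc⟩
          rcases c with _ | _ | c
          · omega
          · omega
          · have : 2 ^ (t + 1) * 2 ≤ 2 ^ (t + 1) * (c + 1 + 1) := Nat.mul_le_mul_left _ (by omega)
            omega
      · rw [hsupp i hi1 hi2 hd, mul_zero]
        split_ifs <;> simp
    · rw [hu x hxu, mul_zero]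
      split_ifs <;> simp
  have hmem : (r ^ 2 ^ j, S.bel (r ^ 2 ^ j)) ∈ S.reps := by
    refine S.reps_mem (Or.inr (Or.inr (Or.inl ⟨2 ^ j, hjp, hjt, ?_⟩)))
    rw [rexp, if_neg fun h => by omega]
  have h : ∑ l ∈ Finset.range n, (N l : ℂ) * zeta t ^ (l * b) =
      (2 : ℂ) ^ T * SecRep.E 2 (r ^ 2 ^ j, S.bel (r ^ 2 ^ j)) χ η := by
    simp only [← hN, Finset.sum_mul]
    rw [Finset.sum_comm, Finset.sum_congr rfl fun a ha => by
      rw [Finset.sum_congr rfl (g := fun l => S.sd.wfn l a.1 * zeta t ^ (l * b) *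
        SecRep.E 2 a χ η) fun l _ => by ring, ← Finset.sum_mul, hterm a ha],
      Finset.sum_ite_eq', if_pos hmem]
  rw [← h]
  exact IsIntegral.sum _ fun l _ => (isIntegral_intCast _).mul ((zeta_isIntegral t).pow _)

end Setup

end Cfsg.Agent.Char.SemiBlk
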