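import Cfsg.Agent.Lib.Char.UnitaryArc
import Mathlib.Analysis.InnerProductSpace.Projection.Basic

/-!
Blichfeldt's sixty degree argument: if every eigenvalue of an element of a finite linear group is
within distance less than one of one of them, then the eigenspace of that eigenvalue is stable
under all the conjugates of the element.
-/

namespace Cfsg.Agent.Char.Sixty

open scoped InnerProductSpace ComplexConjugate
open Cfsg Module Cfsg.Agent.Char.Arc

universe u

variable {G : Type u} [Group G] [Fintype G] {n : ℕ} {ρ : Representation ℂ G (Fin n → ℂ)}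

/-- Near from the spectrum. -/
theorem near_of_spectrum_complex {g : G} {c : ℂ} {r : ℝ} (hr : 0 ≤ r)
    (hspec : ∀ (lam : ℂ) (v : Fin n → ℂ), v ≠ 0 → ρ g v = lam • v → ‖lam - c‖ ≤ r) :
    Near ρ r c g := by
  classical
  intro v
  let H := Subgroup.zpowers g
  haveI : Fintype H := Fintype.ofFinite _
  haveI : Finite (H →* ℂˣ) := by
    letI : CommGroup H := { (inferInstance : Group H) with mul_comm := fun a b => Std.Commutative.comm a b }
    exact Finite.of_equiv _ (CommGroup.monoidHom_mulEquiv_of_hasEnoughRootsOfUnity H ℂ).some.toEquiv.symm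
  haveI := Fintype.ofFinite (H →* ℂˣ)
  let σ : H →* Module.End ℂ (Fin n → ℂ) := MonoidHom.comp ρ H.subtype
  have hcomm : ∀ a b : H, a * b = b * a := fun a b => Std.Commutative.comm a b
  set z : H := ⟨g, Subgroup.mem_zpowers g⟩ with hz
  set pv := fun l : H →* ℂˣ => emb ρ (proj σ l v) with hpv
  have hv : v = ∑ l : H →* ℂˣ, proj σ l v := by
    have := LinearMap.congr_fun (sum_proj hcomm σ) v
    simpa using this.symm
  have hlz : ∀ l l' : H →* ℂˣ, l z = l' z → l = l' := by
    intro l l' h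
    refine MonoidHom.ext fun a => ?_
    obtain ⟨k, hk⟩ := Subgroup.mem_zpowers_iff.mp a.2
    rw [show a = z ^ k from Subtype.ext (by simp [hz, ← hk]), map_zpow, map_zpow, h]
  have horth : ∀ l l' : H →* ℂˣ, l ≠ l' → ⟪pv l, pv l'⟫_ℂ = 0 := by
    intro l l' hne
    have h1 := inner_invariant ρ g (proj σ l v) (proj σ l' v)
    rw [show ρ g (proj σ l v) = (l z : ℂ) • proj σ l v from proj_apply_map σ l z v,
      show ρ g (proj σ l' v) = (l' z : ℂ) • proj σ l' v from proj_apply_map σ l' z v,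
      map_smul, map_smul, inner_smul_left, inner_smul_right, ← mul_assoc] at h1
    by_contra h0
    have h2 := (mul_eq_right₀ h0).mp h1
    have h3 : (starRingEnd ℂ) (l z : ℂ) * (l z : ℂ) = 1 := by
      rw [Complex.conj_mul', norm_eq_one_of_pow_eq_one' (c := (l z : ℂ)) (N := Nat.card H)
        Nat.card_pos (by rw [← Units.val_pow_eq_pow_val, ← map_pow, pow_card_eq_one', map_one, Units.val_one])]
      simp
    have hz0 : (starRingEnd ℂ) (l z : ℂ) ≠ 0 := left_ne_zero_of_mul_eq_one h3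
    exact hne (hlz l l' (Units.ext (mul_left_cancel₀ hz0 (h3.trans h2.symm))))
  have hsq : ∀ a : (H →* ℂˣ) → ℂ, ‖∑ l, a l • pv l‖ ^ 2 = ∑ l, ‖a l‖ ^ 2 * ‖pv l‖ ^ 2 := by
    intro a
    rw [@norm_sq_eq_re_inner ℂ, inner_sum, map_sum]
    refine Finset.sum_congr rfl fun l _ => ?_
    rw [sum_inner, Finset.sum_eq_single l (fun l' _ hne => by
      rw [inner_smul_left, inner_smul_right, horth l' l hne, mul_zero, mul_zero])
      (fun h => absurd (Finset.mem_univ _) h)]
    rw [← @norm_sq_eq_re_inner ℂ, norm_smul, mul_pow]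
  have e1 : emb ρ v = ∑ l, (1 : ℂ) • pv l := by
    conv_lhs => rw [hv]
    simp [pv, map_sum]
  have e2 : emb ρ (ρ g v - c • v) = ∑ l, ((l z : ℂ) - c) • pv l := by
    conv_lhs => rw [hv]
    simp only [map_sum, Finset.smul_sum, ← Finset.sum_sub_distrib]
    refine Finset.sum_congr rfl fun l _ => ?_
    rw [show ρ g (proj σ l v) = (l z : ℂ) • proj σ l v from proj_apply_map σ l z v, ← sub_smul,
      map_smul]
  have h := hsq fun l => (l z : ℂ) - c
  have h1 := hsq fun _ => 1
  rw [← e2] at h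
  rw [← e1] at h1
  have hbound : ‖emb ρ (ρ g v - c • v)‖ ^ 2 ≤ (r * ‖emb ρ v‖) ^ 2 := by
    rw [mul_pow, h, h1, Finset.mul_sum]
    refine Finset.sum_le_sum fun l _ => ?_
    by_cases h0 : proj σ l v = 0
    · simp [pv, h0]
    · rw [norm_one, one_pow, one_mul]
      exact mul_le_mul_of_nonneg_right
        (pow_le_pow_left₀ (norm_nonneg _) (hspec _ _ h0 (proj_apply_map σ l z v)) 2) (sq_nonneg _)
  exact (pow_le_pow_iff_left₀ (norm_nonneg _) (mul_nonneg hr (norm_nonneg _)) two_ne_zero).mp hbound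

theorem apply_inv_self (t : G) (v : Fin n → ℂ) : ρ t⁻¹ (ρ t v) = v := by
  rw [← Module.End.mul_apply, ← map_mul, inv_mul_cancel, map_one, Module.End.one_apply]

theorem apply_mul (s t : G) (v : Fin n → ℂ) : ρ (s * t) v = ρ s (ρ t v) := by
  rw [map_mul, Module.End.mul_apply]

/-- The eigenvectors of a conjugate. -/
theorem eigen_conj_iff {g : G} {μ : ℂ} (t : G) (y : Fin n → ℂ) :
    ρ (t * g * t⁻¹) y = μ • y ↔ ρ g (ρ t⁻¹ y) = μ • ρ t⁻¹ y := by
  constructor
  · intro h
    have h1 := congrArg (ρ t⁻¹) h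
    rwa [map_smul, ← apply_mul, show t⁻¹ * (t * g * t⁻¹) = g * t⁻¹ by group, apply_mul] at h1
  · intro h
    rw [apply_mul, apply_mul, h, map_smul, ← apply_mul t t⁻¹, mul_inv_cancel, map_one,
      Module.End.one_apply]

/-- The subgroup preserving a subspace. -/
def stab (ρ : Representation ℂ G (Fin n → ℂ)) (W : Submodule ℂ (Fin n → ℂ)) : Subgroup G where
  carrier := {t | ∀ w ∈ W, ρ t w ∈ W}
  one_mem' := fun w hw => by simpa using hw
  mul_mem' := fun {a b} ha hb w hw => by rw [apply_mul]; exact ha _ (hb w hw)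
  inv_mem' := fun {a} ha w hw => by
    have hpow : ∀ k : ℕ, ∀ v ∈ W, ρ (a ^ k) v ∈ W := by
      intro k
      induction k with
      | zero => intro v hv; simpa using hv
      | succ k ih => intro v hv; rw [pow_succ', apply_mul]; exact ha _ (ih v hv)
    rw [show a⁻¹ = a ^ (orderOf a - 1) from inv_eq_of_mul_eq_one_right (by
      rw [← pow_succ', Nat.sub_add_cancel (orderOf_pos a), pow_orderOf_eq_one])]
    exact hpow _ w hw

/-- Blichfeldt: the eigenspace is preserved by every conjugate. -/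
theorem conj_mem_stab {g : G} {μ : ℂ} {r : ℝ} (hμ : ‖μ‖ = 1) (hr0 : 0 ≤ r) (hr : r < 1)
    (hg : Near ρ r μ g) (t : G) :
    t * g * t⁻¹ ∈ stab ρ (LinearMap.ker (ρ g - μ • (1 : Module.End ℂ (Fin n → ℂ)))) := by
  classical
  set W := LinearMap.ker (ρ g - μ • (1 : Module.End ℂ (Fin n → ℂ))) with hW
  have hmem : ∀ w, w ∈ W ↔ ρ g w = μ • w := fun w => by
    rw [hW, LinearMap.mem_ker, LinearMap.sub_apply, LinearMap.smul_apply, Module.End.one_apply,
      sub_eq_zero]
  have hμ0 : μ ≠ 0 := fun h => by simp [h] at hμ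
  let bW := Module.finBasis ℂ W
  let d : G → Fin (finrank ℂ W) → ℝ := fun s i =>
    ‖emb ρ (ρ s (bW i : Fin n → ℂ) - μ • (bW i : Fin n → ℂ))‖
  let f : G → ℝ := fun s => ∑ i, d s i
  by_contra hbad
  let S := (Finset.univ.image fun t : G => t * g * t⁻¹).filter fun s => s ∉ stab ρ W
  have hS : S.Nonempty := ⟨t * g * t⁻¹, Finset.mem_filter.2
    ⟨Finset.mem_image.2 ⟨t, Finset.mem_univ _, rfl⟩, hbad⟩⟩
  obtain ⟨s, hs, hmin⟩ := S.exists_min_image f hS
  obtain ⟨hs', hsW⟩ := Finset.mem_filter.1 hs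
  obtain ⟨a, -, rfl⟩ := Finset.mem_image.1 hs'
  set s := a * g * a⁻¹ with hsdef
  set s' := s * g * s⁻¹ with hs'def
  have hsNear : Near ρ r μ s := hg.conj a
  have hs'Near : Near ρ r μ s' := hg.conj s
  -- the next conjugate is closer
  have hstep : ∀ i, d s' i ≤ r * d s i := by
    intro i
    set u := (bW i : Fin n → ℂ) with hu
    have hfix : ρ s' (ρ s u) = μ • ρ s u := (eigen_conj_iff s _).2 (by
      rw [apply_inv_self]; exact (hmem u).1 (bW i).2)
    have e : ρ s' u - μ • u =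
        -(μ⁻¹ • (ρ s' (ρ s u - μ • u) - μ • (ρ s u - μ • u))) := by
      rw [map_sub, map_smul, hfix, smul_sub μ (ρ s u), sub_sub_sub_cancel_left, ← smul_sub, smul_smul,
        inv_mul_cancel₀ hμ0, one_smul, neg_sub]
    show ‖emb ρ (ρ s' u - μ • u)‖ ≤ r * ‖emb ρ (ρ s u - μ • u)‖
    rw [e, map_neg, norm_neg, map_smul, norm_smul, norm_inv, hμ, inv_one, one_mul]
    exact hs'Near _
  have hfs : 0 < f s := by
    refine lt_of_le_of_ne (Finset.sum_nonneg fun i _ => norm_nonneg _) fun h0 => hsW ?_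
    intro w hw
    have hz : ∀ i, ρ s (bW i : Fin n → ℂ) = μ • (bW i : Fin n → ℂ) := fun i => by
      have h1 := (Finset.sum_eq_zero_iff_of_nonneg (fun i _ => norm_nonneg _)).1 h0.symm i
        (Finset.mem_univ i)
      simp only [d, norm_eq_zero] at h1
      exact sub_eq_zero.1 (emb_injective ρ (h1.trans (map_zero _).symm))
    have hlin : (ρ s).comp W.subtype = μ • W.subtype := bW.ext fun i => hz i
    have h2 : ρ s w = μ • w := LinearMap.congr_fun hlin ⟨w, hw⟩
    rw [h2]
    exact W.smul_mem μ hw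
  have hlt : f s' < f s :=
    lt_of_le_of_lt ((Finset.sum_le_sum fun i _ => hstep i).trans (le_of_eq (Finset.mul_sum _ _ r).symm))
      (mul_lt_of_lt_one_left hfs hr)
  have hs'W : s' ∈ stab ρ W := by
    by_contra hno
    exact (hmin s' (Finset.mem_filter.2 ⟨Finset.mem_image.2 ⟨s, Finset.mem_univ _, rfl⟩, hno⟩)).not_gt
      hlt
  -- hence the given conjugate preserves the eigenspace
  refine hsW fun w hw => ?_
  set y := ρ s w with hy
  have hyfix : ρ s' y = μ • y := (eigen_conj_iff s _).2 (by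
    rw [hy, apply_inv_self]; exact (hmem w).1 hw)
  set W' := W.map (emb ρ) with hW'
  obtain ⟨x, hx, hxe⟩ : ∃ x ∈ W, emb ρ x = W'.starProjection (emb ρ y) :=
    Submodule.mem_map.1 (W'.starProjection_apply_mem (emb ρ y))
  have horth : ∀ u ∈ W, ⟪emb ρ (y - x), emb ρ u⟫_ℂ = 0 := fun u hu => by
    rw [map_sub, hxe]
    exact Submodule.starProjection_inner_eq_zero _ _ (Submodule.mem_map_of_mem hu)
  set z := ρ s' (y - x) - μ • (y - x) with hz
  have hzW : z ∈ W := by
    have e : z = -(ρ s' x - μ • x) := by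
      rw [hz, map_sub, hyfix, smul_sub]; abel
    rw [e]
    exact W.neg_mem (W.sub_mem (hs'W x hx) (W.smul_mem μ hx))
  have hzo : ∀ u ∈ W, ⟪emb ρ z, emb ρ u⟫_ℂ = 0 := by
    intro u hu
    have h1 := inner_invariant ρ s' (y - x) (ρ s'⁻¹ u)
    rw [horth _ ((stab ρ W).inv_mem hs'W u hu), ← apply_mul, mul_inv_cancel, map_one,
      Module.End.one_apply] at h1
    rw [hz, map_sub, map_smul, inner_sub_left, inner_smul_left, h1, horth u hu, mul_zero, sub_zero]
  have hz0 : z = 0 := emb_injective ρ ((inner_self_eq_zero.1 (hzo z hzW)).trans (map_zero _).symm)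
  -- the part orthogonal to the eigenspace is the image of an eigenvector
  set w₂ := ρ s⁻¹ (y - x) with hw2
  have hw2W : w₂ ∈ W := (hmem _).2 ((eigen_conj_iff s _).1 (sub_eq_zero.1 hz0))
  have hsw : ρ s w₂ = y - x := by
    rw [hw2, ← apply_mul, mul_inv_cancel, map_one, Module.End.one_apply]
  have h3 := hsNear w₂
  rw [hsw, map_sub _ (y - x), map_smul] at h3
  have h5 : ‖emb ρ (y - x)‖ = ‖emb ρ w₂‖ := by rw [← hsw, norm_invariant]
  have h4 : ‖emb ρ (y - x) - μ • emb ρ w₂‖ ^ 2 = ‖emb ρ w₂‖ ^ 2 + ‖emb ρ w₂‖ ^ 2 := by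
    rw [@norm_sub_sq ℂ, inner_smul_right, horth _ hw2W, norm_smul, hμ, one_mul, h5]
    simp
  have h6 : ‖emb ρ w₂‖ = 0 := by
    by_contra hne
    have hpos : 0 < ‖emb ρ w₂‖ := lt_of_le_of_ne (norm_nonneg _) (Ne.symm hne)
    have h8 := h3.trans_lt (mul_lt_of_lt_one_left hpos hr)
    nlinarith [norm_nonneg (emb ρ (y - x) - μ • emb ρ w₂)]
  have h7 : w₂ = 0 := emb_injective ρ ((norm_eq_zero.1 h6).trans (map_zero _).symm)
  rw [h7, map_zero, eq_comm, sub_eq_zero] at hsw
  exact hsw.symm ▸ hx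

/-- In a simple group such an element acts as a scalar in every irreducible representation. -/
theorem scalar_of_simple [IsSimpleGroup G] (hρ : ρ.IsIrreducible) {g : G} (hg1 : g ≠ 1) {μ : ℂ}
    {r : ℝ} (hμ : ‖μ‖ = 1) (hr0 : 0 ≤ r) (hr : r < 1) (hg : Near ρ r μ g)
    {v : Fin n → ℂ} (hv0 : v ≠ 0) (hv : ρ g v = μ • v) :
    ∀ w, ρ g w = μ • w := by
  set W := LinearMap.ker (ρ g - μ • (1 : Module.End ℂ (Fin n → ℂ))) with hW
  have hmem : ∀ w, w ∈ W ↔ ρ g w = μ • w := fun w => by
    rw [hW, LinearMap.mem_ker, LinearMap.sub_apply, LinearMap.smul_apply, Module.End.one_apply,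
      sub_eq_zero]
  have htop : stab ρ W = ⊤ := by
    have hle : Subgroup.normalClosure ({g} : Set G) ≤ stab ρ W := by
      refine (Subgroup.closure_le _).2 fun x hx => ?_
      obtain ⟨a, ha, hax⟩ := Group.mem_conjugatesOfSet_iff.1 hx
      rw [Set.mem_singleton_iff] at ha
      subst ha
      obtain ⟨t, rfl⟩ := isConj_iff.1 hax
      exact conj_mem_stab hμ hr0 hr hg t
    rcases (inferInstance : (Subgroup.normalClosure ({g} : Set G)).Normal).eq_bot_or_eq_top with h | h
    · exact absurd (Subgroup.mem_bot.1 (h ▸ Subgroup.subset_normalClosure rfl)) hg1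
    · exact top_le_iff.1 (h ▸ hle)
  let S : Subrepresentation ρ :=
    { toSubmodule := W
      apply_mem_toSubmodule := fun t w hw =>
        (htop ▸ Subgroup.mem_top t : t ∈ stab ρ W) w hw }
  haveI := hρ
  rcases IsSimpleOrder.eq_bot_or_eq_top S with h | h
  · have h1 : v ∈ S.toSubmodule := (hmem v).2 hv
    rw [h] at h1
    exact absurd ((Submodule.mem_bot ℂ).1 h1) hv0
  · intro w
    have h1 : w ∈ S.toSubmodule := by rw [h]; exact Submodule.mem_top
    exact (hmem w).1 h1

end Cfsg.Agent.Char.Sixty
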