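import Cfsg.Agent.Lib.Char.PrincipalLattice
import Cfsg.Agent.Lib.Block.PrincipalColumn
import Cfsg.Agent.Lib.Char.GenCharNorm
import Cfsg.Agent.Lib.Char.CardSqBound
import Cfsg.Agent.Lib.Transfer.Tate

/-!
The characters of degree prime to `p` in the principal block, bounded through the centralizer of a
`p`-element whose order has `p`-part at most `p ^ 2`.
-/

open scoped ComplexConjugate

namespace Cfsg.Agent.Char.SmallCent

open Cfsg Cfsg.Agent.Block Cfsg.Agent.Char.DefectOne

set_option linter.unusedSectionVars false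
set_option linter.style.haveILetI false

universe u

variable {G : Type u} [Group G] [Fintype G] {p : ℕ} [hp : Fact p.Prime] {M : Ideal AlgInt}

open scoped Classical in
/-- The characters of degree prime to `p` in the principal block. -/
noncomputable def primeSet (p : ℕ) (M : Ideal AlgInt) (G : Type u) [Group G] [Fintype G] :
    Finset (IrrCharacter G) :=
  Finset.univ.filter fun χ => χ ∈ principalBlock M G ∧ ¬ p ∣ charDegree (χ : G → ℂ)

theorem card_primeSet :
    Nat.card {χ : IrrCharacter G // χ ∈ principalBlock M G ∧ ¬ p ∣ charDegree (χ : G → ℂ)} =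
      (primeSet p M G).card := by
  classical
  rw [Nat.card_eq_fintype_card]
  exact Fintype.card_of_subtype _ fun χ => by simp [primeSet]

theorem value_ne_zero (hM : IsPModular p M) {u : G} (hu : ∃ k, orderOf u = p ^ k)
    {χ : IrrCharacter G} (hχ : ¬ p ∣ charDegree (χ : G → ℂ)) : (χ : G → ℂ) u ≠ 0 := by
  obtain ⟨k, hk⟩ := hu
  intro h0
  have h1 := value_pPart_congr hM (irr_isChar χ) (g := u) (u := u) (v := 1) (mul_one u)
    (Commute.one_right u) (k := k) (by rw [← hk, pow_orderOf_eq_one]) (one_mem _)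
  rw [h0, zero_sub, charDeg_spec'] at h1
  refine hχ ((ideal_natCast_iff hM _).1 ?_)
  simpa using ideal_neg h1

/-- The expansion of the values at a section over the principal block of the centralizer, and the
column there. -/
theorem expansion (hM : IsPModular p M) {u : G} (hu : ∃ k, orderOf u = p ^ k) {C : Subgroup G}
    (hC : C = Subgroup.centralizer ({u} : Set G)) [Fintype C]
    [DecidablePred (· ∈ principalBlock M G)] [DecidablePred (· ∈ principalBlock M C)] {h : C}
    (hh : ¬ p ∣ orderOf h) :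
    (∀ χ ∈ principalBlock M G, (χ : G → ℂ) (u * (h : G)) =
      ∑ ξ ∈ Finset.univ.filter (· ∈ principalBlock M C),
        classInner (fun c : C => (χ : G → ℂ) (u * (c : G))) (ξ : C → ℂ) * (ξ : C → ℂ) h) ∧
    ∑ χ ∈ Finset.univ.filter (· ∈ principalBlock M G),
        (χ : G → ℂ) (u * (h : G)) * conj ((χ : G → ℂ) (u * (h : G))) =
      ∑ ξ ∈ Finset.univ.filter (· ∈ principalBlock M C), (ξ : C → ℂ) h * conj ((ξ : C → ℂ) h) := by
  classical
  subst hC
  refine ⟨fun χ hχ => ?_, ?_⟩
  · have h1 := value_eq_sum_inducing hM hu isPBlock_principalBlock hh χ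
    rw [if_pos hχ] at h1
    rw [← h1]
    refine Finset.sum_congr ?_ fun ξ _ => rfl
    ext ξ
    simp only [Finset.mem_filter, Finset.mem_univ, true_and]
    have hdef : InducedBlockDefined M (Subgroup.centralizer ({u} : Set G))
        (blockOf M (ξ : Subgroup.centralizer ({u} : Set G) → ℂ)) := by
      obtain ⟨k, hk⟩ := hu
      have hP : IsPGroup p (Subgroup.zpowers u) :=
        IsPGroup.of_card (n := k) (by rw [Nat.card_zpowers, hk])
      have hPH : Subgroup.zpowers u ≤ Subgroup.centralizer ({u} : Set G) :=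
        Subgroup.zpowers_le.2 (centralizer_self_mem u)
      refine inducedBlockDefined_brauer hM hP hPH ?_ ?_ (isPBlock_blockOf ξ)
      · exact Subgroup.centralizer_le (Set.singleton_subset_iff.2 (Subgroup.mem_zpowers u))
      · intro c hc
        refine Subgroup.centralizer_le_normalizer _ (Subgroup.mem_centralizer_iff.2 fun w hw => ?_)
        obtain ⟨i, rfl⟩ := Subgroup.mem_zpowers_iff.1 hw
        exact ((show Commute c u from Subgroup.mem_centralizer_singleton_iff.1 hc).zpow_right i).eq.symm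
    rw [principal_third_main hM hdef]
    exact ⟨fun h => h ▸ mem_blockOf_self hM ξ,
      fun h => (pblock_eq_blockOf hM isPBlock_principalBlock h).symm⟩
  · have h1 := principal_column (M := M) hM hu (y := h) hh
    rw [finsum_mem_block, finsum_mem_block] at h1
    exact h1

theorem centralizer_of_generator {y u : G} (h : Subgroup.zpowers u = Subgroup.zpowers y) :
    Subgroup.centralizer ({u} : Set G) = Subgroup.centralizer ({y} : Set G) := by
  rw [← Subgroup.centralizer_closure ({u} : Set G), ← Subgroup.centralizer_closure ({y} : Set G),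
    ← Subgroup.zpowers_eq_closure, ← Subgroup.zpowers_eq_closure, h]

/-- A normal `p`-complement in the centralizer. -/
theorem count_complement (hM : IsPModular p M) {y : G} (hy : ∃ k, orderOf y = p ^ k)
    {C : Subgroup G} (hC : C = Subgroup.centralizer ({y} : Set G)) {K : Subgroup C} (hKn : K.Normal)
    (hK : ¬ p ∣ Nat.card K) {k : ℕ} (hidx : K.index = p ^ k) :
    (primeSet p M G).card ≤ p ^ (Nat.card C).factorization p := by
  classical
  haveI := hKn
  letI := Fintype.ofFinite C
  set A := primeSet p M G with hA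
  set B := Finset.univ.filter (· ∈ principalBlock M G) with hB
  have hAB : A ⊆ B := fun χ hχ => by
    simp only [hA, primeSet, Finset.mem_filter] at hχ
    simp [hB, hχ.2.1]
  set Z := Subgroup.zpowers y with hZ
  letI : Fintype Z := Fintype.ofFinite Z
  set s : Finset Z := Finset.univ.filter (fun u => orderOf u = Nat.card Z) with hs
  have hs0 : 0 < s.card := Finset.card_pos.2 ⟨⟨y, Subgroup.mem_zpowers y⟩, by
    simp only [hs, Finset.mem_filter, Finset.mem_univ, true_and]
    rw [Subgroup.orderOf_mk, hZ, Nat.card_zpowers]⟩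
  have hpow : ∀ u : Z, ∀ k : ℕ, (Nat.card Z).Coprime k → (u ^ k ∈ s ↔ u ∈ s) := by
    intro u k hk
    simp only [s, Finset.mem_filter, Finset.mem_univ, true_and]
    rw [((hk.coprime_dvd_left (orderOf_dvd_natCard u))).orderOf_pow]
  have hgen : ∀ u ∈ s, (∃ j, orderOf (u : G) = p ^ j) ∧ Subgroup.zpowers (u : G) = Z := by
    intro u hu
    have hu' : orderOf (u : G) = Nat.card Z := by
      rw [Subgroup.orderOf_coe]; exact (Finset.mem_filter.1 hu).2
    obtain ⟨j, hj⟩ := hy
    refine ⟨⟨j, by rw [hu', hZ, Nat.card_zpowers, hj]⟩, ?_⟩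
    exact Subgroup.eq_of_le_of_card_ge (Subgroup.zpowers_le.2 u.2) (by rw [Nat.card_zpowers (u : G), hu'])
  have hcol : ∀ u ∈ s, ∑ χ ∈ B, Complex.normSq ((χ : G → ℂ) (u : G)) =
      ((p ^ (Nat.card C).factorization p : ℕ) : ℝ) := by
    intro u hu
    obtain ⟨hup, huz⟩ := hgen u hu
    have hCu : C = Subgroup.centralizer ({(u : G)} : Set G) :=
      hC.trans (centralizer_of_generator huz).symm
    have h1 : ¬ p ∣ orderOf (1 : C) := by rw [orderOf_one]; exact hp.out.not_dvd_one
    have h := (expansion (M := M) hM hup hCu h1).2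
    have h2 := principal_column_complement (M := M) hM hK hidx h1
    rw [finsum_mem_block] at h2
    rw [h2] at h
    simp only [OneMemClass.coe_one, mul_one, Complex.mul_conj, ← hB, ← Complex.ofReal_sum,
      ← Complex.ofReal_natCast, Complex.ofReal_inj] at h
    exact h
  have hlow : ∀ χ ∈ A, (s.card : ℝ) ≤ ∑ u ∈ s, Complex.normSq ((χ : G → ℂ) (u : G)) := by
    intro χ hχ
    have hd : ¬ p ∣ charDegree (χ : G → ℂ) := by
      simp only [hA, primeSet, Finset.mem_filter] at hχ
      exact hχ.2.2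
    have hne : ∀ u ∈ s, (χ : G → ℂ) (u : G) ≠ 0 := fun u hu => value_ne_zero hM (hgen u hu).1 hd
    obtain ⟨z, hz⟩ := IsGenChar.exists_int_prod
      (IsGenChar.of_isCharacter (IsChar.res (irr_isChar χ) Z)) s
      (fun u hu => (Finset.mem_filter.1 hu).2) hpow
    have hz0 : z ≠ 0 := by
      intro h
      rw [h, Int.cast_zero] at hz
      exact Finset.prod_ne_zero_iff.2 hne hz
    refine Spec.card_le_sum_of_one_le_prod s _ (fun u hu => Complex.normSq_pos.2 (hne u hu)) ?_
    rw [← map_prod Complex.normSq, hz, Complex.normSq_intCast, ← sq]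
    have h2 : (1 : ℤ) ≤ z ^ 2 := sq_pos_of_ne_zero hz0
    exact_mod_cast h2
  have hfinal : (A.card : ℝ) * s.card ≤ ((p ^ (Nat.card C).factorization p : ℕ) : ℝ) * s.card := by
    calc (A.card : ℝ) * s.card = ∑ _χ ∈ A, (s.card : ℝ) := by simp
      _ ≤ ∑ χ ∈ A, ∑ u ∈ s, Complex.normSq ((χ : G → ℂ) (u : G)) := Finset.sum_le_sum hlow
      _ ≤ ∑ χ ∈ B, ∑ u ∈ s, Complex.normSq ((χ : G → ℂ) (u : G)) :=
          Finset.sum_le_sum_of_subset_of_nonneg hAB fun χ _ _ =>
            Finset.sum_nonneg fun u _ => Complex.normSq_nonneg _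
      _ = _ := by
          rw [Finset.sum_comm, Finset.sum_congr rfl hcol, Finset.sum_const, nsmul_eq_mul, mul_comm]
  exact Nat.cast_le.1 (le_of_mul_le_mul_right hfinal (Nat.cast_pos.2 hs0))

/-- The sum of the square norms of the twisted sums. -/
theorem twist_sum (v : ZMod p → ℂ) :
    2 * ∑ k ∈ Finset.univ.erase (0 : ZMod p), Complex.normSq (∑ j, ψc (k * j) * v j) =
      ∑ j : ZMod p, ∑ l : ZMod p, Complex.normSq (v j - v l) := by
  have hall : ∑ k : ZMod p, (∑ j, ψc (k * j) * v j) * conj (∑ j, ψc (k * j) * v j) =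
      (p : ℂ) * ∑ j, v j * conj (v j) := by
    simp only [map_sum, map_mul, Finset.sum_mul_sum]
    rw [Finset.sum_comm, Finset.mul_sum]
    refine Finset.sum_congr rfl fun j _ => ?_
    rw [Finset.sum_comm, Finset.sum_congr rfl (g := fun l => v j * conj (v l) *
      ∑ k : ZMod p, ψc (k * (j - l))) fun l _ => ?_]
    · simp only [ψc_sum, mul_ite, mul_zero, sub_eq_zero, Finset.sum_ite_eq, Finset.mem_univ, if_true]
      ring
    · rw [Finset.mul_sum]
      refine Finset.sum_congr rfl fun k _ => ?_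
      rw [← AddChar.map_neg_eq_conj, show k * (j - l) = k * j + -(k * l) by ring,
        AddChar.map_add_eq_mul]
      ring
  apply Complex.ofReal_injective
  push_cast
  simp only [← Complex.mul_conj]
  rw [← Finset.add_sum_erase _ _ (Finset.mem_univ (0 : ZMod p))] at hall
  simp only [zero_mul, AddChar.map_zero_eq_one, one_mul] at hall
  simp only [map_sub, sub_mul, mul_sub, Finset.sum_sub_distrib, Finset.sum_const, nsmul_eq_mul,
    Finset.card_univ, ZMod.card, ← Finset.mul_sum, ← Finset.sum_mul, map_sum] at hall ⊢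
  linear_combination (2 : ℂ) * hall

/-- The centralizer a product of a group of order `p` and a group with Sylow order `p`. -/
theorem count_split (hM : IsPModular p M) {y : G} (hy : orderOf y = p) {C : Subgroup G}
    (hC : C = Subgroup.centralizer ({y} : Set G)) (H : Subgroup C) (hidx : H.index = p)
    (hreg : ∀ c : C, ¬ p ∣ orderOf c → c ∈ H) (hyH : ∀ z : C, (z : G) = y → z ∉ H)
    (hfac : (Nat.card H).factorization p = 1) : (primeSet p M G).card ≤ p ^ 2 := by
  classical
  letI := Fintype.ofFinite C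
  letI := Fintype.ofFinite H
  obtain ⟨hl, hlat⟩ := PrinLat.principal_lattice (G := H) hM hfac
  set l := blockRank p (principalBlock M H) with hldef
  set A := primeSet p M G with hA
  set B := Finset.univ.filter (· ∈ principalBlock M G) with hB
  set BC := Finset.univ.filter (fun ξ : IrrCharacter C => ξ ∈ principalBlock M C) with hBC
  set BH := Finset.univ.filter (fun η : IrrCharacter H => η ∈ principalBlock M H) with hBH
  set R := Finset.univ.filter (fun h : H => ¬ p ∣ orderOf h) with hR
  have hAB : A ⊆ B := fun χ hχ => by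
    simp only [hA, primeSet, Finset.mem_filter] at hχ
    simp [hB, hχ.2.1]
  have hyC : y ∈ C := hC ▸ centralizer_self_mem y
  set z : C := ⟨y, hyC⟩ with hz
  have hzc : z ∈ Subgroup.center C := Subgroup.mem_center_iff.2 fun t => Subtype.ext (by
    have := t.2
    simp only [hC] at this
    exact Subgroup.mem_centralizer_singleton_iff.1 this)
  have hzp : z ^ p = 1 := Subtype.ext (by
    show y ^ p = 1
    rw [← hy, pow_orderOf_eq_one])
  -- the scalars
  have hsc : ∀ ξ : IrrCharacter C, ∃ j : ZMod p, ∀ (k : ℕ) (c : C),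
      (ξ : C → ℂ) (z ^ k * c) = ψc ((k : ZMod p) * j) * (ξ : C → ℂ) c := by
    intro ξ
    obtain ⟨a, -, ha⟩ := IsIrr.scalar_of_center ξ.2 hzc
    have hk : ∀ (k : ℕ) (c : C), (ξ : C → ℂ) (z ^ k * c) = a ^ k * (ξ : C → ℂ) c := by
      intro k
      induction k with
      | zero => intro c; simp
      | succ k ih => intro c; rw [pow_succ, mul_assoc, ih, ha, pow_succ, mul_assoc]
    have h1 := hk p 1
    rw [hzp, one_mul] at h1
    obtain ⟨j, hj⟩ := exists_ψc (p := p) (z := a)
      (mul_right_cancel₀ (irr_one_ne_zero ξ) (h1.symm.trans (one_mul _).symm))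
    refine ⟨j, fun k c => ?_⟩
    rw [hk, hj, ← AddChar.map_nsmul_eq_pow, nsmul_eq_mul]
  choose lam hlam using hsc
  have hψ1 : ∀ x : ZMod p, ψc x * conj (ψc x) = 1 := fun x => by
    rw [← AddChar.map_neg_eq_conj, ← AddChar.map_add_eq_mul, add_neg_cancel,
      AddChar.map_zero_eq_one]
  -- the decomposition of the centralizer
  have hbij : Function.Bijective (fun w : ZMod p × H => z ^ w.1.val * (w.2 : C)) := by
    refine (Nat.bijective_iff_injective_and_card _).2 ⟨?_, ?_⟩
    · rintro ⟨i, h⟩ ⟨i', h'⟩ he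
      simp only at he
      have hmem : (z ^ i'.val)⁻¹ * z ^ i.val ∈ H := by
        rw [show (z ^ i'.val)⁻¹ * z ^ i.val = (h' : C) * (h : C)⁻¹ by
          rw [eq_mul_inv_iff_mul_eq, mul_assoc, he, inv_mul_cancel_left]]
        exact mul_mem h'.2 (inv_mem h.2)
      have hii : i = i' := by
        by_contra hne
        refine hyH z rfl ?_
        rw [← zpow_natCast, ← zpow_natCast, ← zpow_neg, ← zpow_add] at hmem
        have hco : IsCoprime (-(i'.val : ℤ) + i.val) (p : ℤ) := by
          rw [Int.isCoprime_iff_nat_coprime, Int.natAbs_natCast, Nat.coprime_comm,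
            hp.out.coprime_iff_not_dvd, ← Int.natCast_dvd_natCast, Int.dvd_natAbs,
            ← ZMod.intCast_zmod_eq_zero_iff_dvd]
          push_cast
          rw [ZMod.natCast_zmod_val, ZMod.natCast_zmod_val, neg_add_eq_zero]
          exact Ne.symm hne
        obtain ⟨a, b, hab⟩ := hco
        have hz1 : z = (z ^ (-(i'.val : ℤ) + i.val)) ^ a := by
          conv_lhs => rw [← zpow_one z, ← hab]
          rw [zpow_add, ← zpow_mul z _ a, mul_comm b, zpow_mul z (p : ℤ), zpow_natCast, hzp,
            one_zpow, mul_one, mul_comm a]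
        rw [hz1]
        exact Subgroup.zpow_mem _ hmem _
      subst hii
      exact Prod.ext rfl (Subtype.ext (mul_left_cancel he))
    · rw [Nat.card_prod, Nat.card_zmod, ← H.card_mul_index, hidx, mul_comm]
  have hres : ∀ ξ : IrrCharacter C, IsIrrCharacter H (fun h : H => (ξ : C → ℂ) h) := by
    intro ξ
    refine IsChar.irr_of_norm_one (IsChar.res (irr_isChar ξ) H) ?_
    have h := classInner_self_irr ξ.2
    rw [classInner, inv_mul_eq_one₀ (Nat.cast_ne_zero.2 Nat.card_pos.ne'),
      ← hbij.sum_comp, Fintype.sum_prod_type] at h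
    rw [classInner, inv_mul_eq_one₀ (Nat.cast_ne_zero.2 Nat.card_pos.ne')]
    have h2 : ∀ (i : ZMod p) (x : H), (ξ : C → ℂ) (z ^ i.val * (x : C)) *
        conj ((ξ : C → ℂ) (z ^ i.val * (x : C))) = (ξ : C → ℂ) x * conj ((ξ : C → ℂ) x) := by
      intro i x
      rw [hlam ξ, map_mul (starRingEnd ℂ), mul_mul_mul_comm, hψ1, one_mul]
    simp only [h2, Finset.sum_const, Finset.card_univ, ZMod.card, nsmul_eq_mul,
      ← H.card_mul_index, hidx, Nat.cast_mul] at h
    exact mul_left_cancel₀ (Nat.cast_ne_zero.2 hp.out.ne_zero) ((mul_comm _ _).trans h)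
  let res : IrrCharacter C → IrrCharacter H := fun ξ => ⟨_, hres ξ⟩
  have hordH : ∀ x : H, orderOf (x : C) = orderOf x := fun x => Subgroup.orderOf_coe x
  have hRC : ∀ f : C → ℂ, ∑ c ∈ Finset.univ.filter (fun c : C => ¬ p ∣ orderOf c), f c =
      ∑ x ∈ R, f (x : C) := by
    intro f
    refine (Finset.sum_bij (fun (x : H) _ => (x : C)) (fun x hx => ?_)
      (fun a _ b _ h => Subtype.ext h) (fun c hc => ?_) fun x _ => rfl).symm
    · simpa [hR, hordH] using hx
    · have hc' := (Finset.mem_filter.1 hc).2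
      exact ⟨⟨c, hreg c hc'⟩, Finset.mem_filter.2 ⟨Finset.mem_univ _, by rw [← hordH]; exact hc'⟩, rfl⟩
  have hresB : ∀ ξ ∈ BC, res ξ ∈ BH := by
    intro ξ hξ
    refine Finset.mem_filter.2 ⟨Finset.mem_univ _, ?_⟩
    rw [PrinCol.mem_principal_iff hM]
    have h := (PrinCol.mem_principal_iff hM ξ).1 (Finset.mem_filter.1 hξ).2
    rw [PrinCol.regTot, hRC] at h
    exact h
  have hinj : Set.InjOn (fun ξ => (res ξ, lam ξ)) (BC : Set (IrrCharacter C)) := by
    intro ξ _ ξ' _ h
    obtain ⟨h1, h2⟩ := Prod.mk.injEq _ _ _ _ ▸ h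
    refine Subtype.ext (funext fun c => ?_)
    obtain ⟨⟨i, x⟩, rfl⟩ := hbij.2 c
    show (ξ : C → ℂ) (z ^ i.val * (x : C)) = (ξ' : C → ℂ) (z ^ i.val * (x : C))
    rw [hlam, hlam, h2, show (ξ : C → ℂ) x = (ξ' : C → ℂ) x from
      congrFun (congrArg Subtype.val h1) x]
  -- the upper bound
  have hgen : ∀ k : ZMod p, k ≠ 0 →
      (∃ j, orderOf (pw y k) = p ^ j) ∧ C = Subgroup.centralizer ({pw y k} : Set G) := by
    intro k hk
    have hPp : Nat.card (Subgroup.zpowers y) = p := by rw [Nat.card_zpowers, hy]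
    have hmem : pw y k ∈ Subgroup.zpowers y := Subgroup.npow_mem_zpowers y _
    have hne : pw y k ≠ 1 := fun h => hk (by
      have h1 := orderOf_dvd_of_pow_eq_one h
      rw [hy] at h1
      exact (ZMod.val_eq_zero k).1 (Nat.eq_zero_of_dvd_of_lt h1 k.val_lt))
    exact ⟨pPow_mem hPp hmem,
      hC.trans (centralizer_of_generator (mem_zpowers_of_prime hPp hmem hne)).symm⟩
  have hupper : ∀ k : ZMod p, k ≠ 0 → ∑ χ ∈ B, ∑ x ∈ R,
      Complex.normSq ((χ : G → ℂ) (pw y k * ((x : C) : G))) ≤ (p : ℝ) * ((Nat.card H : ℝ) * l) := by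
    intro k hk
    obtain ⟨hup, hCu⟩ := hgen k hk
    rw [Finset.sum_comm]
    have h1 : ∀ x ∈ R, ∑ χ ∈ B, Complex.normSq ((χ : G → ℂ) (pw y k * ((x : C) : G))) =
        ∑ ξ ∈ BC, Complex.normSq ((res ξ : H → ℂ) x) := by
      intro x hx
      have hx' : ¬ p ∣ orderOf (x : C) := by rw [hordH]; exact (Finset.mem_filter.1 hx).2
      have h := (expansion (M := M) hM hup hCu hx').2
      simp only [Complex.mul_conj, ← hB, ← hBC, ← Complex.ofReal_sum, Complex.ofReal_inj] at h
      exact h
    rw [Finset.sum_congr rfl h1, Finset.sum_comm]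
    have h2 : ∑ η ∈ BH, ∑ x ∈ R, Complex.normSq ((η : H → ℂ) x) = (Nat.card H : ℝ) * l := by
      have h := Spec.sum_regSum_self hM (isPBlock_principalBlock (M := M) (G := H))
      simp only [regSum_eq_sum, ← hR, ← hBH, Complex.mul_conj] at h
      apply Complex.ofReal_injective
      push_cast
      exact h
    rw [← h2]
    calc ∑ ξ ∈ BC, ∑ x ∈ R, Complex.normSq ((res ξ : H → ℂ) x)
        = ∑ w ∈ BC.image (fun ξ => (res ξ, lam ξ)), ∑ x ∈ R,
            Complex.normSq ((w.1 : H → ℂ) x) := (Finset.sum_image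
              (f := fun w : IrrCharacter H × ZMod p => ∑ x ∈ R, Complex.normSq ((w.1 : H → ℂ) x))
              hinj).symm
      _ ≤ ∑ w ∈ BH ×ˢ (Finset.univ : Finset (ZMod p)), ∑ x ∈ R,
            Complex.normSq ((w.1 : H → ℂ) x) := by
          refine Finset.sum_le_sum_of_subset_of_nonneg ?_ fun w _ _ =>
            Finset.sum_nonneg fun x _ => Complex.normSq_nonneg _
          intro w hw
          obtain ⟨ξ, hξ, rfl⟩ := Finset.mem_image.1 hw
          exact Finset.mem_product.2 ⟨hresB ξ hξ, Finset.mem_univ _⟩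
      _ = _ := by
          rw [Finset.sum_product]
          simp only [Finset.sum_const, Finset.card_univ, ZMod.card, nsmul_eq_mul, ← Finset.mul_sum]
  -- the lower bound
  have hlower : ∀ χ ∈ A, ((p : ℝ) - 1) * ((l : ℝ) * Nat.card H) ≤
      (p : ℝ) * ∑ k ∈ Finset.univ.erase (0 : ZMod p), ∑ x ∈ R,
        Complex.normSq ((χ : G → ℂ) (pw y k * ((x : C) : G))) := by
    intro χ hχ
    obtain ⟨hχB, hχd⟩ : χ ∈ principalBlock M G ∧ ¬ p ∣ charDegree (χ : G → ℂ) := by
      simp only [hA, primeSet, Finset.mem_filter] at hχ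
      exact hχ.2
    choose m hm using fun ξ : IrrCharacter C =>
      IsChar.classInner_nat (IsChar.res (irr_isChar χ) C) (irr_isChar ξ)
    let v : ZMod p → H → ℂ := fun j x =>
      ∑ ξ ∈ BC.filter (fun ξ => lam ξ = j), (m ξ : ℂ) * (ξ : C → ℂ) x
    have hexp : ∀ k : ZMod p, k ≠ 0 → ∀ x ∈ R, (χ : G → ℂ) (pw y k * ((x : C) : G)) =
        ∑ j, ψc (k * j) * v j x := by
      intro k hk x hx
      obtain ⟨hup, hCu⟩ := hgen k hk
      have hx' : ¬ p ∣ orderOf (x : C) := by rw [hordH]; exact (Finset.mem_filter.1 hx).2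
      rw [(expansion (M := M) hM hup hCu hx').1 χ hχB, ← hBC,
        ← Finset.sum_fiberwise BC lam]
      refine Finset.sum_congr rfl fun j _ => ?_
      simp only [v, Finset.mul_sum]
      refine Finset.sum_congr rfl fun ξ hξ => ?_
      rw [← (Finset.mem_filter.1 hξ).2, ← mul_assoc]
      congr 1
      rw [← hm ξ, classInner, classInner, mul_left_comm]
      congr 1
      rw [Finset.mul_sum, ← Equiv.sum_comp (Equiv.mulLeft (z ^ k.val)) (fun c : C => ψc (k * lam ξ) *
        ((χ : G → ℂ) c * conj ((ξ : C → ℂ) c)))]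
      refine Finset.sum_congr rfl fun c _ => ?_
      simp only [Equiv.coe_mulLeft]
      rw [hlam, ZMod.natCast_zmod_val, map_mul (starRingEnd ℂ)]
      have : ((z ^ k.val * c : C) : G) = pw y k * (c : G) := by simp [pw, hz]
      rw [this]
      linear_combination -((χ : G → ℂ) (pw y k * (c : G)) * conj ((ξ : C → ℂ) c)) * hψ1 (k * lam ξ)
    have hv : ∀ j, ∃ a : IrrCharacter H → ℤ, ∀ x : H, v j x =
        ∑ η ∈ BH, (a η : ℂ) * (η : H → ℂ) x := by
      intro j
      refine ⟨fun η => ∑ ξ ∈ (BC.filter (fun ξ => lam ξ = j)).filter (fun ξ => res ξ = η), (m ξ : ℤ),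
        fun x => ?_⟩
      simp only [v]
      rw [← Finset.sum_fiberwise_of_maps_to (t := BH) (g := res)
        fun ξ hξ => hresB ξ (Finset.mem_filter.1 hξ).1]
      refine Finset.sum_congr rfl fun η _ => ?_
      push_cast
      rw [Finset.sum_mul]
      refine Finset.sum_congr rfl fun ξ hξ => ?_
      rw [← (Finset.mem_filter.1 hξ).2]
    set S := Finset.univ.filter (fun j : ZMod p => ∀ x ∈ R, v j x = v 0 x) with hS
    have hS1 : 1 ≤ S.card := Finset.card_pos.2 ⟨0, by simp [hS]⟩
    have hSp : S.card < p := by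
      by_contra hge
      have huniv : S = Finset.univ := Finset.eq_univ_of_card _
        (le_antisymm (Finset.card_le_univ S) (by rw [ZMod.card]; omega))
      have h1R : (1 : H) ∈ R := by simp [hR, hp.out.ne_one]
      have h0 := hexp 1 one_ne_zero 1 h1R
      rw [Finset.sum_congr rfl fun j _ => by
        rw [(Finset.mem_filter.1 (huniv ▸ Finset.mem_univ j : j ∈ S)).2 1 h1R],
        ← Finset.sum_mul] at h0
      have hψ := ψc_sum (p := p) 1
      rw [if_neg one_ne_zero] at hψ
      simp only [mul_one] at hψ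
      simp only [one_mul, hψ, zero_mul, OneMemClass.coe_one, mul_one] at h0
      exact value_ne_zero hM (hgen 1 one_ne_zero).1 hχd h0
    let F : ZMod p → ZMod p → ℝ := fun j j' => (p : ℝ) * ∑ x ∈ R, Complex.normSq (v j x - v j' x)
    have hF0 : ∀ j j', 0 ≤ F j j' := fun j j' =>
      mul_nonneg (Nat.cast_nonneg _) (Finset.sum_nonneg fun x _ => Complex.normSq_nonneg _)
    have hFc : ∀ j j', (∃ x ∈ R, v j x ≠ v j' x) → (l : ℝ) * Nat.card H ≤ F j j' := by
      rintro j j' ⟨x, hx, hne⟩
      obtain ⟨a, ha⟩ := hv j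
      obtain ⟨a', ha'⟩ := hv j'
      refine hlat (fun x => v j x - v j' x) (fun η => a η - a' η) (fun x _ => ?_)
        ⟨x, (Finset.mem_filter.1 hx).2, sub_ne_zero.2 hne⟩
      show v j x - v j' x = _
      rw [ha, ha', ← Finset.sum_sub_distrib]
      refine Finset.sum_congr (by ext η; simp [hBH]) fun η _ => ?_
      push_cast
      ring
    have h2 := PrinLat.two_sided S F hF0 (c := (l : ℝ) * Nat.card H) fun j hj j' hj' => by
      simp only [hS, Finset.mem_filter, Finset.mem_univ, true_and, not_forall] at hj hj'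
      obtain ⟨x, hx, hne⟩ := hj'
      exact ⟨hFc j j' ⟨x, hx, fun e => hne (e.symm.trans (hj x hx))⟩,
        hFc j' j ⟨x, hx, fun e => hne (e.trans (hj x hx))⟩⟩
    rw [ZMod.card] at h2
    have h3 : ∑ j, ∑ j', F j j' = 2 * ((p : ℝ) * ∑ k ∈ Finset.univ.erase (0 : ZMod p), ∑ x ∈ R,
        Complex.normSq ((χ : G → ℂ) (pw y k * ((x : C) : G)))) := by
      have h4 : ∀ x : H, ∑ j : ZMod p, ∑ j' : ZMod p, Complex.normSq (v j x - v j' x) =
          2 * ∑ k ∈ Finset.univ.erase (0 : ZMod p), Complex.normSq (∑ j, ψc (k * j) * v j x) :=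
        fun x => (twist_sum fun j => v j x).symm
      simp only [F, ← Finset.mul_sum]
      rw [mul_left_comm, Finset.sum_congr rfl fun j _ => Finset.sum_comm, Finset.sum_comm,
        Finset.sum_congr rfl fun x _ => h4 x, ← Finset.mul_sum, Finset.sum_comm]
      congr 2
      refine Finset.sum_congr rfl fun k hk => Finset.sum_congr rfl fun x hx => ?_
      rw [hexp k (Finset.ne_of_mem_erase hk) x hx]
    rw [h3] at h2
    have hs1 : (1 : ℝ) ≤ S.card := by exact_mod_cast hS1
    have hs2 : (S.card : ℝ) + 1 ≤ p := by exact_mod_cast hSp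
    have h6 : (p : ℝ) - 1 ≤ S.card * ((p : ℝ) - S.card) := by nlinarith
    have h7 : 0 ≤ (l : ℝ) * Nat.card H := by positivity
    nlinarith [mul_le_mul_of_nonneg_right h6 h7]
  -- the count
  have hpc : ((Finset.univ.erase (0 : ZMod p)).card : ℝ) = (p : ℝ) - 1 := by
    rw [Finset.card_erase_of_mem (Finset.mem_univ _), Finset.card_univ, ZMod.card,
      Nat.cast_sub hp.out.one_lt.le, Nat.cast_one]
  have hp1 : (0 : ℝ) < (p : ℝ) - 1 := by
    have : (2 : ℝ) ≤ p := by exact_mod_cast hp.out.two_le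
    linarith
  have hfinal : (A.card : ℝ) * (((p : ℝ) - 1) * ((l : ℝ) * Nat.card H)) ≤
      ((p : ℝ) ^ 2) * (((p : ℝ) - 1) * ((l : ℝ) * Nat.card H)) := by
    calc (A.card : ℝ) * (((p : ℝ) - 1) * ((l : ℝ) * Nat.card H))
        = ∑ _χ ∈ A, ((p : ℝ) - 1) * ((l : ℝ) * Nat.card H) := by simp
      _ ≤ ∑ χ ∈ A, (p : ℝ) * ∑ k ∈ Finset.univ.erase (0 : ZMod p), ∑ x ∈ R,
            Complex.normSq ((χ : G → ℂ) (pw y k * ((x : C) : G))) := Finset.sum_le_sum hlower
      _ ≤ ∑ χ ∈ B, (p : ℝ) * ∑ k ∈ Finset.univ.erase (0 : ZMod p), ∑ x ∈ R,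
            Complex.normSq ((χ : G → ℂ) (pw y k * ((x : C) : G))) :=
          Finset.sum_le_sum_of_subset_of_nonneg hAB fun χ _ _ => mul_nonneg (Nat.cast_nonneg _)
            (Finset.sum_nonneg fun k _ => Finset.sum_nonneg fun x _ => Complex.normSq_nonneg _)
      _ ≤ (p : ℝ) * ∑ k ∈ Finset.univ.erase (0 : ZMod p), (p : ℝ) * ((Nat.card H : ℝ) * l) := by
          rw [← Finset.mul_sum, Finset.sum_comm]
          exact mul_le_mul_of_nonneg_left
            (Finset.sum_le_sum fun k hk => hupper k (Finset.ne_of_mem_erase hk)) (Nat.cast_nonneg _)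
      _ = _ := by
          rw [Finset.sum_const, nsmul_eq_mul, hpc]
          ring
  have hpos : (0 : ℝ) < ((p : ℝ) - 1) * ((l : ℝ) * Nat.card H) :=
    mul_pos hp1 (mul_pos (Nat.cast_pos.2 hl) (Nat.cast_pos.2 Nat.card_pos))
  exact_mod_cast le_of_mul_le_mul_right hfinal hpos

/-- A retraction onto a subgroup of order `p` of an elementary abelian group of order `p ^ 2`. -/
theorem exists_retraction_elementary {Q : Type u} [Group Q] [Finite Q]
    (hQ : Nat.card Q = p ^ 2) (hexp : ∀ q : Q, q ^ p = 1) (hcomm : ∀ a b : Q, a * b = b * a)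
    (A : Subgroup Q) (hA : Nat.card A = p) : ∃ r : Q →* A, ∀ a : A, r (a : Q) = a := by
  classical
  letI := Fintype.ofFinite Q
  obtain ⟨w, hw⟩ : ∃ w : Q, w ∉ A := by
    by_contra hno
    simp only [not_exists, not_not] at hno
    rw [(Subgroup.eq_top_iff' A).2 hno, Subgroup.card_top, hQ] at hA
    exact absurd hA (fun h => by
      have := hp.out.two_le
      nlinarith [h])
  set W := Subgroup.zpowers w with hW
  have hw1 : w ≠ 1 := fun h => hw (h ▸ one_mem A)
  have hWc : Nat.card W = p := by rw [hW, Nat.card_zpowers, orderOf_eq_prime (hexp w) hw1]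
  have hdisj : Disjoint A W := by
    rw [Subgroup.disjoint_def]
    intro q hqA hqW
    by_contra hq
    exact hw (Subgroup.zpowers_le.1 ((mem_zpowers_of_prime (P := W) hWc hqW hq) ▸
      Subgroup.zpowers_le.2 hqA : W ≤ A))
  let f : A × W →* Q := MonoidHom.noncommCoprod A.subtype W.subtype fun a b => hcomm a b
  have hf : Function.Bijective f := by
    refine (Nat.bijective_iff_injective_and_card _).2 ⟨(injective_iff_map_eq_one f).2 ?_, by
      rw [Nat.card_prod, hA, hWc, hQ, sq]⟩
    rintro ⟨a, b⟩ hab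
    have hab' : (a : Q) * b = 1 := hab
    have ha : (a : Q) = 1 := Subgroup.disjoint_def.1 hdisj a.2 (by
      rw [eq_inv_of_mul_eq_one_left hab']
      exact inv_mem b.2)
    rw [ha, one_mul] at hab'
    exact Prod.ext (Subtype.ext ha) (Subtype.ext hab')
  refine ⟨(MonoidHom.fst A W).comp (MulEquiv.ofBijective f hf).symm.toMonoidHom, fun a => ?_⟩
  have : (MulEquiv.ofBijective f hf).symm (a : Q) = (a, 1) := by
    rw [MulEquiv.symm_apply_eq]
    show (a : Q) = (a : Q) * ((1 : W) : Q)
    simp
  simp [this]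

/-- The bound. -/
theorem count_le (hM : IsPModular p M) {x : G} (hx : ∃ k, orderOf x = p ^ k)
    (hf : (Nat.card (Subgroup.centralizer ({x} : Set G))).factorization p ≤ 2) :
    (primeSet p M G).card ≤ p ^ 2 := by
  classical
  by_cases hdvd : p ∣ Nat.card G
  swap
  · calc (primeSet p M G).card ≤ 1 := by
          refine Finset.card_le_one.2 fun a ha b hb => ?_
          simp only [primeSet, Finset.mem_filter, Finset.mem_univ, true_and] at ha hb
          exact Subtype.ext (((principal_pPrime_only hM).2 hdvd a ha.1 ha.2).trans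
            ((principal_pPrime_only hM).2 hdvd b hb.1 hb.2).symm)
      _ ≤ p ^ 2 := Nat.one_le_pow _ _ hp.out.pos
  set Cx := Subgroup.centralizer ({x} : Set G) with hCx
  obtain ⟨Q⟩ : Nonempty (Sylow p Cx) := inferInstance
  set P0 : Subgroup G := (Q : Subgroup Cx).map Cx.subtype with hP0
  have hP0card : Nat.card P0 = p ^ (Nat.card Cx).factorization p := by
    rw [hP0, Nat.card_congr ((Q : Subgroup Cx).equivMapOfInjective _ Cx.subtype_injective).symm.toEquiv,
      Q.card_eq_multiplicity]
  have hP0g : IsPGroup p P0 := IsPGroup.of_card hP0card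
  have hP0C : P0 ≤ Cx := Subgroup.map_subtype_le _
  have hxP0 : x ∈ P0 := by
    obtain ⟨k, hk⟩ := hx
    let x' : Cx := ⟨x, centralizer_self_mem x⟩
    have hxc : Subgroup.zpowers x' ≤ Subgroup.normalizer ((Q : Subgroup Cx) : Set Cx) :=
      Subgroup.zpowers_le.2 (Subgroup.mem_normalizer_iff.2 fun w => by
        have hw : x' * w * x'⁻¹ = w := mul_inv_eq_iff_eq_mul.2 (Subtype.ext
          (Subgroup.mem_centralizer_singleton_iff.1 w.2).symm)
        rw [hw])
    have hpg : IsPGroup p (Subgroup.zpowers x' ⊔ (Q : Subgroup Cx) : Subgroup Cx) :=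
      (IsPGroup.of_card (n := k) (by
        rw [Nat.card_zpowers, ← hk, ← Subgroup.orderOf_coe])).to_sup_of_normal_right'
        Q.isPGroup' hxc
    have hmem : x' ∈ (Q : Subgroup Cx) := by
      rw [← Q.is_maximal' hpg le_sup_right]
      exact Subgroup.mem_sup_left (Subgroup.mem_zpowers x')
    exact ⟨x', hmem, rfl⟩
  set n := (Nat.card Cx).factorization p with hn
  have hn1 : 1 ≤ n := by
    refine (hp.out.dvd_iff_one_le_factorization Nat.card_pos.ne').1 ?_
    by_cases hx1 : x = 1
    · rw [show Cx = ⊤ by rw [hCx, hx1]; exact eq_top_iff.2 fun g _ =>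
        Subgroup.mem_centralizer_singleton_iff.2 (by simp), Subgroup.card_top]
      exact hdvd
    · obtain ⟨k, hk⟩ := hx
      have hk0 : k ≠ 0 := fun h => hx1 (orderOf_eq_one_iff.1 (by rw [hk, h, pow_zero]))
      have : p ∣ orderOf x := hk ▸ dvd_pow_self p hk0
      exact this.trans ((Subgroup.orderOf_mk x (centralizer_self_mem x)) ▸ orderOf_dvd_natCard _)
  obtain ⟨y, hyP, hy, hCyx, hcase⟩ : ∃ y ∈ P0, (∃ k, orderOf y = p ^ k) ∧
      Subgroup.centralizer ({y} : Set G) ≤ Cx ∧
      (Subgroup.zpowers y = P0 ∨ (orderOf y = p ∧ n = 2 ∧ (∀ a ∈ P0, ∀ b ∈ P0, a * b = b * a) ∧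
        ∀ a ∈ P0, a ^ p = 1)) := by
    have hpk : ∀ a ∈ P0, ∃ k, orderOf a = p ^ k := fun a ha => by
      obtain ⟨k, hk⟩ := (IsPGroup.iff_orderOf.1 hP0g) ⟨a, ha⟩
      exact ⟨k, by rw [← hk, Subgroup.orderOf_mk]⟩
    by_cases hcyc : ∃ a ∈ P0, orderOf a = Nat.card P0
    · obtain ⟨a, ha, hord⟩ := hcyc
      have hz : Subgroup.zpowers a = P0 := Subgroup.eq_of_le_of_card_ge (Subgroup.zpowers_le.2 ha)
        (by rw [Nat.card_zpowers, hord])
      refine ⟨a, ha, hpk a ha, fun g hg => Subgroup.mem_centralizer_singleton_iff.2 ?_, .inl hz⟩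
      obtain ⟨i, hi⟩ := Subgroup.mem_zpowers_iff.1 (hz ▸ hxP0 : x ∈ Subgroup.zpowers a)
      rw [← hi]
      exact ((show Commute g a from Subgroup.mem_centralizer_singleton_iff.1 hg).zpow_right i).eq
    simp only [not_exists, not_and] at hcyc
    have hexp : ∀ a ∈ P0, a ^ p = 1 := by
      intro a ha
      have hd : orderOf a ∣ p ^ n := by
        have := orderOf_dvd_natCard (⟨a, ha⟩ : P0)
        rwa [Subgroup.orderOf_mk, hP0card] at this
      obtain ⟨k, hk, hk'⟩ := (Nat.dvd_prime_pow hp.out).1 hd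
      have hkn : k ≠ n := fun h => hcyc a ha (by rw [hP0card, hk', h])
      refine orderOf_dvd_iff_pow_eq_one.1 (hk' ▸ ?_)
      exact (pow_dvd_pow p (show k ≤ 1 by omega)).trans (pow_one p).dvd
    have hn2 : n = 2 := by
      by_contra h
      obtain h1 | h1 : n = 1 ∨ 2 < n := by omega
      · rw [h1, pow_one] at hP0card
        obtain ⟨a, ha, ha1⟩ := (Subgroup.bot_or_exists_ne_one P0).resolve_left fun h => by
          rw [h, Subgroup.card_bot] at hP0card
          exact hp.out.ne_one hP0card.symm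
        exact hcyc a ha ((orderOf_eq_prime (hexp a ha) ha1).trans hP0card.symm)
      · omega
    have hcomm : ∀ a ∈ P0, ∀ b ∈ P0, a * b = b * a := fun a ha b hb => by
      haveI : Fact p.Prime := hp
      letI := IsPGroup.commGroupOfCardEqPrimeSq (G := P0) (p := p) (by rw [hP0card, hn2])
      exact congrArg Subtype.val (mul_comm (⟨a, ha⟩ : P0) ⟨b, hb⟩)
    by_cases hx1 : x = 1
    · obtain ⟨a, ha, ha1⟩ := (Subgroup.bot_or_exists_ne_one P0).resolve_left fun h => by
        rw [h, Subgroup.card_bot] at hP0card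
        exact (Nat.one_lt_pow (by omega) hp.out.one_lt).ne hP0card
      refine ⟨a, ha, hpk a ha, fun g _ => ?_, .inr ⟨orderOf_eq_prime (hexp a ha) ha1, hn2, hcomm,
        hexp⟩⟩
      rw [hCx, hx1, Subgroup.mem_centralizer_singleton_iff]
      simp
    · exact ⟨x, hxP0, hx, le_rfl, .inr ⟨orderOf_eq_prime (hexp x hxP0) hx1, hn2, hcomm, hexp⟩⟩
  set C := Subgroup.centralizer ({y} : Set G) with hC
  have hPC : P0 ≤ C := by
    intro a ha
    refine Subgroup.mem_centralizer_singleton_iff.2 ?_
    rcases hcase with hz | ⟨-, -, hcomm, -⟩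
    · obtain ⟨i, rfl⟩ := Subgroup.mem_zpowers_iff.1 (hz ▸ ha : a ∈ Subgroup.zpowers y)
      exact ((Commute.refl y).zpow_left i).eq
    · exact hcomm a ha y hyP
  have hfacC : (Nat.card C).factorization p = n := by
    refine le_antisymm ?_ ?_
    · exact (Nat.factorization_le_iff_dvd Nat.card_pos.ne' Nat.card_pos.ne').2
        (Subgroup.card_dvd_of_le hCyx) p
    · refine (hp.out.pow_dvd_iff_le_factorization Nat.card_pos.ne').1 ?_
      exact hP0card ▸ Subgroup.card_dvd_of_le hPC
  have hcardC : Nat.card (P0.subgroupOf C) = p ^ n := by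
    rw [Nat.card_congr (Subgroup.subgroupOfEquivOfLe hPC).toEquiv, hP0card]
  let S : Sylow p C := Sylow.ofCard (P0.subgroupOf C) (by rw [hcardC, hfacC])
  have hSidx : ¬ p ∣ (P0.subgroupOf C).index := S.not_dvd_index
  have hycen : ∀ w : C, (w : G) * y = y * (w : G) := fun w =>
    Subgroup.mem_centralizer_singleton_iff.1 w.2
  rcases hcase with hz | ⟨hyo, hn2, hcomm, hexp⟩
  · have hN : Subgroup.normalizer ((S : Subgroup C) : Set C) ≤
        Subgroup.centralizer ((S : Subgroup C) : Set C) := fun w _ =>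
      Subgroup.mem_centralizer_iff.2 fun s hs => Subtype.ext (by
        obtain ⟨i, hi⟩ := Subgroup.mem_zpowers_iff.1 (show (s : G) ∈ Subgroup.zpowers y by
          rw [hz]; exact hs)
        show (s : G) * w = w * s
        rw [← hi]
        exact ((show Commute (w : G) y from hycen w).zpow_right i).eq.symm)
    have hcomp := MonoidHom.ker_transferSylow_isComplement' S hN
    refine (count_complement hM hy hC (K := (MonoidHom.transferSylow S hN).ker) inferInstance
      (MonoidHom.not_dvd_card_ker_transferSylow S hN) (k := n) ?_).trans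
      (hfacC ▸ Nat.pow_le_pow_right hp.out.pos hf)
    rw [hcomp.symm.index_eq_card]
    exact hcardC
  · set A : Subgroup C := (Subgroup.zpowers y).subgroupOf C with hA
    have hyC : y ∈ C := hPC hyP
    have hzle : Subgroup.zpowers y ≤ P0 := Subgroup.zpowers_le.2 hyP
    have hAcard : Nat.card A = p := by
      rw [hA, Nat.card_congr (Subgroup.subgroupOfEquivOfLe (hzle.trans hPC)).toEquiv,
        Nat.card_zpowers, hyo]
    have hAc : A ≤ Subgroup.center C := fun a ha => Subgroup.mem_center_iff.2 fun w =>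
      Subtype.ext (by
        obtain ⟨i, hi⟩ := Subgroup.mem_zpowers_iff.1 (ha : (a : G) ∈ Subgroup.zpowers y)
        show (w : G) * a = a * w
        rw [show (a : G) = y ^ i from hi.symm]
        exact ((show Commute (w : G) y from hycen w).zpow_right i).eq)
    have hAQ : A ≤ P0.subgroupOf C := fun a ha => hzle ha
    obtain ⟨r₀, hr₀⟩ := exists_retraction_elementary (Q := P0.subgroupOf C) (p := p)
      (by rw [hcardC, hn2]) (fun q => Subtype.ext (Subtype.ext (hexp _ q.2)))
      (fun a b => Subtype.ext (Subtype.ext (hcomm _ a.2 _ b.2)))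
      (A.subgroupOf (P0.subgroupOf C))
      (by rw [Nat.card_congr (Subgroup.subgroupOfEquivOfLe hAQ).toEquiv, hAcard])
    let r : P0.subgroupOf C →* A := (Subgroup.subgroupOfEquivOfLe hAQ).toMonoidHom.comp r₀
    obtain ⟨V, hV⟩ := Transfer.exists_retraction_of_central A hAc
      (IsPGroup.of_card (n := 1) (by rw [hAcard, pow_one])) (P0.subgroupOf C) hAQ hSidx r
      (fun a => by
        show Subgroup.subgroupOfEquivOfLe hAQ (r₀ _) = a
        rw [show (⟨(a : C), hAQ a.2⟩ : P0.subgroupOf C) =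
          ((⟨⟨(a : C), hAQ a.2⟩, a.2⟩ : A.subgroupOf (P0.subgroupOf C)) : P0.subgroupOf C) from rfl,
          hr₀]
        rfl)
    have hVs : Function.Surjective V := fun a => (hV.2 a).elim fun b hb => ⟨_, hb⟩
    have hidx : V.ker.index = p := by
      rw [Subgroup.index_ker, MonoidHom.range_eq_top.2 hVs, Subgroup.card_top, hAcard]
    refine count_split hM hyo hC V.ker hidx (fun c hc => ?_) (fun w hw hmem => ?_) ?_
    · have h1 : orderOf (V c) ∣ p := hAcard ▸ orderOf_dvd_natCard _
      rcases (Nat.dvd_prime hp.out).1 h1 with h2 | h2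
      · exact orderOf_eq_one_iff.1 h2
      · exact absurd (h2 ▸ orderOf_map_dvd V c) hc
    · have hwA : w ∈ A := by
        show (w : G) ∈ Subgroup.zpowers y
        rw [hw]; exact Subgroup.mem_zpowers y
      have : (⟨w, hwA⟩ : A) = 1 := hV.1 (by
        rw [map_one]
        exact hmem)
      have hw1 : w = 1 := congrArg Subtype.val this
      rw [hw1] at hw
      exact hp.out.ne_one (hyo.symm.trans (by rw [← hw]; simp))
    · have hmul : (Nat.card V.ker).factorization p + 1 = 2 := by
        rw [← hn2, ← hfacC, ← V.ker.card_mul_index, hidx,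
          Nat.factorization_mul Nat.card_pos.ne' hp.out.ne_zero, Finsupp.add_apply,
          hp.out.factorization_self]
      omega

end Cfsg.Agent.Char.SmallCent
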