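import Mathlib

/-!
Congruences between sums of two powers of two modulo a divisor of `2 ^ n - 1` of small index, and the
consequences for field automorphisms on a subgroup of small index in the multiplicative group.
-/

set_option autoImplicit false

namespace Cfsg.Agent.Char.SolvTrans

theorem pow_two_sum_eq {a b c e : ℕ} (hab : a ≤ b) (hce : c ≤ e) (h : 2 ^ a + 2 ^ b = 2 ^ c + 2 ^ e) :
    a = c ∧ b = e := by
  have hbe : b = e := by
    rcases lt_trichotomy b e with hlt | heq | hgt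
    · exfalso
      have h1 := Nat.pow_le_pow_right (show 0 < 2 by norm_num) hab
      have h2 : 2 ^ (b + 1) ≤ 2 ^ e := Nat.pow_le_pow_right (by norm_num) hlt
      have h3 : 0 < 2 ^ c := Nat.two_pow_pos c
      rw [pow_succ] at h2
      omega
    · exact heq
    · exfalso
      have h1 := Nat.pow_le_pow_right (show 0 < 2 by norm_num) hce
      have h2 : 2 ^ (e + 1) ≤ 2 ^ b := Nat.pow_le_pow_right (by norm_num) hgt
      have h3 : 0 < 2 ^ a := Nat.two_pow_pos a
      rw [pow_succ] at h2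
      omega
  subst hbe
  exact ⟨Nat.pow_right_injective le_rfl (Nat.add_right_cancel h), rfl⟩

theorem pow_two_sum_eq' {a b c e : ℕ} (h : 2 ^ a + 2 ^ b = 2 ^ c + 2 ^ e) :
    a = c ∧ b = e ∨ a = e ∧ b = c := by
  rcases le_total a b with hab | hab <;> rcases le_total c e with hce | hce
  · exact Or.inl (pow_two_sum_eq hab hce h)
  · exact Or.inr (pow_two_sum_eq hab hce (by omega))
  · have := pow_two_sum_eq hab hce (by omega); exact Or.inr ⟨this.2, this.1⟩
  · have := pow_two_sum_eq hab hce (by omega); exact Or.inl ⟨this.2, this.1⟩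

theorem two_pow_mod {n d N : ℕ} (hN : N * d = 2 ^ n - 1) (a : ℕ) : 2 ^ a ≡ 2 ^ (a % n) [MOD N] := by
  have h1 : 2 ^ n ≡ 1 [MOD N] := by
    refine ((Nat.modEq_iff_dvd' Nat.one_le_two_pow).2 ⟨d, ?_⟩).symm
    rw [hN]
  calc 2 ^ a = (2 ^ n) ^ (a / n) * 2 ^ (a % n) := by rw [← pow_mul, ← pow_add, Nat.div_add_mod]
    _ ≡ 1 ^ (a / n) * 2 ^ (a % n) [MOD N] := (h1.pow _).mul_right _
    _ = 2 ^ (a % n) := by rw [one_pow, one_mul]

/-- The index is small compared with a quarter of the degree, except for `n = 6`. -/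
theorem index_small {n d : ℕ} (hn : 0 < n) (hdn : d ∣ n) (hd : d ∣ 2 ^ n - 1) (h6 : n ≠ 6) :
    d = 1 ∨ d < 2 ^ ((n + 3) / 4 - 1) := by
  have hdle : d ≤ n := Nat.le_of_dvd hn hdn
  by_cases h22 : n < 22
  · have key : ∀ m : Fin 22, ∀ e : Fin 22, (0 < (m : ℕ) ∧ (e : ℕ) ∣ m ∧ (e : ℕ) ∣ 2 ^ (m : ℕ) - 1) →
        (e : ℕ) = 1 ∨ (m : ℕ) = 6 ∨ (e : ℕ) < 2 ^ (((m : ℕ) + 3) / 4 - 1) := by decide +kernel
    rcases key ⟨n, h22⟩ ⟨d, by omega⟩ ⟨hn, hdn, hd⟩ with h | h | h
    · exact Or.inl h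
    · exact absurd h h6
    · exact Or.inr h
  · right
    refine lt_of_le_of_lt hdle ?_
    have key : ∀ k, 4 * (k + 5) + 4 < 2 ^ (k + 5) := by
      intro k
      induction k with
      | zero => norm_num
      | succ k ih => rw [show k + 1 + 5 = k + 5 + 1 by omega, pow_succ]; omega
    obtain ⟨k, hk⟩ := Nat.exists_eq_add_of_le' (show 5 ≤ (n + 3) / 4 - 1 by omega)
    have := key k
    rw [hk]
    omega

/-- Two sums of two powers of two agree modulo `(2 ^ n - 1) / d` only trivially. -/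
theorem pair_sum {n d N a b c e : ℕ} (hn : 0 < n) (hdn : d ∣ n) (hN : N * d = 2 ^ n - 1) (h6 : n ≠ 6 ∨ d = 1)
    (h : 2 ^ a + 2 ^ b ≡ 2 ^ c + 2 ^ e [MOD N]) :
    a % n = c % n ∧ b % n = e % n ∨ a % n = e % n ∧ b % n = c % n := by
  classical
  set q := (n + 3) / 4 with hq
  -- a rotation avoiding the top window
  let bad : ℕ → Finset ℕ := fun x => (Finset.range n).filter fun r => n - q < (x + r) % n
  have hbad : ∀ x, (bad x).card ≤ q - 1 := by
    intro x
    have hinj : Set.InjOn (fun r => (x + r) % n) (bad x) := by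
      intro r hr r' hr' he
      have h1 : r < n := Finset.mem_range.1 (Finset.mem_filter.1 hr).1
      have h2 : r' < n := Finset.mem_range.1 (Finset.mem_filter.1 hr').1
      have h3 : r ≡ r' [MOD n] := Nat.ModEq.add_left_cancel' x he
      exact h3.eq_of_lt_of_lt h1 h2
    calc (bad x).card ≤ (Finset.Ioo (n - q) n).card := Finset.card_le_card_of_injOn _ (fun r hr =>
          Finset.mem_coe.2 (Finset.mem_Ioo.2 ⟨(Finset.mem_filter.1 hr).2, Nat.mod_lt _ hn⟩)) hinj
      _ ≤ q - 1 := by rw [Nat.card_Ioo]; omega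
  obtain ⟨r, hr, hra, hrb, hrc, hre⟩ : ∃ r < n, (a + r) % n ≤ n - q ∧ (b + r) % n ≤ n - q ∧
      (c + r) % n ≤ n - q ∧ (e + r) % n ≤ n - q := by
    by_contra hcon
    push Not at hcon
    have hsub : Finset.range n ⊆ bad a ∪ bad b ∪ bad c ∪ bad e := by
      intro r hr
      simp only [Finset.mem_union, bad, Finset.mem_filter]
      have hrn := Finset.mem_range.1 hr
      by_contra hno
      simp only [not_or, not_and, not_lt] at hno
      exact absurd (hno.2 hr) (not_le.2 (hcon r hrn (hno.1.1.1 hr) (hno.1.1.2 hr) (hno.1.2 hr)))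
    have h1 := Finset.card_le_card hsub
    rw [Finset.card_range] at h1
    have h2 := Finset.card_union_le (bad a ∪ bad b ∪ bad c) (bad e)
    have h3 := Finset.card_union_le (bad a ∪ bad b) (bad c)
    have h4 := Finset.card_union_le (bad a) (bad b)
    have := hbad a; have := hbad b; have := hbad c; have := hbad e
    omega
  have hshift : 2 ^ ((a + r) % n) + 2 ^ ((b + r) % n) ≡ 2 ^ ((c + r) % n) + 2 ^ ((e + r) % n) [MOD N] := by
    have h1 := h.mul_right (2 ^ r)
    rw [add_mul, add_mul, ← pow_add, ← pow_add, ← pow_add, ← pow_add] at h1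
    exact (((two_pow_mod hN _).symm.add (two_pow_mod hN _).symm).trans h1).trans
      ((two_pow_mod hN _).add (two_pow_mod hN _))
  have hN0 : N ≠ 0 := by
    rintro rfl
    have : 2 ^ 1 ≤ 2 ^ n := Nat.pow_le_pow_right (by norm_num) hn
    omega
  -- the two sides are too small to differ by a multiple of the modulus
  have hsmall : 2 * 2 ^ (n - q) < N + 2 := by
    by_cases hd1 : d = 1
    · subst hd1
      have h1 : 2 ^ (n - q + 1) ≤ 2 ^ n := Nat.pow_le_pow_right (by norm_num) (by omega)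
      rw [pow_succ] at h1
      omega
    · have hd : d < 2 ^ (q - 1) :=
        ((index_small hn hdn ⟨N, by rw [← hN, mul_comm]⟩ (h6.resolve_right hd1)).resolve_left hd1)
      by_contra hge
      push Not at hge
      have h1 : (N + 2) * d ≤ 2 * 2 ^ (n - q) * d := Nat.mul_le_mul_right d hge
      have h2 : 2 * 2 ^ (n - q) * d < 2 * 2 ^ (n - q) * 2 ^ (q - 1) :=
        Nat.mul_lt_mul_of_pos_left hd (by positivity)
      rw [← pow_succ', ← pow_add, show n - q + 1 + (q - 1) = n by omega, pow_succ'] at h2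
      rw [add_mul, hN] at h1
      have hd2 : 2 ≤ d := by
        have : d ≠ 0 := by rintro rfl; exact hn.ne' (zero_dvd_iff.1 hdn)
        omega
      omega
  have heq : 2 ^ ((a + r) % n) + 2 ^ ((b + r) % n) = 2 ^ ((c + r) % n) + 2 ^ ((e + r) % n) := by
    have ha := Nat.pow_le_pow_right (show 0 < 2 by norm_num) hra
    have hb := Nat.pow_le_pow_right (show 0 < 2 by norm_num) hrb
    have hc := Nat.pow_le_pow_right (show 0 < 2 by norm_num) hrc
    have he := Nat.pow_le_pow_right (show 0 < 2 by norm_num) hre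
    have := Nat.two_pow_pos ((a + r) % n)
    have := Nat.two_pow_pos ((b + r) % n)
    have := Nat.two_pow_pos ((c + r) % n)
    have := Nat.two_pow_pos ((e + r) % n)
    rcases le_total (2 ^ ((a + r) % n) + 2 ^ ((b + r) % n)) (2 ^ ((c + r) % n) + 2 ^ ((e + r) % n)) with h1 | h1
    · have h2 := (Nat.modEq_iff_dvd' h1).1 hshift
      have h3 := Nat.eq_zero_of_dvd_of_lt h2 (by omega)
      omega
    · have h2 := (Nat.modEq_iff_dvd' h1).1 hshift.symm
      have h3 := Nat.eq_zero_of_dvd_of_lt h2 (by omega)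
      omega
  have hcan : ∀ x y, (x + r) % n = (y + r) % n → x % n = y % n := fun x y hxy =>
    Nat.ModEq.add_right_cancel' r hxy
  rcases pow_two_sum_eq' heq with ⟨h1, h2⟩ | ⟨h1, h2⟩
  · exact Or.inl ⟨hcan _ _ h1, hcan _ _ h2⟩
  · exact Or.inr ⟨hcan _ _ h1, hcan _ _ h2⟩

end Cfsg.Agent.Char.SolvTrans
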