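import Mathlib
import Cfsg.Agent.Lib.Char.SolvTransArith
import Cfsg.Agent.Lib.Lie.FieldAutBasis

/-!
A subgroup of the multiplicative group of a finite field of characteristic two whose index divides the
degree still controls field automorphisms: it spans the field, meets every subfield, and separates products
of two automorphisms.
-/

set_option autoImplicit false

namespace Cfsg.Agent.Char.SolvTrans

variable {F : Type*} [Field F] [Fintype F] [CharP F 2]

theorem exists_exp {n : ℕ} (hc : Fintype.card F = 2 ^ n) (σ : F ≃+* F) :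
    ∃ i < n, ∀ x, σ x = x ^ 2 ^ i := by
  classical
  haveI : Fact (Nat.Prime 2) := ⟨Nat.prime_two⟩
  letI := ZMod.algebra F 2
  have hfr : Module.finrank (ZMod 2) F = n := by
    have h := Module.card_eq_pow_finrank (K := ZMod 2) (V := F)
    rw [ZMod.card, hc] at h
    exact (Nat.pow_right_injective le_rfl h).symm
  let σ' : F ≃ₐ[ZMod 2] F := AlgEquiv.ofRingEquiv (f := σ) fun r => by
    have := RingHom.congr_fun (RingHom.ext_zmod ((σ : F →+* F).comp (algebraMap (ZMod 2) F))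
      (algebraMap (ZMod 2) F)) r
    simpa using this
  obtain ⟨⟨i, hi⟩, he⟩ := (FiniteField.bijective_frobeniusAlgEquivOfAlgebraic_pow (ZMod 2) F).2 σ'
  refine ⟨i, hfr ▸ hi, fun x => ?_⟩
  have h1 : σ' x = σ x := rfl
  rw [← h1, ← he, AlgEquiv.coe_pow, FiniteField.coe_frobeniusAlgEquivOfAlgebraic, pow_iterate, ZMod.card]

variable {n : ℕ} {C : Subgroup Fˣ}

theorem card_mul_index_eq (hc : Fintype.card F = 2 ^ n) : Nat.card C * C.index = 2 ^ n - 1 := by
  rw [Subgroup.card_mul_index, Nat.card_units, Nat.card_eq_fintype_card, hc]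

theorem degree_pos (hc : Fintype.card F = 2 ^ n) : 0 < n := by
  rcases Nat.eq_zero_or_pos n with rfl | h
  · have := Fintype.one_lt_card (α := F); rw [hc] at this; omega
  · exact h

theorem auto_mem (hc : Fintype.card F = 2 ^ n) (σ : F ≃+* F) {a : Fˣ} (ha : a ∈ C) :
    Units.map (σ : F →* F) a ∈ C := by
  obtain ⟨i, -, hi⟩ := exists_exp hc σ
  have : Units.map (σ : F →* F) a = a ^ 2 ^ i := Units.ext (by simpa using hi a)
  rw [this]; exact C.pow_mem ha _

theorem twist_surjOn (hc : Fintype.card F = 2 ^ n) (σ : F ≃+* F)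
    (hσ : ∀ x, σ x = x → x = 0 ∨ x = 1) {a : Fˣ} (ha : a ∈ C) :
    ∃ l ∈ C, (a : F) = (l : F) / σ (l : F) := by
  classical
  let f : C → C := fun l => ⟨l.1 * (Units.map (σ : F →* F) l.1)⁻¹, C.mul_mem l.2 (C.inv_mem (auto_mem hc σ l.2))⟩
  have hinj : Function.Injective f := fun x y hxy => by
    have h2 := congrArg (fun z : C => ((z : Fˣ) : F)) hxy
    simp only [f, Units.val_mul, Units.val_inv_eq_inv_val, Units.coe_map, MonoidHom.coe_coe] at h2
    have h1 : σ ((x.1 : F) / (y.1 : F)) = (x.1 : F) / (y.1 : F) := by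
      have hx : σ (x.1 : F) ≠ 0 := by simp
      have hy : σ (y.1 : F) ≠ 0 := by simp
      rw [map_div₀, div_eq_div_iff hy y.1.ne_zero]
      field_simp at h2
      linear_combination h2.symm
    rcases hσ _ h1 with h | h
    · simp at h
    · exact Subtype.ext (Units.ext ((div_eq_one_iff_eq y.1.ne_zero).1 h))
  obtain ⟨l, hl⟩ := Finite.injective_iff_surjective.1 hinj ⟨a, ha⟩
  refine ⟨l.1, l.2, ?_⟩
  have h2 := congrArg (fun z : C => ((z : Fˣ) : F)) hl
  simpa [f, div_eq_mul_inv] using h2.symm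

theorem half_bound : ∀ m : ℕ, 2 * m ≤ 2 ^ m ∧ 2 * m + 1 < 2 ^ m + 2
  | 0 => by norm_num
  | 1 => by norm_num
  | m + 2 => by
    have := half_bound (m + 1)
    rw [pow_succ] at *
    omega

/-- A non-zero additive subgroup closed under multiplication by `C` is everything. -/
theorem eq_top_of_smul (hc : Fintype.card F = 2 ^ n) (hd : C.index ∣ n) (M : AddSubgroup F)
    {v : F} (hv : v ≠ 0) (hvM : v ∈ M) (hmul : ∀ a ∈ C, ∀ x ∈ M, (a : F) * x ∈ M) : M = ⊤ := by
  classical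
  -- the additive span of `C` is a subfield, too large to be proper
  let R : AddSubgroup F :=
    { carrier := {r | ∀ x ∈ M, r * x ∈ M}
      zero_mem' := fun x _ => by rw [zero_mul]; exact M.zero_mem
      add_mem' := fun {r s} hr hs x hx => by rw [add_mul]; exact M.add_mem (hr x hx) (hs x hx)
      neg_mem' := fun {r} hr x hx => by rw [neg_mul]; exact M.neg_mem (hr x hx) }
  have hRC : ∀ a ∈ C, (a : F) ∈ R := hmul
  have hRv : ∀ r ∈ R, r * v ∈ M := fun r hr => hr v hvM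
  have hRtop : R = ⊤ := by
    have hsub : {x : F | ∃ a ∈ C, (a : F) = x} ∪ {0} ⊆ (R : Set F) := by
      rintro x (⟨a, ha, rfl⟩ | rfl)
      · exact hRC a ha
      · exact R.zero_mem
    refine AddSubgroup.eq_top_of_le_card R ?_
    -- the index of a proper subgroup of the additive group is a power of two
    have hn := degree_pos hc
    let S : Subring F := { R with
      one_mem' := fun x hx => by rwa [one_mul]
      mul_mem' := fun {r s} hr hs x hx => by rw [mul_assoc]; exact hr _ (hs x hx) }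
    have hSR : Nat.card S = Nat.card R := rfl
    letI : Field S := (Finite.isField_of_domain S).toField
    obtain ⟨m, hm0, hm⟩ : ∃ m, 0 < m ∧ Nat.card S = 2 ^ m := by
      haveI : Fact (Nat.Prime 2) := ⟨Nat.prime_two⟩
      letI : Fintype S := Fintype.ofFinite _
      obtain ⟨m, -, hm⟩ := FiniteField.card S 2
      exact ⟨m, m.pos, by rw [Nat.card_eq_fintype_card, hm]⟩
    -- `S` is a subfield, so its degree divides `n`
    have hdvd : m ∣ n := by
      letI : Fintype S := Fintype.ofFinite _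
      haveI : Module.Finite S F := Module.Finite.of_finite
      have h := Module.card_eq_pow_finrank (K := S) (V := F)
      rw [← Nat.card_eq_fintype_card (α := S), hm, hc, ← pow_mul] at h
      exact ⟨_, Nat.pow_right_injective le_rfl h⟩
    have hcardC : Nat.card C + 1 ≤ Nat.card S := by
      rw [hSR]
      let f : Option C → R := fun o => o.elim ⟨0, R.zero_mem⟩ fun a => ⟨((a : Fˣ) : F), hRC a a.2⟩
      have hf : Function.Injective f := by
        rintro (_ | a) (_ | b) h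
        · rfl
        · exact absurd (congrArg Subtype.val h).symm (b : Fˣ).ne_zero
        · exact absurd (congrArg Subtype.val h) (a : Fˣ).ne_zero
        · exact congrArg some (Subtype.ext (Units.ext (congrArg Subtype.val h)))
      have := Nat.card_le_card_of_injective f hf
      rwa [Finite.card_option] at this
    rw [← hSR, hm, Nat.card_eq_fintype_card, hc]
    refine Nat.pow_le_pow_right (by norm_num) ?_
    by_contra hlt
    push Not at hlt
    obtain ⟨k, hk⟩ := hdvd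
    have hk2 : 2 ≤ k := by
      rcases k with _ | _ | k
      · omega
      · omega
      · omega
    have h2m : 2 * m ≤ n := by rw [hk, mul_comm 2 m]; exact Nat.mul_le_mul_left m hk2
    have h1 := card_mul_index_eq (C := C) hc
    have hidx : C.index ≤ n := Nat.le_of_dvd hn hd
    have hN : 2 ^ n - 1 ≤ (2 ^ m - 1) * n := by
      rw [← h1]; exact Nat.mul_le_mul (by omega) hidx
    -- `(2 ^ m - 1) * n` is too small
    obtain ⟨j, hj⟩ := Nat.exists_eq_add_of_le h2m
    have h3 := half_bound m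
    have h4 : j + 1 ≤ 2 ^ j := Nat.lt_two_pow_self
    have h6 : 2 ^ n = 2 ^ m * 2 ^ m * 2 ^ j := by rw [hj, ← pow_add, ← pow_add]; congr 1; omega
    have h7 : 2 ≤ 2 ^ m := by
      calc 2 = 2 ^ 1 := rfl
        _ ≤ 2 ^ m := Nat.pow_le_pow_right (by norm_num) hm0
    obtain ⟨t, ht⟩ := Nat.exists_eq_add_of_le h7
    rw [show 2 ^ m - 1 = t + 1 by omega, h6, hj, ht] at hN
    rw [ht] at h3
    have h8 : (2 + t) * (2 + t) * 2 ^ j ≤ (t + 1) * (2 * m + j) + 1 := by omega
    have h9 : (t + 1) * (2 * m + j + 1) ≤ (t + 1) * (2 + t + 2 ^ j) := Nat.mul_le_mul_left _ (by omega)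
    have h10 : (t + 1) * (t + 1) + 1 ≤ (t + 1) * (t + 1) * 2 ^ j + 2 ^ j := by
      have := Nat.le_mul_of_pos_right ((t + 1) * (t + 1)) (Nat.two_pow_pos j)
      have := Nat.two_pow_pos j
      omega
    nlinarith [h8, h9, h10, Nat.two_pow_pos j]
  refine eq_top_iff.2 fun x _ => ?_
  have := hRv (x / v) (hRtop ▸ AddSubgroup.mem_top _)
  rwa [div_mul_cancel₀ _ hv] at this

/-- A fixed field of an automorphism meets `C` non-trivially. -/
theorem exists_fixed (hc : Fintype.card F = 2 ^ n) (hd : C.index ∣ n) (σ : F ≃+* F) {x : F}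
    (hx0 : x ≠ 0) (hx1 : x ≠ 1) (hx : σ x = x) : ∃ a ∈ C, a ≠ 1 ∧ σ (a : F) = a := by
  classical
  set X := Units.mk0 x hx0
  have hX1 : orderOf X ≠ 1 := fun h => hx1 (congrArg Units.val (orderOf_eq_one_iff.1 h))
  obtain ⟨p, hp, k, hk⟩ := Nat.exists_prime_and_dvd hX1
  haveI : Fact p.Prime := ⟨hp⟩
  have hk0 : k ≠ 0 := by
    rintro rfl
    exact (orderOf_pos X).ne' (by rw [hk, mul_zero])
  set Y := X ^ k
  have hY : orderOf Y = p := by
    rw [orderOf_pow_of_dvd hk0 ⟨p, by rw [hk, mul_comm]⟩, hk, Nat.mul_div_cancel _ (Nat.pos_of_ne_zero hk0)]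
  have hσY : σ (Y : F) = Y := by
    show σ ((X : F) ^ k) = (X : F) ^ k
    rw [map_pow]
    exact congrArg (· ^ k) hx
  have hn := degree_pos hc
  have hmul := card_mul_index_eq (C := C) hc
  -- `p` divides the order of `C`
  have hpN : p ∣ Nat.card C := by
    have hp' : p ∣ 2 ^ n - 1 := by
      have := orderOf_dvd_natCard Y
      rwa [hY, Nat.card_units, Nat.card_eq_fintype_card, hc] at this
    by_contra hno
    obtain ⟨a, m, hpm, ham⟩ := Nat.exists_eq_pow_mul_and_not_dvd hn.ne' p hp.ne_one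
    have h2 : ((2 : ℤ) ^ m) ^ (p ^ a) - 1 ^ (p ^ a) = ((2 ^ n - 1 : ℕ) : ℤ) := by
      rw [one_pow, ← pow_mul, mul_comm m, ← ham, Nat.cast_sub Nat.one_le_two_pow]
      push_cast
      rfl
    have hbase : (p : ℤ) ∣ 2 ^ m - 1 := by
      have h3 : ((2 : ZMod p) ^ m) ^ (p ^ a) = 1 := by
        have : ((2 ^ n - 1 : ℕ) : ZMod p) = 0 := (ZMod.natCast_eq_zero_iff _ _).2 hp'
        rw [Nat.cast_sub Nat.one_le_two_pow, sub_eq_zero] at this
        push_cast at this
        rw [← pow_mul, mul_comm m, ← ham, this]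
      rw [ZMod.pow_card_pow] at h3
      have := (ZMod.intCast_zmod_eq_zero_iff_dvd ((2 : ℤ) ^ m - 1) p).1 (by push_cast; rw [h3, sub_self])
      exact this
    have hpa : (p : ℤ) ^ (a + 1) ∣ ((2 ^ n - 1 : ℕ) : ℤ) := h2 ▸ dvd_sub_pow_of_dvd_sub hbase a
    have hpa' : p ^ (a + 1) ∣ Nat.card C * C.index := by rw [hmul]; exact_mod_cast hpa
    have h4 : p ^ (a + 1) ∣ n :=
      ((Nat.Coprime.pow_left _ (hp.coprime_iff_not_dvd.2 hno)).dvd_of_dvd_mul_left hpa').trans hd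
    rw [ham, pow_succ] at h4
    exact hpm (Nat.dvd_of_mul_dvd_mul_left (pow_pos hp.pos a) h4)
  obtain ⟨c, hc'⟩ := exists_prime_orderOf_dvd_card' p hpN
  refine ⟨c, c.2, fun h => ?_, ?_⟩
  · rw [← Subgroup.orderOf_coe, h, orderOf_one] at hc'
    exact hp.ne_one hc'.symm
  · have hprim : IsPrimitiveRoot (Y : F) p := by
      rw [← hY, ← orderOf_units]; exact IsPrimitiveRoot.orderOf _
    obtain ⟨i, -, hi⟩ := hprim.eq_pow_of_pow_eq_one (ξ := ((c : Fˣ) : F)) (by
      rw [← Units.val_pow_eq_pow_val, ← hc', ← Subgroup.orderOf_coe, pow_orderOf_eq_one, Units.val_one])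
    rw [← hi, map_pow, hσY]

theorem modEq_of_pow (hc : Fintype.card F = 2 ^ n) {i j k l : ℕ}
    (h : ∀ a ∈ C, (a : F) ^ 2 ^ i * (a : F) ^ 2 ^ j = (a : F) ^ 2 ^ k * (a : F) ^ 2 ^ l) :
    2 ^ i + 2 ^ j ≡ 2 ^ k + 2 ^ l [MOD Nat.card C] := by
  obtain ⟨g, hg⟩ := IsCyclic.exists_ofOrder_eq_natCard (α := C)
  have h1 : g ^ (2 ^ i + 2 ^ j) = g ^ (2 ^ k + 2 ^ l) := by
    refine Subtype.ext (Units.ext ?_)
    simp only [SubgroupClass.coe_pow, Units.val_pow_eq_pow_val, pow_add]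
    exact h g.1 g.2
  rw [← hg]
  exact pow_eq_pow_iff_modEq.1 h1

theorem six_case (hc : Fintype.card F = 2 ^ n) (hd : C.index ∣ n) (h6 : ¬ (n ≠ 6 ∨ C.index = 1)) :
    n = 6 ∧ Nat.card C = 21 := by
  push Not at h6
  obtain ⟨h6, h1⟩ := h6
  subst h6
  have h := card_mul_index_eq (C := C) hc
  have key : ∀ d : Fin 7, (d : ℕ) ∣ 6 → (d : ℕ) ∣ 63 → (d : ℕ) = 1 ∨ (d : ℕ) = 3 := by decide
  have hle : C.index ≤ 6 := Nat.le_of_dvd (by norm_num) hd
  rcases key ⟨C.index, by omega⟩ hd ⟨Nat.card C, by rw [mul_comm]; exact h.symm⟩ with h' | h'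
  · exact absurd h' h1
  · simp only at h'
    rw [h'] at h
    exact ⟨rfl, by omega⟩

/-- Two automorphisms whose product is the identity map on `C` coincide. -/
theorem eq_of_prod_eq_self (hc : Fintype.card F = 2 ^ n) (hd : C.index ∣ n) (σ τ : F ≃+* F)
    (h : ∀ a ∈ C, σ (a : F) * τ (a : F) = (a : F)) : σ = τ := by
  obtain ⟨i, hi, hσ⟩ := exists_exp hc σ
  obtain ⟨j, hj, hτ⟩ := exists_exp hc τ
  have hn := degree_pos hc
  have hN := card_mul_index_eq (C := C) hc
  have h1 : 2 ^ i + 2 ^ j ≡ 2 ^ (n - 1) + 2 ^ (n - 1) [MOD Nat.card C] := by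
    refine modEq_of_pow hc fun a ha => ?_
    rw [← hσ, ← hτ, h a ha, ← pow_add, ← two_mul, ← pow_succ', Nat.sub_add_cancel hn, ← hc,
      FiniteField.pow_card]
  have hij : i = j := by
    by_cases h6 : n ≠ 6 ∨ C.index = 1
    · rcases pair_sum hn hd hN h6 h1 with ⟨e1, e2⟩ | ⟨e1, e2⟩ <;>
        rw [Nat.mod_eq_of_lt hi] at e1 <;> rw [Nat.mod_eq_of_lt hj] at e2 <;> omega
    · obtain ⟨rfl, h21⟩ := six_case hc hd h6
      rw [h21] at h1
      have key : ∀ i j : Fin 6, (2 ^ (i : ℕ) + 2 ^ (j : ℕ)) % 21 = 64 % 21 → i = j := by decide +kernel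
      exact Fin.val_eq_of_eq (key ⟨i, hi⟩ ⟨j, hj⟩ h1)
  exact RingEquiv.ext fun x => by rw [hσ, hτ, hij]

/-- If the twists `x / σ x` and `x / τ x` differ by an automorphism on `C`, then `σ = τ`. -/
theorem twist_unique_on (hc : Fintype.card F = 2 ^ n) (hd : C.index ∣ n) (σ τ φ : F ≃+* F)
    (hσ : ∀ x, σ x = x → x = 0 ∨ x = 1) (hτ : ∀ x, τ x = x → x = 0 ∨ x = 1)
    (h : ∀ a ∈ C, φ (a : F) * τ (a : F) = (a : F) * φ (σ (a : F))) (hn2 : 2 ≤ n) : τ = σ := by
  obtain ⟨i, hi, hσ'⟩ := exists_exp hc σ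
  obtain ⟨j, hj, hτ'⟩ := exists_exp hc τ
  obtain ⟨k, hk, hφ'⟩ := exists_exp hc φ
  have hn := degree_pos hc
  have hN := card_mul_index_eq (C := C) hc
  -- a fixed-point-free automorphism has exponent prime to the degree
  have hfree : ∀ (ρ : F ≃+* F) (e : ℕ), (∀ x, ρ x = x → x = 0 ∨ x = 1) → (∀ x, ρ x = x ^ 2 ^ e) →
      (∀ p, p.Prime → p ∣ 2 ^ n - 1 → ¬ 2 ^ e % p = 1) ∧ e ≠ 0 := by
    intro ρ e hρ he
    have hkey : ∀ p, p.Prime → p ∣ 2 ^ n - 1 → ¬ 2 ^ e % p = 1 := by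
      intro p hp hpn hmod
      haveI : Fact p.Prime := ⟨hp⟩
      obtain ⟨Y, hY⟩ := exists_prime_orderOf_dvd_card' p (G := Fˣ)
        (by rw [Nat.card_units, Nat.card_eq_fintype_card, hc]; exact hpn)
      have h1 : Y ^ 2 ^ e = Y := by rw [← pow_mod_orderOf, hY, hmod, pow_one]
      rcases hρ (Y : F) (by rw [he, ← Units.val_pow_eq_pow_val, h1]) with h0 | h0
      · exact Y.ne_zero h0
      · rw [Units.val_eq_one] at h0
        rw [h0, orderOf_one] at hY
        exact hp.ne_one hY.symm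
    refine ⟨hkey, fun h0 => ?_⟩
    have h4 : 2 ^ 2 ≤ 2 ^ n := Nat.pow_le_pow_right (by norm_num) hn2
    obtain ⟨p, hp, hpn⟩ := Nat.exists_prime_and_dvd (show 2 ^ n - 1 ≠ 1 by omega)
    exact hkey p hp hpn (by rw [h0, pow_zero, Nat.mod_eq_of_lt hp.one_lt])
  obtain ⟨hσf, hσ0⟩ := hfree σ i hσ hσ'
  obtain ⟨hτf, hτ0⟩ := hfree τ j hτ hτ'
  have h1 : 2 ^ k + 2 ^ j ≡ 2 ^ 0 + 2 ^ (i + k) [MOD Nat.card C] := by
    refine modEq_of_pow hc fun a ha => ?_
    rw [← hφ', ← hτ', h a ha, hφ', hσ', ← pow_mul, ← pow_add, pow_zero, pow_one]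
  have hij : j = i := by
    by_cases h6 : n ≠ 6 ∨ C.index = 1
    · rcases pair_sum hn hd hN h6 h1 with ⟨e1, e2⟩ | ⟨e1, e2⟩
      · rw [Nat.zero_mod, Nat.mod_eq_of_lt hk] at e1
        subst e1
        rwa [Nat.add_zero, Nat.mod_eq_of_lt hj, Nat.mod_eq_of_lt hi] at e2
      · rw [Nat.zero_mod, Nat.mod_eq_of_lt hj] at e2
        exact absurd e2 hτ0
    · obtain ⟨rfl, h21⟩ := six_case hc hd h6
      rw [h21] at h1
      have key : ∀ k i j : Fin 6, (2 ^ (k : ℕ) + 2 ^ (j : ℕ)) % 21 = (2 ^ 0 + 2 ^ ((i : ℕ) + k)) % 21 →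
          (¬ 2 ^ (i : ℕ) % 3 = 1 ∧ ¬ 2 ^ (i : ℕ) % 7 = 1) → (¬ 2 ^ (j : ℕ) % 3 = 1 ∧ ¬ 2 ^ (j : ℕ) % 7 = 1) →
          j = i := by decide +kernel
      exact Fin.val_eq_of_eq (key ⟨k, hk⟩ ⟨i, hi⟩ ⟨j, hj⟩ h1
        ⟨hσf 3 Nat.prime_three (by norm_num), hσf 7 (by norm_num) (by norm_num)⟩
        ⟨hτf 3 Nat.prime_three (by norm_num), hτf 7 (by norm_num) (by norm_num)⟩)
  exact RingEquiv.ext fun x => by rw [hσ', hτ', hij]

end Cfsg.Agent.Char.SolvTrans
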