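import Mathlib
import Cfsg.Agent.Lib.Fus.SuzukiTwo
import Cfsg.Agent.Lib.Char.SolvTransField

/-!
The standing hypotheses of Higman's theorem for a cyclic group of automorphisms inducing, on the
involutions, a subgroup of the scalars of index dividing the degree; roots in invariant abelian
subgroups and vanishing of equivariant pairings.
-/

set_option autoImplicit false
set_option linter.style.haveILetI false

namespace Cfsg.Agent.Char.SolvTrans

open Cfsg.Agent.Invol.TypeA (cm cm_eq_one_iff cm_mul_left cm_mul_right map_cm HomAb ExpEq top_power_sq)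
open Cfsg.Agent.Fus.Suzuki (Inv inv_apply_iff)

variable {P : Type*} [Group P]

/-- All involutions are central; a group of automorphisms of odd order induces on them scalars forming a
subgroup whose index divides the degree. -/
structure Setting (P : Type*) [Group P] (K : Subgroup (MulAut P)) (n : ℕ) (F : Type*) [Field F]
    [Fintype F] (ω : P → F) (u : K →* Fˣ) : Prop where
  fin : Finite P
  pgroup : IsPGroup 2 P
  central : ∀ t : P, t * t = 1 → t ∈ Subgroup.center P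
  card_F : Fintype.card F = 2 ^ n
  two_le : 2 ≤ n
  index : u.range.index ∣ n
  odd : Odd (Nat.card K)
  add : ∀ x y : P, x * x = 1 → y * y = 1 → ω (x * y) = ω x + ω y
  equiv : ∀ (k : K) (x : P), x * x = 1 → ω ((k : MulAut P) x) = (u k : F) * ω x
  inj : ∀ x y : P, x * x = 1 → y * y = 1 → ω x = ω y → x = y
  surj : ∀ v : F, ∃ x : P, x * x = 1 ∧ ω x = v

variable {K : Subgroup (MulAut P)} {n : ℕ} {F : Type*} [Field F] [Fintype F] [CharP F 2] {ω : P → F}
  {u : K →* Fˣ}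

omit [CharP F 2] in
theorem Setting.omega_one (S : Setting P K n F ω u) : ω (1 : P) = 0 := by
  have h := S.add 1 1 (one_mul 1) (one_mul 1)
  rw [one_mul] at h
  linear_combination -h

omit [CharP F 2] in
theorem Setting.omega_eq_zero (S : Setting P K n F ω u) {x : P} (hx : x * x = 1) : ω x = 0 ↔ x = 1 :=
  ⟨fun h => S.inj x 1 hx (one_mul 1) (h.trans S.omega_one.symm), fun h => h ▸ S.omega_one⟩

/-- Some element induces a non-trivial scalar. -/
theorem exists_moving (S : Setting P K n F ω u) : ∃ k : K, u k ≠ 1 := by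
  by_contra h
  push Not at h
  have hbot : u.range = ⊥ := (Subgroup.eq_bot_iff_forall _).2 (by rintro _ ⟨k, rfl⟩; exact h k)
  have h2 := card_mul_index_eq (C := u.range) S.card_F
  have h3 := Nat.le_of_dvd (by have := S.two_le; omega) S.index
  rw [hbot, Subgroup.card_bot, one_mul] at h2
  rw [hbot, h2] at h3
  have h4 : ∀ j, j + 2 + 1 < 2 ^ (j + 2) := by
    intro j
    induction j with
    | zero => norm_num
    | succ j ih => rw [show j + 1 + 2 = j + 2 + 1 by omega, pow_succ]; omega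
  obtain ⟨j, rfl⟩ := Nat.exists_eq_add_of_le' S.two_le
  have := h4 j
  omega

/-- An equivariant coordinate on an invariant subgroup is onto unless it vanishes. -/
theorem surj_of_equiv (S : Setting P K n F ω u) (W : Subgroup P)
    (hW : ∀ (k : K), ∀ x ∈ W, (k : MulAut P) x ∈ W) (π : P → F)
    (ha : ∀ x ∈ W, ∀ y ∈ W, π (x * y) = π x + π y)
    (he : ∀ (k : K), ∀ x ∈ W, π ((k : MulAut P) x) = (u k : F) * π x)
    (hne : ∃ x ∈ W, π x ≠ 0) (v : F) : ∃ x ∈ W, π x = v := by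
  obtain ⟨x, hx, hx0⟩ := hne
  have h1 : π 1 = 0 := by
    have h := ha 1 W.one_mem 1 W.one_mem
    rw [one_mul] at h
    linear_combination -h
  let M : AddSubgroup F :=
    { carrier := {v | ∃ x ∈ W, π x = v}
      zero_mem' := ⟨1, W.one_mem, h1⟩
      add_mem' := by
        rintro a b ⟨x, hx, rfl⟩ ⟨y, hy, rfl⟩
        exact ⟨x * y, W.mul_mem hx hy, ha x hx y hy⟩
      neg_mem' := by
        rintro a ⟨x, hx, rfl⟩
        exact ⟨x, hx, by rw [CharTwo.neg_eq]⟩ }
  have hM : M = ⊤ := eq_top_of_smul S.card_F S.index M hx0 ⟨x, hx, rfl⟩ (by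
    rintro a ⟨k, rfl⟩ w ⟨y, hy, rfl⟩
    exact ⟨(k : MulAut P) y, hW k y hy, he k y hy⟩)
  exact (hM ▸ AddSubgroup.mem_top v : v ∈ M)

omit [CharP F 2] in
theorem exists_expEq (S : Setting P K n F ω u) {A : Subgroup P} (hA : HomAb K A) : ∃ f, ExpEq A f := by
  classical
  haveI := S.fin
  have hex : ∃ f, ∀ a ∈ A, a ^ 2 ^ f = 1 := by
    obtain ⟨m, hm⟩ := IsPGroup.iff_card.1 S.pgroup
    exact ⟨m, fun a _ => by rw [← hm]; exact pow_card_eq_one'⟩
  have hsp := Nat.find_spec hex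
  have h0 : Nat.find hex ≠ 0 := by
    intro h
    obtain ⟨x, hx, hxv⟩ := S.surj 1
    have h1 := hsp x (hA.invol x hx)
    rw [h, pow_zero, pow_one] at h1
    rw [h1, S.omega_one] at hxv
    exact zero_ne_one hxv
  refine ⟨Nat.find hex, Nat.one_le_iff_ne_zero.2 h0, hsp, ?_⟩
  have h1 := Nat.find_min hex (m := Nat.find hex - 1) (by omega)
  push Not at h1
  exact h1

theorem exists_root (S : Setting P K n F ω u) {A : Subgroup P} (hA : HomAb K A) {f : ℕ} (hf : ExpEq A f)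
    {j : ℕ} (hj : j < f) {z : P} (hz : z * z = 1) : ∃ a ∈ A, a ^ 2 ^ j = z := by
  obtain ⟨a, ha, hne⟩ := hf.ne
  obtain ⟨b, hb, hbz⟩ := surj_of_equiv S A hA.inv (fun a => ω (a ^ 2 ^ (f - 1)))
    (fun x hx y hy => by
      rw [(show Commute x y from hA.comm x hx y hy).mul_pow,
        S.add _ _ (top_power_sq hf hx) (top_power_sq hf hy)])
    (fun k x hx => by rw [← map_pow, S.equiv k _ (top_power_sq hf hx)])
    ⟨a, ha, fun h => hne ((S.omega_eq_zero (top_power_sq hf ha)).1 h)⟩ (ω z)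
  refine ⟨b ^ 2 ^ (f - 1 - j), A.pow_mem hb _, ?_⟩
  rw [← pow_mul, ← pow_add, show f - 1 - j + j = f - 1 by omega]
  exact S.inj _ _ (top_power_sq hf hb) hz hbz

theorem exists_power_of_le (S : Setting P K n F ω u) {A : Subgroup P} (hA : HomAb K A) {f : ℕ}
    (hf : ExpEq A f) : ∀ m, m ≤ f → ∀ b ∈ A, b ^ 2 ^ m = 1 → ∃ a ∈ A, b = a ^ 2 ^ (f - m)
  | 0, _, b, _, hb => ⟨1, one_mem _, by rw [one_pow]; simpa using hb⟩
  | m + 1, hm, b, hbA, hb => by
    have hz : b ^ 2 ^ m * b ^ 2 ^ m = 1 := by rw [← pow_add, ← two_mul, ← pow_succ']; exact hb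
    obtain ⟨c, hc, hcz⟩ := exists_root S hA hf (j := f - 1) (by omega) hz
    set c' := c ^ 2 ^ (f - (m + 1)) with hc'
    have hc'm : c' ^ 2 ^ m = b ^ 2 ^ m := by
      rw [hc', ← pow_mul, ← pow_add, show f - (m + 1) + m = f - 1 by omega, hcz]
    have hcomm : Commute c'⁻¹ b := (hA.comm _ (A.inv_mem (A.pow_mem hc _)) _ hbA)
    obtain ⟨a, ha, hae⟩ := exists_power_of_le S hA hf m (by omega) (c'⁻¹ * b) (A.mul_mem (A.inv_mem (A.pow_mem hc _)) hbA)
      (by rw [hcomm.mul_pow, inv_pow, hc'm, inv_mul_cancel])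
    refine ⟨c * a ^ 2, A.mul_mem hc (A.pow_mem ha _), ?_⟩
    have hca : Commute c (a ^ 2) := hA.comm _ hc _ (A.pow_mem ha _)
    rw [hca.mul_pow, ← pow_mul, ← pow_succ', show f - (m + 1) + 1 = f - m by omega, ← hae, ← hc',
      mul_inv_cancel_left]

theorem ker_le_of_sub (S : Setting P K n F ω u) {A Z : Subgroup P} (hA : HomAb K A) (hZ : HomAb K Z)
    (hZA : Z ≤ A) {e : ℕ} (he : ExpEq Z e) : ∀ m, m ≤ e → ∀ b ∈ A, b ^ 2 ^ m = 1 → b ∈ Z
  | 0, _, b, _, hb => by simp only [pow_zero, pow_one] at hb; rw [hb]; exact one_mem _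
  | m + 1, hm, b, hbA, hb => by
    have hz : b ^ 2 ^ m * b ^ 2 ^ m = 1 := by rw [← pow_add, ← two_mul, ← pow_succ']; exact hb
    obtain ⟨c, hc, hcz⟩ := exists_root S hZ he (j := m) (by omega) hz
    have hcomm : Commute c⁻¹ b := (hA.comm _ (A.inv_mem (hZA hc)) _ hbA)
    have h1 := ker_le_of_sub S hA hZ hZA he m (by omega) (c⁻¹ * b) (A.mul_mem (A.inv_mem (hZA hc)) hbA)
      (by rw [hcomm.mul_pow, inv_pow, hcz, inv_mul_cancel])
    have h2 := Z.mul_mem hc h1
    rwa [mul_inv_cancel_left] at h2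

/-- An alternating bi-additive map equivariant for a large subgroup of the scalars vanishes. -/
theorem pairing_zero_on (S : Setting P K n F ω u) (β : F → F → F)
    (hl : ∀ x x' y, β (x + x') y = β x y + β x' y) (hr : ∀ x y y', β x (y + y') = β x y + β x y')
    (hd : ∀ x, β x x = 0) (heq : ∀ a ∈ u.range, ∀ x y, β ((a : F) * x) ((a : F) * y) = (a : F) * β x y) :
    ∀ x y, β x y = 0 := by
  classical
  haveI : Fintype (F ≃+* F) := Fintype.ofInjective (fun σ : F ≃+* F => (σ : F → F)) DFunLike.coe_injective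
  obtain ⟨c, hc⟩ := Cfsg.Agent.Lie.AutBasis.biadditive (AddMonoidHom.mk'
    (fun x => AddMonoidHom.mk' (β x) (hr x)) fun x x' => AddMonoidHom.ext fun y => hl x x' y)
  have hβ : ∀ x y, β x y = ∑ σ : F ≃+* F, ∑ τ : F ≃+* F, c σ τ * (σ x * τ y) := fun x y => by
    have := hc x y
    simpa only [finsum_eq_sum_of_fintype, AddMonoidHom.mk'_apply] using this
  have hdiag : ∀ σ τ, c σ τ ≠ 0 → σ = τ := by
    intro σ τ hne
    refine eq_of_prod_eq_self S.card_F S.index σ τ fun a ha => ?_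
    have h0 := Cfsg.Agent.Lie.AutBasis.coeff_zero₂
      (c := fun σ τ => c σ τ * (σ (a : F) * τ (a : F) - (a : F))) (fun x y => by
        simp only [finsum_eq_sum_of_fintype]
        have h1 := heq a ha x y
        rw [hβ, hβ, Finset.mul_sum, ← sub_eq_zero, ← Finset.sum_sub_distrib] at h1
        rw [← h1]
        refine Finset.sum_congr rfl fun σ _ => ?_
        rw [Finset.mul_sum, ← Finset.sum_sub_distrib]
        refine Finset.sum_congr rfl fun τ _ => ?_
        rw [map_mul, map_mul]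
        ring) σ τ
    exact sub_eq_zero.1 ((mul_eq_zero.1 h0).resolve_left hne)
  have huniq : ∀ σ σ', c σ σ ≠ 0 → c σ' σ' ≠ 0 → σ = σ' := by
    intro σ σ' h h'
    -- both square to the identity on a set that separates automorphisms
    have key : ∀ ρ, c ρ ρ ≠ 0 → ∀ a ∈ u.range, ρ (a : F) * ρ (a : F) = (a : F) := by
      intro ρ hρ a ha
      have h0 := Cfsg.Agent.Lie.AutBasis.coeff_zero₂
        (c := fun σ τ => c σ τ * (σ (a : F) * τ (a : F) - (a : F))) (fun x y => by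
          simp only [finsum_eq_sum_of_fintype]
          have h1 := heq a ha x y
          rw [hβ, hβ, Finset.mul_sum, ← sub_eq_zero, ← Finset.sum_sub_distrib] at h1
          rw [← h1]
          refine Finset.sum_congr rfl fun σ _ => ?_
          rw [Finset.mul_sum, ← Finset.sum_sub_distrib]
          refine Finset.sum_congr rfl fun τ _ => ?_
          rw [map_mul, map_mul]
          ring) ρ ρ
      exact sub_eq_zero.1 ((mul_eq_zero.1 h0).resolve_left hρ)
    refine eq_of_prod_eq_self S.card_F S.index σ σ' fun a ha => ?_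
    have e1 := key σ h a ha
    have e2 : σ' (a : F) = σ (a : F) := frobenius_inj F 2 (by
      simp only [frobenius_def, pow_two]; rw [e1, key σ' h' a ha])
    rw [e2, e1]
  intro x y
  by_contra hne
  obtain ⟨σ, hσ⟩ : ∃ σ, c σ σ ≠ 0 := by
    by_contra h
    push Not at h
    refine hne ?_
    rw [hβ]
    refine Finset.sum_eq_zero fun σ _ => Finset.sum_eq_zero fun τ _ => ?_
    by_cases e : c σ τ = 0
    · rw [e, zero_mul]
    · exact absurd (h σ) (by rwa [← hdiag σ τ e] at e)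
  have h1 := hd 1
  rw [hβ, Finset.sum_eq_single σ, Finset.sum_eq_single σ, map_one, one_mul, mul_one] at h1
  · exact hσ h1
  · intro τ _ hτ
    by_cases e : c σ τ = 0
    · rw [e, zero_mul]
    · exact absurd (hdiag σ τ e).symm hτ
  · simp
  · intro ρ _ hρ
    refine Finset.sum_eq_zero fun τ _ => ?_
    by_cases e : c ρ τ = 0
    · rw [e, zero_mul]
    · rw [← hdiag ρ τ e] at e
      exact absurd (huniq ρ σ e hσ) hρ
  · simp

/-- Equivariant alternating pairing between two groups whose coordinates carry the same action vanishes. -/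
theorem pairing_vanish [CharP F 2] (S : Setting P K n F ω u) (W₁ W₂ : Subgroup P) (h₁ : ∀ (k : K), ∀ x ∈ W₁, (k : MulAut P) x ∈ W₁)
    (h₂ : ∀ (k : K), ∀ x ∈ W₂, (k : MulAut P) x ∈ W₂) (π₁ π₂ : P → F)
    (a₁ : ∀ x ∈ W₁, ∀ y ∈ W₁, π₁ (x * y) = π₁ x + π₁ y) (a₂ : ∀ x ∈ W₂, ∀ y ∈ W₂, π₂ (x * y) = π₂ x + π₂ y)
    (e₁ : ∀ (k : K), ∀ x ∈ W₁, π₁ ((k : MulAut P) x) = (u k : F) * π₁ x)
    (e₂ : ∀ (k : K), ∀ x ∈ W₂, π₂ ((k : MulAut P) x) = (u k : F) * π₂ x)
    (s₁ : ∀ v, ∃ x ∈ W₁, π₁ x = v) (s₂ : ∀ v, ∃ x ∈ W₂, π₂ x = v)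
    (hc : ∀ x ∈ W₁, ∀ y ∈ W₂, cm x y ∈ Subgroup.center P ∧ cm x y * cm x y = 1)
    (k₁ : ∀ x ∈ W₁, π₁ x = 0 → ∀ y ∈ W₂, cm x y = 1) (k₂ : ∀ y ∈ W₂, π₂ y = 0 → ∀ x ∈ W₁, cm x y = 1)
    (hd : ∀ x ∈ W₁, ∀ y ∈ W₂, π₁ x = π₂ y → cm x y = 1) : ∀ x ∈ W₁, ∀ y ∈ W₂, cm x y = 1 := by
  haveI := S.fin
  haveI : Finite F := Finite.of_surjective ω fun v => (S.surj v).imp fun x h => h.2
  choose r₁ hr₁ hp₁ using s₁
  choose r₂ hr₂ hp₂ using s₂
  have hzero : ∀ (W : Subgroup P) (π : P → F), (∀ x ∈ W, ∀ y ∈ W, π (x * y) = π x + π y) → ∀ x ∈ W, π x⁻¹ = π x := by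
    intro W π a x hx
    have h0 := a 1 W.one_mem 1 W.one_mem
    rw [one_mul] at h0
    have h1 := a x hx x⁻¹ (W.inv_mem hx)
    rw [mul_inv_cancel] at h1
    have h2 : π 1 = 0 := by linear_combination -h0
    rw [h2] at h1
    exact (CharTwo.add_eq_zero.1 h1.symm).symm
  let β : F → F → F := fun v w => ω (cm (r₁ v) (r₂ w))
  have heval : ∀ x ∈ W₁, ∀ y ∈ W₂, ω (cm x y) = β (π₁ x) (π₂ y) := by
    intro x hx y hy
    have hdx : π₁ (x * (r₁ (π₁ x))⁻¹) = 0 := by
      rw [a₁ _ hx _ (W₁.inv_mem (hr₁ _)), hzero W₁ π₁ a₁ _ (hr₁ _), hp₁, CharTwo.add_self_eq_zero]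
    have hdy : π₂ (y * (r₂ (π₂ y))⁻¹) = 0 := by
      rw [a₂ _ hy _ (W₂.inv_mem (hr₂ _)), hzero W₂ π₂ a₂ _ (hr₂ _), hp₂, CharTwo.add_self_eq_zero]
    have e1 : cm x y = cm (r₁ (π₁ x)) y := by
      conv_lhs => rw [show x = x * (r₁ (π₁ x))⁻¹ * r₁ (π₁ x) from (inv_mul_cancel_right _ _).symm]
      rw [cm_mul_left (hc _ (hr₁ _) _ hy).1, k₁ _ (W₁.mul_mem hx (W₁.inv_mem (hr₁ _))) hdx _ hy, one_mul]
    have e2 : cm (r₁ (π₁ x)) y = cm (r₁ (π₁ x)) (r₂ (π₂ y)) := by
      conv_lhs => rw [show y = y * (r₂ (π₂ y))⁻¹ * r₂ (π₂ y) from (inv_mul_cancel_right _ _).symm]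
      rw [cm_mul_right (hc _ (hr₁ _) _ (hr₂ _)).1, k₂ _ (W₂.mul_mem hy (W₂.inv_mem (hr₂ _))) hdy _ (hr₁ _),
        one_mul]
    rw [e1, e2]
  have hl : ∀ v v' w, β (v + v') w = β v w + β v' w := by
    intro v v' w
    have h := heval _ (W₁.mul_mem (hr₁ v) (hr₁ v')) _ (hr₂ w)
    rw [a₁ _ (hr₁ v) _ (hr₁ v'), hp₁, hp₁, hp₂, cm_mul_left (hc _ (hr₁ v') _ (hr₂ w)).1,
      S.add _ _ (hc _ (hr₁ v) _ (hr₂ w)).2 (hc _ (hr₁ v') _ (hr₂ w)).2] at h
    exact h.symm
  have hr : ∀ v w w', β v (w + w') = β v w + β v w' := by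
    intro v w w'
    have h := heval _ (hr₁ v) _ (W₂.mul_mem (hr₂ w) (hr₂ w'))
    rw [a₂ _ (hr₂ w) _ (hr₂ w'), hp₂, hp₂, hp₁, cm_mul_right (hc _ (hr₁ v) _ (hr₂ w')).1,
      S.add _ _ (hc _ (hr₁ v) _ (hr₂ w)).2 (hc _ (hr₁ v) _ (hr₂ w')).2] at h
    exact h.symm
  have hdiag : ∀ v, β v v = 0 := by
    intro v
    show ω _ = 0
    rw [hd _ (hr₁ v) _ (hr₂ v) (by rw [hp₁, hp₂]), S.omega_one]
  have hequi : ∀ a ∈ u.range, ∀ v w, β ((a : F) * v) ((a : F) * w) = (a : F) * β v w := by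
    rintro _ ⟨k, rfl⟩ v w
    have h := heval _ (h₁ k _ (hr₁ v)) _ (h₂ k _ (hr₂ w))
    rw [e₁ k _ (hr₁ v), e₂ k _ (hr₂ w), hp₁, hp₂, ← map_cm, S.equiv k _ (hc _ (hr₁ v) _ (hr₂ w)).2] at h
    exact h.symm
  intro x hx y hy
  refine (S.omega_eq_zero (hc x hx y hy).2).1 ?_
  rw [heval x hx y hy]
  exact pairing_zero_on S β hl hr hdiag hequi _ _

/-- An element inducing a non-trivial scalar fixes no coset of an invariant subgroup but itself. -/
theorem mem_of_fix_coset (S : Setting P K n F ω u) {k : K} (hk : u k ≠ 1) {A : Subgroup P}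
    (hA : Inv K A) {y : P} (hy : y⁻¹ * (k : MulAut P) y ∈ A) : y ∈ A := by
  classical
  haveI := S.fin
  haveI : Fact (Nat.Prime 2) := ⟨Nat.prime_two⟩
  -- a power of prime order fixes the coset
  have hall : ∀ j : ℕ, y⁻¹ * ((k ^ j : K) : MulAut P) y ∈ A := by
    intro j
    induction j with
    | zero => simp
    | succ j ih =>
      rw [pow_succ', Subgroup.coe_mul, MulAut.mul_apply,
        show y⁻¹ * (k : MulAut P) (((k ^ j : K) : MulAut P) y) =
          (y⁻¹ * (k : MulAut P) y) * (k : MulAut P) (y⁻¹ * ((k ^ j : K) : MulAut P) y) by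
          rw [map_mul, map_inv]; group]
      exact A.mul_mem hy (hA k _ ih)
  obtain ⟨p, hp, hpu⟩ := Nat.exists_prime_and_dvd (show orderOf (u k) ≠ 1 from
    fun h => hk (orderOf_eq_one_iff.1 h))
  haveI : Fact p.Prime := ⟨hp⟩
  obtain ⟨e, d, hpd, hd⟩ := Nat.exists_eq_pow_mul_and_not_dvd (orderOf_pos k).ne' p hp.ne_one
  set l := k ^ d with hl
  have hlo : l ^ p ^ e = 1 := by rw [hl, ← pow_mul, mul_comm, ← hd, pow_orderOf_eq_one]
  have hlu : u l ≠ 1 := fun h => hpd (hpu.trans (orderOf_dvd_of_pow_eq_one (by rw [← map_pow]; exact h)))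
  have hpodd : p ≠ 2 := by
    rintro rfl
    exact Nat.not_even_iff_odd.2 S.odd (even_iff_two_dvd.2
      (hpu.trans ((orderOf_map_dvd u k).trans (orderOf_dvd_natCard k))))
  let σ : Equiv.Perm A :=
    { toFun := fun a => ⟨y⁻¹ * (l : MulAut P) (y * a), by
        rw [map_mul, ← mul_assoc]; exact A.mul_mem (hall d) (hA l a a.2)⟩
      invFun := fun a => ⟨y⁻¹ * ((l⁻¹ : K) : MulAut P) (y * a), by
        rw [map_mul, ← mul_assoc]
        refine A.mul_mem ?_ (hA l⁻¹ a a.2)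
        have h1 := hA l⁻¹ _ (A.inv_mem (hall d))
        rw [mul_inv_rev, inv_inv, map_mul, map_inv, ← hl] at h1
        simpa using h1⟩
      left_inv := fun a => Subtype.ext (by simp)
      right_inv := fun a => Subtype.ext (by simp) }
  have hpow : ∀ (j : ℕ) (a : A), ((σ ^ j) a : P) = y⁻¹ * ((l ^ j : K) : MulAut P) (y * a) := by
    intro j a
    induction j with
    | zero => simp
    | succ j ih =>
      rw [pow_succ', Equiv.Perm.mul_apply, pow_succ', Subgroup.coe_mul, MulAut.mul_apply]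
      show y⁻¹ * (l : MulAut P) (y * ((σ ^ j) a : P)) = _
      rw [ih, mul_inv_cancel_left]
  have hσ : σ ^ p ^ e = 1 := Equiv.ext fun a => Subtype.ext (by
    rw [hpow, hlo]; simp)
  haveI : Fintype A := Fintype.ofFinite A
  have hcardA : ¬p ∣ Fintype.card A := by
    rw [← Nat.card_eq_fintype_card]
    obtain ⟨m, hm⟩ := IsPGroup.iff_card.1 (S.pgroup.to_subgroup A)
    rw [hm]
    intro h
    exact hpodd ((Nat.prime_dvd_prime_iff_eq hp Nat.prime_two).1 (hp.dvd_of_dvd_pow h))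
  obtain ⟨a, ha⟩ := Equiv.Perm.exists_fixed_point_of_prime hcardA hσ
  have hfix : (l : MulAut P) (y * a) = y * a := by
    have h1 : y⁻¹ * (l : MulAut P) (y * a) = a := congrArg Subtype.val ha
    exact inv_mul_eq_iff_eq_mul.1 h1
  by_contra hyA
  have hne : y * (a : P) ≠ 1 := fun h => hyA (by
    rw [show y = y * (a : P) * (a : P)⁻¹ by group, h, one_mul]; exact A.inv_mem a.2)
  obtain ⟨m, hm⟩ := IsPGroup.iff_orderOf.1 S.pgroup (y * (a : P))
  rcases m with _ | m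
  · exact hne (orderOf_eq_one_iff.1 hm)
  set t := (y * (a : P)) ^ 2 ^ m with ht
  have ht2 : t * t = 1 := by
    rw [ht, ← pow_add, ← two_mul, ← pow_succ', ← hm, pow_orderOf_eq_one]
  have ht1 : t ≠ 1 := by
    intro h
    have := orderOf_dvd_of_pow_eq_one (ht ▸ h)
    rw [hm, Nat.pow_dvd_pow_iff_le_right (by norm_num)] at this
    omega
  have e1 := S.equiv l t ht2
  rw [show (l : MulAut P) t = t by rw [ht, map_pow, hfix]] at e1
  refine hlu (Units.ext (mul_right_cancel₀ (b := ω t) (fun h => ht1 ((S.omega_eq_zero ht2).1 h)) ?_))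
  rw [Units.val_one, one_mul, ← e1]

end Cfsg.Agent.Char.SolvTrans
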