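import Mathlib
import Cfsg.Agent.Lib.Char.SolvTransSetting

/-!
Higman's theorem under a group of automorphisms inducing a large subgroup of the scalars on the
involutions: squares square to one.
-/

set_option autoImplicit false
set_option linter.style.haveILetI false
set_option linter.unusedSectionVars false

namespace Cfsg.Agent.Char.SolvTrans

open Cfsg.Agent.Invol.TypeA (cm cm_eq_one_iff cm_mul_left cm_mul_right map_cm HomAb ExpEq top_power_sq)
open Cfsg.Agent.Fus.Suzuki (Inv inv_apply_iff IsBlock exists_block cm_mem_of_normal cm_right_mul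
  cm_right_pow cm_left_mul cm_left_sq step step_inv step_normal exists_step exists_inv_disjoint)

variable {P : Type*} [Group P] {K : Subgroup (MulAut P)} {n : ℕ} {F : Type*} [Field F] [Fintype F]
  [CharP F 2] {ω : P → F} {u : K →* Fˣ}

theorem setting_ne (S : Setting P K n F ω u) : ∃ x : F, x ≠ 0 ∧ x ≠ 1 := by
  obtain ⟨k, hk⟩ := exists_moving S
  exact ⟨(u k : F), (u k).ne_zero, fun h => hk (Units.ext h)⟩

/-- The shape of an equivariant family of additive maps on a block. -/
theorem block_shape (S : Setting P K n F ω u) {A B : Subgroup P} (hA : Inv K A)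
    (hB : IsBlock K A B) (X : P → F → F) (addv : ∀ y ∈ B, ∀ v w, X y (v + w) = X y v + X y w)
    (addy : ∀ y ∈ B, ∀ z ∈ B, ∀ v, X (y * z) v = X y v + X z v)
    (equiv : ∀ (k : K), ∀ y ∈ B, ∀ v, X ((k : MulAut P) y) ((u k : F) * v) = (u k : F) * X y v)
    (h0 : ∀ y ∈ A, ∀ v, X y v = 0) (hne : ∃ y ∈ B, ∃ v, X y v ≠ 0) :
    ∃ (σ : F ≃+* F) (c : P → F), (∀ x, σ x = x → x = 0 ∨ x = 1) ∧
      (∀ y ∈ B, ∀ v, X y v = c y * σ v) ∧ ∀ y ∈ B, ∀ z ∈ B, c y = c z → y⁻¹ * z ∈ A := by
  classical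
  haveI := S.fin
  haveI : Fintype (F ≃+* F) := Fintype.ofInjective (fun σ : F ≃+* F => (σ : F → F))
    DFunLike.coe_injective
  open Cfsg.Agent.Lie in
  have hsp : ∀ y ∈ B, ∃ c : (F ≃+* F) → F, ∀ v, X y v = ∑ᶠ σ : F ≃+* F, c σ * σ v := fun y hy =>
    AutBasis.span (AddMonoidHom.mk' (fun v => X y v) fun v w => addv y hy v w)
  choose! cc hcc using hsp
  have huniq : ∀ y ∈ B, ∀ d : (F ≃+* F) → F, (∀ v, X y v = ∑ σ, d σ * σ v) → ∀ σ, cc y σ = d σ := by
    intro y hy d hd σ
    rw [← sub_eq_zero]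
    refine Cfsg.Agent.Lie.AutBasis.coeff_zero (c := fun σ => cc y σ - d σ) (fun v => ?_) σ
    have h1 := hcc y hy v
    rw [finsum_eq_sum_of_fintype] at h1 ⊢
    simp only [sub_mul, Finset.sum_sub_distrib]
    rw [← h1, ← hd, sub_self]
  have hsum : ∀ y ∈ B, ∀ v, X y v = ∑ σ, cc y σ * σ v := fun y hy v => by
    rw [hcc y hy v, finsum_eq_sum_of_fintype]
  have cadd : ∀ y ∈ B, ∀ z ∈ B, ∀ σ, cc (y * z) σ = cc y σ + cc z σ := fun y hy z hz σ =>
    huniq _ (B.mul_mem hy hz) (fun σ => cc y σ + cc z σ) (fun v => by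
      rw [addy y hy z hz v, hsum y hy, hsum z hz]
      simp only [add_mul, Finset.sum_add_distrib]) σ
  have cA : ∀ y ∈ A, ∀ σ, cc y σ = 0 := fun y hy σ =>
    huniq y (hB.1.le hy) (fun _ => 0) (fun v => by simp [h0 y hy]) σ
  have cinv : ∀ y ∈ B, ∀ σ, cc y⁻¹ σ = cc y σ := fun y hy σ => by
    have h1 := cadd y hy y⁻¹ (B.inv_mem hy) σ
    rw [mul_inv_cancel, cA 1 A.one_mem] at h1
    exact (CharTwo.add_eq_zero.1 h1.symm).symm
  have ceq : ∀ (k : K), ∀ y ∈ B, ∀ σ : F ≃+* F,
      cc ((k : MulAut P) y) σ * σ (u k : F) = (u k : F) * cc y σ := by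
    intro k y hy σ
    have h1 := huniq _ (hB.2.1 k y hy) (fun σ => (u k : F) * cc y σ / σ (u k : F)) (fun v => by
      have e := equiv k y hy (v / (u k : F))
      rw [mul_div_cancel₀ _ (u k).ne_zero] at e
      rw [e, hsum y hy, Finset.mul_sum]
      refine Finset.sum_congr rfl fun τ _ => ?_
      rw [map_div₀]
      ring) σ
    rw [h1, div_mul_cancel₀]
    simp
  -- the kernel of a component is `A` or `B`
  have hker : ∀ σ, (∀ y ∈ B, cc y σ = 0) ∨ ∀ y ∈ B, cc y σ = 0 → y ∈ A := by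
    intro σ
    let M : Subgroup P :=
      { carrier := {y | y ∈ B ∧ cc y σ = 0}
        one_mem' := ⟨B.one_mem, cA 1 A.one_mem σ⟩
        mul_mem' := fun {a b} ha hb =>
          ⟨B.mul_mem ha.1 hb.1, by rw [cadd a ha.1 b hb.1, ha.2, hb.2, add_zero]⟩
        inv_mem' := fun {a} ha => ⟨B.inv_mem ha.1, by rw [cinv a ha.1, ha.2]⟩ }
    have hM : Inv K M := fun k y hy => ⟨hB.2.1 k y hy.1, by
      have h1 := ceq k y hy.1 σ
      rw [hy.2, mul_zero, mul_eq_zero] at h1
      exact h1.resolve_right (by simp)⟩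
    rcases hB.2.2 M hM (fun y hy => ⟨hB.1.le hy, cA y hy σ⟩) (fun y hy => hy.1) with h | h
    · exact Or.inr fun y hy hc => h ▸ (show y ∈ M from ⟨hy, hc⟩)
    · exact Or.inl fun y hy => (h.symm ▸ hy : y ∈ M).2
  have hfpf : ∀ σ : F ≃+* F, (∀ y ∈ B, cc y σ = 0 → y ∈ A) → ∀ x, σ x = x → x = 0 ∨ x = 1 := by
    intro σ hσ x hx
    by_contra hcon
    rw [not_or] at hcon
    obtain ⟨c, ⟨k, rfl⟩, hk1, hkx'⟩ := exists_fixed S.card_F S.index σ hcon.1 hcon.2 hx
    have hk0 : (u k : F) ≠ 0 := (u k).ne_zero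
    refine hB.1.ne (le_antisymm hB.1.le fun y hy => mem_of_fix_coset S hk1 hA ?_)
    have hky := hB.2.1 k y hy
    refine hσ _ (B.mul_mem (B.inv_mem hy) hky) ?_
    have h1 := ceq k y hy σ
    rw [hkx', mul_comm (u k : F) (cc y σ)] at h1
    rw [cadd _ (B.inv_mem hy) _ hky, cinv y hy, mul_right_cancel₀ hk0 h1,
      CharTwo.add_self_eq_zero]
  obtain ⟨σ, hσ⟩ : ∃ σ, ∀ y ∈ B, cc y σ = 0 → y ∈ A := by
    by_contra hcon
    obtain ⟨y, hy, v, hv⟩ := hne
    refine hv ?_
    rw [hsum y hy]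
    refine Finset.sum_eq_zero fun σ _ => ?_
    rw [((hker σ).resolve_right fun h => hcon ⟨σ, h⟩) y hy, zero_mul]
  obtain ⟨x₀, hx0, hx1⟩ := setting_ne S
  obtain ⟨y₀, hy₀, hy₀A⟩ := (SetLike.lt_iff_le_and_exists.1 hB.1).2
  have huni : ∀ τ : F ≃+* F, (∃ y ∈ B, cc y τ ≠ 0) → τ = σ := by
    rintro τ ⟨y', hy', hy'0⟩
    have hτ : ∀ y ∈ B, cc y τ = 0 → y ∈ A := (hker τ).resolve_left fun h => hy'0 (h y' hy')
    have hτf := hfpf τ hτ
    have hτ1 : τ ≠ RingEquiv.refl F := fun h => (hτf x₀ (by rw [h]; rfl)).elim hx0 hx1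
    -- every element of `B` is determined by its `σ`-component
    have hdet : ∀ y ∈ B, ∀ z ∈ B, cc y σ = cc z σ → cc y τ = cc z τ := by
      intro y hy z hz h
      have hm : y⁻¹ * z ∈ A := hσ _ (B.mul_mem (B.inv_mem hy) hz) (by
        rw [cadd _ (B.inv_mem hy) _ hz, cinv y hy, h, CharTwo.add_self_eq_zero])
      have h1 := cA _ hm τ
      rw [cadd _ (B.inv_mem hy) _ hz, cinv y hy] at h1
      exact CharTwo.add_eq_zero.1 h1
    set b := cc y₀ σ with hb
    set d := cc y₀ τ with hd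
    have hb0 : b ≠ 0 := fun h => hy₀A (hσ y₀ hy₀ h)
    have hd0 : d ≠ 0 := fun h => hy₀A (hτ y₀ hy₀ h)
    -- a representative for every value
    have hstep : ∀ k : K, ∀ y ∈ B, cc ((k : MulAut P) y) σ = (u k : F) / σ (u k : F) * cc y σ := by
      intro k y hy
      rw [div_mul_eq_mul_div, eq_div_iff (by simp)]
      exact ceq k y hy σ
    have hrep : ∀ a : F, ∃ y ∈ B, cc y σ = a * b := by
      intro a
      let M : AddSubgroup F :=
        { carrier := {a | ∃ y ∈ B, cc y σ = a * b}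
          zero_mem' := ⟨1, B.one_mem, by rw [zero_mul, cA 1 A.one_mem]⟩
          add_mem' := by
            rintro a a' ⟨y, hy, e⟩ ⟨z, hz, e'⟩
            exact ⟨y * z, B.mul_mem hy hz, by rw [cadd y hy z hz, e, e', add_mul]⟩
          neg_mem' := by
            rintro a ⟨y, hy, e⟩
            exact ⟨y, hy, by rw [CharTwo.neg_eq, e]⟩ }
      have hM : M = ⊤ := eq_top_of_smul S.card_F S.index M (v := 1) one_ne_zero
        ⟨y₀, hy₀, by rw [one_mul]⟩ (by
          rintro l hl w ⟨y, hy, e⟩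
          obtain ⟨l', ⟨k, rfl⟩, hk⟩ := twist_surjOn S.card_F σ (hfpf σ hσ) hl
          exact ⟨(k : MulAut P) y, hB.2.1 k y hy, by rw [hstep k y hy, e, hk, mul_assoc]⟩)
      exact (hM ▸ AddSubgroup.mem_top a : a ∈ M)
    choose rp hrp hrpσ using hrep
    let g : F → F := fun a => cc (rp a) τ / d
    have hgadd : ∀ a a', g (a + a') = g a + g a' := by
      intro a a'
      show _ / d = _ / d + _ / d
      rw [← add_div, ← cadd _ (hrp a) _ (hrp a')]
      congr 1
      refine hdet _ (hrp _) _ (B.mul_mem (hrp a) (hrp a')) ?_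
      rw [cadd _ (hrp a) _ (hrp a'), hrpσ, hrpσ, hrpσ, add_mul]
    have hgk' : ∀ (k : K) (a : F), g ((u k : F) / σ (u k : F) * a) = (u k : F) / τ (u k : F) * g a := by
      intro k a
      show cc (rp _) τ / d = _ * (cc (rp a) τ / d)
      have h1 : cc (rp ((u k : F) / σ (u k : F) * a)) τ = cc ((k : MulAut P) (rp a)) τ := by
        refine hdet _ (hrp _) _ (hB.2.1 k _ (hrp a)) ?_
        rw [hrpσ, hstep k _ (hrp a), hrpσ, mul_assoc]
      rw [h1, ← mul_div_assoc, div_mul_eq_mul_div (u k : F), ← ceq k _ (hrp a) τ,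
        mul_div_cancel_right₀]
      simp
    have hg0 : g 0 = 0 := by
      show cc (rp 0) τ / d = 0
      rw [hdet _ (hrp 0) 1 B.one_mem (by rw [hrpσ, zero_mul, cA 1 A.one_mem]), cA 1 A.one_mem, zero_div]
    have hg1 : g 1 = 1 := by
      show cc (rp 1) τ / d = 1
      rw [hdet _ (hrp 1) y₀ hy₀ (by rw [hrpσ, one_mul]), ← hd, div_self hd0]
    have hgk : ∀ k : K, g ((u k : F) / σ (u k : F)) = (u k : F) / τ (u k : F) := by
      intro k
      have := hgk' k 1
      rwa [mul_one, hg1, mul_one] at this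
    have hgmul : ∀ a a', g (a * a') = g a * g a' := by
      intro a a'
      let M : AddSubgroup F :=
        { carrier := {a | ∀ a', g (a * a') = g a * g a'}
          zero_mem' := fun a' => by rw [zero_mul, hg0, zero_mul]
          add_mem' := fun {a b} ha hb a' => by rw [add_mul, hgadd, hgadd, ha, hb, add_mul]
          neg_mem' := fun {a} ha a' => by rw [CharTwo.neg_eq, ha] }
      have hM : M = ⊤ := eq_top_of_smul S.card_F S.index M (v := 1) one_ne_zero
        (fun a' => by rw [one_mul, hg1, one_mul]) (by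
          intro l hl w hw a'
          obtain ⟨l', ⟨k, rfl⟩, hk⟩ := twist_surjOn S.card_F σ (hfpf σ hσ) hl
          rw [hk, mul_assoc, hgk', hgk', hw, mul_assoc])
      exact (hM ▸ AddSubgroup.mem_top a : a ∈ M) a'
    let gh : F →+* F := { toFun := g, map_one' := hg1, map_mul' := hgmul, map_zero' := hg0,
                          map_add' := hgadd }
    let φ : F ≃+* F := RingEquiv.ofBijective gh
      ⟨gh.injective, Finite.surjective_of_injective gh.injective⟩
    refine twist_unique_on S.card_F S.index σ τ φ (hfpf σ hσ) hτf ?_ S.two_le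
    rintro _ ⟨k, rfl⟩
    have h1 : φ ((u k : F) / σ (u k : F)) = (u k : F) / τ (u k : F) := hgk k
    rw [map_div₀] at h1
    rwa [div_eq_div_iff (by simp) (by simp)] at h1
  refine ⟨σ, fun y => cc y σ, hfpf σ hσ, fun y hy v => ?_, fun y hy z hz h => ?_⟩
  · rw [hsum y hy]
    refine Finset.sum_eq_single σ (fun τ _ hτ => ?_) (fun h => absurd (Finset.mem_univ _) h)
    rw [show cc y τ = 0 from by_contra fun h => hτ (huni τ ⟨y, hy, h⟩), zero_mul]
  · refine hσ _ (B.mul_mem (B.inv_mem hy) hz) ?_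
    simp only at h
    rw [cadd _ (B.inv_mem hy) _ hz, cinv y hy, h, CharTwo.add_self_eq_zero]

section Abelian

variable {A : Subgroup P}

theorem cm_invol (S : Setting P K n F ω u) (y : P) {t : P} (ht : t * t = 1) : cm y t = 1 :=
  cm_eq_one_iff.2 (Subgroup.mem_center_iff.1 (S.central t ht) y)

theorem cm_invol' (S : Setting P K n F ω u) (y : P) {t : P} (ht : t * t = 1) : cm t y = 1 :=
  cm_eq_one_iff.2 (Subgroup.mem_center_iff.1 (S.central t ht) y).symm

/-- The coordinate of the top power. -/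
def top (ω : P → F) (f : ℕ) (a : P) : F := ω (a ^ 2 ^ (f - 1))

variable {f : ℕ}

theorem top_add (S : Setting P K n F ω u) (hA : HomAb K A) (hf : ExpEq A f) {a b : P}
    (ha : a ∈ A) (hb : b ∈ A) : top ω f (a * b) = top ω f a + top ω f b := by
  show ω _ = ω _ + ω _
  rw [(show Commute a b from hA.comm a ha b hb).mul_pow,
    S.add _ _ (top_power_sq hf ha) (top_power_sq hf hb)]

theorem top_eq_zero_iff (S : Setting P K n F ω u) (hA : HomAb K A) (hf : ExpEq A f) {a : P}
    (ha : a ∈ A) : top ω f a = 0 ↔ ∃ b ∈ A, a = b * b := by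
  constructor
  · intro h0
    obtain ⟨b, hb, hbe⟩ := exists_power_of_le S hA hf (f - 1) (by omega) a ha
      ((S.omega_eq_zero (top_power_sq hf ha)).1 h0)
    exact ⟨b, hb, by rw [hbe, show f - (f - 1) = 1 by have := hf.pos; omega, pow_one, pow_two]⟩
  · rintro ⟨b, hb, rfl⟩
    show ω _ = 0
    rw [← pow_two, ← pow_mul, ← pow_succ', show f - 1 + 1 = f by have := hf.pos; omega,
      hf.le b hb, S.omega_one]

theorem top_surj (S : Setting P K n F ω u) (hA : HomAb K A) (hf : ExpEq A f) (v : F) :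
    ∃ a ∈ A, top ω f a = v := by
  obtain ⟨z, hz, hzv⟩ := S.surj v
  obtain ⟨a, ha, hae⟩ := exists_root S hA hf (j := f - 1) (by have := hf.pos; omega) hz
  exact ⟨a, ha, by show ω _ = v; rw [hae, hzv]⟩

theorem top_equiv (S : Setting P K n F ω u) (hf : ExpEq A f) (k : K) {a : P} (ha : a ∈ A) :
    top ω f ((k : MulAut P) a) = (u k : F) * top ω f a := by
  show ω _ = _ * ω _
  rw [← map_pow, S.equiv k _ (top_power_sq hf ha)]

theorem top_inv (S : Setting P K n F ω u) (hA : HomAb K A) (hf : ExpEq A f) {a : P}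
    (ha : a ∈ A) : top ω f a⁻¹ = top ω f a := by
  have h1 := top_add S hA hf ha (A.inv_mem ha)
  rw [mul_inv_cancel] at h1
  have h2 : top ω f (1 : P) = 0 := by show ω _ = 0; rw [one_pow, S.omega_one]
  rw [h2] at h1
  exact (CharTwo.add_eq_zero.1 h1.symm).symm

theorem top_conj (S : Setting P K n F ω u) (hf : ExpEq A f) (y : P) {a : P} (ha : a ∈ A) :
    top ω f (y * a * y⁻¹) = top ω f a := by
  show ω _ = ω _
  rw [conj_pow, Subgroup.mem_center_iff.1 (S.central _ (top_power_sq hf ha)) y, mul_inv_cancel_right]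

/-- A maximal abelian normal invariant subgroup of exponent at least four is self-centralizing. -/
theorem mem_of_centralizes (S : Setting P K n F ω u) (hA : HomAb K A)
    (hAn : A.Normal) (hf : ExpEq A f) (hf2 : 2 ≤ f)
    (hmax : ∀ B : Subgroup P, HomAb K B → B.Normal → A ≤ B → B = A) {y : P}
    (hy : ∀ a ∈ A, y * a = a * y) : y ∈ A := by
  classical
  haveI := S.fin
  haveI := hAn
  by_contra hyA
  haveI hCn : (Subgroup.centralizer (A : Set P)).Normal := Subgroup.normal_centralizer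
  have hAC : A < Subgroup.centralizer (A : Set P) :=
    SetLike.lt_iff_le_and_exists.2 ⟨fun a ha => Subgroup.mem_centralizer_iff.2
      fun b hb => (hA.comm a ha b hb).symm, y, Subgroup.mem_centralizer_iff.2
        fun b hb => (hy b hb).symm, hyA⟩
  obtain ⟨w₀, hw₀C, hw₀A, hw₀2, hw₀g⟩ := exists_step S.pgroup hAC
  haveI := step_normal hAn
  set W := Subgroup.centralizer (A : Set P) ⊓ step A hAn with hW
  have hAW : A ≤ W := le_inf hAC.le fun a ha => ⟨A.mul_mem ha ha, fun g => by
    rw [show cm a g = a * (g * a⁻¹ * g⁻¹) by simp only [cm]; group]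
    exact A.mul_mem ha (hAn.conj_mem _ (A.inv_mem ha) g)⟩
  have hWinv : Inv K W := by
    intro k w hw
    refine ⟨Subgroup.mem_centralizer_iff.2 fun b hb => ?_, step_inv hA hAn k w hw.2⟩
    obtain ⟨b', rfl⟩ := (k : MulAut P).surjective b
    rw [← map_mul, ← map_mul,
      Subgroup.mem_centralizer_iff.1 hw.1 b' ((inv_apply_iff hA.inv k).1 hb)]
  have hcA : ∀ x ∈ W, ∀ a ∈ A, cm x a = 1 := fun x hx a ha =>
    cm_eq_one_iff.2 (Subgroup.mem_centralizer_iff.1 hx.1 a ha).symm
  have hcm : ∀ x ∈ W, ∀ z ∈ W, cm x z ∈ Subgroup.center P ∧ cm x z * cm x z = 1 := by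
    intro x hx z hz
    have h1 : cm x z ∈ A := hx.2.2 z
    have h2 : cm x z * cm x z = 1 := by
      have h3 : cm (x * x) z = 1 := cm_eq_one_iff.2 (Subgroup.mem_centralizer_iff.1 hz.1 _ hx.2.1)
      rwa [cm_left_sq, hcA x hx _ h1, one_mul] at h3
    exact ⟨S.central _ h2, h2⟩
  let ψ : P → F := fun w => top ω f (w * w)
  have hadd : ∀ x ∈ W, ∀ z ∈ W, ψ (x * z) = ψ x + ψ z := by
    intro x hx z hz
    show top ω f _ = top ω f _ + top ω f _
    obtain ⟨hc1, hc2⟩ := hcm z hz x hx
    rw [show x * z * (x * z) = x * cm z x * x⁻¹ * (x * x) * (z * z) by simp only [cm]; group,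
      Subgroup.mem_center_iff.1 hc1 x, mul_inv_cancel_right,
      top_add S hA hf (A.mul_mem (hz.2.2 x) hx.2.1) hz.2.1, top_add S hA hf (hz.2.2 x) hx.2.1,
      show top ω f (cm z x) = 0 from ?_, zero_add]
    show ω _ = 0
    rw [show 2 ^ (f - 1) = 2 * 2 ^ (f - 2) by rw [← pow_succ']; congr 1; omega, pow_mul, pow_two,
      hc2, one_pow, S.omega_one]
  have hψker : ∀ x ∈ W, ψ x = 0 → x ∈ A := by
    intro x hx h0
    obtain ⟨b, hb, hbe⟩ := (top_eq_zero_iff S hA hf hx.2.1).1 h0
    have hc : x * b = b * x := (Subgroup.mem_centralizer_iff.1 hx.1 b hb).symm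
    have h2 : (x * b⁻¹) * (x * b⁻¹) = 1 := by
      have hc' : Commute x b⁻¹ := (show Commute x b from hc).inv_right
      rw [← pow_two, hc'.mul_pow, pow_two, pow_two, hbe]; group
    have h3 := hA.invol _ h2
    have h4 := A.mul_mem h3 hb
    rwa [inv_mul_cancel_right] at h4
  have hψA : ∀ a ∈ A, ψ a = 0 := fun a ha =>
    (top_eq_zero_iff S hA hf (A.mul_mem ha ha)).2 ⟨a, ha, rfl⟩
  have hψinv : ∀ x ∈ W, ψ x⁻¹ = ψ x := by
    intro x hx
    have h1 := hadd x hx x⁻¹ (W.inv_mem hx)
    rw [mul_inv_cancel, hψA 1 A.one_mem] at h1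
    exact (CharTwo.add_eq_zero.1 h1.symm).symm
  have hw₀W : w₀ ∈ W := ⟨hw₀C, hw₀2, hw₀g⟩
  have hψk : ∀ (k : K), ∀ x ∈ W, ψ ((k : MulAut P) x) = (u k : F) * ψ x := fun k x hx => by
    show top ω f _ = _
    rw [← map_mul, top_equiv S hf k hx.2.1]
  have hψs : ∀ v, ∃ x ∈ W, ψ x = v := fun v => surj_of_equiv S W hWinv ψ hadd hψk
    ⟨w₀, hw₀W, fun h => hw₀A (hψker w₀ hw₀W h)⟩ v
  have hk2 : ∀ y ∈ W, ψ y = 0 → ∀ x ∈ W, cm x y = 1 := fun y hy h x hx =>
    hcA x hx y (hψker y hy h)
  have hk1 : ∀ x ∈ W, ψ x = 0 → ∀ y ∈ W, cm x y = 1 := fun x hx h y hy =>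
    cm_eq_one_iff.2 (cm_eq_one_iff.1 (hk2 x hx h y hy)).symm
  have hd : ∀ x ∈ W, ∀ y ∈ W, ψ x = ψ y → cm x y = 1 := by
    intro x hx y hy h
    have h1 : x⁻¹ * y ∈ A := hψker _ (W.mul_mem (W.inv_mem hx) hy) (by
      rw [hadd _ (W.inv_mem hx) _ hy, hψinv x hx, h, CharTwo.add_self_eq_zero])
    have h2 := cm_eq_one_iff.1 (hcA x hx _ h1)
    refine cm_eq_one_iff.2 ?_
    rw [show x * y = x * (x * (x⁻¹ * y)) by group, h2]
    group
  have hWab := pairing_vanish S W W hWinv hWinv ψ ψ hadd hadd hψk hψk hψs hψs hcm hk1 hk2 hd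
  have hWA : W = A := hmax W ⟨fun x hx z hz => cm_eq_one_iff.1 (hWab x hx z hz), hWinv,
    fun t ht => hAW (hA.invol t ht)⟩ inferInstance hAW
  exact hw₀A (hWA ▸ hw₀W)

/-- The action of a block on a maximal abelian normal invariant subgroup. -/
theorem block_data (S : Setting P K n F ω u) (hA : HomAb K A)
    (hAn : A.Normal) (hf : ExpEq A f) (hf2 : 2 ≤ f)
    (hmax : ∀ B : Subgroup P, HomAb K B → B.Normal → A ≤ B → B = A) {B : Subgroup P}
    (hB : IsBlock K A B) :
    ∃ (e : ℕ) (σ : F ≃+* F) (c : P → F), 1 ≤ e ∧ e ≤ f - 1 ∧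
      (∀ y ∈ B, ∀ a ∈ A, cm y a ^ 2 ^ e = 1) ∧ (∀ x, σ x = x → x = 0 ∨ x = 1) ∧
      (∀ y ∈ B, ∀ a ∈ A, ω (cm y a ^ 2 ^ (e - 1)) = c y * σ (top ω f a)) ∧
      (∀ y ∈ B, ∀ z ∈ B, c y = c z → y⁻¹ * z ∈ A) ∧ ∀ y ∈ B, c y = 0 → y ∈ A := by
  classical
  have hex : ∃ e, ∀ y ∈ B, ∀ a ∈ A, cm y a ^ 2 ^ e = 1 := ⟨f - 1, fun y _ a ha => by
    rw [← cm_right_pow hA hAn y ha]; exact cm_invol S y (top_power_sq hf ha)⟩
  have hspec := Nat.find_spec hex
  have hle : Nat.find hex ≤ f - 1 := Nat.find_min' hex fun y _ a ha => by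
    rw [← cm_right_pow hA hAn y ha]; exact cm_invol S y (top_power_sq hf ha)
  have hpos : 1 ≤ Nat.find hex := by
    by_contra h
    obtain ⟨y, hy, hyA⟩ := (SetLike.lt_iff_le_and_exists.1 hB.1).2
    refine hyA (mem_of_centralizes S hA hAn hf hf2 hmax fun a ha => cm_eq_one_iff.1 ?_)
    have h1 := hspec y hy a ha
    rwa [show Nat.find hex = 0 by omega, pow_zero, pow_one] at h1
  set e := Nat.find hex with he
  have hne : ∃ y ∈ B, ∃ a ∈ A, cm y a ^ 2 ^ (e - 1) ≠ 1 := by
    have := Nat.find_min hex (m := e - 1) (by omega)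
    push Not at this
    exact this
  have hsq : ∀ y ∈ B, ∀ a ∈ A, cm y a ^ 2 ^ (e - 1) * cm y a ^ 2 ^ (e - 1) = 1 := fun y hy a ha => by
    rw [← pow_add, ← two_mul, ← pow_succ', show e - 1 + 1 = e by omega]; exact hspec y hy a ha
  choose r hrA hrv using top_surj S hA hf
  have hwd : ∀ y ∈ B, ∀ a ∈ A, ∀ a' ∈ A, top ω f a = top ω f a' →
      ω (cm y a ^ 2 ^ (e - 1)) = ω (cm y a' ^ 2 ^ (e - 1)) := by
    intro y hy a ha a' ha' h
    obtain ⟨b, hb, hbe⟩ := (top_eq_zero_iff S hA hf (A.mul_mem (A.inv_mem ha) ha')).1 (by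
      rw [top_add S hA hf (A.inv_mem ha) ha', top_inv S hA hf ha, h, CharTwo.add_self_eq_zero])
    have h1 : a' = a * (b * b) := by rw [← hbe, mul_inv_cancel_left]
    rw [h1, cm_right_mul hA hAn y ha (A.mul_mem hb hb), cm_right_mul hA hAn y hb hb,
      Commute.mul_pow (hA.comm _ (cm_mem_of_normal hAn y ha) _
        (A.mul_mem (cm_mem_of_normal hAn y hb) (cm_mem_of_normal hAn y hb))),
      (Commute.refl (cm y b)).mul_pow, hsq y hy b hb, mul_one]
  let X : P → F → F := fun y v => ω (cm y (r v) ^ 2 ^ (e - 1))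
  have hX : ∀ y ∈ B, ∀ a ∈ A, X y (top ω f a) = ω (cm y a ^ 2 ^ (e - 1)) := fun y hy a ha =>
    hwd y hy _ (hrA _) a ha (hrv _)
  have haddv : ∀ y ∈ B, ∀ v w, X y (v + w) = X y v + X y w := by
    intro y hy v w
    have h1 := hX y hy _ (A.mul_mem (hrA v) (hrA w))
    rw [top_add S hA hf (hrA v) (hrA w), hrv, hrv] at h1
    rw [h1, cm_right_mul hA hAn y (hrA v) (hrA w), Commute.mul_pow
      (hA.comm _ (cm_mem_of_normal hAn y (hrA v)) _ (cm_mem_of_normal hAn y (hrA w))),
      S.add _ _ (hsq y hy _ (hrA v)) (hsq y hy _ (hrA w))]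
  have haddy : ∀ y ∈ B, ∀ z ∈ B, ∀ v, X (y * z) v = X y v + X z v := by
    intro y hy z hz v
    show ω _ = ω _ + ω _
    rw [cm_left_mul, Commute.mul_pow (hA.comm _ (hAn.conj_mem _ (cm_mem_of_normal hAn z (hrA v)) y) _
      (cm_mem_of_normal hAn y (hrA v))), conj_pow,
      Subgroup.mem_center_iff.1 (S.central _ (hsq z hz _ (hrA v))) y, mul_inv_cancel_right,
      S.add _ _ (hsq z hz _ (hrA v)) (hsq y hy _ (hrA v)), add_comm]
  have hequiv : ∀ (k : K), ∀ y ∈ B, ∀ v,
      X ((k : MulAut P) y) ((u k : F) * v) = (u k : F) * X y v := by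
    intro k y hy v
    have h1 := hX ((k : MulAut P) y) (hB.2.1 k y hy) _ (hA.inv k _ (hrA v))
    rw [top_equiv S hf k (hrA v), hrv, ← map_cm, ← map_pow,
      S.equiv k _ (hsq y hy _ (hrA v))] at h1
    exact h1
  have hzero : ∀ y ∈ A, ∀ v, X y v = 0 := by
    intro y hy v
    show ω _ = 0
    rw [cm_eq_one_iff.2 (hA.comm y hy _ (hrA v)), one_pow, S.omega_one]
  have hnz : ∃ y ∈ B, ∃ v, X y v ≠ 0 := by
    obtain ⟨y, hy, a, ha, hne'⟩ := hne
    exact ⟨y, hy, top ω f a, fun h => hne' ((S.omega_eq_zero (hsq y hy a ha)).1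
      ((hX y hy a ha) ▸ h))⟩
  obtain ⟨σ, c, hσ, hc, hinj⟩ := block_shape S hA.inv hB X haddv haddy hequiv hzero hnz
  refine ⟨e, σ, c, hpos, hle, hspec, hσ, fun y hy a ha => by rw [← hX y hy a ha, hc y hy],
    hinj, fun y hy h0 => ?_⟩
  have h1 : c 1 = 0 := by
    have := hc 1 B.one_mem 1
    simpa [X, cm, S.omega_one] using this.symm
  have h2 := hinj 1 B.one_mem y hy (h1.trans h0.symm)
  rwa [inv_one, one_mul] at h2

/-- The squares of the elements of a block vanish in the top coordinate. -/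
theorem block_sq (S : Setting P K n F ω u) (hA : HomAb K A) (hAn : A.Normal)
    (hf : ExpEq A f) (hf2 : 2 ≤ f)
    (hmax : ∀ B : Subgroup P, HomAb K B → B.Normal → A ≤ B → B = A) {B : Subgroup P}
    (hB : IsBlock K A B) {y : P} (hy : y ∈ B) (h2 : y * y ∈ A) : top ω f (y * y) = 0 := by
  obtain ⟨e, σ, c, -, -, -, -, hc, -, hc0⟩ := block_data S hA hAn hf hf2 hmax hB
  have h1 := hc y hy _ h2
  rw [show cm y (y * y) = 1 by simp [cm, mul_assoc], one_pow, S.omega_one, eq_comm, mul_eq_zero]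
    at h1
  rcases h1 with h1 | h1
  · exact (top_eq_zero_iff S hA hf h2).2 ⟨y, hc0 y hy h1, rfl⟩
  · simpa using h1

/-- A maximal abelian normal invariant subgroup of exponent at least eight is the whole group. -/
theorem exp_le (S : Setting P K n F ω u) (hA : HomAb K A) (hAn : A.Normal)
    (hf : ExpEq A f) (hf3 : 3 ≤ f)
    (hmax : ∀ B : Subgroup P, HomAb K B → B.Normal → A ≤ B → B = A) : A = ⊤ := by
  classical
  haveI := S.fin
  haveI := hAn
  by_contra hne
  obtain ⟨w, -, hwA, hw2, hwg⟩ := exists_step S.pgroup (lt_top_iff_ne_top.2 hne)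
  have hAW : A ≤ step A hAn := fun a ha => ⟨A.mul_mem ha ha, fun g => by
    rw [show cm a g = a * (g * a⁻¹ * g⁻¹) by simp only [cm]; group]
    exact A.mul_mem ha (hAn.conj_mem _ (A.inv_mem ha) g)⟩
  obtain ⟨B, hB, hBW⟩ := exists_block (step_inv hA hAn)
    (SetLike.lt_iff_le_and_exists.2
      ⟨hAW, w, (show w * w ∈ A ∧ ∀ g, cm w g ∈ A from ⟨hw2, hwg⟩), hwA⟩)
  obtain ⟨e, σ, c, he1, hef, he, hσ, hc, -, hc0⟩ :=
    block_data S hA hAn hf (by omega) hmax hB
  obtain ⟨y, hy, hyA⟩ := (SetLike.lt_iff_le_and_exists.1 hB.1).2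
  have hy2 : y * y ∈ A := (hBW hy).1
  have hcy : c y ≠ 0 := fun h => hyA (hc0 y hy h)
  have hef2 : e ≤ f - 2 := by
    by_contra h
    have hee : e = f - 1 := by omega
    have key : ∀ v, c y * σ (c y * σ v) = c y * σ v := by
      intro v
      obtain ⟨a, ha, rfl⟩ := top_surj S hA hf v
      have hd := cm_mem_of_normal hAn y ha
      obtain ⟨b, hb, hbe⟩ := (top_eq_zero_iff S hA hf hd).1 (by
        show ω _ = 0
        rw [← cm_right_pow hA hAn y ha, cm_invol S y (top_power_sq hf ha), S.omega_one])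
      have h1 : cm (y * y) a = 1 := cm_eq_one_iff.2 (hA.comm _ hy2 a ha)
      rw [cm_left_sq, hbe, cm_right_mul hA hAn y hb hb, ← pow_two, ← pow_two, ← pow_two,
        ← pow_mul] at h1
      have h2 := congrArg (fun x => x ^ 2 ^ (f - 3)) h1
      simp only [one_pow] at h2
      rw [(show Commute (cm y b ^ 2) (b ^ (2 * 2)) from hA.comm _
        (A.pow_mem (cm_mem_of_normal hAn y hb) _) _ (A.pow_mem hb _)).mul_pow, ← pow_mul, ← pow_mul,
        show 2 * 2 ^ (f - 3) = 2 ^ (e - 1) by rw [← pow_succ']; congr 1; omega,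
        show 2 * 2 * 2 ^ (f - 3) = 2 ^ (f - 1) by
          rw [mul_assoc, ← pow_succ', ← pow_succ']; congr 1; omega] at h2
      have hsq : cm y b ^ 2 ^ (e - 1) * cm y b ^ 2 ^ (e - 1) = 1 := by
        rw [← pow_add, ← two_mul, ← pow_succ', show e - 1 + 1 = e by omega]; exact he y hy b hb
      have h3 := congrArg ω h2
      rw [S.add _ _ hsq (top_power_sq hf hb), S.omega_one, hc y hy b hb,
        CharTwo.add_eq_zero] at h3
      have hbv : top ω f b = c y * σ (top ω f a) := by
        rw [← hc y hy a ha, hbe, ← pow_two, ← pow_mul, ← pow_succ',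
          show e - 1 + 1 = f - 1 by omega]
        rfl
      rw [← hbv]
      exact h3
    have h1 : c y = 1 := by
      have := key 1
      rw [map_one, mul_one] at this
      have h2 : σ (c y) = 1 := mul_left_cancel₀ hcy (by rw [this, mul_one])
      exact σ.injective (by rw [h2, map_one])
    obtain ⟨x, hx0, hx1⟩ := setting_ne S
    have h3 := key x
    rw [h1, one_mul, one_mul] at h3
    exact (hσ x (σ.injective h3)).elim hx0 hx1
  have htop := block_sq S hA hAn hf (by omega) hmax hB hy hy2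
  obtain ⟨b, hb, hbe⟩ := (top_eq_zero_iff S hA hf hy2).1 htop
  letI : CommGroup A :=
    { (inferInstance : Group A) with mul_comm := fun a b => Subtype.ext (hA.comm a a.2 b b.2) }
  let h : A →* A := MonoidHom.mk'
    (fun a => ⟨cm y a * ((a : P) * a), A.mul_mem (cm_mem_of_normal hAn y a.2) (A.mul_mem a.2 a.2)⟩)
    fun a b => by
      have e1 : cm y ((a * b : A) : P) = cm y a * cm y b := cm_right_mul hA hAn y a.2 b.2
      have e2 : (⟨cm y (a * b : A), cm_mem_of_normal hAn y (a * b).2⟩ : A) =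
          ⟨cm y a, cm_mem_of_normal hAn y a.2⟩ * ⟨cm y b, cm_mem_of_normal hAn y b.2⟩ :=
        Subtype.ext e1
      show (⟨cm y (a * b : A), cm_mem_of_normal hAn y (a * b).2⟩ : A) * ((a * b) * (a * b)) =
        ((⟨cm y a, cm_mem_of_normal hAn y a.2⟩ : A) * (a * a)) *
          ((⟨cm y b, cm_mem_of_normal hAn y b.2⟩ : A) * (b * b))
      rw [e2]
      ac_rfl
  let sq : A →* A := powMonoidHom 2
  have hker : h.ker = sq.ker := by
    ext a
    rw [MonoidHom.mem_ker, MonoidHom.mem_ker]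
    constructor
    · intro ha
      have h1 : cm y a * ((a : P) * a) = 1 := congrArg Subtype.val ha
      refine Subtype.ext ?_
      show (a : P) ^ 2 = 1
      have main : ∀ m, m ≤ f → (a : P) ^ 2 ^ m = 1 → (a : P) ^ 2 = 1 := by
        intro m
        induction m with
        | zero => intro _ h0; rw [pow_zero, pow_one] at h0; rw [h0, one_pow]
        | succ m ih =>
          intro hm h0
          rcases m with _ | m
          · simpa using h0
          refine ih (by omega) ?_
          obtain ⟨a', ha', hae⟩ := exists_power_of_le S hA hf (m + 1 + 1) hm a a.2 h0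
          have hd : cm y a ^ 2 ^ m = 1 := by
            rw [hae, cm_right_pow hA hAn y ha', ← pow_mul, ← pow_add,
              show f - (m + 1 + 1) + m = f - 2 by omega,
              show f - 2 = e + (f - 2 - e) by omega, pow_add, pow_mul, he y hy a' ha', one_pow]
          have h2 := congrArg (fun x => x ^ 2 ^ m) h1
          simp only [one_pow] at h2
          rw [(show Commute (cm y a) ((a : P) * a) from hA.comm _
            (cm_mem_of_normal hAn y a.2) _ (A.mul_mem a.2 a.2)).mul_pow, hd, one_mul, ← pow_two,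
            ← pow_mul, ← pow_succ'] at h2
          exact h2
      exact main f le_rfl (hf.le _ a.2)
    · intro ha
      have h2 : (a : P) * a = 1 := by
        have h3 : (a : P) ^ 2 = 1 := congrArg Subtype.val ha
        rwa [pow_two] at h3
      refine Subtype.ext ?_
      show cm y a * ((a : P) * a) = 1
      rw [cm_invol S y h2, h2, mul_one]
  have hle : h.range ≤ sq.range := by
    rintro _ ⟨a, rfl⟩
    have hd := cm_mem_of_normal hAn y a.2
    obtain ⟨d, hd', hde⟩ := (top_eq_zero_iff S hA hf hd).1 (by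
      show ω _ = 0
      rw [← cm_right_pow hA hAn y a.2, cm_invol S y (top_power_sq hf a.2), S.omega_one])
    refine ⟨⟨d, hd'⟩ * a, Subtype.ext ?_⟩
    show (d * (a : P)) ^ 2 = cm y a * ((a : P) * a)
    rw [(show Commute d (a : P) from hA.comm d hd' a a.2).mul_pow, hde, pow_two, pow_two]
  have hrange : h.range = sq.range := by
    refine Subgroup.eq_of_le_of_card_ge hle (le_of_eq ?_)
    rw [← Subgroup.index_ker, ← Subgroup.index_ker, hker]
  obtain ⟨a, ha⟩ : (⟨b, hb⟩ * ⟨b, hb⟩ : A)⁻¹ ∈ h.range := by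
    rw [hrange]
    exact sq.range.inv_mem ⟨⟨b, hb⟩, pow_two _⟩
  have ha' : cm y a * ((a : P) * a) = (b * b)⁻¹ := congrArg Subtype.val ha
  have hinv : y * (a : P) * (y * a) = 1 := by
    rw [show y * (a : P) * (y * a) = cm y a * ((a : P) * (y * y)) * a by simp only [cm]; group,
      hA.comm a a.2 _ hy2, ← mul_assoc, mul_assoc (cm y a * (y * y)) (a : P) a,
      hA.comm _ (cm_mem_of_normal hAn y a.2) _ hy2, mul_assoc, ha', hbe, mul_inv_cancel]
  have h1 := A.mul_mem (hA.invol _ hinv) (A.inv_mem a.2)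
  rw [mul_inv_cancel_right] at h1
  exact hyA h1

/-- If a maximal abelian normal invariant subgroup has exponent four, every square squares to one. -/
theorem sq_sq_of_four (S : Setting P K n F ω u) (hA : HomAb K A) (hAn : A.Normal)
    (hf : ExpEq A 2) (hmax : ∀ B : Subgroup P, HomAb K B → B.Normal → A ≤ B → B = A) :
    ∀ x : P, x * x * (x * x) = 1 := by
  classical
  haveI := S.fin
  haveI := hAn
  have hδ : ∀ y : P, ∀ a ∈ A, cm y a * cm y a = 1 := fun y a ha => by
    rw [← cm_right_mul hA hAn y ha ha]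
    exact cm_invol S y (by
      have := hf.le a ha
      rwa [show (2 : ℕ) ^ 2 = 2 + 2 from rfl, pow_add, pow_two] at this)
  have hsqA : ∀ y : P, y * y ∈ A := fun y =>
    mem_of_centralizes S hA hAn hf le_rfl hmax fun a ha => cm_eq_one_iff.1 (by
      rw [cm_left_sq, hδ y a ha, mul_one, cm_invol S y (hδ y a ha)])
  have hcmA : ∀ y g : P, cm y g ∈ A := fun y g => by
    rw [show cm y g = (y * g) * (y * g) * (g⁻¹ * (y * y)⁻¹ * g) * (g * g)⁻¹ by simp only [cm]; group]
    exact A.mul_mem (A.mul_mem (hsqA _) (hAn.conj_mem' _ (A.inv_mem (hsqA y)) g))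
      (A.inv_mem (hsqA g))
  let β : P → P → F := fun y z => top ω 2 (cm y z)
  have hβl : ∀ x y z, β (x * y) z = β x z + β y z := fun x y z => by
    show top ω 2 _ = _
    rw [cm_left_mul, top_add S hA hf (hAn.conj_mem _ (hcmA y z) x) (hcmA x z),
      top_conj S hf x (hcmA y z), add_comm]
  have hβs : ∀ y z, β z y = β y z := fun y z => by
    show top ω 2 _ = top ω 2 _
    rw [show cm z y = (cm y z)⁻¹ by simp only [cm]; group, top_inv S hA hf (hcmA y z)]
  have hβ1 : ∀ z, β 1 z = 0 := fun z => by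
    show ω _ = 0
    simp [cm, S.omega_one]
  have hβA : ∀ a ∈ A, ∀ z, β a z = 0 := fun a ha z => by
    show ω _ = 0
    rw [show cm a z = (cm z a)⁻¹ by simp only [cm]; group, inv_pow,
      show (2 : ℕ) ^ (2 - 1) = 2 from rfl, pow_two, hδ z a ha, inv_one, S.omega_one]
  -- the key relation and the data on blocks
  have hfix : ∀ B, IsBlock K A B → ∀ y ∈ B, ∀ z, ω (cm y (cm y z)) + β y z = 0 := by
    intro B hB y hy z
    have h0 : y * y * (y * y) = 1 := by
      have h := block_sq S hA hAn hf le_rfl hmax hB hy (hsqA y)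
      have h' := (S.omega_eq_zero (top_power_sq hf (hsqA y))).1 h
      rwa [show (2 : ℕ) ^ (2 - 1) = 2 from rfl, pow_two] at h'
    have h1 : cm (y * y) z = 1 := cm_invol' S z h0
    rw [cm_left_sq] at h1
    have h2 : cm y z * cm y z * (cm y z * cm y z) = 1 := by
      have h3 := hf.le _ (hcmA y z)
      rwa [show (2 : ℕ) ^ 2 = 2 + 2 from rfl, pow_add, pow_two] at h3
    have h4 := congrArg ω h1
    rw [S.add _ _ (hδ y _ (hcmA y z)) h2, S.omega_one] at h4
    show _ + ω _ = 0
    rwa [show (2 : ℕ) ^ (2 - 1) = 2 from rfl, pow_two]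
  have hvan : ∀ B, IsBlock K A B → ∀ B', IsBlock K A B' → ∀ y ∈ B, ∀ z ∈ B', β y z = 0 := by
    intro B hB B' hB' y hy z hz
    by_cases hyA : y ∈ A
    · exact hβA y hyA z
    obtain ⟨e, σ, c, he1, hef, -, hσ, hc, -, hc0⟩ := block_data S hA hAn hf le_rfl hmax hB
    obtain rfl : e = 1 := by omega
    obtain ⟨e, τ, d, he1', hef', -, hτ, hd, hdinj, hd0⟩ := block_data S hA hAn hf le_rfl hmax hB'
    obtain rfl : e = 1 := by omega
    have hcy : c y ≠ 0 := fun h => hyA (hc0 y hy h)
    have h1 : ∀ x, c y * σ (β y x) = β y x := fun x => by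
      have := hc y hy _ (hcmA y x)
      rw [show 2 ^ (1 - 1) = 1 from rfl, pow_one] at this
      rw [← this]
      exact CharTwo.add_eq_zero.1 (hfix B hB y hy x)
    have h2 : ∀ x ∈ B', d x * τ (β y x) = β y x := fun x hx => by
      have := hd x hx _ (hcmA x y)
      rw [show 2 ^ (1 - 1) = 1 from rfl, pow_one] at this
      rw [show β y x = β x y from hβs x y, ← this]
      exact CharTwo.add_eq_zero.1 (hfix B' hB' x hx y)
    have huni : ∀ v w : F, v ≠ 0 → w ≠ 0 → c y * σ v = v → c y * σ w = w → v = w := by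
      intro v w hv hw ev ew
      have h3 : σ (v / w) = v / w := by
        rw [map_div₀, div_eq_div_iff (by simp [hw]) hw]
        exact mul_left_cancel₀ hcy (by rw [← mul_assoc, ev, mul_left_comm, ew])
      rcases hσ _ h3 with h | h
      · simp [hv, hw] at h
      · exact (div_eq_one_iff_eq hw).1 h
    -- at most one coset carries a non-zero value
    have hone : ∀ x ∈ B', ∀ x' ∈ B', β y x ≠ 0 → β y x' ≠ 0 → x⁻¹ * x' ∈ A := by
      intro x hx x' hx' h0 h0'
      have e1 := huni _ _ h0 h0' (h1 x) (h1 x')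
      refine hdinj x hx x' hx' ?_
      have e2 := h2 x hx
      have e3 := h2 x' hx'
      rw [← e1] at e3
      exact mul_right_cancel₀ (by simp [h0]) (e2.trans e3.symm)
    by_contra h0
    have hzA : z ∉ A := fun h => h0 (by rw [← hβs y z]; exact hβA z h y)
    obtain ⟨k, hk1⟩ := exists_moving S
    have hz1 := hB'.2.1 k z hz
    have hzz : β y ((k : MulAut P) z) = 0 := by
      by_contra h
      exact hzA (mem_of_fix_coset S hk1 hA.inv (hone z hz _ hz1 h0 h))
    have h5 : β y (z * (k : MulAut P) z) ≠ 0 := by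
      rw [← hβs, hβl, hβs y z, hβs y ((k : MulAut P) z), hzz, add_zero]
      exact h0
    have h6 := hone z hz _ (B'.mul_mem hz hz1) h0 h5
    rw [inv_mul_cancel_left] at h6
    exact hzA ((inv_apply_iff hA.inv k).1 h6)
  -- the blocks generate
  let N : Subgroup P := A ⊔ Subgroup.closure (⋃ B ∈ {B | IsBlock K A B}, (B : Set P))
  have hBN : ∀ B, IsBlock K A B → B ≤ N := fun B hB x hx =>
    Subgroup.mem_sup_right (Subgroup.subset_closure (Set.mem_biUnion hB hx))
  have hcl : Inv K (Subgroup.closure (⋃ B ∈ {B | IsBlock K A B}, (B : Set P))) := by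
    intro k x hx
    induction hx using Subgroup.closure_induction with
    | mem x hx =>
      obtain ⟨B, hB, hxB⟩ := Set.mem_iUnion₂.1 hx
      exact Subgroup.subset_closure (Set.mem_biUnion hB (hB.2.1 k x hxB))
    | one => rw [map_one]; exact Subgroup.one_mem _
    | mul a b _ _ ha hb => rw [map_mul]; exact Subgroup.mul_mem _ ha hb
    | inv a _ ha => rw [map_inv]; exact Subgroup.inv_mem _ ha
  have hNinv : Inv K N := by
    intro k x hx
    have hle : N ≤ N.comap (k : MulAut P).toMonoidHom :=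
      sup_le (fun a ha => Subgroup.mem_sup_left (hA.inv k a ha))
        (fun a ha => Subgroup.mem_sup_right (hcl k a ha))
    exact hle hx
  have hN : N = ⊤ := by
    by_contra hne
    haveI : Finite (MulAut P) :=
      Finite.of_injective (fun e : MulAut P => (e : P → P)) DFunLike.coe_injective
    have hodd := S.odd
    let act : K →* MulAut (P ⧸ A) :=
      { toFun := fun k => QuotientGroup.congr A A (k : MulAut P) (by
          refine le_antisymm ?_ fun z hz => ?_
          · rintro _ ⟨z, hz, rfl⟩; exact hA.inv k z hz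
          · exact ⟨(k : MulAut P).symm z, (inv_apply_iff hA.inv k).1 (by
              rw [MulEquiv.apply_symm_apply]; exact hz), (k : MulAut P).apply_symm_apply z⟩)
        map_one' := MulEquiv.ext fun c => by
          obtain ⟨x, rfl⟩ := QuotientGroup.mk_surjective c; rfl
        map_mul' := fun a b => MulEquiv.ext fun c => by
          obtain ⟨x, rfl⟩ := QuotientGroup.mk_surjective c; rfl }
    have hact : ∀ (k : K) (x : P), act k (x : P ⧸ A) = (((k : MulAut P) x : P) : P ⧸ A) :=
      fun k x => rfl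
    obtain ⟨M, hMinv, hMne, hMN⟩ := exists_inv_disjoint hodd act (fun c => by
        obtain ⟨x, rfl⟩ := QuotientGroup.mk_surjective c
        rw [← QuotientGroup.mk_mul, QuotientGroup.eq_one_iff]
        exact hsqA x) (N := N.map (QuotientGroup.mk' A))
      (fun k c hc => by
        obtain ⟨x, hx, rfl⟩ := hc
        exact ⟨_, hNinv k x hx, rfl⟩)
      (fun h => hne (by
        have h' := congrArg (Subgroup.comap (QuotientGroup.mk' A)) h
        rwa [Subgroup.comap_map_eq, QuotientGroup.ker_mk',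
          sup_eq_left.2 (show A ≤ N from le_sup_left), Subgroup.comap_top] at h'))
    have hM' : Inv K (M.comap (QuotientGroup.mk' A)) := fun k x hx => by
      rw [Subgroup.mem_comap] at hx ⊢
      exact hact k x ▸ hMinv k _ hx
    have hAM : A < M.comap (QuotientGroup.mk' A) := by
      refine lt_of_le_of_ne (fun a ha => ?_) fun he => hMne ?_
      · rw [Subgroup.mem_comap, QuotientGroup.mk'_apply, (QuotientGroup.eq_one_iff a).2 ha]
        exact M.one_mem
      · rw [← Subgroup.map_comap_eq_self_of_surjective (QuotientGroup.mk'_surjective A) M, ← he,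
          QuotientGroup.map_mk'_self]
    obtain ⟨B, hB, hBM⟩ := exists_block hM' hAM
    refine hB.1.not_ge fun x hx => ?_
    rw [← QuotientGroup.eq_one_iff, ← Subgroup.mem_bot, ← hMN]
    exact ⟨hBM hx, ⟨x, hBN B hB hx, rfl⟩⟩
  have hall : ∀ B, IsBlock K A B → ∀ y ∈ B, ∀ x, β x y = 0 := by
    intro B hB y hy x
    have hx : x ∈ N := hN ▸ Subgroup.mem_top x
    let T : Subgroup P :=
      { carrier := {x | β x y = 0}
        one_mem' := hβ1 y
        mul_mem' := fun {a b} (ha : β a y = 0) (hb : β b y = 0) => by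
          show β (a * b) y = 0
          rw [hβl, ha, hb, add_zero]
        inv_mem' := fun {a} (ha : β a y = 0) => by
          have h1 := hβl a⁻¹ a y
          rw [inv_mul_cancel, hβ1, ha, add_zero] at h1
          exact h1.symm }
    have hle : N ≤ T := sup_le (fun a ha => hβA a ha y) ((Subgroup.closure_le T).2 (by
      intro z hz
      obtain ⟨B', hB', hzB⟩ := Set.mem_iUnion₂.1 hz
      exact hvan B' hB' B hB z hzB y hy))
    exact hle hx
  have hβ0 : ∀ x y, β x y = 0 := by
    intro x y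
    let T : Subgroup P :=
      { carrier := {x | ∀ y, β x y = 0}
        one_mem' := hβ1
        mul_mem' := fun {a b} ha hb y => by rw [hβl, ha y, hb y, add_zero]
        inv_mem' := fun {a} ha y => by
          have h1 := hβl a⁻¹ a y
          rw [inv_mul_cancel, hβ1, ha y, add_zero] at h1
          exact h1.symm }
    have hle : N ≤ T := sup_le (fun a ha y => hβA a ha y) ((Subgroup.closure_le T).2 (by
      intro z hz y
      obtain ⟨B', hB', hzB⟩ := Set.mem_iUnion₂.1 hz
      rw [← hβs z y]; exact hall B' hB' z hzB y))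
    exact hle (hN ▸ Subgroup.mem_top x) y
  let Q : Subgroup P :=
    { carrier := {x | top ω 2 (x * x) = 0}
      one_mem' := by show ω _ = 0; simp [S.omega_one]
      mul_mem' := fun {a b} (ha : top ω 2 (a * a) = 0) (hb : top ω 2 (b * b) = 0) => by
        show top ω 2 (a * b * (a * b)) = 0
        rw [show a * b * (a * b) = a * cm b a * a⁻¹ * (a * a) * (b * b) by simp only [cm]; group,
          top_add S hA hf (A.mul_mem (hAn.conj_mem _ (hcmA b a) a) (hsqA a)) (hsqA b),
          top_add S hA hf (hAn.conj_mem _ (hcmA b a) a) (hsqA a), top_conj S hf a (hcmA b a),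
          show top ω 2 (cm b a) = 0 from hβ0 b a, ha, hb, add_zero, add_zero]
      inv_mem' := fun {a} (ha : top ω 2 (a * a) = 0) => by
        show top ω 2 (a⁻¹ * a⁻¹) = 0
        rw [← mul_inv_rev, top_inv S hA hf (hsqA a), ha] }
  have hQ : N ≤ Q := sup_le
    (fun a ha => (top_eq_zero_iff S hA hf (hsqA a)).2 ⟨a, ha, rfl⟩)
    ((Subgroup.closure_le Q).2 (by
      intro z hz
      obtain ⟨B', hB', hzB⟩ := Set.mem_iUnion₂.1 hz
      exact block_sq S hA hAn hf le_rfl hmax hB' hzB (hsqA z)))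
  intro x
  have h := (S.omega_eq_zero (top_power_sq hf (hsqA x))).1 (hQ (hN ▸ Subgroup.mem_top x))
  rwa [show (2 : ℕ) ^ (2 - 1) = 2 from rfl, pow_two] at h

end Abelian

/-- In a Suzuki 2-group setting, squares and commutators square to one. -/
theorem setting_sq_sq (S : Setting P K n F ω u) (hna : ∃ x y : P, x * y ≠ y * x) :
    ∀ x : P, x * x * (x * x) = 1 := by
  classical
  haveI := S.fin
  let Ω : Subgroup P :=
    { carrier := {t | t * t = 1}
      one_mem' := one_mul 1
      mul_mem' := fun {a b} ha hb => by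
        show a * b * (a * b) = 1
        rw [← mul_assoc, mul_assoc a b a, Subgroup.mem_center_iff.1 (S.central a ha) b, ← mul_assoc,
          show a * a = 1 from ha, one_mul]
        exact hb
      inv_mem' := fun {a} ha => by
        show a⁻¹ * a⁻¹ = 1
        rw [← mul_inv_rev, show a * a = 1 from ha, inv_one] }
  have hΩc : ∀ t ∈ Ω, ∀ g : P, g * t = t * g := fun t ht g =>
    Subgroup.mem_center_iff.1 (S.central t ht) g
  have hΩn : Ω.Normal := ⟨fun t ht g => by rwa [hΩc t ht g, mul_inv_cancel_right]⟩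
  have hΩk : Inv K Ω := fun k t ht => by
    show _ * _ = 1
    rw [← map_mul, show t * t = 1 from ht, map_one]
  obtain ⟨A, -, ⟨hA, hAn⟩, hmax⟩ :
      ∃ A, Ω ≤ A ∧ (HomAb K A ∧ A.Normal) ∧
        ∀ B, HomAb K B → B.Normal → A ≤ B → B = A := by
    obtain ⟨A, hA1, hA2⟩ := Set.Finite.exists_le_maximal
      (Set.toFinite {B : Subgroup P | HomAb K B ∧ B.Normal})
      (a := Ω) ⟨⟨fun a ha b _ => (hΩc a ha b).symm, hΩk, fun t ht => ht⟩, hΩn⟩
    exact ⟨A, hA1, hA2.1, fun B hB hBn hle => le_antisymm (hA2.2 ⟨hB, hBn⟩ hle) hle⟩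
  haveI := hAn
  obtain ⟨f, hf⟩ := exists_expEq S hA
  have hAtop : A ≠ ⊤ := by
    intro h
    obtain ⟨x, y, hxy⟩ := hna
    exact hxy (hA.comm x (h ▸ Subgroup.mem_top x) y (h ▸ Subgroup.mem_top y))
  rcases (show f = 1 ∨ f = 2 ∨ 3 ≤ f by have := hf.pos; omega) with rfl | rfl | h3
  · -- the involutions form a maximal abelian normal invariant subgroup
    have hAΩ : ∀ a ∈ A, a * a = 1 := fun a ha => by
      have := hf.le a ha
      rwa [pow_one, pow_two] at this
    let N : Subgroup P := Subgroup.closure ((A : Set P) ∪ Set.range fun x : P => x * x)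
    have hgen : ∀ z ∈ (A : Set P) ∪ Set.range (fun x : P => x * x), ∀ g : P,
        g * z * g⁻¹ ∈ (A : Set P) ∪ Set.range fun x : P => x * x := by
      rintro z (hz | ⟨x, rfl⟩) g
      · exact Or.inl (hAn.conj_mem z hz g)
      · exact Or.inr ⟨g * x * g⁻¹, by simp only; group⟩
    haveI hNn : N.Normal := ⟨fun z hz g => by
      induction hz using Subgroup.closure_induction with
      | mem z hz => exact Subgroup.subset_closure (hgen z hz g)
      | one => simp [N.one_mem]
      | mul a b _ _ ha hb =>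
        rw [show g * (a * b) * g⁻¹ = g * a * g⁻¹ * (g * b * g⁻¹) by group]
        exact N.mul_mem ha hb
      | inv a _ ha =>
        rw [show g * a⁻¹ * g⁻¹ = (g * a * g⁻¹)⁻¹ by group]
        exact N.inv_mem ha⟩
    have hNinv : Inv K N := by
      intro k z hz
      induction hz using Subgroup.closure_induction with
      | mem z hz =>
        rcases hz with hz | ⟨x, rfl⟩
        · exact Subgroup.subset_closure (Or.inl (hA.inv k z hz))
        · exact Subgroup.subset_closure (Or.inr ⟨(k : MulAut P) x, (map_mul _ x x).symm⟩)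
      | one => rw [map_one]; exact N.one_mem
      | mul a b _ _ ha hb => rw [map_mul]; exact N.mul_mem ha hb
      | inv a _ ha => rw [map_inv]; exact N.inv_mem ha
    have hAN : A ≤ N := fun a ha => Subgroup.subset_closure (Or.inl ha)
    haveI := step_normal hAn
    have hcomm : ∀ w ∈ step A hAn, ∀ z ∈ N, w * z = z * w := by
      intro w hw z hz
      induction hz using Subgroup.closure_induction with
      | mem z hz =>
        rcases hz with hz | ⟨x, rfl⟩
        · exact Subgroup.mem_center_iff.1 (S.central z (hAΩ z hz)) w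
        · refine cm_eq_one_iff.1 ?_
          rw [cm_mul_right (S.central _ (hAΩ _ (hw.2 x)))]
          exact hAΩ _ (hw.2 x)
      | one => simp
      | mul a b _ _ ha hb => rw [← mul_assoc, ha, mul_assoc, hb, mul_assoc]
      | inv a _ ha => exact (show Commute w a from ha).inv_right.eq
    have hNA : ¬ A < N := by
      intro hlt
      obtain ⟨w, hwN, hwA, hw2, hwg⟩ := exists_step S.pgroup hlt
      have hAW : A ≤ step A hAn ⊓ N := le_inf (fun a ha => ⟨A.mul_mem ha ha, fun g => by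
        rw [show cm a g = a * (g * a⁻¹ * g⁻¹) by simp only [cm]; group]
        exact A.mul_mem ha (hAn.conj_mem _ (A.inv_mem ha) g)⟩) hAN
      have heq := hmax (step A hAn ⊓ N) ⟨fun a ha b hb => hcomm a ha.1 b hb.2,
        fun k a ha => ⟨step_inv hA hAn k a ha.1, hNinv k a ha.2⟩,
        fun t ht => hAW (hA.invol t ht)⟩ inferInstance hAW
      exact hwA (heq ▸ ⟨⟨hw2, hwg⟩, hwN⟩)
    intro x
    refine hAΩ _ ?_
    rw [show A = N from (eq_of_le_of_not_lt hAN hNA)]
    exact Subgroup.subset_closure (Or.inr ⟨x, rfl⟩)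
  · exact sq_sq_of_four S hA hAn hf hmax
  · exact absurd (exp_le S hA hAn hf h3 hmax) hAtop

end Cfsg.Agent.Char.SolvTrans
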