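import Mathlib
import Cfsg.Agent.Lib.Char.SolvTransStruct
import Cfsg.Agent.S3360

/-!
A 2-group with a solvable group of automorphisms transitive on its involutions carries the standing
hypotheses: the transitive group is semilinear, and its linear part induces scalars of index dividing
the degree.
-/

set_option autoImplicit false
set_option linter.style.haveILetI false

namespace Cfsg.Agent.Char.SolvTrans

variable {P : Type*} [Group P]

/-- The number of automorphisms of a finite field of characteristic two is its degree. -/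
theorem card_aut {F : Type*} [Field F] [Fintype F] [CharP F 2] {n : ℕ} (hc : Fintype.card F = 2 ^ n) :
    Nat.card (F ≃+* F) = n := by
  classical
  haveI : Fact (Nat.Prime 2) := ⟨Nat.prime_two⟩
  letI := ZMod.algebra F 2
  have hfr : Module.finrank (ZMod 2) F = n := by
    have h := Module.card_eq_pow_finrank (K := ZMod 2) (V := F)
    rw [ZMod.card, hc] at h
    exact (Nat.pow_right_injective le_rfl h).symm
  have hb : Function.Bijective (fun e : F ≃ₐ[ZMod 2] F => (e : F ≃+* F)) :=
    ⟨fun a b h => AlgEquiv.ext fun x => RingEquiv.congr_fun h x, fun e =>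
      ⟨AlgEquiv.ofRingEquiv (f := e) fun r => by
        have := RingHom.congr_fun (RingHom.ext_zmod ((e : F →+* F).comp (algebraMap (ZMod 2) F))
          (algebraMap (ZMod 2) F)) r
        simpa using this, RingEquiv.ext fun x => rfl⟩⟩
  rw [← Nat.card_congr (Equiv.ofBijective _ hb), IsGalois.card_aut_eq_finrank, hfr]

/-- All involutions are central when the automorphisms are transitive on them. -/
theorem central_of_trans [Finite P] (hp : IsPGroup 2 P)
    (htr : ∀ x y : P, x ≠ 1 → x * x = 1 → y ≠ 1 → y * y = 1 → ∃ a : MulAut P, a x = y) :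
    ∀ t : P, t * t = 1 → t ∈ Subgroup.center P := by
  intro t ht
  by_cases h1 : t = 1
  · rw [h1]; exact one_mem _
  haveI : Fact (Nat.Prime 2) := ⟨Nat.prime_two⟩
  haveI : Nontrivial P := ⟨⟨t, 1, h1⟩⟩
  haveI := hp.center_nontrivial
  have h2 : 2 ∣ Nat.card (Subgroup.center P) := by
    obtain ⟨m, hm⟩ := IsPGroup.iff_card.1 (hp.to_subgroup (Subgroup.center P))
    have := Finite.one_lt_card (α := Subgroup.center P)
    rcases m with _ | m
    · omega
    · exact hm ▸ dvd_pow_self 2 m.succ_ne_zero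
  obtain ⟨⟨z, hz⟩, hord⟩ := exists_prime_orderOf_dvd_card' 2 h2
  rw [Subgroup.orderOf_mk] at hord
  obtain ⟨a, ha⟩ := htr z t (fun h => by rw [h, orderOf_one] at hord; omega)
    (by rw [← pow_two, ← hord, pow_orderOf_eq_one]) h1 ht
  rw [← ha, Subgroup.mem_center_iff]
  intro g
  obtain ⟨g', rfl⟩ := a.surjective g
  rw [← map_mul, Subgroup.mem_center_iff.1 hz, map_mul]

theorem exists_setting [Finite P] (hp : IsPGroup 2 P)
    (htwo : ∃ x y : P, x ≠ y ∧ x ≠ 1 ∧ x * x = 1 ∧ y ≠ 1 ∧ y * y = 1)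
    (Y : Subgroup (MulAut P)) (hsol : Group.IsSolvable Y)
    (htr : ∀ x y : P, x ≠ 1 → x * x = 1 → y ≠ 1 → y * y = 1 → ∃ a ∈ Y, a x = y) :
    ∃ (F : Type) (_ : Field F) (_ : Fintype F) (_ : CharP F 2) (K : Subgroup (MulAut P)) (n : ℕ)
      (ω : P → F) (u : K →* Fˣ), Setting P K n F ω u := by
  classical
  haveI : Finite (MulAut P) :=
    Finite.of_injective (fun e : MulAut P => (e : P → P)) DFunLike.coe_injective
  haveI : Fact (Nat.Prime 2) := ⟨Nat.prime_two⟩
  have hcen := central_of_trans hp fun x y a b c d => (htr x y a b c d).imp fun _ h => h.2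
  let Ω : Subgroup P :=
    { carrier := {t | t * t = 1}
      one_mem' := one_mul 1
      mul_mem' := fun {a b} ha hb => by
        show a * b * (a * b) = 1
        rw [← mul_assoc, mul_assoc a b a, Subgroup.mem_center_iff.1 (hcen a ha) b, ← mul_assoc,
          show a * a = 1 from ha, one_mul]
        exact hb
      inv_mem' := fun {a} ha => by
        show a⁻¹ * a⁻¹ = 1
        rw [← mul_inv_rev, show a * a = 1 from ha, inv_one] }
  letI : CommGroup Ω :=
    { (inferInstance : Group Ω) with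
      mul_comm := fun a b => Subtype.ext (Subgroup.mem_center_iff.1 (hcen b b.2) a) }
  letI : Module (ZMod 2) (Additive Ω) := AddCommGroup.zmodModule fun x => by
    rw [two_nsmul]; exact Subtype.ext x.toMul.2
  obtain ⟨x₁, x₂, hx12, hx1, hx1', hx2, hx2'⟩ := htwo
  haveI : Nontrivial (Additive Ω) :=
    ⟨⟨Additive.ofMul ⟨x₁, hx1'⟩, Additive.ofMul ⟨x₂, hx2'⟩, fun h => hx12 (congrArg Subtype.val h)⟩⟩
  have hinv : ∀ (a : MulAut P) (t : P), t ∈ Ω → a t ∈ Ω := fun a t ht => by
    show a t * a t = 1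
    rw [← map_mul, show t * t = 1 from ht, map_one]
  let act : Y →* (Additive Ω ≃ₗ[ZMod 2] Additive Ω) :=
    { toFun := fun g =>
        (({ toFun := fun t => ⟨(g : MulAut P) t, hinv _ _ t.2⟩
            invFun := fun t => ⟨(g : MulAut P).symm t, hinv _ _ t.2⟩
            left_inv := fun t => Subtype.ext ((g : MulAut P).symm_apply_apply _)
            right_inv := fun t => Subtype.ext ((g : MulAut P).apply_symm_apply _)
            map_mul' := fun a b => Subtype.ext (map_mul _ _ _) } : Ω ≃* Ω).toAdditive).toLinearEquiv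
          fun c x => by
            exact ZMod.map_smul (AddMonoidHom.mk'
              (fun x : Additive Ω => Additive.ofMul (⟨(g : MulAut P) x.toMul, hinv _ _ x.toMul.2⟩ : Ω))
              fun a b => Subtype.ext (map_mul (g : MulAut P) _ _)) c x
      map_one' := LinearEquiv.ext fun t => rfl
      map_mul' := fun a b => LinearEquiv.ext fun t => rfl }
  have hact : ∀ (g : Y) (t : P) (ht : t ∈ Ω),
      act g (Additive.ofMul ⟨t, ht⟩) = Additive.ofMul ⟨(g : MulAut P) t, hinv _ _ ht⟩ :=
    fun g t ht => rfl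
  haveI := hsol
  haveI : Finite (Additive Ω ≃ₗ[ZMod 2] Additive Ω) :=
    Finite.of_injective (fun e => (e : Additive Ω → Additive Ω)) DFunLike.coe_injective
  have hsol' : Group.IsSolvable act.range :=
    Group.isSolvable_of_surjective act.rangeRestrict_surjective
  have htrans : ∀ v w : Additive Ω, v ≠ 0 → w ≠ 0 → ∃ g : act.range, act.range.subtype g v = w := by
    intro v w hv hw
    obtain ⟨a, ha, he⟩ := htr v.toMul w.toMul (fun h => hv (Subtype.ext h)) v.toMul.2
      (fun h => hw (Subtype.ext h)) w.toMul.2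
    exact ⟨⟨act ⟨a, ha⟩, ⟨_, rfl⟩⟩, Subtype.ext he⟩
  obtain ⟨m, hm⟩ := IsPGroup.iff_card.1 (hp.to_subgroup Ω)
  have hcardV : Nat.card (Additive Ω) = 2 ^ m := by rw [← hm]; exact Nat.card_congr Additive.toMul
  rcases Cfsg.Agent.S3360.result 2 hsol' act.range.subtype (Subgroup.subtype_injective _) htrans with
    ⟨F, hF, hFt, e, he⟩ | hex
  swap
  · exfalso
    rw [hcardV] at hex
    simp only [Set.mem_insert_iff, Set.mem_singleton_iff] at hex
    rcases m with _ | m
    · omega
    · rw [pow_succ] at hex; omega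
  have hcF : Fintype.card F = 2 ^ m := by
    rw [← hcardV, ← Nat.card_eq_fintype_card]; exact Nat.card_congr e.symm.toEquiv
  haveI hF2 : CharP F 2 := by
    refine CharTwo.of_one_ne_zero_of_two_eq_zero one_ne_zero ?_
    obtain ⟨v, hv⟩ := e.surjective 1
    have h0 : v + v = 0 := Subtype.ext v.toMul.2
    have h1 := congrArg e h0
    rw [map_add, map_zero, hv] at h1
    linear_combination h1
  have hm2 : 2 ≤ m := by
    by_contra hlt
    have h1 : Nat.card Ω ≤ 2 := hm ▸ (Nat.pow_le_pow_right (by norm_num) (show m ≤ 1 by omega))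
    have h2 : ({1, x₁, x₂} : Set P).ncard = 3 :=
      Set.ncard_eq_three.2 ⟨1, x₁, x₂, hx1.symm, fun h => hx2 h.symm, hx12, rfl⟩
    have h3 : ({1, x₁, x₂} : Set P).ncard ≤ (Ω : Set P).ncard := by
      refine Set.ncard_le_ncard ?_
      rintro x (rfl | rfl | rfl)
      · exact Ω.one_mem
      · exact hx1'
      · exact hx2'
    rw [← Nat.card_coe_set_eq (Ω : Set P), SetLike.coe_sort_coe] at h3
    omega
  let ω : P → F := fun t => if h : t * t = 1 then e (Additive.ofMul ⟨t, h⟩) else 0
  have hω : ∀ {t : P} (h : t * t = 1), ω t = e (Additive.ofMul ⟨t, h⟩) := fun {t} h => dif_pos h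
  have hadd : ∀ x y : P, x * x = 1 → y * y = 1 → ω (x * y) = ω x + ω y := by
    intro x y hx hy
    rw [hω hx, hω hy, hω (Ω.mul_mem (x := x) (y := y) hx hy), ← map_add]
    rfl
  have hinj : ∀ x y : P, x * x = 1 → y * y = 1 → ω x = ω y → x = y := by
    intro x y hx hy hxy
    rw [hω hx, hω hy] at hxy
    exact congrArg Subtype.val (e.injective hxy)
  have hsurj : ∀ v : F, ∃ x : P, x * x = 1 ∧ ω x = v := by
    intro v
    obtain ⟨t, ht⟩ := e.surjective v
    exact ⟨t.toMul, t.toMul.2, by rw [hω t.toMul.2]; exact ht⟩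
  have hsemi : ∀ g : Y, ∃ (a : F) (σ : F ≃+* F), ∀ t : P, t * t = 1 →
      ω ((g : MulAut P) t) = a * σ (ω t) := by
    intro g
    obtain ⟨a, σ, h⟩ := he ⟨act g, ⟨g, rfl⟩⟩
    exact ⟨a, σ, fun t ht => by
      rw [hω ht, hω (hinv _ t ht)]; exact h (Additive.ofMul ⟨t, ht⟩)⟩
  choose co s hs using hsemi
  obtain ⟨t₁, ht₁, hωt₁⟩ := hsurj 1
  have hco : ∀ g : Y, ω ((g : MulAut P) t₁) = co g := fun g => by
    rw [hs g t₁ ht₁, hωt₁, map_one, mul_one]
  have hco0 : ∀ g : Y, co g ≠ 0 := by
    intro g h0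
    have h1 : ω ((g : MulAut P) t₁) = ω 1 := by
      rw [hco, h0]
      have := hadd 1 1 (one_mul 1) (one_mul 1)
      rw [one_mul] at this
      linear_combination this
    have h2 := hinj _ _ (hinv _ t₁ ht₁) (one_mul 1) h1
    rw [map_eq_one_iff _ (g : MulAut P).injective] at h2
    rw [h2] at hωt₁
    have := hadd 1 1 (one_mul 1) (one_mul 1)
    rw [one_mul, hωt₁] at this
    exact one_ne_zero (by linear_combination -this : (1 : F) = 0)
  have huni : ∀ (g : Y) (a : F) (σ : F ≃+* F),
      (∀ t : P, t * t = 1 → ω ((g : MulAut P) t) = a * σ (ω t)) → co g = a ∧ s g = σ := by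
    intro g a σ h
    have h1 : co g = a := by rw [← hco g, h t₁ ht₁, hωt₁, map_one, mul_one]
    refine ⟨h1, RingEquiv.ext fun v => ?_⟩
    obtain ⟨t, ht, rfl⟩ := hsurj v
    exact mul_left_cancel₀ (hco0 g) (((hs g t ht).symm.trans (h t ht)).trans (by rw [h1]))
  have hmul : ∀ g g' : Y, co (g * g') = co g * s g (co g') ∧ s (g * g') = s g * s g' := by
    intro g g'
    refine huni _ _ _ fun t ht => ?_
    show ω ((g : MulAut P) ((g' : MulAut P) t)) = _
    rw [hs g _ (hinv _ t ht), hs g' t ht, map_mul, mul_assoc]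
    rfl
  let sh : Y →* (F ≃+* F) := MonoidHom.mk' s fun g g' => (hmul g g').2
  set L := sh.ker with hL
  let χ : L →* Fˣ := MonoidHom.mk' (fun g => Units.mk0 (co g) (hco0 g)) fun g g' => Units.ext (by
    show co ((g : Y) * g') = co g * co g'
    rw [(hmul g g').1, show s g = 1 from g.2]; rfl)
  -- the stabilizer of the involution with coordinate one
  let Y₁ : Subgroup Y :=
    { carrier := {g | (g : MulAut P) t₁ = t₁}
      one_mem' := rfl
      mul_mem' := fun {a b} ha hb => by
        show (a : MulAut P) ((b : MulAut P) t₁) = t₁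
        rw [hb, ha]
      inv_mem' := fun {a} ha => by
        show ((a : MulAut P))⁻¹ t₁ = t₁
        rw [MulAut.inv_apply, MulEquiv.symm_apply_eq]; exact ha.symm }
  have hY₁ : Y₁.index = Nat.card Fˣ := by
    refine Nat.card_congr (Equiv.ofBijective (Quotient.lift (fun g : Y => Units.mk0 (co g) (hco0 g))
      fun a b hab => ?_) ⟨?_, fun x => ?_⟩)
    · have h1 : (a⁻¹ * b : Y) ∈ Y₁ := QuotientGroup.leftRel_apply.1 hab
      refine Units.ext ?_
      show co a = co b
      rw [← hco, ← hco, show (b : MulAut P) t₁ = (a : MulAut P) (((a⁻¹ * b : Y) : MulAut P) t₁) by simp,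
        show ((a⁻¹ * b : Y) : MulAut P) t₁ = t₁ from h1]
    · intro qa qb
      refine Quotient.inductionOn₂ qa qb fun a b hab => Quotient.sound (QuotientGroup.leftRel_apply.2 ?_)
      have h1 : co a = co b := congrArg Units.val hab
      rw [← hco, ← hco] at h1
      have h2 := hinj _ _ (hinv _ t₁ ht₁) (hinv _ t₁ ht₁) h1
      show ((a : MulAut P))⁻¹ ((b : MulAut P) t₁) = t₁
      rw [← h2]; exact MulEquiv.symm_apply_apply _ _
    · obtain ⟨t, ht, hv⟩ := hsurj (x : F)
      have h1 : t ≠ 1 := by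
        rintro rfl
        have := hadd 1 1 (one_mul 1) (one_mul 1)
        rw [one_mul, hv] at this
        exact x.ne_zero (by linear_combination -this)
      have h2 : t₁ ≠ 1 := by
        rintro rfl
        have := hadd 1 1 (one_mul 1) (one_mul 1)
        rw [one_mul, hωt₁] at this
        exact one_ne_zero (by linear_combination -this : (1 : F) = 0)
      obtain ⟨a, ha, hat⟩ := htr t₁ t h2 ht₁ h1 ht
      exact ⟨Quotient.mk _ ⟨a, ha⟩, Units.ext (by
        show co ⟨a, ha⟩ = _; rw [← hco, hat, hv])⟩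
  have hidx : χ.range.index ∣ m := by
    have hker : χ.ker = Y₁.subgroupOf L := by
      ext g
      rw [MonoidHom.mem_ker, Subgroup.mem_subgroupOf]
      show Units.mk0 (co g) (hco0 g) = 1 ↔ ((g : Y) : MulAut P) t₁ = t₁
      rw [Units.ext_iff, Units.val_mk0, Units.val_one, ← hωt₁, ← hco]
      exact ⟨fun h => hinj _ _ (hinv _ t₁ ht₁) ht₁ h, fun h => by rw [h]⟩
    have h1 : Nat.card χ.range = Y₁.relIndex L := by
      rw [← Subgroup.index_ker χ, hker]; rfl
    have h2 : L.index ∣ m := by
      rw [hL, Subgroup.index_ker, ← card_aut (F := F) hcF]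
      exact Subgroup.card_subgroup_dvd_card _
    have h3 := Subgroup.card_mul_index χ.range
    have h4 : (Y₁ ⊓ L).index = Y₁.relIndex L * L.index := by
      rw [← Subgroup.inf_relIndex_right]; exact (Subgroup.relIndex_mul_index inf_le_right).symm
    have h5 : (Y₁ ⊓ L).index = L.relIndex Y₁ * Y₁.index := by
      rw [← Subgroup.inf_relIndex_right L Y₁, inf_comm L Y₁]
      exact (Subgroup.relIndex_mul_index inf_le_left).symm
    rw [h5, hY₁, ← h3, h1, mul_left_comm] at h4
    refine dvd_trans ⟨L.relIndex Y₁, ?_⟩ h2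
    have hpos : 0 < Y₁.relIndex L := h1 ▸ Nat.card_pos
    exact (Nat.eq_of_mul_eq_mul_left hpos h4).symm.trans (mul_comm _ _)
  -- a cyclic subgroup of odd order
  obtain ⟨⟨c, y, hy⟩, hc⟩ := IsCyclic.exists_ofOrder_eq_natCard (α := χ.range)
  subst hy
  obtain ⟨v, d, hd2, hvd⟩ := Nat.exists_eq_pow_mul_and_not_dvd (orderOf_pos y).ne' 2 (by norm_num)
  set z := y ^ 2 ^ v with hz
  have hzo : orderOf z = d := by
    rw [hz, orderOf_pow_of_dvd (by positivity) ⟨d, hvd⟩, hvd, Nat.mul_div_cancel_left _ (by positivity)]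
  have hodd : ¬ 2 ∣ orderOf (χ y) := by
    intro h
    have h1 := h.trans (orderOf_dvd_natCard _)
    rw [Nat.card_units, Nat.card_eq_fintype_card, hcF] at h1
    have h2 : 2 ∣ 2 ^ m := dvd_pow_self 2 (by omega)
    have := Nat.one_le_two_pow (n := m)
    omega
  have hzgen : Subgroup.zpowers (χ z) = χ.range := by
    refine Subgroup.eq_of_le_of_card_ge (Subgroup.zpowers_le.2 ⟨z, rfl⟩) ?_
    rw [Nat.card_zpowers, hz, map_pow, Nat.Coprime.orderOf_pow, ← hc, ← Subgroup.orderOf_coe]
    exact ((Nat.prime_two.coprime_iff_not_dvd.2 hodd).pow_left v).symm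
  let K : Subgroup (MulAut P) := Subgroup.zpowers ((z : Y) : MulAut P)
  have hKL : ∀ k : K, ∃ g : L, ((g : Y) : MulAut P) = k := by
    rintro ⟨k, hk⟩
    obtain ⟨i, rfl⟩ := Subgroup.mem_zpowers_iff.1 hk
    exact ⟨z ^ i, by simp⟩
  choose lift hlift using hKL
  have hliftmul : ∀ k k' : K, lift (k * k') = lift k * lift k' := fun k k' => by
    refine Subtype.ext (Subtype.ext ?_)
    simp only [Subgroup.coe_mul, hlift]
  let u : K →* Fˣ := χ.comp (MonoidHom.mk' lift hliftmul)
  have hu : u.range = χ.range := by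
    refine le_antisymm (fun x hx => ?_) ?_
    · obtain ⟨k, rfl⟩ := hx; exact ⟨_, rfl⟩
    · rw [← hzgen, Subgroup.zpowers_le]
      refine ⟨⟨_, Subgroup.mem_zpowers _⟩, congrArg χ ?_⟩
      exact Subtype.ext (Subtype.ext (hlift _))
  refine ⟨F, hF, hFt, hF2, K, m, ω, u, ‹Finite P›, hp, hcen, hcF, hm2, hu ▸ hidx, ?_, hadd, ?_, hinj,
    hsurj⟩
  · rw [Nat.card_zpowers, Subgroup.orderOf_coe, Subgroup.orderOf_coe, hzo]
    exact Nat.not_even_iff_odd.1 fun h => hd2 (even_iff_two_dvd.1 h)
  · intro k x hx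
    show ω _ = co (lift k) * ω x
    rw [← hlift k, hs _ x hx, show s (lift k : Y) = 1 from (lift k).2]
    rfl

end Cfsg.Agent.Char.SolvTrans
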