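import Cfsg.Agent.Lib.Block.GroupAlgebra
import Mathlib.LinearAlgebra.Matrix.Charpoly.Coeff
import Mathlib.RingTheory.Polynomial.ScaleRoots

/-!
Spectral idempotents in the group algebra over the local ring: the local ring is integrally closed
and its fraction field is algebraically closed, so an element splits into a part invertible modulo
the maximal ideal and a part nilpotent modulo it.
-/

namespace Cfsg.Agent.Char.Spec

open Cfsg.Agent.Block Polynomial

set_option linter.unusedSectionVars false
set_option linter.style.haveILetI false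

universe u

variable {p : ℕ} {M : Ideal AlgInt}

/-- A common denominator outside `M`. -/
theorem exists_common_den (hM : IsPModular p M) {ι : Type*} (s : Finset ι) {c : ι → ℂ}
    (h : ∀ i ∈ s, MemLocalRing M (c i)) :
    ∃ b : AlgInt, b ∉ M ∧ ∀ i ∈ s, IsIntegral ℤ ((b : ℂ) * c i) := by
  classical
  induction s using Finset.induction with
  | empty => exact ⟨1, pmod_one_notMem hM, fun i hi => absurd hi (Finset.notMem_empty i)⟩
  | insert i t hi ih =>
    obtain ⟨b, hb, hbt⟩ := ih fun j hj => h j (Finset.mem_insert_of_mem hj)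
    obtain ⟨a, d, hd, hc⟩ := h i (Finset.mem_insert_self i t)
    refine ⟨b * d, pmod_mul_notMem hM hb hd, fun j hj => ?_⟩
    rcases Finset.mem_insert.1 hj with rfl | hj
    · rw [← hc]
      push_cast
      rw [mul_assoc, mul_div_cancel₀ _ (pmod_coe_ne_zero hd)]
      exact b.2.mul a.2
    · push_cast
      rw [mul_right_comm]
      exact (hbt j hj).mul d.2

/-- A root of a monic polynomial over the local ring lies in it. -/
theorem ring_of_isRoot (hM : IsPModular p M) {P : ℂ[X]} (hP : P.Monic)
    (hc : ∀ i, MemLocalRing M (P.coeff i)) {z : ℂ} (hz : P.IsRoot z) : MemLocalRing M z := by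
  obtain ⟨b, hb, hbc⟩ := exists_common_den hM (Finset.range P.natDegree) fun i _ => hc i
  have hint : IsIntegral ℤ ((b : ℂ) * z) := by
    have hroot : (P.scaleRoots (b : ℂ)).IsRoot ((b : ℂ) * z) := by
      exact scaleRoots_eval₂_eq_zero (RingHom.id ℂ) hz
    have hcoef : ∀ i, IsIntegral ℤ ((P.scaleRoots (b : ℂ)).coeff i) := by
      intro i
      rw [coeff_scaleRoots]
      rcases lt_trichotomy i P.natDegree with hi | hi | hi
      · obtain ⟨k, hk⟩ : ∃ k, P.natDegree - i = k + 1 := ⟨P.natDegree - i - 1, by omega⟩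
        rw [hk, pow_succ', ← mul_assoc, mul_comm (P.coeff i)]
        exact (hbc i (Finset.mem_range.2 hi)).mul (b.2.pow k)
      · rw [hi, hP.coeff_natDegree, one_mul, Nat.sub_self, pow_zero]
        exact isIntegral_one
      · rw [coeff_eq_zero_of_natDegree_lt hi, zero_mul]
        exact isIntegral_zero
    let Q : (integralClosure ℤ ℂ)[X] :=
      ∑ i ∈ Finset.range ((P.scaleRoots (b : ℂ)).natDegree + 1),
        monomial i ⟨_, hcoef i⟩
    have hQ : Q.map (algebraMap (integralClosure ℤ ℂ) ℂ) = P.scaleRoots (b : ℂ) := by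
      rw [Polynomial.map_sum]
      conv_rhs => rw [Polynomial.as_sum_range (P.scaleRoots (b : ℂ))]
      exact Finset.sum_congr rfl fun i _ => map_monomial _
    refine isIntegral_trans (A := integralClosure ℤ ℂ) _ ⟨Q, ?_, ?_⟩
    · exact monic_of_injective Subtype.val_injective (hQ ▸ (monic_scaleRoots_iff _).2 hP)
    · rw [eval₂_eq_eval_map, hQ]
      exact hroot
  refine ⟨⟨(b : ℂ) * z, hint⟩, b, hb, ?_⟩
  exact mul_div_cancel_left₀ z (pmod_coe_ne_zero hb)

variable {G : Type u} [Group G]

/-- All coefficients lie in the ideal of the local ring. -/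
def AlgIdeal (M : Ideal AlgInt) (x : MonoidAlgebra ℂ G) : Prop :=
  ∀ g, MemLocalIdeal M (x.coeff g)

theorem AlgIdeal.ring {x : MonoidAlgebra ℂ G} (hx : AlgIdeal M x) : AlgRing M x :=
  fun g => ring_of_ideal (hx g)

theorem AlgIdeal.zero (hM : IsPModular p M) : AlgIdeal M (0 : MonoidAlgebra ℂ G) := fun g => by
  simpa using ideal_zero hM

theorem AlgIdeal.add (hM : IsPModular p M) {x y : MonoidAlgebra ℂ G} (hx : AlgIdeal M x)
    (hy : AlgIdeal M y) : AlgIdeal M (x + y) := fun g => by
  rw [MonoidAlgebra.coeff_add, Finsupp.add_apply]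
  exact ideal_add hM (hx g) (hy g)

theorem AlgIdeal.neg {x : MonoidAlgebra ℂ G} (hx : AlgIdeal M x) : AlgIdeal M (-x) := fun g => by
  rw [MonoidAlgebra.coeff_neg, Finsupp.neg_apply]
  exact ideal_neg (hx g)

theorem AlgIdeal.sub (hM : IsPModular p M) {x y : MonoidAlgebra ℂ G} (hx : AlgIdeal M x)
    (hy : AlgIdeal M y) : AlgIdeal M (x - y) := by
  rw [sub_eq_add_neg]
  exact hx.add hM hy.neg

theorem AlgIdeal.sum (hM : IsPModular p M) {ι : Type*} {s : Finset ι}
    {x : ι → MonoidAlgebra ℂ G} (h : ∀ i ∈ s, AlgIdeal M (x i)) :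
    AlgIdeal M (∑ i ∈ s, x i) := fun g => by
  rw [MonoidAlgebra.coeff_sum, Finsupp.coe_finsetSum, Finset.sum_apply]
  exact ideal_sum hM fun i hi => h i hi g

variable [Fintype G] [DecidableEq G]

theorem AlgRing.add (hM : IsPModular p M) {x y : MonoidAlgebra ℂ G} (hx : AlgRing M x)
    (hy : AlgRing M y) : AlgRing M (x + y) := fun g => by
  rw [MonoidAlgebra.coeff_add, Finsupp.add_apply]
  exact ring_add hM (hx g) (hy g)

theorem AlgRing.sub (hM : IsPModular p M) {x y : MonoidAlgebra ℂ G} (hx : AlgRing M x)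
    (hy : AlgRing M y) : AlgRing M (x - y) := by
  rw [sub_eq_add_neg]
  exact AlgRing.add hM hx hy.neg

theorem AlgRing.one (hM : IsPModular p M) : AlgRing M (1 : MonoidAlgebra ℂ G) := by
  rw [MonoidAlgebra.one_def]
  exact AlgRing.single hM 1

theorem AlgRing.zero (hM : IsPModular p M) : AlgRing M (0 : MonoidAlgebra ℂ G) :=
  (AlgIdeal.zero hM).ring

theorem AlgRing.pow (hM : IsPModular p M) {x : MonoidAlgebra ℂ G} (hx : AlgRing M x) :
    ∀ n : ℕ, AlgRing M (x ^ n)
  | 0 => by rw [pow_zero]; exact AlgRing.one hM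
  | n + 1 => by rw [pow_succ]; exact (AlgRing.pow hM hx n).mul hM hx

theorem coeff_mul_apply (x y : MonoidAlgebra ℂ G) (g : G) :
    (x * y).coeff g = ∑ h : G, x.coeff (g * h⁻¹) * y.coeff h := by
  have h := congrFun (congrFun (map_mul (leftMat (G := G)) x y) g) 1
  simpa [Matrix.mul_apply, leftMat_apply] using h

theorem AlgIdeal.mul_left (hM : IsPModular p M) {x y : MonoidAlgebra ℂ G} (hx : AlgRing M x)
    (hy : AlgIdeal M y) : AlgIdeal M (x * y) := fun g => by
  rw [coeff_mul_apply]
  exact ideal_sum hM fun h _ => ideal_mul_left hM (hx _) (hy _)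

theorem AlgIdeal.mul_right (hM : IsPModular p M) {x y : MonoidAlgebra ℂ G} (hx : AlgIdeal M x)
    (hy : AlgRing M y) : AlgIdeal M (x * y) := fun g => by
  rw [coeff_mul_apply]
  exact ideal_sum hM fun h _ => ideal_mul_right hM (hx _) (hy _)

theorem leftMat_injective : Function.Injective (leftMat (G := G)) := fun x y h => by
  ext g
  have := congrFun (congrFun h g) 1
  simpa [leftMat_apply] using this

/-- An idempotent which vanishes modulo the maximal ideal is zero. -/
theorem idem_eq_zero (hM : IsPModular p M) {e : MonoidAlgebra ℂ G} (he : AlgIdeal M e)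
    (hee : e * e = e) : e = 0 := by
  obtain ⟨W, hW, hPW, -⟩ := exists_intertwiner hM (P := leftMat e) (Q := 0) he.ring.matRing
    (fun i j => by simpa using ring_zero hM) (by rw [← map_mul, hee]) (zero_mul 0)
    (fun i j => by rw [Matrix.zero_apply, sub_zero, leftMat_apply]; exact he _)
  refine leftMat_injective ?_
  rw [map_zero]
  calc leftMat e = leftMat e * W * W⁻¹ := by
        rw [mul_assoc, Matrix.mul_nonsing_inv W hW, mul_one]
    _ = 0 := by rw [hPW, mul_zero, zero_mul]

/-- The spectral idempotent of an element: it splits off the part invertible modulo `M`. -/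
theorem exists_spectral (hM : IsPModular p M) {x : MonoidAlgebra ℂ G} (hx : AlgRing M x) :
    ∃ δ y : MonoidAlgebra ℂ G, AlgRing M δ ∧ AlgRing M y ∧ δ * δ = δ ∧
      (∀ a, Commute x a → Commute δ a ∧ Commute y a) ∧ x * y * δ = δ ∧
      ∃ N : ℕ, AlgIdeal M (x ^ N * (1 - δ)) := by
  classical
  let R := localRing hM
  let π : R →+* R ⧸ localIdeal hM := Ideal.Quotient.mk _
  let A : Matrix G G R := fun s t => ⟨leftMat x s t, hx.matRing s t⟩
  have hA : A.map R.subtype = leftMat x := rfl
  have hP : (leftMat x).charpoly = A.charpoly.map R.subtype := by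
    rw [← hA, Matrix.charpoly_map]
  set P := (leftMat x).charpoly with hPdef
  have hPm : P.Monic := Matrix.charpoly_monic _
  have hPc : ∀ i, MemLocalRing M (P.coeff i) := fun i => by
    rw [hP, coeff_map]
    exact (A.charpoly.coeff i).2
  have hroots : ∀ r ∈ P.roots, MemLocalRing M r := fun r hr =>
    ring_of_isRoot hM hPm hPc ((mem_roots hPm.ne_zero).1 hr)
  set S : Multiset R := P.roots.attach.map fun r => (⟨r.1, hroots r.1 r.2⟩ : R) with hS
  let S₁ := S.filter fun r => r ∈ localIdeal hM
  let S₂ := S.filter fun r => ¬ r ∈ localIdeal hM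
  set m₁ : R[X] := (S₁.map fun r => X - C r).prod with hm₁
  set m₂ : R[X] := (S₂.map fun r => X - C r).prod with hm₂
  have hprod : (m₁ * m₂).map R.subtype = P := by
    rw [hm₁, hm₂, ← Multiset.prod_add, ← Multiset.map_add, Multiset.filter_add_not]
    have h1 : ((S.map fun r => X - C r).prod).map R.subtype =
        (P.roots.map fun r => X - C r).prod := by
      rw [Polynomial.map_multiset_prod, hS, Multiset.map_map, Multiset.map_map]
      congr 1
      conv_rhs => rw [← Multiset.attach_map_val P.roots, Multiset.map_map]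
      exact Multiset.map_congr rfl fun r _ => by simp
    rw [h1]
    exact Polynomial.prod_multiset_X_sub_C_of_monic_of_roots_card_eq hPm
      (IsAlgClosed.card_roots_eq_natDegree (p := P))
  have hpair : ∀ r ∈ S₁, ∀ s ∈ S₂, IsCoprime (X - C r) (X - C s : R[X]) := by
    intro r hr s hs
    have h1 := (Multiset.mem_filter.1 hr).2
    have h2 := (Multiset.mem_filter.1 hs).2
    have hne : ¬ MemLocalIdeal M ((s : ℂ) - r) := fun h =>
      h2 ((mem_localIdeal hM).2 ((ideal_congr hM h).2 ((mem_localIdeal hM).1 h1)))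
    let w : R := ⟨((s : ℂ) - r)⁻¹, ring_inv hM (ring_sub hM s.2 r.2) hne⟩
    have hw : w * (s - r) = 1 := Subtype.ext (inv_mul_cancel₀ fun h => hne (h ▸ ideal_zero hM))
    refine ⟨C w, -C w, ?_⟩
    have h3 : C w * (C s - C r) = (1 : R[X]) := by rw [← C_sub, ← C_mul, hw, C_1]
    linear_combination h3
  have hcop : IsCoprime m₁ m₂ := by
    suffices h : ∀ T : Multiset R, (∀ r ∈ T, r ∈ S₁) →
        IsCoprime (T.map fun r => X - C r).prod m₂ from h S₁ fun r hr => hr
    intro T
    induction T using Multiset.induction with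
    | empty => intro _; simpa using isCoprime_one_left
    | cons r T ih =>
      intro hT
      rw [Multiset.map_cons, Multiset.prod_cons]
      refine IsCoprime.mul_left ?_ (ih fun t ht => hT t (Multiset.mem_cons_of_mem ht))
      suffices h : ∀ U : Multiset R, (∀ s ∈ U, s ∈ S₂) →
          IsCoprime (X - C r) (U.map fun s => X - C s).prod from h S₂ fun s hs => hs
      intro U
      induction U using Multiset.induction with
      | empty => intro _; simpa using isCoprime_one_right
      | cons s U ih' =>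
        intro hU
        rw [Multiset.map_cons, Multiset.prod_cons]
        exact IsCoprime.mul_right (hpair r (hT r (Multiset.mem_cons_self r T)) s
          (hU s (Multiset.mem_cons_self s U))) (ih' fun t ht => hU t (Multiset.mem_cons_of_mem ht))
  obtain ⟨a, b, hab⟩ := hcop
  let Φ : R[X] →+* MonoidAlgebra ℂ G := (aeval x).toRingHom.comp (mapRingHom R.subtype)
  have hΦX : Φ X = x := by simp [Φ]
  have hΦC : ∀ c : R, Φ (C c) = (c : ℂ) • (1 : MonoidAlgebra ℂ G) := fun c => by
    simp [Φ, Algebra.algebraMap_eq_smul_one]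
  have hΦring : ∀ q, AlgRing M (Φ q) := by
    intro q
    induction q using Polynomial.induction_on' with
    | add q r hq hr => rw [map_add]; exact AlgRing.add hM hq hr
    | monomial n c =>
      rw [← C_mul_X_pow_eq_monomial, map_mul, map_pow, hΦX, hΦC, smul_mul_assoc, one_mul]
      exact (AlgRing.pow hM hx n).smul hM c.2
  have hΦideal : ∀ q : R[X], (∀ i, q.coeff i ∈ localIdeal hM) → AlgIdeal M (Φ q) := by
    intro q hq
    rw [q.as_sum_range, map_sum]
    refine AlgIdeal.sum hM fun i _ g => ?_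
    rw [← C_mul_X_pow_eq_monomial, map_mul, map_pow, hΦX, hΦC, smul_mul_assoc, one_mul,
      MonoidAlgebra.coeff_smul, Finsupp.smul_apply, smul_eq_mul]
    exact ideal_mul_right hM (hq i) (AlgRing.pow hM hx i g)
  have hΦcomm : ∀ q a', Commute x a' → Commute (Φ q) a' := by
    intro q a' ha
    induction q using Polynomial.induction_on' with
    | add q r hq hr => rw [map_add]; exact hq.add_left hr
    | monomial n c =>
      rw [← C_mul_X_pow_eq_monomial, map_mul, map_pow, hΦX, hΦC, smul_mul_assoc, one_mul]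
      exact (ha.pow_left n).smul_left _
  have hΦzero : Φ (m₁ * m₂) = 0 := by
    show aeval x ((m₁ * m₂).map R.subtype) = 0
    rw [hprod]
    refine leftMat_injective ?_
    rw [map_zero, ← aeval_algHom_apply, hPdef]
    exact Matrix.aeval_self_charpoly _
  have hc0 : ¬ MemLocalIdeal M ((m₂.coeff 0 : R) : ℂ) := by
    intro h
    have h1 : π (m₂.coeff 0) = 0 := Ideal.Quotient.eq_zero_iff_mem.2 ((mem_localIdeal hM).2 h)
    rw [coeff_zero_eq_eval_zero, hm₂, eval_multiset_prod, map_multiset_prod, Multiset.map_map,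
      Multiset.map_map] at h1
    haveI : Nontrivial (R ⧸ localIdeal hM) :=
      Ideal.Quotient.nontrivial_iff.2 ((Ideal.ne_top_iff_one _).2 fun h2 =>
        ideal_one hM (by simpa using (mem_localIdeal hM).1 h2))
    haveI : (localIdeal hM).IsPrime := ⟨(Ideal.ne_top_iff_one _).2 fun h2 =>
        ideal_one hM (by simpa using (mem_localIdeal hM).1 h2), fun {a b} h2 =>
      (ideal_or_of_mul hM a.2 b.2 (by simpa using (mem_localIdeal hM).1 h2)).imp
        (mem_localIdeal hM).2 (mem_localIdeal hM).2⟩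
    obtain ⟨s, hs, hs0⟩ := Multiset.mem_map.1 (Multiset.prod_eq_zero_iff.1 h1)
    refine (Multiset.mem_filter.1 hs).2 ?_
    simpa [π, Ideal.Quotient.eq_zero_iff_mem] using hs0
  let c : R := ⟨((m₂.coeff 0 : R) : ℂ)⁻¹, ring_inv hM (m₂.coeff 0).2 hc0⟩
  have hc : c * m₂.coeff 0 = 1 := Subtype.ext (inv_mul_cancel₀ fun h => hc0 (h ▸ ideal_zero hM))
  refine ⟨Φ (a * m₁), Φ (-(C c * m₂.divX)), hΦring _, hΦring _, ?_,
    fun a' ha => ⟨hΦcomm _ _ ha, hΦcomm _ _ ha⟩, ?_, Multiset.card S₁, ?_⟩
  · have h1 : Φ (a * m₁) * Φ (b * m₂) = 0 := by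
      rw [← map_mul, show a * m₁ * (b * m₂) = a * b * (m₁ * m₂) by ring, map_mul, hΦzero, mul_zero]
    rw [show b * m₂ = 1 - a * m₁ by rw [← hab]; ring, map_sub, map_one, mul_sub, mul_one,
      sub_eq_zero] at h1
    exact h1.symm
  · conv_lhs => rw [← hΦX, ← map_mul, ← map_mul]
    have h1 : X * -(C c * m₂.divX) * (a * m₁) = a * m₁ - C c * a * (m₁ * m₂) := by
      have h2 := X_mul_divX_add m₂
      have h3 : C c * C (m₂.coeff 0) = 1 := by rw [← C_mul, hc, C_1]
      linear_combination -(C c * a * m₁) * h2 + (a * m₁) * h3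
    rw [h1, map_sub, map_mul Φ (C c * a), hΦzero, mul_zero, sub_zero]
  · have h1 : Φ (1 - a * m₁) = 1 - Φ (a * m₁) := by rw [map_sub, map_one]
    have h2 : AlgIdeal M (Φ (m₁ - X ^ Multiset.card S₁)) := by
      refine hΦideal _ fun i => ?_
      rw [← Ideal.Quotient.eq_zero_iff_mem, ← coeff_map, Polynomial.map_sub, Polynomial.map_pow,
        map_X, hm₁, Polynomial.map_multiset_prod, Multiset.map_map]
      have h3 : S₁.map (Polynomial.map (Ideal.Quotient.mk (localIdeal hM)) ∘ fun r => X - C r) =
          Multiset.replicate (Multiset.card S₁) X := by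
        refine Multiset.eq_replicate.2 ⟨Multiset.card_map _ _, fun q hq => ?_⟩
        obtain ⟨r, hr, rfl⟩ := Multiset.mem_map.1 hq
        have h4 := Ideal.Quotient.eq_zero_iff_mem.2 (Multiset.mem_filter.1 hr).2
        simp [h4]
      rw [h3, Multiset.prod_replicate, sub_self, coeff_zero]
    have h3 := (AlgIdeal.mul_right hM h2 (hΦring (1 - a * m₁))).neg
    convert h3 using 1
    rw [← map_mul, sub_mul, map_sub, show m₁ * (1 - a * m₁) = b * (m₁ * m₂) by
      rw [← hab]; ring, map_mul Φ b, hΦzero, mul_zero, zero_sub, neg_neg]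
    rw [map_mul Φ (X ^ Multiset.card S₁), map_pow, hΦX, h1]

end Cfsg.Agent.Char.Spec
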