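import Cfsg.Agent.Lib.Char.BrauerInduction
import Mathlib.RepresentationTheory.Character
import Mathlib.RepresentationTheory.Maschke
import Mathlib.Analysis.SpecialFunctions.Complex.Circle
import Mathlib.GroupTheory.Exponent
import Mathlib.RingTheory.RootsOfUnity.Complex
import Mathlib.FieldTheory.IntermediateField.Adjoin.Algebra

/-!
Brauer's splitting field theorem, and representations with equal characters over a field of
characteristic zero.
-/

set_option autoImplicit false

namespace Cfsg.Agent.Char.Split

open scoped ComplexConjugate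
open Cfsg Module Representation

universe u

variable {G : Type u} [Group G] [Finite G]

section Field

variable {k : Type} [Field k] [CharZero k]

/-- The pairing of two functions with values in `k`. -/
noncomputable def pair [Fintype G] (a b : G → k) : k :=
  (Nat.card G : k)⁻¹ * ∑ g : G, a g * b g⁻¹

theorem pair_add_left [Fintype G] (a b c : G → k) : pair (a + b) c = pair a c + pair b c := by
  simp only [pair, Pi.add_apply, add_mul, Finset.sum_add_distrib, mul_add]

theorem pair_eq_finrank [Fintype G] {V W : Type} [AddCommGroup V] [Module k V]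
    [FiniteDimensional k V] [AddCommGroup W] [Module k W] [FiniteDimensional k W]
    (ρ : Representation k G V) (σ : Representation k G W) :
    pair σ.character ρ.character = (finrank k (IntertwiningMap ρ σ) : k) := by
  letI : Invertible (Nat.card G : k) := invertibleOfNonzero (Nat.cast_ne_zero.mpr Nat.card_pos.ne')
  exact card_inv_mul_sum_char_mul_char_eq_finrank ρ σ

theorem trace_add {V : Type} [AddCommGroup V] [Module k V] [FiniteDimensional k V]
    {p q : Submodule k V} (h : IsCompl p q) (f : V →ₗ[k] V)
    (hp : ∀ x ∈ p, f x ∈ p) (hq : ∀ x ∈ q, f x ∈ q) :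
    LinearMap.trace k V f =
      LinearMap.trace k p (f.restrict hp) + LinearMap.trace k q (f.restrict hq) := by
  let e := Submodule.prodEquivOfIsCompl p q h
  have he : f = e.conj ((f.restrict hp).prodMap (f.restrict hq)) := by
    refine LinearMap.ext fun x => ?_
    obtain ⟨y, rfl⟩ := e.surjective x
    rw [LinearEquiv.conj_apply_apply, LinearEquiv.symm_apply_apply]
    simp [e, Submodule.coe_prodEquivOfIsCompl]
  conv_lhs => rw [he]
  rw [LinearMap.trace_conj', LinearMap.trace_prodMap']

theorem exists_compl {V : Type} [AddCommGroup V] [Module k V] [FiniteDimensional k V]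
    (ρ : Representation k G V) (S : Subrepresentation ρ) :
    ∃ T : Subrepresentation ρ, IsCompl S.toSubmodule T.toSubmodule ∧
      ρ.character = S.toRepresentation.character + T.toRepresentation.character := by
  haveI : NeZero (Nat.card G : k) := ⟨Nat.cast_ne_zero.mpr Nat.card_pos.ne'⟩
  obtain ⟨T, hT⟩ := exists_isCompl S
  have hc : IsCompl S.toSubmodule T.toSubmodule :=
    ⟨disjoint_iff.mpr (congrArg Subrepresentation.toSubmodule hT.inf_eq_bot),
      codisjoint_iff.mpr (congrArg Subrepresentation.toSubmodule hT.sup_eq_top)⟩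
  exact ⟨T, hc, funext fun g => trace_add hc (ρ g) (fun _ hx => S.apply_mem_toSubmodule g hx)
    fun _ hx => T.apply_mem_toSubmodule g hx⟩

theorem exists_split' {V : Type} [AddCommGroup V] [Module k V] [FiniteDimensional k V]
    (ρ : Representation k G V) (h0 : finrank k V ≠ 0) (hirr : ¬ ρ.IsIrreducible) :
    ∃ S T : Subrepresentation ρ, IsCompl S.toSubmodule T.toSubmodule ∧
      finrank k S.toSubmodule < finrank k V ∧ finrank k T.toSubmodule < finrank k V ∧
      ρ.character = S.toRepresentation.character + T.toRepresentation.character := by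
  haveI : Nontrivial V := Module.nontrivial_of_finrank_pos (R := k) (Nat.pos_of_ne_zero h0)
  haveI : Nontrivial (Subrepresentation ρ) := ⟨⟨⊥, ⊤, fun h =>
    bot_ne_top (α := Submodule k V) (congrArg Subrepresentation.toSubmodule h)⟩⟩
  have hne : ∃ S : Subrepresentation ρ, S ≠ ⊥ ∧ S ≠ ⊤ := by
    by_contra h
    push Not at h
    exact hirr ⟨fun S => or_iff_not_imp_left.mpr (h S)⟩
  obtain ⟨S, hS0, hS1⟩ := hne
  obtain ⟨T, hc, hch⟩ := exists_compl ρ S
  have hsum := Submodule.finrank_add_eq_of_isCompl hc
  have hS0' : 0 < finrank k S.toSubmodule := Submodule.one_le_finrank_iff.mpr fun h =>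
    hS0 (Subrepresentation.toSubmodule_injective h)
  have hS1' : finrank k S.toSubmodule < finrank k V := Submodule.finrank_lt fun h =>
    hS1 (Subrepresentation.toSubmodule_injective h)
  exact ⟨S, T, hc, hS1', by omega, hch⟩

/-- Every nonzero representation has an irreducible subrepresentation. -/
theorem exists_irr_sub {V : Type} [AddCommGroup V] [Module k V] [FiniteDimensional k V]
    (ρ : Representation k G V) (h0 : finrank k V ≠ 0) :
    ∃ S : Subrepresentation ρ, S.toRepresentation.IsIrreducible ∧
      finrank k S.toSubmodule ≠ 0 := by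
  classical
  have hex : ∃ d, ∃ S : Subrepresentation ρ, finrank k S.toSubmodule = d ∧ d ≠ 0 :=
    ⟨_, ⊤, by exact finrank_top k V, h0⟩
  obtain ⟨S, hS, hd⟩ := Nat.find_spec hex
  refine ⟨S, ?_, hS ▸ hd⟩
  by_contra hirr
  obtain ⟨A, B, hc, hA, hB, -⟩ := exists_split' S.toRepresentation (hS ▸ hd) hirr
  have hsum := Submodule.finrank_add_eq_of_isCompl hc
  rcases Nat.eq_zero_or_pos (finrank k A.toSubmodule) with h | h
  · omega
  · refine Nat.find_min hex (hS ▸ hA) ⟨⟨A.toSubmodule.map S.toSubmodule.subtype,
      fun g v hv => ?_⟩, (Submodule.equivMapOfInjective _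
        S.toSubmodule.subtype_injective _).finrank_eq.symm, h.ne'⟩
    obtain ⟨x, hx, rfl⟩ := hv
    exact ⟨S.toRepresentation g x, A.apply_mem_toSubmodule g hx, rfl⟩

/-- Representations with the same character are equivalent. -/
theorem equiv_of_character : ∀ (d : ℕ) {V W : Type} [AddCommGroup V] [Module k V]
    [FiniteDimensional k V] [AddCommGroup W] [Module k W] [FiniteDimensional k W]
    (ρ : Representation k G V) (σ : Representation k G W), finrank k V = d →
    ρ.character = σ.character → Nonempty (ρ.Equiv σ) := by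
  intro d
  induction d using Nat.strong_induction_on with
  | _ d ih =>
    intro V W _ _ _ _ _ _ ρ σ hd hch
    letI : Fintype G := Fintype.ofFinite G
    have hdim : finrank k W = finrank k V := by
      have h1 := congrFun hch 1
      rw [char_one, char_one] at h1
      exact_mod_cast h1.symm
    by_cases h0 : finrank k V = 0
    · haveI := Module.finrank_zero_iff.mp h0
      haveI := Module.finrank_zero_iff.mp (hdim.trans h0)
      exact ⟨Representation.Equiv.mk (0 : V ≃ₗ[k] W) fun g =>
        LinearMap.ext fun x => Subsingleton.elim _ _⟩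
    obtain ⟨S, hSi, hS0⟩ := exists_irr_sub ρ h0
    haveI := hSi
    obtain ⟨T, hc, hST⟩ := exists_compl ρ S
    have hpos : finrank k (IntertwiningMap S.toRepresentation σ) ≠ 0 := by
      intro h
      have h1 := pair_eq_finrank S.toRepresentation σ
      rw [← hch, hST, pair_add_left, pair_eq_finrank, pair_eq_finrank, h, ← Nat.cast_add,
        Nat.cast_inj, Nat.add_eq_zero_iff] at h1
      haveI : Nontrivial S.toSubmodule :=
        Module.nontrivial_of_finrank_pos (R := k) (Nat.pos_of_ne_zero hS0)
      haveI : Subsingleton (IntertwiningMap S.toRepresentation S.toRepresentation) :=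
        Module.finrank_zero_iff.mp h1.1
      obtain ⟨x, hx⟩ := exists_ne (0 : S.toSubmodule)
      exact hx (congrArg (fun f : IntertwiningMap S.toRepresentation S.toRepresentation => f x)
        (Subsingleton.elim (IntertwiningMap.id S.toRepresentation) 0))
    obtain ⟨f, hf⟩ : ∃ f : IntertwiningMap S.toRepresentation σ, f ≠ 0 := by
      by_contra h
      push Not at h
      haveI : Subsingleton (IntertwiningMap S.toRepresentation σ) :=
        ⟨fun a b => (h a).trans (h b).symm⟩
      exact hpos Module.finrank_zero_of_subsingleton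
    have hinj : Function.Injective f :=
      (IsIrreducible.injective_or_eq_zero f).resolve_right hf
    let S' : Subrepresentation σ := ⟨LinearMap.range f.toLinearMap, fun g v hv => by
      obtain ⟨x, rfl⟩ := hv
      exact ⟨S.toRepresentation g x, LinearMap.congr_fun (f.isIntertwining' g) x⟩⟩
    obtain ⟨T', hc', hST'⟩ := exists_compl σ S'
    let e₁ : S.toSubmodule ≃ₗ[k] S'.toSubmodule := LinearEquiv.ofInjective f.toLinearMap hinj
    have he₁ : ∀ g x, e₁ (S.toRepresentation g x) = S'.toRepresentation g (e₁ x) := fun g x =>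
      Subtype.ext (LinearMap.congr_fun (f.isIntertwining' g) x)
    have hSS' : S.toRepresentation.character = S'.toRepresentation.character :=
      char_iso (Representation.Equiv.mk e₁ fun g => LinearMap.ext fun x => he₁ g x)
    have hTT' : T.toRepresentation.character = T'.toRepresentation.character := by
      rw [hST, hST', hSS'] at hch
      exact add_left_cancel hch
    have hlt : finrank k T.toSubmodule < d := by
      have := Submodule.finrank_add_eq_of_isCompl hc
      omega
    obtain ⟨e₂⟩ := ih _ hlt T.toRepresentation T'.toRepresentation rfl hTT'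
    let E : V ≃ₗ[k] W := (Submodule.prodEquivOfIsCompl _ _ hc).symm.trans
      ((e₁.prodCongr e₂.toLinearEquiv).trans (Submodule.prodEquivOfIsCompl _ _ hc'))
    refine ⟨Representation.Equiv.mk E fun g => LinearMap.ext fun v => ?_⟩
    obtain ⟨⟨a, b⟩, rfl⟩ := (Submodule.prodEquivOfIsCompl _ _ hc).surjective v
    show E (ρ g _) = σ g (E _)
    have h1 : ρ g (Submodule.prodEquivOfIsCompl _ _ hc (a, b)) =
        Submodule.prodEquivOfIsCompl _ _ hc (S.toRepresentation g a, T.toRepresentation g b) := by
      simp only [Submodule.coe_prodEquivOfIsCompl', map_add]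
      rfl
    have h2 : e₂.toLinearEquiv (T.toRepresentation g b) =
        T'.toRepresentation g (e₂.toLinearEquiv b) :=
      LinearMap.congr_fun (e₂.toIntertwiningMap.isIntertwining' g) b
    rw [h1]
    simp only [E, LinearEquiv.trans_apply, LinearEquiv.symm_apply_apply]
    simp only [LinearEquiv.prodCongr_apply, he₁, h2, Submodule.coe_prodEquivOfIsCompl', map_add]
    rfl

end Field

variable (K : IntermediateField ℚ ℂ)

/-- Functions that are characters of representations over `K`. -/
def IsKChar (f : G → ℂ) : Prop :=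
  ∃ (n : ℕ) (τ : Representation K G (Fin n → K)), ∀ g, f g = (τ.character g : ℂ)

omit [Finite G] in
theorem isKChar_of_rep {V : Type} [AddCommGroup V] [Module K V] [FiniteDimensional K V]
    (τ : Representation K G V) : IsKChar K fun g => (τ.character g : ℂ) := by
  let e := (Module.finBasis K V).equivFun
  refine ⟨_, (e.conjAlgEquiv K).toMonoidHom.comp τ, fun g => ?_⟩
  show ((LinearMap.trace K V (τ g) : K) : ℂ) = ((LinearMap.trace K _ (e.conj (τ g)) : K) : ℂ)
  rw [LinearMap.trace_conj']

omit [Finite G] in
theorem IsKChar.add {f f' : G → ℂ} (h : IsKChar K f) (h' : IsKChar K f') :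
    IsKChar K (f + f') := by
  obtain ⟨n, τ, hτ⟩ := h
  obtain ⟨m, τ', hτ'⟩ := h'
  have h2 := isKChar_of_rep K (τ.prod τ')
  have e : f + f' = fun g => (((τ.prod τ').character g : K) : ℂ) := funext fun g => by
    rw [Pi.add_apply, hτ, hτ']
    show _ = ((LinearMap.trace K _ ((τ g).prodMap (τ' g)) : K) : ℂ)
    rw [LinearMap.trace_prodMap']
    rfl
  rwa [e]

omit [Finite G] in
theorem isKChar_zero : IsKChar K (0 : G → ℂ) :=
  ⟨0, Representation.trivial K G (Fin 0 → K), fun g => by
    show (0 : ℂ) = ((LinearMap.trace K _ _ : K) : ℂ)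
    rw [Subsingleton.elim ((Representation.trivial K G (Fin 0 → K)) g) 0, map_zero]
    rfl⟩

/-- The span of the characters over `K`. -/
noncomputable def kSpan : AddSubgroup (G → ℂ) := AddSubgroup.closure {f | IsKChar K f}

/-- Functions induced from linear characters with values in `K` lie in the span. -/
theorem indFun_mem [Fintype G] (E : Subgroup G) (l : E →* ℂˣ) (hl : ∀ x, (l x : ℂ) ∈ K) :
    indFun E (fun x => (l x : ℂ)) ∈ kSpan (G := G) K := by
  classical
  let lK : G → K := fun z => if h : z ∈ E then ⟨(l ⟨z, h⟩ : ℂ), hl _⟩ else 0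
  have hlK : ∀ z, ((lK z : K) : ℂ) = extendByZero E (fun x => (l x : ℂ)) z := fun z => by
    by_cases h : z ∈ E
    · simp [lK, h, extendByZero_of_mem _ h]
    · simp [lK, h, extendByZero_not_mem _ h]
  have hlmul : ∀ (x : G) (w : G), x ∈ E → lK (x * w) = lK x * lK w := by
    intro x w hx
    by_cases hw : w ∈ E
    · apply Subtype.ext
      simp only [lK, hx, hw, E.mul_mem hx hw, dif_pos, MulMemClass.coe_mul, ← Units.val_mul,
        ← map_mul]
      rfl
    · have : x * w ∉ E := fun h => hw (by simpa using E.mul_mem (E.inv_mem hx) h)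
      simp [lK, hw, this]
  let A : G → Matrix G G K := fun g => Matrix.of fun x y =>
    (Nat.card E : K)⁻¹ * lK (x⁻¹ * g * y)
  have hA : ∀ g h, A g * A h = A (g * h) := by
    intro g h
    ext x z
    simp only [Matrix.mul_apply, A, Matrix.of_apply]
    congr 1
    have key : ∀ y : G, lK (x⁻¹ * g * y) * lK (y⁻¹ * h * z) =
        if x⁻¹ * g * y ∈ E then lK (x⁻¹ * (g * h) * z) else 0 := fun y => by
      by_cases hy : x⁻¹ * g * y ∈ E
      · rw [if_pos hy, ← hlmul _ _ hy]
        congr 1
        group
      · rw [if_neg hy]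
        simp [lK, hy]
    have hcard : (Finset.univ.filter fun y : G => x⁻¹ * g * y ∈ E).card = Nat.card E := by
      rw [Nat.card_eq_fintype_card, ← Fintype.card_subtype]
      exact Fintype.card_congr
        { toFun := fun y => ⟨x⁻¹ * g * y.1, y.2⟩
          invFun := fun v => ⟨g⁻¹ * x * v.1, by
            rw [show x⁻¹ * g * (g⁻¹ * x * v.1) = v.1 by group]; exact v.2⟩
          left_inv := fun y => Subtype.ext (show g⁻¹ * x * (x⁻¹ * g * y.1) = y.1 by group)
          right_inv := fun v => Subtype.ext (show x⁻¹ * g * (g⁻¹ * x * v.1) = v.1 by group) }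
    have hne : (Nat.card E : K) ≠ 0 := Nat.cast_ne_zero.mpr Nat.card_pos.ne'
    calc ∑ y, (Nat.card E : K)⁻¹ * lK (x⁻¹ * g * y) * ((Nat.card E : K)⁻¹ * lK (y⁻¹ * h * z))
        = (Nat.card E : K)⁻¹ * (Nat.card E : K)⁻¹ *
            ∑ y, if x⁻¹ * g * y ∈ E then lK (x⁻¹ * (g * h) * z) else 0 := by
          rw [Finset.mul_sum]
          exact Finset.sum_congr rfl fun y _ => by rw [← key]; ring
      _ = _ := by
          rw [← Finset.sum_filter, Finset.sum_const, hcard, nsmul_eq_mul]
          field_simp
  have hA1 : ∀ g, A g * A 1 = A g ∧ A 1 * A g = A g := fun g =>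
    ⟨by rw [hA, mul_one], by rw [hA, one_mul]⟩
  let M : G →* Matrix G G K :=
    { toFun := fun g => A g + (1 - A 1)
      map_one' := by abel
      map_mul' := fun g h => by
        simp only [add_mul, mul_add, sub_mul, mul_sub, mul_one, one_mul, hA]
        abel }
  let e := Fintype.equivFin G
  let τ : Representation K G (Fin (Fintype.card G) → K) :=
    ((Matrix.toLinAlgEquiv' (R := K)).toMonoidHom.comp
      ((Matrix.reindexAlgEquiv K K e).toMonoidHom.comp M))
  have htrA : ∀ g, ((Matrix.trace (A g) : K) : ℂ) = indFun E (fun x => (l x : ℂ)) g := fun g => by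
    simp only [Matrix.trace, Matrix.diag_apply, A, Matrix.of_apply, indFun, ← Finset.mul_sum]
    rw [MulMemClass.coe_mul]
    simp [hlK]
  have hτ : ∀ g, ((τ.character g : K) : ℂ) = indFun E (fun x => (l x : ℂ)) g +
      (((Nat.card G : ℤ) - (E.index : ℤ) : ℤ) : ℂ) := fun g => by
    show ((LinearMap.trace K _ (Matrix.toLinAlgEquiv' (Matrix.reindexAlgEquiv K K e (M g))) : K) : ℂ)
      = _
    rw [show (Matrix.toLinAlgEquiv' (Matrix.reindexAlgEquiv K K e (M g))) =
        Matrix.toLin' (Matrix.reindexAlgEquiv K K e (M g)) from rfl,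
      Matrix.trace_toLin'_eq]
    have htr : Matrix.trace (Matrix.reindexAlgEquiv K K e (M g)) = Matrix.trace (M g) := by
      simp only [Matrix.trace, Matrix.diag_apply, Matrix.reindexAlgEquiv_apply,
        Matrix.reindex_apply, Matrix.submatrix_apply]
      exact Fintype.sum_equiv e.symm _ _ fun _ => rfl
    rw [htr]
    show ((Matrix.trace (A g + (1 - A 1)) : K) : ℂ) = _
    rw [Matrix.trace_add, Matrix.trace_sub, Matrix.trace_one]
    push_cast
    rw [htrA, htrA, indFun_one_eq, map_one, Units.val_one, mul_one, Nat.card_eq_fintype_card]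
  have hmem : (fun g => ((τ.character g : K) : ℂ)) ∈ kSpan (G := G) K :=
    AddSubgroup.subset_closure ⟨_, τ, fun _ => rfl⟩
  have h1 : (fun _ : G => (1 : ℂ)) ∈ kSpan (G := G) K :=
    AddSubgroup.subset_closure ⟨1, Representation.trivial K G (Fin 1 → K), fun g => by
      show (1 : ℂ) = ((LinearMap.trace K _ (LinearMap.id : (Fin 1 → K) →ₗ[K] _) : K) : ℂ)
      rw [LinearMap.trace_id]
      simp⟩
  have e3 : indFun E (fun x => (l x : ℂ)) = (fun g => ((τ.character g : K) : ℂ)) -
      ((Nat.card G : ℤ) - (E.index : ℤ)) • (fun _ : G => (1 : ℂ)) := funext fun g => by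
    simp only [Pi.sub_apply, Pi.mul_apply, Pi.intCast_apply, hτ, zsmul_eq_mul, mul_one]
    ring
  rw [e3]
  exact AddSubgroup.sub_mem _ hmem (AddSubgroup.zsmul_mem _ h1 _)

/-- An irreducible character in the span is a character over `K`. -/
theorem isKChar_of_mem [Fintype G] {χ : G → ℂ} (hχ : IsIrrCharacter G χ)
    (h : χ ∈ kSpan (G := G) K) : IsKChar K χ := by
  classical
  -- pairing of characters over `K`
  have hpair : ∀ {V W : Type} [AddCommGroup V] [Module K V] [FiniteDimensional K V]
      [AddCommGroup W] [Module K W] [FiniteDimensional K W]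
      (ρ : Representation K G V) (σ : Representation K G W),
      classInner (fun g => (σ.character g : ℂ)) (fun g => (ρ.character g : ℂ)) =
        (finrank K (IntertwiningMap ρ σ) : ℂ) := by
    intro V W _ _ _ _ _ _ ρ σ
    have h1 := congrArg (fun x : K => (x : ℂ)) (pair_eq_finrank ρ σ)
    simp only [pair] at h1
    push_cast at h1
    rw [← h1, classInner]
    congr 1
    refine Finset.sum_congr rfl fun g _ => ?_
    congr 1
    obtain ⟨n, τ, hτ⟩ := isKChar_of_rep K ρ
    have hc : IsCharacter G fun g => (τ.character g : ℂ) := by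
      refine ⟨n, ((Matrix.toLinAlgEquiv' (R := ℂ)).toMonoidHom.comp
        ((RingHom.mapMatrix (algebraMap K ℂ)).toMonoidHom.comp
          ((LinearMap.toMatrixAlgEquiv' (R := K)).toMonoidHom.comp τ))), funext fun g => ?_⟩
      show LinearMap.trace ℂ _ (Matrix.toLin' ((LinearMap.toMatrix' (τ g)).map (algebraMap K ℂ)))
        = ((LinearMap.trace K _ (τ g) : K) : ℂ)
      rw [Matrix.trace_toLin'_eq]
      conv_rhs => rw [← Matrix.toLin'_toMatrix' (τ g), Matrix.trace_toLin'_eq]
      exact (AddMonoidHom.map_trace (algebraMap K ℂ).toAddMonoidHom _).symm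
    simp only at hτ
    rw [hτ g, ← IsChar.apply_inv hc g, hτ g⁻¹]
  -- a constituent of minimal degree
  have hex : ∃ d, ∃ (n : ℕ) (τ : Representation K G (Fin n → K)),
      classInner (fun g => (τ.character g : ℂ)) χ ≠ 0 ∧ n = d := by
    by_contra hno
    push Not at hno
    have hzero : ∀ f ∈ kSpan (G := G) K, classInner f χ = 0 := by
      intro f hf
      induction hf using AddSubgroup.closure_induction with
      | mem x hx =>
        obtain ⟨n, τ, hτ⟩ := hx
        rw [show x = fun g => (τ.character g : ℂ) from funext hτ]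
        by_contra h0
        exact hno n n τ h0 rfl
      | zero => exact classInner_zero_left _
      | add a b _ _ ha hb => rw [classInner_add_left, ha, hb, add_zero]
      | neg a _ ha => rw [classInner_neg_left, ha, neg_zero]
    exact one_ne_zero ((classInner_self_irr hχ).symm.trans (hzero χ h))
  obtain ⟨n, τ, hτχ, hn⟩ := Nat.find_spec hex
  have hn0 : n ≠ 0 := by
    rintro rfl
    refine hτχ ?_
    rw [show (fun g => (τ.character g : ℂ)) = 0 from funext fun g => by
      show ((LinearMap.trace K _ _ : K) : ℂ) = 0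
      rw [Subsingleton.elim (τ g) 0, map_zero]
      rfl, classInner_zero_left]
  have hirr : τ.IsIrreducible := by
    by_contra hred
    obtain ⟨S, T, -, hS, hT, hch⟩ := exists_split' τ (by simpa using hn0) hred
    simp only [finrank_fin_fun] at hS hT
    have hsplit : (fun g => (τ.character g : ℂ)) = (fun g => (S.toRepresentation.character g : ℂ))
        + fun g => (T.toRepresentation.character g : ℂ) := funext fun g => by
      rw [hch]; simp
    rw [hsplit, classInner_add_left] at hτχ
    have hsmall : ∀ {V : Type} [AddCommGroup V] [Module K V] [FiniteDimensional K V]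
        (σ : Representation K G V), finrank K V < n →
        classInner (fun g => (σ.character g : ℂ)) χ = 0 := by
      intro V _ _ _ σ hlt
      by_contra h0
      obtain ⟨m, σ', hσ'⟩ := isKChar_of_rep K σ
      have hm : m = finrank K V := by
        have h1 := hσ' 1
        simp only at h1
        rw [char_one, char_one, finrank_fin_fun] at h1
        exact_mod_cast h1.symm
      refine Nat.find_min hex (hn ▸ (hm.symm ▸ hlt : m < n)) ⟨m, σ', ?_, rfl⟩
      rwa [show (fun g => (σ'.character g : ℂ)) = fun g => (σ.character g : ℂ) from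
        funext fun g => (hσ' g).symm]
    exact hτχ (by rw [hsmall _ hS, hsmall _ hT, add_zero])
  haveI := hirr
  set D := finrank K (IntertwiningMap τ τ)
  set φ : G → ℂ := fun g => (τ.character g : ℂ) with hφ
  have hmult : ∀ (m : ℕ) {V : Type} [AddCommGroup V] [Module K V] [FiniteDimensional K V]
      (σ : Representation K G V), finrank K V = m →
      ∃ c : ℤ, classInner (fun g => (σ.character g : ℂ)) φ = (c : ℂ) * D := by
    intro m
    induction m using Nat.strong_induction_on with
    | _ m ih =>
      intro V _ _ _ σ hm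
      by_cases h0 : finrank K V = 0
      · haveI := Module.finrank_zero_iff.mp h0
        haveI : Subsingleton (IntertwiningMap τ σ) :=
          ⟨fun a b => IntertwiningMap.ext (LinearMap.ext fun x => Subsingleton.elim _ _)⟩
        exact ⟨0, by rw [hφ, hpair, Module.finrank_zero_of_subsingleton]; simp⟩
      by_cases hi : σ.IsIrreducible
      · by_cases he : Nonempty (τ.Equiv σ)
        · obtain ⟨e⟩ := he
          exact ⟨1, by rw [← char_iso e, hφ, hpair, Int.cast_one, one_mul]⟩
        · haveI : IsEmpty (τ.Equiv σ) := not_nonempty_iff.mp he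
          exact ⟨0, by rw [hφ, hpair, Module.finrank_zero_of_subsingleton]; simp⟩
      · obtain ⟨S, T, -, hS, hT, hch⟩ := exists_split' σ h0 hi
        obtain ⟨a, ha⟩ := ih _ (hm ▸ hS) S.toRepresentation rfl
        obtain ⟨b, hb⟩ := ih _ (hm ▸ hT) T.toRepresentation rfl
        refine ⟨a + b, ?_⟩
        rw [show (fun g => (σ.character g : ℂ)) = (fun g => (S.toRepresentation.character g : ℂ))
            + fun g => (T.toRepresentation.character g : ℂ) from funext fun g => by rw [hch]; simp,
          classInner_add_left, ha, hb, Int.cast_add, add_mul]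
  obtain ⟨c, hc⟩ : ∃ c : ℤ, classInner χ φ = (c : ℂ) * D := by
    have key : ∀ f ∈ kSpan (G := G) K, ∃ c : ℤ, classInner f φ = (c : ℂ) * D := ?_
    · exact key χ h
    intro f hf
    induction hf using AddSubgroup.closure_induction with
    | mem x hx =>
      obtain ⟨m, σ, hσ⟩ := hx
      obtain ⟨c, hc⟩ := hmult _ σ rfl
      exact ⟨c, by rw [show x = fun g => (σ.character g : ℂ) from funext hσ]; exact hc⟩
    | zero => exact ⟨0, by rw [classInner_zero_left]; simp⟩
    | add a b _ _ ha hb =>
      obtain ⟨i, hi⟩ := ha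
      obtain ⟨j, hj⟩ := hb
      exact ⟨i + j, by rw [classInner_add_left, hi, hj, Int.cast_add, add_mul]⟩
    | neg a _ ha =>
      obtain ⟨i, hi⟩ := ha
      exact ⟨-i, by rw [classInner_neg_left, hi, Int.cast_neg, neg_mul]⟩
  have hφc : IsCharacter G φ := by
    refine ⟨n, ((Matrix.toLinAlgEquiv' (R := ℂ)).toMonoidHom.comp
      ((RingHom.mapMatrix (algebraMap K ℂ)).toMonoidHom.comp
        ((LinearMap.toMatrixAlgEquiv' (R := K)).toMonoidHom.comp τ))), funext fun g => ?_⟩
    show LinearMap.trace ℂ _ (Matrix.toLin' ((LinearMap.toMatrix' (τ g)).map (algebraMap K ℂ)))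
      = ((LinearMap.trace K _ (τ g) : K) : ℂ)
    rw [Matrix.trace_toLin'_eq]
    conv_rhs => rw [← Matrix.toLin'_toMatrix' (τ g), Matrix.trace_toLin'_eq]
    exact (AddMonoidHom.map_trace (algebraMap K ℂ).toAddMonoidHom _).symm
  obtain ⟨a, ha⟩ := IsChar.classInner_nat hφc (IsIrr.isCharacter hχ)
  obtain ⟨b, hb, hdec⟩ := IsChar.exists_decomp_inner hφc
  have hD : (D : ℂ) = classInner φ φ := (hpair τ τ).symm
  have hnorm : D = ∑ ψ : IrrCharacter G, b ψ * b ψ := by
    have h1 : (D : ℂ) = ((∑ ψ : IrrCharacter G, b ψ * b ψ : ℕ) : ℂ) := by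
      rw [hD]
      conv_lhs => rw [hdec, classInner_sum_sum]
      push_cast
      simp
    exact_mod_cast h1
  set X : IrrCharacter G := ⟨χ, hχ⟩
  have haX : (b X : ℤ) = c * D := by
    have h1 : classInner χ φ = (b X : ℂ) := by
      rw [← classInner_conj_symm φ χ, show classInner φ χ = (b X : ℂ) from hb X, map_natCast]
    rw [hc] at h1
    exact_mod_cast h1.symm
  have hbX : b X ≠ 0 := fun h0 => hτχ (by rw [hb X, h0, Nat.cast_zero])
  have hle : b X * b X ≤ D := by
    rw [hnorm]
    exact Finset.single_le_sum (f := fun ψ => b ψ * b ψ) (fun _ _ => Nat.zero_le _)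
      (Finset.mem_univ X)
  have hDdvd : D ∣ b X := Int.natCast_dvd_natCast.mp ⟨c, by rw [haX, mul_comm]⟩
  have hDle := Nat.le_of_dvd (Nat.pos_of_ne_zero hbX) hDdvd
  have hb1 : b X = 1 := by
    have : b X * b X ≤ b X * 1 := by omega
    have := Nat.le_of_mul_le_mul_left this (Nat.pos_of_ne_zero hbX)
    omega
  have hD1 : D = 1 := by
    have := Nat.pos_of_ne_zero hbX
    have : 1 ≤ D := le_trans (by nlinarith) hle
    omega
  have hφi : IsIrrCharacter G φ := IsChar.irr_of_norm_one hφc (by rw [← hD, hD1, Nat.cast_one])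
  have : φ = χ := eq_of_constituent_irr hφi hχ hτχ
  exact ⟨n, τ, fun g => by rw [← this]⟩

/-- Brauer's splitting field theorem for characters. -/
theorem isKChar_of_exponent [Fintype G] {ζ : ℂ} (hζ : IsPrimitiveRoot ζ (Monoid.exponent G))
    (hζK : ζ ∈ K) {χ : G → ℂ} (hχ : IsCharacter G χ) : IsKChar K χ := by
  classical
  have hspan : ∀ f, IsCharacter G f → f ∈ kSpan (G := G) K := fun f hf => by
    refine (AddSubgroup.closure_le _).2 ?_ (Brauer.mem_linSpan hf)
    rintro _ ⟨E, -, l, rfl⟩
    refine indFun_mem K E l fun x => ?_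
    haveI : NeZero (Monoid.exponent G) := ⟨Monoid.exponent_ne_zero_of_finite⟩
    have hx : x ^ Monoid.exponent G = 1 :=
      Subtype.ext (by simpa using Monoid.pow_exponent_eq_one (x : G))
    have hpow : (l x : ℂ) ^ Monoid.exponent G = 1 := by
      rw [← Units.val_pow_eq_pow_val, ← map_pow, hx, map_one, Units.val_one]
    obtain ⟨i, -, hi⟩ := hζ.eq_pow_of_pow_eq_one hpow
    exact hi ▸ pow_mem hζK i
  obtain ⟨a, rfl⟩ := IsChar.exists_decomp hχ
  refine Finset.sum_induction _ (IsKChar K) (fun _ _ => IsKChar.add K) (isKChar_zero K)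
    fun ψ _ => ?_
  rw [Nat.cast_smul_eq_nsmul ℂ]
  induction a ψ with
  | zero => rw [zero_smul]; exact isKChar_zero K
  | succ m ih =>
    rw [succ_nsmul]
    exact IsKChar.add K ih (isKChar_of_mem K ψ.2 (hspan _ (IsIrr.isCharacter ψ.2)))

/-- Brauer's splitting field theorem. -/
theorem exists_equiv {n : ℕ} (ρ : Representation ℂ G (Fin n → ℂ)) :
    ∃ σ : Representation ℂ G (Fin n → ℂ), Nonempty (ρ.Equiv σ) ∧ ∀ g : G, ∀ i j : Fin n,
      LinearMap.toMatrix' (σ g) i j ∈ Algebra.adjoin ℚ
        ({Complex.exp (2 * Real.pi * Complex.I / (Monoid.exponent G : ℂ))} : Set ℂ) := by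
  letI : Fintype G := Fintype.ofFinite G
  set m := Monoid.exponent G
  set ζ := Complex.exp (2 * Real.pi * Complex.I / (m : ℂ))
  have hm : m ≠ 0 := Monoid.exponent_ne_zero_of_finite
  have hζ : IsPrimitiveRoot ζ m := Complex.isPrimitiveRoot_exp m hm
  have halg : IsAlgebraic ℚ ζ :=
    ⟨Polynomial.X ^ m - Polynomial.C 1, Polynomial.X_pow_sub_C_ne_zero (Nat.pos_of_ne_zero hm) _,
      by simp [hζ.pow_eq_one]⟩
  set K : IntermediateField ℚ ℂ := IntermediateField.adjoin ℚ {ζ}
  obtain ⟨d, τ, hτ⟩ := isKChar_of_exponent K hζ (IntermediateField.mem_adjoin_simple_self ℚ ζ)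
    (χ := ρ.character) ⟨n, ρ, rfl⟩
  have hd : d = n := by
    have h1 := hτ 1
    rw [char_one, char_one, finrank_fin_fun, finrank_fin_fun] at h1
    exact_mod_cast h1.symm
  subst hd
  let σ : Representation ℂ G (Fin d → ℂ) := (Matrix.toLinAlgEquiv' (R := ℂ)).toMonoidHom.comp
    ((RingHom.mapMatrix (algebraMap K ℂ)).toMonoidHom.comp
      ((LinearMap.toMatrixAlgEquiv' (R := K)).toMonoidHom.comp τ))
  have hσ : ∀ g, σ g = Matrix.toLin' ((LinearMap.toMatrix' (τ g)).map (algebraMap K ℂ)) :=
    fun g => rfl
  refine ⟨σ, equiv_of_character _ ρ σ rfl (funext fun g => ?_), fun g i j => ?_⟩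
  · rw [hτ g]
    show _ = LinearMap.trace ℂ _ (σ g)
    rw [hσ, Matrix.trace_toLin'_eq]
    conv_lhs => rw [show τ.character g = LinearMap.trace K _ (τ g) from rfl,
      ← Matrix.toLin'_toMatrix' (τ g), Matrix.trace_toLin'_eq]
    exact AddMonoidHom.map_trace (algebraMap K ℂ).toAddMonoidHom _
  · rw [hσ, LinearMap.toMatrix'_toLin']
    have h1 : (algebraMap K ℂ) (LinearMap.toMatrix' (τ g) i j) ∈ K :=
      (LinearMap.toMatrix' (τ g) i j).2
    rw [← IntermediateField.adjoin_simple_toSubalgebra_of_isAlgebraic halg]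
    exact h1

end Cfsg.Agent.Char.Split
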