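import Cfsg.Agent.Lib.Char.StarBlock
import Cfsg.Agent.Lib.Char.SectionNonvanish
import Cfsg.Agent.Lib.Char.CentralHeight
import Cfsg.Agent.Lib.Char.MajorHeight
import Mathlib.GroupTheory.FiniteAbelian.Duality
import Mathlib.RingTheory.RootsOfUnity.AlgebraicallyClosed
import Mathlib.GroupTheory.GroupAction.Quotient

/-!
The linear characters of a defect group trivial on the focal subgroup permute the characters of
each height; the number of characters is a multiple of the orbit lengths.
-/

namespace Cfsg.Agent.Char.Star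

open scoped commutatorElement
open Cfsg.Agent.Block Cfsg.Agent.Char Cfsg.Agent.Char.BP Cfsg.Agent.Char.Spec

set_option linter.unusedSectionVars false
set_option linter.style.haveILetI false
set_option maxHeartbeats 1000000

universe u

/-- The order of a set with an action is a multiple of the index of a subgroup containing all
stabilizers. -/
theorem index_dvd_card_of_stabilizer_le {Λ : Type*} [Group Λ] [Finite Λ] {X : Type*} [Finite X]
    [MulAction Λ X] (K : Subgroup Λ) (h : ∀ x : X, MulAction.stabilizer Λ x ≤ K) :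
    K.index ∣ Nat.card X := by
  classical
  cases nonempty_fintype X
  haveI : Fintype (Quotient (MulAction.orbitRel Λ X)) := Fintype.ofFinite _
  rw [Nat.card_congr (MulAction.selfEquivSigmaOrbitsQuotientStabilizer Λ X), Nat.card_sigma]
  exact Finset.dvd_sum fun ω _ => Subgroup.index_dvd_of_le (h _)

variable {G : Type u} [Group G] [Fintype G] [DecidableEq G] {p : ℕ} [Fact p.Prime]
  {M : Ideal AlgInt}
variable {B : Set (IrrCharacter G)} {P : Subgroup G} {e : Set (IrrCharacter (CG P))}
  {F : FusionSystem P}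

theorem focal_normal (hM : IsPModular p M) (hF : IsBlockFusionSystemOn p M B P e F) :
    (F.focalSubgroup.subgroupOf P).Normal := by
  refine ⟨fun v hv g => ?_⟩
  have hc : g * v * g⁻¹ * v⁻¹ ∈ F.focalSubgroup.subgroupOf P :=
    commutator_le_focal hM hF ⟨⁅g, v⁆, Subgroup.commutator_mem_commutator (Subgroup.mem_top g)
      (Subgroup.mem_top v), rfl⟩
  have := Subgroup.mul_mem _ hc hv
  rwa [inv_mul_cancel_right] at this

theorem quot_comm (hM : IsPModular p M) (hF : IsBlockFusionSystemOn p M B P e F)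
    [(F.focalSubgroup.subgroupOf P).Normal] (a b : P ⧸ F.focalSubgroup.subgroupOf P) :
    a * b = b * a := by
  induction a using QuotientGroup.induction_on with
  | _ x =>
  induction b using QuotientGroup.induction_on with
  | _ y =>
  rw [← QuotientGroup.mk_mul, ← QuotientGroup.mk_mul, QuotientGroup.eq]
  have hc : ⁅y⁻¹, x⁻¹⁆ ∈ F.focalSubgroup.subgroupOf P :=
    commutator_le_focal hM hF ⟨⁅y⁻¹, x⁻¹⁆, Subgroup.commutator_mem_commutator (Subgroup.mem_top _)
      (Subgroup.mem_top _), rfl⟩
  rwa [commutatorElement_def, inv_inv, inv_inv, show y⁻¹ * x⁻¹ * y * x = (x * y)⁻¹ * (y * x) by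
    rw [mul_inv_rev, mul_assoc (y⁻¹ * x⁻¹)]] at hc

/-- The characters of a given height. -/
abbrev HeightSet (p : ℕ) (B : Set (IrrCharacter G)) (h : ℕ) : Type u :=
  {χ : IrrCharacter G // χ ∈ B ∧ blockHeight p B (χ : G → ℂ) = h}

/-- Where every character of height `h` has a nonvanishing section, the restrictions of the linear
characters to those elements act freely. -/
theorem dvd_card_height (hM : IsPModular p M) (hF : IsBlockFusionSystemOn p M B P e F) (h : ℕ)
    (Z : Subgroup G) (hZ : Z ≤ P)
    (hne : ∀ χ : HeightSet p B h, ∀ v : P, (v : G) ∈ Z → ∀ a : BrauerPairIdx G,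
      a.1 = Subgroup.zpowers (v : G) → LE p M a (⟨P, e⟩ : BrauerPairIdx G) →
        ∃ t ∈ regs p a.1, sct (χ.1 : G → ℂ) a (v : G) t ≠ 0) :
    ((Z ⊓ F.focalSubgroup).subgroupOf Z).index ∣ Nat.card (HeightSet p B h) := by
  classical
  haveI := focal_normal hM hF
  set N := F.focalSubgroup.subgroupOf P with hN
  letI : CommGroup (P ⧸ N) :=
    { (inferInstance : Group (P ⧸ N)) with mul_comm := quot_comm hM hF }
  let lam : ((P ⧸ N) →* ℂˣ) → (P →* ℂˣ) := fun c => c.comp (QuotientGroup.mk' N)
  have htriv : ∀ c, TrivFoc F (lam c) := fun c x hx => by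
    show c (x : P ⧸ N) = 1
    rw [(QuotientGroup.eq_one_iff x).2 hx, map_one]
  have hmul : ∀ c d, lam (c * d) = lam c * lam d := fun c d => rfl
  let act : MulAction ((P ⧸ N) →* ℂˣ) (HeightSet p B h) :=
    { smul := fun c χ => ⟨(exists_twist hM hF (htriv c) χ.2.1).choose,
        (exists_twist hM hF (htriv c) χ.2.1).choose_spec.1,
        (exists_twist hM hF (htriv c) χ.2.1).choose_spec.2.2.trans χ.2.2⟩
      one_smul := fun χ => Subtype.ext (Subtype.ext
        ((exists_twist hM hF (htriv 1) χ.2.1).choose_spec.2.1.trans (star_one hM hF χ.2.1)))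
      mul_smul := fun c d χ => Subtype.ext (Subtype.ext (by
        refine (exists_twist hM hF (htriv (c * d)) χ.2.1).choose_spec.2.1.trans ?_
        refine Eq.trans ?_ ((exists_twist hM hF (htriv c)
          (exists_twist hM hF (htriv d) χ.2.1).choose_spec.1).choose_spec.2.1).symm
        rw [hmul]
        exact (star_star hM hF (htriv d) (exists_twist hM hF (htriv d) χ.2.1).choose_spec.2.1
          (lam c)).symm)) }
  letI := act
  let ψ : Z →* P ⧸ N := (QuotientGroup.mk' N).comp (Subgroup.inclusion hZ)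
  let K : Subgroup ((P ⧸ N) →* ℂˣ) :=
    { carrier := {c | ∀ z ∈ ψ.range, c z = 1}
      one_mem' := fun _ _ => rfl
      mul_mem' := fun {a b} ha hb z hz => by
        rw [MonoidHom.mul_apply, ha z hz, hb z hz, one_mul]
      inv_mem' := fun {a} ha z hz => by rw [MonoidHom.inv_apply, ha z hz, inv_one] }
  have hcard : ∀ (A : Type u) [CommGroup A] [Finite A], Nat.card (A →* ℂˣ) = Nat.card A := by
    intro A _ _
    haveI : NeZero (Monoid.exponent A) := ⟨Monoid.exponent_ne_zero_of_finite⟩
    exact CommGroup.card_monoidHom_of_hasEnoughRootsOfUnity A ℂ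
  haveI : Finite ((P ⧸ N) →* ℂˣ) :=
    Nat.finite_of_card_ne_zero (by rw [hcard]; exact Nat.card_pos.ne')
  have hstab : ∀ χ : HeightSet p B h, MulAction.stabilizer ((P ⧸ N) →* ℂˣ) χ ≤ K := by
    rintro χ c hc _ ⟨z, rfl⟩
    have he : ((c • χ).1 : G → ℂ) = star p M (lamW p M P e (lam c)) (χ.1 : G → ℂ) :=
      (exists_twist hM hF (htriv c) χ.2.1).choose_spec.2.1
    rw [MulAction.mem_stabilizer_iff.1 hc] at he
    have hv : ((Subgroup.inclusion hZ z : P) : G) ∈ Z := z.2
    obtain ⟨a, ha, hle⟩ := exists_le hM (c := (⟨P, e⟩ : BrauerPairIdx G)) hF.1.1.1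
      (Q := Subgroup.zpowers ((Subgroup.inclusion hZ z : P) : G))
      (Subgroup.zpowers_le.2 (Subgroup.inclusion hZ z).2)
    obtain ⟨t, ht, hne'⟩ := hne χ _ hv a ha hle
    exact eq_one_of_fixed hM hF (htriv c) he _ ha hle ht hne'
  have hK : K.index = Nat.card ψ.range := by
    have e1 : Nat.card K = Nat.card (((P ⧸ N) ⧸ ψ.range) →* ℂˣ) := Nat.card_congr
      { toFun := fun c => QuotientGroup.lift ψ.range c.1 fun z hz => c.2 z hz
        invFun := fun d => ⟨d.comp (QuotientGroup.mk' ψ.range), fun z hz => by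
          show d (z : (P ⧸ N) ⧸ ψ.range) = 1
          rw [(QuotientGroup.eq_one_iff z).2 hz, map_one]⟩
        left_inv := fun c => Subtype.ext (MonoidHom.ext fun z => rfl)
        right_inv := fun d => by
          apply MonoidHom.ext
          intro z
          induction z using QuotientGroup.induction_on with
          | _ x => rfl }
    rw [hcard, ← Subgroup.index_eq_card] at e1
    have h1 := K.card_mul_index
    have h2 := ψ.range.card_mul_index
    rw [e1, hcard, ← h2, mul_comm] at h1
    exact Nat.eq_of_mul_eq_mul_right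
      (Nat.pos_of_ne_zero Subgroup.index_ne_zero_of_finite) h1
  have hker : ψ.ker = (Z ⊓ F.focalSubgroup).subgroupOf Z := by
    ext z
    rw [MonoidHom.mem_ker, Subgroup.mem_subgroupOf]
    show ((Subgroup.inclusion hZ z : P) : P ⧸ N) = 1 ↔ _
    rw [QuotientGroup.eq_one_iff]
    exact ⟨fun h => ⟨z.2, h⟩, fun h => h.2⟩
  have hindex : ((Z ⊓ F.focalSubgroup).subgroupOf Z).index = K.index := by
    rw [hK, ← hker, Subgroup.index_ker]
  rw [hindex]
  exact index_dvd_card_of_stabilizer_le K hstab

/-- Height zero characters. -/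
theorem dvd_card_height_zero (hM : IsPModular p M) (hF : IsBlockFusionSystemOn p M B P e F) :
    (F.focalSubgroup.subgroupOf P).index ∣ Nat.card (HeightSet p B 0) := by
  have h := dvd_card_height hM hF 0 P le_rfl fun χ v _ a ha hle => by
    have haB : OfB p M B a := (ofB_le hM hle).1 hF.1.1
    obtain ⟨t, ht1, ht2, ht3⟩ := exists_sct_ne_zero hM χ.2.1 χ.2.2 ha haB
    exact ⟨t, mem_regs.2 ⟨ht1, ht2⟩, ht3⟩
  rwa [Subgroup.inf_subgroupOf_left] at h

/-- All heights, on the centre of the defect group. -/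
theorem dvd_card_height_center (hM : IsPModular p M) (hF : IsBlockFusionSystemOn p M B P e F)
    (h : ℕ) :
    ((P ⊓ CG P ⊓ F.focalSubgroup).subgroupOf (P ⊓ CG P)).index ∣
      Nat.card (HeightSet p B h) := by
  refine dvd_card_height hM hF h (P ⊓ CG P) inf_le_left fun χ v hv a ha hle => ?_
  have haB : OfB p M B a := (ofB_le hM hle).1 hF.1.1
  have hy : ∃ k, orderOf (v : G) = p ^ k := order_pow hF.1.1.1.1 v
  have hC : P ≤ CG a.1 := fun x hx => by
    rw [ha, cg_zpowers]
    exact Subgroup.mem_centralizer_singleton_iff.2 (Subgroup.mem_centralizer_iff.1 hv.2 x hx)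
  have hd := blockDefect_of_le_major (x := (⟨P, e⟩ : BrauerPairIdx G)) hM hF.1 hle hC
  obtain ⟨η, hη, hη0⟩ := exists_height_zero hM hF.1.1.2.1
  by_contra hall
  push Not at hall
  refine (contrib_height hM hy ha haB hd (ψ := χ.1) (η := η) χ.2.1).2.1 hη hη0 ?_
  have h0 : secT p (χ.1 : G → ℂ) (η : G → ℂ) a (v : G) = 0 := by
    rw [secT]
    exact Finset.sum_eq_zero fun t ht => by rw [hall t ht, zero_mul]
  simp only [contrib, h0, mul_zero, zero_div]
  exact ideal_zero hM

end Cfsg.Agent.Char.Star
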