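import Cfsg.Agent.Lib.Char.SourceIdem
import Cfsg.Agent.Lib.Char.NilpotentSections

/-!
The value of a character against a `p`-element and an idempotent of the Brauer quotient at it, and
its weighted sum over the pairs at the element.
-/

open scoped ComplexConjugate

namespace Cfsg.Agent.Char.Star

open Cfsg.Agent.Block Cfsg.Agent.Char.BP Cfsg.Agent.Char.Spec

set_option linter.unusedSectionVars false
set_option linter.style.haveILetI false
set_option maxHeartbeats 800000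

universe u

variable {G : Type u} [Group G] [Fintype G] [DecidableEq G] {p : ℕ} {M : Ideal AlgInt}

local notation "sgl" => fun g : G => MonoidAlgebra.single g (1 : ℂ)

/-! ### Conjugation -/

/-- Conjugation in the group algebra. -/
noncomputable def cjA (g : G) (a : MonoidAlgebra ℂ G) : MonoidAlgebra ℂ G := sgl g * a * sgl g⁻¹

theorem cjA_coeff (g : G) (a : MonoidAlgebra ℂ G) (x : G) :
    (cjA g a).coeff x = a.coeff (g⁻¹ * x * g) := coeff_conj g a x

theorem sgl_inv_mul (g : G) : sgl g⁻¹ * sgl g = (1 : MonoidAlgebra ℂ G) := by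
  simp [MonoidAlgebra.single_mul_single, ← MonoidAlgebra.one_def]

theorem sgl_mul_inv (g : G) : sgl g * sgl g⁻¹ = (1 : MonoidAlgebra ℂ G) := by
  simp [MonoidAlgebra.single_mul_single, ← MonoidAlgebra.one_def]

theorem cjA_mul (g : G) (a b : MonoidAlgebra ℂ G) : cjA g (a * b) = cjA g a * cjA g b := by
  have h := sgl_inv_mul g
  calc cjA g (a * b) = sgl g * a * (sgl g⁻¹ * sgl g) * b * sgl g⁻¹ := by
        rw [h, mul_one, cjA, mul_assoc (sgl g) a b]
    _ = cjA g a * cjA g b := by simp only [cjA, mul_assoc]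

theorem cjA_single (g u : G) : cjA g (sgl u) = sgl (g * u * g⁻¹) := by
  simp [cjA, MonoidAlgebra.single_mul_single]

theorem cjA_sub (g : G) (a b : MonoidAlgebra ℂ G) : cjA g (a - b) = cjA g a - cjA g b := by
  simp [cjA, mul_sub, sub_mul]

theorem cjA_ring (hM : IsPModular p M) (g : G) {a : MonoidAlgebra ℂ G} (ha : AlgRing M a) :
    AlgRing M (cjA g a) := fun x => by rw [cjA_coeff]; exact ha _

theorem cjA_fix {g : G} {a : MonoidAlgebra ℂ G} (h : Commute (sgl g) a) : cjA g a = a := by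
  rw [cjA, h.eq, mul_assoc, sgl_mul_inv, mul_one]

theorem cjA_fx (hM : IsPModular p M) (g : G) {P : Subgroup G} {a : MonoidAlgebra ℂ G}
    (ha : Fx M P a) : Fx M (P.map (MulAut.conj g).toMonoidHom) (cjA g a) := by
  refine ⟨cjA_ring hM g ha.1, ?_⟩
  rintro _ ⟨q, hq, rfl⟩
  show Commute (sgl (g * q * g⁻¹)) _
  rw [← cjA_single, Commute, SemiconjBy, ← cjA_mul, ← cjA_mul, (ha.2 q hq).eq]

theorem cjA_brEq (g : G) {R : Subgroup G} {a b : MonoidAlgebra ℂ G} (h : BrEq M R a b) :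
    BrEq M (R.map (MulAut.conj g).toMonoidHom) (cjA g a) (cjA g b) := fun c hc => by
  rw [cjA_coeff, cjA_coeff]
  exact h _ ((cg_map_conj g R _).2 (by simpa [mul_assoc] using hc))

theorem ev_cjA {f : G → ℂ} (hf : IsClassFunction G f) (g : G) (a : MonoidAlgebra ℂ G) :
    ev f (cjA g a) = ev f a := by
  rw [cjA, ev_mul_comm hf, ← mul_assoc, sgl_inv_mul, one_mul]

theorem pz_cjI (g : G) (a : BrauerPairIdx G) : pz (cjI g a) = cjA g (pz a) := by
  ext x
  rw [cjA_coeff, pz_coeff, pz_coeff, be_cjI]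
  rfl

theorem zpowers_map_conj (g u : G) :
    (Subgroup.zpowers u).map (MulAut.conj g).toMonoidHom = Subgroup.zpowers (g * u * g⁻¹) := by
  rw [MonoidHom.map_zpowers]
  rfl

/-! ### Lifting idempotents -/

theorem brEq_of_sub {R : Subgroup G} {a b : MonoidAlgebra ℂ G} (h : AlgIdeal M (a - b)) :
    BrEq M R a b := fun c _ => by simpa using h c

theorem brEq_pow (hM : IsPModular p M) {R : Subgroup G} (hR : IsPGroup p R)
    {y : MonoidAlgebra ℂ G} (hy : Fx M R y) (h : BrEq M R (y * y) y) :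
    ∀ n : ℕ, BrEq M R (y ^ (n + 1)) y := by
  intro n
  induction n with
  | zero => rw [pow_one]; exact BrEq.refl hM y
  | succ n ih =>
    rw [pow_succ]
    exact (BrEq.mul hM hR (hy.pow hM _) hy hy hy ih (BrEq.refl hM y)).trans hM h

/-- An element idempotent at `R` has an idempotent lift made from it. -/
theorem exists_lift (hM : IsPModular p M) {P R : Subgroup G} (hR : IsPGroup p R) (hRP : R ≤ P)
    {y : MonoidAlgebra ℂ G} (hy : Fx M P y) (h : BrEq M R (y * y) y) :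
    ∃ δ t : MonoidAlgebra ℂ G, Fx M P δ ∧ Fx M P t ∧ δ * δ = δ ∧ BrEq M R δ y ∧ y * t * δ = δ ∧
      ∀ b, Commute y b → Commute δ b ∧ Commute t b := by
  obtain ⟨δ, t, hδ, ht, hδδ, hcomm, hyt, N, hN⟩ := exists_spectral hM hy.1
  have hδf : Fx M P δ := ⟨hδ, fun u hu => ((hcomm _ (hy.2 u hu).symm).1).symm⟩
  have htf : Fx M P t := ⟨ht, fun u hu => ((hcomm _ (hy.2 u hu).symm).2).symm⟩
  have hyR := hy.mono hRP
  have hδR := hδf.mono hRP
  have htR := htf.mono hRP
  have h1δ : Fx M R (1 - δ) := (Fx.one hM).sub hM hδR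
  have h0 : BrEq M R (y * (1 - δ)) 0 := by
    refine (BrEq.mul hM hR hyR (hyR.pow hM (N + 1)) h1δ h1δ (brEq_pow hM hR hyR h N).symm
      (BrEq.refl hM _)).trans hM (BrEq.of_ideal ?_)
    rw [pow_succ', mul_assoc]
    exact AlgIdeal.mul_left hM hy.1 hN
  have h1 : BrEq M R y (y * δ) := fun c hc => by
    simpa [mul_sub] using h0 c hc
  have h2 : BrEq M R (y * δ) δ := by
    have h3 := BrEq.mul hM hR (hyR.mul hM hyR) hyR (htR.mul hM hδR) (htR.mul hM hδR) h
      (BrEq.refl hM (t * δ))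
    rw [← mul_assoc y t δ, hyt, mul_assoc y y, ← mul_assoc y t δ, hyt] at h3
    exact h3
  exact ⟨δ, t, hδf, htf, hδδ, (h1.trans hM h2).symm, hyt, hcomm⟩

theorem idem_mul_brEq (hM : IsPModular p M) {R : Subgroup G} (hR : IsPGroup p R)
    {a b : MonoidAlgebra ℂ G} (ha : Fx M R a) (hb : Fx M R b) (haa : BrEq M R (a * a) a)
    (hbb : BrEq M R (b * b) b) (hab : BrEq M R (b * a) (a * b)) :
    BrEq M R (a * b * (a * b)) (a * b) := by
  have h1 : BrEq M R (a * (b * a) * b) (a * (a * b) * b) :=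
    BrEq.mul hM hR (ha.mul hM (hb.mul hM ha)) (ha.mul hM (ha.mul hM hb)) hb hb
      (BrEq.mul hM hR ha ha (hb.mul hM ha) (ha.mul hM hb) (BrEq.refl hM a) hab) (BrEq.refl hM b)
  have h2 : BrEq M R (a * a * (b * b)) (a * b) :=
    BrEq.mul hM hR (ha.mul hM ha) ha (hb.mul hM hb) hb haa hbb
  simp only [mul_assoc] at h1 h2 ⊢
  exact h1.trans hM h2

/-! ### The value at a `p`-element of an idempotent of the Brauer quotient -/

/-- The trace against `u` of a chosen member. -/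
noncomputable def pickTrace (f : G → ℂ) (u : G) (S : MonoidAlgebra ℂ G → Prop) : ℂ := by
  classical
  exact if h : ∃ i, S i then ev f (MonoidAlgebra.single u (1 : ℂ) * h.choose) else 0

/-- The trace against `u` of an idempotent lifting `a`. -/
noncomputable def rho (M : Ideal AlgInt) (f : G → ℂ) (u : G) (a : MonoidAlgebra ℂ G) : ℂ :=
  pickTrace f u fun i => Fx M (Subgroup.zpowers u) i ∧ i * i = i ∧ BrEq M (Subgroup.zpowers u) i a

variable [Fact p.Prime] {f : G → ℂ} {u : G}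

theorem rho_eq (hM : IsPModular p M) (hf : IsClassFunction G f) (hu : ∃ k, orderOf u = p ^ k)
    {i a : MonoidAlgebra ℂ G} (hi : Fx M (Subgroup.zpowers u) i) (hii : i * i = i)
    (h : BrEq M (Subgroup.zpowers u) i a) : rho M f u a = ev f (sgl u * i) := by
  obtain ⟨k, hk⟩ := hu
  have hex : ∃ j, Fx M (Subgroup.zpowers u) j ∧ j * j = j ∧ BrEq M (Subgroup.zpowers u) j a :=
    ⟨i, hi, hii, h⟩
  rw [rho, pickTrace, dif_pos hex]
  obtain ⟨hj, hjj, hja⟩ := hex.choose_spec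
  refine ev_congr hM hk hj.1 hi.1 hjj hii (hj.2 u (Subgroup.mem_zpowers u))
    (hi.2 u (Subgroup.mem_zpowers u)) (fun x hx => ?_) hf
  refine hja.trans hM h.symm x ?_
  rw [cg_zpowers]
  exact Subgroup.mem_centralizer_singleton_iff.2 hx.symm.eq

theorem exists_rho (hM : IsPModular p M) (hu : ∃ k, orderOf u = p ^ k) {a : MonoidAlgebra ℂ G}
    (ha : Fx M (Subgroup.zpowers u) a) (haa : BrEq M (Subgroup.zpowers u) (a * a) a) :
    ∃ i, Fx M (Subgroup.zpowers u) i ∧ i * i = i ∧ BrEq M (Subgroup.zpowers u) i a := by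
  obtain ⟨δ, -, hδ, -, hδδ, h, -⟩ := exists_lift hM (isPGroup_zpowers hu) le_rfl ha haa
  exact ⟨δ, hδ, hδδ, h⟩

theorem rho_congr (hM : IsPModular p M) {a b : MonoidAlgebra ℂ G}
    (h : BrEq M (Subgroup.zpowers u) a b) : rho M f u a = rho M f u b := by
  have hiff : ∀ i, BrEq M (Subgroup.zpowers u) i a ↔ BrEq M (Subgroup.zpowers u) i b :=
    fun i => ⟨fun h' => h'.trans hM h, fun h' => h'.trans hM h.symm⟩
  simp only [rho, hiff]

theorem rho_zero (hM : IsPModular p M) (hf : IsClassFunction G f) (hu : ∃ k, orderOf u = p ^ k) :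
    rho M f u 0 = 0 := by
  rw [rho_eq hM hf hu (i := 0) ⟨AlgRing.zero hM, fun _ _ => Commute.zero_right _⟩ (mul_zero _)
    (BrEq.refl hM _), mul_zero, ev_zero]

theorem rho_add (hM : IsPModular p M) (hf : IsClassFunction G f) (hu : ∃ k, orderOf u = p ^ k)
    {a b : MonoidAlgebra ℂ G} (ha : Fx M (Subgroup.zpowers u) a) (hb : Fx M (Subgroup.zpowers u) b)
    (haa : BrEq M (Subgroup.zpowers u) (a * a) a) (hbb : BrEq M (Subgroup.zpowers u) (b * b) b)
    (hab : BrEq M (Subgroup.zpowers u) (a * b) 0) (hba : BrEq M (Subgroup.zpowers u) (b * a) 0) :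
    rho M f u (a + b) = rho M f u a + rho M f u b := by
  have hR : IsPGroup p (Subgroup.zpowers u) := isPGroup_zpowers hu
  obtain ⟨i, hi, hii, hia⟩ := exists_rho hM hu ha haa
  have h1i : Fx M (Subgroup.zpowers u) (1 - i) := (Fx.one hM).sub hM hi
  have h1a : Fx M (Subgroup.zpowers u) (1 - a) := (Fx.one hM).sub hM ha
  set y := (1 - i) * b * (1 - i) with hy
  have hyf : Fx M (Subgroup.zpowers u) y := (h1i.mul hM hb).mul hM h1i
  have h1 : BrEq M (Subgroup.zpowers u) (1 - i) (1 - a) := BrEq.sub hM (BrEq.refl hM 1) hia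
  have h2 : BrEq M (Subgroup.zpowers u) ((1 - a) * b) b := by
    rw [sub_mul, one_mul]
    simpa using BrEq.sub hM (BrEq.refl hM (R := Subgroup.zpowers u) b) hab
  have h3 : BrEq M (Subgroup.zpowers u) (b * (1 - a)) b := by
    rw [mul_sub, mul_one]
    simpa using BrEq.sub hM (BrEq.refl hM (R := Subgroup.zpowers u) b) hba
  have hyb : BrEq M (Subgroup.zpowers u) y b :=
    (BrEq.mul hM hR (h1i.mul hM hb) hb h1i h1a
      ((BrEq.mul hM hR h1i h1a hb hb h1 (BrEq.refl hM b)).trans hM h2) h1).trans hM h3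
  have hyy : BrEq M (Subgroup.zpowers u) (y * y) y :=
    ((BrEq.mul hM hR hyf hb hyf hb hyb hyb).trans hM hbb).trans hM hyb.symm
  obtain ⟨δ, t, hδ, ht, hδδ, hδy, hyt, hcomm⟩ := exists_lift hM hR le_rfl hyf hyy
  have hiy : i * y = 0 := by
    rw [hy, ← mul_assoc, ← mul_assoc, show i * (1 - i) = 0 by rw [mul_sub, mul_one, hii, sub_self],
      zero_mul, zero_mul]
  have hyi : y * i = 0 := by
    rw [hy, mul_assoc, show (1 - i) * i = 0 by rw [sub_mul, one_mul, hii, sub_self], mul_zero]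
  have hiδ : i * δ = 0 := by rw [← hyt, ← mul_assoc, ← mul_assoc, hiy, zero_mul, zero_mul]
  have hδi : δ * i = 0 := by
    obtain ⟨hδc, htc⟩ := hcomm y (Commute.refl y)
    have h4 : δ = t * δ * y := by
      conv_lhs => rw [← hyt, mul_assoc, ((htc.mul_left hδc).symm).eq]
    rw [h4, mul_assoc, hyi, mul_zero]
  have hsum : (i + δ) * (i + δ) = i + δ := by
    rw [add_mul, mul_add, mul_add, hii, hδδ, hiδ, hδi, add_zero, zero_add]
  rw [rho_eq hM hf hu (hi.add hM hδ) hsum (BrEq.add hM hia (hδy.trans hM hyb)),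
    rho_eq hM hf hu hi hii hia, rho_eq hM hf hu hδ hδδ (hδy.trans hM hyb), mul_add, ev_add]

theorem rho_swap (hM : IsPModular p M) (hf : IsClassFunction G f) (hu : ∃ k, orderOf u = p ^ k)
    {x y : MonoidAlgebra ℂ G} (hx : Fx M (Subgroup.zpowers u) x) (hy : Fx M (Subgroup.zpowers u) y)
    (h1 : BrEq M (Subgroup.zpowers u) (x * y * (x * y)) (x * y))
    (h2 : BrEq M (Subgroup.zpowers u) (y * x * (y * x)) (y * x)) :
    rho M f u (x * y) = rho M f u (y * x) := by
  have hR : IsPGroup p (Subgroup.zpowers u) := isPGroup_zpowers hu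
  have hxy := hx.mul hM hy
  obtain ⟨δ, t, hδ, ht, hδδ, hδe, het, hcomm⟩ := exists_lift hM hR le_rfl hxy h1
  obtain ⟨-, htc⟩ := hcomm (x * y) (Commute.refl _)
  have htδ : Commute t δ :=
    ((hcomm t htc.symm).1).symm
  have hetδ : BrEq M (Subgroup.zpowers u) (t * δ) δ := by
    have h3 := BrEq.mul hM hR hδ hxy (ht.mul hM hδ) (ht.mul hM hδ) hδe (BrEq.refl hM (t * δ))
    rwa [← mul_assoc (x * y) t δ, het, ← mul_assoc, ← htδ.eq, mul_assoc, hδδ] at h3
  set i := y * (t * δ) * x with hi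
  have hif : Fx M (Subgroup.zpowers u) i := (hy.mul hM (ht.mul hM hδ)).mul hM hx
  have hii : i * i = i := by
    calc i * i = y * (t * δ) * ((x * y) * t * δ) * x := by simp only [hi, mul_assoc]
      _ = y * (t * (δ * δ)) * x := by rw [het]; simp only [mul_assoc]
      _ = i := by rw [hδδ]
  have hib : BrEq M (Subgroup.zpowers u) i (y * x) := by
    have h3 := BrEq.mul hM hR (hy.mul hM (ht.mul hM hδ)) (hy.mul hM hxy) hx hx
      (BrEq.mul hM hR hy hy (ht.mul hM hδ) hxy (BrEq.refl hM y) (hetδ.trans hM hδe))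
      (BrEq.refl hM x)
    refine h3.trans hM ?_
    rw [show y * (x * y) * x = y * x * (y * x) by simp only [mul_assoc]]
    exact h2
  rw [rho_eq hM hf hu hδ hδδ hδe, rho_eq hM hf hu hif hii hib]
  have hxu : Commute (sgl u) x := hx.2 u (Subgroup.mem_zpowers u)
  conv_lhs => rw [← het, mul_assoc x y, mul_assoc x, ← mul_assoc (sgl u), hxu.eq, mul_assoc,
    ev_mul_comm hf]
  simp only [hi, mul_assoc]

theorem rho_conj (hM : IsPModular p M) (hf : IsClassFunction G f) (hu : ∃ k, orderOf u = p ^ k)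
    (g : G) {a : MonoidAlgebra ℂ G} (ha : Fx M (Subgroup.zpowers u) a)
    (haa : BrEq M (Subgroup.zpowers u) (a * a) a) :
    rho M f (g * u * g⁻¹) (cjA g a) = rho M f u a := by
  obtain ⟨i, hi, hii, hia⟩ := exists_rho hM hu ha haa
  have hu' : ∃ k, orderOf (g * u * g⁻¹) = p ^ k := by
    obtain ⟨k, hk⟩ := hu
    exact ⟨k, by rw [← MulAut.conj_apply, MulEquiv.orderOf_eq, hk]⟩
  rw [rho_eq hM hf hu hi hii hia, rho_eq hM hf hu' (i := cjA g i)
    (by rw [← zpowers_map_conj]; exact cjA_fx hM g hi) (by rw [← cjA_mul, hii])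
    (by rw [← zpowers_map_conj]; exact cjA_brEq g hia)]
  show ev f (sgl (g * u * g⁻¹) * cjA g i) = _
  rw [← cjA_single, ← cjA_mul, ev_cjA hf]

/-! ### The weighted sum over the pairs at an element -/

/-- The pairs at an element. -/
noncomputable def prs (p : ℕ) (M : Ideal AlgInt) (u : G) : Finset (BrauerPairIdx G) :=
  (Set.toFinite {a : BrauerPairIdx G | a.1 = Subgroup.zpowers u ∧ IsPr p M a}).toFinset

theorem mem_prs {a : BrauerPairIdx G} :
    a ∈ prs p M u ↔ a.1 = Subgroup.zpowers u ∧ IsPr p M a := by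
  simp [prs]

theorem sum_prs {β : Type*} [AddCommMonoid β] (hu : ∃ k, orderOf u = p ^ k)
    (F : BrauerPairIdx G → β) :
    ∑ a ∈ prs p M u, F a =
      ∑ b ∈ blks M (CG (Subgroup.zpowers u)), F ⟨Subgroup.zpowers u, b⟩ := by
  symm
  refine Finset.sum_bij (fun b _ => (⟨Subgroup.zpowers u, b⟩ : BrauerPairIdx G))
    (fun b hb => mem_prs.2 ⟨rfl, isPGroup_zpowers hu, mem_blks.1 hb⟩)
    (fun b _ b' _ h => by injection h) (fun a ha => ?_) fun _ _ => rfl
  obtain ⟨h1, h2⟩ := mem_prs.1 ha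
  obtain ⟨Q, b⟩ := a
  obtain rfl : Q = Subgroup.zpowers u := h1
  exact ⟨b, mem_blks.2 h2.2, rfl⟩

/-- Two pairs at one element have orthogonal idempotents. -/
theorem pz_mul_ne (hM : IsPModular p M) {a b : BrauerPairIdx G} (ha : IsPr p M a)
    (hb : IsPr p M b) (h : a.1 = b.1) (hne : a ≠ b) : pz a * pz b = 0 := by
  obtain ⟨Q, e⟩ := a
  obtain ⟨Q', e'⟩ := b
  obtain rfl : Q = Q' := h
  rw [pz, pz, ← algOf_convFun, bc_mul_ne hM ha.2 hb.2 fun he => hne (congrArg (Sigma.mk Q) he)]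
  simp [algOf]

/-- The weighted sum of the values at `u` of the parts of `x` in the pairs at `u`. -/
noncomputable def theta (p : ℕ) (M : Ideal AlgInt) (w : G → BrauerPairIdx G → ℂ) (f : G → ℂ)
    (x : MonoidAlgebra ℂ G) (u : G) : ℂ :=
  ∑ a ∈ prs p M u, w u a * rho M f u (x * pz a)

/-- The weights are invariant under conjugation. -/
def WConj (p : ℕ) (M : Ideal AlgInt) (w : G → BrauerPairIdx G → ℂ) : Prop :=
  ∀ (g u : G) (a : BrauerPairIdx G), (∃ k, orderOf u = p ^ k) → a.1 = Subgroup.zpowers u →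
    IsPr p M a → w (g * u * g⁻¹) (cjI g a) = w u a

variable {w : G → BrauerPairIdx G → ℂ} {Q : Subgroup G} {x y : MonoidAlgebra ℂ G}

theorem mul_pz_fx (hM : IsPModular p M) (hx : Fx M Q x) (huQ : u ∈ Q) {a : BrauerPairIdx G}
    (ha : a ∈ prs p M u) : Fx M (Subgroup.zpowers u) (x * pz a) := by
  obtain ⟨h1, h2⟩ := mem_prs.1 ha
  exact (hx.mono (Subgroup.zpowers_le.2 huQ)).mul hM (h1 ▸ pz_fx_self hM h2)

theorem mul_pz_idem (hM : IsPModular p M) (hu : ∃ k, orderOf u = p ^ k)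
    (hx : Fx M (Subgroup.zpowers u) x) (hxx : BrEq M (Subgroup.zpowers u) (x * x) x)
    {a : BrauerPairIdx G} (ha : a ∈ prs p M u) :
    BrEq M (Subgroup.zpowers u) (x * pz a * (x * pz a)) (x * pz a) := by
  obtain ⟨h1, h2⟩ := mem_prs.1 ha
  refine idem_mul_brEq hM (isPGroup_zpowers hu) hx (h1 ▸ pz_fx_self hM h2) hxx ?_ ?_
  · rw [pz_idem hM h2]
    exact BrEq.refl hM _
  · exact h1 ▸ (pz_central hM h2 (h1.symm ▸ hx)).symm

theorem theta_congr (hM : IsPModular p M) (hu : ∃ k, orderOf u = p ^ k) (hx : Fx M Q x)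
    (hy : Fx M Q y) (huQ : u ∈ Q) (h : AlgIdeal M (x - y)) :
    theta p M w f x u = theta p M w f y u := by
  refine Finset.sum_congr rfl fun a ha => ?_
  obtain ⟨h1, h2⟩ := mem_prs.1 ha
  have hz : Fx M (Subgroup.zpowers u) (pz a) := h1 ▸ pz_fx_self hM h2
  rw [rho_congr hM (BrEq.mul hM (isPGroup_zpowers hu) (hx.mono (Subgroup.zpowers_le.2 huQ))
    (hy.mono (Subgroup.zpowers_le.2 huQ)) hz hz (brEq_of_sub h) (BrEq.refl hM _))]

theorem theta_of_brEq_zero (hM : IsPModular p M) (hf : IsClassFunction G f)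
    (hu : ∃ k, orderOf u = p ^ k) (hx : Fx M (Subgroup.zpowers u) x)
    (h : BrEq M (Subgroup.zpowers u) x 0) : theta p M w f x u = 0 := by
  refine Finset.sum_eq_zero fun a ha => ?_
  obtain ⟨h1, h2⟩ := mem_prs.1 ha
  rw [rho_congr hM (BrEq.mul_zero_left hM (isPGroup_zpowers hu) hx (h1 ▸ pz_fx_self hM h2) h),
    rho_zero hM hf hu, mul_zero]

theorem theta_add (hM : IsPModular p M) (hf : IsClassFunction G f) (hu : ∃ k, orderOf u = p ^ k)
    (hx : Fx M Q x) (hy : Fx M Q y) (huQ : u ∈ Q) (hxx : AlgIdeal M (x * x - x))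
    (hyy : AlgIdeal M (y * y - y)) (hxy : AlgIdeal M (x * y)) (hyx : AlgIdeal M (y * x)) :
    theta p M w f (x + y) u = theta p M w f x u + theta p M w f y u := by
  rw [theta, theta, theta, ← Finset.sum_add_distrib]
  refine Finset.sum_congr rfl fun a ha => ?_
  obtain ⟨h1, h2⟩ := mem_prs.1 ha
  have hR : IsPGroup p (Subgroup.zpowers u) := isPGroup_zpowers hu
  have hxu := hx.mono (Subgroup.zpowers_le.2 huQ)
  have hyu := hy.mono (Subgroup.zpowers_le.2 huQ)
  have hz : Fx M (Subgroup.zpowers u) (pz a) := h1 ▸ pz_fx_self hM h2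
  have horth : ∀ {s t : MonoidAlgebra ℂ G}, Fx M (Subgroup.zpowers u) s →
      Fx M (Subgroup.zpowers u) t → AlgIdeal M (s * t) →
      BrEq M (Subgroup.zpowers u) (s * pz a * (t * pz a)) 0 := by
    intro s t hs ht hst
    have hc : BrEq M (Subgroup.zpowers u) (pz a * t) (t * pz a) :=
      h1 ▸ (pz_central hM h2 (h1.symm ▸ ht)).symm
    have h3 := BrEq.mul hM hR (hs.mul hM (hz.mul hM ht)) (hs.mul hM (ht.mul hM hz)) hz hz
      (BrEq.mul hM hR hs hs (hz.mul hM ht) (ht.mul hM hz) (BrEq.refl hM s) hc) (BrEq.refl hM _)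
    simp only [mul_assoc] at h3 ⊢
    refine h3.trans hM ?_
    rw [← mul_assoc s t]
    exact BrEq.of_ideal (AlgIdeal.mul_right hM hst ((hz.mul hM hz).1))
  rw [add_mul, rho_add hM hf hu (hxu.mul hM hz) (hyu.mul hM hz)
    (mul_pz_idem hM hu hxu (brEq_of_sub hxx) ha) (mul_pz_idem hM hu hyu (brEq_of_sub hyy) ha)
    (horth hxu hyu hxy) (horth hyu hxu hyx), mul_add]

theorem theta_swap (hM : IsPModular p M) (hf : IsClassFunction G f) (hu : ∃ k, orderOf u = p ^ k)
    (hx : Fx M Q x) (hy : Fx M Q y) (huQ : u ∈ Q) (h1 : AlgIdeal M (x * y * (x * y) - x * y))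
    (h2 : AlgIdeal M (y * x * (y * x) - y * x)) :
    theta p M w f (x * y) u = theta p M w f (y * x) u := by
  refine Finset.sum_congr rfl fun a ha => ?_
  obtain ⟨ha1, ha2⟩ := mem_prs.1 ha
  have hR : IsPGroup p (Subgroup.zpowers u) := isPGroup_zpowers hu
  have hxu := hx.mono (Subgroup.zpowers_le.2 huQ)
  have hyu := hy.mono (Subgroup.zpowers_le.2 huQ)
  have hz : Fx M (Subgroup.zpowers u) (pz a) := ha1 ▸ pz_fx_self hM ha2
  have hc : ∀ {s t : MonoidAlgebra ℂ G}, Fx M (Subgroup.zpowers u) s →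
      Fx M (Subgroup.zpowers u) t →
      BrEq M (Subgroup.zpowers u) (s * pz a * (t * pz a)) (s * t * pz a) := by
    intro s t hs ht
    have hcen : BrEq M (Subgroup.zpowers u) (pz a * t) (t * pz a) :=
      ha1 ▸ (pz_central hM ha2 (ha1.symm ▸ ht)).symm
    have h3 := BrEq.mul hM hR (hs.mul hM (hz.mul hM ht)) (hs.mul hM (ht.mul hM hz)) hz hz
      (BrEq.mul hM hR hs hs (hz.mul hM ht) (ht.mul hM hz) (BrEq.refl hM s) hcen) (BrEq.refl hM _)
    simp only [mul_assoc, pz_idem hM ha2] at h3 ⊢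
    exact h3
  have hxz := hxu.mul hM hz
  have hyz := hyu.mul hM hz
  have hidem : ∀ {s t : MonoidAlgebra ℂ G}, Fx M (Subgroup.zpowers u) s →
      Fx M (Subgroup.zpowers u) t → AlgIdeal M (s * t * (s * t) - s * t) →
      BrEq M (Subgroup.zpowers u) (s * pz a * (t * pz a) * (s * pz a * (t * pz a)))
        (s * pz a * (t * pz a)) := by
    intro s t hs ht hst
    have hf1 := (hs.mul hM hz).mul hM (ht.mul hM hz)
    have hf2 := (hs.mul hM ht).mul hM hz
    exact ((BrEq.mul hM hR hf1 hf2 hf1 hf2 (hc hs ht) (hc hs ht)).trans hM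
      (mul_pz_idem hM hu (hs.mul hM ht) (brEq_of_sub hst) ha)).trans hM (hc hs ht).symm
  congr 1
  rw [← rho_congr hM (hc hxu hyu), rho_swap hM hf hu hxz hyz (hidem hxu hyu h1)
    (hidem hyu hxu h2), rho_congr hM (hc hyu hxu)]

theorem theta_conj (hM : IsPModular p M) (hf : IsClassFunction G f) (hw : WConj p M w)
    (hu : ∃ k, orderOf u = p ^ k) (hx : Fx M Q x) (huQ : u ∈ Q)
    (hxx : AlgIdeal M (x * x - x)) (g : G) :
    theta p M w f (cjA g x) (g * u * g⁻¹) = theta p M w f x u := by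
  symm
  refine Finset.sum_bij (fun a _ => cjI g a) (fun a ha => ?_)
    (fun a _ b _ h => by rw [← cjI_inv_cancel g a, h, cjI_inv_cancel]) (fun b hb => ?_)
    fun a ha => ?_
  · obtain ⟨h1, h2⟩ := mem_prs.1 ha
    exact mem_prs.2 ⟨by rw [← zpowers_map_conj, ← h1]; rfl, isPr_cjI hM g h2⟩
  · obtain ⟨h1, h2⟩ := mem_prs.1 hb
    refine ⟨cjI g⁻¹ b, mem_prs.2 ⟨?_, isPr_cjI hM _ h2⟩, cjI_cancel_inv g b⟩
    show b.1.map (MulAut.conj g⁻¹).toMonoidHom = _
    rw [h1, zpowers_map_conj]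
    congr 1
    group
  · obtain ⟨h1, h2⟩ := mem_prs.1 ha
    rw [hw g u a hu h1 h2, pz_cjI, ← cjA_mul, rho_conj hM hf hu g (mul_pz_fx hM hx huQ ha)
      (mul_pz_idem hM hu (hx.mono (Subgroup.zpowers_le.2 huQ)) (brEq_of_sub hxx) ha)]

/-- At an idempotent lying in the pairs below `r`, only the pair below `r` counts. -/
theorem theta_local (hM : IsPModular p M) (hf : IsClassFunction G f)
    {i : MonoidAlgebra ℂ G} (hu : ∃ k, orderOf u = p ^ k) (hi : Fx M (Subgroup.zpowers u) i)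
    (hii : i * i = i) {a : BrauerPairIdx G} (ha : a ∈ prs p M u)
    (hloc : BrEq M a.1 (i * pz a) i) :
    theta p M w f i u = w u a * ev f (sgl u * i) := by
  obtain ⟨h1, h2⟩ := mem_prs.1 ha
  have hR : IsPGroup p (Subgroup.zpowers u) := isPGroup_zpowers hu
  rw [h1] at hloc
  rw [theta, Finset.sum_eq_single a, rho_congr hM hloc, rho_eq hM hf hu hi hii (BrEq.refl hM i)]
  · intro b hb hne
    obtain ⟨hb1, hb2⟩ := mem_prs.1 hb
    have hza : Fx M (Subgroup.zpowers u) (pz a) := h1 ▸ pz_fx_self hM h2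
    have hzb : Fx M (Subgroup.zpowers u) (pz b) := hb1 ▸ pz_fx_self hM hb2
    have h0 : BrEq M (Subgroup.zpowers u) (i * pz b) 0 := by
      refine (BrEq.mul hM hR hi (hi.mul hM hza) hzb hzb hloc.symm (BrEq.refl hM _)).trans hM ?_
      rw [mul_assoc, pz_mul_ne hM h2 hb2 (h1.trans hb1.symm) hne.symm, mul_zero]
      exact BrEq.refl hM 0
    rw [rho_congr hM h0, rho_zero hM hf hu, mul_zero]
  · exact fun h => absurd ha h

end Cfsg.Agent.Char.Star
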