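import Cfsg.Agent.Lib.Char.StarLocal
import Mathlib.GroupTheory.Sylow

/-!
A primitive idempotent vanishing at a `p`-group is the sum of the conjugates of an element fixed by
a subgroup of index `p`.
-/

namespace Cfsg.Agent.Char.Star

open Cfsg.Agent.Block Cfsg.Agent.Char.BP Cfsg.Agent.Char.Spec

set_option linter.unusedSectionVars false
set_option linter.style.haveILetI false
set_option maxHeartbeats 800000

universe u

variable {G : Type u} [Group G] [Fintype G] [DecidableEq G] {p : ℕ} {M : Ideal AlgInt}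

/-- `R` is a normal subgroup of index `p` of `Q`. -/
def IdxP (p : ℕ) (Q R : Subgroup G) : Prop :=
  R ≤ Q ∧ (∀ q ∈ Q, ∀ r ∈ R, q * r * q⁻¹ ∈ R) ∧ Nat.card Q = p * Nat.card R

theorem IdxP.lt [Fact p.Prime] {Q R : Subgroup G} (h : IdxP p Q R) : R < Q := by
  refine lt_of_le_of_ne h.1 fun he => ?_
  subst he
  have h1 := h.2.2
  have h2 : 1 < p := (Fact.out : p.Prime).one_lt
  have h3 : 0 < Nat.card R := Nat.card_pos
  nlinarith

/-- The powers of an element outside give the cosets. -/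
theorem IdxP.coset [Fact p.Prime] {Q R : Subgroup G} (hQ : IsPGroup p Q) (h : IdxP p Q R) {t : G}
    (ht : t ∈ Q) (htR : t ∉ R) (q : G) (hq : q ∈ Q) :
    ∃! i : Fin p, (t ^ (i : ℕ))⁻¹ * q ∈ R := by
  classical
  have hp : p.Prime := Fact.out
  have hinj : ∀ i j : Fin p, (t ^ (i : ℕ))⁻¹ * t ^ (j : ℕ) ∈ R → i = j := by
    intro i j hij
    wlog hle : (i : ℕ) ≤ (j : ℕ) generalizing i j
    · refine (this j i ?_ (le_of_not_ge hle)).symm
      have := inv_mem hij
      rwa [mul_inv_rev, inv_inv] at this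
    by_contra hne
    have hlt : (i : ℕ) < (j : ℕ) := lt_of_le_of_ne hle fun e => hne (Fin.ext e)
    set m := (j : ℕ) - (i : ℕ) with hm
    have hmR : t ^ m ∈ R := by
      have e : t ^ (j : ℕ) = t ^ (i : ℕ) * t ^ m := by
        rw [← pow_add]; congr 1; omega
      rwa [e, inv_mul_cancel_left] at hij
    obtain ⟨k, hk0⟩ := hQ ⟨t, ht⟩
    have hk : t ^ p ^ k = 1 := congrArg Subtype.val hk0
    obtain ⟨l, -, hl⟩ := (Nat.dvd_prime_pow hp).1 (orderOf_dvd_of_pow_eq_one hk)
    have hco : Nat.Coprime m (orderOf t) := by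
      rw [hl]
      exact (Nat.Coprime.pow_right _ ((Nat.coprime_comm).1 (hp.coprime_iff_not_dvd.2 fun hd => by
        have := Nat.le_of_dvd (by omega) hd
        have := j.2
        omega)))
    obtain ⟨n, hn⟩ := exists_pow_eq_self_of_coprime hco
    exact htR (hn ▸ pow_mem hmR n)
  let φ : Fin p × R → Q := fun z => ⟨t ^ (z.1 : ℕ) * z.2, mul_mem (pow_mem ht _) (h.1 z.2.2)⟩
  have hφ : Function.Injective φ := by
    rintro ⟨i, r⟩ ⟨j, s⟩ he
    have he' : t ^ (i : ℕ) * (r : G) = t ^ (j : ℕ) * s := congrArg Subtype.val he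
    have hij : (t ^ (i : ℕ))⁻¹ * t ^ (j : ℕ) = (r : G) * (s : G)⁻¹ := by
      rw [eq_mul_inv_iff_mul_eq, mul_assoc, ← he', inv_mul_cancel_left]
    obtain rfl := hinj i j (hij ▸ mul_mem r.2 (inv_mem s.2))
    exact Prod.ext rfl (Subtype.ext (mul_left_cancel he'))
  have hcard : Nat.card (Fin p × R) = Nat.card Q := by
    rw [Nat.card_prod, Nat.card_fin, h.2.2]
  have hbij : Function.Bijective φ := by
    cases nonempty_fintype R
    cases nonempty_fintype Q
    rw [Fintype.bijective_iff_injective_and_card, ← Nat.card_eq_fintype_card,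
      ← Nat.card_eq_fintype_card]
    exact ⟨hφ, hcard⟩
  obtain ⟨⟨i, r⟩, hir⟩ := hbij.2 ⟨q, hq⟩
  have hq' : t ^ (i : ℕ) * (r : G) = q := congrArg Subtype.val hir
  refine ⟨i, ?_, fun j hj => (hinj i j ?_).symm⟩
  · show (t ^ (i : ℕ))⁻¹ * q ∈ R
    rw [← hq', inv_mul_cancel_left]
    exact r.2
  · have := mul_mem r.2 (inv_mem hj)
    rwa [← hq', mul_inv_rev, inv_inv, mul_inv_rev, mul_assoc (r : G)⁻¹, ← mul_assoc (r : G),
      mul_inv_cancel, one_mul] at this

/-- A proper subgroup lies in a normal subgroup of index `p`. -/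
theorem exists_idxP [Fact p.Prime] {Q S : Subgroup G} (hQ : IsPGroup p Q) (hS : S < Q) :
    ∃ R, IdxP p Q R ∧ S ≤ R := by
  have hp : p.Prime := Fact.out
  obtain ⟨n, hn⟩ := IsPGroup.iff_card.1 hQ
  set S' := S.subgroupOf Q with hS'
  obtain ⟨m, hm⟩ := IsPGroup.iff_card.1 (hQ.to_subgroup S')
  have hmn : m < n := by
    have h1 : Nat.card S' = Nat.card S :=
      Nat.card_congr (Subgroup.subgroupOfEquivOfLe hS.le).toEquiv
    have h2 := Cfsg.Agent.Fus.card_lt_of_lt hS
    rw [← h1, hm, hn] at h2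
    exact (Nat.pow_lt_pow_iff_right hp.one_lt).1 h2
  obtain ⟨K, hK, hSK⟩ := Sylow.exists_subgroup_card_pow_prime_le p (n := m) (m := n - 1)
    (hn ▸ pow_dvd_pow p (Nat.sub_le n 1)) S' hm (by omega)
  have hidx : K.index = p := by
    have h1 := K.card_mul_index
    rw [hK, hn] at h1
    have h2 : p ^ n = p ^ (n - 1) * p := by rw [← pow_succ]; congr 1; omega
    rw [h2] at h1
    exact Nat.eq_of_mul_eq_mul_left (pow_pos hp.pos _) h1
  haveI : K.Normal := Subgroup.normal_of_index_eq_minFac_card (by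
    rw [hidx, hn, hp.pow_minFac (by omega)])
  refine ⟨K.map Q.subtype, ⟨Subgroup.map_subtype_le K, ?_, ?_⟩, fun s hs => ?_⟩
  · rintro q hq _ ⟨r, hr, rfl⟩
    exact ⟨⟨q, hq⟩ * r * ⟨q, hq⟩⁻¹, Subgroup.Normal.conj_mem inferInstance r hr _, rfl⟩
  · rw [← Nat.card_congr (K.equivMapOfInjective _ Q.subtype_injective).toEquiv,
      ← K.card_mul_index, hidx, mul_comm]
  · exact ⟨⟨s, hS.le hs⟩, hSK (show (⟨s, hS.le hs⟩ : Q) ∈ S' from hs), rfl⟩

/-- The orbit of `g` under conjugation by `Q`. -/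
def orbS (Q : Subgroup G) (g : G) : Set G := {h | ∃ q ∈ Q, q * g * q⁻¹ = h}

theorem orbS_conj {Q : Subgroup G} {g q : G} (hq : q ∈ Q) :
    orbS Q (q * g * q⁻¹) = orbS Q g := by
  ext h
  constructor
  · rintro ⟨r, hr, rfl⟩
    exact ⟨r * q, mul_mem hr hq, by group⟩
  · rintro ⟨r, hr, rfl⟩
    exact ⟨r * q⁻¹, mul_mem hr (inv_mem hq), by group⟩

/-- A representative of a set. -/
noncomputable def pickRep (S : Set G) : G := by
  classical
  exact if h : S.Nonempty then h.some else 1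

theorem pickRep_mem {Q : Subgroup G} (g : G) :
    ∃ q ∈ Q, q * pickRep (orbS Q g) * q⁻¹ = g := by
  have hne : (orbS Q g).Nonempty := ⟨g, 1, one_mem Q, by group⟩
  rw [pickRep, dif_pos hne]
  obtain ⟨q, hq, he⟩ := hne.some_mem
  exact ⟨q⁻¹, inv_mem hq, by rw [← he]; group⟩

theorem cjA_add (g : G) (a b : MonoidAlgebra ℂ G) : cjA g (a + b) = cjA g a + cjA g b := by
  simp [cjA, mul_add, add_mul]

theorem exists_mem_notMem {Q R : Subgroup G} (h : R < Q) : ∃ t ∈ Q, t ∉ R :=
  Set.exists_of_ssubset (SetLike.coe_ssubset_coe.2 h)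

/-- An element vanishing at `Q` is a sum of relative traces from maximal subgroups. -/
theorem exists_decomp [Fact p.Prime] (hM : IsPModular p M) {Q : Subgroup G} (hQ : IsPGroup p Q)
    {a : MonoidAlgebra ℂ G} (ha : Fx M Q a) (h0 : BrEq M Q a 0) :
    ∃ (S : Finset (Subgroup G)) (T : Subgroup G → MonoidAlgebra ℂ G), (∀ R ∈ S, IdxP p Q R) ∧
      (∀ R, Fx M Q (T R)) ∧ AlgIdeal M (a - ∑ R ∈ S, T R) ∧
      ∀ R ∈ S, ∀ t ∈ Q, t ∉ R →
        ∃ c, Fx M R c ∧ T R = ∑ i : Fin p, cjA (t ^ (i : ℕ)) c := by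
  classical
  have hai := (fx_iff.1 ha).2
  let ρ : G → G := fun g => pickRep (orbS Q g)
  let St : G → Subgroup G := fun g => Q ⊓ Subgroup.centralizer ({g} : Set G)
  let Rf : G → Subgroup G := fun g =>
    if h : ∃ R, IdxP p Q R ∧ St g ≤ R then h.choose else Q
  let S := Finset.univ.filter fun R : Subgroup G => IdxP p Q R
  let P : Subgroup G → G → Prop := fun R h => St (ρ h) < Q ∧ Rf (ρ h) = R
  let T : Subgroup G → MonoidAlgebra ℂ G := fun R =>
    algOf (MonoidHom.id G) fun h => if P R h then a.coeff h else 0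
  have hρ : ∀ q ∈ Q, ∀ h, ρ (q * h * q⁻¹) = ρ h := fun q hq h => by
    simp only [ρ, orbS_conj hq]
  have hRf : ∀ g, St g < Q → IdxP p Q (Rf g) ∧ St g ≤ Rf g := fun g hg => by
    have h := exists_idxP hQ hg
    simp only [Rf, dif_pos h]
    exact h.choose_spec
  have hfix : ∀ h, ¬ St (ρ h) < Q → h ∈ CG Q := by
    intro h hh
    have he : St (ρ h) = Q := eq_of_le_of_not_lt inf_le_left hh
    have hρQ : ρ h ∈ CG Q := Subgroup.mem_centralizer_iff.2 fun v hv =>
      Subgroup.mem_centralizer_singleton_iff.1 (he.ge hv).2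
    obtain ⟨q, hq, hqh⟩ := pickRep_mem (Q := Q) h
    have : h = ρ h := by
      conv_lhs => rw [← hqh]
      rw [Subgroup.mem_centralizer_iff.1 hρQ q hq, mul_inv_cancel_right]
    rwa [this]
  refine ⟨S, T, fun R hR => (Finset.mem_filter.1 hR).2, fun R => fx_iff.2
    ⟨AlgRing.algOf hM _ fun h => ?_, fun q hq h => ?_⟩, fun h => ?_, fun R hR t ht htR => ?_⟩
  · split_ifs
    · exact ha.1 h
    · exact ring_zero hM
  · show (T R).coeff _ = (T R).coeff h
    simp only [T, algOf_coeff_id, P, hρ q hq h, hai q hq h]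
  · simp only [T, MonoidAlgebra.coeff_sub, Finsupp.sub_apply, MonoidAlgebra.coeff_sum,
      Finsupp.coe_finsetSum, Finset.sum_apply, algOf_coeff_id]
    by_cases hlt : St (ρ h) < Q
    · rw [Finset.sum_eq_single (Rf (ρ h)), if_pos (show P _ h from ⟨hlt, rfl⟩), sub_self]
      · exact ideal_zero hM
      · exact fun R _ hne => if_neg fun hp => hne hp.2.symm
      · exact fun hn => absurd (Finset.mem_filter.2 ⟨Finset.mem_univ _, (hRf _ hlt).1⟩) hn
    · rw [Finset.sum_eq_zero (fun R _ => if_neg fun hp => hlt hp.1), sub_zero]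
      simpa using h0 h (hfix h hlt)
  · have hR' := (Finset.mem_filter.1 hR).2
    let C : G → Prop := fun h => P R h ∧ ∃ r ∈ R, r * ρ h * r⁻¹ = h
    refine ⟨algOf (MonoidHom.id G) fun h => if C h then a.coeff h else 0,
      fx_iff.2 ⟨AlgRing.algOf hM _ fun h => ?_, fun r hr h => ?_⟩, ?_⟩
    · split_ifs
      · exact ha.1 h
      · exact ring_zero hM
    · simp only [algOf_coeff_id]
      have hC : C (r * h * r⁻¹) ↔ C h := by
        simp only [C, P, hρ r (hR'.1 hr) h]
        refine and_congr_right fun _ => ⟨?_, ?_⟩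
        · rintro ⟨s, hs, he⟩
          refine ⟨r⁻¹ * s, mul_mem (inv_mem hr) hs, ?_⟩
          rw [show r⁻¹ * s * ρ h * (r⁻¹ * s)⁻¹ = r⁻¹ * (s * ρ h * s⁻¹) * r by group, he]
          group
        · rintro ⟨s, hs, he⟩
          refine ⟨r * s, mul_mem hr hs, ?_⟩
          rw [show r * s * ρ h * (r * s)⁻¹ = r * (s * ρ h * s⁻¹) * r⁻¹ by group, he]
      simp only [hC, hai r (hR'.1 hr) h]
    · ext h
      simp only [MonoidAlgebra.coeff_sum, Finsupp.coe_finsetSum, Finset.sum_apply, cjA_coeff, T,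
        algOf_coeff_id]
      have hti : ∀ i : Fin p, t ^ (i : ℕ) ∈ Q := fun i => pow_mem ht _
      have hval : ∀ i : Fin p, a.coeff ((t ^ (i : ℕ))⁻¹ * h * t ^ (i : ℕ)) = a.coeff h := fun i => by
        have := hai _ (inv_mem (hti i)) h
        rwa [inv_inv] at this
      have hρi : ∀ i : Fin p, ρ ((t ^ (i : ℕ))⁻¹ * h * t ^ (i : ℕ)) = ρ h := fun i => by
        have := hρ _ (inv_mem (hti i)) h
        rwa [inv_inv] at this
      by_cases hP : P R h
      · obtain ⟨q, hq, hqh⟩ := pickRep_mem (Q := Q) h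
        change q * ρ h * q⁻¹ = h at hqh
        have hsR : St (ρ h) ≤ R := hP.2 ▸ (hRf _ hP.1).2
        have hiff : ∀ i : Fin p, C ((t ^ (i : ℕ))⁻¹ * h * t ^ (i : ℕ)) ↔
            (t ^ (i : ℕ))⁻¹ * q ∈ R := by
          intro i
          set s := t ^ (i : ℕ)
          simp only [C, P, s, hρi i]
          constructor
          · rintro ⟨-, r, hr, he⟩
            have hmem : r⁻¹ * (s⁻¹ * q) ∈ St (ρ h) := by
              refine ⟨Subgroup.mul_mem Q (Subgroup.inv_mem Q (hR'.1 hr))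
                (Subgroup.mul_mem Q (Subgroup.inv_mem Q (hti i)) hq),
                Subgroup.mem_centralizer_singleton_iff.2 ?_⟩
              calc r⁻¹ * (s⁻¹ * q) * ρ h
                  = r⁻¹ * (s⁻¹ * (q * ρ h * q⁻¹) * s) * s⁻¹ * q := by group
                _ = r⁻¹ * (r * ρ h * r⁻¹) * s⁻¹ * q := by rw [hqh, he]
                _ = ρ h * (r⁻¹ * (s⁻¹ * q)) := by group
            have := mul_mem hr (hsR hmem)
            rwa [mul_inv_cancel_left] at this
          · intro hm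
            refine ⟨hP, _, hm, ?_⟩
            calc s⁻¹ * q * ρ h * (s⁻¹ * q)⁻¹ = s⁻¹ * (q * ρ h * q⁻¹) * s := by group
              _ = _ := by rw [hqh]
        obtain ⟨i₀, hi₀, huniq⟩ := hR'.coset hQ ht htR q hq
        rw [if_pos hP, Finset.sum_eq_single i₀, if_pos ((hiff i₀).2 hi₀), hval]
        · exact fun i _ hne => if_neg fun hc => hne (huniq i ((hiff i).1 hc))
        · exact fun hn => absurd (Finset.mem_univ _) hn
      · rw [if_neg hP, Finset.sum_eq_zero]
        refine fun i _ => if_neg fun hc => hP ?_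
        have := hc.1
        simp only [P, hρi i] at this ⊢
        exact this

/-- `x` has a right inverse in the corner at `j`, modulo the maximal ideal. -/
def HasInv (M : Ideal AlgInt) (Q : Subgroup G) (j x : MonoidAlgebra ℂ G) : Prop :=
  ∃ s, Fx M Q s ∧ AlgIdeal M (x * s - j)

theorem hasInv_of_add (hM : IsPModular p M) {Q : Subgroup G} {j a b : MonoidAlgebra ℂ G}
    (hj : Prim M Q j) (ha : Fx M Q a) (hb : Fx M Q b) (hja : j * a = a)
    (h : HasInv M Q j (a + b)) : HasInv M Q j a ∨ HasInv M Q j b := by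
  obtain ⟨s, hs, hab⟩ := h
  set a' := a * s * j with ha'
  have hja' : j * a' = a' := by rw [ha', ← mul_assoc, ← mul_assoc, hja]
  have ha'j : a' * j = a' := by rw [ha', mul_assoc, hj.2.1]
  have ha'f : Fx M Q a' := (ha.mul hM hs).mul hM hj.1
  have hsum : AlgIdeal M (a' + b * (s * j) - j) := by
    have h1 := AlgIdeal.mul_right hM hab hj.1.1
    convert h1 using 1
    rw [sub_mul, hj.2.1, add_mul, add_mul, ha']
    simp only [mul_assoc]
  rcases prim_dichotomy hM hj ha'f hja' ha'j with ⟨y, hy, -, hay⟩ | ⟨N, hN⟩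
  · refine Or.inl ⟨s * j * y * j, ((hs.mul hM hj.1).mul hM hy).mul hM hj.1, ?_⟩
    rw [show a * (s * j * y * j) = a' * y * j by simp only [ha', mul_assoc], hay, sub_self]
    exact AlgIdeal.zero hM
  · refine Or.inr ⟨s * j * ((∑ k ∈ Finset.range (N + 1), a' ^ k) * j),
      (hs.mul hM hj.1).mul hM (Fx.mul hM ⟨AlgRing.sum hM fun k _ => AlgRing.pow hM ha'f.1 k,
        fun u hu => Commute.sum_right _ _ _ fun k _ => (ha'f.2 u hu).pow_right k⟩ hj.1), ?_⟩
    have hs' : AlgRing M ((∑ k ∈ Finset.range (N + 1), a' ^ k) * j) :=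
      (AlgRing.sum hM fun k _ => AlgRing.pow hM ha'f.1 k).mul hM hj.1.1
    have h1 := AlgIdeal.mul_right hM hsum hs'
    have h2 : AlgIdeal M (a' ^ (N + 1) * j) := by
      rw [pow_succ', mul_assoc]
      exact AlgIdeal.mul_left hM ha'f.1 hN
    have hjS : ∀ k : ℕ, j * (a' ^ k * j) = a' ^ k * j := by
      intro k
      rcases k with _ | k
      · simp [hj.2.1]
      · rw [pow_succ', ← mul_assoc, ← mul_assoc, hja']
    have key : (j - a') * ((∑ k ∈ Finset.range (N + 1), a' ^ k) * j) = j - a' ^ (N + 1) * j := by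
      have h3 : ∀ k : ℕ, (j - a') * (a' ^ k * j) = a' ^ k * j - a' ^ (k + 1) * j := fun k => by
        rw [sub_mul, hjS, ← mul_assoc, ← pow_succ']
      rw [Finset.sum_mul, Finset.mul_sum, Finset.sum_congr rfl (fun k _ => h3 k),
        Finset.sum_range_sub' (fun k => a' ^ k * j), pow_zero, one_mul]
    have h4 := AlgIdeal.sub hM h1 h2
    convert h4 using 1
    rw [show a' + b * (s * j) - j = b * (s * j) - (j - a') by abel, sub_mul _ (j - a'), key]
    simp only [mul_assoc]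
    abel

/-- A primitive idempotent vanishing at `Q` is a relative trace from a maximal subgroup. -/
theorem exists_trace_form [Fact p.Prime] (hM : IsPModular p M) {Q : Subgroup G}
    (hQ : IsPGroup p Q) {j : MonoidAlgebra ℂ G} (hj : Prim M Q j) (hne : j ≠ 0)
    (h0 : BrEq M Q j 0) :
    ∃ (R : Subgroup G) (t : G) (c : MonoidAlgebra ℂ G), IdxP p Q R ∧ t ∈ Q ∧ t ∉ R ∧ Fx M R c ∧
      AlgIdeal M (j - ∑ i : Fin p, cjA (t ^ (i : ℕ)) c) := by
  classical
  obtain ⟨S, T, hS, hTf, hTs, hTc⟩ := exists_decomp hM hQ hj.1 h0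
  let y : Subgroup G → MonoidAlgebra ℂ G := fun R => j * T R * j
  have hyf : ∀ R, Fx M Q (y R) := fun R => (hj.1.mul hM (hTf R)).mul hM hj.1
  have htot : HasInv M Q j (∑ R ∈ S, y R) := by
    refine ⟨1, Fx.one hM, ?_⟩
    have h1 := (AlgIdeal.mul_right hM (AlgIdeal.mul_left hM hj.1.1 hTs) hj.1.1).neg
    convert h1 using 1
    rw [mul_one, mul_sub, sub_mul, hj.2.1, hj.2.1, Finset.mul_sum, Finset.sum_mul, neg_sub]
  have hind : ∀ S' ⊆ S, HasInv M Q j (∑ R ∈ S', y R) → ∃ R ∈ S', HasInv M Q j (y R) := by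
    intro S'
    induction S' using Finset.induction with
    | empty =>
      rintro - ⟨s, -, hs⟩
      rw [Finset.sum_empty, zero_mul, zero_sub] at hs
      exact absurd (idem_eq_zero hM (by simpa using hs.neg) hj.2.1) hne
    | @insert R S' hR ih =>
      intro hsub h
      rw [Finset.sum_insert hR] at h
      have hrest : Fx M Q (∑ R ∈ S', y R) := ⟨AlgRing.sum hM fun R _ => (hyf R).1,
        fun u hu => Commute.sum_right _ _ _ fun R _ => (hyf R).2 u hu⟩
      have hjy : j * y R = y R := by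
        simp only [y, ← mul_assoc, hj.2.1]
      rcases hasInv_of_add hM hj (hyf R) hrest hjy h with h' | h'
      · exact ⟨R, Finset.mem_insert_self _ _, h'⟩
      · obtain ⟨R', hR', hR''⟩ := ih ((Finset.subset_insert _ _).trans hsub) h'
        exact ⟨R', Finset.mem_insert_of_mem hR', hR''⟩
  obtain ⟨R, hR, s, hs, hys⟩ := hind S subset_rfl htot
  obtain ⟨t, ht, htR⟩ := exists_mem_notMem (hS R hR).lt
  obtain ⟨c, hc, hTc'⟩ := hTc R hR t ht htR
  refine ⟨R, t, j * c * (j * s), hS R hR, ht, htR,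
    ((hj.1.mono (hS R hR).1).mul hM hc).mul hM ((hj.1.mul hM hs).mono (hS R hR).1), ?_⟩
  have e : ∑ i : Fin p, cjA (t ^ (i : ℕ)) (j * c * (j * s)) = y R * s := by
    simp only [y, hTc', cjA_mul, cjA_fix (hj.1.2 _ (pow_mem ht _)),
      cjA_fix (hs.2 _ (pow_mem ht _)), Finset.mul_sum, Finset.sum_mul]
    simp only [mul_assoc]
  rw [e, ← neg_sub]
  exact hys.neg

end Cfsg.Agent.Char.Star
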