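import Cfsg.Agent.Lib.Char.BNReduced
import Cfsg.Agent.Lib.Classical.UnipotentChar
import Cfsg.Prelude.Def_ParabolicCharacters

/-!
The alternating sum of parabolic permutation characters of a finite group with a (B,N)-pair.
-/

set_option autoImplicit false
set_option linter.unusedSectionVars false

namespace Cfsg.Agent.Char.StBN

open scoped ComplexConjugate
open Cfsg Cfsg.Agent.Lie Cfsg.Agent.Char.BNRed

universe u

variable {G : Type u} [Group G] (P : BNPair G)

/-- The set of representatives attached to a finite set of generators. -/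
abbrev img (J : Finset P.S) : Set G := Subtype.val '' (↑J : Set P.S)

theorem img_subset (J : Finset P.S) : img P J ⊆ P.S := by
  rintro _ ⟨s, -, rfl⟩
  exact s.2

theorem mem_img {J : Finset P.S} {s : P.S} : (s : G) ∈ img P J ↔ s ∈ J :=
  ⟨fun ⟨t, ht, e⟩ => Subtype.ext e ▸ ht, fun h => ⟨s, h, rfl⟩⟩

theorem B_le_parabolic (J : Set G) : P.B ≤ P.parabolic J := le_sup_left

/-- Elements of the two cells multiply into a cell for a subword. -/
theorem cell_mul_word {J : Set G} (l : List P.S) (hl : ∀ s ∈ l, (s : G) ∈ J) :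
    ∀ {w : Weyl P} {x y : G}, x ∈ cell P w → y ∈ cell P (wprod P l) →
      ∃ v ∈ weylPara P J, x * y ∈ cell P (w * v) := by
  induction l using List.reverseRecOn with
  | nil =>
    intro w x y hx hy
    rw [wprod_nil, cell_one] at hy
    exact ⟨1, one_mem _, by rw [mul_one]; exact cell_mul_B P hy hx⟩
  | append_singleton l r ih =>
    intro w x y hx hy
    rw [wprod_append, wprod_cons, wprod_nil, mul_one] at hy
    obtain ⟨n, hn⟩ := proj_surj P (wprod P l)
    rw [← hn, Lie.refl, ← map_mul, mem_cell_proj] at hy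
    obtain ⟨b₁, h₁, b₂, h₂, rfl⟩ := hy
    obtain ⟨v, hv, hxy⟩ := ih (fun s hs => hl s (by simp [hs])) hx
      (y := b₁ * n) (by rw [← hn]; exact cell_B_mul P h₁ (mem_cell_self P n))
    have hr : ((sN P r : P.N) : G) * b₂ ∈ cell P (Lie.refl P r) :=
      cell_mul_B P h₂ (mem_cell_self P (sN P r))
    have e : x * (b₁ * ((n * sN P r : P.N) : G) * b₂) = x * (b₁ * n) * ((sN P r : G) * b₂) := by
      simp [mul_assoc]
    rw [e]
    rcases cell_mul_refl P hxy hr with h | h
    · exact ⟨v * Lie.refl P r, mul_mem hv (refl_mem_weylPara P (hl r (by simp))), by rwa [← mul_assoc]⟩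
    · exact ⟨v, hv, h⟩

theorem cell_mul_parabolic {J : Set G} (hJ : J ⊆ P.S) {w : Weyl P} {x q : G} (hx : x ∈ cell P w)
    (hq : q ∈ P.parabolic J) : ∃ v ∈ weylPara P J, x * q ∈ cell P (w * v) := by
  obtain ⟨v, hv, hqv⟩ := (mem_parabolic_iff P hJ).1 hq
  obtain ⟨l, -, rfl, hl⟩ := reduced_word_of_mem P hv
  exact cell_mul_word P l hl hx hqv

theorem parabolic_mul_cell {K : Set G} (hK : K ⊆ P.S) {w : Weyl P} {x q : G} (hx : x ∈ cell P w)
    (hq : q ∈ P.parabolic K) : ∃ v ∈ weylPara P K, q * x ∈ cell P (v * w) := by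
  obtain ⟨v, hv, h⟩ := cell_mul_parabolic P hK (cell_inv P hx) (inv_mem hq)
  refine ⟨v⁻¹, inv_mem hv, ?_⟩
  have := cell_inv P h
  simpa using this

theorem mul_cell_add : ∀ {w v : Weyl P}, len P (w * v) = len P w + len P v → ∀ {x y : G},
    x ∈ cell P w → y ∈ cell P v → x * y ∈ cell P (w * v) := by
  intro w
  induction hn : len P w using Nat.strong_induction_on generalizing w with
  | _ n ih =>
  subst hn
  intro v hadd x y hx hy
  by_cases h1 : w = 1
  · subst h1
    rw [cell_one] at hx
    rw [one_mul]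
    exact cell_B_mul P hx hy
  obtain ⟨l, hl, rfl⟩ := exists_reduced P w
  match l, hl with
  | [], _ => exact absurd rfl h1
  | s :: l, hl =>
    simp only [wprod_cons, List.length_cons] at hl hadd hx ⊢
    have hl' := len_le P l
    have h2 := len_refl_mul_le P s (wprod P l)
    obtain ⟨m, hm⟩ := proj_surj P (wprod P l)
    have hx' : x ∈ cell P (proj P (sN P s * m)) := by rw [map_mul, hm]; exact hx
    obtain ⟨b₁, h₁, b₂, h₂, rfl⟩ := (mem_cell_proj P).1 hx'
    have h4 := len_mul_le P (wprod P l) v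
    have h5 := len_mul_le P (Lie.refl P s) (wprod P l * v)
    rw [len_refl, ← mul_assoc] at h5
    have hi := ih (len P (wprod P l)) (by rw [wprod_cons]; omega) rfl (v := v) (by omega)
      (x := (m : G) * b₂) (y := y) (cell_mul_B P h₂ (hm ▸ mem_cell_self P m)) hy
    have := mul_cell_of_len_le P (wprod P l * v) (s := s) (by rw [← mul_assoc]; omega)
      (b₁ * (sN P s : G)) (cell_B_mul P h₁ (mem_cell_self P (sN P s))) _ hi
    rw [mul_assoc (Lie.refl P s)]
    convert this using 1
    simp [mul_assoc]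

theorem cell_split {w v : Weyl P} (h : len P (w * v) = len P w + len P v) {z : G}
    (hz : z ∈ cell P (w * v)) : ∃ x ∈ cell P w, ∃ y ∈ cell P v, z = x * y := by
  obtain ⟨n, rfl⟩ := proj_surj P w
  obtain ⟨m, rfl⟩ := proj_surj P v
  rw [← map_mul, mem_cell_proj] at hz
  obtain ⟨b₁, h₁, b₂, h₂, rfl⟩ := hz
  exact ⟨b₁ * n, cell_B_mul P h₁ (mem_cell_self P n), m * b₂, cell_mul_B P h₂ (mem_cell_self P m),
    by simp [mul_assoc]⟩

theorem mem_B_of_same_coset {J : Set G} (hJ : J ⊆ P.S) {w w' : Weyl P} (hw : RA P J w)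
    (hw' : RA P J w') {x y : G} (hx : x ∈ cell P w) (hy : y ∈ cell P w')
    (h : x⁻¹ * y ∈ P.parabolic J) : w' = w ∧ x⁻¹ * y ∈ P.B := by
  obtain ⟨v, hv, hq⟩ := (mem_parabolic_iff P hJ).1 h
  have hm := mul_cell_add P (len_mul P hw hv) hx hq
  rw [mul_inv_cancel_left] at hm
  have e := cell_unique P hy hm
  have : w' = w := ascent_unique P (LA_empty P w) hw (LA_empty P w') hw'
    ⟨1, one_mem _, v, hv, by rw [one_mul]; exact e⟩
  subst this
  have hv1 : v = 1 := by rwa [left_eq_mul] at e
  rw [hv1, cell_one] at hq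
  exact ⟨rfl, hq⟩

/-- The cosets of `B` in a cell. -/
def cellPts (w : Weyl P) : Set (G ⧸ P.B) := {c | Quotient.out c ∈ cell P w}

theorem mk_mem_cellPts {w : Weyl P} {x : G} : (x : G ⧸ P.B) ∈ cellPts P w ↔ x ∈ cell P w := by
  obtain ⟨b, hb⟩ := QuotientGroup.mk_out_eq_mul P.B x
  show Quotient.out (x : G ⧸ P.B) ∈ cell P w ↔ _
  rw [hb]
  refine ⟨fun h => ?_, fun h => cell_mul_B P b.2 h⟩
  simpa using cell_mul_B P (inv_mem b.2) h

/-- Fixed cosets in a cell. -/
noncomputable def cellFix (w : Weyl P) (g : G) : ℕ :=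
  Nat.card {c : G ⧸ P.B // c ∈ cellPts P w ∧ g • c = c}

/-- The stabiliser in `B` of the coset of `n`. -/
def stabB (n : G) : Subgroup P.B := (P.B.comap (MulAut.conj n⁻¹).toMonoidHom).subgroupOf P.B

theorem mem_stabB {n : G} {y : P.B} : y ∈ stabB P n ↔ n⁻¹ * (y : G) * n ∈ P.B := by
  simp [stabB, Subgroup.mem_subgroupOf, MulAut.conj_apply]

/-- The torus inside `B`. -/
abbrev torB : Subgroup P.B := (P.B ⊓ P.N).subgroupOf P.B

theorem torB_le_stabB (n : P.N) : torB P ≤ stabB P (n : G) := fun y hy => by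
  rw [mem_stabB]
  simpa using P.conj_mem _ (inv_mem n.2) (y : G) hy

variable [Finite G]

theorem fix_parabolic (J : Finset P.S) {b : G} (hb : b ∈ P.B) [Fintype (Weyl P)]
    [DecidablePred (RA P (img P J))] :
    Nat.card (MulAction.fixedBy (G ⧸ P.parabolic (img P J)) b) =
      ∑ w ∈ Finset.univ.filter (RA P (img P J)), cellFix P w b := by
  classical
  have hJ := img_subset P J
  let π : G ⧸ P.B → G ⧸ P.parabolic (img P J) :=
    Subgroup.quotientMapOfLE (B_le_parabolic P _)
  have hπ : ∀ (g : G) (c : G ⧸ P.B), π (g • c) = g • π c := by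
    intro g c
    induction c using QuotientGroup.induction_on with
    | _ x => rfl
  let f : (Σ w : {w // RA P (img P J) w}, {c : G ⧸ P.B // c ∈ cellPts P w.1 ∧ b • c = c}) →
      MulAction.fixedBy (G ⧸ P.parabolic (img P J)) b :=
    fun s => ⟨π s.2.1, by show b • π s.2.1 = π s.2.1; rw [← hπ, s.2.2.2]⟩
  have hf : Function.Bijective f := by
    constructor
    · rintro ⟨⟨w, hw⟩, ⟨c, hc, hc'⟩⟩ ⟨⟨w', hw'⟩, ⟨c', hd, hd'⟩⟩ h
      have h' : π c = π c' := congrArg Subtype.val h
      induction c using QuotientGroup.induction_on with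
      | _ x =>
        induction c' using QuotientGroup.induction_on with
        | _ y =>
          obtain ⟨rfl, hB⟩ := mem_B_of_same_coset P hJ hw hw' ((mk_mem_cellPts P).1 hc)
            ((mk_mem_cellPts P).1 hd) (QuotientGroup.eq.1 h')
          have : (x : G ⧸ P.B) = (y : G ⧸ P.B) := QuotientGroup.eq.2 hB
          simp only [this]
    · rintro ⟨c, hc⟩
      induction c using QuotientGroup.induction_on with
      | _ z =>
        obtain ⟨u, hu⟩ := exists_cell P z
        obtain ⟨w, -, hw, a, ha, v, hv, rfl, hl⟩ := exists_decomp P ∅ (img P J) u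
        rw [weylPara_empty, Subgroup.mem_bot] at ha
        subst ha
        rw [one_mul] at hu
        obtain ⟨x, hx, y, hy, rfl⟩ := cell_split P (len_mul P hw hv) hu
        have hyQ : y ∈ P.parabolic (img P J) := (mem_parabolic_iff P hJ).2 ⟨v, hv, hy⟩
        have hxy : ((x * y : G) : G ⧸ P.parabolic (img P J)) = (x : G ⧸ P.parabolic (img P J)) :=
          QuotientGroup.eq.2 (by simpa using inv_mem hyQ)
        have hc' : b • (x : G ⧸ P.parabolic (img P J)) = (x : G ⧸ P.parabolic (img P J)) := by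
          rw [← hxy]; exact hc
        have hbx : b • (x : G ⧸ P.B) = (x : G ⧸ P.B) := by
          refine QuotientGroup.eq.2 ?_
          exact (mem_B_of_same_coset P hJ hw hw (cell_B_mul P hb hx) hx (QuotientGroup.eq.1 hc')).2
        exact ⟨⟨⟨w, hw⟩, ⟨(x : G ⧸ P.B), (mk_mem_cellPts P).2 hx, hbx⟩⟩, Subtype.ext hxy.symm⟩
  rw [← Nat.card_eq_of_bijective f hf, Nat.card_sigma]
  exact (Finset.sum_subtype (Finset.univ.filter (RA P (img P J))) (by simp) (fun w => cellFix P w b)).symm

/-- The alternating sum. -/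
noncomputable def stBN [Fintype P.S] (g : G) : ℂ :=
  ∑ J : Finset P.S, (-1 : ℂ) ^ J.card * fixedPointCharacter (P.parabolic (img P J)) g

theorem filter_ascent [Fintype P.S] [DecidableEq P.S] (w : Weyl P) [DecidablePred fun J : Finset P.S => RA P (img P J) w]
    [DecidablePred fun s : P.S => len P w < len P (w * Lie.refl P s)] :
    Finset.univ.filter (fun J : Finset P.S => RA P (img P J) w) =
      (Finset.univ.filter fun s : P.S => len P w < len P (w * Lie.refl P s)).powerset := by
  ext J
  rw [Finset.mem_filter, Finset.mem_powerset]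
  exact ⟨fun h s hs => Finset.mem_filter.2 ⟨Finset.mem_univ s, h.2 s ((mem_img P).2 hs)⟩,
    fun h => ⟨Finset.mem_univ J, fun s hs => (Finset.mem_filter.1 (h ((mem_img P).1 hs))).2⟩⟩

theorem cellFix_eq (n : P.N) (y : P.B) :
    (cellFix P (proj P n) (y : G) : ℂ) = fixedPointCharacter (stabB P (n : G)) y := by
  classical
  let f : P.B ⧸ stabB P (n : G) → {c : G ⧸ P.B // c ∈ cellPts P (proj P n)} :=
    Quotient.lift (fun x : P.B => (⟨(((x : G) * (n : G) : G) : G ⧸ P.B),
      (mk_mem_cellPts P).2 (cell_B_mul P x.2 (mem_cell_self P n))⟩ :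
      {c : G ⧸ P.B // c ∈ cellPts P (proj P n)})) fun x z h => by
        have h' := (mem_stabB P).1 (QuotientGroup.leftRel_apply.1 h)
        refine Subtype.ext (QuotientGroup.eq.2 ?_)
        simpa [mul_assoc] using h'
  have hf : Function.Bijective f := by
    refine ⟨fun a c h => ?_, fun c => ?_⟩
    · induction a using QuotientGroup.induction_on with
      | _ x => induction c using QuotientGroup.induction_on with
        | _ z =>
          refine QuotientGroup.eq.2 ((mem_stabB P).2 ?_)
          simpa [mul_assoc] using QuotientGroup.eq.1 (congrArg Subtype.val h :)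
    · obtain ⟨c, hc⟩ := c
      induction c using QuotientGroup.induction_on with
      | _ x =>
        obtain ⟨b₁, h₁, b₂, h₂, rfl⟩ := (mem_cell_proj P).1 ((mk_mem_cellPts P).1 hc)
        refine ⟨((⟨b₁, h₁⟩ : P.B) : P.B ⧸ stabB P (n : G)), Subtype.ext (QuotientGroup.eq.2 ?_)⟩
        simpa [mul_assoc] using h₂
  have hequiv : ∀ c, (f (y • c)).1 = (y : G) • (f c).1 := by
    intro c
    induction c using QuotientGroup.induction_on with
    | _ x =>
      show ((((y * x : P.B) : G) * (n : G) : G) : G ⧸ P.B) = (((y : G) * ((x : G) * (n : G)) : G) : G ⧸ P.B)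
      rw [Subgroup.coe_mul, mul_assoc]
  rw [fixedPointCharacter, cellFix, Nat.cast_inj]
  symm
  refine Nat.card_eq_of_bijective
    (fun c => (⟨(f c.1).1, (f c.1).2, by rw [← hequiv, (show y • c.1 = c.1 from c.2)]⟩ :
      {c : G ⧸ P.B // c ∈ cellPts P (proj P n) ∧ (y : G) • c = c})) ⟨fun a c h => ?_, fun c => ?_⟩
  · exact Subtype.ext (hf.1 (Subtype.ext (congrArg Subtype.val h :)))
  · obtain ⟨d, hd⟩ := hf.2 ⟨c.1, c.2.1⟩
    refine ⟨⟨d, hf.1 (Subtype.ext ?_)⟩, Subtype.ext (congrArg Subtype.val hd :)⟩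
    rw [hequiv, hd]
    exact c.2.2

theorem cellFix_one (n : P.N) : cellFix P (proj P n) 1 = (stabB P (n : G)).index := by
  have h := cellFix_eq P n 1
  rw [Subgroup.coe_one, fixedPointCharacter, MulAction.fixedBy_one_eq_univ, Nat.card_univ,
    ← Subgroup.index_eq_card] at h
  exact Nat.cast_injective h

theorem exists_two_in_refl (s : P.S) :
    ∃ y ∈ cell P (Lie.refl P s), ∃ z ∈ cell P (Lie.refl P s), y⁻¹ * z ∉ P.B := by
  by_contra h
  push Not at h
  apply P.conj_ne s.1 s.2
  have hs : (s : G) ∈ cell P (Lie.refl P s) := mem_cell_self P (sN P s)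
  have hcl : ∀ b ∈ P.B, (s : G)⁻¹ * b * s ∈ P.B := fun b hb => by
    have := h _ hs _ (cell_B_mul P hb hs)
    rwa [← mul_assoc] at this
  have hfun : ∀ b ∈ P.B, (s : G) * b * s ∈ P.B := fun b hb => by
    have e : (s : G) * b * s = ((s : G) * s) * ((s : G)⁻¹ * b * s) := by group
    rw [e]
    exact mul_mem (P.sq_mem _ s.2) (hcl b hb)
  refine Set.eq_of_subset_of_ncard_le (by rintro _ ⟨b, hb, rfl⟩; exact hfun b hb) ?_
  rw [Set.ncard_image_of_injective _ (fun a c e => mul_left_cancel (mul_right_cancel e))]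

theorem cellFix_lt {w : Weyl P} {s : P.S} (h : len P w < len P (w * Lie.refl P s)) :
    cellFix P w 1 < cellFix P (w * Lie.refl P s) 1 := by
  classical
  obtain ⟨y, hy, z, hz, hyz⟩ := exists_two_in_refl P s
  have hadd : len P (w * Lie.refl P s) = len P w + len P (Lie.refl P s) := by
    have := len_mul_le P w (Lie.refl P s)
    rw [len_refl] at this ⊢
    omega
  have hRA : RA P ({(s : G)} : Set G) w := fun t ht => by
    rw [Set.mem_singleton_iff] at ht
    rwa [Subtype.ext ht]
  let X := {c : G ⧸ P.B // c ∈ cellPts P w ∧ (1 : G) • c = c}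
  let Y := {c : G ⧸ P.B // c ∈ cellPts P (w * Lie.refl P s) ∧ (1 : G) • c = c}
  let f : X × Bool → Y := fun p => ⟨((Quotient.out p.1.1 * cond p.2 y z : G) : G ⧸ P.B),
    (mk_mem_cellPts P).2 (mul_cell_add P hadd p.1.2.1 (by cases p.2 <;> assumption)), one_smul _ _⟩
  have hinS : ∀ t ∈ cell P (Lie.refl P s), t ∈ P.parabolic ({(s : G)} : Set G) := fun t ht =>
    (mem_parabolic_iff P (by simpa using s.2)).2 ⟨_, refl_mem_weylPara P (Set.mem_singleton _), ht⟩
  have hf : Function.Injective f := by
    rintro ⟨c, i⟩ ⟨d, j⟩ e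
    have e' := QuotientGroup.eq.1 (congrArg Subtype.val e :)
    set a := Quotient.out c.1
    set b := Quotient.out d.1
    have hi : cond i y z ∈ cell P (Lie.refl P s) := by cases i <;> assumption
    have hj : cond j y z ∈ cell P (Lie.refl P s) := by cases j <;> assumption
    have hq : a⁻¹ * b ∈ P.parabolic ({(s : G)} : Set G) := by
      have := mul_mem (mul_mem (hinS _ hi) (B_le_parabolic P _ e')) (inv_mem (hinS _ hj))
      simpa [mul_assoc] using this
    obtain ⟨-, hB⟩ := mem_B_of_same_coset P (by simpa using s.2) hRA hRA c.2.1 d.2.1 hq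
    have hcd : c.1 = d.1 := by
      rw [← QuotientGroup.out_eq' c.1, ← QuotientGroup.out_eq' d.1]
      exact QuotientGroup.eq.2 hB
    have hc : c = d := Subtype.ext hcd
    subst hc
    have e'' : (cond i y z)⁻¹ * cond j y z ∈ P.B := by simpa [a, b, mul_assoc] using e'
    have hij : i = j := by
      cases i <;> cases j <;> simp_all
      · exact hyz (by simpa using inv_mem e'')
    rw [hij]
  have hle := Nat.card_le_card_of_injective f hf
  rw [Nat.card_prod, show Nat.card Bool = 2 by simp] at hle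
  have hpos : 0 < cellFix P w 1 := by
    obtain ⟨n, rfl⟩ := proj_surj P w
    rw [cellFix_one]
    exact Nat.pos_of_ne_zero Subgroup.index_ne_zero_of_finite
  show cellFix P w 1 < Nat.card Y
  have : cellFix P w 1 * 2 ≤ Nat.card Y := hle
  omega

/-- An element whose conjugate of `B` meets `B` in the torus has no ascent. -/
theorem no_ascent_of_small {n : P.N} (h : ∀ y ∈ P.B, (n : G)⁻¹ * y * n ∈ P.B → y ∈ P.N) (s : P.S) :
    ¬ len P (proj P n) < len P (proj P n * Lie.refl P s) := by
  intro hlt
  have h1 := cellFix_lt P hlt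
  rw [Lie.refl, ← map_mul, cellFix_one, cellFix_one] at h1
  have e : stabB P (n : G) = torB P := le_antisymm
    (fun y hy => ⟨y.2, h y y.2 ((mem_stabB P).1 hy)⟩) (torB_le_stabB P n)
  have h2 := Subgroup.index_dvd_of_le (torB_le_stabB P (n * sN P s))
  rw [e] at h1
  exact absurd (Nat.le_of_dvd (Nat.pos_of_ne_zero Subgroup.index_ne_zero_of_finite) h2) (not_le.2 h1)

/-- The values on `B`. -/
theorem stBN_on_B [Fintype P.S] {n : P.N}
    (h : ∀ y ∈ P.B, (n : G)⁻¹ * y * n ∈ P.B → y ∈ P.N) (y : P.B) :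
    stBN P (y : G) = fixedPointCharacter (torB P) y := by
  classical
  haveI := Fintype.ofFinite (Weyl P)
  have e1 : ∀ J : Finset P.S, (-1 : ℂ) ^ J.card * fixedPointCharacter (P.parabolic (img P J)) (y : G) =
      ∑ w : Weyl P, if RA P (img P J) w then (-1 : ℂ) ^ J.card * (cellFix P w (y : G) : ℂ) else 0 := by
    intro J
    rw [fixedPointCharacter, fix_parabolic P J y.2, Nat.cast_sum, Finset.mul_sum, Finset.sum_filter]
  have e2 : ∀ w : Weyl P, (∑ J : Finset P.S,
      if RA P (img P J) w then (-1 : ℂ) ^ J.card * (cellFix P w (y : G) : ℂ) else 0) =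
      if w = proj P n then (cellFix P w (y : G) : ℂ) else 0 := by
    intro w
    rw [← Finset.sum_filter, filter_ascent, ← Finset.sum_mul]
    have h0 := congrArg (fun z : ℤ => (z : ℂ)) (Finset.sum_powerset_neg_one_pow_card
      (x := Finset.univ.filter fun s : P.S => len P w < len P (w * Lie.refl P s)))
    push_cast at h0
    rw [h0]
    have hiff : (Finset.univ.filter fun s : P.S => len P w < len P (w * Lie.refl P s)) = ∅ ↔ w = proj P n := by
      rw [Finset.filter_eq_empty_iff]
      exact ⟨fun hh => no_ascent_unique P (fun s => hh (Finset.mem_univ s)) (no_ascent_of_small P h),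
        fun e s _ => e ▸ no_ascent_of_small P h s⟩
    simp only [hiff, ite_mul, one_mul, zero_mul]
  rw [stBN, Finset.sum_congr rfl fun J _ => e1 J, Finset.sum_comm, Finset.sum_congr rfl fun w _ => e2 w,
    Finset.sum_ite_eq', if_pos (Finset.mem_univ _), cellFix_eq]
  have e : stabB P (n : G) = torB P := le_antisymm
    (fun y hy => ⟨y.2, h y y.2 ((mem_stabB P).1 hy)⟩) (torB_le_stabB P n)
  rw [e]

theorem stBN_one [Fintype P.S] {n : P.N} (h : ∀ y ∈ P.B, (n : G)⁻¹ * y * n ∈ P.B → y ∈ P.N) :
    stBN P (1 : G) = ((torB P).index : ℂ) := by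
  have := stBN_on_B P h 1
  rw [Subgroup.coe_one] at this
  rw [this, fixedPointCharacter, MulAction.fixedBy_one_eq_univ, Nat.card_univ, ← Subgroup.index_eq_card]

/-- Double cosets of parabolic subgroups as elements ascending on both sides. -/
theorem card_orbits (K J : Finset P.S) :
    Nat.card (MulAction.orbitRel.Quotient G ((G ⧸ P.parabolic (img P K)) × (G ⧸ P.parabolic (img P J)))) =
      Nat.card {w : Weyl P // LA P (img P K) w ∧ RA P (img P J) w} := by
  classical
  have hK := img_subset P K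
  have hJ := img_subset P J
  choose rep hrep using proj_surj P
  have hmem : ∀ w, (rep w : G) ∈ cell P w := fun w => by
    have := mem_cell_self P (rep w); rwa [hrep] at this
  symm
  refine Nat.card_eq_of_bijective (fun w => Quotient.mk'' (((1 : G) : G ⧸ P.parabolic (img P K)),
    ((rep w.1 : G) : G ⧸ P.parabolic (img P J)))) ⟨?_, ?_⟩
  · rintro ⟨w, hwL, hwR⟩ ⟨w', hwL', hwR'⟩ h
    obtain ⟨g, hg⟩ := Quotient.exact' h
    have h1 : g * 1 ∈ P.parabolic (img P K) := by
      have := QuotientGroup.eq.1 (congrArg Prod.fst hg :)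
      simpa using this
    have h2 : (g * (rep w' : G))⁻¹ * (rep w : G) ∈ P.parabolic (img P J) :=
      QuotientGroup.eq.1 (congrArg Prod.snd hg :)
    rw [mul_one] at h1
    obtain ⟨a, ha, hc1⟩ := parabolic_mul_cell P hK (hmem w') h1
    obtain ⟨v, hv, hc2⟩ := cell_mul_parabolic P hJ hc1 h2
    rw [mul_inv_cancel_left] at hc2
    have e := cell_unique P (hmem w) hc2
    exact Subtype.ext (ascent_unique P hwL' hwR' hwL hwR ⟨a, ha, v, hv, e⟩)
  · intro q
    induction q using Quotient.inductionOn' with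
    | h p =>
      obtain ⟨x', y'⟩ := p
      induction x' using QuotientGroup.induction_on with
      | _ x => induction y' using QuotientGroup.induction_on with
        | _ y =>
          obtain ⟨u, hu⟩ := exists_cell P (x⁻¹ * y)
          obtain ⟨w, hwL, hwR, a, ha, v, hv, rfl, -⟩ := exists_decomp P (img P K) (img P J) u
          refine ⟨⟨w, hwL, hwR⟩, Quotient.sound' ?_⟩
          rw [← hrep a, ← hrep v, ← hrep w, ← map_mul, ← map_mul, mem_cell_proj] at hu
          obtain ⟨b₁, h₁, b₂, h₂, e⟩ := hu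
          have hq1 : b₁ * (rep a : G) ∈ P.parabolic (img P K) :=
            (mem_parabolic_iff P hK).2 ⟨a, ha, cell_B_mul P h₁ (hmem a)⟩
          have hq2 : (rep v : G) * b₂ ∈ P.parabolic (img P J) :=
            (mem_parabolic_iff P hJ).2 ⟨v, hv, cell_mul_B P h₂ (hmem v)⟩
          refine ⟨(x * (b₁ * (rep a : G)))⁻¹, Prod.ext ?_ ?_⟩
          · refine QuotientGroup.eq.2 ?_
            simpa [mul_assoc] using hq1
          · refine QuotientGroup.eq.2 ?_
            have ey : y = x * (b₁ * (rep a : G)) * ((rep w : G) * ((rep v : G) * b₂)) := by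
              rw [show y = x * (x⁻¹ * y) by group, e]
              simp [mul_assoc]
            show ((x * (b₁ * (rep a : G)))⁻¹ * y)⁻¹ * (rep w : G) ∈ _
            rw [ey]
            simpa [mul_assoc] using inv_mem hq2

/-- Norm one. -/
theorem classInner_stBN [Fintype G] [Fintype P.S] {n : P.N}
    (h : ∀ y ∈ P.B, (n : G)⁻¹ * y * n ∈ P.B → y ∈ P.N) : classInner (stBN P) (stBN P) = 1 := by
  classical
  haveI := Fintype.ofFinite (Weyl P)
  set w₀ := proj P n
  obtain ⟨m, hm⟩ := exists_max P
  have hm0 : m = w₀ :=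
    no_ascent_unique P (fun s => (max_no_ascent P hm s).1) (no_ascent_of_small P h)
  have hfun : stBN P = ∑ J : Finset P.S, (-1 : ℂ) ^ J.card • fixedPointCharacter (P.parabolic (img P J)) := by
    funext g
    simp [stBN, Finset.sum_apply]
  have e2 : ∀ K : Finset P.S, ∀ w : Weyl P, (∑ J : Finset P.S,
      if LA P (img P K) w ∧ RA P (img P J) w then (-1 : ℂ) ^ J.card else 0) =
      if LA P (img P K) w ∧ w = w₀ then 1 else 0 := by
    intro K w
    by_cases hL : LA P (img P K) w
    · simp only [hL, true_and]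
      rw [← Finset.sum_filter, filter_ascent]
      have h0 := congrArg (fun z : ℤ => (z : ℂ)) (Finset.sum_powerset_neg_one_pow_card
        (x := Finset.univ.filter fun s : P.S => len P w < len P (w * Lie.refl P s)))
      push_cast at h0
      rw [h0]
      refine if_congr ?_ rfl rfl
      rw [Finset.filter_eq_empty_iff]
      exact ⟨fun hh => no_ascent_unique P (fun s => hh (Finset.mem_univ s)) (no_ascent_of_small P h),
        fun e s _ => e ▸ no_ascent_of_small P h s⟩
    · simp [hL]
  have hK : ∀ K : Finset P.S, ∑ J : Finset P.S, (-1 : ℂ) ^ J.card *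
      classInner (fixedPointCharacter (P.parabolic (img P K))) (fixedPointCharacter (P.parabolic (img P J))) =
      if K = ∅ then 1 else 0 := by
    intro K
    have e1 : ∀ J : Finset P.S, (-1 : ℂ) ^ J.card *
        classInner (fixedPointCharacter (P.parabolic (img P K))) (fixedPointCharacter (P.parabolic (img P J))) =
        ∑ w : Weyl P, if LA P (img P K) w ∧ RA P (img P J) w then (-1 : ℂ) ^ J.card else 0 := by
      intro J
      rw [Cfsg.Agent.Classical.UnipotentChar.classInner_fixedPointCharacter, card_orbits,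
        Nat.card_eq_fintype_card, Fintype.card_subtype, ← Finset.sum_filter, Finset.sum_const,
        nsmul_eq_mul, mul_comm]
    rw [Finset.sum_congr rfl fun J _ => e1 J, Finset.sum_comm, Finset.sum_congr rfl fun w _ => e2 K w,
      Finset.sum_eq_single w₀ (fun w _ hne => by rw [if_neg (fun hh => hne hh.2)])
        (fun hh => absurd (Finset.mem_univ _) hh)]
    refine if_congr ⟨fun ⟨hL, _⟩ => ?_, fun e => ⟨?_, rfl⟩⟩ rfl rfl
    · rw [Finset.eq_empty_iff_forall_notMem]
      intro s hs
      have := hL s ((mem_img P).2 hs)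
      rw [← hm0] at this
      exact (max_no_ascent P hm s).2 this
    · subst e
      intro s hs
      exact absurd ((mem_img P).1 hs) (Finset.notMem_empty s)
  rw [hfun, classInner_sum_left, Finset.sum_congr rfl fun K _ => by
    rw [classInner_smul_left, classInner_sum_right, Finset.sum_congr rfl fun J _ => by
      rw [classInner_smul_right, map_pow, map_neg, map_one], hK K]]
  rw [Finset.sum_eq_single ∅ (fun K _ hne => by rw [if_neg hne, mul_zero])
    (fun hh => absurd (Finset.mem_univ _) hh)]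
  simp

/-- The alternating sum is an irreducible character. -/
theorem isIrr_stBN [Fintype P.S] {n : P.N}
    (h : ∀ y ∈ P.B, (n : G)⁻¹ * y * n ∈ P.B → y ∈ P.N) : IsIrrCharacter G (stBN P) := by
  classical
  haveI := Fintype.ofFinite G
  have hgen : IsGeneralizedCharacter G (stBN P) := by
    have hfun : stBN P = ∑ J : Finset P.S,
        ((((-1 : ℤ) ^ J.card : ℤ)) : ℂ) • fixedPointCharacter (P.parabolic (img P J)) := by
      funext g
      simp [stBN, Finset.sum_apply]
    rw [hfun]
    exact IsGenChar.sum fun J _ => IsGenChar.zsmul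
      (IsGenChar.of_isCharacter (Cfsg.Agent.Classical.UnipotentChar.isCharacter_fixedPointCharacter _)) _
  rcases IsGenChar.norm_one hgen (classInner_stBN P h) with hi | hi
  · exact hi
  · exfalso
    obtain ⟨d, hd, hd'⟩ := IsIrr.one_eq_pos hi
    rw [Pi.neg_apply, stBN_one P h] at hd'
    have h2 : (((torB P).index + d : ℕ) : ℂ) = 0 := by push_cast; rw [← hd']; ring
    have := Nat.cast_eq_zero.1 h2
    omega

end Cfsg.Agent.Char.StBN
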