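import Cfsg.Agent.Lib.Classical.ChevSplit
import Cfsg.Agent.Lib.Lie.Chev.CertsFull

/-!
Blocks of Chevalley groups in defining characteristic, all tabulated types.
-/

set_option autoImplicit false
set_option linter.unusedSectionVars false
set_option linter.style.haveILetI false

namespace Cfsg.Agent.Char.StBlocks

open Cfsg Cfsg.Lie Matrix Cfsg.Agent.Lie.Chev Cfsg.Agent.Classical Cfsg.Agent.Classical.SplitHecke
  Cfsg.Agent.Classical.ChevSplit

attribute [local instance] _root_.Classical.propDecidable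

variable {D : ChevalleyDatum}

/-- For all nodes `i ≠ j` some positive root containing `α_i` can be increased by `α_j`. -/
def Step (c : CertFull D) : Prop := ∀ i < D.rank, ∀ j < D.rank, j ≠ i → ∃ r r', c.Pos r ∧ c.Pos r' ∧
  0 < c.T.vec r i ∧ ∀ l < D.rank, c.T.vec r' l = c.T.vec r l + (if l = j then 1 else 0)

/-- Executable form of `Step`. -/
def checkStep (T : Tables) : Bool :=
  T.allNodes fun i => T.allNodes fun j => Nat.beq i j || (List.range T.n).any fun r =>
    decide (T.h ≤ r) && decide (0 < T.vec r i) && (List.range T.n).any fun r' =>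
      decide (T.h ≤ r') && T.allNodes fun l => decide (T.vec r' l = T.vec r l + if Nat.beq l j then 1 else 0)

theorem step_of_checkStep (c : CertFull D) (h : checkStep c.T = true) : Step c := by
  intro i hi j hj hne
  simp only [checkStep, Tables.allNodes, List.all_eq_true, List.mem_range] at h
  have h' := h i (c.rank_eq ▸ hi) j (c.rank_eq ▸ hj)
  rw [Bool.or_eq_true, Nat.beq_eq] at h'
  have h'' := h'.resolve_left (Ne.symm hne)
  simp only [List.any_eq_true, List.mem_range, Bool.and_eq_true, decide_eq_true_eq,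
    List.all_eq_true] at h''
  obtain ⟨r, hr, ⟨h1, h2⟩, r', hr', h3, h4⟩ := h''
  refine ⟨r, r', ⟨h1, c.nroots_eq ▸ hr⟩, ⟨h3, c.nroots_eq ▸ hr'⟩, h2, fun l hl => ?_⟩
  simpa [Nat.beq_eq] using h4 l (c.rank_eq ▸ hl)

theorem step_of_checkFix (c : CertFull D) (h : c.T.checkFix = true) : Step c := by
  intro i hi j hj hne
  obtain ⟨r, hr, hv, hcar⟩ := checkFix_spec c h hi hj hne
  have key : ∀ l < D.rank, c.T.vec (c.w j r) l = c.T.vec r l + (if l = j then 1 else 0) := by
    intro l hl
    rw [c.vec_w hj hr.2 hl, c.cartan_eq hj hr.2, hcar]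
    split_ifs <;> ring
  refine ⟨r, c.w j r, hr, c.pos_of_vec_pos (c.w_lt hj hr.2) hi ?_, hv, key⟩
  rw [key i hi, if_neg (Ne.symm hne), add_zero]
  exact hv

variable {F : Type*} [Field F] [Fintype F] {p : ℕ} [Fact p.Prime] [CharP F p] (c : CertFull D)

include c

/-- Only the identity is regular and centralises the radical of a maximal parabolic subgroup. -/
theorem centralizer_radical_of_step (hstep : Step c) {i : ℕ} (hi : i < D.rank) {x : ↥(D.group F)}
    (hx : ¬ p ∣ orderOf x)
    (hc : x ∈ Subgroup.centralizer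
      (((D.unipotentRadical F {j | j ≠ i}).subgroupOf (D.group F)) : Set ↥(D.group F))) : x = 1 := by
  set J : Set ℕ := {j | j ≠ i}
  have hrad : ∀ r, c.Pos r → 0 < c.T.vec r i → r ∈ c.radSet J := fun r hr hv =>
    ⟨hr, fun hJ => hv.ne' ((c.inRootSub_iff.1 hJ).2 i hi fun h => h rfl)⟩
  have hcen : ∀ ρ ∈ c.radSet J, ∀ t : F,
      (x : GL D.Idx F) * c.xg ρ t = c.xg ρ t * (x : GL D.Idx F) := fun ρ hρ t =>
    (congrArg Subtype.val (Subgroup.mem_centralizer_iff.1 hc
      ⟨c.xg ρ t, c.xg_mem_group hρ.1.2 t⟩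
      (Subgroup.mem_subgroupOf.2 (c.mem_radical hρ t)))).symm
  obtain ⟨b, hb, a, ha, L, hL, u, hu, e⟩ := c.bruhat_exists x.2
  have hu' := c.KS_invSet_le_U hL hu
  have hfixρ := wl_fix_radical c hb hu' ha hL fun ρ hρ => by rw [← e]; exact hcen ρ hρ 1
  have hsi := hrad _ (c.pos_simple hi) (by rw [c.vec_simple hi hi, if_pos rfl]; exact one_pos)
  -- every fundamental root is fixed
  have hroot : ∀ j < D.rank, j ≠ i → ∃ r r', r ∈ c.radSet J ∧ r' ∈ c.radSet J ∧
      ∀ l < D.rank, c.T.vec r' l = c.T.vec r l + (if l = j then 1 else 0) := by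
    intro j hj hne
    obtain ⟨r, r', hr, hr', hv, hadd⟩ := hstep i hi j hj hne
    refine ⟨r, r', hrad r hr hv, hrad r' hr' ?_, hadd⟩
    rw [hadd i hi, if_neg (Ne.symm hne), add_zero]
    exact hv
  have hsimple : ∀ j < D.rank, c.wl L (D.simple j) = D.simple j := by
    intro j hj
    by_cases hji : j = i
    · exact hfixρ _ (hji ▸ hsi)
    obtain ⟨r, r', hr, hr', hadd⟩ := hroot j hj hji
    have hv : ∀ k < D.rank, c.T.vec (c.wl L (D.simple j)) k = if k = j then 1 else 0 := by
      intro k hk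
      have h1 := c.wl_vec hL hr'.1.2 hk
      have h2 := c.wl_vec hL hr.1.2 hk
      rw [hfixρ _ hr'] at h1
      rw [hfixρ _ hr] at h2
      have h3 : ∀ l ∈ Finset.range D.rank, c.T.vec r' l * c.T.vec (c.wl L (D.simple l)) k =
          c.T.vec r l * c.T.vec (c.wl L (D.simple l)) k +
            (if l = j then c.T.vec (c.wl L (D.simple j)) k else 0) := by
        intro l hl
        rw [hadd l (Finset.mem_range.1 hl)]
        split_ifs with h
        · subst h; ring
        · ring
      rw [Finset.sum_congr rfl h3, Finset.sum_add_distrib, Finset.sum_ite_eq',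
        if_pos (Finset.mem_range.2 hj), ← h2, hadd k hk] at h1
      split_ifs at h1 ⊢ <;> omega
    have hlt := c.wl_lt hL (c.simple_lt hj)
    have hp := c.pos_of_vec_pos hlt hj (by rw [hv j hj, if_pos rfl]; exact one_pos)
    by_contra hne'
    obtain ⟨k, hk, hkj, hpos⟩ := (c.vec_nonneg hp.2 hp.1).2 j hj hne'
    rw [hv k hk, if_neg hkj] at hpos
    exact lt_irrefl _ hpos
  have hnw : c.nw F L ∈ D.diagonalSubgroup F :=
    c.nw_mem_H hL fun q hq => by rw [hsimple q hq]; exact c.pos_simple hq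
  have hxB : (x : GL D.Idx F) ∈ D.borelSubgroup F := by
    rw [e]
    exact mul_mem (mul_mem hb (c.H_le_B (mul_mem ha hnw))) (Subgroup.mem_sup_left hu')
  obtain ⟨v, hv, d, hd, e'⟩ := c.mem_borel_iff.1 hxB
  rw [c.diagonalSubgroup_eq] at hd
  obtain ⟨z, rfl⟩ := hd
  have hχ : ∀ ρ ∈ c.radSet J, c.tchar z ρ = 1 := by
    intro ρ hρ
    obtain ⟨k, hk, ek⟩ := unip_of_mem c J hv ρ hρ (c.tchar z ρ : F)
    have h1 : c.xg ρ (c.tchar z ρ : F) * k = c.xg ρ (1 : F) * 1 := by
      rw [← ek, mul_one, ← mul_inv_eq_iff_eq_mul.2 (hcen ρ hρ 1), e']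
      rw [show v * c.torus z * c.xg ρ (1 : F) * (v * c.torus z)⁻¹ =
        v * (c.torus z * c.xg ρ (1 : F) * (c.torus z)⁻¹) * v⁻¹ by group,
        c.torus_conj_xg z hρ.1.2, mul_one]
    exact Units.ext (c.xg_mul_K_inj hρ.1 (KS_le_K c (fun r hr => hr.1) _ hk) (one_mem _) h1).1
  have hχs : ∀ j < D.rank, c.tchar z (D.simple j) = 1 := by
    intro j hj
    by_cases hji : j = i
    · exact hji ▸ hχ _ hsi
    obtain ⟨r, r', hr, hr', hadd⟩ := hroot j hj hji
    have h1 := hχ _ hr'
    have h2 := hχ _ hr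
    rw [c.tchar_eq_prod z hr'.1.2] at h1
    rw [c.tchar_eq_prod z hr.1.2] at h2
    have h3 : ∀ l ∈ Finset.range D.rank, c.tchar z (D.simple l) ^ c.T.vec r' l =
        c.tchar z (D.simple l) ^ c.T.vec r l *
          (if l = j then c.tchar z (D.simple j) else 1) := by
      intro l hl
      rw [hadd l (Finset.mem_range.1 hl)]
      split_ifs with h
      · subst h
        rw [_root_.zpow_add, _root_.zpow_one]
      · rw [add_zero, mul_one]
    rw [Finset.prod_congr rfl h3, Finset.prod_mul_distrib, h2, one_mul, Finset.prod_ite_eq',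
      if_pos (Finset.mem_range.2 hj)] at h1
    exact h1
  have hd1 : c.torus z = 1 := by
    rw [Cert.torus_apply, ← map_one (dg D F)]
    refine dg_ext D F fun s hs => ?_
    rw [c.tchar_eq_prod z hs, Finset.prod_eq_one fun l hl => by
      rw [hχs l (Finset.mem_range.1 hl), _root_.one_zpow]]
    rfl
  rw [hd1, mul_one] at e'
  obtain ⟨k, hk⟩ := pow_eq_one_of_U c (p := p) hv
  have hord : orderOf x ∣ p ^ k :=
    orderOf_dvd_of_pow_eq_one (Subtype.ext (by simpa [e'] using hk))
  obtain ⟨j, -, hj⟩ := (Nat.dvd_prime_pow (Fact.out : p.Prime)).1 hord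
  rw [hj] at hx
  rcases Nat.eq_zero_or_pos j with rfl | hjpos
  · exact orderOf_eq_one_iff.1 (by simpa using hj)
  · exact absurd (dvd_pow_self p hjpos.ne') hx

omit c in
/-- The number of blocks of a Chevalley group in defining characteristic, the check granted. -/
theorem card_blocks_of_step (c : CertFull D) (hstep : Step c) {M : Ideal AlgInt}
    (hM : IsPModular p M) :
    Nat.card {B : Set (IrrCharacter ↥(D.group F)) // IsPBlock M B} = 2 := by
  haveI : Fintype ↥(D.group F) := Fintype.ofFinite _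
  obtain ⟨S, hS⟩ := exists_sylow (data c p : Data ↥(D.group F) p)
  have i₀ : Fin D.rank := ⟨0, c.one_le_rank⟩
  have hS1 : (S : Subgroup ↥(D.group F)) ≠ ⊥ := fun h => by
    have hmem : (⟨c.xg (D.simple i₀) (1 : F), c.xg_mem_group (c.simple_lt i₀.isLt) 1⟩ : ↥(D.group F)) ∈
        (S : Subgroup ↥(D.group F)) := by
      rw [hS]
      exact Subgroup.mem_subgroupOf.2 (c.xg_mem_U (c.pos_simple i₀.isLt) (1 : F))
    rw [h, Subgroup.mem_bot] at hmem
    exact one_ne_zero
      ((c.xg_eq_one_iff (c.simple_lt i₀.isLt) (1 : F)).1 (congrArg Subtype.val hmem))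
  have hmain := SplitBlocks.card_blocks hM (data c p : Data ↥(D.group F) p) (⊥ : Subgroup ↥(D.group F))
    (fun i : Fin D.rank => (D.unipotentRadical F {j | j ≠ (i : ℕ)}).subgroupOf (D.group F))
    i₀ S hS hS1 bot_le
    (fun z hz => by
      rw [Subgroup.mem_bot.1 hz, orderOf_one, Nat.dvd_one]
      exact (Fact.out : p.Prime).one_lt.ne')
    (fun i => ?_) (fun i x hx q hq => ?_)
    (fun i x hx hc => Subgroup.mem_bot.2 (centralizer_radical_of_step c hstep i.isLt hx hc))
  · rw [hmain]; simp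
  · intro x hx
    refine Subgroup.mem_subgroupOf.2 ((Subgroup.closure_le _).2 ?_ (Subgroup.mem_subgroupOf.1 hx))
    rintro g ⟨r, t, hr, -, e⟩
    obtain rfl := c.eq_xg_iff.1 e
    exact c.xg_mem_U (c.posRoot_iff.1 hr) t
  · refine Subgroup.mem_subgroupOf.2 ?_
    have hn := c.parabolic_le_normalizer _ (inv_mem (Subgroup.mem_subgroupOf.1 hx))
    have := (Subgroup.mem_normalizer_iff.1 hn _).1 (Subgroup.mem_subgroupOf.1 hq)
    simpa using this

omit c in
theorem step_all (hD : D ∈ [chevG2, chevB2, chevD4, chevF4, chevE6, chevE7, chevE8]) :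
    ∃ c : CertFull D, Step c := by
  simp only [List.mem_cons, List.not_mem_nil, or_false] at hD
  rcases hD with rfl | rfl | rfl | rfl | rfl | rfl | rfl
  · exact ⟨certFullG2, step_of_checkFix _ (by decide +kernel)⟩
  · exact ⟨certFullB2, step_of_checkStep _ (by decide +kernel)⟩
  · exact ⟨certFullD4, step_of_checkFix _ (by decide +kernel)⟩
  · exact ⟨certFullF4, step_of_checkFix _ (by decide +kernel)⟩
  · exact ⟨certFullE6, step_of_checkFix _ (by decide +kernel)⟩
  · exact ⟨certFullE7, step_of_checkFix _ (by decide +kernel)⟩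
  · exact ⟨certFullE8, step_of_checkFix _ (by decide +kernel)⟩

end Cfsg.Agent.Char.StBlocks
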