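import Cfsg.Agent.Lib.Char.SteinbergBN
import Cfsg.Agent.Lib.Lie.Chev.AutBorel
import Cfsg.Agent.Lib.Lie.Chev.Order

/-!
The alternating-sum character of a finite Chevalley group.
-/

set_option autoImplicit false

namespace Cfsg.Agent.Char.StChev

open Cfsg Cfsg.Lie Cfsg.Agent.Lie.Chev Cfsg.Agent.Char.StBN Matrix

variable {D : ChevalleyDatum} (c : CertFull D) {F : Type*} [Field F]

include c

theorem np_eq {i : ℕ} {n : ↥(D.group F)}
    (h : ((n : GL D.Idx F) : Matrix D.Idx D.Idx F) = D.nMat F (D.simple i) 1) :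
    (n : GL D.Idx F) = c.np F i := Units.ext (h.trans (c.ng_val _ _).symm)

theorem steinbergCharacter_eq [Fintype (c.bnPair F).S] :
    D.steinbergCharacter F = stBN (c.bnPair F) := by
  classical
  funext g
  have hS : ∀ j < D.rank, ∃ s : (c.bnPair F).S, ((s : ↥(D.group F)) : GL D.Idx F) = c.np F j := fun j hj =>
    ⟨⟨⟨c.np F j, c.np_mem_group hj⟩, j, hj, c.ng_val _ _⟩, rfl⟩
  have hidx : ∀ s : (c.bnPair F).S, ∃ j < D.rank, ((s : ↥(D.group F)) : GL D.Idx F) = c.np F j := fun s => by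
    obtain ⟨j, hj, h⟩ := s.2
    exact ⟨j, hj, np_eq c h⟩
  have hpar : ∀ J : Finset ℕ, J ⊆ Finset.range D.rank → D.parabolicIn F J = (c.bnPair F).parabolic
      (img (c.bnPair F) (Finset.univ.filter fun s : (c.bnPair F).S => ∃ j ∈ J, ((s : ↥(D.group F)) : GL D.Idx F) = c.np F j)) := by
    intro J hJ
    have hB : D.borelSubgroup F ≤ D.group F := c.B_le_group
    have hle : D.parabolicSubgroup F (↑J : Set ℕ) ≤ D.group F := by
      refine sup_le hB ((Subgroup.closure_le _).2 ?_)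
      rintro x ⟨j, -, hj, hx⟩
      rw [show x = c.np F j from Units.ext (hx.trans (c.ng_val _ _).symm)]
      exact c.np_mem_group hj
    apply Subgroup.map_injective (D.group F).subtype_injective
    rw [ChevalleyDatum.parabolicIn, Subgroup.map_subgroupOf_eq_of_le hle, BNPair.parabolic,
      Subgroup.map_sup, MonoidHom.map_closure, show (c.bnPair F).B = (D.borelSubgroup F).subgroupOf (D.group F) from rfl,
      Subgroup.map_subgroupOf_eq_of_le hB, ChevalleyDatum.parabolicSubgroup]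
    congr 2
    ext x
    constructor
    · rintro ⟨j, hjJ, hj, hx⟩
      obtain ⟨s, hs⟩ := hS j hj
      refine ⟨s.1, (mem_img (c.bnPair F)).2 (Finset.mem_filter.2 ⟨Finset.mem_univ _, j, hjJ, hs⟩), ?_⟩
      exact hs.trans (Units.ext (hx.trans (c.ng_val _ _).symm)).symm
    · rintro ⟨y, ⟨s, hs, rfl⟩, rfl⟩
      obtain ⟨j, hj, hs'⟩ := (Finset.mem_filter.1 (Finset.mem_coe.1 hs)).2
      refine ⟨j, hj, Finset.mem_range.1 (hJ hj), ?_⟩
      exact (congrArg Units.val hs').trans (c.ng_val _ _)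
  rw [ChevalleyDatum.steinbergCharacter, stBN]
  refine Finset.sum_bij
    (fun J _ => Finset.univ.filter fun s : (c.bnPair F).S => ∃ j ∈ J, ((s : ↥(D.group F)) : GL D.Idx F) = c.np F j)
    (fun J _ => Finset.mem_univ _) ?_ ?_ ?_
  · have key : ∀ {J J' : Finset ℕ}, J ⊆ Finset.range D.rank → J' ⊆ Finset.range D.rank →
        (Finset.univ.filter fun s : (c.bnPair F).S => ∃ j ∈ J, ((s : ↥(D.group F)) : GL D.Idx F) = c.np F j) =
        (Finset.univ.filter fun s : (c.bnPair F).S => ∃ j ∈ J', ((s : ↥(D.group F)) : GL D.Idx F) = c.np F j) → J ⊆ J' := by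
      intro J J' h h' e j hj
      obtain ⟨s, hs⟩ := hS j (Finset.mem_range.1 (h hj))
      have hmem : s ∈ Finset.univ.filter fun s : (c.bnPair F).S => ∃ j ∈ J, ((s : ↥(D.group F)) : GL D.Idx F) = c.np F j :=
        Finset.mem_filter.2 ⟨Finset.mem_univ s, j, hj, hs⟩
      rw [e] at hmem
      obtain ⟨j', hj', hs'⟩ := (Finset.mem_filter.1 hmem).2
      have : j = j' := c.np_inj (Finset.mem_range.1 (h hj)) (Finset.mem_range.1 (h' hj'))
        (by rw [← hs, ← hs', inv_mul_cancel]; exact one_mem _)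
      exact this ▸ hj'
    intro J hJ J' hJ' e
    rw [Finset.mem_powerset] at hJ hJ'
    exact Finset.Subset.antisymm (key hJ hJ' e) (key hJ' hJ e.symm)
  · intro K _
    refine ⟨(Finset.range D.rank).filter fun j => ∃ s ∈ K, ((s : ↥(D.group F)) : GL D.Idx F) = c.np F j,
      Finset.mem_powerset.2 (Finset.filter_subset _ _), ?_⟩
    ext s
    simp only [Finset.mem_filter, Finset.mem_univ, true_and, Finset.mem_range]
    constructor
    · rintro ⟨j, ⟨-, t, ht, hjt⟩, hjs⟩
      rwa [show s = t from Subtype.ext (Subtype.ext (hjs.trans hjt.symm))]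
    · intro hs
      obtain ⟨j, hj, h⟩ := hidx s
      exact ⟨j, ⟨hj, s, hs, h⟩, h⟩
  · intro J hJ
    have hJ' := Finset.mem_powerset.1 hJ
    rw [hpar J hJ']
    congr 2
    symm
    refine Finset.card_bij (fun s _ => (hidx s).choose) ?_ ?_ ?_
    · intro s hs
      obtain ⟨j, hj, hjs⟩ := (Finset.mem_filter.1 hs).2
      obtain ⟨h1, h2⟩ := (hidx s).choose_spec
      rwa [c.np_inj h1 (Finset.mem_range.1 (hJ' hj))
        (by rw [← h2, ← hjs, inv_mul_cancel]; exact one_mem _)]
    · intro s _ t _ e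
      exact Subtype.ext (Subtype.ext (((hidx s).choose_spec.2.trans (by rw [e])).trans
        (hidx t).choose_spec.2.symm))
    · intro j hj
      obtain ⟨s, hs⟩ := hS j (Finset.mem_range.1 (hJ' hj))
      refine ⟨s, Finset.mem_filter.2 ⟨Finset.mem_univ _, j, hj, hs⟩, ?_⟩
      obtain ⟨h1, h2⟩ := (hidx s).choose_spec
      exact c.np_inj h1 (Finset.mem_range.1 (hJ' hj)) (by rw [← h2, ← hs, inv_mul_cancel]; exact one_mem _)

theorem exists_opposite : ∃ n : (c.bnPair F).N, ∀ y ∈ (c.bnPair F).B,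
    (n : ↥(D.group F))⁻¹ * y * n ∈ (c.bnPair F).B → y ∈ (c.bnPair F).N := by
  obtain ⟨n, hn, hmap⟩ := c.exists_U_map_V (F := F)
  refine ⟨⟨⟨n, c.N_le_group hn⟩, hn⟩, fun y hy hy' => ?_⟩
  change (y : GL D.Idx F) ∈ D.borelSubgroup F at hy
  change n⁻¹ * (y : GL D.Idx F) * n ∈ D.borelSubgroup F at hy'
  show (y : GL D.Idx F) ∈ D.monomialSubgroup F
  obtain ⟨u, hu, a, ha, e⟩ := c.mem_borel_iff.1 hy'
  have h2 : (y : GL D.Idx F) = (n * u * n⁻¹) * (n * a * n⁻¹) := by
    rw [show n * u * n⁻¹ * (n * a * n⁻¹) = n * (u * a) * n⁻¹ by group, ← e]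
    group
  have hV : (y : GL D.Idx F) ∈ D.negUnipotent F ⊔ D.diagonalSubgroup F := by
    rw [h2]
    refine mul_mem (Subgroup.mem_sup_left ?_) (Subgroup.mem_sup_right (c.N_conj_H hn ha))
    rw [← hmap]
    exact ⟨u, hu, rfl⟩
  exact Subgroup.mem_sup_left (c.borel_inf_negUnipotent.2.le ⟨hy, hV⟩)

theorem mem_torB {y : (c.bnPair F).B} :
    y ∈ torB (c.bnPair F) ↔ ((y : ↥(D.group F)) : GL D.Idx F) ∈ D.diagonalSubgroup F := by
  rw [Subgroup.mem_subgroupOf, Subgroup.mem_inf]
  constructor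
  · intro h
    have : ((y : ↥(D.group F)) : GL D.Idx F) ∈ D.borelSubgroup F ⊓ D.monomialSubgroup F := h
    rwa [c.B_inf_N] at this
  · intro h
    exact ⟨c.H_le_B h, Subgroup.mem_sup_left h⟩

theorem torB_eq : torB (c.bnPair F) = ((D.diagonalSubgroup F).subgroupOf (D.group F)).subgroupOf
    ((D.borelSubgroup F).subgroupOf (D.group F)) := by
  ext y
  exact mem_torB c

theorem index_torB [Fintype F] :
    (torB (c.bnPair F)).index = Fintype.card F ^ (D.nroots / 2) := by
  have h := Subgroup.card_mul_index (torB (c.bnPair F))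
  have hB : Nat.card (c.bnPair F).B = Nat.card (D.borelSubgroup F) :=
    Nat.card_congr (Subgroup.subgroupOfEquivOfLe c.B_le_group).toEquiv
  have hT : Nat.card (torB (c.bnPair F)) = Nat.card (D.diagonalSubgroup F) := by
    rw [torB_eq c]
    refine (Nat.card_congr (Subgroup.subgroupOfEquivOfLe ?_).toEquiv).trans
      (Nat.card_congr (Subgroup.subgroupOfEquivOfLe (c.H_le_B.trans c.B_le_group)).toEquiv)
    exact fun x hx => c.H_le_B hx
  rw [hB, hT, c.card_borel, mul_comm] at h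
  exact Nat.eq_of_mul_eq_mul_right Nat.card_pos h

theorem steinberg_isIrr [Finite F] : IsIrrCharacter ↥(D.group F) (D.steinbergCharacter F) := by
  classical
  haveI := Fintype.ofFinite (c.bnPair F).S
  obtain ⟨n, hn⟩ := exists_opposite c (F := F)
  rw [steinbergCharacter_eq c]
  exact isIrr_stBN _ hn

theorem steinberg_borel [Finite F] (b : ↥((D.borelSubgroup F).subgroupOf (D.group F))) :
    D.steinbergCharacter F (b : ↥(D.group F)) =
      fixedPointCharacter (((D.diagonalSubgroup F).subgroupOf (D.group F)).subgroupOf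
        ((D.borelSubgroup F).subgroupOf (D.group F))) b := by
  classical
  haveI := Fintype.ofFinite (c.bnPair F).S
  obtain ⟨n, hn⟩ := exists_opposite c (F := F)
  rw [steinbergCharacter_eq c, ← torB_eq c]
  exact stBN_on_B (c.bnPair F) hn b

theorem steinberg_one [Fintype F] :
    D.steinbergCharacter F 1 = (Fintype.card F : ℂ) ^ (D.nroots / 2) := by
  classical
  haveI := Fintype.ofFinite (c.bnPair F).S
  obtain ⟨n, hn⟩ := exists_opposite c (F := F)
  rw [steinbergCharacter_eq c, stBN_one _ hn, index_torB c]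
  norm_num

theorem exists_sylow_U [Fintype F] (p : ℕ) [Fact p.Prime] [CharP F p] :
    ∃ P : Sylow p ↥(D.group F),
      (P : Subgroup ↥(D.group F)) = (D.posUnipotent F).subgroupOf (D.group F) := by
  obtain ⟨n, hp, hn⟩ := FiniteField.card F p
  set U' := (D.posUnipotent F).subgroupOf (D.group F) with hU'
  have hcard : Nat.card U' = p ^ ((n : ℕ) * (D.nroots / 2)) := by
    rw [Nat.card_congr (Subgroup.subgroupOfEquivOfLe c.U_le_group).toEquiv, pow_mul, ← hn]
    exact c.card_posUnipotent (F := F)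
  obtain ⟨Q, hQ⟩ := (IsPGroup.of_card (G := U') hcard).exists_le_sylow
  refine ⟨Q, le_antisymm ?_ hQ⟩
  by_contra hne
  have : Group.IsNilpotent ↥(Q : Subgroup ↥(D.group F)) := Q.isPGroup'.isNilpotent
  have hlt : U'.subgroupOf Q < ⊤ := lt_top_iff_ne_top.2 fun e =>
    hne (Subgroup.subgroupOf_eq_top.1 e)
  obtain ⟨g, hg, hgn⟩ := Set.exists_of_ssubset
    (Group.normalizerCondition_of_isNilpotent (G := ↥(Q : Subgroup ↥(D.group F))) _ hlt)
  have hB : ((g : ↥(D.group F)) : GL D.Idx F) ∈ D.borelSubgroup F := by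
    refine c.mem_B_of_conj (g : ↥(D.group F)).2 fun v hv => ?_
    exact (Subgroup.mem_normalizer_iff.1 hg ⟨⟨v, c.U_le_group hv⟩, hQ hv⟩).1 hv
  refine hgn (c.mem_U_of_coprime hB ?_)
  obtain ⟨k, hk⟩ := IsPGroup.iff_orderOf.1 Q.isPGroup' g
  rw [orderOf_injective (D.group F).subtype Subtype.val_injective,
    orderOf_injective (Q : Subgroup ↥(D.group F)).subtype Subtype.val_injective, hk, hn]
  refine Nat.Coprime.pow_right k ((hp.coprime_iff_not_dvd).2 ?_).symm
  intro hd
  have h1 : 1 ≤ p ^ (n : ℕ) := Nat.one_le_pow _ _ hp.pos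
  have h2 : p ∣ p ^ (n : ℕ) := dvd_pow_self p n.2.ne'
  have h3 := Nat.dvd_sub h2 hd
  rw [Nat.sub_sub_self h1] at h3
  exact hp.one_lt.ne' (Nat.dvd_one.1 h3)

/-- The degree is the whole `p`-part of the order. -/
theorem factorization_card [Fintype F] (p : ℕ) [Fact p.Prime] [CharP F p] :
    p ^ (Nat.card ↥(D.group F)).factorization p = Fintype.card F ^ (D.nroots / 2) := by
  obtain ⟨P, hP⟩ := exists_sylow_U c p (F := F)
  rw [← Sylow.card_eq_multiplicity P, hP,
    Nat.card_congr (Subgroup.subgroupOfEquivOfLe c.U_le_group).toEquiv]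
  exact c.card_posUnipotent (F := F)

end Cfsg.Agent.Char.StChev
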