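import Cfsg.Agent.Lib.Char.SteinbergValues

/-!
In a finite (B,N)-pair with a defect zero alternating sum, an element of order prime to `p` lying in
no proper parabolic subgroup has a centralizer of order prime to `p`.
-/

set_option autoImplicit false

namespace Cfsg.Agent.Char.StBN

open Cfsg Cfsg.Agent.Lie

universe u

variable {G : Type u} [Group G] (P : BNPair G)

theorem parabolic_univ [Fintype P.S] : P.parabolic (img P Finset.univ) = ⊤ := by
  have h : img P (Finset.univ : Finset P.S) = P.S :=
    Set.Subset.antisymm (img_subset P _) fun y hy =>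
      (mem_img P (s := ⟨y, hy⟩)).2 (Finset.mem_univ _)
  rw [h, parabolic_S]

/-- The alternating sum at an element in no proper parabolic subgroup is a sign. -/
theorem stBN_elliptic [Finite G] [Fintype P.S] {g : G}
    (hell : ∀ J : Finset P.S, J ≠ Finset.univ → ∀ x : G, x⁻¹ * g * x ∉ P.parabolic (img P J)) :
    stBN P g = (-1 : ℂ) ^ (Finset.univ : Finset P.S).card := by
  classical
  rw [stBN, Finset.sum_eq_single Finset.univ]
  · have h : Nat.card (MulAction.fixedBy (G ⧸ P.parabolic (img P Finset.univ)) g) = 1 := by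
      rw [parabolic_univ]
      have : Subsingleton (G ⧸ (⊤ : Subgroup G)) :=
        ⟨fun a b => by
          induction a using QuotientGroup.induction_on with
          | _ x => induction b using QuotientGroup.induction_on with
            | _ y => exact QuotientGroup.eq.2 (Subgroup.mem_top _)⟩
      exact Nat.card_eq_one_iff_unique.2 ⟨inferInstance,
        ⟨⟨((1 : G) : G ⧸ (⊤ : Subgroup G)), Subsingleton.elim _ _⟩⟩⟩
    rw [fixedPointCharacter, h, Nat.cast_one, mul_one]
  · intro J _ hJ
    have : IsEmpty (MulAction.fixedBy (G ⧸ P.parabolic (img P J)) g) := by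
      refine ⟨fun c => ?_⟩
      obtain ⟨c, hc⟩ := c
      induction c using QuotientGroup.induction_on with
      | _ x =>
        refine hell J hJ x ?_
        have := inv_mem (QuotientGroup.eq.1 hc)
        convert this using 1
        simp only [smul_eq_mul]
        group
    rw [fixedPointCharacter, Nat.card_eq_zero.2 (Or.inl this), Nat.cast_zero, mul_zero]
  · intro h
    exact absurd (Finset.mem_univ _) h

/-- An element in no proper parabolic subgroup commutes with no element of order `p`. -/
theorem not_dvd_centralizer [Finite G] [Fintype P.S] {n : P.N}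
    (hn : ∀ y ∈ P.B, (n : G)⁻¹ * y * n ∈ P.B → y ∈ P.N) (p : ℕ) [Fact p.Prime]
    (hdeg : (torB P).index.factorization p = (Nat.card G).factorization p) {g : G}
    (hg : ¬ p ∣ orderOf g)
    (hell : ∀ J : Finset P.S, J ≠ Finset.univ → ∀ x : G, x⁻¹ * g * x ∉ P.parabolic (img P J)) :
    ¬ p ∣ Nat.card (Subgroup.centralizer ({g} : Set G)) := by
  classical
  intro hdvd
  have hp : p.Prime := Fact.out
  haveI := Fintype.ofFinite G
  obtain ⟨s₀, hs₀⟩ := exists_prime_orderOf_dvd_card' p hdvd
  rw [← Subgroup.orderOf_coe] at hs₀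
  haveI := Fintype.ofFinite (Subgroup.zpowers (s₀ : G))
  have hScomm : ∀ s ∈ Subgroup.zpowers (s₀ : G), Commute s g := fun s hs => by
    obtain ⟨i, rfl⟩ := Subgroup.mem_zpowers_iff.1 hs
    exact (show Commute (s₀ : G) g from
      Subgroup.mem_centralizer_singleton_iff.1 s₀.2).zpow_left i
  obtain ⟨M, hM⟩ := Cfsg.Agent.Char.exists_isPModular p hp
  have hvan : ∀ s : Subgroup.zpowers (s₀ : G), s ≠ 1 → stBN P (g * (s : G)) = 0 := by
    intro s hs
    refine Cfsg.Agent.Block.defectZero_vanish hM
      (⟨stBN P, isIrr_stBN P hn⟩ : Cfsg.IrrCharacter G) ?_ ?_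
    · show (⌊(stBN P 1).re⌋₊).factorization p = _
      rw [stBN_one P hn, Complex.natCast_re, Nat.floor_natCast, hdeg]
    · have h1 : orderOf (s : G) ∣ p := hs₀ ▸ orderOf_dvd_of_mem_zpowers s.2
      have h2 : orderOf (s : G) = p := ((Nat.dvd_prime hp).1 h1).resolve_left fun h =>
        hs (Subtype.ext (orderOf_eq_one_iff.1 h))
      have hco : (orderOf g).Coprime (orderOf (s : G)) := by
        rw [h2]
        exact ((hp.coprime_iff_not_dvd).2 hg).symm
      rw [(hScomm s s.2).symm.orderOf_mul_eq_mul_orderOf_of_coprime hco, h2]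
      exact dvd_mul_left _ _
  let z : ℤ := ∑ K : Finset P.S, (-1 : ℤ) ^ K.card *
    ((∑ s : Subgroup.zpowers (s₀ : G),
      Nat.card (MulAction.fixedBy (G ⧸ P.parabolic (img P K)) (g * (s : G))) : ℕ) : ℤ)
  have hz : (z : ℂ) = ∑ s : Subgroup.zpowers (s₀ : G), stBN P (g * (s : G)) := by
    simp only [z, stBN, fixedPointCharacter]
    push_cast
    rw [Finset.sum_comm]
    exact Finset.sum_congr rfl fun K _ => Finset.mul_sum _ _ _
  rw [Finset.sum_eq_single (1 : Subgroup.zpowers (s₀ : G)) (fun s _ hs => hvan s hs)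
    (fun h => absurd (Finset.mem_univ _) h), Subgroup.coe_one, mul_one,
    stBN_elliptic P hell] at hz
  have hdz : (p : ℤ) ∣ z := by
    refine Finset.dvd_sum fun K _ => Dvd.dvd.mul_left (Int.natCast_dvd_natCast.2 ?_) _
    have h := StVal.card_dvd_sum_fixed (X := G ⧸ P.parabolic (img P K)) g
      (Subgroup.zpowers (s₀ : G)) hScomm
    rwa [Nat.card_zpowers, hs₀] at h
  have hzN : z = (-1 : ℤ) ^ (Finset.univ : Finset P.S).card := by exact_mod_cast hz
  rw [hzN] at hdz
  have := Int.natAbs_dvd_natAbs.2 hdz
  rw [Int.natAbs_natCast, Int.natAbs_pow] at this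
  simp at this
  exact hp.ne_one this

end Cfsg.Agent.Char.StBN
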