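import Cfsg.Agent.Lib.Char.SteinbergBN

/-!
The alternating sum of parabolic permutation characters at an element of a parabolic subgroup that
has no conjugate in a smaller one: up to sign, the number of its fixed points on the cosets of a
Levi-type subgroup.
-/

set_option autoImplicit false
set_option linter.unusedSectionVars false

namespace Cfsg.Agent.Char.StBN

open Cfsg Cfsg.Agent.Lie Cfsg.Agent.Char.BNRed

universe u

variable {G : Type u} [Group G] (P : BNPair G)

/-- Left ascents add lengths. -/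
theorem len_mul_left {J : Set G} {w a : Weyl P} (hL : LA P J w) (ha : a ∈ weylPara P J) :
    len P (a * w) = len P a + len P w := by
  have h := len_mul P ((RA_inv P).2 hL) (inv_mem ha)
  rwa [← _root_.mul_inv_rev, len_inv, len_inv, len_inv, add_comm] at h

theorem weylPara_univ [Fintype P.S] : weylPara P (img P (Finset.univ : Finset P.S)) = ⊤ := by
  rw [eq_top_iff]
  intro w _
  obtain ⟨l, rfl⟩ := exists_word P w
  exact wprod_mem_weylPara P fun s _ => (mem_img P).2 (Finset.mem_univ s)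

theorem exists_refl_of_len {J : Finset P.S} {y : Weyl P} (hy : y ∈ weylPara P (img P J))
    (h : len P y = 1) : ∃ t ∈ J, Lie.refl P t = y := by
  obtain ⟨l, hl, e, hlJ⟩ := reduced_word_of_mem P hy
  rw [h] at hl
  obtain ⟨t, rfl⟩ := List.length_eq_one_iff.1 hl
  refine ⟨t, (mem_img P).1 (hlJ t (by simp)), ?_⟩
  simpa using e

/-- The double coset relation: an element of the left Weyl subgroup carried across lies in the
subgroup of the fundamental reflections carried across. -/
theorem kilmoyer {J : Finset P.S} {K : Set G} {J' : Finset P.S}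
    {w : Weyl P} (hL : LA P (img P J) w) (hR : RA P K w)
    (hJ' : ∀ s ∈ J, (∃ v ∈ weylPara P K, Lie.refl P s * w = w * v) → s ∈ J') :
    ∀ {a v : Weyl P}, a ∈ weylPara P (img P J) → v ∈ weylPara P K → a * w = w * v →
      a ∈ weylPara P (img P J') := by
  suffices key : ∀ (n : ℕ) (a v : Weyl P), len P a = n → a ∈ weylPara P (img P J) →
      v ∈ weylPara P K → a * w = w * v → a ∈ weylPara P (img P J') from
    by intro a v ha hv e; exact key _ _ _ rfl ha hv e
  intro n
  induction n using Nat.strong_induction_on with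
  | _ n ih =>
  intro a v hn ha hv e
  subst hn
  obtain ⟨l, hl, rfl, hlJ⟩ := reduced_word_of_mem P ha
  match l, hl with
  | [], _ => simp
  | s :: l, hl =>
    have hs : (s : G) ∈ img P J := hlJ s (by simp)
    have hmem : wprod P l ∈ weylPara P (img P J) :=
      wprod_mem_weylPara P fun r hr => hlJ r (List.mem_cons_of_mem _ hr)
    rw [wprod_cons] at hl e ⊢
    rw [List.length_cons] at hl
    have hll := len_le P l
    have hlt : len P (wprod P l) < len P (Lie.refl P s * wprod P l) := by omega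
    obtain ⟨lw, hlw, ew⟩ := exists_reduced P w
    obtain ⟨lv, hlv, ev, hlvK⟩ := reduced_word_of_mem P hv
    have hwv : wprod P (lw ++ lv) = w * v := by rw [wprod_append, ew, ev]
    have hred : (lw ++ lv).length = len P (wprod P (lw ++ lv)) := by
      rw [hwv, List.length_append, hlw, hlv, len_mul P hR hv]
    have hdesc : len P (Lie.refl P s * wprod P (lw ++ lv)) < len P (wprod P (lw ++ lv)) := by
      rw [hwv, ← e, ← mul_assoc, refl_cancel, len_mul_left P hL hmem,
        len_mul_left P hL (mul_mem (refl_mem_weylPara P hs) hmem)]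
      omega
    obtain ⟨i, hi, ei⟩ := exchange P (lw ++ lv) hred hdesc
    rcases lt_or_ge i lw.length with h | h
    · exfalso
      rw [List.eraseIdx_append_of_lt_length h, wprod_append, wprod_append, ← mul_assoc] at ei
      have e' := mul_right_cancel ei
      rw [ew] at e'
      have h1 := len_le P (lw.eraseIdx i)
      rw [← e', List.length_eraseIdx_of_lt h] at h1
      have h2 := hL s hs
      omega
    · rw [List.eraseIdx_append_of_length_le h, wprod_append, wprod_append, ew, ev] at ei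
      set v' := wprod P (lv.eraseIdx (i - lw.length))
      have hv' : v' ∈ weylPara P K :=
        wprod_mem_weylPara P fun r hr => hlvK r (List.mem_of_mem_eraseIdx hr)
      have e2 : wprod P l * w = w * v' := by
        rw [← ei, ← e, ← mul_assoc, refl_cancel]
      have hs' : s ∈ J' := by
        refine hJ' s ((mem_img P).1 hs) ⟨v' * v⁻¹, mul_mem hv' (inv_mem hv), ?_⟩
        rw [← mul_assoc w, ← ei]
        group
      exact mul_mem (refl_mem_weylPara P ((mem_img P).2 hs'))
        (ih _ (by rw [wprod_cons]; omega) _ v' rfl hmem hv' e2)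

variable (J : Finset P.S)

/-- The reflections matched with those of `J` through `w`. -/
noncomputable def K0 [Fintype P.S] (w : Weyl P) : Finset P.S :=
  @Finset.filter _ (fun t => ∃ s ∈ J, Lie.refl P s * w = w * Lie.refl P t) (Classical.decPred _)
    Finset.univ

/-- `w` matches every reflection of `J` with a reflection. -/
def Nice (w : Weyl P) : Prop :=
  LA P (img P J) w ∧ ∀ s ∈ J, ∃ t, Lie.refl P s * w = w * Lie.refl P t

/-- A representative of a Weyl element. -/
noncomputable def rep (w : Weyl P) : P.N := (proj_surj P w).choose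

theorem rep_spec (w : Weyl P) : proj P (rep P w) = w := (proj_surj P w).choose_spec

theorem rep_mem_cell (w : Weyl P) : (rep P w : G) ∈ cell P w := by
  have := mem_cell_self P (rep P w)
  rwa [rep_spec] at this

/-- The standard parabolic subgroup of `J`. -/
abbrev PJ : Subgroup G := P.parabolic (img P J)

variable [Fintype P.S]

theorem mem_K0 {w : Weyl P} {t : P.S} :
    t ∈ K0 P J w ↔ ∃ s ∈ J, Lie.refl P s * w = w * Lie.refl P t := by
  simp [K0]

theorem RA_K0 {w : Weyl P} (hL : LA P (img P J) w) : RA P (img P (K0 P J w)) w := by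
  intro t ht
  obtain ⟨s, hs, e⟩ := (mem_K0 P J).1 ((mem_img P).1 ht)
  rw [← e]
  exact hL s ((mem_img P).2 hs)

theorem conj_mem_K0 {w : Weyl P} (hN : Nice P J w) {a : Weyl P}
    (ha : a ∈ weylPara P (img P J)) : w⁻¹ * a * w ∈ weylPara P (img P (K0 P J w)) := by
  induction ha using Subgroup.closure_induction with
  | mem x hx =>
    obtain ⟨s, hs, rfl⟩ := hx
    obtain ⟨t, ht⟩ := hN.2 s ((mem_img P).1 hs)
    rw [mul_assoc, ht, inv_mul_cancel_left]
    exact refl_mem_weylPara P ((mem_img P).2 ((mem_K0 P J).2 ⟨s, (mem_img P).1 hs, ht⟩))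
  | one => simp
  | mul x y _ _ hx hy =>
    have := mul_mem hx hy
    rwa [show w⁻¹ * x * w * (w⁻¹ * y * w) = w⁻¹ * (x * y) * w by group] at this
  | inv x _ hx =>
    have := inv_mem hx
    rwa [show (w⁻¹ * x * w)⁻¹ = w⁻¹ * x⁻¹ * w by group] at this

/-- The position of an element fixing a coset, on the two sides. -/
theorem exists_sides {K : Set G} (hK : K ⊆ P.S) {w : Weyl P} (hL : LA P (img P J) w)
    (hR : RA P K w) {x : G} {a : Weyl P} (ha : a ∈ weylPara P (img P J)) (hxa : x ∈ cell P a)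
    (hx : (rep P w : G)⁻¹ * x * rep P w ∈ P.parabolic K) :
    ∃ v ∈ weylPara P K, (rep P w : G)⁻¹ * x * rep P w ∈ cell P v ∧ a * w = w * v := by
  obtain ⟨v, hv, hc⟩ := (mem_parabolic_iff P hK).1 hx
  have h1 := mul_cell_add P (len_mul_left P hL ha) hxa (rep_mem_cell P w)
  have h2 := mul_cell_add P (len_mul P hR hv) (rep_mem_cell P w) hc
  rw [mul_assoc (rep P w : G)⁻¹, mul_inv_cancel_left] at h2
  exact ⟨v, hv, hc, cell_unique P h1 h2⟩

/-- The stabiliser of the coset of `w` in the parabolic subgroup of `J`. -/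
noncomputable def MJ (w : Weyl P) : Subgroup ↥(PJ P J) :=
  (P.parabolic (img P (K0 P J w))).comap
    ((MulAut.conj (rep P w : G)⁻¹).toMonoidHom.comp (PJ P J).subtype)

theorem mem_MJ {w : Weyl P} {x : ↥(PJ P J)} :
    x ∈ MJ P J w ↔ (rep P w : G)⁻¹ * x * rep P w ∈ P.parabolic (img P (K0 P J w)) := by
  simp [MJ, MulAut.conj_apply]

theorem mem_MJ_of_parabolic {K : Finset P.S} {w : Weyl P} (hN : Nice P J w)
    (hR : RA P (img P K) w) {x : ↥(PJ P J)}
    (hx : (rep P w : G)⁻¹ * x * rep P w ∈ P.parabolic (img P K)) : x ∈ MJ P J w := by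
  obtain ⟨a, ha, hxa⟩ := (mem_parabolic_iff P (img_subset P J)).1 x.2
  obtain ⟨v, -, hc, e⟩ := exists_sides P J (img_subset P K) hN.1 hR ha hxa hx
  rw [mem_MJ]
  refine (mem_parabolic_iff P (img_subset P _)).2 ⟨v, ?_, hc⟩
  have := conj_mem_K0 P J hN ha
  rwa [mul_assoc, e, inv_mul_cancel_left] at this

/-- An element of `B` in the stabiliser lies in the conjugate of `B`. -/
theorem MJ_inf_B {w : Weyl P} (hL : LA P (img P J) w) {x : ↥(PJ P J)} (hB : (x : G) ∈ P.B)
    (hx : x ∈ MJ P J w) : (rep P w : G)⁻¹ * x * rep P w ∈ P.B := by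
  rw [mem_MJ] at hx
  obtain ⟨v, -, hc, e⟩ := exists_sides P J (img_subset P _) hL (RA_K0 P J hL) (one_mem _)
    (by rw [cell_one]; exact hB) hx
  have hv : v = 1 := by
    rw [one_mul, eq_comm, mul_eq_left] at e
    exact e
  rw [hv, cell_one] at hc
  exact hc

theorem rep_mem_MJ {w : Weyl P} (hN : Nice P J w) {s : P.S} (hs : s ∈ J) :
    (⟨(s : G), le_sup_right (a := P.B) (Subgroup.subset_closure ((mem_img P).2 hs))⟩ : ↥(PJ P J))
      ∈ MJ P J w := by
  obtain ⟨t, ht⟩ := hN.2 s hs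
  rw [mem_MJ]
  refine (mem_parabolic_iff P (img_subset P _)).2
    ⟨Lie.refl P t, refl_mem_weylPara P ((mem_img P).2 ((mem_K0 P J).2 ⟨s, hs, ht⟩)), ?_⟩
  have := mem_cell_self P ((rep P w)⁻¹ * sN P s * rep P w)
  rw [map_mul, map_mul, map_inv, rep_spec] at this
  rw [show Lie.refl P t = w⁻¹ * Lie.refl P s * w by rw [mul_assoc, ht, inv_mul_cancel_left]]
  exact this

theorem torus_mem_MJ {w : Weyl P} {x : ↥(PJ P J)} (hx : (x : G) ∈ P.B ⊓ P.N) :
    x ∈ MJ P J w := by
  rw [mem_MJ]
  refine B_le_parabolic P _ ?_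
  have h := P.conj_mem ((rep P w : G)⁻¹) (inv_mem (rep P w).2) (x : G) hx
  rwa [inv_inv] at h

variable [Finite G]

theorem fix_parabolic_levi [Fintype (Weyl P)] {g : G} (hg : g ∈ PJ P J)
    (hmin : ∀ J' ⊆ J, J' ≠ J → ∀ x ∈ PJ P J, x⁻¹ * g * x ∉ PJ P J') (K : Finset P.S)
    [DecidablePred fun w => Nice P J w ∧ K0 P J w ⊆ K ∧ RA P (img P K) w] :
    Nat.card (MulAction.fixedBy (G ⧸ P.parabolic (img P K)) g) =
      ∑ w ∈ Finset.univ.filter (fun w => Nice P J w ∧ K0 P J w ⊆ K ∧ RA P (img P K) w),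
        Nat.card (MulAction.fixedBy (↥(PJ P J) ⧸ MJ P J w) (⟨g, hg⟩ : ↥(PJ P J))) := by
  classical
  have hK := img_subset P K
  have hJ := img_subset P J
  let W' := {w // Nice P J w ∧ K0 P J w ⊆ K ∧ RA P (img P K) w}
  have hsub : ∀ w : W', P.parabolic (img P (K0 P J w.1)) ≤ P.parabolic (img P K) := fun w =>
    sup_le_sup le_rfl (Subgroup.closure_mono (Set.image_mono (Finset.coe_subset.2 w.2.2.1)))
  let φ : ∀ w : W', (↥(PJ P J) ⧸ MJ P J w.1) → G ⧸ P.parabolic (img P K) := fun w =>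
    Quotient.lift (fun x : ↥(PJ P J) => (((x : G) * rep P w.1 : G) : G ⧸ P.parabolic (img P K)))
      fun x y h => by
        have h' := hsub w ((mem_MJ P J).1 (QuotientGroup.leftRel_apply.1 h))
        refine QuotientGroup.eq.2 ?_
        simpa [mul_assoc] using h'
  have hφ : ∀ (w : W') (x : ↥(PJ P J)),
      φ w (x : ↥(PJ P J) ⧸ MJ P J w.1) = (((x : G) * rep P w.1 : G) : G ⧸ P.parabolic (img P K)) :=
    fun _ _ => rfl
  have hequiv : ∀ (w : W') c, φ w ((⟨g, hg⟩ : ↥(PJ P J)) • c) = g • φ w c := by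
    intro w c
    induction c using QuotientGroup.induction_on with
    | _ x =>
      show (((g * x : G) * rep P w.1 : G) : G ⧸ P.parabolic (img P K)) =
        ((g * ((x : G) * rep P w.1) : G) : G ⧸ P.parabolic (img P K))
      rw [mul_assoc]
  let f : (Σ w : W', MulAction.fixedBy (↥(PJ P J) ⧸ MJ P J w.1) (⟨g, hg⟩ : ↥(PJ P J))) →
      MulAction.fixedBy (G ⧸ P.parabolic (img P K)) g :=
    fun s => ⟨φ s.1 s.2.1, (hequiv s.1 s.2.1).symm.trans (congrArg (φ s.1) s.2.2)⟩
  have hf : Function.Bijective f := by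
    constructor
    · rintro ⟨w, c, hc⟩ ⟨w', c', hc'⟩ h
      have h' : φ w c = φ w' c' := congrArg Subtype.val h
      induction c using QuotientGroup.induction_on with
      | _ x =>
      induction c' using QuotientGroup.induction_on with
      | _ y =>
      rw [hφ, hφ] at h'
      have h1 := QuotientGroup.eq.1 h'
      rw [_root_.mul_inv_rev, mul_assoc, ← mul_assoc (x : G)⁻¹] at h1
      have hxy : (x : G)⁻¹ * y ∈ PJ P J := mul_mem (inv_mem x.2) y.2
      obtain ⟨a, ha, hac⟩ := (mem_parabolic_iff P hJ).1 hxy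
      obtain ⟨v, hv, hvc⟩ := (mem_parabolic_iff P hK).1 h1
      have h2 := mul_cell_add P (len_mul_left P w'.2.1.1 ha) hac (rep_mem_cell P w'.1)
      have h3 := mul_cell_add P (len_mul P w.2.2.2 hv) (rep_mem_cell P w.1) hvc
      rw [mul_inv_cancel_left] at h3
      have e := cell_unique P h2 h3
      have hww : w'.1 = w.1 := ascent_unique P w.2.1.1 w.2.2.2 w'.2.1.1 w'.2.2.2
        ⟨a⁻¹, inv_mem ha, v, hv, by rw [mul_assoc, ← e, inv_mul_cancel_left]⟩
      obtain rfl : w' = w := Subtype.ext hww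
      have hM : (⟨(x : G)⁻¹ * y, hxy⟩ : ↥(PJ P J)) ∈ MJ P J w'.1 :=
        mem_MJ_of_parabolic P J w'.2.1 w'.2.2.2 (by simpa [mul_assoc] using h1)
      have : (x : ↥(PJ P J) ⧸ MJ P J w'.1) = (y : ↥(PJ P J) ⧸ MJ P J w'.1) :=
        QuotientGroup.eq.2 hM
      simp only [this]
    · rintro ⟨c, hc⟩
      induction c using QuotientGroup.induction_on with
      | _ z =>
      obtain ⟨u, hu⟩ := exists_cell P z
      obtain ⟨w, hwL, hwR, a, ha, v, hv, rfl, -⟩ := exists_decomp P (img P J) (img P K) u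
      rw [← rep_spec P a, ← rep_spec P v, ← rep_spec P w, ← map_mul, ← map_mul,
        mem_cell_proj] at hu
      obtain ⟨b₁, h₁, b₂, h₂, rfl⟩ := hu
      obtain ⟨x, hxd⟩ : ∃ x : ↥(PJ P J), (x : G) = b₁ * rep P a :=
        ⟨⟨_, (mem_parabolic_iff P hJ).2 ⟨a, ha, cell_B_mul P h₁ (rep_mem_cell P a)⟩⟩, rfl⟩
      have hq : (rep P v : G) * b₂ ∈ P.parabolic (img P K) :=
        (mem_parabolic_iff P hK).2 ⟨v, hv, cell_mul_B P h₂ (rep_mem_cell P v)⟩
      have hz : ((b₁ * ((rep P a * rep P w * rep P v : P.N) : G) * b₂ : G) :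
          G ⧸ P.parabolic (img P K)) =
            (((x : G) * rep P w : G) : G ⧸ P.parabolic (img P K)) := by
        refine QuotientGroup.eq.2 ?_
        have := inv_mem hq
        convert this using 1
        rw [hxd, Subgroup.coe_mul, Subgroup.coe_mul]
        group
      have hfix : g • (((x : G) * rep P w : G) : G ⧸ P.parabolic (img P K)) =
          (((x : G) * rep P w : G) : G ⧸ P.parabolic (img P K)) := hz ▸ hc
      have h1 : (rep P w : G)⁻¹ * ((x : G)⁻¹ * g * x) * rep P w ∈ P.parabolic (img P K) := by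
        have := inv_mem (QuotientGroup.eq.1 hfix)
        convert this using 1
        simp only [smul_eq_mul]
        group
      have hyJ : (x : G)⁻¹ * g * x ∈ PJ P J := mul_mem (mul_mem (inv_mem x.2) hg) x.2
      let J' := J.filter fun s => ∃ v ∈ weylPara P (img P K), Lie.refl P s * w = w * v
      obtain ⟨a', ha', hc'⟩ := (mem_parabolic_iff P hJ).1 hyJ
      obtain ⟨v', hv', -, e'⟩ := exists_sides P J hK hwL hwR ha' hc' h1
      have haJ' := kilmoyer P (J' := J') hwL hwR
        (fun s hs h => Finset.mem_filter.2 ⟨hs, h⟩) ha' hv' e'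
      have hJJ' : J' = J := by
        by_contra hne
        exact hmin J' (Finset.filter_subset _ _) hne x x.2
          ((mem_parabolic_iff P (img_subset P J')).2 ⟨a', haJ', hc'⟩)
      have hrefl : ∀ s ∈ J, ∃ t ∈ K, Lie.refl P s * w = w * Lie.refl P t := by
        intro s hs
        obtain ⟨v, hv, e⟩ := (Finset.mem_filter.1 (hJJ'.symm ▸ hs : s ∈ J')).2
        have h := len_mul_left P hwL (refl_mem_weylPara P ((mem_img P).2 hs))
        rw [len_refl, e, len_mul P hwR hv] at h
        obtain ⟨t, ht, et⟩ := exists_refl_of_len P hv (by omega)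
        exact ⟨t, ht, by rw [et, e]⟩
      have hNice : Nice P J w := ⟨hwL, fun s hs => (hrefl s hs).imp fun t ht => ht.2⟩
      have hK0 : K0 P J w ⊆ K := by
        intro t ht
        obtain ⟨s, hs, e⟩ := (mem_K0 P J).1 ht
        obtain ⟨t', ht', e'⟩ := hrefl s hs
        obtain rfl := refl_inj P (mul_left_cancel (e.symm.trans e'))
        exact ht'
      let w' : W' := ⟨w, hNice, hK0, hwR⟩
      have hM : (⟨g, hg⟩ : ↥(PJ P J)) • (x : ↥(PJ P J) ⧸ MJ P J w) =
          (x : ↥(PJ P J) ⧸ MJ P J w) := by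
        refine QuotientGroup.eq.2 ?_
        have hm : (⟨_, hyJ⟩ : ↥(PJ P J)) ∈ MJ P J w := mem_MJ_of_parabolic P J hNice hwR h1
        have := inv_mem hm
        convert this using 1
        apply Subtype.ext
        simp [mul_assoc]
      exact ⟨⟨w', (x : ↥(PJ P J) ⧸ MJ P J w), hM⟩, Subtype.ext hz.symm⟩
  rw [← Nat.card_eq_of_bijective f hf, Nat.card_sigma]
  exact (Finset.sum_subtype _ (by simp)
    (fun w => Nat.card (MulAction.fixedBy (↥(PJ P J) ⧸ MJ P J w) (⟨g, hg⟩ : ↥(PJ P J))))).symm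

theorem alt_sum_between {α : Type*} [DecidableEq α] [Fintype α] {s t : Finset α} (h : s ⊆ t) :
    ∑ K ∈ (Finset.univ : Finset (Finset α)).filter (fun K => s ⊆ K ∧ K ⊆ t),
        (-1 : ℂ) ^ K.card = if s = t then (-1 : ℂ) ^ s.card else 0 := by
  have e : (Finset.univ : Finset (Finset α)).filter (fun K => s ⊆ K ∧ K ⊆ t) =
      (t \ s).powerset.image fun K => s ∪ K := by
    rw [← Finset.Icc_eq_image_powerset h]
    ext K
    simp [Finset.mem_Icc]
  have hd : ∀ K ∈ (t \ s).powerset, Disjoint s K := fun K hK =>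
    Finset.disjoint_sdiff.mono_right (Finset.mem_powerset.1 hK)
  rw [e, Finset.sum_image (fun K hK K' hK' he => by
    rw [← Finset.union_sdiff_cancel_left (hd K hK), ← Finset.union_sdiff_cancel_left (hd K' hK')]
    exact congrArg (· \ s) he)]
  rw [Finset.sum_congr rfl fun K hK => by rw [Finset.card_union_of_disjoint (hd K hK), pow_add],
    ← Finset.mul_sum]
  have h0 := congrArg (fun z : ℤ => (z : ℂ)) (Finset.sum_powerset_neg_one_pow_card (x := t \ s))
  push_cast at h0
  rw [h0, mul_ite, mul_one, mul_zero]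
  exact if_congr ⟨fun hst => h.antisymm (Finset.sdiff_eq_empty_iff_subset.1 hst),
    fun hst => by rw [hst, Finset.sdiff_self]⟩ rfl rfl

theorem len_w0 {w₀ : Weyl P} (h : ∀ u, len P u ≤ len P w₀) (u : Weyl P) :
    len P u + len P (u⁻¹ * w₀) = len P w₀ := by
  refine len_add_of_all_descents P (fun s => ?_) u
  exact lt_of_le_of_ne (h _) (len_refl_mul_ne P s w₀)

theorem conj_w0 {w₀ : Weyl P} (h : ∀ u, len P u ≤ len P w₀) (t : P.S) :
    ∃ s : P.S, Lie.refl P s * w₀ = w₀ * Lie.refl P t := by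
  have h' : ∀ u, len P u ≤ len P w₀⁻¹ := fun u => by rw [len_inv]; exact h u
  have h1 := len_w0 P h' (Lie.refl P t)
  rw [len_refl, refl_inv] at h1
  have h2 := len_w0 P h' (Lie.refl P t * w₀⁻¹)
  rw [_root_.mul_inv_rev, inv_inv, refl_inv] at h2
  have h3 : len P (w₀ * Lie.refl P t * w₀⁻¹) = 1 := by omega
  obtain ⟨s, -, hs⟩ := exists_refl_of_len P (J := Finset.univ)
    (by rw [weylPara_univ]; trivial) h3
  exact ⟨s, by rw [hs]; group⟩

/-- The value at an element of the parabolic subgroup without conjugate in a smaller one. -/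
theorem stBN_levi {g : G} (hg : g ∈ PJ P J)
    (hmin : ∀ J' ⊆ J, J' ≠ J → ∀ x ∈ PJ P J, x⁻¹ * g * x ∉ PJ P J') :
    ∃ (w a : Weyl P) (k : ℕ), Nice P J w ∧ a ∈ weylPara P (img P J) ∧
      (∀ u, len P u ≤ len P (a * w)) ∧
      stBN P g = (-1 : ℂ) ^ k *
        (Nat.card (MulAction.fixedBy (↥(PJ P J) ⧸ MJ P J w) (⟨g, hg⟩ : ↥(PJ P J))) : ℂ) := by
  classical
  haveI := Fintype.ofFinite (Weyl P)
  obtain ⟨w₀, hw₀⟩ := exists_max P
  obtain ⟨a₀, ha₀, hmax⟩ : ∃ a₀ ∈ weylPara P (img P J),
      ∀ a ∈ weylPara P (img P J), len P a ≤ len P a₀ := by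
    haveI : Finite ↥(weylPara P (img P J)) := inferInstance
    obtain ⟨a, ha⟩ := Finite.exists_max fun a : ↥(weylPara P (img P J)) => len P a.1
    exact ⟨a.1, a.2, fun b hb => ha ⟨b, hb⟩⟩
  have hw0 := fun u => len_w0 P hw₀ u
  -- the distinguished element
  obtain ⟨ws, hws⟩ : ∃ ws, ws = a₀⁻¹ * w₀ := ⟨_, rfl⟩
  have haw : a₀ * ws = w₀ := by rw [hws, mul_inv_cancel_left]
  have hLA : LA P (img P J) ws := by
    intro s hs
    have h1 := hw0 a₀
    have h2 := hw0 (a₀ * Lie.refl P s)
    rw [_root_.mul_inv_rev, refl_inv, mul_assoc, ← hws] at h2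
    rw [← hws] at h1
    have h3 := hmax _ (mul_mem ha₀ (refl_mem_weylPara P hs))
    have h4 : len P (a₀ * Lie.refl P s) ≠ len P a₀ := by
      rw [← len_inv P a₀, ← len_inv P (a₀ * Lie.refl P s), _root_.mul_inv_rev, refl_inv]
      exact len_refl_mul_ne P s a₀⁻¹
    omega
  have hlenJ : ∀ x ∈ weylPara P (img P J), len P (a₀ * x⁻¹) + len P x = len P a₀ := by
    intro x hx
    have h1 := len_mul_left P hLA hx
    have h2 := hw0 a₀
    have h3 := hw0 (a₀ * x⁻¹)
    rw [_root_.mul_inv_rev, inv_inv, mul_assoc, ← hws] at h3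
    rw [← hws] at h2
    omega
  have hinv : a₀⁻¹ = a₀ := by
    have h := hlenJ a₀⁻¹ (inv_mem ha₀)
    rw [inv_inv, len_inv] at h
    exact inv_eq_of_mul_eq_one_right (eq_one_of_len P _ (by omega))
  have hlenJ' : ∀ x ∈ weylPara P (img P J), len P (x⁻¹ * a₀) + len P x = len P a₀ := by
    intro x hx
    have h := hlenJ x⁻¹ (inv_mem hx)
    rw [inv_inv, len_inv P x, ← len_inv P (a₀ * x), _root_.mul_inv_rev, hinv] at h
    exact h
  have hswap : ∀ s ∈ J, ∃ s' ∈ J, a₀ * Lie.refl P s = Lie.refl P s' * a₀ := by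
    intro s hs
    have hsJ := refl_mem_weylPara P ((mem_img P).2 hs) (J := img P J)
    have h1 := hlenJ _ hsJ
    rw [refl_inv, len_refl] at h1
    have h3 := hlenJ (a₀ * Lie.refl P s) (mul_mem ha₀ hsJ)
    rw [_root_.mul_inv_rev, refl_inv] at h3
    have h4 : len P (a₀ * (Lie.refl P s * a₀⁻¹)) = 1 := by omega
    obtain ⟨s', hs', e⟩ := exists_refl_of_len P
      (mul_mem ha₀ (mul_mem hsJ (inv_mem ha₀))) h4
    exact ⟨s', hs', by rw [e]; group⟩
  have hNice : Nice P J ws := by
    refine ⟨hLA, fun s hs => ?_⟩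
    obtain ⟨s', -, e⟩ := hswap s hs
    have h1 := hw0 (Lie.refl P s')
    rw [len_refl, refl_inv] at h1
    have h2 := hw0 (Lie.refl P s' * w₀)
    rw [_root_.mul_inv_rev, refl_inv] at h2
    have h3 : len P (w₀⁻¹ * Lie.refl P s' * w₀) = 1 := by omega
    obtain ⟨t, -, et⟩ := exists_refl_of_len P (J := Finset.univ)
      (by rw [weylPara_univ]; trivial) h3
    refine ⟨t, ?_⟩
    rw [et, hws]
    have e' : Lie.refl P s * a₀⁻¹ = a₀⁻¹ * Lie.refl P s' := by
      rw [eq_inv_mul_iff_mul_eq, ← mul_assoc, e, mul_inv_cancel_right]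
    rw [← mul_assoc, e']
    group
  have htop : ∀ t : P.S, len P ws < len P (ws * Lie.refl P t) → t ∈ K0 P J ws := by
    intro t ht
    obtain ⟨s'', e⟩ := conj_w0 P hw₀ t
    have e1 : ws * Lie.refl P t = (Lie.refl P s'' * a₀)⁻¹ * w₀ := by
      rw [_root_.mul_inv_rev, refl_inv, hws, mul_assoc, mul_assoc, e]
    have h1 := hw0 (Lie.refl P s'' * a₀)
    rw [← e1] at h1
    have h2 := hw0 a₀
    rw [← hws] at h2
    have h3 : len P (Lie.refl P s'' * a₀) < len P a₀ := by omega
    obtain ⟨l, hl, el, hlJ⟩ := reduced_word_of_mem P ha₀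
    obtain ⟨i, -, ei⟩ := exchange P l (by rw [hl, el]) (by rw [el]; exact h3)
    have hsJ : s'' ∈ J := by
      rw [← mem_img P, ← refl_mem_weylPara_iff P]
      have hmem : Lie.refl P s'' * a₀ ∈ weylPara P (img P J) := by
        rw [← el, ei]
        exact wprod_mem_weylPara P fun r hr => hlJ r (List.mem_of_mem_eraseIdx hr)
      simpa using mul_mem hmem (inv_mem ha₀)
    have hy : len P (a₀⁻¹ * Lie.refl P s'' * a₀) = 1 := by
      have h4 := hlenJ' _ (refl_mem_weylPara P ((mem_img P).2 hsJ))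
      rw [refl_inv, len_refl] at h4
      have h5 := hlenJ' (Lie.refl P s'' * a₀) (mul_mem (refl_mem_weylPara P ((mem_img P).2 hsJ)) ha₀)
      rw [_root_.mul_inv_rev, refl_inv] at h5
      omega
    obtain ⟨s, hs, es⟩ := exists_refl_of_len P
      (mul_mem (mul_mem (inv_mem ha₀) (refl_mem_weylPara P ((mem_img P).2 hsJ))) ha₀) hy
    refine (mem_K0 P J).2 ⟨s, hs, ?_⟩
    rw [es, e1, _root_.mul_inv_rev, refl_inv, hws]
    group
  have huniq : ∀ w, Nice P J w →
      (∀ t : P.S, len P w < len P (w * Lie.refl P t) → t ∈ K0 P J w) → a₀ * w = w₀ := by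
    intro w hN hA
    refine no_ascent_unique P (fun t => ?_) (fun t => (max_no_ascent P hw₀ t).1)
    rw [len_mul_left P hN.1 ha₀, not_lt]
    by_cases ht : len P w < len P (w * Lie.refl P t)
    · obtain ⟨s, hs, e⟩ := (mem_K0 P J).1 (hA t ht)
      have hsJ := refl_mem_weylPara P ((mem_img P).2 hs) (J := img P J)
      rw [mul_assoc, ← e, ← mul_assoc, len_mul_left P hN.1 (mul_mem ha₀ hsJ)]
      have := hmax _ (mul_mem ha₀ hsJ)
      omega
    · have h1 := len_mul_le P a₀ (w * Lie.refl P t)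
      rw [← mul_assoc] at h1
      omega
  -- the sum
  let N : Weyl P → ℂ := fun w =>
    (Nat.card (MulAction.fixedBy (↥(PJ P J) ⧸ MJ P J w) (⟨g, hg⟩ : ↥(PJ P J))) : ℂ)
  let A : Weyl P → Finset P.S := fun w =>
    Finset.univ.filter fun s : P.S => len P w < len P (w * Lie.refl P s)
  have hA : ∀ w K, RA P (img P K) w ↔ K ⊆ A w := fun w K =>
    ⟨fun h s hs => Finset.mem_filter.2 ⟨Finset.mem_univ s, h s ((mem_img P).2 hs)⟩,
      fun h s hs => (Finset.mem_filter.1 (h ((mem_img P).1 hs))).2⟩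
  have e1 : ∀ K : Finset P.S, (-1 : ℂ) ^ K.card * fixedPointCharacter (P.parabolic (img P K)) g =
      ∑ w : Weyl P, if Nice P J w ∧ K0 P J w ⊆ K ∧ K ⊆ A w then (-1 : ℂ) ^ K.card * N w else 0 := by
    intro K
    rw [fixedPointCharacter, fix_parabolic_levi P J hg hmin K, Nat.cast_sum, Finset.mul_sum,
      Finset.sum_filter]
    exact Finset.sum_congr rfl fun w _ => if_congr (by rw [hA]) rfl rfl
  have e2 : ∀ w : Weyl P, (∑ K : Finset P.S,
      if Nice P J w ∧ K0 P J w ⊆ K ∧ K ⊆ A w then (-1 : ℂ) ^ K.card * N w else 0) =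
      if w = ws then (-1 : ℂ) ^ (K0 P J w).card * N w else 0 := by
    intro w
    by_cases hN : Nice P J w
    · have hsub : K0 P J w ⊆ A w := (hA w _).1 (RA_K0 P J hN.1)
      simp only [hN, true_and]
      rw [← Finset.sum_filter, ← Finset.sum_mul, alt_sum_between hsub, ite_mul, zero_mul]
      refine if_congr ⟨fun e => ?_, fun e => ?_⟩ rfl rfl
      · refine mul_left_cancel (a := a₀) ((huniq w hN fun t ht => ?_).trans haw.symm)
        rw [e]
        exact Finset.mem_filter.2 ⟨Finset.mem_univ t, ht⟩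
      · subst e
        exact hsub.antisymm fun t ht => htop t (Finset.mem_filter.1 ht).2
    · have hne : w ≠ ws := fun e => hN (e ▸ hNice)
      simp [hN, hne]
  refine ⟨ws, a₀, (K0 P J ws).card, hNice, ha₀, haw.symm ▸ hw₀, ?_⟩
  rw [stBN, Finset.sum_congr rfl fun K _ => e1 K, Finset.sum_comm,
    Finset.sum_congr rfl fun w _ => e2 w, Finset.sum_ite_eq', if_pos (Finset.mem_univ _)]

end Cfsg.Agent.Char.StBN
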