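import Cfsg.Agent.Lib.Char.SteinbergLevi
import Cfsg.Agent.Lib.Char.SteinbergChev
import Cfsg.Agent.Lib.Grp.SchurZassenhaus
import Cfsg.Agent.Lib.Lie.Chev.Parabolic
import Cfsg.Agent.Lib.Block.Separated
import Cfsg.Agent.Lib.Char.ModP

/-!
The Steinberg character of a finite Chevalley group at an element of order prime to the
characteristic: up to sign the largest power of the characteristic dividing the order of the
centralizer.
-/

set_option autoImplicit false

namespace Cfsg.Agent.Char.StVal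

open scoped Pointwise
open Cfsg Cfsg.Lie Cfsg.Agent.Lie Cfsg.Agent.Lie.Chev Cfsg.Agent.Char.StBN Cfsg.Agent.Char.StChev

universe u

/-- Fixed cosets of a complement of a normal solvable Hall subgroup. -/
theorem card_fixed_complement {X : Type u} [Group X] [Finite X] (U M : Subgroup X) [U.Normal]
    (hsolv : Group.IsSolvable U) (hsup : U ⊔ M = ⊤) (hinf : U ⊓ M = ⊥) (g : X)
    (hcop : (Nat.card U).Coprime (orderOf g)) :
    Nat.card (MulAction.fixedBy (X ⧸ M) g) = Nat.card {u : U // Commute (u : X) g} := by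
  classical
  have hdec : ∀ x : X, ∃ u ∈ U, ∃ m ∈ M, x = u * m := by
    intro x
    have hx : x ∈ U ⊔ M := hsup ▸ Subgroup.mem_top x
    obtain ⟨u, hu, m, hm, e⟩ := Subgroup.mem_sup_of_normal_left.1 hx
    exact ⟨u, hu, m, hm, e.symm⟩
  have hone : ∀ x, x ∈ U → x ∈ M → x = 1 := fun x hu hm =>
    Subgroup.mem_bot.1 (hinf.le ⟨hu, hm⟩)
  -- a conjugate of `g` in the complement
  obtain ⟨n, hn, m, hm, rfl⟩ : ∃ n ∈ U, ∃ m ∈ M, g = n * m * n⁻¹ := by
    have hK : ∀ x, x ∈ U → x ∈ Subgroup.zpowers g → x = 1 := by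
      intro x hu hx
      have h1 : orderOf x ∣ Nat.card U := by
        have := orderOf_dvd_natCard (⟨x, hu⟩ : U)
        rwa [Subgroup.orderOf_mk] at this
      exact orderOf_eq_one_iff.1 (Nat.eq_one_of_dvd_coprimes hcop h1
        (orderOf_dvd_of_mem_zpowers hx))
    obtain ⟨H, hH⟩ : ∃ H, H = M ⊓ (U ⊔ Subgroup.zpowers g) := ⟨_, rfl⟩
    have hcard : Nat.card H = Nat.card (Subgroup.zpowers g) := by
      let π := QuotientGroup.mk' U
      have hinj : ∀ L : Subgroup X, (∀ x, x ∈ U → x ∈ L → x = 1) →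
          Nat.card L = Nat.card (L.map π) := by
        intro L hL
        refine Nat.card_congr (Equiv.ofBijective (fun x : L => (⟨π x, x, x.2, rfl⟩ : L.map π))
          ⟨fun a b h => ?_, ?_⟩)
        · have h' : ((a : X) : X ⧸ U) = ((b : X) : X ⧸ U) := congrArg Subtype.val h
          refine Subtype.ext (inv_mul_eq_one.1 (hL _ (QuotientGroup.eq.1 h') ?_))
          exact mul_mem (inv_mem a.2) b.2
        · rintro ⟨_, x, hx, rfl⟩
          exact ⟨⟨x, hx⟩, rfl⟩
      rw [hinj H (fun x hu hx => hone x hu (hH ▸ hx : x ∈ M ⊓ _).1), hinj _ hK]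
      congr 1
      refine congrArg (fun L : Subgroup (X ⧸ U) => ↥L) (le_antisymm ?_ ?_)
      · rintro _ ⟨x, hx, rfl⟩
        rw [hH] at hx
        obtain ⟨u, hu, k, hk, e⟩ := Subgroup.mem_sup_of_normal_left.1 hx.2
        exact ⟨k, hk, by rw [← e, map_mul, show π u = 1 from (QuotientGroup.eq_one_iff u).2 hu, one_mul]⟩
      · rintro _ ⟨k, hk, rfl⟩
        obtain ⟨u, hu, m, hm, e⟩ := hdec k
        refine ⟨m, hH ▸ ⟨hm, ?_⟩, by rw [e, map_mul, show π u = 1 from (QuotientGroup.eq_one_iff u).2 hu, one_mul]⟩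
        rw [show m = u⁻¹ * k by rw [e, inv_mul_cancel_left]]
        exact mul_mem (Subgroup.mem_sup_left (inv_mem hu)) (Subgroup.mem_sup_right hk)
    have hle : Subgroup.zpowers g ≤ U ⊔ H := by
      intro k hk
      obtain ⟨u, hu, m, hm, e⟩ := hdec k
      rw [e]
      refine mul_mem (Subgroup.mem_sup_left hu) (Subgroup.mem_sup_right (hH ▸ ⟨hm, ?_⟩))
      rw [show m = u⁻¹ * k by rw [e, inv_mul_cancel_left]]
      exact mul_mem (Subgroup.mem_sup_left (inv_mem hu)) (Subgroup.mem_sup_right hk)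
    obtain ⟨n, hn, e⟩ := Cfsg.Agent.Grp.exists_conj_of_le_sup (N := U) (H := H)
      (Subgroup.normalizer_eq_top U ▸ le_top) hle hcard.symm
      (by rw [hcard, Nat.card_zpowers]; exact hcop) (Or.inl hsolv)
    have hg : g ∈ MulAut.conj n • H := e ▸ Subgroup.mem_zpowers g
    rw [Subgroup.mem_pointwise_smul_iff_inv_smul_mem, hH] at hg
    refine ⟨n, hn, _, hg.1, ?_⟩
    simp [MulAut.conj_inv_apply, mul_assoc]
  let f : {u : U // Commute (u : X) (n * m * n⁻¹)} → MulAction.fixedBy (X ⧸ M) (n * m * n⁻¹) :=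
    fun u => ⟨(((u.1 : X) * n : X) : X ⧸ M), by
      refine QuotientGroup.eq.2 ?_
      show (n * m * n⁻¹ * ((u.1 : X) * n))⁻¹ * ((u.1 : X) * n) ∈ M
      rw [← mul_assoc (n * m * n⁻¹), ← u.2.eq]
      convert inv_mem hm using 1
      group⟩
  refine (Nat.card_eq_of_bijective f ⟨fun a b h => ?_, fun x => ?_⟩).symm
  · have h1 := QuotientGroup.eq.1 (congrArg Subtype.val h)
    have h2 : ((a.1 : X) * n)⁻¹ * ((b.1 : X) * n) ∈ U :=
      mul_mem (inv_mem (mul_mem a.1.2 hn)) (mul_mem b.1.2 hn)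
    exact Subtype.ext (Subtype.ext (mul_right_cancel (inv_mul_eq_one.1 (hone _ h2 h1))))
  · obtain ⟨x, hx⟩ := x
    induction x using QuotientGroup.induction_on with
    | _ x =>
    obtain ⟨u, hu, k, hk, rfl⟩ := hdec x
    have e : ((u * k : X) : X ⧸ M) = (u : X ⧸ M) := by
      refine QuotientGroup.eq.2 ?_
      convert inv_mem hk using 1
      group
    have hu' : u * n⁻¹ ∈ U := mul_mem hu (inv_mem hn)
    have hfix : (n * m * n⁻¹) • (u : X ⧸ M) = (u : X ⧸ M) := e ▸ hx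
    have h1 : (n * m * n⁻¹ * u)⁻¹ * u ∈ M := QuotientGroup.eq.1 hfix
    have hw : n⁻¹ * u ∈ U := mul_mem (inv_mem hn) hu
    have h2 : (n⁻¹ * u)⁻¹ * (m⁻¹ * (n⁻¹ * u) * m) ∈ U :=
      mul_mem (inv_mem hw) (by simpa using ‹U.Normal›.conj_mem _ hw m⁻¹)
    have h3 : (n⁻¹ * u)⁻¹ * (m⁻¹ * (n⁻¹ * u) * m) ∈ M := by
      have h4 := mul_mem h1 hm
      convert h4 using 1
      group
    have h5 := inv_mul_eq_one.1 (hone _ h2 h3)
    have hc : Commute (u * n⁻¹) (n * m * n⁻¹) := by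
      have h6 : Commute (n⁻¹ * u) m := by
        show n⁻¹ * u * m = m * (n⁻¹ * u)
        conv_rhs => rw [h5]
        group
      show u * n⁻¹ * (n * m * n⁻¹) = n * m * n⁻¹ * (u * n⁻¹)
      calc u * n⁻¹ * (n * m * n⁻¹) = n * (n⁻¹ * u * m) * n⁻¹ := by group
        _ = n * (m * (n⁻¹ * u)) * n⁻¹ := by rw [h6.eq]
        _ = _ := by group
    exact ⟨⟨⟨u * n⁻¹, hu'⟩, hc⟩, Subtype.ext (by
      show (((u * n⁻¹) * n : X) : X ⧸ M) = ((u * k : X) : X ⧸ M)
      rw [inv_mul_cancel_right, e])⟩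

/-- The fixed points of a commuting coset of a subgroup are counted in multiples of its order. -/
theorem card_dvd_sum_fixed {A : Type*} [Group A] [Finite A] {X : Type*} [MulAction A X] [Finite X]
    (g : A) (S : Subgroup A) [Fintype S] (hS : ∀ s ∈ S, Commute s g) :
    Nat.card S ∣ ∑ s : S, Nat.card (MulAction.fixedBy X (g * (s : A))) := by
  classical
  haveI := Fintype.ofFinite X
  let F : X → ℕ := fun x => Nat.card {s : S // (g * (s : A)) • x = x}
  have hswap : ∑ s : S, Nat.card (MulAction.fixedBy X (g * (s : A))) = ∑ x : X, F x := by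
    have h1 : ∀ s : S, Nat.card (MulAction.fixedBy X (g * (s : A))) =
        ∑ x : X, if (g * (s : A)) • x = x then 1 else 0 := by
      intro s
      rw [Finset.sum_boole, Nat.cast_id, ← Fintype.card_subtype, ← Nat.card_eq_fintype_card]
      rfl
    have h2 : ∀ x : X, F x = ∑ s : S, if (g * (s : A)) • x = x then 1 else 0 := by
      intro x
      rw [Finset.sum_boole, Nat.cast_id, ← Fintype.card_subtype, ← Nat.card_eq_fintype_card]
    rw [Finset.sum_congr rfl fun s _ => h1 s, Finset.sum_congr rfl fun x _ => h2 x]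
    exact Finset.sum_comm
  rw [hswap, ← Finset.sum_fiberwise Finset.univ (fun x : X => Quotient.mk (MulAction.orbitRel S X) x)]
  refine Finset.dvd_sum fun o _ => ?_
  obtain ⟨x₀, rfl⟩ := Quotient.exists_rep o
  have hconst : ∀ x ∈ MulAction.orbit S x₀, F x = F x₀ := by
    rintro _ ⟨r, rfl⟩
    refine Nat.card_congr (Equiv.subtypeEquiv ((MulAut.conj r⁻¹).toEquiv) fun s => ?_)
    show (g * (s : A)) • (r : A) • x₀ = (r : A) • x₀ ↔
      (g * (((r⁻¹ * s * r⁻¹⁻¹ : S)) : A)) • x₀ = x₀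
    have e : g * (((r⁻¹ * s * r⁻¹⁻¹ : S)) : A) = (r : A)⁻¹ * (g * (s : A)) * r := by
      simp only [Subgroup.coe_mul, Subgroup.coe_inv, inv_inv, ← mul_assoc]
      rw [((hS r r.2).inv_left).eq]
    rw [e, mul_smul _ (r : A) x₀, mul_smul _ (g * (s : A)), inv_smul_eq_iff]
  have hset : (Finset.univ.filter fun x : X =>
      Quotient.mk (MulAction.orbitRel S X) x = Quotient.mk (MulAction.orbitRel S X) x₀) =
      (MulAction.orbit S x₀).toFinset := by
    ext x
    simp only [Finset.mem_filter, Finset.mem_univ, true_and, Set.mem_toFinset, Quotient.eq]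
    exact MulAction.orbitRel_apply
  rw [hset, Finset.sum_congr rfl fun x hx => hconst x (Set.mem_toFinset.1 hx), Finset.sum_const,
    smul_eq_mul, Set.toFinset_card]
  by_cases h0 : F x₀ = 0
  · rw [h0, mul_zero]
    exact dvd_zero _
  obtain ⟨⟨s₀, hs₀⟩⟩ : Nonempty {s : S // (g * (s : A)) • x₀ = x₀} :=
    (Nat.card_ne_zero.1 h0).1
  have hF : F x₀ = Nat.card (MulAction.stabilizer S x₀) := by
    refine Nat.card_congr (Equiv.subtypeEquiv (Equiv.mulLeft s₀⁻¹) fun s => ?_)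
    rw [MulAction.mem_stabilizer_iff]
    show _ ↔ (((s₀⁻¹ * s : S)) : A) • x₀ = x₀
    rw [Subgroup.coe_mul, Subgroup.coe_inv, mul_smul (s₀ : A)⁻¹, inv_smul_eq_iff, mul_smul g]
    conv_lhs => rhs; rw [← hs₀, mul_smul g]
    exact smul_left_cancel_iff g
  rw [hF, Nat.card_eq_fintype_card, Nat.card_eq_fintype_card,
    MulAction.card_orbit_mul_card_stabilizer_eq_card_group]

/-- The stabiliser meets the conjugates inside `B` in the torus. -/
theorem stab_small {G : Type u} [Group G] [Finite G] (P : BNPair G) [Fintype P.S]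
    (J : Finset P.S) {w a : Weyl P} (hN : Nice P J w)
    (hmax : ∀ u, len P u ≤ len P (a * w)) {n : P.N}
    (hn : ∀ y ∈ P.B, (n : G)⁻¹ * y * n ∈ P.B → y ∈ P.N) {x : ↥(PJ P J)} (hxB : (x : G) ∈ P.B)
    (hxM : x ∈ MJ P J w) (hy : (rep P a : G) * x * (rep P a : G)⁻¹ ∈ P.B) :
    (rep P a : G) * x * (rep P a : G)⁻¹ ∈ P.N := by
  refine hn _ hy ?_
  have hB := MJ_inf_B P J hN.1 hxB hxM
  have hproj : proj P n = proj P (rep P a * rep P w) := by
    rw [map_mul, rep_spec, rep_spec]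
    exact BNRed.no_ascent_unique P (no_ascent_of_small P hn)
      (fun s => (BNRed.max_no_ascent P hmax s).1)
  have hh := (proj_eq P).1 hproj
  rw [Subgroup.coe_mul] at hh
  have h1 := mul_mem (mul_mem hh hB) (inv_mem hh)
  convert h1 using 1
  group

variable {D : ChevalleyDatum} (c : CertFull D) {F : Type u} [Field F]

include c

/-- A simple root element of a node of `J` moved past a left ascending representative. -/
theorem simple_conj_mem_B {J : Finset (c.bnPair F).S} {w : Weyl (c.bnPair F)}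
    (hL : BNRed.LA (c.bnPair F) (img (c.bnPair F) J) w) {s : (c.bnPair F).S} (hs : s ∈ J) {j : ℕ}
    (hj : j < D.rank) (hsj : ((s : ↥(D.group F)) : GL D.Idx F) = c.np F j) (t : F) :
    ((rep (c.bnPair F) w : ↥(D.group F)))⁻¹ * c.xG (D.simple j) t * rep (c.bnPair F) w ∈
      (c.bnPair F).B := by
  have hα := c.simple_lt hj
  obtain ⟨a, ha, L, hLlt, en⟩ := c.mem_monomial_iff.1 (rep (c.bnPair F) w).2
  change ((rep (c.bnPair F) w : ↥(D.group F)) : GL D.Idx F) = a * c.nw F L at en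
  have hLr : ∀ q ∈ L.reverse, q < D.rank := fun q hq => hLlt q (List.mem_reverse.1 hq)
  set r := c.wl L.reverse (D.neg (D.simple j)) with hr
  have hrlt : r < D.nroots := c.wl_lt hLr (c.neg_lt hα)
  have hwr : c.wl L r = D.neg (D.simple j) := c.wl_reverse hLlt (c.neg_lt hα)
  have hnr : ¬ c.Pos r := by
    intro hpos
    obtain ⟨k, hk, hconj⟩ := c.mono_mul_xg ha hLlt hrlt
    rw [hwr] at hconj
    have e := hconj k⁻¹
    rw [mul_inv_cancel₀ hk] at e
    have h1 : c.xG (D.neg (D.simple j)) 1 * (rep (c.bnPair F) w : ↥(D.group F)) ∈ cell (c.bnPair F) w := by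
      have h2 : (rep (c.bnPair F) w : ↥(D.group F)) * c.xG r k⁻¹ ∈ cell (c.bnPair F) w :=
        cell_mul_B (c.bnPair F) (c.xg_mem_B hpos k⁻¹ : _ ∈ D.borelSubgroup F) (rep_mem_cell (c.bnPair F) w)
      convert h2 using 1
      refine Subtype.ext ?_
      show c.xg (D.neg (D.simple j)) 1 * _ = _ * c.xg r k⁻¹
      rw [en]
      exact e.symm
    have h2 : c.xG (D.neg (D.simple j)) (1 : F) ∈ cell (c.bnPair F) (Lie.refl (c.bnPair F) s) := by
      obtain ⟨b, hb, eb⟩ := c.xg_neg_eq hj (one_ne_zero : (1 : F) ≠ 0)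
      rw [Lie.refl, mem_cell_proj]
      refine ⟨c.xG (D.simple j) 1⁻¹ * ⟨b, c.B_le_group (c.H_le_B hb)⟩,
        mul_mem (c.xg_mem_B (c.pos_simple hj) _ : _ ∈ D.borelSubgroup F) (c.H_le_B hb),
        c.xG (D.simple j) 1⁻¹, (c.xg_mem_B (c.pos_simple hj) _ : _ ∈ D.borelSubgroup F), ?_⟩
      refine Subtype.ext ?_
      show c.xg (D.neg (D.simple j)) 1 = c.xg (D.simple j) 1⁻¹ * b *
        ((s : ↥(D.group F)) : GL D.Idx F) * c.xg (D.simple j) 1⁻¹
      rw [hsj, eb, mul_assoc (c.xg (D.simple j) 1⁻¹) b]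
    have h3 := mul_cell_add (c.bnPair F) (len_mul_left (c.bnPair F) hL (refl_mem_weylPara (c.bnPair F) ((mem_img (c.bnPair F)).2 hs))) h2
      (rep_mem_cell (c.bnPair F) w)
    exact refl_ne_one (c.bnPair F) s (mul_eq_right.1 (cell_unique (c.bnPair F) h3 h1))
  have hneg : c.Pos (D.neg r) := (c.not_pos_iff hrlt).1 hnr
  obtain ⟨k, hk, hconj⟩ := c.mono_mul_xg ha hLlt (c.neg_lt hrlt)
  rw [c.wl_neg hLlt hrlt, hwr, c.neg_neg hα] at hconj
  have e := hconj (k⁻¹ * t)
  rw [← mul_assoc k, mul_inv_cancel₀ hk, one_mul, ← en] at e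
  show ((rep (c.bnPair F) w : ↥(D.group F)) : GL D.Idx F)⁻¹ * c.xg (D.simple j) t *
    ((rep (c.bnPair F) w : ↥(D.group F)) : GL D.Idx F) ∈ D.borelSubgroup F
  rw [mul_assoc, ← e, inv_mul_cancel_left]
  exact c.xg_mem_B hneg _

/-- The nodes of a set of reflections. -/
def nodes (J : Finset (c.bnPair F).S) : Set ℕ :=
  {j | j < D.rank ∧ ∃ s ∈ J, ((s : ↥(D.group F)) : GL D.Idx F) = c.np F j}

/-- The unipotent radical inside the parabolic subgroup. -/
def rad (J : Finset (c.bnPair F).S) : Subgroup ↥(PJ (c.bnPair F) J) :=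
  (D.unipotentRadical F (nodes c J)).comap
    ((D.group F).subtype.comp (PJ (c.bnPair F) J).subtype)

theorem radical_le_U (J : Set ℕ) : D.unipotentRadical F J ≤ D.posUnipotent F := by
  refine (Subgroup.closure_le _).2 ?_
  rintro g ⟨s, t, hs, -, e⟩
  obtain rfl := c.eq_xg_iff.1 e
  exact c.xg_mem_U (c.posRoot_iff.1 hs) t

theorem rad_normal (J : Finset (c.bnPair F).S) : (rad c J).Normal := by
  constructor
  intro x hx y
  have hle : ∀ z : ↥(PJ (c.bnPair F) J),
      ((z : ↥(D.group F)) : GL D.Idx F) ∈ D.parabolicSubgroup F (nodes c J) := by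
    have h : PJ (c.bnPair F) J ≤ (D.parabolicSubgroup F (nodes c J)).subgroupOf (D.group F) := by
      refine sup_le (fun b hb => Subgroup.mem_sup_left hb) ((Subgroup.closure_le _).2 ?_)
      rintro _ ⟨s, hs, rfl⟩
      obtain ⟨j, hj, hsj⟩ := s.2
      exact Subgroup.mem_sup_right (Subgroup.subset_closure ⟨j, ⟨hj, s, hs, np_eq c hsj⟩, hj, hsj⟩)
    exact fun z => h z.2
  exact (Subgroup.mem_normalizer_iff.1 (c.parabolic_le_normalizer _ (hle y)) _).1 hx

theorem rad_inf (J : Finset (c.bnPair F).S) [Finite F] [Fintype (c.bnPair F).S]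
    {w a : Weyl (c.bnPair F)} (hN : Nice (c.bnPair F) J w)
    (ha : a ∈ weylPara (c.bnPair F) (img (c.bnPair F) J))
    (hmax : ∀ u, len (c.bnPair F) u ≤ len (c.bnPair F) (a * w)) :
    rad c J ⊓ MJ (c.bnPair F) J w = ⊥ := by
  haveI := rad_normal c J
  rw [eq_bot_iff]
  rintro x ⟨hxU, hxM⟩
  have hUB : ∀ z ∈ rad c J, ((z : ↥(PJ (c.bnPair F) J)) : ↥(D.group F)) ∈ (c.bnPair F).B := fun z hz =>
    (Subgroup.mem_sup_left (radical_le_U c _ hz) :
      ((z : ↥(D.group F)) : GL D.Idx F) ∈ D.borelSubgroup F)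
  have haQ : (rep (c.bnPair F) a : ↥(D.group F)) ∈ PJ (c.bnPair F) J :=
    (mem_parabolic_iff (c.bnPair F) (img_subset (c.bnPair F) J)).2
      ⟨a, ha, rep_mem_cell (c.bnPair F) a⟩
  obtain ⟨y, hy⟩ : ∃ y : ↥(PJ (c.bnPair F) J),
      y = ⟨_, haQ⟩ * x * (⟨_, haQ⟩ : ↥(PJ (c.bnPair F) J))⁻¹ := ⟨_, rfl⟩
  have hyU : y ∈ rad c J := hy ▸ (rad_normal c J).conj_mem x hxU _
  obtain ⟨n, hn⟩ := exists_opposite c (F := F)
  have hye : (y : ↥(D.group F)) = (rep (c.bnPair F) a : ↥(D.group F)) * (x : ↥(D.group F)) *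
      (rep (c.bnPair F) a : ↥(D.group F))⁻¹ := by rw [hy]; rfl
  have hyN : (y : ↥(D.group F)) ∈ (c.bnPair F).N := by
    rw [hye]
    exact stab_small (c.bnPair F) J hN hmax hn (hUB x hxU) hxM (hye ▸ hUB y hyU)
  have hy1 : ((y : ↥(D.group F)) : GL D.Idx F) ∈ D.posUnipotent F ⊓ D.diagonalSubgroup F := by
    refine ⟨radical_le_U c _ hyU, ?_⟩
    rw [← c.B_inf_N]
    exact ⟨hUB y hyU, hyN⟩
  rw [c.U_inf_H, Subgroup.mem_bot] at hy1
  have hy0 : y = 1 := Subtype.ext (Subtype.ext hy1)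
  rw [hy] at hy0
  rw [Subgroup.mem_bot]
  exact conj_eq_one_iff.1 hy0

theorem rad_sup (J : Finset (c.bnPair F).S) [Fintype (c.bnPair F).S] {w : Weyl (c.bnPair F)}
    (hN : Nice (c.bnPair F) J w) : rad c J ⊔ MJ (c.bnPair F) J w = ⊤ := by
  obtain ⟨R, hR⟩ : ∃ R, R = rad c J ⊔ MJ (c.bnPair F) J w := ⟨_, rfl⟩
  rw [← hR]
  let Rg : Subgroup (GL D.Idx F) := R.map ((D.group F).subtype.comp (PJ (c.bnPair F) J).subtype)
  have hmem : ∀ {x : GL D.Idx F}, x ∈ Rg ↔
      ∃ z : ↥(PJ (c.bnPair F) J), z ∈ R ∧ ((z : ↥(D.group F)) : GL D.Idx F) = x := Subgroup.mem_map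
  have hQ : ∀ {b : GL D.Idx F} (hb : b ∈ D.borelSubgroup F),
      (⟨b, c.B_le_group hb⟩ : ↥(D.group F)) ∈ PJ (c.bnPair F) J := fun hb => Subgroup.mem_sup_left hb
  have hH : D.diagonalSubgroup F ≤ Rg := fun a ha => hmem.2 ⟨⟨_, hQ (c.H_le_B ha)⟩,
    hR ▸ Subgroup.mem_sup_right (torus_mem_MJ (c.bnPair F) J ⟨c.H_le_B ha, Subgroup.mem_sup_left ha⟩), rfl⟩
  have hnp : ∀ j ∈ nodes c J, c.np F j ∈ Rg := by
    rintro j ⟨-, s, hs, e⟩
    exact hmem.2 ⟨_, hR ▸ Subgroup.mem_sup_right (rep_mem_MJ (c.bnPair F) J hN hs), e⟩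
  have hroot : ∀ r, c.Pos r → ∀ t : F, c.xg r t ∈ Rg := by
    intro r
    induction r using Nat.strong_induction_on with
    | _ r ih =>
    intro hr t
    by_cases hJ : D.InRootSub (nodes c J) r
    · rcases c.exists_descent hr hJ with ⟨j, ⟨hj, s, hs, e⟩, -, rfl⟩ | ⟨j, hjJ, hj, hpos, -, hlt⟩
      · refine hmem.2 ⟨⟨c.xG (D.simple j) t, Subgroup.mem_sup_left
          (c.xg_mem_B (c.pos_simple hj) t : _ ∈ D.borelSubgroup F)⟩, ?_, rfl⟩
        refine hR ▸ Subgroup.mem_sup_right ((mem_MJ (c.bnPair F) J).2 (B_le_parabolic (c.bnPair F) _ ?_))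
        exact simple_conj_mem_B c hN.1 hs hj e t
      · have hη : (c.T.eta j (c.w j r) : F) ≠ 0 :=
          left_ne_zero_of_mul (b := (c.T.eta j (c.w j r) : F))
            (by rw [c.eta_F_sq]; exact one_ne_zero)
        have h := mul_mem (mul_mem (hnp j hjJ)
          (ih _ hlt hpos ((c.T.eta j (c.w j r) : F)⁻¹ * t))) (inv_mem (hnp j hjJ))
        rw [Cert.np, c.ng_conj hj hpos.2, mul_inv_cancel_right, c.w_w hj hr.2, ← mul_assoc,
          mul_inv_cancel₀ hη, one_mul] at h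
        exact h
    · have hU := c.mem_radical (F := F) (show r ∈ c.radSet (nodes c J) from ⟨hr, hJ⟩) t
      exact hmem.2 ⟨⟨c.xG r t, Subgroup.mem_sup_left (c.xg_mem_B hr t : _ ∈ D.borelSubgroup F)⟩,
        hR ▸ Subgroup.mem_sup_left hU, rfl⟩
  have hBR : D.borelSubgroup F ≤ Rg := by
    refine sup_le ((Subgroup.closure_le _).2 ?_) hH
    rintro g ⟨r, t, hr, e⟩
    obtain rfl := c.eq_xg_iff.1 e
    exact hroot r (c.posRoot_iff.1 hr) t
  have hle : PJ (c.bnPair F) J ≤ Rg.subgroupOf (D.group F) := by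
    refine sup_le (fun b hb => hBR hb) ((Subgroup.closure_le _).2 ?_)
    rintro _ ⟨s, hs, rfl⟩
    obtain ⟨j, hj, hsj⟩ := s.2
    have h := hnp j ⟨hj, s, hs, np_eq c hsj⟩
    rw [← np_eq c hsj] at h
    exact h
  rw [eq_top_iff]
  intro z _
  obtain ⟨z', hz', e⟩ := hmem.1 (hle z.2)
  rwa [show z = z' from Subtype.ext (Subtype.ext e.symm)]

theorem value [Fintype F] (p : ℕ) [Fact p.Prime] [CharP F p] (g : ↥(D.group F))
    (hg : ¬ p ∣ orderOf g) :
    D.steinbergCharacter F g =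
        ((p ^ (Nat.card ↥(Subgroup.centralizer ({g} : Set ↥(D.group F)))).factorization p : ℕ) : ℂ) ∨
      D.steinbergCharacter F g =
        -((p ^ (Nat.card ↥(Subgroup.centralizer ({g} : Set ↥(D.group F)))).factorization p : ℕ) : ℂ) := by
  classical
  have hp : p.Prime := Fact.out
  haveI := Fintype.ofFinite (c.bnPair F).S
  -- a conjugate in a smallest parabolic subgroup
  have hex : ∃ n, ∃ (J : Finset (c.bnPair F).S) (x : ↥(D.group F)), J.card = n ∧ x⁻¹ * g * x ∈ PJ (c.bnPair F) J := by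
    refine ⟨_, Finset.univ, 1, rfl, ?_⟩
    have : PJ (c.bnPair F) Finset.univ = ⊤ := by
      rw [← parabolic_S (c.bnPair F)]
      show (c.bnPair F).parabolic _ = _
      congr 1
      ext y
      exact ⟨fun h => img_subset (c.bnPair F) _ h, fun h => (mem_img (c.bnPair F) (s := ⟨y, h⟩)).2 (Finset.mem_univ _)⟩
    rw [this]
    exact Subgroup.mem_top _
  obtain ⟨J, x, hJn, hx⟩ := Nat.find_spec hex
  obtain ⟨g₀, hg₀⟩ : ∃ g₀, g₀ = x⁻¹ * g * x := ⟨_, rfl⟩
  rw [← hg₀] at hx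
  have hmin : ∀ J' ⊆ J, J' ≠ J → ∀ y ∈ PJ (c.bnPair F) J, y⁻¹ * g₀ * y ∉ PJ (c.bnPair F) J' := by
    intro J' hJ' hne y _ hy
    have hlt : J'.card < J.card :=
      Finset.card_lt_card (Finset.ssubset_iff_subset_ne.2 ⟨hJ', hne⟩)
    refine Nat.find_min hex (hJn ▸ hlt) ⟨J', x * y, rfl, ?_⟩
    rw [hg₀] at hy
    convert hy using 1
    group
  have hSt0 : D.steinbergCharacter F g = D.steinbergCharacter F g₀ := by
    have h := IsIrr.classFun (steinberg_isIrr c (F := F)) g x⁻¹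
    rw [inv_inv, ← hg₀] at h
    exact h.symm
  have hC : Nat.card ↥(Subgroup.centralizer ({g} : Set ↥(D.group F))) =
      Nat.card ↥(Subgroup.centralizer ({g₀} : Set ↥(D.group F))) := by
    refine Nat.card_congr (Equiv.subtypeEquiv (MulAut.conj x⁻¹).toEquiv fun y => ?_)
    show y ∈ Subgroup.centralizer {g} ↔ x⁻¹ * y * x⁻¹⁻¹ ∈ Subgroup.centralizer {g₀}
    rw [Subgroup.mem_centralizer_singleton_iff, Subgroup.mem_centralizer_singleton_iff, hg₀]
    constructor
    · intro h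
      calc x⁻¹ * y * x⁻¹⁻¹ * (x⁻¹ * g * x) = x⁻¹ * (y * g) * x := by group
        _ = x⁻¹ * (g * y) * x := by rw [h]
        _ = _ := by group
    · intro h
      calc y * g = x * (x⁻¹ * y * x⁻¹⁻¹ * (x⁻¹ * g * x)) * x⁻¹ := by group
        _ = x * (x⁻¹ * g * x * (x⁻¹ * y * x⁻¹⁻¹)) * x⁻¹ := by rw [h]
        _ = g * y := by group
  have hord : ¬ p ∣ orderOf g₀ := by
    rwa [hg₀, show x⁻¹ * g * x = MulAut.conj x⁻¹ g by simp, MulEquiv.orderOf_eq]
  rw [hSt0, hC]
  obtain ⟨w, a, k, hN, ha, hmax, hSt⟩ := stBN_levi (c.bnPair F) J hx hmin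
  rw [← steinbergCharacter_eq c] at hSt
  -- the fixed points are the centralizer in the radical
  haveI := rad_normal c J
  obtain ⟨Q, hQ⟩ := exists_sylow_U c p (F := F)
  have hradp : IsPGroup p (rad c J) := by
    have hU : IsPGroup p ((D.posUnipotent F).subgroupOf (D.group F)) := hQ ▸ Q.isPGroup'
    refine IsPGroup.of_injective hU
      { toFun := fun z => ⟨((z : ↥(PJ (c.bnPair F) J)) : ↥(D.group F)), radical_le_U c _ z.2⟩
        map_one' := rfl
        map_mul' := fun _ _ => rfl } fun z z' h => ?_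
    exact Subtype.ext (Subtype.ext (congrArg Subtype.val h :))
  have hsolv : Group.IsSolvable (rad c J) := by
    haveI := hradp.isNilpotent
    infer_instance
  have hcop : (Nat.card (rad c J)).Coprime (orderOf (⟨g₀, hx⟩ : ↥(PJ (c.bnPair F) J))) := by
    obtain ⟨e, he⟩ := IsPGroup.iff_card.1 hradp
    rw [he, Subgroup.orderOf_mk]
    exact Nat.Coprime.pow_left e ((hp.coprime_iff_not_dvd).2 hord)
  rw [card_fixed_complement (rad c J) (MJ (c.bnPair F) J w) hsolv (rad_sup c J hN)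
    (rad_inf c J hN ha hmax) _ hcop] at hSt
  obtain ⟨N, hNdef⟩ : ∃ N, N = Nat.card
    {u : rad c J // Commute (u : ↥(PJ (c.bnPair F) J)) (⟨g₀, hx⟩ : ↥(PJ (c.bnPair F) J))} := ⟨_, rfl⟩
  rw [← hNdef] at hSt
  have hCpos : Nat.card ↥(Subgroup.centralizer ({g₀} : Set ↥(D.group F))) ≠ 0 := Nat.card_pos.ne'
  obtain ⟨e, he⟩ : ∃ e,
      e = (Nat.card ↥(Subgroup.centralizer ({g₀} : Set ↥(D.group F)))).factorization p := ⟨_, rfl⟩
  rw [← he]
  -- it divides the `p`-part
  have h1 : N ∣ p ^ e := by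
    obtain ⟨C₀, hC₀⟩ : ∃ C₀ : Subgroup ↥(D.group F),
        C₀ = (rad c J).map (PJ (c.bnPair F) J).subtype ⊓ Subgroup.centralizer {g₀} := ⟨_, rfl⟩
    have hcard : Nat.card C₀ = N := by
      rw [hNdef]
      refine (Nat.card_eq_of_bijective
        (fun u : {u : rad c J // Commute (u : ↥(PJ (c.bnPair F) J)) (⟨g₀, hx⟩ : ↥(PJ (c.bnPair F) J))} =>
          (⟨((u.1 : ↥(PJ (c.bnPair F) J)) : ↥(D.group F)), hC₀ ▸ ⟨⟨u.1, u.1.2, rfl⟩,
            Subgroup.mem_centralizer_singleton_iff.2 (congrArg Subtype.val u.2.eq :)⟩⟩ : C₀))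
        ⟨fun u v h => ?_, fun z => ?_⟩).symm
      · exact Subtype.ext (Subtype.ext (Subtype.ext (congrArg Subtype.val h :)))
      · obtain ⟨z, hz⟩ := z
        obtain ⟨⟨u, hu, rfl⟩, hz2⟩ := (hC₀ ▸ hz : z ∈ _ ⊓ _)
        exact ⟨⟨⟨u, hu⟩, Subtype.ext (Subgroup.mem_centralizer_singleton_iff.1 hz2)⟩, rfl⟩
    have hp' : IsPGroup p C₀ := (hradp.map (PJ (c.bnPair F) J).subtype).to_le (hC₀ ▸ inf_le_left)
    obtain ⟨i, hi⟩ := IsPGroup.iff_card.1 hp'
    have hdvd : Nat.card C₀ ∣ Nat.card ↥(Subgroup.centralizer ({g₀} : Set ↥(D.group F))) :=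
      Subgroup.card_dvd_of_le (hC₀ ▸ inf_le_right)
    rw [hi] at hdvd
    rw [← hcard, hi]
    exact Nat.pow_dvd_pow p (he ▸ (hp.pow_dvd_iff_le_factorization hCpos).1 hdvd)
  -- and is divisible by it
  have h2 : (p ^ e : ℕ) ∣ N := by
    let C := Subgroup.centralizer ({g₀} : Set ↥(D.group F))
    obtain ⟨S'⟩ : Nonempty (Sylow p C) := inferInstance
    obtain ⟨S, hS⟩ : ∃ S : Subgroup ↥(D.group F), S = (S' : Subgroup C).map C.subtype := ⟨_, rfl⟩
    haveI := Fintype.ofFinite S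
    have hScard : Nat.card S = p ^ e := by
      rw [hS, Subgroup.card_map_of_injective C.subtype_injective, he,
        Sylow.card_eq_multiplicity S']
    have hScomm : ∀ s ∈ S, Commute s g₀ := by
      intro s hs
      rw [hS] at hs
      obtain ⟨y, -, rfl⟩ := hs
      exact Subgroup.mem_centralizer_singleton_iff.1 y.2
    let z : ℤ := ∑ K ∈ (Finset.range D.rank).powerset, (-1 : ℤ) ^ K.card *
      ((∑ s : S, Nat.card (MulAction.fixedBy (↥(D.group F) ⧸ D.parabolicIn F K)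
        (g₀ * (s : ↥(D.group F)))) : ℕ) : ℤ)
    have hz : (z : ℂ) = ∑ s : S, D.steinbergCharacter F (g₀ * (s : ↥(D.group F))) := by
      simp only [z, ChevalleyDatum.steinbergCharacter, fixedPointCharacter]
      push_cast
      rw [Finset.sum_comm]
      exact Finset.sum_congr rfl fun K _ => Finset.mul_sum _ _ _
    have hvan : ∀ s : S, s ≠ 1 →
        D.steinbergCharacter F (g₀ * (s : ↥(D.group F))) = 0 := by
      intro s hs
      obtain ⟨M, hM⟩ := Cfsg.Agent.Char.exists_isPModular p hp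
      refine Cfsg.Agent.Block.defectZero_vanish hM
        (⟨D.steinbergCharacter F, steinberg_isIrr c⟩ : Cfsg.IrrCharacter ↥(D.group F)) ?_ ?_
      · show (⌊(D.steinbergCharacter F 1).re⌋₊).factorization p = _
        rw [steinberg_one c, ← Nat.cast_pow, Complex.natCast_re, Nat.floor_natCast,
          ← factorization_card c p (F := F), hp.factorization_pow, Finsupp.single_eq_same]
      · obtain ⟨i, hi⟩ := IsPGroup.iff_orderOf.1 (IsPGroup.of_card hScard) s
        have hi0 : i ≠ 0 := by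
          rintro rfl
          rw [pow_zero, orderOf_eq_one_iff] at hi
          exact hs hi
        rw [← Subgroup.orderOf_coe] at hi
        have hco : (orderOf g₀).Coprime (orderOf (s : ↥(D.group F))) := by
          rw [hi]
          exact Nat.Coprime.pow_right i ((hp.coprime_iff_not_dvd).2 hord).symm
        rw [(hScomm s s.2).symm.orderOf_mul_eq_mul_orderOf_of_coprime hco, hi]
        exact Dvd.dvd.mul_left (dvd_pow_self p hi0) _
    rw [Finset.sum_eq_single (1 : S) (fun s _ hs => hvan s hs)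
      (fun h => absurd (Finset.mem_univ _) h), Subgroup.coe_one, mul_one, hSt] at hz
    have hdvd : ((p ^ e : ℕ) : ℤ) ∣ z := by
      refine Finset.dvd_sum fun K _ => Dvd.dvd.mul_left (Int.natCast_dvd_natCast.2 ?_) _
      rw [← hScard]
      exact card_dvd_sum_fixed g₀ S hScomm
    have hzN : z = (-1 : ℤ) ^ k * (N : ℤ) := by exact_mod_cast hz
    rw [hzN] at hdvd
    have h3 : ((p ^ e : ℕ) : ℤ) ∣ (-1 : ℤ) ^ k * ((-1 : ℤ) ^ k * (N : ℤ)) := Dvd.dvd.mul_left hdvd _
    rw [← mul_assoc, ← pow_add, (Even.add_self k).neg_one_pow, one_mul] at h3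
    exact Int.natCast_dvd_natCast.1 h3
  rw [hSt, Nat.dvd_antisymm h1 h2]
  rcases neg_one_pow_eq_or ℂ k with h | h
  · exact Or.inl (by rw [h, one_mul])
  · exact Or.inr (by rw [h, neg_one_mul])

end Cfsg.Agent.Char.StVal
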