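import Cfsg.Agent.Lib.Char.MajorContrib
import Cfsg.Agent.Lib.Char.SectionNonvanish

/-!
A character of height zero at an arbitrary subsection: the contributions, scaled by the defect of
the subsection, are units.
-/

open scoped ComplexConjugate

namespace Cfsg.Agent.Char.Spec

open Cfsg.Agent.Block Cfsg.Agent.Char.BP

set_option linter.unusedSectionVars false
set_option linter.style.haveILetI false
set_option maxHeartbeats 800000

universe u

variable {G : Type u} [Group G] [Fintype G] {p : ℕ} {M : Ideal AlgInt}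
variable {B : Set (IrrCharacter G)}

/-- An element fixed by a defect group is evaluated proportionally to the reduced degrees. -/
theorem exists_value_factor [Fact p.Prime] (hM : IsPModular p M) {H : Type u} [Group H] [Fintype H]
    {b : Set (IrrCharacter H)} (hb : IsPBlock M b) {Q : Subgroup H}
    (hQ : Nat.card Q = p ^ blockDefect p b) {a : H → ℂ} (ha : ∀ h, MemLocalRing M (a h))
    (hinv : ∀ u ∈ Q, ∀ h, a (u * h * u⁻¹) = a h) :
    ∃ ω : ℂ, MemLocalRing M ω ∧ ∀ ξ ∈ b, MemLocalIdeal M ((∑ h : H, a h * (ξ : H → ℂ) h) -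
      ω * (((charDegree (ξ : H → ℂ) * p ^ blockDefect p b : ℕ) : ℂ) / (Nat.card H : ℂ))) := by
  classical
  have hp : p.Prime := Fact.out
  letI := Fintype.ofFinite (H ⧸ Q)
  set A : H → ℂ := fun h => ∑ t : H ⧸ Q, a (t.out⁻¹ * h * t.out) with hA
  have hcf : IsClassFunction H A := by
    intro g u
    refine Fintype.sum_equiv (MulAction.toPerm u⁻¹) _ _ fun t => ?_
    obtain ⟨c, hc⟩ := QuotientGroup.mk_out_eq_mul Q (u⁻¹ * t.out)
    have e : MulAction.toPerm u⁻¹ t = ((u⁻¹ * t.out : H) : H ⧸ Q) := by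
      conv_lhs => rw [← QuotientGroup.out_eq' t]
      rfl
    rw [e, hc]
    have h := hinv (c : H)⁻¹ (inv_mem c.2) ((u⁻¹ * t.out)⁻¹ * g * (u⁻¹ * t.out))
    rw [inv_inv] at h
    calc a (t.out⁻¹ * (u * g * u⁻¹) * t.out)
        = a ((u⁻¹ * t.out)⁻¹ * g * (u⁻¹ * t.out)) := by congr 1; group
      _ = _ := by rw [← h]; congr 1; group
  set F : IrrCharacter H → ℂ := fun ξ => omegaFun ξ A with hF
  have hFI : CenInt M F := fun h => by
    rw [hF, coeffFun_omegaFun hcf]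
    exact ring_sum hM fun t _ => ha _
  obtain ⟨ξ₀, hξ₀⟩ := pblock_nonempty hM hb
  refine ⟨F ξ₀, hFI.ring hM ξ₀, fun ξ hξ => ?_⟩
  set v : ℂ := ((charDegree (ξ : H → ℂ) * p ^ blockDefect p b : ℕ) : ℂ) / (Nat.card H : ℂ) with hv
  have hsum : ∑ h : H, a h * (ξ : H → ℂ) h = F ξ * v := by
    have h1 : ∑ h : H, A h * (ξ : H → ℂ) h = (Q.index : ℂ) * ∑ h : H, a h * (ξ : H → ℂ) h := by
      simp only [hA, Finset.sum_mul]
      rw [Finset.sum_comm]
      have h2 : ∀ t : H ⧸ Q, ∑ h : H, a (t.out⁻¹ * h * t.out) * (ξ : H → ℂ) h =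
          ∑ h : H, a h * (ξ : H → ℂ) h := fun t => by
        refine Fintype.sum_equiv (MulAut.conj t.out⁻¹).toEquiv _ _ fun h => ?_
        simp only [MulEquiv.toEquiv_eq_coe, MulEquiv.coe_toEquiv, MulAut.conj_apply]
        rw [irr_classFun ξ h t.out⁻¹, inv_inv]
      rw [Finset.sum_congr rfl fun t _ => h2 t, Finset.sum_const, nsmul_eq_mul, Finset.card_univ,
        ← Nat.card_eq_fintype_card, Subgroup.index_eq_card]
    simp only [hF, omegaFun, h1, hv]
    rw [← Subgroup.index_mul_card Q, hQ]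
    push_cast
    rw [← charDeg_spec']
    have h4 : ((Q.index : ℕ) : ℂ) ≠ 0 := Nat.cast_ne_zero.2 Subgroup.index_ne_zero_of_finite
    have h5 := irr_one_ne_zero ξ
    have h6 : (p : ℂ) ≠ 0 := Nat.cast_ne_zero.2 hp.ne_zero
    field_simp
  rw [hsum, ← sub_mul]
  refine ideal_mul_right hM (hFI.congr_block hM (pblock_sameBlock hM hb hξ hξ₀)) ?_
  refine ring_natDiv hM Nat.card_pos.ne'
    (Nat.mul_ne_zero (charDeg_pos ξ).ne' (pow_ne_zero _ hp.ne_zero)) ?_
  rw [Nat.factorization_mul (charDeg_pos ξ).ne' (pow_ne_zero _ hp.ne_zero), Finsupp.add_apply,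
    Nat.Prime.factorization_pow hp, Finsupp.single_eq_same, add_comm]
  exact le_defect_add hM hb hξ

/-- The section of a character of height zero has reduced degree a unit. -/
theorem section_unit [Fact p.Prime] (hM : IsPModular p M) {χ : IrrCharacter G}
    {a : BrauerPairIdx G} {x : G} (hx : ∃ k, orderOf x = p ^ k) (hax : a.1 = Subgroup.zpowers x)
    (haB : OfB p M B a) (hχ : χ ∈ B) (h0 : blockHeight p B (χ : G → ℂ) = 0) :
    ¬ MemLocalIdeal M ((p : ℂ) ^ blockDefect p a.2 * sct (χ : G → ℂ) a x 1 /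
      (Nat.card (CG a.1) : ℂ)) := by
  classical
  have hB := haB.2.1
  obtain ⟨P, hD⟩ := exists_isDefectGroup hM hB
  obtain ⟨i, e, hi, hmx, hu, htop⟩ := exists_source hM hB hχ h0 hD
  obtain ⟨l, hl⟩ := le_conj_max hM haB hmx
  obtain ⟨g, hg, hdef⟩ := exists_conj_fully hM hmx hl
  rw [cjI_cjI] at hg hdef
  set m := g * l with hm
  set a' := cjI m a with ha'
  set y := m * x * m⁻¹ with hy
  have hay : a'.1 = Subgroup.zpowers y := by
    show a.1.map (MulAut.conj m).toMonoidHom = _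
    rw [hax, MonoidHom.map_zpowers]
    rfl
  have hyP : y ∈ P := le_subgroup hg (hay ▸ Subgroup.mem_zpowers y)
  obtain ⟨k, hk⟩ := pPow_of_mem (p := p) hmx.1.1.1 hyP
  have hne := not_brEq_zero hM hmx.1.1.1 (irr_isChar χ) hi.1 hu
  have hloc : BrEq M a'.1 (i * pz a') i := source_local hM hmx.1.1 hi hne htop hg
  have hpr : IsPr p M a' := le_isPr hg hmx.1.1
  letI := Fintype.ofFinite (CG a'.1)
  obtain ⟨j, hj, hjj, hzj, hij⟩ :=
    exists_idem_centralizer hM hpr (hi.1.mono (le_subgroup hg)) hi.2.1 hloc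
  have hunit : ¬ MemLocalIdeal M (ev (χ : G → ℂ) (MonoidAlgebra.single y (1 : ℂ) * i)) := by
    have h1 := (ideal_coe_iff hM _).2
      (IsChar.sub_degree_mem (isCharacter_cut (irr_isChar χ) hi.2.1 hi.1.2) hM
        (g := (⟨y, hyP⟩ : P)) ⟨k, by rw [Subgroup.orderOf_mk, hk]⟩)
    have h2 : MemLocalIdeal M (ev (χ : G → ℂ) (MonoidAlgebra.single y (1 : ℂ) * i) -
        ev (χ : G → ℂ) i) := by
      simpa [← MonoidAlgebra.one_def] using h1
    rwa [ideal_congr hM h2]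
  obtain ⟨c, hcint, hc⟩ := exists_sct_coef (irr_isChar χ) (a := a') (self_mem_cg hay)
    (hay ▸ Subgroup.mem_zpowers y)
  have hev : ev (χ : G → ℂ) (MonoidAlgebra.single y (1 : ℂ) * i) =
      ∑ w : CG a'.1, j.coeff w * sct (χ : G → ℂ) a' y (w : G) := by
    rw [ev_centralizer hM hpr hay hk (hi.1.mono (le_subgroup hg)) hi.2.1 hj hjj hij
      (irr_classFun χ)]
    show ev (fun c : CG a'.1 => (χ : G → ℂ) (y * (c : G))) j = _
    conv_lhs => rw [← hzj, ev_algOf_mul]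
    refine Finset.sum_congr rfl fun w _ => ?_
    congr 1
    rw [sct_eq_sub]
    simp only [Subgroup.coe_mul, mul_assoc]
  set Q := (P ⊓ CG a'.1).subgroupOf (CG a'.1) with hQ
  have hQc : Nat.card Q = p ^ blockDefect p a'.2 := card_defectGroup hM hpr.2 hdef
  obtain ⟨ω, hω, hval⟩ := exists_value_factor hM hpr.2 hQc
    (a := fun w : CG a'.1 => i.coeff (w : G)) (fun w => hi.1.1 _)
    (fun u hu w => (fx_iff.1 hi.1).2 (u : G) (Subgroup.mem_subgroupOf.1 hu).1 (w : G))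
  set U : IrrCharacter (CG a'.1) → ℂ := fun ξ =>
    ((charDegree (ξ : CG a'.1 → ℂ) * p ^ blockDefect p a'.2 : ℕ) : ℂ) /
      (Nat.card (CG a'.1) : ℂ) with hU
  have hL : ∑ ξ ∈ Finset.univ.filter (· ∈ a'.2), c ξ * U ξ =
      (p : ℂ) ^ blockDefect p a.2 * sct (χ : G → ℂ) a x 1 / (Nat.card (CG a.1) : ℂ) := by
    have h1 : sct (χ : G → ℂ) a' y 1 = sct (χ : G → ℂ) a x 1 := by
      have h := sct_conj (irr_classFun χ) a m x 1
      rwa [mul_one, mul_inv_cancel] at h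
    have h2 : Nat.card (CG a'.1) = Nat.card (CG a.1) :=
      (Nat.card_congr (conjIso m (cg_map_conj m a.1)).toEquiv).symm
    rw [← h1, show ((1 : G)) = ((1 : CG a'.1) : G) from rfl, hc, Finset.mul_sum, Finset.sum_div]
    refine Finset.sum_congr rfl fun ξ _ => ?_
    simp only [hU, h2]
    rw [show blockDefect p a'.2 = blockDefect p a.2 from blockDefect_cjI m a, Nat.cast_mul,
      ← charDeg_spec', Nat.cast_pow]
    ring
  rw [← hL]
  intro hbad
  refine hunit ?_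
  rw [hev]
  have hA : MemLocalIdeal M ((∑ w : CG a'.1, j.coeff w * sct (χ : G → ℂ) a' y (w : G)) -
      ∑ w : CG a'.1, i.coeff (w : G) * sct (χ : G → ℂ) a' y (w : G)) := by
    rw [← Finset.sum_sub_distrib]
    refine ideal_sum hM fun w _ => ?_
    rw [← sub_mul]
    refine ideal_mul_right hM (hij w) ?_
    rw [hc]
    exact ring_sum hM fun ξ _ => ring_mul hM (ring_of_integral hM (hcint ξ)) (irr_ring hM ξ w)
  have hBd : MemLocalIdeal M ((∑ w : CG a'.1, i.coeff (w : G) * sct (χ : G → ℂ) a' y (w : G)) -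
      ω * ∑ ξ ∈ Finset.univ.filter (· ∈ a'.2), c ξ * U ξ) := by
    simp only [hc, Finset.mul_sum]
    rw [Finset.sum_comm, ← Finset.sum_sub_distrib]
    refine ideal_sum hM fun ξ hξ => ?_
    have h := ideal_mul_left hM (ring_of_integral hM (hcint ξ))
      (hval ξ (Finset.mem_filter.1 hξ).2)
    rw [mul_sub, Finset.mul_sum] at h
    convert h using 2
    · exact Finset.sum_congr rfl fun w _ => by ring
    · ring
  have h := ideal_add hM (ideal_add hM hA hBd) (ideal_mul_left hM hω hbad)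
  convert h using 1
  ring

/-- The contributions at a subsection, scaled by its own defect: integral, units for height zero. -/
theorem contrib_sub [Fact p.Prime] (hM : IsPModular p M) {a : BrauerPairIdx G} {y : G}
    (hy : ∃ k, orderOf y = p ^ k) (hay : a.1 = Subgroup.zpowers y) (haB : OfB p M B a)
    (χ η : IrrCharacter G) :
    IsIntegral ℤ (contrib p (blockDefect p a.2) a y χ η) ∧
      (χ ∈ B → η ∈ B → blockHeight p B (χ : G → ℂ) = 0 → blockHeight p B (η : G → ℂ) = 0 →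
        ¬ MemLocalIdeal M (contrib p (blockDefect p a.2) a y χ η)) := by
  classical
  have hp : p.Prime := Fact.out
  letI := Fintype.ofFinite (CG a.1)
  set A := Finset.univ.filter (· ∈ a.2) with hA
  set C := (Nat.card (CG a.1) : ℂ) with hC
  have hC0 : C ≠ 0 := Nat.cast_ne_zero.2 Nat.card_pos.ne'
  have hb := haB.1.2
  set z : CG a.1 := ⟨y, self_mem_cg hay⟩ with hz
  have hza : (z : G) ∈ a.1 := (SetLike.ext_iff.1 hay y).2 (Subgroup.mem_zpowers y)
  have hzc : z ∈ Subgroup.center (CG a.1) := Subgroup.mem_center_iff.mpr fun t =>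
    Subtype.ext (Subgroup.mem_centralizer_iff.1 t.2 y hza).symm
  obtain ⟨k, hk⟩ := hy
  have hzp : ∃ k, orderOf z = p ^ k := ⟨k, by rw [← hk, ← Subgroup.orderOf_coe]⟩
  obtain ⟨m, hm⟩ := exists_sct_mult (irr_isChar χ) a
  obtain ⟨m', hm'⟩ := exists_sct_mult (irr_isChar η) a
  set c : IrrCharacter (CG a.1) → ℂ := fun ξ => (m ξ : ℂ) * centralChar (ξ : CG a.1 → ℂ) z with hc
  set c' : IrrCharacter (CG a.1) → ℂ :=
    fun ξ => (m' ξ : ℂ) * centralChar (ξ : CG a.1 → ℂ) z with hc'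
  obtain ⟨w, hw, hsym, -, -, hdvd⟩ := Contrib.exists_regMatrix hM hb
  have hval : contrib p (blockDefect p a.2) a y χ η =
      ∑ ξ ∈ A, ∑ ξ' ∈ A, c ξ * conj (c' ξ') * (w ξ ξ' : ℂ) := by
    have h1 : ∀ v : CG a.1, ¬ p ∣ orderOf v → sct (χ : G → ℂ) a y (v : G) =
        ∑ ξ ∈ A, c ξ * (ξ : CG a.1 → ℂ) v := fun v _ => hm z hza v
    have h2 : ∀ v : CG a.1, ¬ p ∣ orderOf v → sct (η : G → ℂ) a y (v : G) =
        ∑ ξ ∈ A, c' ξ * (ξ : CG a.1 → ℂ) v := fun v _ => hm' z hza v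
    rw [contrib, secT, sum_regs_eq_regSum a.1 _ _ _ _ h1 h2, regSum_eq_sum, ← hC, div_eq_iff hC0]
    simp only [Finset.sum_mul, map_sum, map_mul, Finset.mul_sum]
    rw [Finset.sum_comm]
    conv_lhs => enter [2, ξ]; rw [Finset.sum_comm]
    rw [Finset.sum_comm]
    refine Finset.sum_congr rfl fun ξ hξ => Finset.sum_congr rfl fun ξ' hξ' => ?_
    have h3 := hw ξ (Finset.mem_filter.1 hξ).2 ξ' (Finset.mem_filter.1 hξ').2
    rw [mul_assoc (c ξ * conj (c' ξ')), mul_comm (w ξ ξ' : ℂ) C, hC, ← h3, regSum_eq_sum,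
      Finset.sum_mul, Finset.mul_sum]
    exact Finset.sum_congr rfl fun v _ => by ring
  have hint : ∀ ξ, IsIntegral ℤ (c ξ) ∧ IsIntegral ℤ (c' ξ) := fun ξ =>
    ⟨IsIntegral.mul (by simpa using isIntegral_algebraMap (R := ℤ) (A := ℂ) (x := (m ξ : ℤ)))
      (centralChar_isIntegral ξ z),
    IsIntegral.mul (by simpa using isIntegral_algebraMap (R := ℤ) (A := ℂ) (x := (m' ξ : ℤ)))
      (centralChar_isIntegral ξ z)⟩
  refine ⟨?_, fun hχ hη h0 h0' hi => ?_⟩
  · rw [hval]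
    exact IsIntegral.sum _ fun ξ _ => IsIntegral.sum _ fun ξ' _ =>
      ((hint ξ).1.mul (isIntegral_conj (hint ξ').2)).mul
        (by simpa using isIntegral_algebraMap (R := ℤ) (A := ℂ) (x := w ξ ξ'))
  -- modulo the ideal the pairing has rank one
  obtain ⟨ξ₀, hξ₀, h00⟩ := exists_height_zero hM hb
  set u : IrrCharacter (CG a.1) → ℂ := fun ξ =>
    ((charDegree (ξ : CG a.1 → ℂ) * p ^ blockDefect p a.2 : ℕ) : ℂ) / C with hu
  have hufac : ∀ ξ ∈ a.2, (Nat.card (CG a.1)).factorization p ≤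
      (charDegree (ξ : CG a.1 → ℂ) * p ^ blockDefect p a.2).factorization p := fun ξ hξ => by
    rw [Nat.factorization_mul (charDeg_pos ξ).ne' (pow_ne_zero _ hp.ne_zero), Finsupp.add_apply,
      Nat.Prime.factorization_pow hp, Finsupp.single_eq_same, add_comm]
    exact le_defect_add hM hb hξ
  have hur : ∀ ξ ∈ a.2, MemLocalRing M (u ξ) := fun ξ hξ => ring_natDiv hM Nat.card_pos.ne'
    (Nat.mul_ne_zero (charDeg_pos ξ).ne' (pow_ne_zero _ hp.ne_zero)) (hufac ξ hξ)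
  set r := regPair p ξ₀ ξ₀ with hr
  have hrr : MemLocalRing M r := (cenInt_regPair hM ξ₀).ring hM ξ₀
  have hwu : ∀ ξ ∈ a.2, ∀ ξ' ∈ a.2, (w ξ ξ' : ℂ) = regPair p ξ' ξ * u ξ := fun ξ hξ ξ' hξ' => by
    have h3 := hw ξ hξ ξ' hξ'
    simp only [regPair, hu]
    rw [Nat.cast_mul, ← charDeg_spec', Nat.cast_pow]
    have h5 := irr_one_ne_zero ξ
    rw [← hC] at h3
    field_simp
    linear_combination -h3
  have hpc : ∀ ξ ∈ a.2, ∀ ξ' ∈ a.2,
      MemLocalIdeal M (regPair p ξ' ξ - regPair p ξ' ξ₀) := fun ξ hξ ξ' _ =>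
    (cenInt_regPair hM ξ').congr_block hM (pblock_sameBlock hM hb hξ hξ₀)
  have hrank : ∀ ξ ∈ a.2, ∀ ξ' ∈ a.2,
      MemLocalIdeal M ((w ξ ξ' : ℂ) * u ξ₀ - r * (u ξ * u ξ')) := by
    intro ξ hξ ξ' hξ'
    have e1 : (w ξ ξ' : ℂ) * u ξ₀ - r * (u ξ * u ξ') =
        (regPair p ξ' ξ - regPair p ξ' ξ₀) * (u ξ * u ξ₀) +
        (regPair p ξ₀ ξ' - regPair p ξ₀ ξ₀) * (u ξ * u ξ') := by
      have h4 := hwu ξ₀ hξ₀ ξ' hξ'
      rw [hsym ξ₀ hξ₀ ξ' hξ', hwu ξ' hξ' ξ₀ hξ₀] at h4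
      rw [hwu ξ hξ ξ' hξ']
      linear_combination -(u ξ) * h4
    rw [e1]
    exact ideal_add hM
      (ideal_mul_right hM (hpc ξ hξ ξ' hξ') (ring_mul hM (hur ξ hξ) (hur ξ₀ hξ₀)))
      (ideal_mul_right hM (hpc ξ' hξ' ξ₀ hξ₀) (ring_mul hM (hur ξ hξ) (hur ξ' hξ')))
  have hL : ∀ (μ : IrrCharacter G) (mm : IrrCharacter (CG a.1) → ℕ),
      (∀ (z : CG a.1), (z : G) ∈ a.1 → ∀ v : CG a.1, sct (μ : G → ℂ) a (z : G) (v : G) =
        ∑ ξ ∈ A, ((mm ξ : ℂ) * centralChar (ξ : CG a.1 → ℂ) z) * (ξ : CG a.1 → ℂ) v) →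
      μ ∈ B → blockHeight p B (μ : G → ℂ) = 0 →
      ¬ MemLocalIdeal M (∑ ξ ∈ A, (mm ξ : ℂ) * centralChar (ξ : CG a.1 → ℂ) z * u ξ) ∧
      ¬ MemLocalIdeal M (∑ ξ ∈ A, conj ((mm ξ : ℂ) * centralChar (ξ : CG a.1 → ℂ) z) * u ξ) := by
    intro μ mm hmm hμ hμ0
    have hnot := section_unit hM ⟨k, hk⟩ hay haB hμ hμ0
    have h1 : (p : ℂ) ^ blockDefect p a.2 * sct (μ : G → ℂ) a y 1 / C =
        ∑ ξ ∈ A, (mm ξ : ℂ) * centralChar (ξ : CG a.1 → ℂ) z * u ξ := by
      have h := hmm z hza 1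
      rw [OneMemClass.coe_one] at h
      rw [show sct (μ : G → ℂ) a y 1 = sct (μ : G → ℂ) a (z : G) 1 from rfl, h, Finset.mul_sum,
        Finset.sum_div]
      refine Finset.sum_congr rfl fun ξ _ => ?_
      simp only [hu]
      rw [Nat.cast_mul, ← charDeg_spec', Nat.cast_pow]
      ring
    rw [← hC, h1] at hnot
    refine ⟨hnot, fun hi => hnot ((ideal_congr hM ?_).1 hi)⟩
    rw [← Finset.sum_sub_distrib]
    refine ideal_sum hM fun ξ hξ => ?_
    have hone := centralChar_sub_one hM ξ hzc hzp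
    have hi' : z⁻¹ ∈ Subgroup.center (CG a.1) := inv_mem hzc
    have e : conj (centralChar (ξ : CG a.1 → ℂ) z) = centralChar (ξ : CG a.1 → ℂ) z⁻¹ := by
      refine mul_right_cancel₀ (irr_one_ne_zero ξ) ?_
      rw [← centralChar_of_center hi', mul_one, irr_apply_inv,
        ← mul_one z, centralChar_of_center hzc, map_mul, mul_one, charDeg_spec', map_natCast]
    obtain ⟨k', hk'⟩ := hzp
    have hconj : MemLocalIdeal M (conj (centralChar (ξ : CG a.1 → ℂ) z) - 1) := by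
      rw [e]
      exact centralChar_sub_one hM ξ hi' ⟨k', by rw [orderOf_inv, hk']⟩
    rw [map_mul, map_natCast, show (mm ξ : ℂ) * conj (centralChar (ξ : CG a.1 → ℂ) z) * u ξ -
      (mm ξ : ℂ) * centralChar (ξ : CG a.1 → ℂ) z * u ξ =
      ((conj (centralChar (ξ : CG a.1 → ℂ) z) - 1) - (centralChar (ξ : CG a.1 → ℂ) z - 1)) *
        ((mm ξ : ℂ) * u ξ) by ring]
    exact ideal_mul_right hM (ideal_sub hM hconj hone)
      (ring_mul hM (ring_natCast hM _) (hur ξ (Finset.mem_filter.1 hξ).2))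
  have hcr : ∀ ξ, MemLocalRing M (c ξ) ∧ MemLocalRing M (conj (c' ξ)) := fun ξ =>
    ⟨ring_of_integral hM (hint ξ).1, ring_of_integral hM (isIntegral_conj (hint ξ).2)⟩
  have hfinal : MemLocalIdeal M (contrib p (blockDefect p a.2) a y χ η * u ξ₀ -
      r * ((∑ ξ ∈ A, c ξ * u ξ) * (∑ ξ ∈ A, conj (c' ξ) * u ξ))) := by
    have e : contrib p (blockDefect p a.2) a y χ η * u ξ₀ -
        r * ((∑ ξ ∈ A, c ξ * u ξ) * (∑ ξ ∈ A, conj (c' ξ) * u ξ)) =
        ∑ ξ ∈ A, ∑ ξ' ∈ A, c ξ * conj (c' ξ') * ((w ξ ξ' : ℂ) * u ξ₀ - r * (u ξ * u ξ')) := by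
      rw [hval, Finset.sum_mul_sum]
      simp only [Finset.sum_mul, Finset.mul_sum, ← Finset.sum_sub_distrib]
      exact Finset.sum_congr rfl fun ξ _ => Finset.sum_congr rfl fun ξ' _ => by ring
    rw [e]
    exact ideal_sum hM fun ξ hξ => ideal_sum hM fun ξ' hξ' => ideal_mul_left hM
      (ring_mul hM (hcr ξ).1 (hcr ξ').2)
      (hrank ξ (Finset.mem_filter.1 hξ).2 ξ' (Finset.mem_filter.1 hξ').2)
  have h1 := (hL χ m hm hχ h0).1
  have h2 := (hL η m' hm' hη h0').2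
  have h3 : MemLocalIdeal M (contrib p (blockDefect p a.2) a y χ η * u ξ₀) :=
    ideal_mul_right hM hi (hur ξ₀ hξ₀)
  have h4 : MemLocalIdeal M (r * ((∑ ξ ∈ A, c ξ * u ξ) * (∑ ξ ∈ A, conj (c' ξ) * u ξ))) := by
    simpa using ideal_sub hM h3 hfinal
  have hr1 : MemLocalRing M (∑ ξ ∈ A, c ξ * u ξ) := ring_sum hM fun ξ hξ =>
    ring_mul hM (hcr ξ).1 (hur ξ (Finset.mem_filter.1 hξ).2)
  have hr2 : MemLocalRing M (∑ ξ ∈ A, conj (c' ξ) * u ξ) := ring_sum hM fun ξ hξ =>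
    ring_mul hM (hcr ξ).2 (hur ξ (Finset.mem_filter.1 hξ).2)
  exact ideal_notMem_mul hM hrr (ring_mul hM hr1 hr2) (regPair_unit hM hb hξ₀ hξ₀ h00)
    (ideal_notMem_mul hM hr1 hr2 h1 h2) h4

end Cfsg.Agent.Char.Spec
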