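import Mathlib

/-!
Sylow subgroups of symmetric and alternating groups are generated by elements of order `p`.
-/

set_option autoImplicit false

namespace Cfsg.Agent.Char.SymGen

open Equiv

theorem zmod2_cases : ∀ b : ZMod 2, b = 0 ∨ b = 1 := by decide

theorem zmod2_two : (1 : ZMod 2) + 1 = 0 := by decide

variable (p : ℕ) [Fact p.Prime]

/-- The translations inside blocks. -/
def shift (m : ℕ) : Multiplicative (Fin m → ZMod p) →* Perm (ZMod p × Fin m) where
  toFun f :=
    { toFun := fun x => (x.1 + f.toAdd x.2, x.2)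
      invFun := fun x => (x.1 - f.toAdd x.2, x.2)
      left_inv := fun x => by simp
      right_inv := fun x => by simp }
  map_one' := by ext x <;> simp
  map_mul' := fun f g => by ext x <;> simp [Perm.mul_apply, add_left_comm, add_comm]

/-- The permutations of the blocks. -/
def block (m : ℕ) : Perm (Fin m) →* Perm (ZMod p × Fin m) where
  toFun σ := (Equiv.refl (ZMod p)).prodCongr σ
  map_one' := by ext x <;> rfl
  map_mul' := fun σ τ => by ext x <;> rfl

variable {p}

theorem shift_apply {m : ℕ} (f : Multiplicative (Fin m → ZMod p)) (x : ZMod p × Fin m) :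
    shift p m f x = (x.1 + f.toAdd x.2, x.2) := rfl

theorem block_apply {m : ℕ} (σ : Perm (Fin m)) (x : ZMod p × Fin m) :
    block p m σ x = (x.1, σ x.2) := rfl

theorem block_conj {m : ℕ} (σ : Perm (Fin m)) (f : Multiplicative (Fin m → ZMod p)) :
    block p m σ * shift p m f * (block p m σ)⁻¹ =
      shift p m (Multiplicative.ofAdd fun i => f.toAdd (σ⁻¹ i)) := by
  rw [mul_inv_eq_iff_eq_mul]
  ext x <;> simp [Perm.mul_apply, shift_apply, block_apply]

theorem shift_injective (m : ℕ) : Function.Injective (shift p m) := by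
  intro f g h
  refine Multiplicative.toAdd.injective (funext fun i => ?_)
  simpa [shift_apply] using congrArg Prod.fst (congrArg (fun σ : Perm (ZMod p × Fin m) => σ (0, i)) h)

/-- Generation by elements of order `p`, also of the even part. -/
def Good {α : Type*} [DecidableEq α] [Fintype α] (p : ℕ) (S : Subgroup (Perm α)) : Prop :=
  S ≤ Subgroup.closure {x | x ∈ S ∧ x ^ p = 1} ∧
    ∀ x ∈ S, Perm.sign x = 1 → x ∈ Subgroup.closure {x | x ∈ S ∧ x ^ p = 1 ∧ Perm.sign x = 1}

theorem good_of_odd {α : Type*} [DecidableEq α] [Fintype α] (hp : p ≠ 2) {S : Subgroup (Perm α)}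
    (h : S ≤ Subgroup.closure {x | x ∈ S ∧ x ^ p = 1}) : Good p S := by
  refine ⟨h, fun x hx _ => Subgroup.closure_mono ?_ (h hx)⟩
  rintro y ⟨hy, hyp⟩
  refine ⟨hy, hyp, ?_⟩
  rcases Int.units_eq_one_or (Perm.sign y) with h1 | h1
  · exact h1
  · exfalso
    have hodd : Odd p := (Fact.out : p.Prime).odd_of_ne_two hp
    have h2 := congrArg Perm.sign hyp
    rw [map_pow, map_one, h1, hodd.neg_one_pow] at h2
    exact absurd h2 (by decide)

theorem prime_pow_card_sylow (p : ℕ) [Fact p.Prime] {α : Type*} [Fintype α] [DecidableEq α]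
    (S : Sylow p (Perm α)) :
    Nat.card S = p ^ padicValNat p (Nat.factorial (Fintype.card α)) := by
  rw [S.card_eq_multiplicity, Nat.card_perm, Nat.card_eq_fintype_card,
    Nat.factorization_def _ (Fact.out : p.Prime)]

/-- The Sylow subgroup on `p * m` points. -/
theorem good_mul (m : ℕ) {Q : Sylow p (Perm (Fin m))} (hQ : Good p (Q : Subgroup (Perm (Fin m)))) :
    ∃ S : Subgroup (Perm (ZMod p × Fin m)), Nat.card S = p ^ padicValNat p (Nat.factorial (p * m)) ∧
      Good p S := by
  classical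
  have hp : p.Prime := Fact.out
  haveI : NeZero p := ⟨hp.ne_zero⟩
  set E := (shift p m).range with hE
  set L := (Q : Subgroup (Perm (Fin m))).map (block p m) with hL
  have hnorm : L ≤ Subgroup.normalizer (E : Set (Perm (ZMod p × Fin m))) := by
    rintro _ ⟨σ, -, rfl⟩
    rw [Subgroup.mem_normalizer_iff]
    intro e
    constructor
    · rintro ⟨f, rfl⟩
      exact ⟨_, (block_conj σ f).symm⟩
    · rintro ⟨f, hf⟩
      refine ⟨Multiplicative.ofAdd fun i => f.toAdd (σ⁻¹⁻¹ i), ?_⟩
      rw [← block_conj σ⁻¹ f, hf, map_inv]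
      group
  let g : Multiplicative (Fin m → ZMod p) × (Q : Subgroup (Perm (Fin m))) → ↥(E ⊔ L) := fun q =>
    ⟨shift p m q.1 * block p m q.2, mul_mem (Subgroup.mem_sup_left ⟨_, rfl⟩)
      (Subgroup.mem_sup_right ⟨_, q.2.2, rfl⟩)⟩
  have hdec : ∀ x ∈ E ⊔ L, ∃ f, ∃ σ ∈ (Q : Subgroup (Perm (Fin m))), x = shift p m f * block p m σ := by
    intro x hx
    rw [← SetLike.mem_coe, Subgroup.coe_mul_of_right_le_normalizer_left _ _ hnorm, Set.mem_mul] at hx
    obtain ⟨_, ⟨f, rfl⟩, _, ⟨σ, hσ, rfl⟩, rfl⟩ := hx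
    exact ⟨f, σ, hσ, rfl⟩
  have hg : Function.Bijective g := by
    refine ⟨fun a b h => ?_, fun x => ?_⟩
    · have h' : shift p m a.1 * block p m a.2 = shift p m b.1 * block p m b.2 := congrArg Subtype.val h
      have h2 : (a.2 : Perm (Fin m)) = b.2 := Equiv.ext fun i => by
        simpa [Perm.mul_apply, shift_apply, block_apply] using
          congrArg Prod.snd (congrArg (fun σ : Perm (ZMod p × Fin m) => σ (0, i)) h')
      rw [h2] at h'
      exact Prod.ext (shift_injective m (mul_right_cancel h')) (Subtype.ext h2)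
    · obtain ⟨f, σ, hσ, e⟩ := hdec x x.2
      exact ⟨(f, ⟨σ, hσ⟩), Subtype.ext e.symm⟩
  have hcard : Nat.card ↥(E ⊔ L) = p ^ padicValNat p (Nat.factorial (p * m)) := by
    rw [← Nat.card_eq_of_bijective g hg, Nat.card_prod, prime_pow_card_sylow, padicValNat_factorial_mul,
      Nat.card_congr Multiplicative.toAdd, Nat.card_fun, Nat.card_zmod, Nat.card_eq_fintype_card,
      Fintype.card_fin, ← pow_add, add_comm]
  refine ⟨E ⊔ L, hcard, ?_⟩
  have hsingle : ∀ (i : Fin m) (a : ZMod p),
      (shift p m (Multiplicative.ofAdd (Pi.single i a))) ^ p = 1 := by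
    intro i a
    rw [← map_pow, ← ofAdd_nsmul, show p • (Pi.single i a : Fin m → ZMod p) = 0 by
      funext j; simp, ofAdd_zero, map_one]
  have hgen : E ⊔ L ≤ Subgroup.closure {x | x ∈ E ⊔ L ∧ x ^ p = 1} := by
    refine sup_le ?_ ?_
    · rintro _ ⟨f, rfl⟩
      have hf : f = ∏ i : Fin m, Multiplicative.ofAdd (Pi.single i (f.toAdd i)) := by
        rw [← ofAdd_sum, Finset.univ_sum_single]; rfl
      show f ∈ (Subgroup.closure {x | x ∈ E ⊔ L ∧ x ^ p = 1}).comap (shift p m)
      rw [hf]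
      refine Subgroup.prod_mem _ fun i _ =>
        Subgroup.subset_closure ⟨Subgroup.mem_sup_left ⟨_, rfl⟩, hsingle i _⟩
    · have : L ≤ (Subgroup.closure {x | x ∈ (Q : Subgroup (Perm (Fin m))) ∧ x ^ p = 1}).map (block p m) :=
        Subgroup.map_mono hQ.1
      refine this.trans ?_
      rw [MonoidHom.map_closure]
      refine Subgroup.closure_mono ?_
      rintro _ ⟨σ, ⟨hσ, hσp⟩, rfl⟩
      exact ⟨Subgroup.mem_sup_right ⟨σ, hσ, rfl⟩, by rw [← map_pow, hσp, map_one]⟩
  by_cases hp2 : p = 2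
  swap
  · exact good_of_odd hp2 hgen
  subst hp2
  have hblock : ∀ σ : Perm (Fin m), Perm.sign (block 2 m σ) = 1 := fun σ => by
    show Perm.sign ((Equiv.refl (ZMod 2)).prodCongr σ) = 1
    rw [show ((Equiv.refl (ZMod 2)).prodCongr σ) = Equiv.prodCongrRight (fun _ : ZMod 2 => σ) from rfl,
      Perm.sign_prodCongrRight]
    simp [Int.units_sq, pow_two]
  have hone : ∀ i : Fin m, Perm.sign (shift 2 m (Multiplicative.ofAdd (Pi.single i (1 : ZMod 2)))) = -1 := by
    intro i
    have e : shift 2 m (Multiplicative.ofAdd (Pi.single i (1 : ZMod 2))) =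
        Equiv.swap ((0 : ZMod 2), i) ((1 : ZMod 2), i) := by
      refine Equiv.ext fun x => ?_
      obtain ⟨a, j⟩ := x
      rw [shift_apply]
      by_cases hj : j = i
      · subst hj
        rcases zmod2_cases a with rfl | rfl
        · simp
        · simp only [toAdd_ofAdd, Pi.single_eq_same]
          rw [Equiv.swap_apply_right, zmod2_two]
      · simp [hj, Equiv.swap_apply_of_ne_of_ne]
    rw [e, Perm.sign_swap (by simp)]
  refine ⟨hgen, ?_⟩
  set C := Subgroup.closure {x | x ∈ E ⊔ L ∧ x ^ 2 = 1 ∧ Perm.sign x = 1}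
  have hpair : ∀ i j : Fin m,
      shift 2 m (Multiplicative.ofAdd (Pi.single i 1)) * shift 2 m (Multiplicative.ofAdd (Pi.single j 1)) ∈ C := by
    intro i j
    refine Subgroup.subset_closure ⟨mul_mem (Subgroup.mem_sup_left ⟨_, rfl⟩) (Subgroup.mem_sup_left ⟨_, rfl⟩), ?_, ?_⟩
    · rw [← map_mul, ← map_pow, mul_pow, map_mul, map_pow, map_pow, hsingle, hsingle, one_mul]
    · rw [map_mul, hone, hone]; rfl
  intro x hx hs
  obtain ⟨f, σ, hσ, rfl⟩ := hdec x hx
  rw [map_mul, hblock, mul_one] at hs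
  have hL' : L ≤ C := by
    refine (Subgroup.map_mono hQ.1).trans ?_
    rw [MonoidHom.map_closure]
    refine Subgroup.closure_mono ?_
    rintro _ ⟨τ, ⟨hτ, hτp⟩, rfl⟩
    exact ⟨Subgroup.mem_sup_right ⟨τ, hτ, rfl⟩, by rw [← map_pow, hτp, map_one], hblock τ⟩
  refine mul_mem ?_ (hL' ⟨σ, hσ, rfl⟩)
  let u : Fin m → Multiplicative (Fin m → ZMod 2) := fun i => Multiplicative.ofAdd (Pi.single i 1)
  have key : ∀ s : Finset (Fin m), (shift 2 m (∏ i ∈ s, u i) ∈ C ∧ Even s.card) ∨
      (∀ j, shift 2 m (u j * ∏ i ∈ s, u i) ∈ C) ∧ Odd s.card := by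
    intro s
    induction s using Finset.induction_on with
    | empty => exact Or.inl ⟨by simp, by simp⟩
    | insert a s ha ih =>
      rw [Finset.card_insert_of_notMem ha]
      rcases ih with ⟨h, he⟩ | ⟨h, ho⟩
      · refine Or.inr ⟨fun j => ?_, he.add_one⟩
        rw [Finset.prod_insert ha, ← mul_assoc, map_mul, map_mul]
        exact mul_mem (hpair j a) h
      · exact Or.inl ⟨by rw [Finset.prod_insert ha]; exact h a, ho.add_one⟩
  set s := Finset.univ.filter fun i => f.toAdd i = 1
  have hf : f = ∏ i ∈ s, u i := by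
    rw [← ofAdd_sum]
    refine Multiplicative.toAdd.injective ?_
    funext j
    rw [toAdd_ofAdd, Finset.sum_apply, Finset.sum_pi_single]
    simp only [s, Finset.mem_filter, Finset.mem_univ, true_and]
    split_ifs with h
    · exact h
    · exact (zmod2_cases _).resolve_right h
  rcases key s with ⟨h, -⟩ | ⟨-, ho⟩
  · rwa [hf]
  · exfalso
    have h1 : (Perm.sign.comp (shift 2 m)) f = (-1) ^ s.card := by
      rw [hf, map_prod, Finset.prod_congr rfl fun i _ => (show (Perm.sign.comp (shift 2 m)) (u i) = -1 from hone i),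
        Finset.prod_const]
    rw [MonoidHom.comp_apply, hs, ho.neg_one_pow] at h1
    exact absurd h1 (by decide)

theorem good_conj {α : Type*} [DecidableEq α] [Fintype α] (g : Perm α) {S : Subgroup (Perm α)}
    (h : Good p S) : Good p (S.map (MulAut.conj g).toMonoidHom) := by
  constructor
  · rintro _ ⟨x, hx, rfl⟩
    have h' := Subgroup.mem_map_of_mem (MulAut.conj g).toMonoidHom (h.1 hx)
    rw [MonoidHom.map_closure] at h'
    refine Subgroup.closure_mono ?_ h' 
    rintro _ ⟨y, ⟨hy, hyp⟩, rfl⟩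
    exact ⟨⟨y, hy, rfl⟩, by rw [← map_pow, hyp, map_one]⟩
  · rintro _ ⟨x, hx, rfl⟩ hs
    have hc : ∀ z : Perm α, Perm.sign ((MulAut.conj g).toMonoidHom z) = Perm.sign z := fun z => by
      show Perm.sign (g * z * g⁻¹) = _
      rw [map_mul, map_mul, map_inv, mul_comm, ← mul_assoc, inv_mul_cancel, one_mul]
    have h' := Subgroup.mem_map_of_mem (MulAut.conj g).toMonoidHom (h.2 x hx ((hc x).symm.trans hs))
    rw [MonoidHom.map_closure] at h'
    refine Subgroup.closure_mono ?_ h' 
    rintro _ ⟨y, ⟨hy, hyp, hys⟩, rfl⟩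
    exact ⟨⟨y, hy, rfl⟩, by rw [← map_pow, hyp, map_one], (hc y).trans hys⟩

/-- Every Sylow subgroup of a symmetric group is good. -/
theorem good_sylow : ∀ (n : ℕ) (S : Sylow p (Perm (Fin n))), Good p (S : Subgroup (Perm (Fin n))) := by
  intro n
  induction n using Nat.strong_induction_on with
  | _ n ih =>
  intro S
  have hp : p.Prime := Fact.out
  haveI : NeZero p := ⟨hp.ne_zero⟩
  rcases Nat.eq_zero_or_pos n with rfl | hn
  · exact ⟨fun x hx => by rw [Subsingleton.elim x 1]; exact one_mem _,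
      fun x _ _ => by rw [Subsingleton.elim x 1]; exact one_mem _⟩
  have hm : n / p < n := Nat.div_lt_self hn hp.one_lt
  obtain ⟨T, hT, hgood⟩ := good_mul (n / p) (ih _ hm (Classical.arbitrary (Sylow p (Perm (Fin (n / p))))))
  have hle : Fintype.card (ZMod p × Fin (n / p)) ≤ Fintype.card (Fin n) := by
    simp only [Fintype.card_prod, ZMod.card, Fintype.card_fin]
    exact Nat.mul_div_le n p
  obtain ⟨e⟩ := Function.Embedding.nonempty_of_card_le hle
  let ι := Equiv.Perm.viaEmbeddingHom e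
  have hι : Function.Injective ι := Equiv.Perm.viaEmbeddingHom_injective e
  have hsign : ∀ x, Perm.sign (ι x) = Perm.sign x := fun x => by
    classical
    rw [Equiv.Perm.viaEmbeddingHom_apply, Equiv.Perm.viaEmbedding, Equiv.Perm.sign_extendDomain]
  have hval : padicValNat p (Nat.factorial n) = padicValNat p (Nat.factorial (p * (n / p))) := by
    conv_lhs => rw [← Nat.div_add_mod n p]
    exact padicValNat_factorial_mul_add _ (Nat.mod_lt _ hp.pos)
  have hcard : Nat.card (T.map ι) = Nat.card S := by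
    rw [Subgroup.card_map_of_injective hι, hT, prime_pow_card_sylow, Fintype.card_fin, hval]
  obtain ⟨R, hR⟩ := (IsPGroup.of_card (G := T.map ι) (by rw [hcard, prime_pow_card_sylow])).exists_le_sylow
  have hRT : T.map ι = R := Subgroup.eq_of_le_of_card_ge hR (by
    rw [hcard, prime_pow_card_sylow, prime_pow_card_sylow])
  have hgR : Good p (R : Subgroup (Perm (Fin n))) := by
    rw [← hRT]
    constructor
    · rintro _ ⟨x, hx, rfl⟩
      have h' := Subgroup.mem_map_of_mem ι (hgood.1 hx)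
      rw [MonoidHom.map_closure] at h'
      refine Subgroup.closure_mono ?_ h' 
      rintro _ ⟨y, ⟨hy, hyp⟩, rfl⟩
      exact ⟨⟨y, hy, rfl⟩, by rw [← map_pow, hyp, map_one]⟩
    · rintro _ ⟨x, hx, rfl⟩ hs
      have h' := Subgroup.mem_map_of_mem ι (hgood.2 x hx (by rwa [hsign] at hs))
      rw [MonoidHom.map_closure] at h'
      refine Subgroup.closure_mono ?_ h' 
      rintro _ ⟨y, ⟨hy, hyp, hys⟩, rfl⟩
      exact ⟨⟨y, hy, rfl⟩, by rw [← map_pow, hyp, map_one], by rw [hsign, hys]⟩
  obtain ⟨g, hg⟩ := MulAction.exists_smul_eq (Perm (Fin n)) R S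
  rw [← hg, Sylow.coe_subgroup_smul]
  exact good_conj g hgR

/-- Groups generated by elements of order dividing `p` have elementary abelianization. -/
theorem pow_mem_commutator {G : Type*} [Group G] {S : Subgroup G} {s : Set G}
    (hs : ∀ y ∈ s, y ∈ S ∧ y ^ p = 1) (h : S ≤ Subgroup.closure s) (x : S) :
    x ^ p ∈ commutator S := by
  rw [← Abelianization.ker_of, MonoidHom.mem_ker, map_pow]
  have key : ∀ y (hy : y ∈ Subgroup.closure s), ∃ hyS : y ∈ S, (Abelianization.of (⟨y, hyS⟩ : S)) ^ p = 1 := by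
    intro y hy
    induction hy using Subgroup.closure_induction with
    | mem y hy =>
      obtain ⟨h1, h2⟩ := hs y hy
      exact ⟨h1, by rw [← map_pow]; convert map_one Abelianization.of; exact Subtype.ext h2⟩
    | one => exact ⟨one_mem S, by rw [← map_pow]; convert map_one Abelianization.of; exact Subtype.ext (one_pow p)⟩
    | mul a b _ _ ha hb =>
      obtain ⟨ha', ha⟩ := ha
      obtain ⟨hb', hb⟩ := hb
      refine ⟨mul_mem ha' hb', ?_⟩
      rw [show (⟨a * b, mul_mem ha' hb'⟩ : S) = ⟨a, ha'⟩ * ⟨b, hb'⟩ from rfl, map_mul, mul_pow, ha, hb, one_mul]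
    | inv a _ ha =>
      obtain ⟨ha', ha⟩ := ha
      refine ⟨inv_mem ha', ?_⟩
      rw [show (⟨a⁻¹, inv_mem ha'⟩ : S) = (⟨a, ha'⟩ : S)⁻¹ from rfl, map_inv, inv_pow, ha, inv_one]
  obtain ⟨_, h'⟩ := key x.1 (h x.2)
  exact h'

theorem sylow_alternating (n : ℕ) (Q : Sylow p (alternatingGroup (Fin n))) (x : (Q : Subgroup (alternatingGroup (Fin n)))) :
    x ^ p ∈ commutator (Q : Subgroup (alternatingGroup (Fin n))) := by
  obtain ⟨S, hS⟩ := (Q.isPGroup'.map (alternatingGroup (Fin n)).subtype).exists_le_sylow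
  have hQ : (Q : Subgroup (alternatingGroup (Fin n))) =
      (S : Subgroup (Perm (Fin n))).subgroupOf (alternatingGroup (Fin n)) :=
    (Q.is_maximal' (S.isPGroup'.comap_subtype)
      (fun y hy => Subgroup.mem_subgroupOf.2 (hS ⟨y, hy, rfl⟩))).symm
  refine pow_mem_commutator (s := {y | y ∈ (Q : Subgroup (alternatingGroup (Fin n))) ∧ y ^ p = 1})
    (fun y hy => hy) ?_ x
  intro y hy
  rw [hQ, Subgroup.mem_subgroupOf] at hy
  have h := (good_sylow n S).2 (y : Perm (Fin n)) hy (Perm.mem_alternatingGroup.1 y.2)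
  rw [← Subgroup.mem_map_iff_mem (Subgroup.subtype_injective (alternatingGroup (Fin n))), MonoidHom.map_closure]
  refine Subgroup.closure_mono ?_ h
  rintro z ⟨hz, hzp, hzs⟩
  exact ⟨⟨z, Perm.mem_alternatingGroup.2 hzs⟩, ⟨hQ ▸ Subgroup.mem_subgroupOf.2 hz, Subtype.ext hzp⟩, rfl⟩

end Cfsg.Agent.Char.SymGen
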