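import Mathlib

/-!
The number of unipotent isometries of a finite nondegenerate alternating form.

For a totally isotropic subspace `W` of dimension `k` in dimension `2n`, the unipotent isometries
fixing `W` pointwise number `q ^ ex n k`. For `k > 0` this is a reduction to dimension `2n - 2`;
for `k = 0` it follows from the vanishing, at every nontrivial unipotent, of the Möbius sum over
the isotropic subspaces it fixes.
-/

set_option autoImplicit false
set_option linter.unusedSectionVars false
set_option linter.style.haveILetI false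

namespace Cfsg.Agent.Char.SpUni

open Module LinearMap

universe u v

section Arith

/-- Exponent of the count. -/
def ex (n k : ℕ) : ℕ := k * (k + 1) / 2 + 2 * n * (n - k)

theorem choose_two_succ (k : ℕ) : (k + 1).choose 2 = k.choose 2 + k := by
  rw [Nat.choose_succ_succ' k 1, Nat.choose_one_right, add_comm]

theorem choose_two_add (k : ℕ) : k.choose 2 + k * (k + 1) / 2 = k * k := by
  induction k with
  | zero => simp
  | succ k ih =>
    rw [choose_two_succ, show (k + 1) * (k + 1 + 1) = k * (k + 1) + 2 * (k + 1) by ring,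
      Nat.add_mul_div_left _ _ (by norm_num : 0 < 2)]
    linarith

theorem choose_add_ex {n k : ℕ} : k.choose 2 + ex n k = k * k + 2 * n * (n - k) := by
  rw [ex, ← add_assoc, choose_two_add]

theorem ex_succ {n k : ℕ} (h : k ≤ n) : ex (n + 1) (k + 1) = ex n k + (2 * n - k + 1) := by
  obtain ⟨d, rfl⟩ := Nat.exists_eq_add_of_le h
  have e1 : k + d + 1 - (k + 1) = d := by omega
  have e2 : k + d - k = d := by omega
  have e3 : 2 * (k + d) - k = k + 2 * d := by omega
  rw [ex, ex, e1, e2, e3, show (k + 1) * (k + 1 + 1) = k * (k + 1) + 2 * (k + 1) by ring,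
    Nat.add_mul_div_left _ _ (by norm_num : 0 < 2)]
  ring

variable (q : ℤ)

/-- The weight of a subspace of dimension `k`. -/
def mu (k : ℕ) : ℤ := (-1) ^ k * q ^ k.choose 2

theorem mu_succ (k : ℕ) : mu q (k + 1) = -(q ^ k * mu q k) := by
  rw [mu, mu, choose_two_succ, pow_add, pow_succ]
  ring

/-- The number of isotropic subspaces, by recursion. -/
def A : ℕ → ℕ → ℤ
  | _, 0 => 1
  | 0, _ + 1 => 0
  | n + 1, k + 1 => q ^ (k + 1) * A n (k + 1) + A n k * (1 + q ^ (2 * n + 1 - k))

theorem A_zero (n : ℕ) : A q n 0 = 1 := by cases n <;> rfl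

theorem A_of_gt : ∀ {n k : ℕ}, n < k → A q n k = 0
  | 0, k + 1, _ => rfl
  | n + 1, k + 1, h => by
    rw [A, A_of_gt (n := n) (k := k + 1) (by omega), A_of_gt (n := n) (k := k) (by omega)]
    ring

theorem A_ratio : ∀ n k, (q ^ (k + 1) - 1) * A q n (k + 1) = (q ^ (2 * (n - k)) - 1) * A q n k
  | 0, k => by
    rw [A, Nat.zero_sub, mul_zero, pow_zero]
    simp
  | n + 1, 0 => by
    have h := A_ratio n 0
    rw [A_zero] at h ⊢
    rw [show A q (n + 1) (0 + 1) = q ^ (0 + 1) * A q n (0 + 1) +
      A q n 0 * (1 + q ^ (2 * n + 1 - 0)) from rfl, A_zero]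
    simp only [Nat.sub_zero, zero_add, pow_one] at h ⊢
    rw [show 2 * (n + 1) = 2 * n + 1 + 1 by ring]
    linear_combination q * h
  | n + 1, k + 1 => by
    by_cases hk : k < n
    · have h1 := A_ratio n k
      have h2 := A_ratio n (k + 1)
      obtain ⟨d, rfl⟩ : ∃ d, n = k + 1 + d := ⟨n - (k + 1), by omega⟩
      rw [A, A, show k + 1 + d + 1 - (k + 1) = d + 1 by omega,
        show 2 * (k + 1 + d) + 1 - (k + 1) = k + 1 + 2 * d + 1 + 0 by omega,
        show 2 * (k + 1 + d) + 1 - k = k + 2 * d + 3 by omega]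
      rw [show k + 1 + d - k = d + 1 by omega] at h1
      rw [show k + 1 + d - (k + 1) = d by omega] at h2
      linear_combination q ^ (k + 2) * h2 + (1 + q ^ (k + 2 * d + 3)) * h1
    · have hz : n + 1 - (k + 1) = 0 := by omega
      rw [hz, A_of_gt q (show n + 1 < k + 1 + 1 by omega)]
      simp

/-- First sum. -/
def S1 (n : ℕ) : ℤ :=
  ∑ k ∈ Finset.range (n + 1), (-1) ^ k * A q n k * q ^ (k * k + 2 * n * (n - k))

/-- Second sum. -/
def S2 (n : ℕ) : ℤ :=
  ∑ k ∈ Finset.range (n + 1), (-1) ^ k * A q n k * q ^ k.choose 2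

/-- The recursion for a sum against the isotropic counts. -/
theorem sum_step (n : ℕ) (e g : ℕ → ℕ)
    (h0 : g 0 = e 0)
    (h1 : ∀ k ≤ n, k + 1 + e (k + 1) = g (k + 1))
    (h2 : ∀ k ≤ n, 2 * n + 1 - k + e (k + 1) = g k) :
    ∑ k ∈ Finset.range (n + 1 + 1), (-1) ^ k * A q (n + 1) k * q ^ e k =
      -∑ k ∈ Finset.range (n + 1), (-1) ^ k * A q n k * q ^ e (k + 1) := by
  rw [Finset.sum_range_succ', A_zero, pow_zero, one_mul, one_mul]
  have hsplit : ∀ k ∈ Finset.range (n + 1),
      (-1) ^ (k + 1) * A q (n + 1) (k + 1) * q ^ e (k + 1) =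
        (-1) ^ (k + 1) * A q n (k + 1) * q ^ g (k + 1) - (-1) ^ k * A q n k * q ^ g k -
          (-1) ^ k * A q n k * q ^ e (k + 1) := by
    intro k hk
    have hk' : k ≤ n := Nat.lt_succ_iff.1 (Finset.mem_range.1 hk)
    rw [A, ← h1 k hk', ← h2 k hk', pow_add, pow_add, pow_succ]
    ring
  rw [Finset.sum_congr rfl hsplit, Finset.sum_sub_distrib,
    Finset.sum_range_sub (fun k => (-1) ^ k * A q n k * q ^ g k), A_of_gt q (Nat.lt_succ_self n),
    A_zero, h0, pow_zero]
  ring

theorem S1_succ (n : ℕ) : S1 q (n + 1) = -(q ^ (2 * n + 1) * S1 q n) := by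
  rw [S1, sum_step q n (fun k => k * k + 2 * (n + 1) * (n + 1 - k))
    (fun k => k * k + k + 2 * (n + 1) * (n + 1 - k)) (by simp) (fun k hk => by
      ring) (fun k hk => by
      obtain ⟨d, rfl⟩ := Nat.exists_eq_add_of_le hk
      have e1 : k + d + 1 - (k + 1) = d := by omega
      have e2 : k + d + 1 - k = d + 1 := by omega
      have e3 : 2 * (k + d) + 1 - k = k + 2 * d + 1 := by omega
      rw [e1, e2, e3]
      ring), S1, Finset.mul_sum]
  refine congrArg _ (Finset.sum_congr rfl fun k hk => ?_)
  have hk' : k ≤ n := Nat.lt_succ_iff.1 (Finset.mem_range.1 hk)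
  obtain ⟨d, rfl⟩ := Nat.exists_eq_add_of_le hk'
  have e : (k + 1) * (k + 1) + 2 * (k + d + 1) * (k + d + 1 - (k + 1)) =
      2 * (k + d) + 1 + (k * k + 2 * (k + d) * (k + d - k)) := by
    have e1 : k + d + 1 - (k + 1) = d := by omega
    have e2 : k + d - k = d := by omega
    rw [e1, e2]; ring
  rw [e, pow_add]
  ring

theorem S2_succ (n : ℕ) : S2 q (n + 1) = -(q ^ (2 * n + 1) * S2 q n) := by
  have hA : ∀ k ∈ Finset.range (n + 1),
      (-1) ^ (k + 1) * A q (n + 1) (k + 1) * q ^ (k + 1).choose 2 =
        (-1) ^ (k + 1) * A q n (k + 1) * q ^ ((k + 1).choose 2 + (k + 1)) -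
          (-1) ^ k * A q n k * q ^ (k.choose 2 + k) -
          q ^ (2 * n + 1) * ((-1) ^ k * A q n k * q ^ k.choose 2) := by
    intro k hk
    obtain ⟨d, rfl⟩ := Nat.exists_eq_add_of_le (Nat.lt_succ_iff.1 (Finset.mem_range.1 hk))
    rw [A, show 2 * (k + d) + 1 - k = k + 2 * d + 1 by omega, choose_two_succ,
      show 2 * (k + d) + 1 = k + (k + 2 * d + 1) by omega]
    simp only [pow_add, pow_one]
    ring
  rw [S2, S2, Finset.sum_range_succ', Finset.sum_congr rfl hA, Finset.sum_sub_distrib,
    Finset.sum_range_sub (fun k => (-1) ^ k * A q n k * q ^ (k.choose 2 + k)),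
    A_of_gt q (Nat.lt_succ_self n), A_zero, A_zero, ← Finset.mul_sum]
  simp
  ring

theorem S1_eq_S2 : ∀ n, S1 q n = S2 q n
  | 0 => by simp [S1, S2]
  | n + 1 => by rw [S1_succ, S2_succ, S1_eq_S2 n]

end Arith

variable {F : Type u} [Field F] [Fintype F] {V : Type v} [AddCommGroup V] [Module F V] [Finite V]

instance : Finite (Submodule F V) := Finite.of_injective _ SetLike.coe_injective

/-- A nondegenerate alternating form. -/
structure Good (B : LinearMap.BilinForm F V) : Prop where
  alt : ∀ x, B x x = 0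
  nondeg : ∀ x, (∀ y, B x y = 0) → x = 0

/-- Totally isotropic. -/
def Iso (B : LinearMap.BilinForm F V) (W : Submodule F V) : Prop := ∀ x ∈ W, ∀ y ∈ W, B x y = 0

/-- Unipotent isometries fixing a subspace pointwise. -/
def Uni (B : LinearMap.BilinForm F V) (W : Submodule F V) : Type v :=
  {g : Module.End F V // (∀ x y, B (g x) (g y) = B x y) ∧ IsNilpotent (g - 1) ∧ ∀ w ∈ W, g w = w}

variable {B : LinearMap.BilinForm F V}

theorem Good.swap (h : Good B) (x y : V) : B y x = - B x y := by
  have := h.alt (x + y)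
  simp only [map_add, LinearMap.add_apply, h.alt, zero_add, add_zero] at this
  linear_combination this

theorem Good.nd (h : Good B) : B.Nondegenerate :=
  ⟨h.nondeg, fun y hy => h.nondeg y fun x => by rw [h.swap x y, hy x, neg_zero]⟩

theorem card_submodule (W : Submodule F V) :
    Nat.card W = Fintype.card F ^ Module.finrank F W := by
  cases nonempty_fintype W
  rw [Nat.card_eq_fintype_card, Module.card_eq_pow_finrank (K := F)]

theorem finrank_le_of_iso (h : Good B) {n : ℕ} (hV : finrank F V = 2 * n) {W : Submodule F V}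
    (hW : Iso B W) : finrank F W ≤ n := by
  have h1 : W ≤ B.orthogonal W := fun y hy => LinearMap.BilinForm.mem_orthogonal_iff.2
    fun x hx => hW x hx y hy
  have h2 := Submodule.finrank_mono h1
  rw [LinearMap.BilinForm.finrank_orthogonal h.nd, hV] at h2
  have h3 := Submodule.finrank_le W
  omega

section Step

variable (v w : V)

/-- The complement of a hyperbolic pair. -/
def pairX (B : LinearMap.BilinForm F V) (v w : V) : Submodule F V :=
  LinearMap.ker (B v) ⊓ LinearMap.ker (B w)

/-- The projection along the pair. -/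
def projP (B : LinearMap.BilinForm F V) (v w : V) : V →ₗ[F] V :=
  LinearMap.id - ((B.flip w).smulRight v) + ((B.flip v).smulRight w)

theorem projP_apply (y : V) : projP B v w y = y - B y w • v + B y v • w := rfl

variable {v w}

theorem mem_pairX {x : V} : x ∈ pairX B v w ↔ B v x = 0 ∧ B w x = 0 := Iff.rfl

variable (hB : Good B) (hvw : B v w = 1)
include hB hvw

theorem projP_mem (y : V) : projP B v w y ∈ pairX B v w := by
  have hwv : B w v = -1 := by rw [hB.swap v w, hvw]
  rw [mem_pairX]
  constructor <;>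
    simp only [projP_apply, map_add, map_sub, map_smul, smul_eq_mul, hB.alt, hvw, hwv]
  · rw [hB.swap v y]; ring
  · rw [hB.swap w y]; ring

/-- The projection, landing in the complement. -/
def projX : V →ₗ[F] pairX B v w := (projP B v w).codRestrict _ (projP_mem hB hvw)

theorem projX_coe (y : V) : (projX hB hvw y : V) = y - B y w • v + B y v • w := rfl

theorem decompose (y : V) : y = B y w • v - B y v • w + (projX hB hvw y : V) := by
  rw [projX_coe]; abel

theorem pairing {x : V} (hx : x ∈ pairX B v w) :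
    B v x = 0 ∧ B w x = 0 ∧ B x v = 0 ∧ B x w = 0 := by
  obtain ⟨h1, h2⟩ := mem_pairX.1 hx
  exact ⟨h1, h2, by rw [hB.swap v x, h1, neg_zero], by rw [hB.swap w x, h2, neg_zero]⟩

theorem expand (a b a' b' : F) {x x' : V} (hx : x ∈ pairX B v w) (hx' : x' ∈ pairX B v w) :
    B (a • v + b • w + x) (a' • v + b' • w + x') = a * b' - b * a' + B x x' := by
  obtain ⟨h1, h2, h3, h4⟩ := pairing hB hvw hx
  obtain ⟨k1, k2, k3, k4⟩ := pairing hB hvw hx'
  have hwv : B w v = -1 := by rw [hB.swap v w, hvw]
  simp only [map_add, map_smul, LinearMap.add_apply, LinearMap.smul_apply, smul_eq_mul, hB.alt,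
    hvw, hwv, h3, h4, k1, k2]
  ring

theorem projX_of_mem (x : pairX B v w) : projX hB hvw (x : V) = x := by
  obtain ⟨-, -, h3, h4⟩ := pairing hB hvw x.2
  refine Subtype.ext ?_
  rw [projX_coe, h3, h4]
  simp

theorem finrank_pairX : finrank F (pairX B v w) + 2 = finrank F V := by
  haveI : FiniteDimensional F V := Module.Finite.of_finite
  have hwv : B w v = -1 := by rw [hB.swap v w, hvw]
  let e : V ≃ₗ[F] (F × F) × pairX B v w :=
    { toFun := fun y => ((B y w, - B y v), projX hB hvw y)
      map_add' := fun y z => by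
        simp only [map_add, LinearMap.add_apply, Prod.mk_add_mk, neg_add]
      map_smul' := fun c y => by
        simp only [map_smul, LinearMap.smul_apply, smul_eq_mul, RingHom.id_apply, Prod.smul_mk,
          mul_neg]
      invFun := fun z => z.1.1 • v + z.1.2 • w + (z.2 : V)
      left_inv := fun y => by
        show B y w • v + (- B y v) • w + (projX hB hvw y : V) = y
        conv_rhs => rw [decompose hB hvw y]
        rw [neg_smul, sub_eq_add_neg]
      right_inv := fun z => by
        obtain ⟨-, -, h3, h4⟩ := pairing hB hvw z.2.2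
        have e1 : B (z.1.1 • v + z.1.2 • w + (z.2 : V)) w = z.1.1 := by
          simp [hB.alt, hvw, h4]
        have e2 : B (z.1.1 • v + z.1.2 • w + (z.2 : V)) v = - z.1.2 := by
          simp [hB.alt, hwv, h3]
        refine Prod.ext (Prod.ext e1 (by show - B _ v = _; rw [e2, neg_neg])) (Subtype.ext ?_)
        show (projX hB hvw (z.1.1 • v + z.1.2 • w + (z.2 : V)) : V) = _
        rw [projX_coe, e1, e2, neg_smul]
        abel }
  rw [LinearEquiv.finrank_eq e, Module.finrank_prod, Module.finrank_prod, Module.finrank_self]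
  ring

theorem good_restrict : Good (B.restrict (pairX B v w)) := by
  refine ⟨fun x => hB.alt _, fun x hx => Subtype.ext (hB.nondeg _ fun y => ?_)⟩
  obtain ⟨h1, h2, h3, h4⟩ := pairing hB hvw x.2
  rw [decompose hB hvw y]
  simp only [map_add, map_sub, map_smul, h3, h4, smul_zero, sub_zero, zero_add]
  exact hx (projX hB hvw y)

variable {g : Module.End F V}

/-- The induced map on the complement. -/
def aOf (g : Module.End F V) : Module.End F (pairX B v w) :=
  (projX hB hvw).comp (g.comp (pairX B v w).subtype)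

theorem apply_perp (hg : ∀ x y, B (g x) (g y) = B x y) (hv : g v = v) (y : V) :
    B (g y) v = B y v := by
  conv_lhs => rw [← hv]
  exact hg y v

theorem g_of_mem (hg : ∀ x y, B (g x) (g y) = B x y) (hv : g v = v) (x : pairX B v w) :
    g x = B (g x) w • v + (aOf hB hvw g x : V) := by
  conv_lhs => rw [decompose hB hvw (g x)]
  rw [apply_perp hB hvw hg hv, (pairing hB hvw x.2).2.2.1, zero_smul, sub_zero]
  rfl

theorem g_w (hg : ∀ x y, B (g x) (g y) = B x y) (hv : g v = v) :
    g w = B (g w) w • v + w + (projX hB hvw (g w) : V) := by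
  conv_lhs => rw [decompose hB hvw (g w)]
  rw [apply_perp hB hvw hg hv, hB.swap v w, hvw, neg_smul, one_smul, sub_neg_eq_add]

theorem isometry_aOf (hg : ∀ x y, B (g x) (g y) = B x y) (hv : g v = v) (x y : pairX B v w) :
    B (aOf hB hvw g x : V) (aOf hB hvw g y : V) = B (x : V) y := by
  conv_rhs => rw [← hg x y, g_of_mem hB hvw hg hv x, g_of_mem hB hvw hg hv y]
  have h := expand hB hvw (B (g x) w) 0 (B (g y) w) 0 (aOf hB hvw g x).2 (aOf hB hvw g y).2
  simp only [zero_smul, add_zero, mul_zero, zero_mul, sub_zero, zero_add] at h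
  exact h.symm

theorem lam_eq (hg : ∀ x y, B (g x) (g y) = B x y) (hv : g v = v) (x : pairX B v w) :
    B (g x) w = - B (aOf hB hvw g x : V) (projX hB hvw (g w) : V) := by
  have h := hg x w
  rw [(pairing hB hvw x.2).2.2.2] at h
  conv_lhs at h => rw [g_of_mem hB hvw hg hv x, g_w hB hvw hg hv]
  have h' := expand hB hvw (B (g x) w) 0 (B (g w) w) 1 (aOf hB hvw g x).2
    (projX hB hvw (g w)).2
  simp only [zero_smul, add_zero, one_smul, mul_one, zero_mul, sub_zero] at h'
  rw [h'] at h
  linear_combination h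

theorem nilpotent_iff (hg : ∀ x y, B (g x) (g y) = B x y) (hv : g v = v) :
    IsNilpotent (g - 1) ↔ IsNilpotent (aOf hB hvw g - 1) := by
  have hperp : ∀ y, B ((g - 1) y) v = 0 := fun y => by
    simp only [LinearMap.sub_apply, Module.End.one_apply, map_sub, LinearMap.sub_apply,
      apply_perp hB hvw hg hv, sub_self]
  have hstep : ∀ y, B y v = 0 →
      projX hB hvw ((g - 1) y) = (aOf hB hvw g - 1) (projX hB hvw y) := fun y hy => by
    have e : y = B y w • v + (projX hB hvw y : V) := by
      conv_lhs => rw [decompose hB hvw y, hy, zero_smul, sub_zero]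
    have hPv : projX hB hvw v = 0 := Subtype.ext (by simp [projX_coe, hvw, hB.alt])
    conv_lhs => rw [e, LinearMap.sub_apply, Module.End.one_apply, map_add g, map_smul g, hv,
      add_sub_add_left_eq_sub, map_sub]
    rw [projX_of_mem hB hvw]
    rfl
  have hiter : ∀ (i : ℕ) y, B y v = 0 → B (((g - 1) ^ i) y) v = 0 ∧
      projX hB hvw (((g - 1) ^ i) y) = ((aOf hB hvw g - 1) ^ i) (projX hB hvw y) := by
    intro i
    induction i with
    | zero => exact fun y hy => ⟨hy, rfl⟩
    | succ i ih =>
      intro y hy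
      obtain ⟨h1, h2⟩ := ih y hy
      rw [pow_succ', pow_succ', Module.End.mul_apply, Module.End.mul_apply]
      exact ⟨hperp _, by rw [hstep _ h1, h2]⟩
  constructor
  · rintro ⟨j, hj⟩
    refine ⟨j, LinearMap.ext fun x => ?_⟩
    have h := (hiter j x (pairing hB hvw x.2).2.2.1).2
    rw [hj, LinearMap.zero_apply, map_zero, projX_of_mem hB hvw] at h
    rw [← h]
    rfl
  · rintro ⟨j, hj⟩
    refine ⟨1 + j + 1, LinearMap.ext fun y => ?_⟩
    rw [pow_succ, pow_add, pow_one, Module.End.mul_apply, Module.End.mul_apply]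
    obtain ⟨h1, h2⟩ := hiter j _ (hperp y)
    rw [hj, LinearMap.zero_apply] at h2
    set z := ((g - 1) ^ j) ((g - 1) y)
    have hz : z = B z w • v := by
      conv_lhs => rw [decompose hB hvw z, h1, h2, zero_smul, sub_zero, Submodule.coe_zero, add_zero]
    rw [LinearMap.sub_apply, Module.End.one_apply, hz, map_smul, hv, sub_self]
    rfl

/-- The map built from its three parameters. -/
def build (a : Module.End F (pairX B v w)) (c : pairX B v w) (d : F) : Module.End F V :=
  (B.flip w).smulRight v - (B.flip v).smulRight (d • v + w + (c : V)) +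
    ((pairX B v w).subtype.comp (a.comp (projX hB hvw))) -
    ((B.flip (c : V)).comp ((pairX B v w).subtype.comp (a.comp (projX hB hvw)))).smulRight v

theorem build_apply (a : Module.End F (pairX B v w)) (c : pairX B v w) (d : F) (y : V) :
    build hB hvw a c d y =
      (B y w - B y v * d - B (a (projX hB hvw y) : V) (c : V)) • v + (- B y v) • w +
        (((a (projX hB hvw y)) - B y v • c : pairX B v w) : V) := by
  show B y w • v - B y v • (d • v + w + (c : V)) + (a (projX hB hvw y) : V) -
      B (a (projX hB hvw y) : V) (c : V) • v = _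
  simp only [Submodule.coe_sub, Submodule.coe_smul, smul_add, smul_smul, sub_smul, neg_smul]
  abel

theorem build_mem (a : Module.End F (pairX B v w)) (c : pairX B v w) (d : F) (x : pairX B v w) :
    build hB hvw a c d x = (- B (a x : V) (c : V)) • v + (a x : V) := by
  obtain ⟨-, -, h3, h4⟩ := pairing hB hvw x.2
  rw [build_apply, h3, h4, projX_of_mem hB hvw]
  simp

theorem build_v (a : Module.End F (pairX B v w)) (c : pairX B v w) (d : F) :
    build hB hvw a c d v = v := by
  have hPv : projX hB hvw v = 0 := Subtype.ext (by simp [projX_coe, hvw, hB.alt])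
  rw [build_apply, hPv, hvw, hB.alt]
  simp

theorem build_w (a : Module.End F (pairX B v w)) (c : pairX B v w) (d : F) :
    build hB hvw a c d w = d • v + w + (c : V) := by
  have hwv : B w v = -1 := by rw [hB.swap v w, hvw]
  have hPw : projX hB hvw w = 0 := Subtype.ext (by simp [projX_coe, hwv, hB.alt])
  rw [build_apply, hPw, hwv, hB.alt]
  simp

theorem build_isometry (a : Module.End F (pairX B v w)) (c : pairX B v w) (d : F)
    (ha : ∀ x y, B (a x : V) (a y : V) = B (x : V) y) (y z : V) :
    B (build hB hvw a c d y) (build hB hvw a c d z) = B y z := by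
  rw [build_apply, build_apply, expand hB hvw _ _ _ _ (Submodule.coe_mem _) (Submodule.coe_mem _)]
  conv_rhs => rw [decompose hB hvw y, decompose hB hvw z, sub_eq_add_neg, sub_eq_add_neg,
    ← neg_smul, ← neg_smul,
    expand hB hvw _ _ _ _ (Submodule.coe_mem _) (Submodule.coe_mem _)]
  simp only [Submodule.coe_sub, Submodule.coe_smul, map_sub, map_smul, LinearMap.sub_apply,
    LinearMap.smul_apply, smul_eq_mul, hB.alt, ha]
  rw [hB.swap (a (projX hB hvw z) : V) (c : V)]
  ring

theorem aOf_build (a : Module.End F (pairX B v w)) (c : pairX B v w) (d : F) :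
    aOf hB hvw (build hB hvw a c d) = a := by
  refine LinearMap.ext fun x => ?_
  have hPv : projX hB hvw v = 0 := Subtype.ext (by simp [projX_coe, hvw, hB.alt])
  show projX hB hvw (build hB hvw a c d x) = a x
  rw [build_mem, map_add, map_smul, hPv, smul_zero, zero_add, projX_of_mem hB hvw]

/-- Fixing a point: the stabiliser is fibred over the smaller group. -/
noncomputable def uniEquiv (W : Submodule F V) (hvW : v ∈ W) (hW : Iso B W) :
    Uni B W ≃ Uni (B.restrict (pairX B v w)) (W.comap (pairX B v w).subtype) ×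
      ((B.restrict (pairX B v w)).orthogonal (W.comap (pairX B v w).subtype)) × F where
  toFun g :=
    have hv : g.1 v = v := g.2.2.2 v hvW
    (⟨aOf hB hvw g.1, fun x y => isometry_aOf hB hvw g.2.1 hv x y,
        (nilpotent_iff hB hvw g.2.1 hv).1 g.2.2.1, fun x hx => by
          show projX hB hvw (g.1 x) = x
          rw [g.2.2.2 x hx, projX_of_mem hB hvw]⟩,
      ⟨projX hB hvw (g.1 w), LinearMap.BilinForm.mem_orthogonal_iff.2 fun x hx => by
        show B (x : V) (projX hB hvw (g.1 w) : V) = 0
        have h := g.2.1 x w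
        rw [g.2.2.2 x hx, g_w hB hvw g.2.1 hv, (pairing hB hvw x.2).2.2.2] at h
        simp only [map_add, map_smul, (pairing hB hvw x.2).2.2.1,
          (pairing hB hvw x.2).2.2.2, smul_zero, zero_add] at h
        exact h⟩,
      B (g.1 w) w)
  invFun z := ⟨build hB hvw z.1.1 z.2.1.1 z.2.2,
    build_isometry hB hvw _ _ _ fun x y => z.1.2.1 x y, by
      rw [nilpotent_iff hB hvw (build_isometry hB hvw _ _ _ fun x y => z.1.2.1 x y)
        (build_v hB hvw _ _ _), aOf_build]
      exact z.1.2.2.1, fun y hy => by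
      have hyv : B y v = 0 := hW y hy v hvW
      have hP : projX hB hvw y ∈ W.comap (pairX B v w).subtype := by
        show (projX hB hvw y : V) ∈ W
        rw [projX_coe, hyv, zero_smul, add_zero]
        exact sub_mem hy (W.smul_mem _ hvW)
      have hc : B (projX hB hvw y : V) (z.2.1.1 : V) = 0 := z.2.1.2 _ hP
      rw [build_apply, z.1.2.2.2 _ hP, hyv, hc]
      simp only [zero_mul, sub_zero, neg_zero, zero_smul, add_zero]
      conv_rhs => rw [decompose hB hvw y, hyv, zero_smul, sub_zero]⟩
  left_inv g := by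
    have hv : g.1 v = v := g.2.2.2 v hvW
    refine Subtype.ext (LinearMap.ext fun y => ?_)
    show build hB hvw (aOf hB hvw g.1) (projX hB hvw (g.1 w)) (B (g.1 w) w) y = g.1 y
    rw [decompose hB hvw y, map_add, map_add, map_sub, map_sub, map_smul, map_smul, map_smul,
      map_smul, build_v, build_w, build_mem, hv, ← g_w hB hvw g.2.1 hv,
      ← lam_eq hB hvw g.2.1 hv, ← g_of_mem hB hvw g.2.1 hv]
  right_inv z := by
    have hPv : projX hB hvw v = 0 := Subtype.ext (by simp [projX_coe, hvw, hB.alt])
    have hwv : B w v = -1 := by rw [hB.swap v w, hvw]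
    have hPw : projX hB hvw w = 0 := Subtype.ext (by simp [projX_coe, hwv, hB.alt])
    refine Prod.ext (Subtype.ext (aOf_build hB hvw _ _ _)) (Prod.ext (Subtype.ext ?_) ?_)
    · show projX hB hvw (build hB hvw z.1.1 z.2.1.1 z.2.2 w) = z.2.1.1
      rw [build_w, map_add, map_add, map_smul, hPv, hPw, smul_zero, zero_add, zero_add,
        projX_of_mem hB hvw]
    · show B (build hB hvw z.1.1 z.2.1.1 z.2.2 w) w = z.2.2
      rw [build_w]
      simp [hvw, hB.alt, (pairing hB hvw z.2.1.1.2).2.2.2]

theorem finrank_comap (W : Submodule F V) (hvW : v ∈ W) (hW : Iso B W) :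
    finrank F (W.comap (pairX B v w).subtype) + 1 = finrank F W := by
  haveI : FiniteDimensional F V := Module.Finite.of_finite
  have hmem : ∀ y : W, projX hB hvw (y : V) ∈ W.comap (pairX B v w).subtype := fun y => by
    show (projX hB hvw (y : V) : V) ∈ W
    rw [projX_coe, hW y y.2 v hvW, zero_smul, add_zero]
    exact sub_mem y.2 (W.smul_mem _ hvW)
  let e : W ≃ₗ[F] F × W.comap (pairX B v w).subtype :=
    { toFun := fun y => (B (y : V) w, ⟨projX hB hvw (y : V), hmem y⟩)
      map_add' := fun y z => Prod.ext (by simp) (Subtype.ext (map_add _ _ _))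
      map_smul' := fun c y => Prod.ext (by simp) (Subtype.ext (map_smul _ _ _))
      invFun := fun z => ⟨z.1 • v + ((z.2 : pairX B v w) : V),
        add_mem (W.smul_mem _ hvW) z.2.2⟩
      left_inv := fun y => Subtype.ext (by
        show B (y : V) w • v + (projX hB hvw (y : V) : V) = y
        conv_rhs => rw [decompose hB hvw (y : V), hW y y.2 v hvW, zero_smul, sub_zero])
      right_inv := fun z => by
        obtain ⟨-, -, h3, h4⟩ := pairing hB hvw (z.2 : pairX B v w).2
        refine Prod.ext (by simp [hvw, h4]) (Subtype.ext (Subtype.ext ?_))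
        show (projX hB hvw _ : V) = _
        rw [projX_coe]
        simp [hvw, hB.alt, h3, h4] }
  rw [LinearEquiv.finrank_eq e, Module.finrank_prod, Module.finrank_self]
  ring

end Step

/-! ### The Möbius sum -/

theorem exists_radical {g : Module.End F V} (hiso : ∀ x y, B (g x) (g y) = B x y) (hn : IsNilpotent (g - 1))
    (h1 : g ≠ 1) : ∃ r : V, r ≠ 0 ∧ g r = r ∧ ∀ x, g x = x → B x r = 0 := by
  obtain ⟨j, hj⟩ := hn
  obtain ⟨y, hy⟩ : ∃ y, (g - 1) y ≠ 0 := by
    by_contra h
    push Not at h
    exact h1 (LinearMap.ext fun y => sub_eq_zero.1 (h y))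
  classical
  have hex : ∃ i : ℕ, ((g - 1) ^ i : Module.End F V) ((g - 1) y) = 0 := ⟨j, by rw [hj]; rfl⟩
  obtain ⟨i, hi⟩ : ∃ i, Nat.find hex = i + 1 := Nat.exists_eq_succ_of_ne_zero fun h => by
    have := Nat.find_spec hex
    rw [h] at this
    exact hy this
  have hne : ((g - 1) ^ i : Module.End F V) ((g - 1) y) ≠ 0 := Nat.find_min hex (by omega)
  refine ⟨_, hne, ?_, fun x hx => ?_⟩
  · have := Nat.find_spec hex
    rw [hi, pow_succ', Module.End.mul_apply, LinearMap.sub_apply, Module.End.one_apply,
      sub_eq_zero] at this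
    exact this
  · rw [← Module.End.mul_apply, ← pow_succ, pow_succ', Module.End.mul_apply, LinearMap.sub_apply,
      Module.End.one_apply, map_sub, sub_eq_zero]
    conv_lhs => rw [← hx]
    exact hiso x _

open scoped Classical in
/-- The complements of a line in a space. -/
theorem card_complements (T : Submodule F V) {l : V} (hl : l ≠ 0) (hlT : l ∈ T) :
    Nat.card {W : Submodule F V // W ⊔ Submodule.span F {l} = T ∧ l ∉ W} =
      Fintype.card F ^ (finrank F T - 1) := by
  haveI : FiniteDimensional F V := Module.Finite.of_finite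
  set L : Submodule F T := Submodule.span F {(⟨l, hlT⟩ : T)} with hL
  have hmapL : L.map T.subtype = Submodule.span F {l} := by
    rw [hL, Submodule.map_span]; simp
  have hl' : (⟨l, hlT⟩ : T) ≠ 0 := fun h => hl (congrArg Subtype.val h)
  let e : {W : Submodule F V // W ⊔ Submodule.span F {l} = T ∧ l ∉ W} ≃
      {q : Submodule F T // IsCompl L q} :=
    { toFun := fun W => ⟨W.1.comap T.subtype, by
        constructor
        · rw [hL, disjoint_comm, Submodule.disjoint_span_singleton' hl']
          exact fun h => W.2.2 h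
        · rw [codisjoint_iff]
          refine Submodule.map_injective_of_injective (f := T.subtype) Subtype.val_injective ?_
          rw [Submodule.map_sup, Submodule.map_comap_eq, Submodule.range_subtype, hmapL,
            Submodule.map_top, Submodule.range_subtype,
            inf_eq_right.2 (le_sup_left.trans W.2.1.le), sup_comm]
          exact W.2.1⟩
      invFun := fun q => ⟨q.1.map T.subtype, by
        constructor
        · rw [← hmapL, ← Submodule.map_sup, sup_comm, q.2.sup_eq_top, Submodule.map_top,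
            Submodule.range_subtype]
        · rintro ⟨x, hx, hxl⟩
          refine hl' (Submodule.disjoint_def.1 q.2.disjoint _ (Submodule.mem_span_singleton_self _) ?_)
          rwa [show (⟨l, hlT⟩ : T) = x from Subtype.ext hxl.symm]⟩
      left_inv := fun W => Subtype.ext (by
        show (W.1.comap T.subtype).map T.subtype = W.1
        rw [Submodule.map_comap_eq, Submodule.range_subtype, inf_eq_right.2 (le_sup_left.trans W.2.1.le)])
      right_inv := fun q => Subtype.ext (Submodule.comap_map_eq_of_injective Subtype.val_injective _) }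
  rw [Nat.card_congr e, Nat.card_congr (Submodule.isComplEquivProj L)]
  obtain ⟨H, hH⟩ := Submodule.exists_isCompl L
  let e2 : {f : T →ₗ[F] L // ∀ x : L, f x = x} ≃ (H →ₗ[F] L) :=
    { toFun := fun f => f.1.comp H.subtype
      invFun := fun ψ => ⟨LinearMap.ofIsCompl hH LinearMap.id ψ,
        fun x => LinearMap.ofIsCompl_left_apply hH x⟩
      left_inv := fun f => Subtype.ext (LinearMap.ofIsCompl_eq hH
        (fun u => (f.2 u).symm) (fun u => rfl))
      right_inv := fun ψ => LinearMap.ext fun x => LinearMap.ofIsCompl_right_apply hH x }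
  haveI : Finite (H →ₗ[F] L) := Finite.of_injective _ DFunLike.coe_injective
  cases nonempty_fintype (H →ₗ[F] L)
  rw [Nat.card_congr e2, Nat.card_eq_fintype_card, Module.card_eq_pow_finrank (K := F),
    Module.finrank_linearMap, hL, finrank_span_singleton hl', mul_one]
  congr 1
  have h := Submodule.finrank_add_eq_of_isCompl hH
  rw [hL, finrank_span_singleton hl'] at h
  omega

open scoped Classical in
/-- The Möbius sum over the isotropic subspaces fixed by a nontrivial unipotent vanishes. -/
theorem mobius_zero [Fintype (Submodule F V)] {g : Module.End F V}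
    (hiso : ∀ x y, B (g x) (g y) = B x y) (hn : IsNilpotent (g - 1)) (h1 : g ≠ 1) (hB : Good B) :
    ∑ W ∈ Finset.univ.filter (fun W => Iso B W ∧ ∀ w ∈ W, g w = w),
      mu (Fintype.card F) (finrank F W) = 0 := by
  haveI : FiniteDimensional F V := Module.Finite.of_finite
  obtain ⟨r, hr, hgr, hperp⟩ := exists_radical (B := B) hiso hn h1
  set S := Finset.univ.filter (fun W : Submodule F V => Iso B W ∧ ∀ w ∈ W, g w = w) with hS
  set L := Submodule.span F {r} with hLdef
  have hup : ∀ W ∈ S, W ⊔ L ∈ S := fun W hW => by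
    obtain ⟨h1, h2⟩ := (Finset.mem_filter.1 hW).2
    refine Finset.mem_filter.2 ⟨Finset.mem_univ _, fun x hx y hy => ?_, fun x hx => ?_⟩
    · obtain ⟨a, ha, b, hb, rfl⟩ := Submodule.mem_sup.1 hx
      obtain ⟨a', ha', b', hb', rfl⟩ := Submodule.mem_sup.1 hy
      obtain ⟨s, rfl⟩ := Submodule.mem_span_singleton.1 hb
      obtain ⟨s', rfl⟩ := Submodule.mem_span_singleton.1 hb'
      simp only [map_add, map_smul, LinearMap.add_apply, LinearMap.smul_apply, smul_eq_mul,
        h1 a ha a' ha', hperp a (h2 a ha), hB.alt, hB.swap a' r, hperp a' (h2 a' ha')]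
      ring
    · obtain ⟨a, ha, b, hb, rfl⟩ := Submodule.mem_sup.1 hx
      obtain ⟨s, rfl⟩ := Submodule.mem_span_singleton.1 hb
      rw [map_add, map_smul, h2 a ha, hgr]
  rw [← Finset.sum_fiberwise_of_maps_to (g := fun W => W ⊔ L) hup]
  refine Finset.sum_eq_zero fun T hT => ?_
  obtain ⟨hT1, hT2⟩ := (Finset.mem_filter.1 hT).2
  by_cases hLT : L ≤ T
  swap
  · rw [Finset.filter_eq_empty_iff.2 fun W _ h => hLT (le_trans le_sup_right (le_of_eq h)), Finset.sum_empty]
  have hrT : r ∈ T := hLT (Submodule.mem_span_singleton_self r)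
  have hTmem : T ∈ S.filter (fun W => W ⊔ L = T) :=
    Finset.mem_filter.2 ⟨hT, sup_eq_left.2 hLT⟩
  rw [← Finset.add_sum_erase _ _ hTmem]
  obtain ⟨j, hj⟩ : ∃ j, finrank F T = j + 1 := Nat.exists_eq_succ_of_ne_zero fun h => hr (by
    rw [Submodule.finrank_eq_zero] at h
    rw [h] at hrT
    exact (Submodule.mem_bot F).1 hrT)
  have hset : (S.filter (fun W => W ⊔ L = T)).erase T =
      Finset.univ.filter (fun W => W ⊔ Submodule.span F {r} = T ∧ r ∉ W) := by
    ext W
    simp only [Finset.mem_erase, Finset.mem_filter, Finset.mem_univ, true_and]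
    constructor
    · rintro ⟨hne, -, he⟩
      refine ⟨he, fun hrW => hne ?_⟩
      rw [← he, eq_comm, sup_eq_left, hLdef, Submodule.span_singleton_le_iff_mem]
      exact hrW
    · rintro ⟨he, hrW⟩
      have hWT : W ≤ T := he ▸ le_sup_left
      exact ⟨fun h => hrW (h ▸ hrT), Finset.mem_filter.2 ⟨Finset.mem_univ _,
        fun x hx y hy => hT1 x (hWT hx) y (hWT hy), fun x hx => hT2 x (hWT hx)⟩, he⟩
  have hdim : ∀ W ∈ (S.filter (fun W => W ⊔ L = T)).erase T, finrank F W = j := by
    intro W hW
    rw [hset] at hW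
    obtain ⟨he, hrW⟩ := (Finset.mem_filter.1 hW).2
    have hdisj : W ⊓ Submodule.span F {r} = ⊥ := disjoint_iff.1
      ((Submodule.disjoint_span_singleton' hr).2 hrW)
    have h := Submodule.finrank_sup_add_finrank_inf_eq W (Submodule.span F {r})
    rw [hdisj, finrank_bot, he, hj, finrank_span_singleton hr] at h
    omega
  have hcc : ((S.filter (fun W => W ⊔ L = T)).erase T).card =
      Fintype.card F ^ (finrank F T - 1) := by
    rw [hset, ← Fintype.card_subtype, ← card_complements T hr hrT, Nat.card_eq_fintype_card]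
  rw [Finset.sum_congr rfl fun W hW => congrArg (mu _) (hdim W hW), Finset.sum_const, hcc, hj,
    nsmul_eq_mul, mu_succ]
  push_cast
  simp

/-! ### Counting isotropic subspaces -/

/-- Isotropic frames. -/
abbrev Frame (B : LinearMap.BilinForm F V) (k : ℕ) : Type v :=
  {f : Fin k → V // LinearIndependent F f ∧ ∀ i j, B (f i) (f j) = 0}

/-- Isotropic subspaces of a given dimension. -/
abbrev IsoSub (B : LinearMap.BilinForm F V) (k : ℕ) : Type v :=
  {W : Submodule F V // Iso B W ∧ finrank F W = k}

theorem iso_span {k : ℕ} {f : Fin k → V} (h : ∀ i j, B (f i) (f j) = 0) :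
    Iso B (Submodule.span F (Set.range f)) := by
  intro x hx y hy
  induction hx, hy using Submodule.span_induction₂ with
  | mem_mem x y hx hy =>
    obtain ⟨i, rfl⟩ := hx
    obtain ⟨j, rfl⟩ := hy
    exact h i j
  | zero_left y hy => simp
  | zero_right x hx => simp
  | add_left x y z hx hy hz h1 h2 => simp [h1, h2]
  | add_right x y z hx hy hz h1 h2 => simp [h1, h2]
  | smul_left r x y hx hy h1 => simp [h1]
  | smul_right r x y hx hy h1 => simp [h1]

theorem card_frame_eq (k : ℕ) : Nat.card (Frame B k) =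
    Nat.card (IsoSub B k) * ∏ i : Fin k, (Fintype.card F ^ k - Fintype.card F ^ (i : ℕ)) := by
  classical
  haveI : FiniteDimensional F V := Module.Finite.of_finite
  let Φ : (Σ W : IsoSub B k, {f : Fin k → W.1 // LinearIndependent F f}) → Frame B k := fun z =>
    ⟨fun i => (z.2.1 i : V), z.2.2.map' z.1.1.subtype (Submodule.ker_subtype _),
      fun i j => z.1.2.1 _ (z.2.1 i).2 _ (z.2.1 j).2⟩
  have hspan : ∀ z, Submodule.span F (Set.range (Φ z).1) = z.1.1 := fun z => by
    refine Submodule.eq_of_le_of_finrank_eq ?_ ?_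
    · rw [Submodule.span_le]
      rintro _ ⟨i, rfl⟩
      exact (z.2.1 i).2
    · rw [finrank_span_eq_card (Φ z).2.1, Fintype.card_fin, z.1.2.2]
  have hΦ : Function.Bijective Φ := by
    constructor
    · rintro ⟨W, f⟩ ⟨W', f'⟩ h
      obtain rfl : W = W' := Subtype.ext (by
        have h1 := hspan ⟨W, f⟩
        have h2 := hspan ⟨W', f'⟩
        rw [h] at h1
        exact h1.symm.trans h2)
      congr 1
      exact Subtype.ext (funext fun i => Subtype.ext (congrFun (congrArg Subtype.val h) i))
    · intro f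
      refine ⟨⟨⟨Submodule.span F (Set.range f.1), iso_span f.2.2, by
        rw [finrank_span_eq_card f.2.1, Fintype.card_fin]⟩,
        ⟨fun i => ⟨f.1 i, Submodule.subset_span (Set.mem_range_self i)⟩, ?_⟩⟩, rfl⟩
      exact linearIndependent_span f.2.1
  haveI : Finite (IsoSub B k) := inferInstance
  cases nonempty_fintype (IsoSub B k)
  rw [← Nat.card_eq_of_bijective Φ hΦ, Nat.card_sigma, Finset.sum_congr rfl
    (g := fun _ => ∏ i : Fin k, (Fintype.card F ^ k - Fintype.card F ^ (i : ℕ))) fun W _ => by
      cases nonempty_fintype W.1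
      rw [card_linearIndependent (K := F) (le_of_eq W.2.2.symm), W.2.2],
    Finset.sum_const, Finset.card_univ, smul_eq_mul, Nat.card_eq_fintype_card]

theorem card_frame_succ (hB : Good B) {n : ℕ} (hV : finrank F V = 2 * n) (k : ℕ) :
    Nat.card (Frame B (k + 1)) =
      Nat.card (Frame B k) * (Fintype.card F ^ (2 * n - k) - Fintype.card F ^ k) := by
  classical
  haveI : FiniteDimensional F V := Module.Finite.of_finite
  let e : Frame B (k + 1) ≃ Σ f : Frame B k,
      {x : V // x ∈ B.orthogonal (Submodule.span F (Set.range f.1)) ∧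
        x ∉ Submodule.span F (Set.range f.1)} :=
    { toFun := fun f => ⟨⟨Fin.tail f.1, f.2.1.comp _ (Fin.succ_injective _),
          fun i j => f.2.2 i.succ j.succ⟩, f.1 0,
        LinearMap.BilinForm.mem_orthogonal_iff.2 fun x hx => by
          induction hx using Submodule.span_induction with
          | mem x hx => obtain ⟨i, rfl⟩ := hx; exact f.2.2 i.succ 0
          | zero => simp
          | add x y _ _ h1 h2 => simp [h1, h2]
          | smul r x _ h1 => simp [h1],
        by
          have h := f.2.1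
          rw [← Fin.cons_self_tail f.1, linearIndependent_finCons] at h
          exact h.2⟩
      invFun := fun z => ⟨Fin.cons z.2.1 z.1.1, linearIndependent_finCons.2 ⟨z.1.2.1, z.2.2.2⟩,
        fun i j => by
          have hx : ∀ i, B (z.1.1 i) z.2.1 = 0 := fun i =>
            LinearMap.BilinForm.mem_orthogonal_iff.1 z.2.2.1 _
              (Submodule.subset_span (Set.mem_range_self i))
          refine Fin.cases ?_ (fun i => ?_) i <;> refine Fin.cases ?_ (fun j => ?_) j <;>
            simp only [Fin.cons_zero, Fin.cons_succ]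
          · exact hB.alt _
          · rw [hB.swap (z.1.1 j) z.2.1, hx j, neg_zero]
          · exact hx i
          · exact z.1.2.2 i j⟩
      left_inv := fun f => Subtype.ext (Fin.cons_self_tail f.1)
      right_inv := fun z => rfl }
  haveI : Finite (Frame B k) := inferInstance
  cases nonempty_fintype (Frame B k)
  rw [Nat.card_congr e, Nat.card_sigma, Finset.sum_congr rfl
    (g := fun _ => Fintype.card F ^ (2 * n - k) - Fintype.card F ^ k) fun f _ => ?_,
    Finset.sum_const, Finset.card_univ, smul_eq_mul, Nat.card_eq_fintype_card]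
  set U := Submodule.span F (Set.range f.1)
  have hU : finrank F U = k := by rw [finrank_span_eq_card f.2.1, Fintype.card_fin]
  have hle : U ≤ B.orthogonal U := fun y hy => LinearMap.BilinForm.mem_orthogonal_iff.2
    fun x hx => iso_span f.2.2 x hx y hy
  show Nat.card ↥((B.orthogonal U : Set V) \ (U : Set V)) = _
  rw [Nat.card_coe_set_eq, Set.ncard_diff (SetLike.coe_subset_coe.2 hle) (Set.toFinite _),
    ← Nat.card_coe_set_eq, ← Nat.card_coe_set_eq]
  show Nat.card ↥(B.orthogonal U) - Nat.card ↥U = _
  rw [card_submodule, card_submodule, hU, LinearMap.BilinForm.finrank_orthogonal hB.nd, hV, hU]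

theorem card_isoSub (hB : Good B) {n : ℕ} (hV : finrank F V = 2 * n) :
    ∀ k, k ≤ n → (Nat.card (IsoSub B k) : ℤ) = A (Fintype.card F) n k
  | 0, _ => by
    haveI : FiniteDimensional F V := Module.Finite.of_finite
    haveI : Subsingleton (IsoSub B 0) := ⟨fun W W' => Subtype.ext (by
      rw [Submodule.finrank_eq_zero.1 W.2.2, Submodule.finrank_eq_zero.1 W'.2.2])⟩
    haveI : Nonempty (IsoSub B 0) := ⟨⟨⊥, fun x hx y _ => by
      rw [(Submodule.mem_bot F).1 hx]; simp, finrank_bot F V⟩⟩
    rw [Nat.card_unique, A_zero, Nat.cast_one]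
  | k + 1, hk => by
    have ih := card_isoSub hB hV k (by omega)
    set q := Fintype.card F with hq
    have hq1 : 1 < q := Fintype.one_lt_card
    have h := card_frame_succ hB hV k
    rw [card_frame_eq, card_frame_eq, Fin.prod_univ_succ] at h
    simp only [Fin.val_zero, pow_zero, Fin.val_succ] at h
    have e1 : ∏ i : Fin k, (q ^ (k + 1) - q ^ ((i : ℕ) + 1)) =
        q ^ k * ∏ i : Fin k, (q ^ k - q ^ (i : ℕ)) := by
      rw [show q ^ k = ∏ _i : Fin k, q by simp, ← Finset.prod_mul_distrib]
      refine Finset.prod_congr rfl fun i _ => ?_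
      rw [Nat.mul_sub, pow_succ', pow_succ', show (∏ _i : Fin k, q) = q ^ k by simp]
    have hP : 0 < ∏ i : Fin k, (q ^ k - q ^ (i : ℕ)) := Finset.prod_pos fun i _ =>
      Nat.sub_pos_of_lt (Nat.pow_lt_pow_right hq1 i.2)
    rw [e1] at h
    have h' : Nat.card (IsoSub B (k + 1)) * ((q ^ (k + 1) - 1) * q ^ k) =
        Nat.card (IsoSub B k) * (q ^ (2 * n - k) - q ^ k) := by
      refine Nat.eq_of_mul_eq_mul_right hP ?_
      linarith [h]
    have h'' := congrArg (Nat.cast : ℕ → ℤ) h'
    rw [Nat.cast_mul, Nat.cast_mul, Nat.cast_mul, Nat.cast_sub (Nat.one_le_pow _ _ (by omega)),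
      Nat.cast_sub (Nat.pow_le_pow_right (by omega) (by omega : k ≤ 2 * n - k)), Nat.cast_pow,
      Nat.cast_pow, Nat.cast_pow, Nat.cast_one, ih,
      show 2 * n - k = k + 2 * (n - k) by omega, pow_add] at h''
    have hne : ((q : ℤ) ^ (k + 1) - 1) * (q : ℤ) ^ k ≠ 0 := mul_ne_zero
      (sub_ne_zero.2 (ne_of_gt (one_lt_pow₀ (by exact_mod_cast hq1) (by omega))))
      (pow_ne_zero _ (by exact_mod_cast (by omega : q ≠ 0)))
    refine mul_right_cancel₀ hne ?_
    linear_combination h'' + (-(q : ℤ) ^ k) * A_ratio (q : ℤ) n k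

/-- The number of unipotent isometries fixing an isotropic subspace. -/
theorem card_uni : ∀ (n : ℕ) {V : Type v} [AddCommGroup V] [Module F V] [Finite V]
    {B : LinearMap.BilinForm F V}, Good B → finrank F V = 2 * n → ∀ W : Submodule F V, Iso B W →
      Nat.card (Uni B W) = Fintype.card F ^ ex n (finrank F W) := by
  intro n
  induction n using Nat.strong_induction_on with
  | _ n ih =>
  intro V _ _ _ B hB hV
  classical
  haveI : FiniteDimensional F V := Module.Finite.of_finite
  set q := Fintype.card F with hq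
  have hpos : ∀ W : Submodule F V, Iso B W → W ≠ ⊥ →
      Nat.card (Uni B W) = q ^ ex n (finrank F W) := by
    intro W hW hne
    obtain ⟨v, hvW, hv⟩ := Submodule.exists_mem_ne_zero_of_ne_bot hne
    obtain ⟨y, hy⟩ : ∃ y, B v y ≠ 0 := by
      by_contra h
      push Not at h
      exact hv (hB.nondeg v h)
    set w := (B v y)⁻¹ • y
    have hvw : B v w = 1 := by simp [w, hy]
    have hX := finrank_pairX hB hvw
    obtain ⟨n', rfl⟩ : ∃ n', n = n' + 1 := ⟨n - 1, by omega⟩
    have hV' : finrank F (pairX B v w) = 2 * n' := by omega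
    have hW' : Iso (B.restrict (pairX B v w)) (W.comap (pairX B v w).subtype) :=
      fun a ha b hb => hW _ ha _ hb
    have hk := finrank_comap hB hvw W hvW hW
    set k := finrank F (W.comap (pairX B v w).subtype)
    have hle : k ≤ n' := finrank_le_of_iso (good_restrict hB hvw) hV' hW'
    rw [Nat.card_congr (uniEquiv hB hvw W hvW hW), Nat.card_prod, Nat.card_prod,
      ih n' (Nat.lt_succ_self _) (good_restrict hB hvw) hV' _ hW', card_submodule,
      LinearMap.BilinForm.finrank_orthogonal (good_restrict hB hvw).nd, hV', ← hk,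
      ex_succ hle, Nat.card_eq_fintype_card, ← hq, pow_add, pow_succ]
  intro W hW
  by_cases hne : W = ⊥
  swap
  · exact hpos W hW hne
  subst hne
  rw [finrank_bot F V]
  -- double counting
  haveI : Finite (Module.End F V) := Finite.of_injective _ DFunLike.coe_injective
  haveI : Finite (Uni B (⊥ : Submodule F V)) := Subtype.finite
  cases nonempty_fintype (Uni B (⊥ : Submodule F V))
  cases nonempty_fintype (Submodule F V)
  set IS := Finset.univ.filter (fun W : Submodule F V => Iso B W) with hIS
  have hone : Iso B (⊥ : Submodule F V) := fun x hx y _ => by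
    rw [(Submodule.mem_bot F).1 hx]; simp
  let g₀ : Uni B (⊥ : Submodule F V) := ⟨1, fun x y => rfl, ⟨1, by simp⟩, fun _ _ => rfl⟩
  have hLHS : ∑ g : Uni B (⊥ : Submodule F V), ∑ W ∈ IS.filter (fun W => ∀ w ∈ W, g.1 w = w),
      mu (q : ℤ) (finrank F W) = ∑ W ∈ IS, mu (q : ℤ) (finrank F W) := by
    rw [Finset.sum_eq_single g₀]
    · rw [Finset.filter_true_of_mem]
      exact fun W _ w _ => rfl
    · intro g _ hg
      have h1 : g.1 ≠ 1 := fun h => hg (Subtype.ext h)
      rw [hIS, Finset.filter_filter]
      exact mobius_zero g.2.1 g.2.2.1 h1 hB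
    · exact fun h => absurd (Finset.mem_univ _) h
  have hRHS : ∑ g : Uni B (⊥ : Submodule F V), ∑ W ∈ IS.filter (fun W => ∀ w ∈ W, g.1 w = w),
      mu (q : ℤ) (finrank F W) =
        ∑ W ∈ IS, mu (q : ℤ) (finrank F W) * (Nat.card (Uni B W) : ℤ) := by
    simp only [Finset.sum_filter]
    rw [Finset.sum_comm]
    refine Finset.sum_congr rfl fun W _ => ?_
    rw [← Finset.sum_filter, Finset.sum_const, nsmul_eq_mul, mul_comm]
    congr 2
    rw [← Fintype.card_subtype, ← Nat.card_eq_fintype_card]
    exact Nat.card_congr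
      { toFun := fun g => ⟨g.1.1, g.1.2.1, g.1.2.2.1, g.2⟩
        invFun := fun g => ⟨⟨g.1, g.2.1, g.2.2.1, fun w hw => by
          rw [(Submodule.mem_bot F).1 hw, map_zero]⟩, g.2.2.2⟩
        left_inv := fun g => rfl
        right_inv := fun g => rfl }
  -- group by dimension
  have hmaps : ∀ W : Submodule F V, W ∈ IS → finrank F W ∈ Finset.range (n + 1) := fun W hW =>
    Finset.mem_range.2 (Nat.lt_succ_of_le (finrank_le_of_iso hB hV (Finset.mem_filter.1 hW).2))
  have hcardk : ∀ k ∈ Finset.range (n + 1),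
      ((IS.filter (fun W : Submodule F V => finrank F W = k)).card : ℤ) = A (q : ℤ) n k := fun k hk => by
    rw [← card_isoSub hB hV k (Nat.lt_succ_iff.1 (Finset.mem_range.1 hk)), hIS,
      Finset.filter_filter, Nat.card_eq_fintype_card, Fintype.card_subtype]
  have hgroup : ∀ f : ℕ → ℤ, ∑ W ∈ IS, f (finrank F W) =
      ∑ k ∈ Finset.range (n + 1), A (q : ℤ) n k * f k := fun f => by
    rw [← Finset.sum_fiberwise_of_maps_to hmaps]
    refine Finset.sum_congr rfl fun k hk => ?_
    rw [Finset.sum_congr rfl (g := fun _ => f k) fun W hW => by rw [(Finset.mem_filter.1 hW).2],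
      Finset.sum_const, nsmul_eq_mul, hcardk k hk]
  have hbotmem : (⊥ : Submodule F V) ∈ IS := Finset.mem_filter.2 ⟨Finset.mem_univ _, hone⟩
  have e1 : ∑ W ∈ IS, mu (q : ℤ) (finrank F W) * (q : ℤ) ^ ex n (finrank F W) = S1 (q : ℤ) n := by
    rw [hgroup (fun k => mu (q : ℤ) k * (q : ℤ) ^ ex n k), S1]
    refine Finset.sum_congr rfl fun k _ => ?_
    rw [mu, mul_assoc ((-1) ^ k), ← pow_add, choose_add_ex]
    ring
  have e2 : ∑ W ∈ IS, mu (q : ℤ) (finrank F W) = S2 (q : ℤ) n := by
    rw [hgroup (fun k => mu (q : ℤ) k), S2]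
    refine Finset.sum_congr rfl fun k _ => ?_
    rw [mu]
    ring
  have heq := (hRHS.symm.trans hLHS).trans (e2.trans ((S1_eq_S2 (q : ℤ) n).symm.trans e1.symm))
  rw [← Finset.add_sum_erase _ _ hbotmem, ← Finset.add_sum_erase _ _ hbotmem,
    Finset.sum_congr rfl
      (g := fun W : Submodule F V => mu (q : ℤ) (finrank F W) * (q : ℤ) ^ ex n (finrank F W))
      fun W hW => by
        rw [hpos W (Finset.mem_filter.1 (Finset.mem_of_mem_erase hW)).2 (Finset.ne_of_mem_erase hW),
          Nat.cast_pow],
    add_left_inj, finrank_bot F V] at heq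
  simp only [mu, pow_zero, Nat.choose_zero_succ, one_mul] at heq
  exact_mod_cast heq

end Cfsg.Agent.Char.SpUni
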