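import Cfsg.Agent.Lib.Char.TICore

/-!
Signed triples indexed by a rectangle, at least four by two, are the sums of a row point, a column
point and a private point.
-/

namespace Cfsg.Agent.Char.TICore

set_option linter.unusedSectionVars false

variable {ι : Type*} [Fintype ι] [DecidableEq ι]

theorem exists_second {a b : ι → ℤ} (h : ∑ u, a u * b u = 0) {u : ι} (hu : a u ≠ 0) (hu' : b u ≠ 0) :
    ∃ w, w ≠ u ∧ a w ≠ 0 ∧ b w ≠ 0 := by
  by_contra hno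
  push Not at hno
  rw [Finset.sum_eq_single u (fun w _ hw => by
    by_cases hw' : a w = 0
    · rw [hw', zero_mul]
    · rw [hno w hw hw', mul_zero]) (fun hh => absurd (Finset.mem_univ u) hh)] at h
  exact mul_ne_zero hu hu' h

theorem Tri.exists_third {a : ι → ℤ} (h : Tri a) (x y : ι) : ∃ z, z ≠ x ∧ z ≠ y ∧ a z ≠ 0 := by
  obtain ⟨z, hz, hz'⟩ := Finset.exists_mem_notMem_of_card_lt_card
    (s := ({x, y} : Finset ι)) (t := Finset.univ.filter fun u => a u ≠ 0)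
    (lt_of_le_of_lt Finset.card_le_two (by rw [h.card]; norm_num))
  simp only [Finset.mem_insert, Finset.mem_singleton, not_or] at hz'
  exact ⟨z, hz'.1, hz'.2, (Finset.mem_filter.1 hz).2⟩

theorem exists_three {J : Type*} [Fintype J] (h : 4 ≤ Fintype.card J) (j : J) :
    ∃ k l m : J, k ≠ l ∧ k ≠ m ∧ l ≠ m ∧ j ≠ k ∧ j ≠ l ∧ j ≠ m := by
  classical
  obtain ⟨k, hk⟩ := Finset.exists_mem_notMem_of_card_lt_card (s := ({j} : Finset J))
    (t := Finset.univ) (by rw [Finset.card_univ, Finset.card_singleton]; omega)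
  obtain ⟨l, hl⟩ := Finset.exists_mem_notMem_of_card_lt_card (s := ({j, k} : Finset J))
    (t := Finset.univ) (lt_of_le_of_lt Finset.card_le_two (by rw [Finset.card_univ]; omega))
  obtain ⟨m, hm⟩ := Finset.exists_mem_notMem_of_card_lt_card (s := ({j, k, l} : Finset J))
    (t := Finset.univ) (lt_of_le_of_lt Finset.card_le_three (by rw [Finset.card_univ]; omega))
  simp only [Finset.mem_insert, Finset.mem_singleton, not_or] at hk hl hm
  exact ⟨k, l, m, Ne.symm hl.2.2, Ne.symm hm.2.2.1, Ne.symm hm.2.2.2, Ne.symm hk.2, Ne.symm hl.2.1,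
    Ne.symm hm.2.1⟩

/-- A line and a parallel line. -/
structure Row {J : Type*} (a b : J → ι → ℤ) : Prop where
  ta : ∀ j, Tri (a j)
  tb : ∀ j, Tri (b j)
  oa : ∀ j k, j ≠ k → One (a j) (a k)
  ob : ∀ j k, j ≠ k → One (b j) (b k)
  oab : ∀ j, One (a j) (b j)
  orth : ∀ j k, j ≠ k → ∑ u, a j u * b k u = 0

namespace Row

variable {J : Type*} {a b : J → ι → ℤ}

theorem eq' (R : Row a b) {j k : J} (h : j ≠ k) {u v : ι} (h1 : a j u ≠ 0) (h2 : a k u ≠ 0)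
    (h3 : a j v ≠ 0) (h4 : a k v ≠ 0) : u = v := (R.oa j k h).unique h1 h2 h3 h4

theorem no_conc (R : Row a b) {j₁ j₂ j₃ j₄ : J} (h12 : j₁ ≠ j₂) (h13 : j₁ ≠ j₃) (h14 : j₁ ≠ j₄)
    (h23 : j₂ ≠ j₃) (h24 : j₂ ≠ j₄) (h34 : j₃ ≠ j₄) {x p : ι} (x1 : a j₁ x ≠ 0) (x2 : a j₂ x ≠ 0)
    (x3 : a j₃ x ≠ 0) (x4 : a j₄ x = 0) (p1 : a j₁ p ≠ 0) (p4 : a j₄ p ≠ 0) (bp : b j₄ p ≠ 0) :
    False := by
  obtain ⟨p₂, p22, p24⟩ := (R.oa j₂ j₄ h24).exists_common
  obtain ⟨p₃, p33, p34⟩ := (R.oa j₃ j₄ h34).exists_common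
  have ne4 : ∀ {u}, a j₄ u ≠ 0 → x ≠ u := fun hu e => hu (e ▸ x4)
  have nx := ne4 p4
  have nx2 := ne4 p24
  have nx3 := ne4 p34
  obtain ⟨q₁, q1x, q1p, q11⟩ := (R.ta j₁).exists_third x p
  obtain ⟨q₂, q2x, q2p, q22⟩ := (R.ta j₂).exists_third x p₂
  obtain ⟨q₃, q3x, q3p, q33⟩ := (R.ta j₃).exists_third x p₃
  have k12 : ∀ {u}, a j₁ u ≠ 0 → a j₂ u ≠ 0 → u = x := fun h h' => R.eq' h12 h h' x1 x2
  have k13 : ∀ {u}, a j₁ u ≠ 0 → a j₃ u ≠ 0 → u = x := fun h h' => R.eq' h13 h h' x1 x3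
  have k23 : ∀ {u}, a j₂ u ≠ 0 → a j₃ u ≠ 0 → u = x := fun h h' => R.eq' h23 h h' x2 x3
  have nd : [x, p, q₁, p₂, q₂, p₃, q₃].Nodup := by
    simp only [List.nodup_cons, List.mem_cons, List.not_mem_nil, not_or, or_false, List.nodup_nil,
      and_true, not_false_eq_true]
    exact ⟨⟨nx, Ne.symm q1x, nx2, Ne.symm q2x, nx3, Ne.symm q3x⟩,
      ⟨Ne.symm q1p, fun e => nx (k12 p1 (e ▸ p22)).symm, fun e => nx (k12 p1 (e ▸ q22)).symm,
        fun e => nx (k13 p1 (e ▸ p33)).symm, fun e => nx (k13 p1 (e ▸ q33)).symm⟩,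
      ⟨fun e => q1x (k12 q11 (e ▸ p22)), fun e => q1x (k12 q11 (e ▸ q22)),
        fun e => q1x (k13 q11 (e ▸ p33)), fun e => q1x (k13 q11 (e ▸ q33))⟩,
      ⟨Ne.symm q2p, fun e => nx2 (k23 p22 (e ▸ p33)).symm, fun e => nx2 (k23 p22 (e ▸ q33)).symm⟩,
      ⟨fun e => q2x (k23 q22 (e ▸ p33)), fun e => q2x (k23 q22 (e ▸ q33))⟩, Ne.symm q3p⟩
  have C : Conc (a j₁) (a j₂) (a j₃) (a j₄) x p q₁ p₂ q₂ p₃ q₃ :=
    ⟨R.ta _, R.ta _, R.ta _, R.ta _, nd, (R.oa _ _ h12).eq_one x1 x2, (R.oa _ _ h13).eq_one x1 x3,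
      (R.oa _ _ h23).eq_one x2 x3, (R.oa _ _ h14).eq_one p1 p4, (R.oa _ _ h24).eq_one p22 p24,
      (R.oa _ _ h34).eq_one p33 p34, q11, q22, q33⟩
  exact C.false (R.tb j₁) (R.tb j₂) (R.tb j₃) (R.tb j₄) (R.ob _ _ h12) (R.ob _ _ h13) (R.ob _ _ h14)
    (R.ob _ _ h24) (R.ob _ _ h34) (R.oab _) (R.orth _ _ h12.symm) (R.orth _ _ h13.symm)
    (R.orth _ _ h14.symm) (R.oab _) (R.orth _ _ h12) (R.orth _ _ h23.symm) (R.orth _ _ h24.symm)
    (R.oab _) (R.orth _ _ h13) (R.orth _ _ h23) (R.orth _ _ h34.symm) (R.oab _) (R.orth _ _ h14)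
    (R.orth _ _ h24) (R.orth _ _ h34) ((R.oab _).eq_one p4 bp)

theorem fourth (R : Row a b) {j₁ j₂ j₃ j₄ : J} (h12 : j₁ ≠ j₂) (h13 : j₁ ≠ j₃) (h14 : j₁ ≠ j₄)
    (h23 : j₂ ≠ j₃) (h24 : j₂ ≠ j₄) (h34 : j₃ ≠ j₄) {x : ι} (x1 : a j₁ x ≠ 0) (x2 : a j₂ x ≠ 0)
    (x3 : a j₃ x ≠ 0) : a j₄ x ≠ 0 := by
  intro x4
  obtain ⟨v, hv, hv'⟩ := (R.oab j₄).exists_common
  obtain ⟨p₁, p11, p14⟩ := (R.oa j₁ j₄ h14).exists_common
  obtain ⟨p₂, p22, p24⟩ := (R.oa j₂ j₄ h24).exists_common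
  obtain ⟨p₃, p33, p34⟩ := (R.oa j₃ j₄ h34).exists_common
  have n12 : p₁ ≠ p₂ := fun e => p14 ((R.eq' h12 p11 (e ▸ p22) x1 x2).symm ▸ x4)
  have n13 : p₁ ≠ p₃ := fun e => p14 ((R.eq' h13 p11 (e ▸ p33) x1 x3).symm ▸ x4)
  have n23 : p₂ ≠ p₃ := fun e => p24 ((R.eq' h23 p22 (e ▸ p33) x2 x3).symm ▸ x4)
  rcases (R.ta j₄).cover n12 n13 n23 p14 p24 p34 v hv with rfl | rfl | rfl
  · exact R.no_conc h12 h13 h14 h23 h24 h34 x1 x2 x3 x4 p11 hv hv'
  · exact R.no_conc h23 h12.symm h24 h13.symm h34 h14 x2 x3 x1 x4 p22 hv hv'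
  · exact R.no_conc h13.symm h23.symm h34 h12 h14 h24 x3 x1 x2 x4 p33 hv hv'

theorem no_general (R : Row a b) {j₁ j₂ j₃ j₄ : J} (h12 : j₁ ≠ j₂) (h13 : j₁ ≠ j₃) (h14 : j₁ ≠ j₄)
    (h23 : j₂ ≠ j₃) (h24 : j₂ ≠ j₄) (h34 : j₃ ≠ j₄)
    (n123 : ∀ u, a j₁ u ≠ 0 → a j₂ u ≠ 0 → a j₃ u = 0)
    (n124 : ∀ u, a j₁ u ≠ 0 → a j₂ u ≠ 0 → a j₄ u = 0)
    (n134 : ∀ u, a j₁ u ≠ 0 → a j₃ u ≠ 0 → a j₄ u = 0)
    (n234 : ∀ u, a j₂ u ≠ 0 → a j₃ u ≠ 0 → a j₄ u = 0)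
    {x : ι} (x1 : a j₁ x ≠ 0) (x2 : a j₂ x ≠ 0) (bx : b j₁ x ≠ 0) : False := by
  obtain ⟨y, y1, y3⟩ := (R.oa j₁ j₃ h13).exists_common
  obtain ⟨z, z2, z3⟩ := (R.oa j₂ j₃ h23).exists_common
  obtain ⟨p, p1, p4⟩ := (R.oa j₁ j₄ h14).exists_common
  obtain ⟨q, q2, q4⟩ := (R.oa j₂ j₄ h24).exists_common
  obtain ⟨r, r3, r4⟩ := (R.oa j₃ j₄ h34).exists_common
  refine no_complete (R.ta j₁) (R.ta j₂) (R.ta j₃) (R.ta j₄) (R.tb j₁) ?_
    ((R.oa _ _ h12).eq_one x1 x2) ((R.oa _ _ h13).eq_one y1 y3) ((R.oa _ _ h23).eq_one z2 z3)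
    ((R.oa _ _ h24).eq_one q2 q4) ((R.oa _ _ h34).eq_one r3 r4) ((R.oa _ _ h14).eq_one p1 p4)
    (R.oab _) (R.orth _ _ h12.symm) (R.orth _ _ h13.symm) (R.orth _ _ h14.symm)
    ((R.oab _).eq_one x1 bx)
  simp only [List.nodup_cons, List.mem_cons, List.not_mem_nil, not_or, or_false, List.nodup_nil,
    and_true, not_false_eq_true]
  exact ⟨⟨fun e => y3 (e ▸ n123 x x1 x2), fun e => z3 (e ▸ n123 x x1 x2),
      fun e => p4 (e ▸ n124 x x1 x2), fun e => q4 (e ▸ n124 x x1 x2),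
      fun e => r4 (e ▸ n124 x x1 x2)⟩,
    ⟨fun e => z3 (n123 z (e ▸ y1) z2), fun e => p4 (e ▸ n134 y y1 y3),
      fun e => q4 (e ▸ n134 y y1 y3), fun e => r4 (e ▸ n134 y y1 y3)⟩,
    ⟨fun e => p4 (e ▸ n234 z z2 z3), fun e => q4 (e ▸ n234 z z2 z3),
      fun e => r4 (e ▸ n234 z z2 z3)⟩,
    ⟨fun e => q4 (n124 q (e ▸ p1) q2), fun e => r4 (n134 r (e ▸ p1) r3)⟩,
    fun e => r4 (n234 r (e ▸ q2) r3)⟩

/-- A line of at least four has a common point. -/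
theorem exists_point [Fintype J] (R : Row a b) (h : 4 ≤ Fintype.card J) :
    ∃ x, ∀ j, a j x ≠ 0 := by
  classical
  obtain ⟨j₀⟩ : Nonempty J := Fintype.card_pos_iff.1 (by omega)
  obtain ⟨j₁, -, -, -, -, -, h01, -, -⟩ := exists_three h j₀
  obtain ⟨x, x0, x1⟩ := (R.oa j₀ j₁ h01).exists_common
  refine ⟨x, fun j₂ x2 => ?_⟩
  have h02 : j₀ ≠ j₂ := fun e => x0 (e ▸ x2)
  have h12 : j₁ ≠ j₂ := fun e => x1 (e ▸ x2)
  obtain ⟨j₃, h03, h13, h23⟩ : ∃ j₃, j₀ ≠ j₃ ∧ j₁ ≠ j₃ ∧ j₂ ≠ j₃ := by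
    obtain ⟨m, -, hm⟩ := Finset.exists_mem_notMem_of_card_lt_card
      (s := ({j₀, j₁, j₂} : Finset J)) (t := Finset.univ)
      (lt_of_le_of_lt Finset.card_le_three (by rw [Finset.card_univ]; omega))
    simp only [Finset.mem_insert, Finset.mem_singleton, not_or] at hm
    exact ⟨m, Ne.symm hm.1, Ne.symm hm.2.1, Ne.symm hm.2.2⟩
  have n012 : ∀ u, a j₀ u ≠ 0 → a j₁ u ≠ 0 → a j₂ u = 0 := fun u u0 u1 =>
    R.eq' h01 u0 u1 x0 x1 ▸ x2
  have n013 : ∀ u, a j₀ u ≠ 0 → a j₁ u ≠ 0 → a j₃ u = 0 := fun u u0 u1 => by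
    by_contra u3
    exact R.fourth h01 h03 h02 h13 h12 h23.symm u0 u1 u3 (n012 u u0 u1)
  have n023 : ∀ u, a j₀ u ≠ 0 → a j₂ u ≠ 0 → a j₃ u = 0 := fun u u0 u2 => by
    by_contra u3
    exact R.fourth h02 h03 h01 h23 h12.symm h13.symm u0 u2 u3
      (by_contra fun u1 => u2 (n012 u u0 u1))
  have n123 : ∀ u, a j₁ u ≠ 0 → a j₂ u ≠ 0 → a j₃ u = 0 := fun u u1 u2 => by
    by_contra u3
    exact R.fourth h12 h13 h01.symm h23 h02.symm h03.symm u1 u2 u3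
      (by_contra fun u0 => u2 (n012 u u0 u1))
  obtain ⟨v, hv, hv'⟩ := (R.oab j₀).exists_common
  obtain ⟨y, y0, y2⟩ := (R.oa j₀ j₂ h02).exists_common
  obtain ⟨p, p0, p3⟩ := (R.oa j₀ j₃ h03).exists_common
  have nxy : x ≠ y := fun e => y2 (e ▸ x2)
  have nxp : x ≠ p := fun e => p3 (e ▸ n013 x x0 x1)
  have nyp : y ≠ p := fun e => p3 (e ▸ n023 y y0 y2)
  have sw : ∀ {i j k : J}, (∀ u, a i u ≠ 0 → a j u ≠ 0 → a k u = 0) →
      ∀ u, a i u ≠ 0 → a k u ≠ 0 → a j u = 0 := fun hh u hi hk =>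
    by_contra fun hj => hk (hh u hi hj)
  rcases (R.ta j₀).cover nxy nxp nyp x0 y0 p0 v hv with rfl | rfl | rfl
  · exact R.no_general h01 h02 h03 h12 h13 h23 n012 n013 n023 n123 hv x1 hv'
  · exact R.no_general h02 h01 h03 h12.symm h23 h13 (sw n012) n023 n013
      (fun u h2 h1 => n123 u h1 h2) hv y2 hv'
  · exact R.no_general h03 h02 h01 h23.symm h13.symm h12.symm (sw n023) (sw n013) (sw n012)
      (fun u h3 h2 => by_contra fun h1 => h3 (n123 u h1 h2)) hv p3 hv'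

end Row

/-- Two in a line agree in one place, two out of line are orthogonal. -/
structure Grid {I J : Type*} (a : I → J → ι → ℤ) : Prop where
  tri : ∀ i j, Tri (a i j)
  row : ∀ i j k, j ≠ k → One (a i j) (a i k)
  col : ∀ i k j, i ≠ k → One (a i j) (a k j)
  off : ∀ i k j l, i ≠ k → j ≠ l → ∑ u, a i j u * a k l u = 0

theorem Grid.swap {I J : Type*} {a : I → J → ι → ℤ} (h : Grid a) : Grid fun j i => a i j :=
  ⟨fun j i => h.tri i j, fun j i k hik => h.col i k j hik, fun j k i hjk => h.row i j k hjk,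
    fun j l i k hjl hik => h.off i k j l hik hjl⟩

theorem Grid.toRow {I J : Type*} {a : I → J → ι → ℤ} (h : Grid a) {i k : I} (hik : i ≠ k) :
    Row (a i) (a k) :=
  ⟨h.tri i, h.tri k, h.row i, h.row k, fun j => h.col i k j hik, fun j l hjl => h.off i k j l hik hjl⟩

/-- The shape of a rectangle of signed triples. -/
theorem Grid.exists_frame {I J : Type*} [Fintype I] [Fintype J] {a : I → J → ι → ℤ} (h : Grid a)
    (hJ : 4 ≤ Fintype.card J) (hI : Fintype.card I = 2 ∨ 4 ≤ Fintype.card I) :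
    ∃ (e : I ⊕ J ⊕ (I × J) → ι) (σ : I ⊕ J ⊕ (I × J) → ℤ), Function.Injective e ∧
      (∀ k, σ k = 1 ∨ σ k = -1) ∧
      ∀ i j u, a i j u = (if u = e (.inl i) then σ (.inl i) else 0) +
        (if u = e (.inr (.inl j)) then σ (.inr (.inl j)) else 0) +
        (if u = e (.inr (.inr (i, j))) then σ (.inr (.inr (i, j))) else 0) := by
  classical
  have hI2 : ∀ i : I, ∃ k, i ≠ k := fun i =>
    (Fintype.exists_ne_of_one_lt_card (by omega) i).imp fun _ h => Ne.symm h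
  choose other hother using hI2
  obtain ⟨j₀⟩ : Nonempty J := Fintype.card_pos_iff.1 (by omega)
  obtain ⟨i₀⟩ : Nonempty I := Fintype.card_pos_iff.1 (by omega)
  choose r hr using fun i => (h.toRow (hother i)).exists_point hJ
  have hB : ∀ i k j, i ≠ k → a k j (r i) = 0 := by
    intro i k j hik
    by_contra hne
    obtain ⟨l₁, l₂, l₃, n12, n13, n23, n01, n02, n03⟩ := exists_three hJ j
    obtain ⟨w₁, e1, g1, g1'⟩ := exists_second (h.off i k l₁ j hik n01.symm) (hr i l₁) hne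
    obtain ⟨w₂, e2, g2, g2'⟩ := exists_second (h.off i k l₂ j hik n02.symm) (hr i l₂) hne
    obtain ⟨w₃, e3, g3, g3'⟩ := exists_second (h.off i k l₃ j hik n03.symm) (hr i l₃) hne
    exact (h.tri k j).not_four (Ne.symm e1) (Ne.symm e2) (Ne.symm e3)
      (fun e => e1 ((h.row i l₁ l₂ n12).unique g1 (e ▸ g2) (hr i l₁) (hr i l₂)))
      (fun e => e1 ((h.row i l₁ l₃ n13).unique g1 (e ▸ g3) (hr i l₁) (hr i l₃)))
      (fun e => e2 ((h.row i l₂ l₃ n23).unique g2 (e ▸ g3) (hr i l₂) (hr i l₃)))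
      hne g1' g2' g3'
  have hC : ∀ i k j l u, j ≠ l → (∀ m, u ≠ r m) → a i j u ≠ 0 → a k l u = 0 := by
    intro i k j l u hjl hu h1
    by_contra h2
    by_cases hik : i = k
    · subst hik
      exact hu i ((h.row i j l hjl).unique h1 h2 (hr i j) (hr i l))
    obtain ⟨w, hwu, w1, w2⟩ := exists_second (h.off i k j l hik hjl) h1 h2
    have wi : w ≠ r i := fun e => w2 (e ▸ hB i k l hik)
    have wk : w ≠ r k := fun e => w1 (e ▸ hB k i j (Ne.symm hik))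
    obtain ⟨v, v1, v2⟩ := (h.col i k l hik).exists_common
    have vi : v ≠ r i := fun e => v2 (e ▸ hB i k l hik)
    rcases (h.tri k l).cover (Ne.symm (hu k)) (Ne.symm wk) (Ne.symm hwu) (hr k l) h2 w2 v v2 with
      rfl | rfl | rfl
    · exact v1 (hB k i l (Ne.symm hik))
    · exact vi ((h.row i j l hjl).unique h1 v1 (hr i j) (hr i l))
    · exact vi ((h.row i j l hjl).unique w1 v1 (hr i j) (hr i l))
  have hcex : ∀ j, ∃ c, ∀ i, a i j c ≠ 0 := by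
    intro j
    rcases hI with h2 | h4
    · obtain ⟨c, c1, c2⟩ := (h.col i₀ (other i₀) j (hother i₀)).exists_common
      refine ⟨c, fun i => ?_⟩
      have hu : (Finset.univ : Finset I) = {i₀, other i₀} :=
        (Finset.eq_univ_of_card _ (by rw [Finset.card_pair (hother i₀), h2])).symm
      have := hu ▸ Finset.mem_univ i
      simp only [Finset.mem_insert, Finset.mem_singleton] at this
      rcases this with rfl | rfl <;> assumption
    · obtain ⟨l, hl⟩ := Fintype.exists_ne_of_one_lt_card (by omega : 1 < Fintype.card J) j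
      exact (h.swap.toRow (Ne.symm hl)).exists_point h4
  choose c hc using hcex
  have hcr : ∀ j m, c j ≠ r m := fun j m e =>
    hc j (other m) (e ▸ hB m (other m) j (hother m))
  choose d d1 d2 d3 using fun i j => (h.tri i j).exists_third (r i) (c j)
  have hdr : ∀ i j m, d i j ≠ r m := by
    intro i j m e
    by_cases him : m = i
    · exact d1 i j (him ▸ e)
    · exact d3 i j (e ▸ hB m i j him)
  refine ⟨Sum.elim r (Sum.elim c fun p => d p.1 p.2),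
    Sum.elim (fun i => a i j₀ (r i)) (Sum.elim (fun j => a i₀ j (c j))
      fun p => a p.1 p.2 (d p.1 p.2)), ?_, ?_, fun i j u => ?_⟩
  · refine Function.Injective.sumElim ?_ (Function.Injective.sumElim ?_ ?_ ?_) ?_
    · intro i k e
      by_contra hne
      exact hr k j₀ (e ▸ hB i k j₀ hne)
    · intro j l e
      by_contra hne
      exact hc l i₀ (e ▸ hC i₀ i₀ j l (c j) hne (hcr j) (hc j i₀))
    · rintro ⟨i, j⟩ ⟨k, l⟩ e
      dsimp only at e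
      by_cases hjl : j = l
      · subst hjl
        by_cases hik : i = k
        · rw [hik]
        · exact absurd ((h.col i k j hik).unique (d3 i j) (e ▸ d3 k j) (hc j i) (hc j k)) (d2 i j)
      · exact absurd (e ▸ hC i k j l (d i j) hjl (hdr i j) (d3 i j)) (d3 k l)
    · rintro j ⟨i, l⟩ e
      dsimp only at e
      by_cases hjl : j = l
      · exact d2 i l (hjl ▸ e.symm)
      · exact d3 i l (e ▸ hC i i j l (c j) hjl (hcr j) (hc j i))
    · rintro i (j | ⟨k, l⟩) e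
      · exact hcr j i e.symm
      · exact hdr k l i e.symm
  · rintro (i | j | ⟨i, j⟩)
    · exact (h.tri i j₀).val (hr i j₀)
    · exact (h.tri i₀ j).val (hc j i₀)
    · exact (h.tri i j).val (d3 i j)
  · have er : a i j₀ (r i) = a i j (r i) := by
      by_cases hj : j₀ = j
      · rw [hj]
      · rcases Int.mul_eq_one_iff_eq_one_or_neg_one.1 ((h.row i j₀ j hj).eq_one (hr i j₀) (hr i j))
          with ⟨h1, h2⟩ | ⟨h1, h2⟩ <;> rw [h1, h2]
    have ec : a i₀ j (c j) = a i j (c j) := by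
      by_cases hi : i₀ = i
      · rw [hi]
      · rcases Int.mul_eq_one_iff_eq_one_or_neg_one.1 ((h.col i₀ i j hi).eq_one (hc j i₀) (hc j i))
          with ⟨h1, h2⟩ | ⟨h1, h2⟩ <;> rw [h1, h2]
    simp only [Sum.elim_inl, Sum.elim_inr, er, ec]
    by_cases hu : a i j u = 0
    · have n1 : u ≠ r i := by rintro rfl; exact hr i j hu
      have n2 : u ≠ c j := by rintro rfl; exact hc j i hu
      have n3 : u ≠ d i j := by rintro rfl; exact d3 i j hu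
      simp [hu, n1, n2, n3]
    · rcases (h.tri i j).cover (hcr j i).symm (Ne.symm (d1 i j)) (Ne.symm (d2 i j)) (hr i j) (hc j i)
        (d3 i j) u hu with rfl | rfl | rfl
      · simp [(hcr j i).symm, Ne.symm (d1 i j)]
      · simp [hcr j i, Ne.symm (d2 i j)]
      · simp [d1 i j, d2 i j]

/-- The shape, whichever side is long. -/
theorem Grid.exists_frame' {I J : Type*} [Fintype I] [Fintype J] {a : I → J → ι → ℤ} (h : Grid a)
    (hI : Fintype.card I = 2 ∨ 4 ≤ Fintype.card I) (hJ : Fintype.card J = 2 ∨ 4 ≤ Fintype.card J)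
    (h4 : 4 ≤ Fintype.card I ∨ 4 ≤ Fintype.card J) :
    ∃ (e : I ⊕ J ⊕ (I × J) → ι) (σ : I ⊕ J ⊕ (I × J) → ℤ), Function.Injective e ∧
      (∀ k, σ k = 1 ∨ σ k = -1) ∧
      ∀ i j u, a i j u = (if u = e (.inl i) then σ (.inl i) else 0) +
        (if u = e (.inr (.inl j)) then σ (.inr (.inl j)) else 0) +
        (if u = e (.inr (.inr (i, j))) then σ (.inr (.inr (i, j))) else 0) := by
  rcases h4 with h4 | h4
  · obtain ⟨e, σ, he, hσ, ha⟩ := h.swap.exists_frame h4 hJ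
    let f : I ⊕ J ⊕ (I × J) → J ⊕ I ⊕ (J × I) :=
      Sum.elim (fun i => .inr (.inl i)) (Sum.elim Sum.inl fun p => .inr (.inr p.swap))
    have hf : Function.Injective f := by
      rintro (i | j | ⟨i, j⟩) (i' | j' | ⟨i', j'⟩) e <;> simp [f] at e <;> simp [e]
    refine ⟨e ∘ f, σ ∘ f, he.comp hf, fun k => hσ _, fun i j u => ?_⟩
    simp only [Function.comp_apply, f, Sum.elim_inl, Sum.elim_inr, Prod.swap_prod_mk, ha j i u]
    congr 1
    exact add_comm _ _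
  · exact h.exists_frame h4 hI

end Cfsg.Agent.Char.TICore
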