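import Mathlib

/-!
The combinatorics of the cyclic TI isometry: signed triples indexed by a rectangle, two in a line
agreeing in exactly one place, two out of line orthogonal.
-/

namespace Cfsg.Agent.Char.TICore

variable {ι : Type*}

/-- A vector with three entries `±1`. -/
def Tri [Fintype ι] (a : ι → ℤ) : Prop :=
  (∀ x, a x = 0 ∨ a x = 1 ∨ a x = -1) ∧ ∑ x, a x ^ 2 = 3

/-- Agreement in exactly one place. -/
def One (a b : ι → ℤ) : Prop := ∃ x, a x * b x = 1 ∧ ∀ y, y ≠ x → a y * b y = 0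

theorem One.symm {a b : ι → ℤ} (h : One a b) : One b a := by
  obtain ⟨x, hx, hy⟩ := h
  exact ⟨x, by rw [mul_comm]; exact hx, fun y h => by rw [mul_comm]; exact hy y h⟩

theorem One.eq_one {a b : ι → ℤ} (h : One a b) {x : ι} (hx : a x ≠ 0) (hx' : b x ≠ 0) :
    a x * b x = 1 := by
  obtain ⟨y, hy, hz⟩ := h
  rcases eq_or_ne x y with rfl | hne
  · exact hy
  · exact absurd (hz x hne) (mul_ne_zero hx hx')

theorem One.unique {a b : ι → ℤ} (h : One a b) {x y : ι} (hx : a x ≠ 0) (hx' : b x ≠ 0)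
    (hy : a y ≠ 0) (hy' : b y ≠ 0) : x = y := by
  obtain ⟨z, -, hz⟩ := h
  exact (not_imp_comm.1 (hz x) (mul_ne_zero hx hx')).trans
    (not_imp_comm.1 (hz y) (mul_ne_zero hy hy')).symm

theorem One.zero {a b : ι → ℤ} (h : One a b) {x y : ι} (hx : a x ≠ 0) (hx' : b x ≠ 0) (hne : y ≠ x)
    (hy : a y ≠ 0) : b y = 0 := by
  by_contra h'
  exact hne (h.unique hy h' hx hx')

theorem One.exists_common {a b : ι → ℤ} (h : One a b) : ∃ x, a x ≠ 0 ∧ b x ≠ 0 := by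
  obtain ⟨x, hx, -⟩ := h
  exact ⟨x, left_ne_zero_of_mul_eq_one hx, right_ne_zero_of_mul_eq_one hx⟩

variable [Fintype ι]

theorem Tri.val {a : ι → ℤ} (h : Tri a) {x : ι} (hx : a x ≠ 0) : a x = 1 ∨ a x = -1 :=
  (h.1 x).resolve_left hx

theorem Tri.card {a : ι → ℤ} (h : Tri a) : (Finset.univ.filter fun x => a x ≠ 0).card = 3 := by
  have e : ∑ x, a x ^ 2 = ((Finset.univ.filter fun x => a x ≠ 0).card : ℤ) := by
    rw [Finset.card_filter, Nat.cast_sum]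
    refine Finset.sum_congr rfl fun x _ => ?_
    rcases h.1 x with e | e | e <;> rw [e] <;> norm_num
  rw [h.2] at e
  exact_mod_cast e.symm

theorem Tri.not_four [DecidableEq ι] {a : ι → ℤ} (h : Tri a) {x y z w : ι} (h1 : x ≠ y) (h2 : x ≠ z)
    (h3 : x ≠ w) (h4 : y ≠ z) (h5 : y ≠ w) (h6 : z ≠ w) (hx : a x ≠ 0) (hy : a y ≠ 0) (hz : a z ≠ 0)
    (hw : a w ≠ 0) : False := by
  have hsub : ({x, y, z, w} : Finset ι) ⊆ Finset.univ.filter fun x => a x ≠ 0 := by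
    intro u hu
    simp only [Finset.mem_insert, Finset.mem_singleton] at hu
    rcases hu with rfl | rfl | rfl | rfl <;> simp [*]
  have hc := Finset.card_le_card hsub
  rw [h.card, Finset.card_insert_of_notMem (by simp [h1, h2, h3]),
    Finset.card_insert_of_notMem (by simp [h4, h5]), Finset.card_pair h6] at hc
  omega

theorem Tri.cover [DecidableEq ι] {a : ι → ℤ} (h : Tri a) {x y z : ι} (h1 : x ≠ y) (h2 : x ≠ z)
    (h3 : y ≠ z) (hx : a x ≠ 0) (hy : a y ≠ 0) (hz : a z ≠ 0) (u : ι) (hu : a u ≠ 0) :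
    u = x ∨ u = y ∨ u = z := by
  by_contra hc
  push Not at hc
  exact h.not_four h1 h2 hc.1.symm h3 hc.2.1.symm hc.2.2.symm hx hy hz hu

/-- An orthogonal vector agreeing somewhere disagrees somewhere. -/
theorem orth_neg {a b : ι → ℤ} (ha : Tri a) (hb : Tri b) (h : ∑ x, a x * b x = 0) {x : ι}
    (hx : a x * b x = 1) : ∃ y, a y * b y = -1 := by
  by_contra hno
  push Not at hno
  have h1 : a x * b x ≤ ∑ y, a y * b y := Finset.single_le_sum (f := fun y => a y * b y)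
    (fun y _ => by
      have := hno y
      rcases ha.1 y with e | e | e <;> rcases hb.1 y with e' | e' | e' <;> simp [e, e'] at this ⊢)
    (Finset.mem_univ x)
  rw [hx, h] at h1
  norm_num at h1

theorem orth_pos {a b : ι → ℤ} (ha : Tri a) (hb : Tri b) (h : ∑ x, a x * b x = 0) {x : ι}
    (hx : a x * b x = -1) : ∃ y, a y * b y = 1 := by
  have ha' : Tri (fun y => -a y) := ⟨fun y => by rcases ha.1 y with e | e | e <;> simp [e],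
    by simpa using ha.2⟩
  obtain ⟨y, hy⟩ := orth_neg ha' hb (by simp [h]) (x := x) (by linarith)
  exact ⟨y, by linarith⟩

/-- Same sign transported through an agreement. -/
theorem transfer {a c b : ι → ℤ} {x : ι} (h : a x * c x = 1) {e : ℤ} (hb : a x * b x = e) :
    c x * b x = e := by
  have h2 : a x = c x := by
    rcases Int.mul_eq_one_iff_eq_one_or_neg_one.1 h with ⟨h1, h2⟩ | ⟨h1, h2⟩ <;> rw [h1, h2]
  rwa [← h2]

theorem ne_zero_of_unit {a b : ι → ℤ} {x : ι} (h : a x * b x = 1 ∨ a x * b x = -1) :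
    a x ≠ 0 ∧ b x ≠ 0 := by
  constructor <;> intro e <;> simp [e] at h

variable [DecidableEq ι]

/-- No four triples of a line in general position. -/
theorem no_complete {a₁ a₂ a₃ a₄ b : ι → ℤ} {x y z p q r : ι} (h₁ : Tri a₁) (h₂ : Tri a₂)
    (h₃ : Tri a₃) (h₄ : Tri a₄) (hb : Tri b)
    (hd : [x, y, z, p, q, r].Nodup) (ex : a₁ x * a₂ x = 1) (ey : a₁ y * a₃ y = 1)
    (ez : a₂ z * a₃ z = 1) (eq' : a₂ q * a₄ q = 1) (er : a₃ r * a₄ r = 1)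
    (ep : a₁ p * a₄ p = 1) (hb₁ : One a₁ b) (o₂ : ∑ u, a₂ u * b u = 0) (o₃ : ∑ u, a₃ u * b u = 0)
    (o₄ : ∑ u, a₄ u * b u = 0) (hbx : a₁ x * b x = 1) : False := by
  simp only [List.nodup_cons, List.mem_cons, List.not_mem_nil, not_or, or_false] at hd
  obtain ⟨⟨hxy, hxz, hxp, hxq, hxr⟩, ⟨hyz, hyp, hyq, hyr⟩, ⟨hzp, hzq, hzr⟩, ⟨hpq, hpr⟩, hqr, -⟩ := hd
  have x0 := ne_zero_of_unit (.inl hbx)
  have by0 : b y = 0 := hb₁.zero x0.1 x0.2 (Ne.symm hxy) (ne_zero_of_unit (.inl ey)).1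
  have bp0 : b p = 0 := hb₁.zero x0.1 x0.2 (Ne.symm hxp) (ne_zero_of_unit (.inl ep)).1
  obtain ⟨v, hv⟩ := orth_neg h₂ hb o₂ (transfer ex hbx)
  have v0 := ne_zero_of_unit (.inr hv)
  rcases h₂.cover hxz hxq hzq (ne_zero_of_unit (.inl ex)).2 (ne_zero_of_unit (.inl ez)).1
    (ne_zero_of_unit (.inl eq')).1 v v0.1 with rfl | rfl | rfl
  · rw [transfer ex hbx] at hv; norm_num at hv
  · obtain ⟨w, hw⟩ := orth_pos h₃ hb o₃ (transfer ez hv)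
    have w0 := ne_zero_of_unit (.inl hw)
    rcases h₃.cover hyz hyr hzr (ne_zero_of_unit (.inl ey)).2 (ne_zero_of_unit (.inl ez)).2
      (ne_zero_of_unit (.inl er)).1 w w0.1 with rfl | rfl | rfl
    · exact w0.2 by0
    · rw [transfer ez hv] at hw; norm_num at hw
    · obtain ⟨u, hu⟩ := orth_neg h₄ hb o₄ (transfer er hw)
      have u0 := ne_zero_of_unit (.inr hu)
      rcases h₄.cover hpq hpr hqr (ne_zero_of_unit (.inl ep)).2 (ne_zero_of_unit (.inl eq')).2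
        (ne_zero_of_unit (.inl er)).2 u u0.1 with rfl | rfl | rfl
      · exact u0.2 bp0
      · exact hb.not_four hxz hxr hxq hzr hzq (Ne.symm hqr) x0.2 v0.2 w0.2 u0.2
      · rw [transfer er hw] at hu; norm_num at hu
  · obtain ⟨w, hw⟩ := orth_pos h₄ hb o₄ (transfer eq' hv)
    have w0 := ne_zero_of_unit (.inl hw)
    rcases h₄.cover hpq hpr hqr (ne_zero_of_unit (.inl ep)).2 (ne_zero_of_unit (.inl eq')).2
      (ne_zero_of_unit (.inl er)).2 w w0.1 with rfl | rfl | rfl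
    · exact w0.2 bp0
    · rw [transfer eq' hv] at hw; norm_num at hw
    · have e3 : a₃ w * b w = 1 := transfer (by rw [mul_comm]; exact er) hw
      obtain ⟨u, hu⟩ := orth_neg h₃ hb o₃ e3
      have u0 := ne_zero_of_unit (.inr hu)
      rcases h₃.cover hyz hyr hzr (ne_zero_of_unit (.inl ey)).2 (ne_zero_of_unit (.inl ez)).2
        (ne_zero_of_unit (.inl er)).1 u u0.1 with rfl | rfl | rfl
      · exact u0.2 by0
      · exact hb.not_four hxz hxq hxr hzq hzr hqr x0.2 u0.2 v0.2 w0.2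
      · rw [e3] at hu; norm_num at hu

/-- Three concurrent triples and a transversal one. -/
structure Conc (a₁ a₂ a₃ a₄ : ι → ℤ) (x p₁ q₁ p₂ q₂ p₃ q₃ : ι) : Prop where
  t₁ : Tri a₁
  t₂ : Tri a₂
  t₃ : Tri a₃
  t₄ : Tri a₄
  nd : [x, p₁, q₁, p₂, q₂, p₃, q₃].Nodup
  x₁₂ : a₁ x * a₂ x = 1
  x₁₃ : a₁ x * a₃ x = 1
  x₂₃ : a₂ x * a₃ x = 1
  h₁ : a₁ p₁ * a₄ p₁ = 1
  h₂ : a₂ p₂ * a₄ p₂ = 1
  h₃ : a₃ p₃ * a₄ p₃ = 1
  q₁n : a₁ q₁ ≠ 0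
  q₂n : a₂ q₂ ≠ 0
  q₃n : a₃ q₃ ≠ 0

variable {a₁ a₂ a₃ a₄ : ι → ℤ} {x p₁ q₁ p₂ q₂ p₃ q₃ : ι}

theorem Conc.swap₂₃ (h : Conc a₁ a₂ a₃ a₄ x p₁ q₁ p₂ q₂ p₃ q₃) :
    Conc a₁ a₃ a₂ a₄ x p₁ q₁ p₃ q₃ p₂ q₂ := by
  refine ⟨h.t₁, h.t₃, h.t₂, h.t₄, ?_, h.x₁₃, h.x₁₂, by rw [mul_comm]; exact h.x₂₃, h.h₁, h.h₃, h.h₂,
    h.q₁n, h.q₃n, h.q₂n⟩
  have hd := h.nd
  simp only [List.nodup_cons, List.mem_cons, List.not_mem_nil, not_or, or_false, List.nodup_nil,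
    and_true, not_false_eq_true] at hd ⊢
  aesop

theorem Conc.rotate (h : Conc a₁ a₂ a₃ a₄ x p₁ q₁ p₂ q₂ p₃ q₃) :
    Conc a₂ a₃ a₁ a₄ x p₂ q₂ p₃ q₃ p₁ q₁ := by
  refine ⟨h.t₂, h.t₃, h.t₁, h.t₄, ?_, h.x₂₃, by rw [mul_comm]; exact h.x₁₂,
    by rw [mul_comm]; exact h.x₁₃, h.h₂, h.h₃, h.h₁, h.q₂n, h.q₃n, h.q₁n⟩
  have hd := h.nd
  simp only [List.nodup_cons, List.mem_cons, List.not_mem_nil, not_or, or_false, List.nodup_nil,
    and_true, not_false_eq_true] at hd ⊢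
  aesop

/-- The partner of a concurrent triple. -/
theorem Conc.partner (h : Conc a₁ a₂ a₃ a₄ x p₁ q₁ p₂ q₂ p₃ q₃) {b : ι → ℤ} (hb : Tri b)
    (hb₁ : One a₁ b) (o₂ : ∑ u, a₂ u * b u = 0) (o₃ : ∑ u, a₃ u * b u = 0)
    (o₄ : ∑ u, a₄ u * b u = 0) :
    (a₂ q₂ * b q₂ = -1 ∧ a₃ q₃ * b q₃ = -1 ∧ a₁ x * b x = 1) ∨
      (a₁ p₁ * b p₁ = 1 ∧ ((a₂ p₂ * b p₂ = -1 ∧ a₂ q₂ * b q₂ = 1) ∨
        (a₃ p₃ * b p₃ = -1 ∧ a₃ q₃ * b q₃ = 1))) ∨
      (a₁ q₁ * b q₁ = 1 ∧ b x = 0 ∧ b p₁ = 0 ∧ b p₂ = 0 ∧ b q₂ = 0 ∧ b p₃ = 0 ∧ b q₃ = 0) := by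
  have hd := h.nd
  simp only [List.nodup_cons, List.mem_cons, List.not_mem_nil, not_or, or_false] at hd
  obtain ⟨⟨hxp1, hxq1, hxp2, hxq2, hxp3, hxq3⟩, ⟨h11, h12, h1b, h13, h1c⟩,
    ⟨k12, k1b, k13, k1c⟩, ⟨h22, h23, h2c⟩, ⟨k23, k2c⟩, h33, -⟩ := hd
  have x1 := (ne_zero_of_unit (.inl h.x₁₂)).1
  have x2 := (ne_zero_of_unit (.inl h.x₁₂)).2
  have x3 := (ne_zero_of_unit (.inl h.x₁₃)).2
  have p1 := ne_zero_of_unit (.inl h.h₁)
  have p2 := ne_zero_of_unit (.inl h.h₂)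
  have p3 := ne_zero_of_unit (.inl h.h₃)
  obtain ⟨v, hv, hvz⟩ := hb₁
  have hb₁ : One a₁ b := ⟨v, hv, hvz⟩
  have v0 := ne_zero_of_unit (.inl hv)
  rcases h.t₁.cover hxp1 hxq1 h11 x1 p1.1 h.q₁n v v0.1 with rfl | rfl | rfl
  · left
    have bp1 : b p₁ = 0 := hb₁.zero v0.1 v0.2 (Ne.symm hxp1) p1.1
    obtain ⟨y, hy⟩ := orth_neg h.t₂ hb o₂ (transfer h.x₁₂ hv)
    obtain ⟨w, hw⟩ := orth_neg h.t₃ hb o₃ (transfer h.x₁₃ hv)
    have y0 := ne_zero_of_unit (.inr hy)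
    have w0 := ne_zero_of_unit (.inr hw)
    rcases h.t₂.cover hxp2 hxq2 h22 x2 p2.1 h.q₂n y y0.1 with rfl | rfl | rfl
    · rw [transfer h.x₁₂ hv] at hy; norm_num at hy
    · exfalso
      obtain ⟨u, hu⟩ := orth_pos h.t₄ hb o₄ (transfer h.h₂ hy)
      have u0 := ne_zero_of_unit (.inl hu)
      rcases h.t₄.cover h12 h13 h23 p1.2 p2.2 p3.2 u u0.1 with rfl | rfl | rfl
      · exact u0.2 bp1
      · rw [transfer h.h₂ hy] at hu; norm_num at hu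
      · rcases h.t₃.cover hxp3 hxq3 h33 x3 p3.1 h.q₃n w w0.1 with rfl | rfl | rfl
        · rw [transfer h.x₁₃ hv] at hw; norm_num at hw
        · rw [transfer h.h₃ hw] at hu; norm_num at hu
        · exact hb.not_four hxp2 hxp3 hxq3 h23 h2c h33 v0.2 y0.2 u0.2 w0.2
    · rcases h.t₃.cover hxp3 hxq3 h33 x3 p3.1 h.q₃n w w0.1 with rfl | rfl | rfl
      · rw [transfer h.x₁₃ hv] at hw; norm_num at hw
      · exfalso
        obtain ⟨u, hu⟩ := orth_pos h.t₄ hb o₄ (transfer h.h₃ hw)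
        have u0 := ne_zero_of_unit (.inl hu)
        rcases h.t₄.cover h12 h13 h23 p1.2 p2.2 p3.2 u u0.1 with rfl | rfl | rfl
        · exact u0.2 bp1
        · exact hb.not_four hxq2 hxp2 hxp3 (Ne.symm h22) k23 h23 v0.2 y0.2 u0.2 w0.2
        · rw [transfer h.h₃ hw] at hu; norm_num at hu
      · exact ⟨hy, hw, hv⟩
  · right; left
    refine ⟨hv, ?_⟩
    have bx : b x = 0 := hb₁.zero v0.1 v0.2 hxp1 x1
    obtain ⟨y, hy⟩ := orth_neg h.t₄ hb o₄ (transfer h.h₁ hv)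
    have y0 := ne_zero_of_unit (.inr hy)
    rcases h.t₄.cover h12 h13 h23 p1.2 p2.2 p3.2 y y0.1 with rfl | rfl | rfl
    · rw [transfer h.h₁ hv] at hy; norm_num at hy
    · left
      have e2 : a₂ y * b y = -1 := transfer (by rw [mul_comm]; exact h.h₂) hy
      obtain ⟨u, hu⟩ := orth_pos h.t₂ hb o₂ e2
      have u0 := ne_zero_of_unit (.inl hu)
      rcases h.t₂.cover hxp2 hxq2 h22 x2 p2.1 h.q₂n u u0.1 with rfl | rfl | rfl
      · exact absurd bx u0.2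
      · rw [e2] at hu; norm_num at hu
      · exact ⟨e2, hu⟩
    · right
      have e3 : a₃ y * b y = -1 := transfer (by rw [mul_comm]; exact h.h₃) hy
      obtain ⟨u, hu⟩ := orth_pos h.t₃ hb o₃ e3
      have u0 := ne_zero_of_unit (.inl hu)
      rcases h.t₃.cover hxp3 hxq3 h33 x3 p3.1 h.q₃n u u0.1 with rfl | rfl | rfl
      · exact absurd bx u0.2
      · rw [e3] at hu; norm_num at hu
      · exact ⟨e3, hu⟩
  · right; right
    have bx : b x = 0 := hb₁.zero v0.1 v0.2 hxq1 x1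
    have bp1 : b p₁ = 0 := hb₁.zero v0.1 v0.2 h11 p1.1
    -- a nonzero entry in an orthogonal triple has a partner
    have part : ∀ a : ι → ℤ, Tri a → ∑ u, a u * b u = 0 → ∀ u, a u ≠ 0 → b u ≠ 0 →
        ∃ w, w ≠ u ∧ a w ≠ 0 ∧ b w ≠ 0 := by
      intro a ha ho u hu hu'
      by_contra hno
      push Not at hno
      rw [Finset.sum_eq_single u (fun w _ hw => by
        by_cases hw' : a w = 0
        · rw [hw', zero_mul]
        · rw [hno w hw hw', mul_zero]) (fun hh => absurd (Finset.mem_univ u) hh)] at ho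
      exact mul_ne_zero hu hu' ho
    have bp2 : b p₂ = 0 := by
      by_contra hc
      obtain ⟨w, hwne, hw, hw'⟩ := part a₂ h.t₂ o₂ _ p2.1 hc
      obtain ⟨u, hune, hu, hu'⟩ := part a₄ h.t₄ o₄ _ p2.2 hc
      rcases h.t₂.cover hxp2 hxq2 h22 x2 p2.1 h.q₂n w hw with rfl | rfl | rfl
      · exact hw' bx
      · exact hwne rfl
      · rcases h.t₄.cover h12 h13 h23 p1.2 p2.2 p3.2 u hu with rfl | rfl | rfl
        · exact hu' bp1
        · exact hune rfl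
        · exact hb.not_four k12 k1b k13 h22 h23 k23 v0.2 hc hw' hu'
    have bp3 : b p₃ = 0 := by
      by_contra hc
      obtain ⟨u, hune, hu, hu'⟩ := part a₄ h.t₄ o₄ _ p3.2 hc
      rcases h.t₄.cover h12 h13 h23 p1.2 p2.2 p3.2 u hu with rfl | rfl | rfl
      · exact hu' bp1
      · exact hu' bp2
      · exact hune rfl
    refine ⟨hv, bx, bp1, bp2, ?_, bp3, ?_⟩
    · by_contra hc
      obtain ⟨w, hwne, hw, hw'⟩ := part a₂ h.t₂ o₂ _ h.q₂n hc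
      rcases h.t₂.cover hxp2 hxq2 h22 x2 p2.1 h.q₂n w hw with rfl | rfl | rfl
      · exact hw' bx
      · exact hw' bp2
      · exact hwne rfl
    · by_contra hc
      obtain ⟨w, hwne, hw, hw'⟩ := part a₃ h.t₃ o₃ _ h.q₃n hc
      rcases h.t₃.cover hxp3 hxq3 h33 x3 p3.1 h.q₃n w hw with rfl | rfl | rfl
      · exact hw' bx
      · exact hw' bp3
      · exact hwne rfl

/-- The partner of the transversal triple. -/
theorem Conc.partner₄ (h : Conc a₁ a₂ a₃ a₄ x p₁ q₁ p₂ q₂ p₃ q₃) {b : ι → ℤ} (hb : Tri b)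
    (hb₄ : One a₄ b) (o₁ : ∑ u, a₁ u * b u = 0) (o₂ : ∑ u, a₂ u * b u = 0)
    (o₃ : ∑ u, a₃ u * b u = 0) (hp : a₄ p₁ * b p₁ = 1) :
    a₁ q₁ * b q₁ = -1 ∧ b x = 0 ∧ b p₂ = 0 ∧ b q₂ = 0 ∧ b p₃ = 0 ∧ b q₃ = 0 := by
  have hd := h.nd
  simp only [List.nodup_cons, List.mem_cons, List.not_mem_nil, not_or, or_false] at hd
  obtain ⟨⟨hxp1, hxq1, hxp2, hxq2, hxp3, hxq3⟩, ⟨h11, h12, h1b, h13, h1c⟩,
    ⟨k12, k1b, k13, k1c⟩, ⟨h22, h23, h2c⟩, ⟨k23, k2c⟩, h33, -⟩ := hd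
  have x1 := (ne_zero_of_unit (.inl h.x₁₂)).1
  have x2 := (ne_zero_of_unit (.inl h.x₁₂)).2
  have x3 := (ne_zero_of_unit (.inl h.x₁₃)).2
  have p1 := ne_zero_of_unit (.inl h.h₁)
  have p2 := ne_zero_of_unit (.inl h.h₂)
  have p3 := ne_zero_of_unit (.inl h.h₃)
  have v0 := ne_zero_of_unit (.inl hp)
  have bp2 : b p₂ = 0 := hb₄.zero v0.1 v0.2 (Ne.symm h12) p2.2
  have bp3 : b p₃ = 0 := hb₄.zero v0.1 v0.2 (Ne.symm h13) p3.2
  have e1 : a₁ p₁ * b p₁ = 1 := transfer (by rw [mul_comm]; exact h.h₁) hp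
  obtain ⟨y, hy⟩ := orth_neg h.t₁ hb o₁ e1
  have y0 := ne_zero_of_unit (.inr hy)
  have side : ∀ {a : ι → ℤ} {p q : ι}, Tri a → ∑ u, a u * b u = 0 → x ≠ p → x ≠ q → p ≠ q →
      a x ≠ 0 → a p ≠ 0 → a q ≠ 0 → b p = 0 → b x = 0 → b q = 0 := by
    intro a p q ha ho hxp hxq hpq hax hap haq hbp hbx
    by_contra hc
    rw [Finset.sum_eq_single q (fun w _ hw => by
      by_cases hw' : a w = 0
      · rw [hw', zero_mul]
      · rcases ha.cover hxp hxq hpq hax hap haq w hw' with rfl | rfl | rfl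
        · rw [hbx, mul_zero]
        · rw [hbp, mul_zero]
        · exact absurd rfl hw) (fun hh => absurd (Finset.mem_univ q) hh)] at ho
    exact mul_ne_zero haq hc ho
  rcases h.t₁.cover hxp1 hxq1 h11 x1 p1.1 h.q₁n y y0.1 with rfl | rfl | rfl
  · exfalso
    obtain ⟨u, hu⟩ := orth_pos h.t₂ hb o₂ (transfer h.x₁₂ hy)
    obtain ⟨w, hw⟩ := orth_pos h.t₃ hb o₃ (transfer h.x₁₃ hy)
    have u0 := ne_zero_of_unit (.inl hu)
    have w0 := ne_zero_of_unit (.inl hw)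
    rcases h.t₂.cover hxp2 hxq2 h22 x2 p2.1 h.q₂n u u0.1 with rfl | rfl | rfl
    · rw [transfer h.x₁₂ hy] at hu; norm_num at hu
    · exact u0.2 bp2
    · rcases h.t₃.cover hxp3 hxq3 h33 x3 p3.1 h.q₃n w w0.1 with rfl | rfl | rfl
      · rw [transfer h.x₁₃ hy] at hw; norm_num at hw
      · exact w0.2 bp3
      · exact hb.not_four hxp1 hxq2 hxq3 h1b h1c k2c y0.2 v0.2 u0.2 w0.2
  · rw [e1] at hy; norm_num at hy
  · have bx : b x = 0 := by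
      by_contra hc
      obtain ⟨w, hw⟩ : ∃ w, w ≠ x ∧ a₂ w * b w ≠ 0 := by
        by_contra hno
        push Not at hno
        rw [Finset.sum_eq_single x (fun w _ hw => hno w hw)
          (fun hh => absurd (Finset.mem_univ x) hh)] at o₂
        exact mul_ne_zero x2 hc o₂
      have w0 : a₂ w ≠ 0 ∧ b w ≠ 0 := mul_ne_zero_iff.1 hw.2
      rcases h.t₂.cover hxp2 hxq2 h22 x2 p2.1 h.q₂n w w0.1 with rfl | rfl | rfl
      · exact hw.1 rfl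
      · exact w0.2 bp2
      · exact hb.not_four hxp1 hxq1 hxq2 h11 h1b k1b hc v0.2 y0.2 w0.2
    exact ⟨hy, bx, bp2, side h.t₂ o₂ hxp2 hxq2 h22 x2 p2.1 h.q₂n bp2 bx, bp3,
      side h.t₃ o₃ hxp3 hxq3 h33 x3 p3.1 h.q₃n bp3 bx⟩

/-- No configuration. -/
theorem Conc.false_core (h : Conc a₁ a₂ a₃ a₄ x p₁ q₁ p₂ q₂ p₃ q₃) {b₁ b₃ b₄ : ι → ℤ}
    (t₁ : Tri b₁) (t₃ : Tri b₃) (t₄ : Tri b₄) (u₁₃ : One b₁ b₃) (u₃₄ : One b₃ b₄)
    (ob₁ : One a₁ b₁) (o12 : ∑ u, a₂ u * b₁ u = 0) (o13 : ∑ u, a₃ u * b₁ u = 0)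
    (ob₃ : One a₃ b₃) (o31 : ∑ u, a₁ u * b₃ u = 0) (o32 : ∑ u, a₂ u * b₃ u = 0)
    (o34 : ∑ u, a₄ u * b₃ u = 0)
    (hP : a₁ p₁ * b₁ p₁ = 1) (hP2 : a₂ p₂ * b₁ p₂ = -1) (hQ2 : a₂ q₂ * b₁ q₂ = 1)
    (h4p : a₄ p₁ * b₄ p₁ = 1) : False := by
  have hd := h.nd
  simp only [List.nodup_cons, List.mem_cons, List.not_mem_nil, not_or, or_false] at hd
  obtain ⟨⟨hxp1, hxq1, hxp2, hxq2, hxp3, hxq3⟩, ⟨h11, h12, h1b, h13, h1c⟩,
    ⟨k12, k1b, k13, k1c⟩, ⟨h22, h23, h2c⟩, ⟨k23, k2c⟩, h33, -⟩ := hd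
  have prod : ∀ {a c d : ι → ℤ} {z : ι} {e f : ℤ}, Tri a → a z * c z = e → a z * d z = f →
      a z ≠ 0 → c z * d z = e * f := by
    intro a c d z e f ha he hf hz
    rcases ha.val hz with h1 | h1 <;> rw [h1] at he hf <;> subst he <;> subst hf <;> ring
  have ha1p := (ne_zero_of_unit (.inl h.h₁))
  rcases (h.rotate.rotate).partner t₃ ob₃ o31 o32 o34 with ⟨-, e2, -⟩ | ⟨-, ⟨e1, -⟩ | ⟨e1, e2⟩⟩ |
      ⟨-, -, -, e1, -, e2, e3⟩
  · -- through `x`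
    have hc := prod h.t₂ hQ2 e2 h.q₂n
    rw [u₁₃.eq_one (ne_zero_of_unit (.inl hQ2)).2 (ne_zero_of_unit (.inr e2)).2] at hc
    norm_num at hc
  · -- through `p₁`
    have e1' : a₄ p₁ * b₃ p₁ = -1 := transfer h.h₁ e1
    have hc := prod h.t₄ e1' h4p ha1p.2
    rw [u₃₄.eq_one (ne_zero_of_unit (.inr e1')).2 (ne_zero_of_unit (.inl h4p)).2] at hc
    norm_num at hc
  · exact h22 (u₁₃.unique (ne_zero_of_unit (.inr hP2)).2 (ne_zero_of_unit (.inr e1)).2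
      (ne_zero_of_unit (.inl hQ2)).2 (ne_zero_of_unit (.inl e2)).2)
  · obtain ⟨z, hz, hz'⟩ := u₁₃.exists_common
    rcases t₁.cover h12 h1b h22 (ne_zero_of_unit (.inl hP)).2 (ne_zero_of_unit (.inr hP2)).2
      (ne_zero_of_unit (.inl hQ2)).2 z hz with rfl | rfl | rfl
    · exact hz' e1
    · exact hz' e2
    · exact hz' e3

/-- No concurrent configuration with partners. -/
theorem Conc.false (h : Conc a₁ a₂ a₃ a₄ x p₁ q₁ p₂ q₂ p₃ q₃) {b₁ b₂ b₃ b₄ : ι → ℤ}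
    (t₁ : Tri b₁) (t₂ : Tri b₂) (t₃ : Tri b₃) (t₄ : Tri b₄)
    (u₁₂ : One b₁ b₂) (u₁₃ : One b₁ b₃) (u₁₄ : One b₁ b₄) (u₂₄ : One b₂ b₄) (u₃₄ : One b₃ b₄)
    (ob₁ : One a₁ b₁) (o12 : ∑ u, a₂ u * b₁ u = 0) (o13 : ∑ u, a₃ u * b₁ u = 0)
    (o14 : ∑ u, a₄ u * b₁ u = 0)
    (ob₂ : One a₂ b₂) (o21 : ∑ u, a₁ u * b₂ u = 0) (o23 : ∑ u, a₃ u * b₂ u = 0)
    (o24 : ∑ u, a₄ u * b₂ u = 0)
    (ob₃ : One a₃ b₃) (o31 : ∑ u, a₁ u * b₃ u = 0) (o32 : ∑ u, a₂ u * b₃ u = 0)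
    (o34 : ∑ u, a₄ u * b₃ u = 0)
    (ob₄ : One a₄ b₄) (o41 : ∑ u, a₁ u * b₄ u = 0) (o42 : ∑ u, a₂ u * b₄ u = 0)
    (o43 : ∑ u, a₃ u * b₄ u = 0) (h4p : a₄ p₁ * b₄ p₁ = 1) : False := by
  have hd := h.nd
  simp only [List.nodup_cons, List.mem_cons, List.not_mem_nil, not_or, or_false] at hd
  obtain ⟨⟨hxp1, hxq1, hxp2, hxq2, hxp3, hxq3⟩, ⟨h11, h12, h1b, h13, h1c⟩,
    ⟨k12, k1b, k13, k1c⟩, ⟨h22, h23, h2c⟩, ⟨k23, k2c⟩, h33, -⟩ := hd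
  obtain ⟨g1, g2, g3, g4, g5, g6⟩ := h.partner₄ t₄ ob₄ o41 o42 o43 h4p
  rcases h.partner t₁ ob₁ o12 o13 o14 with ⟨e1, e2, e3⟩ | ⟨hP, ⟨hP2, hQ2⟩ | ⟨hP3, hQ3⟩⟩ |
      ⟨e1, -⟩
  · obtain ⟨z, hz, hz'⟩ := u₁₄.exists_common
    rcases t₁.cover hxq2 hxq3 k2c (ne_zero_of_unit (.inl e3)).2 (ne_zero_of_unit (.inr e1)).2
      (ne_zero_of_unit (.inr e2)).2 z hz with rfl | rfl | rfl
    · exact hz' g2
    · exact hz' g4
    · exact hz' g6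
  · exact h.false_core t₁ t₃ t₄ u₁₃ u₃₄ ob₁ o12 o13 ob₃ o31 o32 o34 hP hP2 hQ2 h4p
  · exact h.swap₂₃.false_core t₁ t₂ t₄ u₁₂ u₂₄ ob₁ o13 o12 ob₂ o21 o23 o24 hP hP3 hQ3 h4p
  · have := u₁₄.eq_one (ne_zero_of_unit (.inl e1)).2 (ne_zero_of_unit (.inr g1)).2
    rcases h.t₁.val h.q₁n with h1 | h1 <;> rw [h1] at e1 g1 <;> nlinarith

end Cfsg.Agent.Char.TICore
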