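import Cfsg.Agent.S1505
import Cfsg.Agent.Lib.Char.TIComb
import Cfsg.Agent.Lib.Char.CyclicW
import Mathlib.GroupTheory.FiniteAbelian.Duality
import Mathlib.RingTheory.RootsOfUnity.AlgebraicallyClosed

/-!
Existence of the family attached to a self-normalising cyclic subgroup of odd order.
-/

namespace Cfsg.Agent.Char.TIFamily

open Cfsg Cfsg.Agent.Char
open scoped ComplexConjugate

set_option linter.unusedSectionVars false
set_option linter.style.haveILetI false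

universe u

theorem tri_of_sq {ι : Type*} [Fintype ι] {a : ι → ℤ} (h : ∑ x, a x ^ 2 = 3) : TICore.Tri a := by
  refine ⟨fun x => ?_, h⟩
  have h1 := Finset.single_le_sum (f := fun y => a y ^ 2) (fun y _ => sq_nonneg _) (Finset.mem_univ x)
  rw [h] at h1
  have h5 : -1 ≤ a x ∧ a x ≤ 1 := ⟨by nlinarith, by nlinarith⟩
  omega

theorem one_of_inner {ι : Type*} [Fintype ι] [DecidableEq ι] {a b : ι → ℤ} (ha : TICore.Tri a)
    (hb : TICore.Tri b) (d : ι → ℤ) (hd : ∀ x, 0 < d x) (hdeg : ∑ x, a x * d x = ∑ x, b x * d x)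
    (h : ∑ x, a x * b x = 1) : TICore.One a b := by
  have hsq : ∑ x, (a x - b x) ^ 2 = 4 := by
    calc ∑ x, (a x - b x) ^ 2 = ∑ x, (a x ^ 2 + b x ^ 2 - 2 * (a x * b x)) :=
          Finset.sum_congr rfl fun x _ => by ring
      _ = 4 := by
          rw [Finset.sum_sub_distrib, Finset.sum_add_distrib, ha.2, hb.2, ← Finset.mul_sum, h]
          norm_num
  have hnn : ∀ z, 0 ≤ a z * b z := by
    intro z
    by_contra hz
    push Not at hz
    have hab : a z = -b z ∧ b z ^ 2 = 1 := by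
      rcases ha.1 z with e | e | e <;> rcases hb.1 z with e' | e' | e' <;> simp [e, e'] at hz ⊢
    rw [← Finset.add_sum_erase _ _ (Finset.mem_univ z), hab.1] at hsq
    have h0 : ∑ x ∈ Finset.univ.erase z, (a x - b x) ^ 2 = 0 := by nlinarith [hab.2]
    have h1 := (Finset.sum_eq_zero_iff_of_nonneg fun x _ => sq_nonneg _).1 h0
    have h2 : ∑ x, (a x - b x) * d x = 0 := by
      simp only [sub_mul, Finset.sum_sub_distrib, hdeg, sub_self]
    rw [Finset.sum_eq_single z (fun x _ hx => by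
      rw [(pow_eq_zero_iff two_ne_zero).1 (h1 x (Finset.mem_erase.2 ⟨hx, Finset.mem_univ x⟩)),
        zero_mul]) (fun hh => absurd (Finset.mem_univ z) hh)] at h2
    rcases mul_eq_zero.1 h2 with h3 | h3
    · rw [hab.1] at h3 hz
      have : b z = 0 := by linarith
      simp [this] at hz
    · exact absurd h3 (hd z).ne'
  obtain ⟨x, hx⟩ : ∃ x, a x * b x ≠ 0 := by
    by_contra hc
    push Not at hc
    simp [hc] at h
  rw [← Finset.add_sum_erase _ _ (Finset.mem_univ x)] at h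
  have h0 : 0 ≤ ∑ y ∈ Finset.univ.erase x, a y * b y := Finset.sum_nonneg fun y _ => hnn y
  have h1 : 0 < a x * b x := lt_of_le_of_ne (hnn x) (Ne.symm hx)
  refine ⟨x, by linarith, fun y hy => ?_⟩
  exact (Finset.sum_eq_zero_iff_of_nonneg fun y _ => hnn y).1 (by linarith) y
    (Finset.mem_erase.2 ⟨hy, Finset.mem_univ y⟩)

/-- Orthogonality over the linear characters of a finite abelian group. -/
theorem dual_sum {U : Type*} [Group U] [Finite U] [Fintype (U →* ℂˣ)] (hU : ∀ a b : U, a * b = b * a)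
    {x : U} (hx : x ≠ 1) : ∑ f : U →* ℂˣ, (f x : ℂ) = 0 := by
  obtain ⟨f₀, hf₀⟩ : ∃ f : U →* ℂˣ, f x ≠ 1 := by
    by_contra hc
    push Not at hc
    exact hx (eq_one_of_forall_linear hU hc)
  have h : ∑ f : U →* ℂˣ, (f x : ℂ) = (f₀ x : ℂ) * ∑ f : U →* ℂˣ, (f x : ℂ) := by
    rw [Finset.mul_sum]
    exact (Fintype.sum_equiv (Equiv.mulLeft f₀) _ _ fun f => by simp).symm
  have h2 : ((f₀ x : ℂ) - 1) * ∑ f : U →* ℂˣ, (f x : ℂ) = 0 := by rw [sub_mul, one_mul, ← h, sub_self]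
  exact (mul_eq_zero.1 h2).resolve_left (sub_ne_zero.2 fun e => hf₀ (Units.ext e))

/-- The weighted sum picking one element. -/
theorem pick {U : Type*} [Group U] [Finite U] [Fintype (U →* ℂˣ)] [DecidableEq U]
    (hU : ∀ a b : U, a * b = b * a) {v : U} (hv : v ≠ 1) (x : U) :
    ∑ f : U →* ℂˣ, (((f v)⁻¹ : ℂˣ) : ℂ) * (1 - (f x : ℂ)) =
      if x = v then -(Fintype.card (U →* ℂˣ) : ℂ) else 0 := by
  have e : ∀ f : U →* ℂˣ, (((f v)⁻¹ : ℂˣ) : ℂ) * (1 - (f x : ℂ)) = (f v⁻¹ : ℂ) - (f (v⁻¹ * x) : ℂ) := by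
    intro f
    rw [map_mul, map_inv, Units.val_mul]
    ring
  simp only [e, Finset.sum_sub_distrib, dual_sum hU (inv_ne_one.2 hv), zero_sub]
  split_ifs with h
  · subst h; simp
  · rw [dual_sum hU (fun e => h (inv_mul_eq_one.1 e).symm), neg_zero]

theorem exists_family {G : Type u} [Group G] [Fintype G] (W₁ W₂ : Subgroup G)
    (hW : IsSelfNormalizingCyclic W₁ W₂) (hodd : Odd (Nat.card ↥(W₁ ⊔ W₂))) :
    ∃ χ : (↥(W₁ ⊔ W₂) →* ℂˣ) → (G → ℂ), IsCyclicTIFamily W₁ W₂ χ := by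
  classical
  obtain ⟨hW1, hW2, hinf, hcomm, hcyc, -⟩ := id hW
  haveI : IsCyclic ↥(W₁ ⊔ W₂) := hcyc
  haveI : Fintype ↥(W₁ ⊔ W₂) := Fintype.ofFinite _
  have hdec := fun w : ↥(W₁ ⊔ W₂) => CyclicW.exists_mul_eq W₁ W₂ hcomm w.2
  choose pa hpa pb hpb hpab using hdec
  have huniq : ∀ {a b c d : G}, a ∈ W₁ → b ∈ W₂ → c ∈ W₁ → d ∈ W₂ → a * b = c * d →
      a = c ∧ b = d := by
    intro a b c d ha hb hc hd h
    have e : c⁻¹ * a = d * b⁻¹ := by
      rw [inv_mul_eq_iff_eq_mul, ← mul_assoc, eq_mul_inv_iff_mul_eq]; exact h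
    have h1 : c⁻¹ * a ∈ W₁ ⊓ W₂ :=
      ⟨W₁.mul_mem (W₁.inv_mem hc) ha, e ▸ W₂.mul_mem hd (W₂.inv_mem hb)⟩
    rw [hinf, Subgroup.mem_bot, inv_mul_eq_one] at h1
    subst h1
    exact ⟨rfl, mul_left_cancel h⟩
  have hmulp : ∀ v w, pa (v * w) = pa v * pa w ∧ pb (v * w) = pb v * pb w := fun v w => by
    refine huniq (hpa _) (hpb _) (W₁.mul_mem (hpa v) (hpa w)) (W₂.mul_mem (hpb v) (hpb w)) ?_
    rw [hpab, Subgroup.coe_mul, ← hpab v, ← hpab w, mul_assoc, mul_assoc]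
    congr 1
    rw [← mul_assoc, ← hcomm _ (hpa w) _ (hpb v), mul_assoc]
  let P : ↥(W₁ ⊔ W₂) →* W₁ :=
    MonoidHom.mk' (fun w => ⟨pa w, hpa w⟩) fun v w => Subtype.ext (hmulp v w).1
  let Q : ↥(W₁ ⊔ W₂) →* W₂ :=
    MonoidHom.mk' (fun w => ⟨pb w, hpb w⟩) fun v w => Subtype.ext (hmulp v w).2
  let i₁ : W₁ →* ↥(W₁ ⊔ W₂) := Subgroup.inclusion le_sup_left
  let i₂ : W₂ →* ↥(W₁ ⊔ W₂) := Subgroup.inclusion le_sup_right
  have hPi₁ : ∀ a, P (i₁ a) = a ∧ Q (i₁ a) = 1 := fun a => by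
    have h := huniq (hpa (i₁ a)) (hpb (i₁ a)) a.2 W₂.one_mem (by rw [hpab, mul_one]; rfl)
    exact ⟨Subtype.ext h.1, Subtype.ext h.2⟩
  have hPi₂ : ∀ b, P (i₂ b) = 1 ∧ Q (i₂ b) = b := fun b => by
    have h := huniq (hpa (i₂ b)) (hpb (i₂ b)) W₁.one_mem b.2 (by rw [hpab, one_mul]; rfl)
    exact ⟨Subtype.ext h.1, Subtype.ext h.2⟩
  have hsplit : ∀ w, i₁ (P w) * i₂ (Q w) = w := fun w => Subtype.ext (hpab w)
  have hP2 : ∀ w : ↥(W₁ ⊔ W₂), (w : G) ∈ W₂ → P w = 1 := fun w hw => by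
    have := (hPi₂ ⟨w, hw⟩).1
    rwa [show i₂ ⟨(w : G), hw⟩ = w from Subtype.ext rfl] at this
  have hQ1 : ∀ w : ↥(W₁ ⊔ W₂), (w : G) ∈ W₁ → Q w = 1 := fun w hw => by
    have := (hPi₁ ⟨w, hw⟩).2
    rwa [show i₁ ⟨(w : G), hw⟩ = w from Subtype.ext rfl] at this
  let E : (W₁ →* ℂˣ) → (W₂ →* ℂˣ) → (↥(W₁ ⊔ W₂) →* ℂˣ) := fun f g => f.comp P * g.comp Q
  have hEv : ∀ f g w, (E f g w : ℂ) = (f (P w) : ℂ) * (g (Q w) : ℂ) := fun f g w => rfl
  have hE : ∀ ω : ↥(W₁ ⊔ W₂) →* ℂˣ, E (ω.comp i₁) (ω.comp i₂) = ω := fun ω =>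
    MonoidHom.ext fun w => by
      show ω (i₁ (P w)) * ω (i₂ (Q w)) = ω w
      rw [← map_mul, hsplit]
  have hE1 : ∀ f g, (E f g).comp i₁ = f ∧ (E f g).comp i₂ = g := fun f g =>
    ⟨MonoidHom.ext fun a => by
      show f (P (i₁ a)) * g (Q (i₁ a)) = f a
      rw [(hPi₁ a).1, (hPi₁ a).2, map_one, mul_one],
     MonoidHom.ext fun b => by
      show f (P (i₂ b)) * g (Q (i₂ b)) = g b
      rw [(hPi₂ b).1, (hPi₂ b).2, map_one, one_mul]⟩
  have hEinj : ∀ {f f' g g'}, E f g = E f' g' → f = f' ∧ g = g' := fun {f f' g g'} h =>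
    ⟨by rw [← (hE1 f g).1, h, (hE1 f' g').1], by rw [← (hE1 f g).2, h, (hE1 f' g').2]⟩
  have hE11 : E 1 1 = 1 := MonoidHom.ext fun w => by
    show (1 : W₁ →* ℂˣ) (P w) * (1 : W₂ →* ℂˣ) (Q w) = 1
    simp
  have hcard : ∀ U : Subgroup G, U ≤ W₁ ⊔ W₂ →
      Finite (U →* ℂˣ) ∧ Nat.card (U →* ℂˣ) = Nat.card U ∧ ∀ a b : U, a * b = b * a := by
    intro U hU
    haveI : IsCyclic U :=
      isCyclic_of_injective (Subgroup.inclusion hU) (Subgroup.inclusion_injective hU)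
    letI : CommGroup U := IsCyclic.commGroup
    have h := CommGroup.card_monoidHom_of_hasEnoughRootsOfUnity U ℂ
    exact ⟨Nat.finite_of_card_ne_zero (by rw [h]; exact Nat.card_pos.ne'), h, fun a b => mul_comm a b⟩
  obtain ⟨hfin₁, hn₁, hab₁⟩ := hcard W₁ le_sup_left
  obtain ⟨hfin₂, hn₂, hab₂⟩ := hcard W₂ le_sup_right
  haveI := hfin₁; haveI := hfin₂
  haveI : Fintype (W₁ →* ℂˣ) := Fintype.ofFinite _
  haveI : Fintype (W₂ →* ℂˣ) := Fintype.ofFinite _
  rw [Nat.card_eq_fintype_card] at hn₁ hn₂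
  have hodd₁ : Odd (Nat.card W₁) := Odd.of_dvd_nat hodd (Subgroup.card_dvd_of_le le_sup_left)
  have hodd₂ : Odd (Nat.card W₂) := Odd.of_dvd_nat hodd (Subgroup.card_dvd_of_le le_sup_right)
  have h1ne : Nat.card W₁ ≠ 1 := fun h => hW1 (Subgroup.card_eq_one.1 h)
  have h2ne : Nat.card W₂ ≠ 1 := fun h => hW2 (Subgroup.card_eq_one.1 h)
  have h33 : ¬ (Nat.card W₁ = 3 ∧ Nat.card W₂ = 3) := by
    rintro ⟨e1, e2⟩
    have hcW : Nat.card ↥(W₁ ⊔ W₂) = 9 := by
      rw [Nat.card_congr (⟨fun w => (P w, Q w), fun p => i₁ p.1 * i₂ p.2, hsplit, fun p => by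
        refine Prod.ext ?_ ?_
        · simp [map_mul, (hPi₁ p.1).1, (hPi₂ p.2).1]
        · simp [map_mul, (hPi₁ p.1).2, (hPi₂ p.2).2]⟩ : ↥(W₁ ⊔ W₂) ≃ W₁ × W₂), Nat.card_prod, e1, e2]
    obtain ⟨w, hw⟩ := IsCyclic.exists_ofOrder_eq_natCard (α := ↥(W₁ ⊔ W₂))
    have h3 : w ^ 3 = 1 := by
      have p1 : P w ^ 3 = 1 := e1 ▸ pow_card_eq_one'
      have p2 : Q w ^ 3 = 1 := e2 ▸ pow_card_eq_one'
      calc w ^ 3 = i₁ (P (w ^ 3)) * i₂ (Q (w ^ 3)) := (hsplit _).symm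
        _ = 1 := by rw [map_pow P, map_pow Q, p1, p2, map_one, map_one, one_mul]
    have h9 := Nat.le_of_dvd (by norm_num) (orderOf_dvd_of_pow_eq_one h3)
    omega
  let I := {f : W₁ →* ℂˣ // f ≠ 1}
  let J := {g : W₂ →* ℂˣ // g ≠ 1}
  have hI : Fintype.card I = Nat.card W₁ - 1 := by
    rw [Fintype.card_subtype_compl, hn₁]; simp
  have hJ : Fintype.card J = Nat.card W₂ - 1 := by
    rw [Fintype.card_subtype_compl, hn₂]; simp
  have hIc : Fintype.card I = 2 ∨ 4 ≤ Fintype.card I := by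
    obtain ⟨k, hk⟩ := hodd₁; omega
  have hJc : Fintype.card J = 2 ∨ 4 ≤ Fintype.card J := by
    obtain ⟨k, hk⟩ := hodd₂; omega
  have h4 : 4 ≤ Fintype.card I ∨ 4 ≤ Fintype.card J := by
    obtain ⟨k, hk⟩ := hodd₁; obtain ⟨l, hl⟩ := hodd₂; omega
  -- the induced functions
  let α : (W₁ →* ℂˣ) → (W₂ →* ℂˣ) → ↥(W₁ ⊔ W₂) → ℂ := fun f g w =>
    1 - (E f 1 w : ℂ) - (E 1 g w : ℂ) + (E f 1 w : ℂ) * (E 1 g w : ℂ)
  have hαv : ∀ f g w, α f g w = (1 - (f (P w) : ℂ)) * (1 - (g (Q w) : ℂ)) := fun f g w => by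
    simp only [α, hEv, MonoidHom.one_apply, Units.val_one, one_mul, mul_one]; ring
  let β : I → J → G → ℂ := fun i j => indFun (W₁ ⊔ W₂) (α i.1 j.1) - fun _ => 1
  have h5 : ∀ (i i' : I) (j j' : J),
      classInner (indFun (W₁ ⊔ W₂) (α i.1 j.1)) (fun _ => 1) = 1 ∧
      classInner (indFun (W₁ ⊔ W₂) (α i.1 j.1)) (indFun (W₁ ⊔ W₂) (α i'.1 j'.1)) =
        1 + (if i = i' then 1 else 0) + (if j = j' then 1 else 0) +
          (if i = i' then 1 else 0) * (if j = j' then 1 else 0) := by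
    intro i i' j j'
    have hn : ∀ {f}, f ≠ 1 → E f 1 ≠ 1 := fun hf e => hf (hEinj (e.trans hE11.symm)).1
    have hn' : ∀ {g}, g ≠ 1 → E 1 g ≠ 1 := fun hf e => hf (hEinj (e.trans hE11.symm)).2
    have hk : ∀ f, ∀ w : ↥(W₁ ⊔ W₂), (w : G) ∈ W₂ → E f 1 w = 1 := fun f w hw => by
      show f (P w) * (1 : W₂ →* ℂˣ) (Q w) = 1
      rw [hP2 w hw, map_one, MonoidHom.one_apply, one_mul]
    have hk' : ∀ g, ∀ w : ↥(W₁ ⊔ W₂), (w : G) ∈ W₁ → E 1 g w = 1 := fun f w hw => by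
      show (1 : W₁ →* ℂˣ) (P w) * f (Q w) = 1
      rw [hQ1 w hw, map_one, MonoidHom.one_apply, one_mul]
    obtain ⟨r1, r2⟩ := Cfsg.Agent.S1505.result W₁ W₂ hW (E i.1 1) (E i'.1 1) (E 1 j.1) (E 1 j'.1)
      (hn i.2) (hn i'.2) (hn' j.2) (hn' j'.2) (fun w hw => ⟨hk _ w hw, hk _ w hw⟩)
      (fun w hw => ⟨hk' _ w hw, hk' _ w hw⟩)
    refine ⟨r1, r2.trans ?_⟩
    have q1 : E i.1 1 = E i'.1 1 ↔ i = i' :=
      ⟨fun e => Subtype.ext (hEinj e).1, fun e => by rw [e]⟩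
    have q2 : E 1 j.1 = E 1 j'.1 ↔ j = j' :=
      ⟨fun e => Subtype.ext (hEinj e).2, fun e => by rw [e]⟩
    simp only [q1, q2]
  have hββ : ∀ (i i' : I) (j j' : J), classInner (β i j) (β i' j') =
      (if i = i' then 1 else 0) + (if j = j' then 1 else 0) +
        (if i = i' then 1 else 0) * (if j = j' then 1 else 0) := by
    intro i i' j j'
    have h1 : classInner (fun _ : G => (1 : ℂ)) (indFun (W₁ ⊔ W₂) (α i'.1 j'.1)) = 1 := by
      rw [← classInner_conj_symm, (h5 i' i' j' j').1, map_one]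
    simp only [β, classInner_sub_left, classInner_sub_right, (h5 i i' j j').1, (h5 i i' j j').2, h1,
      classInner_self_irr isIrr_one]
    ring
  have hβgen : ∀ (i : I) (j : J), IsGeneralizedCharacter G (β i j) := by
    intro i j
    refine IsGenChar.sub (IsGenChar.ind _ ?_) (IsGenChar.of_isCharacter (IsIrr.isCharacter isIrr_one))
    have hl : ∀ l : ↥(W₁ ⊔ W₂) →* ℂˣ, IsGeneralizedCharacter ↥(W₁ ⊔ W₂) (fun w => (l w : ℂ)) :=
      fun l => IsGenChar.of_isCharacter (IsIrr.isCharacter (isIrr_linear l))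
    have e : α i.1 j.1 = (fun _ => 1) - (fun w => (E i.1 1 w : ℂ)) - (fun w => (E 1 j.1 w : ℂ)) +
        fun w => ((E i.1 1 * E 1 j.1) w : ℂ) := by
      funext w; simp [α]
    rw [e]
    exact IsGenChar.add (IsGenChar.sub (IsGenChar.sub
      (IsGenChar.of_isCharacter (IsIrr.isCharacter isIrr_one)) (hl _)) (hl _)) (hl _)
  have hβ1 : ∀ (i : I) (j : J), β i j 1 = -1 := fun i j => by
    simp [β, indFun_one_eq, hαv]
  choose a ha hdecomp using fun i j => IsGenChar.exists_decomp (hβgen i j)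
  choose dd hdd hdd' using fun φ : IrrCharacter G => IsIrr.one_eq_pos φ.2
  have hin : ∀ (i i' : I) (j j' : J), ((∑ x, a i j x * a i' j' x : ℤ) : ℂ) = classInner (β i j) (β i' j') := by
    intro i i' j j'
    conv_rhs => rw [hdecomp i j, hdecomp i' j']
    rw [classInner_sum_sum]
    simp
  have hdeg : ∀ (i : I) (j : J), ∑ x, a i j x * (dd x : ℤ) = -1 := by
    intro i j
    have h := hβ1 i j
    rw [hdecomp i j] at h
    simp only [Finset.sum_apply, Pi.smul_apply, smul_eq_mul, hdd'] at h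
    exact_mod_cast h
  have htri : ∀ (i : I) (j : J), TICore.Tri (a i j) := fun i j => tri_of_sq (by
    have h := hin i i j j
    rw [hββ] at h
    simp only [if_true, ← sq] at h
    norm_num at h
    exact_mod_cast h)
  have hone : ∀ {i i' : I} {j j' : J}, classInner (β i j) (β i' j') = 1 → TICore.One (a i j) (a i' j') :=
    fun {i i' j j'} h => one_of_inner (htri i j) (htri i' j') (fun x => (dd x : ℤ))
      (fun x => by exact_mod_cast hdd x) ((hdeg i j).trans (hdeg i' j').symm)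
      (by exact_mod_cast (hin i i' j j').trans h)
  have hgrid : TICore.Grid a :=
    ⟨htri, fun i j k hjk => hone (by rw [hββ]; simp [hjk]),
      fun i k j hik => hone (by rw [hββ]; simp [hik]),
      fun i k j l hik hjl => by
        have h := hin i k j l
        rw [hββ] at h
        simp only [hik, hjl, if_false, mul_zero, add_zero] at h
        exact_mod_cast h⟩
  obtain ⟨e, σ, he, hσ, hframe⟩ := hgrid.exists_frame' hIc hJc h4
  let o : IrrCharacter G := ⟨fun _ => 1, isIrr_one⟩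
  have ho : ∀ (i : I) (j : J), a i j o = 0 := by
    intro i j
    have h := ha i j o
    have h2 : classInner (β i j) (o : G → ℂ) = 0 := by
      simp only [β, o, classInner_sub_left, (h5 i i j j).1, classInner_self_irr isIrr_one, sub_self]
    rw [h2] at h
    exact_mod_cast h.symm
  obtain ⟨i₀⟩ : Nonempty I := Fintype.card_pos_iff.1 (by omega)
  obtain ⟨j₀⟩ : Nonempty J := Fintype.card_pos_iff.1 (by omega)
  have hσ0 : ∀ k, σ k ≠ 0 := fun k => by rcases hσ k with h | h <;> omega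
  have heo : ∀ k, e k ≠ o := by
    have key : ∀ i j, e (.inl i) ≠ o ∧ e (.inr (.inl j)) ≠ o ∧ e (.inr (.inr (i, j))) ≠ o := by
      intro i j
      have h := hframe i j
      refine ⟨fun hh => ?_, fun hh => ?_, fun hh => ?_⟩
      · have := h (e (.inl i))
        rw [hh, ho] at this
        simp only [← hh, he.eq_iff, reduceCtorEq, Sum.inr.injEq, if_true, if_false, add_zero] at this
        exact hσ0 _ this.symm
      · have := h (e (.inr (.inl j)))
        rw [hh, ho] at this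
        simp only [← hh, he.eq_iff, reduceCtorEq, Sum.inr.injEq, if_true, if_false, zero_add,
          add_zero] at this
        exact hσ0 _ this.symm
      · have := h (e (.inr (.inr (i, j))))
        rw [hh, ho] at this
        simp only [← hh, he.eq_iff, reduceCtorEq, Sum.inr.injEq, if_true, if_false, zero_add] at this
        exact hσ0 _ this.symm
    rintro (i | j | ⟨i, j⟩)
    · exact (key i j₀).1
    · exact (key i₀ j).2.1
    · exact (key i j).2.2
  -- the signed basis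
  let e' : Option (I ⊕ J ⊕ (I × J)) → IrrCharacter G := fun k => k.elim o e
  have he' : Function.Injective e' := by
    rintro (_ | k) (_ | l) h
    · rfl
    · exact absurd h.symm (heo l)
    · exact absurd h (heo k)
    · exact congrArg some (he h)
  let sg : Option (I ⊕ J ⊕ (I × J)) → ℤ := fun k =>
    k.elim 1 (Sum.elim (fun i => -σ (.inl i))
      (Sum.elim (fun j => -σ (.inr (.inl j))) fun p => σ (.inr (.inr p))))
  have hsg : ∀ k, sg k = 1 ∨ sg k = -1 := by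
    rintro (_ | i | j | p)
    · exact .inl rfl
    · show -σ (.inl i) = 1 ∨ -σ (.inl i) = -1
      rcases hσ (.inl i) with h | h <;> simp [h]
    · show -σ (.inr (.inl j)) = 1 ∨ -σ (.inr (.inl j)) = -1
      rcases hσ (.inr (.inl j)) with h | h <;> simp [h]
    · exact hσ _
  let key : (W₁ →* ℂˣ) → (W₂ →* ℂˣ) → Option (I ⊕ J ⊕ (I × J)) := fun f g =>
    if hf : f = 1 then (if hg : g = 1 then none else some (.inr (.inl ⟨g, hg⟩)))
    else (if hg : g = 1 then some (.inl ⟨f, hf⟩) else some (.inr (.inr (⟨f, hf⟩, ⟨g, hg⟩))))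
  have hkey : ∀ {f f' g g'}, key f g = key f' g' → f = f' ∧ g = g' := by
    intro f f' g g' h
    by_cases a₁ : f = 1 <;> by_cases a₂ : g = 1 <;> by_cases b₁ : f' = 1 <;> by_cases b₂ : g' = 1 <;>
      simp [key, a₁, a₂, b₁, b₂, I, J] at h ⊢ <;> first | exact h | done
  let χ : (↥(W₁ ⊔ W₂) →* ℂˣ) → G → ℂ := fun ω =>
    (sg (key (ω.comp i₁) (ω.comp i₂)) : ℂ) • (e' (key (ω.comp i₁) (ω.comp i₂)) : G → ℂ)
  have hsgC : ∀ k, (sg k : ℂ) = 1 ∨ (sg k : ℂ) = -1 := fun k => by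
    rcases hsg k with h | h <;> simp [h]
  have horth : ∀ ω ω', classInner (χ ω) (χ ω') = if ω = ω' then 1 else 0 := by
    intro ω ω'
    simp only [χ, classInner_smul_left, classInner_smul_right]
    rw [classInner_irr_eq_ite (e' _).2 (e' _).2]
    by_cases hω : ω = ω'
    · subst hω
      rw [if_pos rfl, if_pos rfl]
      rcases hsgC (key (ω.comp i₁) (ω.comp i₂)) with h | h <;> rw [h] <;> simp
    · rw [if_neg hω, if_neg]
      · simp
      · intro h
        obtain ⟨h1, h2⟩ := hkey (he' (Subtype.ext h))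
        exact hω (by rw [← hE ω, ← hE ω', h1, h2])
  have hχE : ∀ f g, χ (E f g) = (sg (key f g) : ℂ) • (e' (key f g) : G → ℂ) := fun f g => by
    simp only [χ, (hE1 f g).1, (hE1 f g).2]
  have hχ11 : χ 1 = fun _ => 1 := by
    rw [← hE11, hχE]
    funext x
    simp [key, sg, e', o]
  have hχ0 : ∀ (i : I) (j : J), indFun (W₁ ⊔ W₂) (α i.1 j.1) =
      (fun _ => 1) - χ (E i.1 1) - χ (E 1 j.1) + χ (E i.1 j.1) := by
    intro i j
    have hb := hdecomp i j
    simp only [hframe, Int.cast_add, Int.cast_ite, Int.cast_zero, add_smul, ite_smul, zero_smul,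
      Finset.sum_add_distrib, Finset.sum_ite_eq', Finset.mem_univ, if_true] at hb
    have e1 : key i.1 1 = some (.inl i) := by simp [key, i.2]
    have e2 : key 1 j.1 = some (.inr (.inl j)) := by simp [key, j.2]
    have e3 : key i.1 j.1 = some (.inr (.inr (i, j))) := by simp [key, i.2, j.2]
    rw [hχE, hχE, hχE, e1, e2, e3]
    funext x
    have hbx := congrFun hb x
    simp only [β, sg, e', Option.elim, Sum.elim_inl, Sum.elim_inr, Pi.sub_apply, Pi.add_apply,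
      Pi.smul_apply, smul_eq_mul, Int.cast_neg] at hbx ⊢
    linear_combination hbx
  have hχcl : ∀ ω, IsClassFunction G (χ ω) := fun ω a b => by
    simp only [χ, Pi.smul_apply, smul_eq_mul]
    rw [IsIrr.classFun (e' _).2 a b]
  refine ⟨χ, ⟨fun ω => ?_, fun a b => (horth a b).trans (by convert rfl), hχ11, fun ω v hv₁ hv₂ => ?_, fun φ ψ hφ hψ hφ₂ hψ₁ => ?_⟩⟩
  · rcases hsgC (key (ω.comp i₁) (ω.comp i₂)) with h | h
    · left; simpa [χ, h] using (e' _).2
    · right; simpa [χ, h] using (e' _).2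
  · -- the values outside the two factors
    let h : ↥(W₁ ⊔ W₂) → ℂ := fun w => χ ω w - (ω w : ℂ)
    have hperp : ∀ f g, ∑ w, α f g w * conj (h w) = 0 := by
      intro f g
      by_cases hf : f = 1
      · simp [hαv, hf]
      by_cases hg : g = 1
      · simp [hαv, hg]
      have hl := classInner_indFun (W₁ ⊔ W₂) (α f g) (hχcl ω)
      have e1 : classInner (α f g) (fun w : ↥(W₁ ⊔ W₂) => (ω w : ℂ)) =
          classInner (indFun (W₁ ⊔ W₂) (α f g)) (χ ω) := by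
        have el : ∀ l, classInner (fun w : ↥(W₁ ⊔ W₂) => (l w : ℂ)) (fun w => (ω w : ℂ)) =
            classInner (χ l) (χ ω) := by
          intro l
          rw [horth, classInner_irr_eq_ite (isIrr_linear l) (isIrr_linear ω)]
          exact if_congr ⟨fun e => MonoidHom.ext fun w => Units.ext (congrFun e w),
            fun e => by rw [e]⟩ rfl rfl
        have eα : α f g = (fun w => ((1 : ↥(W₁ ⊔ W₂) →* ℂˣ) w : ℂ)) - (fun w => (E f 1 w : ℂ)) -
            (fun w => (E 1 g w : ℂ)) + fun w => (E f g w : ℂ) := by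
          funext w
          simp [α, hEv]
        rw [hχ0 ⟨f, hf⟩ ⟨g, hg⟩, eα, classInner_add_left, classInner_sub_left, classInner_sub_left,
          classInner_add_left, classInner_sub_left, classInner_sub_left, el, el, el, el, hχ11]
      rw [← e1] at hl
      have h0 : classInner (α f g) h = 0 := by
        rw [show h = (fun w : ↥(W₁ ⊔ W₂) => χ ω w) - fun w => (ω w : ℂ) from rfl,
          classInner_sub_right, ← hl, sub_self]
      simp only [classInner] at h0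
      exact (mul_eq_zero.1 h0).resolve_left (inv_ne_zero (Nat.cast_ne_zero.2 Nat.card_pos.ne'))
    have hPv : P v ≠ 1 := fun e => hv₂ (by
      rw [← hsplit v, e, map_one, one_mul]; exact (Q v).2)
    have hQv : Q v ≠ 1 := fun e => hv₁ (by
      rw [← hsplit v, e, map_one, mul_one]; exact (P v).2)
    have key0 : ∑ f : W₁ →* ℂˣ, ∑ g : W₂ →* ℂˣ,
        (((f (P v))⁻¹ : ℂˣ) : ℂ) * (((g (Q v))⁻¹ : ℂˣ) : ℂ) * ∑ w, α f g w * conj (h w) = 0 := by
      simp [hperp]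
    have key1 : ∑ w, ((∑ f : W₁ →* ℂˣ, (((f (P v))⁻¹ : ℂˣ) : ℂ) * (1 - (f (P w) : ℂ))) *
        (∑ g : W₂ →* ℂˣ, (((g (Q v))⁻¹ : ℂˣ) : ℂ) * (1 - (g (Q w) : ℂ)))) * conj (h w) = 0 := by
      rw [← key0]
      simp only [Finset.sum_mul, Finset.mul_sum]
      conv_lhs => arg 2; ext w; rw [Finset.sum_comm]
      rw [Finset.sum_comm]
      refine Finset.sum_congr rfl fun f _ => ?_
      rw [Finset.sum_comm]
      refine Finset.sum_congr rfl fun g _ => Finset.sum_congr rfl fun w _ => ?_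
      rw [hαv]
      ring
    rw [Finset.sum_eq_single v] at key1
    · rw [pick hab₁ hPv, pick hab₂ hQv, if_pos rfl, if_pos rfl] at key1
      rcases mul_eq_zero.1 key1 with h' | h'
      · rcases mul_eq_zero.1 h' with h'' | h'' <;>
          exact absurd (neg_eq_zero.1 h'') (Nat.cast_ne_zero.2 Fintype.card_ne_zero)
      · exact sub_eq_zero.1 ((map_eq_zero _).1 h')
    · intro w _ hw
      rw [pick hab₁ hPv, pick hab₂ hQv]
      by_cases h1 : P w = P v
      · have h2 : Q w ≠ Q v := fun e => hw (by rw [← hsplit w, ← hsplit v, h1, e])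
        rw [if_neg h2, mul_zero, zero_mul]
      · rw [if_neg h1, zero_mul, zero_mul]
    · exact fun hh => absurd (Finset.mem_univ v) hh
  · -- the induction identity
    have e1 : φ.comp i₂ = 1 := MonoidHom.ext fun b => hφ₂ _ b.2
    have e2 : ψ.comp i₁ = 1 := MonoidHom.ext fun a => hψ₁ _ a.2
    obtain ⟨f, hf, rfl⟩ : ∃ f, f ≠ 1 ∧ E f 1 = φ := ⟨φ.comp i₁, fun hh => hφ (by
      rw [← hE φ, hh, e1, hE11]), by rw [← e1, hE]⟩
    obtain ⟨g, hg, rfl⟩ : ∃ g, g ≠ 1 ∧ E 1 g = ψ := ⟨ψ.comp i₂, fun hh => hψ (by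
      rw [← hE ψ, hh, e2, hE11]), by rw [← e2, hE]⟩
    have e3 : E f 1 * E 1 g = E f g := MonoidHom.ext fun w => by
      show f (P w) * (1 : W₂ →* ℂˣ) (Q w) * ((1 : W₁ →* ℂˣ) (P w) * g (Q w)) = f (P w) * g (Q w)
      simp
    rw [e3]
    exact hχ0 ⟨f, hf⟩ ⟨g, hg⟩

end Cfsg.Agent.Char.TIFamily
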