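import Cfsg.Agent.Lib.Char.CentricLocal

/-!
The idempotent of a block over a normal p-subgroup is the trace of that of a block of the centralizer.
-/

open scoped ComplexConjugate

namespace Cfsg.Agent.Char.TraceIdem

open Cfsg Cfsg.Agent.Block Cfsg.Agent.Char.BP

set_option linter.unusedSectionVars false
set_option linter.style.haveILetI false

universe u

variable {G : Type u} [Group G] [Fintype G] {p : ℕ} [Fact p.Prime] {M : Ideal AlgInt}

theorem conjPerm_image (hM : IsPModular p M) (N : Subgroup G) [N.Normal] [Fintype N]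
    {e : Set (IrrCharacter N)} (he : IsPBlock M e) {y : G} {η : IrrCharacter N} (hη : η ∈ e)
    (hy : conjPerm N y η ∈ e) : StabilizesBlock N e y⁻¹ := by
  refine ⟨by rw [Subgroup.normalizer_eq_top]; exact Subgroup.mem_top _, fun χ hχ => ?_⟩
  refine ⟨conjPerm N y χ, pblock_mem_of_sameBlock hM he hy
    (sameBlock_conjPerm N y (pblock_sameBlock hM he hη hχ)), fun k k' h => ?_⟩
  refine congrArg (χ : N → ℂ) (Subtype.ext ?_)
  show y * (k' : G) * y⁻¹ = (k : G)
  rw [h]; group

theorem conjPerm_of_stabilizes (N : Subgroup G) [N.Normal] [Fintype N]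
    {e : Set (IrrCharacter N)} {y : G} (h : StabilizesBlock N e y⁻¹) {η : IrrCharacter N}
    (hη : η ∈ e) : conjPerm N y η ∈ e := by
  obtain ⟨χ', hχ', hc⟩ := h.2 η hη
  suffices conjPerm N y η = χ' by rwa [this]
  refine Subtype.ext (funext fun n => ?_)
  show (η : N → ℂ) _ = _
  refine (hc _ n ?_).symm
  show (n : G) = y⁻¹ * (y * n * y⁻¹) * y⁻¹⁻¹
  group

/-- The indicator of the union of the conjugates is the average of the conjugates. -/
theorem blockInd_union (hM : IsPModular p M) (N : Subgroup G) [N.Normal] [Fintype N]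
    {e : Set (IrrCharacter N)} (he : IsPBlock M e) (T : Subgroup G)
    (hT : ∀ x : G, x ∈ T ↔ StabilizesBlock N e x) (θ : IrrCharacter N) :
    blockInd (conjUnion N e) θ =
      (Nat.card T : ℂ)⁻¹ * ∑ x : G, blockInd e (conjPerm N x θ) := by
  classical
  by_cases hθ : θ ∈ conjUnion N e
  · obtain ⟨g, hg⟩ := id hθ
    rw [blockInd_of_mem hθ]
    have key : ∀ x : G, blockInd e (conjPerm N x θ) = if g⁻¹ * x ∈ T then 1 else 0 := by
      intro x
      have e1 : conjPerm N x θ = conjPerm N (g⁻¹ * x) (conjPerm N g θ) := by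
        rw [conjPerm_mul, mul_inv_cancel_left]
      by_cases hx : conjPerm N x θ ∈ e
      · rw [blockInd_of_mem hx, if_pos ?_]
        rw [e1] at hx
        exact inv_inv (g⁻¹ * x) ▸ T.inv_mem ((hT _).2 (conjPerm_image hM N he hg hx))
      · rw [blockInd_of_notMem hx, if_neg fun h => hx ?_]
        rw [e1]
        exact conjPerm_of_stabilizes N ((hT _).1 (T.inv_mem h)) hg
    rw [Finset.sum_congr rfl fun x _ => key x, Finset.sum_boole]
    have hcard : (Finset.univ.filter fun x : G => g⁻¹ * x ∈ T).card = Nat.card T := by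
      rw [← Fintype.card_subtype, ← Nat.card_eq_fintype_card]
      exact Nat.card_congr ((Equiv.mulLeft g⁻¹).subtypeEquiv fun x => Iff.rfl)
    rw [hcard, inv_mul_cancel₀ (Nat.cast_ne_zero.2 Nat.card_pos.ne')]
  · rw [blockInd_of_notMem hθ, Finset.sum_eq_zero fun x _ => blockInd_of_notMem
      fun h => hθ ⟨x, h⟩, mul_zero]

/-- The idempotent of the block as the trace of that of the block of the centralizer. -/
theorem blockCoeff_trace (hM : IsPModular p M) {P : Subgroup G} [P.Normal] (hP : IsPGroup p P)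
    [(CG P).Normal]
    {B : Set (IrrCharacter G)} {e : Set (IrrCharacter (CG P))} (he : IsPBlock M e)
    (hab : OfB p M B (⟨P, e⟩ : BrauerPairIdx G)) (T : Subgroup G)
    (hT : ∀ x : G, x ∈ T ↔ StabilizesBlock (CG P) e x) (g : G) :
    blockCoeff B g = (Nat.card T : ℂ)⁻¹ *
      ∑ x : G, subgroupBlockCoeff (CG P) e (x⁻¹ * g * x) := by
  classical
  letI := Fintype.ofFinite (CG P)
  have hB := hab.2.1
  have key : ∀ B' : Set (IrrCharacter G), IsPBlock M B' →
      (∃ χ ∈ B', ∃ θ ∈ e, classInner (fun n : CG P => (χ : G → ℂ) n) (θ : CG P → ℂ) ≠ 0) →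
      B' = B := by
    rintro B' hB' ⟨χ, hχ, θ, hθ, hne⟩
    have hinv : ∀ W : Subgroup G, Inv W (blockCoeff B') :=
      inv_of_classFun (blockCoeff_classFun B')
    refine ofB_unique hM (ofB_of_holds hB' ⟨hP, he⟩ ((holds_or hM (x := ⟨P, e⟩) ⟨hP, he⟩
      (blockCoeff_idem hM hB') (hinv _) (hinv _)).resolve_right fun h0 => ?_)) hab
    have h1 := h0 θ hθ
    rw [val_eq, show res (CG P) (blockCoeff B') = fun n : CG P => blockCoeff B' (n : G) from rfl,
      ← omegaFun_cover (CG P) (blockCoeff_classFun B') (supp_of_normal hM hP hB') χ hne,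
      funext (blockCoeff_eq B'), omegaFun_coeffFun, blockInd_of_mem hχ] at h1
    exact ideal_one hM h1
  set U := conjUnion (CG P) e with hU
  have hst := conjStable_conjUnion (CG P) e
  have hone : ∀ χ : IrrCharacter G, covInd (CG P) U χ = 1 → χ ∈ B := fun χ h => by
    obtain ⟨θ, ⟨y, hy⟩, hne⟩ := (covInd_eq_one_iff _ hst χ).1 h
    exact key _ (isPBlock_blockOf χ) ⟨χ, mem_blockOf_self hM χ, _, hy,
      constituent_of_conj _ y hne⟩ ▸ mem_blockOf_self hM χ
  have hci : CenInt M (covInd (CG P) U) := by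
    intro h
    rw [show covInd (CG P) U = fun χ => omegaFun χ (covCoeff (CG P) U) from rfl,
      coeffFun_omegaFun (covCoeff_classFun _ hst)]
    by_cases hh : h ∈ CG P
    · rw [covCoeff, dif_pos hh]
      exact cenInt_union hM (conjUnion_closed _ hM he) _
    · rw [covCoeff_of_notMem _ _ hh]
      exact ring_zero hM
  have hind : blockInd B = covInd (CG P) U := by
    funext χ
    by_cases hχ : χ ∈ B
    · obtain ⟨θ, hθ⟩ := pblock_nonempty hM he
      obtain ⟨χ₁, hχ₁⟩ := exists_over (CG P) θ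
      have h1 : covInd (CG P) U χ₁ = 1 :=
        (covInd_eq_one_iff _ hst χ₁).2 ⟨θ, subset_conjUnion _ e hθ, hχ₁⟩
      rw [blockInd_of_mem hχ]
      refine ((covInd_zero_or_one _ hst χ).resolve_left fun h0 => ?_).symm
      have hd := hci.congr_block hM (pblock_sameBlock hM hB (hone χ₁ h1) hχ)
      rw [h1, h0, sub_zero] at hd
      exact ideal_one hM hd
    · rw [blockInd_of_notMem hχ]
      exact ((covInd_zero_or_one _ hst χ).resolve_right fun h => hχ (hone χ h)).symm
  rw [blockCoeff_eq, hind, show covInd (CG P) U = fun χ => omegaFun χ (covCoeff (CG P) U) from rfl,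
    coeffFun_omegaFun (covCoeff_classFun _ hst)]
  by_cases hg : g ∈ CG P
  swap
  · rw [covCoeff_of_notMem _ _ hg, Finset.sum_eq_zero fun x _ => ?_, mul_zero]
    refine bc_supp (CG P) e _ fun h => hg ?_
    simpa [mul_assoc] using Subgroup.Normal.conj_mem inferInstance _ h x
  · rw [show covCoeff (CG P) U g = _ from covCoeff_coe _ U ⟨g, hg⟩]
    have hmem : ∀ x : G, x⁻¹ * g * x ∈ CG P := fun x => by
      simpa using Subgroup.Normal.conj_mem inferInstance g hg x⁻¹
    have hterm' : ∀ x : G, coeffFun (fun θ => blockInd e (conjPerm (CG P) x θ)) (⟨g, hg⟩ : CG P) =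
        subgroupBlockCoeff (CG P) e (x⁻¹ * g * x) := fun x => by
      rw [show subgroupBlockCoeff (CG P) e (x⁻¹ * g * x) = blockCoeff e ⟨x⁻¹ * g * x, hmem x⟩
        from bc_coe (CG P) e ⟨_, hmem x⟩, blockCoeff_eq, coeffFun_eq_sum, coeffFun_eq_sum]
      congr 1
      refine Fintype.sum_equiv (conjPerm (CG P) x) _ _ fun θ => ?_
      congr 2
      · exact congrArg (θ : CG P → ℂ) (Subtype.ext (by simp))
      · exact congrArg (θ : CG P → ℂ) (Subtype.ext (by
          show g⁻¹ = x * (x⁻¹ * g * x)⁻¹ * x⁻¹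
          group))
    rw [funext (blockInd_union hM (CG P) he T hT), coeffFun_eq_sum]
    rw [← Finset.sum_congr rfl fun x _ => hterm' x]
    simp only [coeffFun_eq_sum, Finset.mul_sum, Finset.sum_mul]
    rw [Finset.sum_comm]
    refine Finset.sum_congr rfl fun x _ => Finset.sum_congr rfl fun θ _ => ?_
    ring

end Cfsg.Agent.Char.TraceIdem
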