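import Mathlib
import Cfsg.Prelude.Def_Blocks
import Cfsg.Prelude.Def_Transfer
import Cfsg.Agent.Lib.Char.Induce
import Cfsg.Agent.Lib.Char.Complete
import Cfsg.Agent.Lib.Block.SchurIndicator

/-!
# Strongly real characters from one orbit

For a semidirect product of an elementary abelian group of odd order by a two-group with a central
involution inverting it, one orbit of linear characters already gives enough strongly real characters
of even degree to balance the real linear characters.
-/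

set_option autoImplicit false

open Cfsg
open scoped ComplexConjugate

namespace Cfsg.Agent.Char.TwoGroupOrbit

universe u

variable {G : Type u} [Group G]

/-- The homomorphisms with values `1`, `-1`. -/
abbrev SignHom (K : Type*) [Group K] : Type _ := {h : K →* ℂˣ // ∀ p, h p * h p = 1}

theorem signHom_finite (K : Type*) [Group K] [Finite K] : Finite (SignHom K) := by
  classical
  refine Finite.of_injective (fun h p => decide (h.1 p = 1) : SignHom K → K → Bool) fun h k e =>
    Subtype.ext (MonoidHom.ext fun p => ?_)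
  have hh : ∀ (f : SignHom K), f.1 p = 1 ∨ f.1 p = -1 := fun f => by
    rcases mul_self_eq_one_iff.mp (show ((f.1 p : ℂˣ) : ℂ) * (f.1 p : ℂˣ) = 1 by
      rw [← Units.val_mul, f.2 p, Units.val_one]) with h | h
    · exact Or.inl (Units.ext h)
    · exact Or.inr (Units.ext h)
  have he : (h.1 p = 1) ↔ (k.1 p = 1) := decide_eq_decide.mp (congrFun e p)
  rcases hh h with h1 | h1
  · rw [h1, he.mp h1]
  · rcases hh k with h2 | h2
    · rw [h2, he.mpr h2]
    · rw [h1, h2]

/-- Few homomorphisms to `1`, `-1` are trivial on a subgroup. -/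
theorem card_signHom_ker_le {K : Type*} [Group K] [Finite K] (T : Subgroup K) :
    Nat.card {h : SignHom K // ∀ t ∈ T, h.1 t = 1} ≤ T.index := by
  classical
  have := signHom_finite K
  have := Fintype.ofFinite {h : SignHom K // ∀ t ∈ T, h.1 t = 1}
  have := Fintype.ofFinite (K ⧸ T)
  let f : {h : SignHom K // ∀ t ∈ T, h.1 t = 1} → (K ⧸ T → ℂ) := fun h =>
    Quotient.lift (fun p : K => ((h.1.1 p : ℂˣ) : ℂ)) fun a b hab => by
      have hm : a⁻¹ * b ∈ T := QuotientGroup.leftRel_apply.mp hab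
      have h1 := h.2 _ hm
      rw [map_mul, map_inv, inv_mul_eq_one] at h1
      rw [h1]
  let Φ : (K ⧸ T → ℂ) →ₗ[ℂ] (K → ℂ) := LinearMap.funLeft ℂ ℂ (QuotientGroup.mk : K → K ⧸ T)
  have hinj : Function.Injective
      (fun h : {h : SignHom K // ∀ t ∈ T, h.1 t = 1} => (Units.coeHom ℂ).comp h.1.1) := fun a b e =>
    Subtype.ext (Subtype.ext (MonoidHom.ext fun p => Units.ext (DFunLike.congr_fun e p)))
  have hli : LinearIndependent ℂ f := by
    refine LinearIndependent.of_comp Φ ?_
    exact (linearIndependent_monoidHom K ℂ).comp _ hinj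
  have h2 := hli.fintype_card_le_finrank
  rw [Module.finrank_fintype_fun_eq_card, ← Nat.card_eq_fintype_card, ← Nat.card_eq_fintype_card] at h2
  exact h2

theorem card_signHom_le {K : Type*} [Group K] [Finite K] (T : Subgroup K) :
    Nat.card (SignHom K) ≤ T.index * Nat.card (SignHom T) := by
  classical
  have := signHom_finite K
  have := signHom_finite T
  have := Fintype.ofFinite (SignHom K)
  have := Fintype.ofFinite (SignHom T)
  let r : SignHom K → SignHom T := fun h => ⟨h.1.comp T.subtype, fun p => h.2 _⟩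
  rw [Nat.card_eq_fintype_card, Nat.card_eq_fintype_card, ← Finset.card_univ]
  refine (Finset.card_le_mul_card_image (f := r) Finset.univ T.index ?_).trans
    (Nat.mul_le_mul_left _ (Finset.card_le_univ _))
  intro b hb
  obtain ⟨h0, -, rfl⟩ := Finset.mem_image.mp hb
  refine le_trans ?_ (card_signHom_ker_le T)
  rw [← Fintype.card_subtype, ← Nat.card_eq_fintype_card]
  refine Nat.card_le_card_of_injective (fun h => ⟨⟨h.1.1 * h0.1, fun p => ?_⟩, ?_⟩) fun a b e => ?_
  · show h.1.1 p * h0.1 p * (h.1.1 p * h0.1 p) = 1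
    rw [mul_mul_mul_comm, h.1.2, h0.2, one_mul]
  · intro t ht
    show h.1.1 t * h0.1 t = 1
    have e := DFunLike.congr_fun (congrArg Subtype.val h.2) ⟨t, ht⟩
    change h.1.1 t = h0.1 t at e
    rw [e, h0.2]
  · have e1 : a.1.1 * h0.1 = b.1.1 * h0.1 := congrArg (fun x => x.1.1) e
    exact Subtype.ext (Subtype.ext (mul_right_cancel e1))

/-- A linear character of indicator one takes only the values `1`, `-1`. -/
theorem sq_eq_one_of_indicator [Fintype G] (l : G →* ℂˣ)
    (h : (Nat.card G : ℂ)⁻¹ * ∑ g : G, ((l (g * g) : ℂˣ) : ℂ) = 1) (g : G) : l g * l g = 1 := by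
  by_contra hne
  have hn : (Nat.card G : ℂ) ≠ 0 := Nat.cast_ne_zero.mpr Nat.card_pos.ne'
  have h0 : ∑ x : G, ((l (x * x) : ℂˣ) : ℂ) = 0 := by
    have e : ∑ x : G, ((l (x * x) : ℂˣ) : ℂ) = ((l g * l g : ℂˣ) : ℂ) * ∑ x : G, ((l (x * x) : ℂˣ) : ℂ) := by
      rw [Finset.mul_sum]
      refine (Fintype.sum_equiv (Equiv.mulLeft g) _ _ fun x => ?_).symm
      simp only [Equiv.coe_mulLeft, map_mul, Units.val_mul]
      ring
    have e2 : (1 - ((l g * l g : ℂˣ) : ℂ)) * ∑ x : G, ((l (x * x) : ℂˣ) : ℂ) = 0 := by linear_combination e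
    refine (mul_eq_zero.mp e2).resolve_left fun h1 => hne (Units.ext ?_)
    rw [Units.val_one]
    linear_combination -h1
  rw [h0, mul_zero] at h
  exact zero_ne_one h

theorem sum_hom_eq_zero {K : Type*} [Group K] [Fintype K] (l : K →* ℂˣ) (hl : l ≠ 1) :
    ∑ k : K, ((l k : ℂˣ) : ℂ) = 0 := by
  obtain ⟨g, hg⟩ : ∃ g, l g ≠ 1 := by
    by_contra hc
    push Not at hc
    exact hl (MonoidHom.ext hc)
  have e : ∑ x : K, ((l x : ℂˣ) : ℂ) = ((l g : ℂˣ) : ℂ) * ∑ x : K, ((l x : ℂˣ) : ℂ) := by
    rw [Finset.mul_sum]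
    refine (Fintype.sum_equiv (Equiv.mulLeft g) _ _ fun x => ?_).symm
    simp only [Equiv.coe_mulLeft, map_mul, Units.val_mul]
  have e2 : (1 - ((l g : ℂˣ) : ℂ)) * ∑ x : K, ((l x : ℂˣ) : ℂ) = 0 := by linear_combination e
  refine (mul_eq_zero.mp e2).resolve_left fun h1 => hg (Units.ext ?_)
  rw [Units.val_one]
  linear_combination -h1

theorem exists_hom_ne_one (K : Type*) [CommGroup K] [Finite K] [Nontrivial K] : ∃ l : K →* ℂˣ, l ≠ 1 := by
  obtain ⟨a, ha⟩ := exists_ne (1 : K)
  obtain ⟨φ, hφ⟩ := CommGroup.exists_apply_ne_one_of_hasEnoughRootsOfUnity K ℂ ha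
  exact ⟨φ, fun e => hφ (by rw [e]; rfl)⟩

theorem isCharacter_linear {K : Type*} [Group K] (l : K →* ℂˣ) : IsCharacter K (fun k => (l k : ℂ)) :=
  IsIrr.isCharacter (isIrr_linear l)

/-- The bound. -/
theorem main [Finite G] (N P : Subgroup G) (hN : N.Normal) (q : ℕ) [hqf : Fact q.Prime] (hq : q ≠ 2)
    (hNel : Cfsg.IsElementaryAbelian q N) (hP : IsPGroup 2 ↥P) (hP1 : P ≠ ⊥) (hdisj : N ⊓ P = ⊥)
    (hprod : N ⊔ P = ⊤) (hmin : N ≠ ⊥ ∧ ∀ M : Subgroup G, M.Normal → M ≠ ⊥ → N ≤ M) :
    4 * Nat.card {χ : Cfsg.IrrCharacter G // (Cfsg.charDegree (χ : G → ℂ) = 1 ∨ 2 ∣ Cfsg.charDegree (χ : G → ℂ)) ∧ (Nat.card G : ℂ)⁻¹ * ∑ᶠ g : G, (χ : G → ℂ) (g * g) = 1} ≤ 3 * (∑ᶠ χ : {χ : Cfsg.IrrCharacter G // (Cfsg.charDegree (χ : G → ℂ) = 1 ∨ 2 ∣ Cfsg.charDegree (χ : G → ℂ)) ∧ (Nat.card G : ℂ)⁻¹ * ∑ᶠ g : G, (χ : G → ℂ) (g * g) = 1}, Cfsg.charDegree (χ.1 : G → ℂ)) := by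
  classical
  have := Fintype.ofFinite G
  have hcompl : N.IsComplement' P :=
    Subgroup.isComplement'_of_disjoint_and_mul_eq_univ (disjoint_iff.mpr hdisj)
      (by rw [← Subgroup.normal_mul, hprod]; rfl)
  let π : G →* P := (hcompl.symm.QuotientMulEquiv.toMonoidHom).comp (QuotientGroup.mk' N)
  have hπP : ∀ p : P, π p = p := fun p => by
    show hcompl.symm.QuotientMulEquiv (QuotientGroup.mk (p : G)) = p
    rw [← MulEquiv.eq_symm_apply]
    exact (Subgroup.IsComplement'.QuotientMulEquiv_symm_apply _ p).symm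
  have hπN : ∀ n ∈ N, π n = 1 := fun n hn => by
    show hcompl.symm.QuotientMulEquiv (QuotientGroup.mk n) = 1
    rw [(QuotientGroup.eq_one_iff n).mpr hn, map_one]
  have hπsurj : Function.Surjective π := fun p => ⟨p, hπP p⟩
  have hker : ∀ g, g * ((π g : P) : G)⁻¹ ∈ N := fun g => by
    have h : π (g * ((π g : P) : G)⁻¹) = 1 := by rw [map_mul, map_inv, hπP, mul_inv_cancel]
    have h2 : hcompl.symm.QuotientMulEquiv (QuotientGroup.mk (g * ((π g : P) : G)⁻¹)) = 1 := h
    rw [MulEquiv.map_eq_one_iff, QuotientGroup.eq_one_iff] at h2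
    exact h2
  letI : CommGroup N := { (inferInstance : Group N) with mul_comm := fun a b => hNel.1.is_comm.comm a b }
  have hNnt : Nontrivial N := N.nontrivial_iff_ne_bot.mpr hmin.1
  have : Fact (Nat.Prime 2) := ⟨Nat.prime_two⟩
  have hPnt : Nontrivial P := P.nontrivial_iff_ne_bot.mpr hP1
  -- a central involution inverting `N`
  obtain ⟨z, hzo, hzc⟩ : ∃ z : P, orderOf z = 2 ∧ z ∈ Subgroup.center P := by
    have hnt := hP.center_nontrivial
    obtain ⟨n, hn⟩ := (hP.to_subgroup (Subgroup.center P)).exists_card_eq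
    have hd : 2 ∣ Nat.card (Subgroup.center P) := by
      rw [hn]
      refine dvd_pow_self 2 fun e => ?_
      rw [e, pow_zero] at hn
      exact (Finite.one_lt_card (α := Subgroup.center P)).ne' hn
    obtain ⟨c, hc⟩ := exists_prime_orderOf_dvd_card' 2 hd
    exact ⟨c, by rw [Subgroup.orderOf_coe]; exact hc, c.2⟩
  have hzP : ∀ p ∈ P, (z : G) * p = p * (z : G) := fun p hp =>
    (congrArg Subtype.val (Subgroup.mem_center_iff.mp hzc ⟨p, hp⟩)).symm
  have hzz : (z : G) * z = 1 := by
    have h : z ^ 2 = 1 := by rw [← hzo]; exact pow_orderOf_eq_one z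
    rw [← pow_two, ← Subgroup.coe_pow, h, Subgroup.coe_one]
  have hfix : ∀ n ∈ N, (z : G) * n = n * z → n = 1 := by
    let C : Subgroup G := N ⊓ Subgroup.centralizer {(z : G)}
    have hCn : C.Normal := by
      have hle : ∀ x : G, x ∈ N ∨ x ∈ P → ∀ c ∈ C, x * c * x⁻¹ ∈ C := by
        intro x hx c hc
        have hc2 : c * (z : G) = z * c := Subgroup.mem_centralizer_singleton_iff.mp hc.2
        rcases hx with hx | hx
        · have : x * c = c * x := congrArg Subtype.val (hNel.1.is_comm.comm ⟨x, hx⟩ ⟨c, hc.1⟩)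
          rw [this, mul_inv_cancel_right]; exact hc
        · refine ⟨hN.conj_mem c hc.1 x, Subgroup.mem_centralizer_singleton_iff.mpr ?_⟩
          have h2 := hzP x⁻¹ (P.inv_mem hx)
          calc x * c * x⁻¹ * z = x * c * (z * x⁻¹) := by rw [h2]; group
            _ = x * (c * z) * x⁻¹ := by group
            _ = (x * z) * c * x⁻¹ := by rw [hc2]; group
            _ = z * (x * c * x⁻¹) := by rw [← hzP x hx]; group
      refine ⟨fun c hc g => ?_⟩
      have h := hle _ (Or.inl (hker g)) _ (hle _ (Or.inr (π g).2) c hc)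
      simpa [mul_assoc] using h
    by_cases hCb : C = ⊥
    · intro n hn hc
      have : n ∈ C := ⟨hn, Subgroup.mem_centralizer_singleton_iff.mpr hc.symm⟩
      rwa [hCb, Subgroup.mem_bot] at this
    · exfalso
      have hall := hmin.2 C hCn hCb
      have hcent : (z : G) ∈ Subgroup.center G := Subgroup.mem_center_iff.mpr fun g => by
        have h1 := Subgroup.mem_centralizer_singleton_iff.mp (hall (hker g)).2
        have h2 := hzP _ (π g).2
        calc g * z = (g * ((π g : P) : G)⁻¹) * (((π g : P) : G) * z) := by group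
          _ = ((g * ((π g : P) : G)⁻¹) * z) * ((π g : P) : G) := by rw [← h2]; group
          _ = z * g := by rw [h1]; group
      have hzn : (Subgroup.zpowers (z : G)).Normal := ⟨fun x hx g => by
        have hxc : x ∈ Subgroup.center G := Subgroup.zpowers_le.mpr hcent hx
        rw [Subgroup.mem_center_iff.mp hxc g, mul_inv_cancel_right]; exact hx⟩
      have hz1 : Subgroup.zpowers (z : G) ≠ ⊥ := by
        rw [Ne, Subgroup.zpowers_eq_bot]
        intro e
        have : z = 1 := Subtype.ext e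
        rw [this, orderOf_one] at hzo
        norm_num at hzo
      exact hmin.1 (le_bot_iff.mp (hdisj ▸ le_inf le_rfl
        ((hmin.2 _ hzn hz1).trans (Subgroup.zpowers_le.mpr z.2))))
  have hinv : ∀ n ∈ N, (z : G) * n * (z : G)⁻¹ = n⁻¹ := fun n hn => by
    have hzi : (z : G)⁻¹ = z := inv_eq_of_mul_eq_one_left hzz
    have hm : (z : G) * n * (z : G)⁻¹ ∈ N := hN.conj_mem n hn z
    have hcomm : n * ((z : G) * n * (z : G)⁻¹) = ((z : G) * n * (z : G)⁻¹) * n :=
      congrArg Subtype.val (hNel.1.is_comm.comm ⟨n, hn⟩ ⟨_, hm⟩)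
    have h1 : n * ((z : G) * n * (z : G)⁻¹) = 1 := by
      refine hfix _ (N.mul_mem hn hm) ?_
      rw [hzi] at hcomm ⊢
      calc (z : G) * (n * ((z : G) * n * z)) = ((z : G) * n * z) * n * z := by group
        _ = (n * ((z : G) * n * z)) * z := by rw [← hcomm]
    exact (inv_eq_of_mul_eq_one_right h1).symm
  -- a character of `N` and its stabilizer
  obtain ⟨lam, hlam⟩ := exists_hom_ne_one N
  let cN : G → N → N := fun g n => ⟨g * n * g⁻¹, hN.conj_mem n n.2 g⟩
  have cNmul : ∀ g h n, cN (g * h) n = cN g (cN h n) := fun g h n => Subtype.ext (by simp [cN, mul_assoc])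
  have cNone : ∀ n, cN 1 n = n := fun n => Subtype.ext (by simp [cN])
  let T : Subgroup P :=
    { carrier := {p | ∀ n, lam (cN p n) = lam n}
      one_mem' := fun n => by rw [Subgroup.coe_one, cNone]
      mul_mem' := fun {a b} ha hb n => by rw [Subgroup.coe_mul, cNmul, ha, hb]
      inv_mem' := fun {a} ha n => by
        rw [← ha (cN (↑a⁻¹ : G) n), ← cNmul, ← Subgroup.coe_mul, mul_inv_cancel, Subgroup.coe_one, cNone] }
  have hzlam : ∀ n : N, lam (cN (z : G) n) = (lam n)⁻¹ := fun n => by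
    rw [show cN (z : G) n = n⁻¹ from Subtype.ext (hinv n n.2), map_inv]
  have hzT : z ∉ T := by
    intro hz
    refine hlam (MonoidHom.ext fun n => ?_)
    have h2 : lam n ^ 2 = 1 := by
      have := hz n
      rw [hzlam] at this
      rw [pow_two]; nth_rewrite 1 [← this]; exact inv_mul_cancel _
    have hqn : lam n ^ q = 1 := by
      rw [← map_pow, show n ^ q = 1 from Subtype.ext (hNel.2 n n.2), map_one]
    have hco : Nat.Coprime 2 q := (Nat.coprime_primes Nat.prime_two hqf.out).mpr hq.symm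
    have := pow_gcd_eq_one.mpr ⟨(show lam n ^ 2 = 1 from h2), hqn⟩
    rwa [Nat.coprime_iff_gcd_eq_one.mp hco, pow_one] at this
  let M : Subgroup G := T.comap π
  have hMi : M.index = T.index := Subgroup.index_comap_of_surjective _ hπsurj
  set d := T.index with hd
  have hd2 : 2 ∣ d := by
    obtain ⟨k, hk⟩ := hP.exists_card_eq
    obtain ⟨j, -, hj⟩ := (Nat.dvd_prime_pow Nat.prime_two).mp (hk ▸ T.index_dvd_card)
    rw [hd, hj]
    refine dvd_pow_self 2 fun e => hzT ?_
    rw [e, pow_zero, Subgroup.index_eq_one] at hj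
    rw [hj]; exact Subgroup.mem_top z
  have hd0 : d ≠ 0 := Subgroup.index_ne_zero_of_finite
  let nP : G → N := fun g => ⟨g * ((π g : P) : G)⁻¹, hker g⟩
  have hnP : ∀ g h, nP (g * h) = nP g * cN ((π g : P) : G) (nP h) := fun g h => Subtype.ext (by
    simp [nP, cN, mul_assoc])
  let mu : SignHom T → (M →* ℂˣ) := fun θ =>
    { toFun := fun m => lam (nP m) * θ.1 ⟨π m, m.2⟩
      map_one' := by
        have e1 : nP ((1 : M) : G) = 1 := Subtype.ext (by simp [nP])
        have e2 : (⟨π ((1 : M) : G), (1 : M).2⟩ : T) = 1 := Subtype.ext (by simp)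
        rw [e1, e2, map_one, map_one, mul_one]
      map_mul' := fun a b => by
        have e2 : (⟨π ((a * b : M) : G), (a * b).2⟩ : T) = ⟨π a, a.2⟩ * ⟨π b, b.2⟩ :=
          Subtype.ext (by simp)
        have e3 : nP ((a * b : M) : G) = nP a * cN ((π a : P) : G) (nP b) := hnP a b
        have ha : ∀ n, lam (cN ((π (a : G) : P) : G) n) = lam n := a.2
        rw [e2, e3, map_mul lam, map_mul θ.1, ha, mul_mul_mul_comm] }
  have := Fintype.ofFinite M
  have hcl : ∀ θ, IsClassFunction G (indFun M (fun m => ((mu θ m : ℂˣ) : ℂ))) := fun θ => indFun_classFun _ _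
  -- translation by `N`
  have hmem : ∀ (n : N) (g : G), ((n : G) * g ∈ M ↔ g ∈ M) := fun n g => by
    simp [M, map_mul, hπN n n.2]
  have htrans : ∀ (θ : SignHom T) (n : N) (g : G), extendByZero M (fun m => ((mu θ m : ℂˣ) : ℂ)) ((n : G) * g) =
      ((lam n : ℂˣ) : ℂ) * extendByZero M (fun m => ((mu θ m : ℂˣ) : ℂ)) g := by
    intro θ n g
    by_cases hg : g ∈ M
    · rw [extendByZero_of_mem _ hg, extendByZero_of_mem _ ((hmem n g).mpr hg), ← Units.val_mul]
      congr 1
      show lam (nP ((n : G) * g)) * θ.1 ⟨π ((n : G) * g), _⟩ = lam n * (lam (nP g) * θ.1 ⟨π g, _⟩)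
      have e1 : nP ((n : G) * g) = n * nP g := Subtype.ext (by simp [nP, hπN n n.2, mul_assoc])
      have e2 : π ((n : G) * g) = π g := by rw [map_mul, hπN n n.2, one_mul]
      rw [e1, map_mul, mul_assoc]
      congr 3
      exact Subtype.ext e2
    · rw [extendByZero_not_mem _ hg, extendByZero_not_mem _ (fun h => hg ((hmem n g).mp h)), mul_zero]
  -- the characters are orthonormal
  have hortho : ∀ θ θ', classInner (indFun M (fun m => ((mu θ m : ℂˣ) : ℂ)))
      (indFun M (fun m => ((mu θ' m : ℂˣ) : ℂ))) = if θ = θ' then 1 else 0 := by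
    intro θ θ'
    rw [classInner_indFun M _ (hcl θ'), classInner]
    have hres : ∑ m : M, ((mu θ m : ℂˣ) : ℂ) * conj (indFun M (fun m => ((mu θ' m : ℂˣ) : ℂ)) m) =
        ∑ m : M, ((mu θ m : ℂˣ) : ℂ) * conj ((mu θ' m : ℂˣ) : ℂ) := by
      simp only [indFun, map_mul, map_sum, map_inv₀, map_natCast, Finset.mul_sum]
      rw [Finset.sum_comm]
      rw [← Finset.sum_filter_add_sum_filter_not Finset.univ (fun x : G => x ∈ M)]
      have hz0 : ∀ x ∈ Finset.univ.filter (fun x : G => ¬ x ∈ M), (∑ m : M, ((mu θ m : ℂˣ) : ℂ) *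
          ((Nat.card M : ℂ)⁻¹ * conj (extendByZero M (fun m => ((mu θ' m : ℂˣ) : ℂ)) (x⁻¹ * m * x)))) = 0 := by
        intro x hx
        have hx' : π x ∉ T := (Finset.mem_filter.mp hx).2
        obtain ⟨n, hn⟩ : ∃ n, lam (cN ((π x : P) : G)⁻¹ n) ≠ lam n := by
          by_contra hc
          push Not at hc
          refine hx' (inv_inv (π x) ▸ T.inv_mem fun n => ?_)
          rw [Subgroup.coe_inv]; exact hc n
        -- the same element seen through `x`
        have hcx : lam (cN x⁻¹ n) = lam (cN ((π x : P) : G)⁻¹ n) := by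
          congr 1
          have hab : ∀ a : N, cN (a : G) n = n := fun a => Subtype.ext (by
            show (a : G) * n * (a : G)⁻¹ = n
            rw [show (a : G) * n = n * a from congrArg Subtype.val (hNel.1.is_comm.comm a n), mul_inv_cancel_right])
          have ex : x⁻¹ = ((π x : P) : G)⁻¹ * (((⟨x * ((π x : P) : G)⁻¹, hker x⟩ : N)⁻¹ : N) : G) := by
            simp [mul_assoc]
          rw [ex, cNmul, hab]
        set F : M → ℂ := fun m => ((mu θ m : ℂˣ) : ℂ) *
          ((Nat.card M : ℂ)⁻¹ * conj (extendByZero M (fun m => ((mu θ' m : ℂˣ) : ℂ)) (x⁻¹ * m * x))) with hF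
        have hnM : (n : G) ∈ M := by rw [Subgroup.mem_comap, hπN n n.2]; exact T.one_mem
        have e : ∑ m : M, F m = (((lam n : ℂˣ) : ℂ) * conj ((lam (cN x⁻¹ n) : ℂˣ) : ℂ)) * ∑ m : M, F m := by
          rw [Finset.mul_sum]
          refine (Fintype.sum_equiv (Equiv.mulLeft (⟨(n : G), hnM⟩ : M)) _ _ fun m => ?_).symm
          simp only [Equiv.coe_mulLeft, hF]
          have e1 : x⁻¹ * ((⟨(n : G), hnM⟩ * m : M) : G) * x = (cN x⁻¹ n : G) * (x⁻¹ * m * x) := by
            simp [cN, mul_assoc]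
          rw [e1, htrans, map_mul (starRingEnd ℂ)]
          have e2 : ((mu θ (⟨(n : G), hnM⟩ * m) : ℂˣ) : ℂ) = ((lam n : ℂˣ) : ℂ) * ((mu θ m : ℂˣ) : ℂ) := by
            have h1 := htrans θ n (m : G)
            rw [extendByZero_of_mem _ m.2, extendByZero_of_mem _ ((hmem n m).mpr m.2)] at h1
            exact h1
          rw [e2]; ring
        have hne : ((lam n : ℂˣ) : ℂ) * conj ((lam (cN x⁻¹ n) : ℂˣ) : ℂ) ≠ 1 := by
          intro h1
          have hq1 : ((lam (cN x⁻¹ n) : ℂˣ) : ℂ) ^ q = 1 := by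
            rw [← Units.val_pow_eq_pow_val, ← map_pow, show (cN x⁻¹ n) ^ q = 1 from
              Subtype.ext (hNel.2 _ (cN x⁻¹ n).2), map_one, Units.val_one]
          have hnorm : ((lam (cN x⁻¹ n) : ℂˣ) : ℂ) * conj ((lam (cN x⁻¹ n) : ℂˣ) : ℂ) = 1 := by
            rw [Complex.mul_conj', Complex.norm_eq_one_of_pow_eq_one hq1 hqf.out.ne_zero]
            norm_num
          have := h1.trans hnorm.symm
          have hne0 : conj ((lam (cN x⁻¹ n) : ℂˣ) : ℂ) ≠ 0 := by
            rw [Ne, map_eq_zero]; exact Units.ne_zero _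
          exact hn (hcx ▸ (Units.ext (mul_right_cancel₀ hne0 this)).symm)
        have e3 : (1 - ((lam n : ℂˣ) : ℂ) * conj ((lam (cN x⁻¹ n) : ℂˣ) : ℂ)) * ∑ m : M, F m = 0 := by
          linear_combination e
        exact (mul_eq_zero.mp e3).resolve_left (sub_ne_zero.mpr hne.symm)
      rw [Finset.sum_eq_zero hz0, add_zero]
      have hin : ∀ x ∈ Finset.univ.filter (fun x : G => x ∈ M), (∑ m : M, ((mu θ m : ℂˣ) : ℂ) *
          ((Nat.card M : ℂ)⁻¹ * conj (extendByZero M (fun m => ((mu θ' m : ℂˣ) : ℂ)) (x⁻¹ * m * x)))) =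
          (Nat.card M : ℂ)⁻¹ * ∑ m : M, ((mu θ m : ℂˣ) : ℂ) * conj ((mu θ' m : ℂˣ) : ℂ) := by
        intro x hx
        have hxM : x ∈ M := (Finset.mem_filter.mp hx).2
        rw [Finset.mul_sum]
        refine Finset.sum_congr rfl fun m _ => ?_
        have e1 : x⁻¹ * m * x = (((⟨x, hxM⟩ : M)⁻¹ * m * ⟨x, hxM⟩ : M) : G) := by simp
        rw [e1, extendByZero_apply, map_mul, map_mul, map_inv, mul_comm ((mu θ' ⟨x, hxM⟩)⁻¹),
          inv_mul_cancel_right]
        ring
      rw [Finset.sum_congr rfl hin, Finset.sum_const, nsmul_eq_mul,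
        show (Finset.univ.filter fun x : G => x ∈ M).card = Nat.card M by
          rw [Nat.card_eq_fintype_card, Fintype.card_subtype],
        ← mul_assoc, mul_inv_cancel₀ (Nat.cast_ne_zero.mpr Nat.card_pos.ne'), one_mul]
    rw [hres]
    have h2 := classInner_irr_eq_ite (isIrr_linear (mu θ)) (isIrr_linear (mu θ'))
    rw [classInner] at h2
    rw [h2]
    refine if_congr ⟨fun e => ?_, fun e => by rw [e]⟩ rfl rfl
    refine Subtype.ext (MonoidHom.ext fun t => ?_)
    have ht : ((t : P) : G) ∈ M := by rw [Subgroup.mem_comap, hπP]; exact t.2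
    have h3 := congrFun e ⟨_, ht⟩
    have hn1 : nP ((t : P) : G) = 1 := Subtype.ext (by simp [nP, hπP])
    have h4 : (⟨π ((t : P) : G), ht⟩ : T) = t := Subtype.ext (hπP t)
    simp only [mu, MonoidHom.coe_mk, OneHom.coe_mk, hn1, map_one, one_mul, h4] at h3
    exact Units.ext h3
  have hirr : ∀ θ, IsIrrCharacter G (indFun M (fun m => ((mu θ m : ℂˣ) : ℂ))) := by
    intro θ
    refine IsChar.irr_of_norm_one (isCharacter_indFun M (isCharacter_linear (mu θ))) ?_
    rw [hortho, if_pos rfl]
  have hdeg : ∀ θ, charDegree (indFun M (fun m => ((mu θ m : ℂˣ) : ℂ))) = d := fun θ => by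
    rw [charDegree, indFun_one_eq, map_one, Units.val_one, mul_one, Complex.natCast_re, Nat.floor_natCast, hMi]
  -- the indicator
  have hind : ∀ θ, (Nat.card G : ℂ)⁻¹ * ∑ᶠ g : G, indFun M (fun m => ((mu θ m : ℂˣ) : ℂ)) (g * g) = 1 := by
    intro θ
    set E := extendByZero M (fun m => ((mu θ m : ℂˣ) : ℂ)) with hE
    rw [finsum_eq_sum_of_fintype]
    have h1 : ∑ g : G, indFun M (fun m => ((mu θ m : ℂˣ) : ℂ)) (g * g) =
        (Nat.card M : ℂ)⁻¹ * ((Nat.card G : ℂ) * ∑ g : G, E (g * g)) := by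
      simp only [indFun, ← hE]
      rw [← Finset.mul_sum, Finset.sum_comm]
      congr 1
      rw [Finset.sum_congr rfl fun x _ => Fintype.sum_equiv (MulAut.conj x⁻¹).toEquiv
        (fun g => E (x⁻¹ * (g * g) * x)) (fun g => E (g * g)) (fun g => by simp [mul_assoc])]
      rw [Finset.sum_const, Finset.card_univ, ← Nat.card_eq_fintype_card, nsmul_eq_mul]
    have := Fintype.ofFinite P
    have := Fintype.ofFinite N
    let e : N × P ≃ G := Equiv.ofBijective (fun x => (x.1 : G) * (x.2 : G)) hcompl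
    have hsum : ∀ p : P, ∑ n : N, E ((n : G) * p * ((n : G) * p)) = if p * z ∈ T then (Nat.card N : ℂ) else 0 := by
      intro p
      let l : N →* ℂˣ :=
        { toFun := fun n => lam n * lam (cN p n)
          map_one' := by rw [show cN (p : G) 1 = 1 from Subtype.ext (by simp [cN]), map_one, one_mul]
          map_mul' := fun a b => by
            rw [show cN (p : G) (a * b) = cN p a * cN p b from Subtype.ext (by simp [cN, mul_assoc]), map_mul,
              map_mul, mul_mul_mul_comm] }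
      have hterm : ∀ n : N, E ((n : G) * p * ((n : G) * p)) = ((l n : ℂˣ) : ℂ) * E ((p : G) * p) := fun n => by
        have e1 : (n : G) * p * ((n : G) * p) = ((n * cN p n : N) : G) * ((p : G) * p) := by
          simp [cN, mul_assoc]
        rw [e1, hE, htrans, map_mul]
        rfl
      simp only [hterm, ← Finset.sum_mul]
      split_ifs with hpz
      · have hl : ∀ n, l n = 1 := fun n => by
          show lam n * lam (cN p n) = 1
          have h1 := hpz (cN z n)
          rw [← cNmul, Subgroup.coe_mul, mul_assoc, hzz, mul_one, hzlam] at h1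
          rw [h1, mul_inv_cancel]
        have hpp : (p : G) * p = ((((p * z) * (p * z) : P)) : G) := by
          simp only [Subgroup.coe_mul]
          rw [mul_assoc, ← mul_assoc (z : G), hzP p p.2, mul_assoc (p : G) z z, hzz, mul_one]
        have hT2 : (p * z) * (p * z) ∈ T := T.mul_mem hpz hpz
        have hmem2 : (p : G) * p ∈ M := by rw [hpp, Subgroup.mem_comap, hπP]; exact hT2
        have hE1 : E ((p : G) * p) = 1 := by
          rw [hE, extendByZero_of_mem _ hmem2, Units.val_eq_one]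
          show lam (nP ((p : G) * p)) * θ.1 ⟨π ((p : G) * p), _⟩ = 1
          have hn1 : nP ((p : G) * p) = 1 := Subtype.ext (by simp [nP, hπP])
          have h2 : (⟨π ((p : G) * p), hmem2⟩ : T) = ⟨p * z, hpz⟩ * ⟨p * z, hpz⟩ := Subtype.ext (by
            show π ((p : G) * p) = (p * z) * (p * z)
            rw [hpp, hπP])
          rw [hn1, h2, map_one, map_mul, θ.2, one_mul]
        rw [hE1, mul_one, Finset.sum_congr rfl fun n _ => by rw [hl n, Units.val_one]]
        rw [Finset.sum_const, Finset.card_univ, ← Nat.card_eq_fintype_card, nsmul_one]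
      · rw [sum_hom_eq_zero l, zero_mul]
        intro hl
        refine hpz fun n => ?_
        have h1 : lam (cN z n) * lam (cN p (cN z n)) = 1 := DFunLike.congr_fun hl (cN z n)
        rw [hzlam, inv_mul_eq_one, ← cNmul] at h1
        rw [Subgroup.coe_mul]
        exact h1.symm
    have h2 : ∑ g : G, E (g * g) = (Nat.card M : ℂ) := by
      rw [← e.sum_comp, Fintype.sum_prod_type, Finset.sum_comm]
      have he : ∀ x, e x = (x.1 : G) * (x.2 : G) := fun _ => rfl
      simp only [he, hsum]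
      rw [Finset.sum_ite, Finset.sum_const_zero, add_zero, Finset.sum_const, nsmul_eq_mul]
      have hcnt : (Finset.univ.filter fun p : P => p * z ∈ T).card = Nat.card T := by
        rw [← Fintype.card_subtype, ← Nat.card_eq_fintype_card]
        exact Nat.card_congr
          { toFun := fun p => ⟨p.1 * z, p.2⟩
            invFun := fun t => ⟨t.1 * z⁻¹, by rw [inv_mul_cancel_right]; exact t.2⟩
            left_inv := fun p => Subtype.ext (mul_inv_cancel_right _ _)
            right_inv := fun t => Subtype.ext (inv_mul_cancel_right _ _) }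
      have hM : Nat.card M = Nat.card T * Nat.card N := by
        have a1 := M.index_mul_card
        have a2 := T.index_mul_card
        rw [hMi] at a1
        rw [← hcompl.card_mul, ← a2] at a1
        refine Nat.eq_of_mul_eq_mul_left (Nat.pos_of_ne_zero hd0) ?_
        rw [a1, hd]; ring
      rw [hcnt, hM, Nat.cast_mul]
    rw [h1, h2]
    have hn : (Nat.card G : ℂ) ≠ 0 := Nat.cast_ne_zero.mpr Nat.card_pos.ne'
    have hm : (Nat.card M : ℂ) ≠ 0 := Nat.cast_ne_zero.mpr Nat.card_pos.ne'
    field_simp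
  -- counting
  have := signHom_finite P
  have := signHom_finite T
  have := Fintype.ofFinite (SignHom P)
  have := Fintype.ofFinite (SignHom T)
  set S := {χ : Cfsg.IrrCharacter G // (Cfsg.charDegree (χ : G → ℂ) = 1 ∨ 2 ∣ Cfsg.charDegree (χ : G → ℂ)) ∧ (Nat.card G : ℂ)⁻¹ * ∑ᶠ g : G, (χ : G → ℂ) (g * g) = 1}
  have := Fintype.ofFinite S
  rw [finsum_eq_sum_of_fintype, Nat.card_eq_fintype_card, ← Finset.card_univ]
  set deg : S → ℕ := fun χ => charDegree (χ.1 : G → ℂ) with hdegdef
  show 4 * Finset.univ.card ≤ 3 * ∑ χ : S, deg χ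
  rw [← Finset.sum_filter_add_sum_filter_not Finset.univ (fun χ => deg χ = 1) deg,
    ← Finset.card_filter_add_card_filter_not (s := Finset.univ) (fun χ : S => deg χ = 1)]
  set L := Finset.univ.filter (fun χ : S => deg χ = 1) with hL
  set R := Finset.univ.filter (fun χ : S => ¬ deg χ = 1) with hR
  have hL1 : ∑ χ ∈ L, deg χ = L.card := by
    rw [Finset.card_eq_sum_ones]
    exact Finset.sum_congr rfl fun χ hχ => (Finset.mem_filter.mp hχ).2
  have hR2 : ∀ χ ∈ R, 2 ≤ deg χ := fun χ hχ => by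
    have h1 : deg χ ≠ 1 := (Finset.mem_filter.mp hχ).2
    have h0 : deg χ ≠ 0 := by
      obtain ⟨n, hn, hn'⟩ := IsIrr.one_eq_pos χ.1.2
      simp only [hdegdef, charDegree, hn', Complex.natCast_re, Nat.floor_natCast]
      omega
    omega
  have hR4 : 4 * R.card + ∑ χ ∈ R, deg χ ≤ 3 * ∑ χ ∈ R, deg χ := by
    have : ∑ χ ∈ R, 2 ≤ ∑ χ ∈ R, deg χ := Finset.sum_le_sum hR2
    rw [Finset.sum_const, smul_eq_mul] at this
    omega
  have himage : d * Fintype.card (SignHom T) ≤ ∑ χ ∈ R, deg χ := by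
    let f : SignHom T → S := fun θ => ⟨⟨_, hirr θ⟩, Or.inr (by rw [hdeg]; exact hd2), hind θ⟩
    have hfi : Function.Injective f := fun a b e => by
      by_contra hab
      have h := hortho a b
      rw [if_neg hab] at h
      rw [show indFun M (fun m => ((mu a m : ℂˣ) : ℂ)) = indFun M (fun m => ((mu b m : ℂˣ) : ℂ)) from
        congrArg (fun x : S => (x.1 : G → ℂ)) e, classInner_self_irr (hirr b)] at h
      exact one_ne_zero h
    have hsub : Finset.univ.image f ⊆ R := fun χ hχ => by
      obtain ⟨θ, -, rfl⟩ := Finset.mem_image.mp hχ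
      refine Finset.mem_filter.mpr ⟨Finset.mem_univ _, ?_⟩
      show charDegree (indFun M _) ≠ 1
      rw [hdeg]
      intro e
      rw [e] at hd2
      norm_num at hd2
    refine le_trans ?_ (Finset.sum_le_sum_of_subset hsub)
    rw [Finset.sum_image fun a _ b _ h => hfi h]
    simp only [hdegdef, f, hdeg, Finset.sum_const, Finset.card_univ, smul_eq_mul, mul_comm]
    exact le_rfl
  have hLle : L.card ≤ d * Fintype.card (SignHom T) := by
    have h1 := card_signHom_le T
    rw [Nat.card_eq_fintype_card, Nat.card_eq_fintype_card] at h1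
    refine le_trans ?_ h1
    have hlin : ∀ χ ∈ L, ∃ h : SignHom P, ∀ g, (χ.1 : G → ℂ) g = ((h.1 (π g) : ℂˣ) : ℂ) := by
      intro χ hχ
      have h1 : deg χ = 1 := (Finset.mem_filter.mp hχ).2
      have hc := IsIrr.isCharacter χ.1.2
      have hone : (χ.1 : G → ℂ) 1 = 1 := by
        rw [IsChar.degree_spec hc]
        simp only [hdegdef, charDegree] at h1
        rw [h1, Nat.cast_one]
      obtain ⟨l, hl⟩ := linearHom_of_isCharacter hc hone
      have h2 := χ.2.2
      rw [hl, finsum_eq_sum_of_fintype] at h2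
      have hsq := sq_eq_one_of_indicator l h2
      refine ⟨⟨l.comp P.subtype, fun p => hsq p⟩, fun g => ?_⟩
      have hn := hker g
      have hln : l (g * ((π g : P) : G)⁻¹) = 1 := by
        have hq1 : l (g * ((π g : P) : G)⁻¹) ^ q = 1 := by rw [← map_pow, hNel.2 _ hn, map_one]
        have h22 : l (g * ((π g : P) : G)⁻¹) ^ 2 = 1 := by rw [pow_two]; exact hsq _
        have := pow_gcd_eq_one.mpr ⟨h22, hq1⟩
        rwa [Nat.coprime_iff_gcd_eq_one.mp ((Nat.coprime_primes Nat.prime_two hqf.out).mpr hq.symm), pow_one] at this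
      rw [hl]
      show ((l g : ℂˣ) : ℂ) = _
      rw [map_mul, map_inv, mul_inv_eq_one] at hln
      rw [hln]
      rfl
    choose h hh using hlin
    refine le_of_le_of_eq (Finset.card_le_card_of_injOn (fun χ => if hc : χ ∈ L then h χ hc else ⟨1, fun _ => one_mul 1⟩)
      (fun _ _ => Finset.mem_coe.mpr (Finset.mem_univ _)) ?_) Finset.card_univ
    intro a ha b hb e
    simp only [Finset.mem_coe] at ha hb
    simp only [dif_pos ha, dif_pos hb] at e
    refine Subtype.ext (Subtype.ext (funext fun g => ?_))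
    rw [hh a ha g, hh b hb g, e]
  omega

end Cfsg.Agent.Char.TwoGroupOrbit
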