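import Cfsg.Agent.Lib.Char.TypeSupport
import Cfsg.Agent.Lib.Char.TIStar
import Cfsg.Agent.Lib.Char.CohKernel
import Cfsg.Agent.Lib.Char.Dade
import Cfsg.Agent.Lib.Char.DadeGen
import Cfsg.Agent.S1500
import Cfsg.Agent.S1501
import Cfsg.Agent.S1524
import Cfsg.Agent.S1535

/-!
Coherence for a Type I maximal subgroup that is a Frobenius group with kernel `L_F`.
-/

set_option autoImplicit false
set_option linter.style.haveILetI false
set_option linter.unusedSectionVars false
set_option maxHeartbeats 1000000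

namespace Cfsg.Agent.Char.TypeICoh

open Subgroup Cfsg.Agent Cfsg.Agent.Char Cfsg.Agent.Transfer Cfsg.Agent.Transfer.Loc
open scoped commutatorElement Pointwise

universe u

/-- A nonabelian finite nilpotent `p`-group has at least `p²` linear characters. -/
theorem sq_le_commutator_index {Q : Type u} [Group Q] [Finite Q] {p : ℕ} [hp : Fact p.Prime] (hQ : IsPGroup p Q)
    (hna : ¬ IsMulCommutative Q) : p ^ 2 ≤ (commutator Q).index := by
  haveI := hQ.isNilpotent
  obtain ⟨n, hn⟩ := IsPGroup.iff_card.1 hQ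
  obtain ⟨k, -, hk⟩ := (Nat.dvd_prime_pow hp.out).1 (hn ▸ (commutator Q).index_dvd_card)
  have hbot : commutator Q ≠ ⊥ := fun e => hna ⟨⟨fun a b => commutatorElement_eq_one_iff_mul_comm.1 (mem_bot.1
    (e ▸ commutator_def Q ▸ commutator_mem_commutator (mem_top a) (mem_top b)))⟩⟩
  rcases k with _ | _ | k
  · exfalso
    have h1 := Transfer.MaxAbelianExponent.commutator_lt_of_normal (N := (⊤ : Subgroup Q)) (fun e => hbot (eq_bot_iff.2 (e ▸ le_top)))
    have htop : commutator Q = ⊤ := Subgroup.index_eq_one.1 (by simpa using hk)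
    rw [← commutator_def, htop] at h1
    exact lt_irrefl _ h1
  · exact absurd (Descent.commutator_eq_bot_of_index_prime hp.out (by simpa using hk)) hbot
  · rw [hk]; exact Nat.pow_le_pow_right hp.out.pos (by omega)

/-- Induction agrees with the Dade map when the kernels are trivial. -/
theorem dade_eq_indFun {G : Type u} [Group G] [Fintype G] {A : Set G} {L : Subgroup G} [Fintype L]
    {R : G → Subgroup G} (hD : Cfsg.DadeHypothesis A L R) (hR : ∀ a ∈ A, R a = ⊥)
    (hTI : ∀ a ∈ A, ∀ g : G, g * a * g⁻¹ ∈ A → g ∈ L) {α : L → ℂ} (hα : Cfsg.IsClassFunction L α)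
    (hαA : ∀ x : L, (x : G) ∉ A → α x = 0) : Cfsg.dadeIsometry A L R α = Cfsg.indFun L α := by
  classical
  funext g
  by_cases hg : g ∈ Dade.supp A R
  swap
  · rw [Dade.dade_eq_zero hg, indFun_eq_zero_of_not_conj]
    intro x hx
    refine hαA _ fun h => hg ⟨x⁻¹ * g * x, h, 1, one_mem _, x⁻¹, by group⟩
  obtain ⟨a, ha, u, hu, x, hx⟩ := hg
  rw [Dade.dade_apply_of hD hα (a := ⟨a, hD.subset ha⟩) ha hu hx]
  rw [hR a ha, mem_bot] at hu
  subst hu
  rw [mul_one] at hx
  have h1 : Cfsg.indFun L α g = Cfsg.indFun L α a := by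
    rw [← hx]; exact (indFun_classFun L α g x).symm
  rw [h1]
  have hval : ∀ y : G, Cfsg.extendByZero L α (y⁻¹ * a * y) = if y ∈ L then α ⟨a, hD.subset ha⟩ else 0 := by
    intro y
    split_ifs with hy
    · rw [extendByZero_of_mem α (mul_mem (mul_mem (inv_mem hy) (hD.subset ha)) hy)]
      have h := hα ⟨a, hD.subset ha⟩ (⟨y, hy⟩⁻¹)
      rw [inv_inv] at h
      exact h
    · by_cases hm : y⁻¹ * a * y ∈ L
      · rw [extendByZero_of_mem α hm]
        exact hαA _ fun hmem => hy (by simpa using L.inv_mem (hTI a ha y⁻¹ (by simpa using hmem)))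
      · exact extendByZero_not_mem α hm
  simp only [Cfsg.indFun, hval]
  rw [← Finset.sum_filter, Finset.sum_const, nsmul_eq_mul, ← Fintype.card_subtype,
    ← Nat.card_eq_fintype_card, ← mul_assoc, inv_mul_cancel₀ (Nat.cast_ne_zero.2 Nat.card_pos.ne'), one_mul]

/-- The main theorem. -/
theorem main {G : Type u} [Group G] [Fintype G] (hG : Cfsg.IsMinSimpleOddOrder G) (L : Subgroup G) [Fintype L]
    (hL : IsCoatom L) (hI : Cfsg.IsOfTypeI L)
    (hfrob : ∀ x ∈ Cfsg.fittingHallOf L, x ≠ 1 → L ⊓ centralizer ({x} : Set G) ≤ Cfsg.fittingHallOf L) :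
    (∀ χ ∈ Cfsg.inducedIrrAbove (Cfsg.fittingHall L) ⊥, Cfsg.IsIrrCharacter L χ) ∧
      Cfsg.IsCoherent (Cfsg.inducedIrrAbove (Cfsg.fittingHall L) ⊥) {1}ᶜ
        (Cfsg.dadeIsometry (Cfsg.typeA L) L (Cfsg.supportR L)) := by
  classical
  obtain ⟨hsol, hodd, hH1, hHt, U, hU1, hcompl, -, -⟩ := hI.1
  have hcases := hI.2
  set K := Cfsg.fittingHall L with hKdef
  have hof : Cfsg.fittingHallOf L = K.map L.subtype := rfl
  have hmemOf : ∀ x : L, (x : G) ∈ Cfsg.fittingHallOf L ↔ x ∈ K := fun x => by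
    rw [hof]
    exact Subgroup.mem_map_iff_mem L.subtype_injective
  have hcent : ∀ k ∈ K, k ≠ 1 → centralizer ({k} : Set L) ≤ K := fun k hk hk1 x hx => (hmemOf x).1
    (hfrob k ((hmemOf k).2 hk) (fun e => hk1 (Subtype.ext e))
      ⟨x.2, mem_centralizer_singleton_iff.2 (congrArg Subtype.val (mem_centralizer_singleton_iff.1 hx))⟩)
  have hfix : ∀ k ∈ K, k ≠ 1 → ∀ x : L, x * k = k * x → x ∈ K := fun k hk hk1 x hx =>
    hcent k hk hk1 (mem_centralizer_singleton_iff.2 hx)
  -- the set `A(L)`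
  have hA : Cfsg.typeA L = (Cfsg.fittingHallOf L : Set G) \ {1} := by
    ext a
    unfold Cfsg.typeA
    rw [if_pos hI]
    constructor
    · rintro ⟨haL, ha1, x, hx, hx1, hc⟩
      exact ⟨hfrob x hx hx1 ⟨haL, mem_centralizer_singleton_iff.2 hc⟩, ha1⟩
    · rintro ⟨ha, ha1⟩
      exact ⟨fittingHallOf_le L ha, ha1, a, ha, ha1, rfl⟩
  obtain ⟨hN, hD⟩ := TypeSet.main hG hL (A := Cfsg.typeA L) (Or.inr (Or.inl rfl))
  -- the characters
  have hTT := KerSets.inducedIrrAbove_eq K hcent
  have hSeq : Cfsg.inducedIrrAbove K ⊥ = {χ : L → ℂ | Cfsg.IsIrrCharacter L χ ∧ ∃ h ∈ K, χ h ≠ χ 1} := by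
    rw [hTT, KerSets.TT_bot_eq]; rfl
  have hirr : ∀ χ ∈ Cfsg.inducedIrrAbove K ⊥, Cfsg.IsIrrCharacter L χ := fun χ hχ => (hSeq ▸ hχ).1
  refine ⟨hirr, ?_⟩
  set τ := Cfsg.dadeIsometry (Cfsg.typeA L) L (Cfsg.supportR L) with hτdef
  have hgen : ∀ α ∈ Cfsg.zspan (Cfsg.inducedIrrAbove K ⊥), Cfsg.IsGeneralizedCharacter L α ∧
      ∀ x ∉ K, α x = 0 := by
    intro α hα
    induction hα using Submodule.span_induction with
    | mem x hx =>
      rw [hSeq] at hx
      exact ⟨IsGenChar.of_isCharacter (IsIrr.isCharacter hx.1), fun y hy => FrobTI.vanish K hfix hx.1 hx.2 hy⟩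
    | zero => exact ⟨IsGenChar.zero, fun _ _ => rfl⟩
    | add x y _ _ hx hy => exact ⟨IsGenChar.add hx.1 hy.1, fun z hz => by simp [hx.2 z hz, hy.2 z hz]⟩
    | smul c x _ hx =>
      exact ⟨by rw [← Int.cast_smul_eq_zsmul ℂ]; exact IsGenChar.zsmul hx.1 c, fun z hz => by simp [hx.2 z hz]⟩
  have hsupp : ∀ α ∈ Cfsg.zspanOn (Cfsg.inducedIrrAbove K ⊥) {1}ᶜ, ∀ x : L, (x : G) ∉ Cfsg.typeA L → α x = 0 := by
    intro α hα x hx
    by_cases hxK : x ∈ K
    · have hx1 : x = 1 := by
        by_contra h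
        exact hx (hA ▸ ⟨(hmemOf x).2 hxK, fun e => h (Subtype.ext e)⟩)
      exact hα.2 x (fun h => h hx1)
    · exact (hgen α hα.1).2 x hxK
  have hcf : ∀ α ∈ Cfsg.zspanOn (Cfsg.inducedIrrAbove K ⊥) {1}ᶜ, Cfsg.IsClassFunction L α := fun α hα =>
    IsGenChar.classFun (hgen α hα.1).1
  have hiso : Cfsg.IsLinearIsometryOn (Cfsg.zspanOn (Cfsg.inducedIrrAbove K ⊥) {1}ᶜ) τ := by
    refine ⟨fun α _ β _ => ?_, fun α _ n => ?_, fun α hα β hβ =>
      (Cfsg.Agent.S1500.result (Cfsg.typeA L) L _ hD α (hcf α hα) (hsupp α hα)).1 β (hcf β hβ) (hsupp β hβ),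
      fun α hα => Cfsg.Agent.S1501.result (Cfsg.typeA L) L _ hD α (hgen α hα.1).1 (hsupp α hα)⟩
    · funext g
      simp only [hτdef, Pi.add_apply, Cfsg.dadeIsometry]
      split_ifs <;> simp
    · funext g
      simp only [hτdef, Pi.smul_apply, Cfsg.dadeIsometry]
      split_ifs <;> simp
  have hone : ∀ α ∈ Cfsg.zspanOn (Cfsg.inducedIrrAbove K ⊥) {1}ᶜ, τ α 1 = 0 := by
    intro α _
    refine Dade.dade_eq_zero ?_
    rintro ⟨a, ha, u, hu, x, e⟩
    rw [mul_one, mul_inv_cancel] at e
    have hmem : a ∈ Cfsg.supportR L a ⊓ (L ⊓ centralizer ({a} : Set G)) :=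
      ⟨by
        have hu' := inv_mem hu
        rwa [← eq_inv_of_mul_eq_one_left e.symm] at hu', hD.subset ha,
        mem_centralizer_singleton_iff.2 rfl⟩
    rw [hD.inf_eq_bot a ha, mem_bot] at hmem
    exact hD.one_not_mem (hmem ▸ ha)
  -- orders
  have hcardK : Odd (Nat.card K) := hodd.of_dvd_nat (card_subgroup_dvd_card K)
  have hidx : K.index = Nat.card U := hcompl.symm.index_eq_card
  have hoddU : Odd K.index := hodd.of_dvd_nat K.index_dvd_card
  have he : Nat.card K ≠ K.index + 1 := fun e => by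
    rw [e] at hcardK
    exact (Nat.odd_add_one.1 hcardK) hoddU
  rcases Cfsg.Agent.S1535.result K hH1 hHt hcent he τ (hSeq ▸ hiso) (hSeq ▸ hone) with h | ⟨p, hp, ⟨m, hm⟩, hna, hle⟩
  · rw [hSeq]; exact h
  -- the exceptional case
  rcases hcases with hTI | ⟨hab, -, -⟩ | ⟨hexp, -⟩
  · -- TI kernel
    have hne : Cfsg.fittingHallOf L ≠ ⊥ := fun e => hH1 (by
      rw [hof, Subgroup.map_eq_bot_iff_of_injective _ L.subtype_injective] at e; exact e)
    have hNH : normalizer (Cfsg.fittingHallOf L : Set G) = L := normalizer_eq_of_coatom hG hL hne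
      (fun e => hL.1 (top_le_iff.1 (e ▸ fittingHallOf_le L))) (le_normalizer_fittingHallOf L)
    have hTA : ∀ a ∈ Cfsg.typeA L, ∀ g : G, g * a * g⁻¹ ∈ Cfsg.typeA L → g ∈ L := by
      intro a ha g hga
      rw [hA] at ha hga
      by_contra hg
      exact ha.2 (hTI g (fun h => hg (hNH ▸ h)) a ha.1 hga.1)
    have hR : ∀ a ∈ Cfsg.typeA L, Cfsg.supportR L a = ⊥ := fun a ha => by
      unfold Cfsg.supportR
      rw [dif_neg]
      refine fun h => h.1 fun c hc => hTA a ha c ?_
      rwa [mem_centralizer_singleton_iff.1 hc, mul_inv_cancel_right]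
    have hW := Cfsg.Agent.S1524.result (Cfsg.fittingHallOf L) L (U.map L.subtype) hodd (fittingHallOf_le L)
      (map_subtype_le U) hne (fun e => hU1 (by
        rwa [Subgroup.map_eq_bot_iff_of_injective _ L.subtype_injective] at e))
      (fittingHallOf_nilpotent L) (fun x hx y hy => Grp.mem_conj_normalizer (le_normalizer_fittingHallOf L hx) hy)
      (by rw [hof, ← Subgroup.map_inf _ _ _ L.subtype_injective, hcompl.disjoint.eq_bot, Subgroup.map_bot])
      (by rw [hof, ← Subgroup.map_sup, hcompl.sup_eq_top, ← MonoidHom.range_eq_map, Subgroup.range_subtype])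
      (fun w hw hw1 h hh hc => by
        by_contra hh1
        obtain ⟨w', hw', rfl⟩ := hw
        have h1 := hfrob h hh hh1 ⟨w'.2, mem_centralizer_singleton_iff.2 hc⟩
        have h2 : w' ∈ K ⊓ U := ⟨(hmemOf w').1 h1, hw'⟩
        rw [hcompl.disjoint.eq_bot, mem_bot] at h2
        exact hw1 (by rw [h2]; rfl))
      hTI hNH
    have hsub : (Cfsg.fittingHallOf L).subgroupOf L = K := by
      rw [hof]; exact Subgroup.comap_map_eq_self_of_injective L.subtype_injective K
    rw [hsub] at hW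
    obtain ⟨hne', τ₁, hτ₁, hagree⟩ := hW
    refine ⟨hne', τ₁, hτ₁, fun α hα => ?_⟩
    rw [hagree α hα, hτdef, dade_eq_indFun hD hR hTA (hcf α hα) (hsupp α hα)]
  · -- abelian kernel
    exact absurd (show IsMulCommutative K from
      ⟨⟨fun a b => Subtype.ext (Subtype.ext (congrArg Subtype.val (hab.is_comm.comm
        (⟨((a : L) : G), (hmemOf a).2 a.2⟩ : Cfsg.fittingHallOf L) ⟨((b : L) : G), (hmemOf b).2 b.2⟩) :))⟩⟩) hna
  · -- the exponent condition
    exfalso
    haveI := Fact.mk hp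
    have hcardOf : Nat.card (Cfsg.fittingHallOf L) = Nat.card K := Subgroup.card_map_of_injective L.subtype_injective
    have hm0 : m ≠ 0 := fun e => hH1 (Subgroup.card_eq_one.1 (by rw [hm, e, pow_zero]))
    have hexpp : Monoid.exponent (L ⧸ K) ∣ p - 1 := hexp p hp (hcardOf ▸ hm ▸ dvd_pow_self p hm0)
    haveI hZ : IsZGroup U := ⟨fun q hq S => by
      haveI := Fact.mk hq
      set T : Subgroup G := ((S : Subgroup U).map U.subtype).map L.subtype with hT
      have e : ↥(S : Subgroup U) ≃* ↥T :=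
        ((S : Subgroup U).equivMapOfInjective _ U.subtype_injective).trans
          (Subgroup.equivMapOfInjective _ _ L.subtype_injective)
      rcases eq_or_ne T ⊥ with hT1 | hT1
      · haveI : IsCyclic T := by rw [hT1]; infer_instance
        exact isCyclic_of_surjective _ e.symm.surjective
      have hTp : IsPGroup q T := (S.isPGroup'.map _).map _
      have hqU : q ∣ Nat.card U := (dvd_card_of_pGroup hTp hT1).trans
        ((dvd_of_eq (Subgroup.card_map_of_injective L.subtype_injective)).trans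
          ((dvd_of_eq (Subgroup.card_map_of_injective U.subtype_injective)).trans (card_subgroup_dvd_card _)))
      by_contra hc
      have hTc : ¬ IsCyclic T := fun h => hc (by haveI := h; exact isCyclic_of_surjective _ e.symm.surjective)
      obtain ⟨D, hDT, hDe, hD2⟩ := exists_elem_of_not_prank (not_prank_one_of_not_cyclic hG
        (ne_two hG (hqU.trans ((card_subgroup_dvd_card U).trans (card_subgroup_dvd_card L)))) hTp hTc)
      have hD1 : D ≠ ⊥ := fun e' => by
        rw [e', Subgroup.card_bot] at hD2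
        exact absurd hD2 (not_le.2 (Nat.one_lt_pow (by norm_num) hq.one_lt))
      have hDL : D ≤ L := hDT.trans (map_subtype_le _)
      refine hH1 ?_
      have h0 : Cfsg.fittingHallOf L ≤ ⊥ := Grp.le_of_hyperplanes (p := q) hDe hD1 _ (fun hd => hq.ne_one
        (Nat.eq_one_of_dvd_coprimes (TypeP.fittingHall_coprime L) (hcardOf ▸ hd) (hidx ▸ hqU)))
        (hDL.trans (le_normalizer_fittingHallOf L)) (fun D' hD' hi => by
          rintro y ⟨hy, hyc⟩
          rw [mem_bot]
          by_contra hy1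
          have hD'1 : D' ≠ ⊥ := fun e' => by
            rw [e', Subgroup.relIndex_bot_left] at hi
            rw [hi] at hD2
            have := Nat.pow_lt_pow_right hq.one_lt (show 1 < 1 + 1 by norm_num)
            rw [pow_one] at this
            omega
          obtain ⟨v, hv, hv1⟩ := (bot_or_exists_ne_one D').resolve_left hD'1
          obtain ⟨w, hw, hwv⟩ := hDT (hD' hv)
          obtain ⟨w', -, hw'⟩ := hw
          have hwU : w ∈ U := hw' ▸ w'.2
          have hwv' : (w : G) = v := hwv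
          have h1 := hfrob y hy hy1 ⟨hDL (hD' hv), mem_centralizer_singleton_iff.2 (mem_centralizer_iff.1 hyc v hv)⟩
          have h2 : w ∈ K ⊓ U := ⟨(hmemOf w).1 (hwv' ▸ h1), hwU⟩
          rw [hcompl.disjoint.eq_bot, mem_bot] at h2
          exact hv1 (by rw [← hwv', h2]; rfl))
      rw [hof, le_bot_iff, Subgroup.map_eq_bot_iff_of_injective _ L.subtype_injective] at h0
      exact h0⟩
    have hUexp : Monoid.exponent U ∣ p - 1 := Monoid.exponent_dvd_of_forall_pow_eq_one fun u => by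
      have h1 : QuotientGroup.mk' K ((u : L) ^ (p - 1)) = 1 := by
        rw [map_pow]
        exact orderOf_dvd_iff_pow_eq_one.1 ((Monoid.order_dvd_exponent _).trans hexpp)
      have h2 : (u : L) ^ (p - 1) ∈ K ⊓ U := ⟨(QuotientGroup.eq_one_iff _).1 h1, U.pow_mem u.2 _⟩
      rw [hcompl.disjoint.eq_bot, mem_bot] at h2
      exact Subtype.ext h2
    rw [IsZGroup.exponent_eq_card, ← hidx] at hUexp
    have hp2 : p ≠ 2 := fun e => by
      subst e
      rw [hm] at hcardK
      exact (Nat.not_odd_iff_even.2 ((Nat.even_pow).2 ⟨even_two, hm0⟩)) hcardK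
    have hple : 2 * K.index ≤ p - 1 := by
      obtain ⟨c, hc⟩ := hUexp
      have hp1 : 1 < p := hp.one_lt
      have hev : Even (p - 1) := hp.even_sub_one hp2
      rw [hc, Nat.even_mul] at hev
      have hc2 : 2 ≤ c := by
        rcases hev with h | h
        · exact absurd h (Nat.not_even_iff_odd.2 hoddU)
        · obtain ⟨d, rfl⟩ := h
          rcases Nat.eq_zero_or_pos d with rfl | hd
          · simp at hc; omega
          · omega
      rw [hc, mul_comm 2]
      exact Nat.mul_le_mul_left _ hc2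
    have hK2 : IsPGroup p K := IsPGroup.of_card hm
    have hsq := sq_le_commutator_index hK2 hna
    have heq : commutator K = ⁅K, K⁆.subgroupOf K := Subgroup.map_injective K.subtype_injective (by
      rw [Subgroup.map_subtype_commutator, Subgroup.map_subgroupOf_eq_of_le (commutator_le_self K)])
    rw [heq] at hsq
    have h3 : p ^ 2 ≤ 4 * K.index ^ 2 + 1 := hsq.trans hle
    have h4 : 4 * K.index ^ 2 ≤ (p - 1) ^ 2 := by
      calc 4 * K.index ^ 2 = (2 * K.index) ^ 2 := by ring
        _ ≤ _ := Nat.pow_le_pow_left hple 2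
    obtain ⟨q, rfl⟩ : ∃ q, p = q + 1 := ⟨p - 1, by have := hp.one_lt; omega⟩
    have hq2 : 1 ≤ q := by have := hp.one_lt; omega
    rw [Nat.add_sub_cancel] at h4
    nlinarith

end Cfsg.Agent.Char.TypeICoh
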