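import Cfsg.Agent.Lib.Transfer.Local.Types
import Cfsg.Agent.Lib.Transfer.Local.SupportPrimes
import Cfsg.Agent.Lib.Transfer.Local.SigmaTilde
import Cfsg.Agent.S1355
import Cfsg.Prelude.Def_OddOrderChar

/-!
The Dade hypothesis for the sets `A₁(M)`, `A(M)`, `A₀(M)` of a maximal subgroup of a minimal simple group of odd
order.
-/

set_option autoImplicit false
set_option linter.style.haveILetI false
set_option linter.unusedSectionVars false
set_option maxHeartbeats 1000000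

namespace Cfsg.Agent.Char.TypeSet

open Subgroup Cfsg.Agent Cfsg.Agent.Transfer Cfsg.Agent.Transfer.Loc
open scoped commutatorElement Pointwise

universe u

variable {G : Type u} [Group G] [Finite G] (hG : Cfsg.IsMinSimpleOddOrder G) {M : Subgroup G} (hM : IsCoatom M)
include hG hM

theorem core_primes {p : ℕ} (hp : p.Prime) (hd : p ∣ Nat.card (Cfsg.sigmaCore M)) : p ∈ Cfsg.sigma M :=
  TransHyp.piCoreOf_primes (π := Cfsg.sigma M) (X := M) hp hd

/-- Fusion of the elements of `M_σ` inside `M`. -/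
theorem core_fusion {x g : G} (hx : x ∈ Cfsg.sigmaCore M) (hx1 : x ≠ 1) (hg : g * x * g⁻¹ ∈ M) :
    ∃ r ∈ centralizer ({x} : Set G), g * r ∈ M := by
  have hxg : x ∈ MulAut.conj g⁻¹ • M := ⟨g * x * g⁻¹, hg, by
    show MulAut.conj g⁻¹ (g * x * g⁻¹) = x
    rw [MulAut.conj_apply]; group⟩
  rcases line_cases hG hM hx hx1 with ⟨-, h⟩ | ⟨N, hN⟩
  · exact ⟨1, one_mem _, by simpa using M.inv_mem (h g⁻¹ hxg)⟩
  · obtain ⟨r, hr, hrM⟩ := hN.trans g⁻¹ hxg
    refine ⟨r, hr.2, mem_of_conj_smul_eq hG hM ?_⟩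
    rw [← Grp.conj_smul_conj_smul, hrM, Grp.conj_smul_conj_smul, mul_inv_cancel, map_one, one_smul]

/-- A fixing `σ(M)'`-element with primes in `τ₂(M)`. -/
theorem tau2_unique {v : G} (hv : v ∈ M) (hv1 : v ≠ 1) (hτ : ∀ p : ℕ, p.Prime → p ∣ orderOf v → p ∈ Cfsg.tau2 M)
    (hhat : v ∈ Cfsg.sigmaHat M) :
    centralizer ({v} : Set G) ≤ M ∧
      ∀ L : Subgroup G, IsCoatom L → centralizer ({v} : Set G) ≤ L → L = M := by
  haveI := solvable_of_ne_top hG hM.1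
  obtain ⟨E, hE, -⟩ := exists_compl_ge hG hM (bot_le : (⊥ : Subgroup G) ≤ M) fun s hs hd => by
    rw [Subgroup.card_bot, Nat.dvd_one] at hd; exact absurd hd hs.ne_one
  exact (Cfsg.Agent.S1420.result hG M hM E hE).2.2.2 v hv hv1 hτ hhat

variable {K U : Subgroup G} (hKU : Cfsg.IsSigmaDecomposition M K U)
include hKU

/-- The orders of `K` and `M_σ` are coprime. -/
theorem coprime_K : (Nat.card K).Coprime (Nat.card (Cfsg.sigmaCore M)) :=
  Nat.coprime_of_dvd fun _ hp h1 h2 => (hKU.hall.2.1 _ hp h1).2.2.1 (core_primes hG hM hp h2)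

theorem mem_sigmaA0_of_core {a : G} (ha : a ∈ Cfsg.sigmaCore M) (ha1 : a ≠ 1) : a ∈ Cfsg.sigmaA0 M K := by
  refine ⟨⟨TransHyp.piCoreOf_le M ha, a, ha, ha1, rfl⟩, ?_⟩
  rintro ⟨k, hk, hk1, m, -, rfl⟩
  refine hk1 (orderOf_eq_one_iff.1 (Nat.eq_one_of_dvd_coprimes (coprime_K hG hM hKU)
    (Subgroup.orderOf_dvd_natCard _ hk) ?_))
  have h1 := Subgroup.orderOf_dvd_natCard _ ha
  rwa [show m * k * m⁻¹ = MulAut.conj m k from rfl, MulEquiv.orderOf_eq] at h1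

/-- Outside `M_σ` the elements of `M̂_σ` that are no conjugates of `K`-elements are fused by `M` only. -/
theorem outside_fusion {a g : G} (ha : a ∈ Cfsg.sigmaA0 M K) (haS : a ∉ Cfsg.sigmaCore M)
    (hga : g * a * g⁻¹ ∈ Cfsg.sigmaA0 M K) : g ∈ M := by
  haveI := solvable_of_ne_top hG hM.1
  obtain ⟨⟨haM, y, hy, hy1, hay⟩, hnK⟩ := ha
  obtain ⟨x, v, hxa, hva, hxv, hxπ, hvπ⟩ := exists_pi_parts (Cfsg.sigma M) a
  have hxM : x ∈ M := (zpowers_le.2 haM) hxa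
  have hvM : v ∈ M := (zpowers_le.2 haM) hva
  have hxS := mem_sigmaCore_of_pi hG hM hxM hxπ
  have hv1 : v ≠ 1 := fun e => haS (by rwa [← hxv, e, mul_one])
  obtain ⟨i, hi⟩ := mem_zpowers_iff.1 hva
  obtain ⟨j, hj⟩ := mem_zpowers_iff.1 hxa
  have hvy : Commute v y := hi ▸ ((show Commute a y from hay).zpow_left i)
  have hfix : Cfsg.sigmaCore M ⊓ centralizer ({v} : Set G) ≠ ⊥ := fun e => hy1 (by
    rw [← mem_bot, ← e]; exact ⟨hy, mem_centralizer_singleton_iff.2 hvy.eq.symm⟩)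
  obtain ⟨⟨hgaM, y', hy', hy'1, hay'⟩, -⟩ := hga
  rcases fixed_primes_cases hG hM hvM hv1 hvπ hfix with hκ | hτ
  · have hx1 : x ≠ 1 := fun e => by
      subst e
      rw [one_mul] at hxv
      subst hxv
      obtain ⟨m, hm, hle⟩ := Grp.PiHall.dominate hKU.hall (zpowers_le.2 hvM)
        fun p hp hd => hκ p hp (Nat.card_zpowers v ▸ hd)
      obtain ⟨k, hk, ek⟩ := hle (mem_zpowers v)
      have ek' : m * k * m⁻¹ = v := ek
      exact hnK ⟨k, hk, fun e => hv1 (by rw [← ek', e]; group), m, hm, ek'.symm⟩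
    obtain ⟨q, _, z, hz, -, hzc, hqd⟩ := exists_prime_zpowers_le hv1
    have hxv' : Commute x v := hi ▸ hj ▸ Commute.zpow_zpow (Commute.refl a) j i
    have hC : centralizer ({x} : Set G) ≤ M := kappa_fixed_centralizer hG hM (hκ q Fact.out hqd)
      (zpowers_le.2 ((zpowers_le.2 hvM) hz)) hzc ⟨hxS, mem_centralizer_iff.2 fun w hw => by
        obtain ⟨k, rfl⟩ := mem_zpowers_iff.1 ((zpowers_le.2 hz) hw)
        exact (hxv'.zpow_right k).eq.symm⟩ hx1
    have hgx : g * x * g⁻¹ ∈ M := by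
      rw [← hj, ← conj_zpow]; exact M.zpow_mem hgaM j
    obtain ⟨r, hr, hgr⟩ := core_fusion hG hM hxS hx1 hgx
    exact (M.mul_mem_cancel_right (hC hr)).1 hgr
  · obtain ⟨hC, -⟩ := tau2_unique hG hM hvM hv1 hτ ⟨hvM, y, hy, hy1, hvy.eq⟩
    have hgv : g * v * g⁻¹ ∈ M := by
      rw [← hi, ← conj_zpow]; exact M.zpow_mem hgaM i
    obtain ⟨-, huniq⟩ := tau2_unique hG hM hgv (fun e => hv1 (conj_eq_one_iff.1 e)) (fun p hp hd => hτ p hp (by
        rwa [show g * v * g⁻¹ = MulAut.conj g v from rfl, MulEquiv.orderOf_eq] at hd))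
      ⟨hgv, y', hy', hy'1, by
        rw [← hi, ← conj_zpow]; exact ((show Commute (g * a * g⁻¹) y' from hay').zpow_left i).eq⟩
    refine mem_of_conj_smul_eq hG hM (huniq _ (isCoatom_conj hG hM g) fun c hc => ?_)
    refine ⟨g⁻¹ * c * g, hC (mem_centralizer_singleton_iff.2 ?_), by
      show MulAut.conj g (g⁻¹ * c * g) = c; rw [MulAut.conj_apply]; group⟩
    calc g⁻¹ * c * g * v = g⁻¹ * (c * (g * v * g⁻¹)) * g := by group
      _ = g⁻¹ * (g * v * g⁻¹ * c) * g := by rw [mem_centralizer_singleton_iff.1 hc]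
      _ = v * (g⁻¹ * c * g) := by group

/-- Elements of `sigmaA0 M K` conjugate in `G` are conjugate in `M`. -/
theorem fusion {a g : G} (ha : a ∈ Cfsg.sigmaA0 M K) (ha1 : a ≠ 1) (hga : g * a * g⁻¹ ∈ Cfsg.sigmaA0 M K) :
    ∃ m ∈ M, m * a * m⁻¹ = g * a * g⁻¹ := by
  by_cases haS : a ∈ Cfsg.sigmaCore M
  · obtain ⟨r, hr, hgr⟩ := core_fusion hG hM haS ha1 hga.1.1
    refine ⟨g * r, hgr, ?_⟩
    calc g * r * a * (g * r)⁻¹ = g * (r * a) * r⁻¹ * g⁻¹ := by group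
      _ = g * (a * r) * r⁻¹ * g⁻¹ := by rw [mem_centralizer_singleton_iff.1 hr]
      _ = g * a * g⁻¹ := by group
  · exact ⟨g, outside_fusion hG hM hKU ha haS hga, rfl⟩

/-- The centraliser of an element outside `M_σ` lies in `M`. -/
theorem centralizer_le_of_outside {a : G} (ha : a ∈ Cfsg.sigmaA0 M K) (haS : a ∉ Cfsg.sigmaCore M) :
    centralizer ({a} : Set G) ≤ M := fun c hc => by
  refine outside_fusion hG hM hKU ha haS ?_
  rwa [mem_centralizer_singleton_iff.1 hc, mul_inv_cancel_right]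

/-- An element with centraliser outside `M`. -/
theorem core_of_not_le {a : G} (ha : a ∈ Cfsg.sigmaA0 M K) (h : ¬ centralizer ({a} : Set G) ≤ M) :
    a ∈ Cfsg.sigmaCore M :=
  by_contra fun haS => h (centralizer_le_of_outside hG hM hKU ha haS)

/-- The values of `R`. -/
theorem supportR_cases {a : G} (ha : a ∈ Cfsg.sigmaA0 M K) (ha1 : a ≠ 1) :
    (centralizer ({a} : Set G) ≤ M ∧ Cfsg.supportR M a = ⊥) ∨
      (a ∈ Cfsg.sigmaCore M ∧ ¬ centralizer ({a} : Set G) ≤ M ∧ ∃ N : Subgroup G, Support M N a ∧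
        Cfsg.supportR M a = Cfsg.sigmaCore N ⊓ centralizer ({a} : Set G)) := by
  by_cases hC : centralizer ({a} : Set G) ≤ M
  · exact Or.inl ⟨hC, by unfold Cfsg.supportR; rw [dif_neg fun h => h.1 hC]⟩
  refine Or.inr ⟨core_of_not_le hG hM hKU ha hC, hC, ?_⟩
  obtain ⟨N, hN, huniq, -, -, -⟩ := support_unique hG hM (core_of_not_le hG hM hKU ha hC) ha1 hC
  refine ⟨N, hN, ?_⟩
  have hex : ¬ centralizer ({a} : Set G) ≤ M ∧
      ∃! L : Subgroup G, IsCoatom L ∧ centralizer ({a} : Set G) ≤ L :=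
    ⟨hC, N, ⟨hN.hN, hN.le⟩, fun L hL => huniq L hL.1 hL.2⟩
  unfold Cfsg.supportR
  rw [dif_pos hex, huniq _ (Classical.choose_spec hex.2.exists).1 (Classical.choose_spec hex.2.exists).2, hN.fhall]

/-- The Dade hypothesis for an `M`-invariant part of `sigmaA0 M K`. -/
theorem dade {X : Set G} (hX : X ⊆ Cfsg.sigmaA0 M K) (h1 : (1 : G) ∉ X)
    (hinv : ∀ m ∈ M, ∀ a ∈ X, m * a * m⁻¹ ∈ X) : Cfsg.DadeHypothesis X M (Cfsg.supportR M) := by
  haveI := solvable_of_ne_top hG hM.1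
  have hne : ∀ a ∈ X, a ≠ 1 := fun a ha e => h1 (e ▸ ha)
  refine ⟨h1, fun a ha => (hX ha).1.1, hinv, fun a ha g hga => fusion hG hM hKU (hX ha) (hne a ha) (hX hga),
    fun a ha => ?_, fun a ha c hc u hu => ?_, fun a ha => ?_, fun a ha => ?_, fun a ha b hb => ?_⟩
  all_goals rcases supportR_cases hG hM hKU (hX ha) (hne a ha) with ⟨hC, e⟩ | ⟨haS, hC, N, hN, e⟩
  all_goals first | (rw [e] at hu ⊢) | rw [e]
  · exact bot_le
  · exact inf_le_right
  · rw [mem_bot] at hu ⊢; rw [hu]; group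
  · exact Grp.mem_conj_normalizer ((hN.facts hG hM).2.1 hc) hu
  · exact bot_inf_eq _
  · refine le_bot_iff.1 ((le_inf (inf_le_right.trans inf_le_left) (inf_le_left.trans inf_le_left)).trans
      (hN.facts hG hM).1.le)
  · rw [bot_sup_eq, inf_eq_right.2 hC]
  · refine le_antisymm (sup_le inf_le_right inf_le_right) fun c hc => ?_
    obtain ⟨-, -, -, hdec⟩ := (hN.facts hG hM).2.2.1 (TransHyp.piCoreOf_le M haS)
    obtain ⟨m, hm, r, hr, rfl⟩ := hdec c hc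
    exact mul_mem (mem_sup_right hm) (mem_sup_left hr)
  · rw [Subgroup.card_bot]; exact Nat.coprime_one_left _
  · refine Nat.coprime_of_dvd fun s hs hsR hsC => ?_
    haveI := Fact.mk hs
    have hsN : s ∈ Cfsg.sigma N := TransHyp.piCoreOf_primes (π := Cfsg.sigma N) (X := N) hs
      (hsR.trans (card_dvd_of_le inf_le_left))
    obtain ⟨hκ, hτ⟩ := support_primes hG hM haS (hne a ha) hC hN.hN hN.le hsN
      (hsC.trans (card_dvd_of_le inf_le_left))
    have hsM : s ∉ Cfsg.sigma M := fun h => by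
      obtain ⟨g, hg⟩ := sigma_conj_of_common hG hM hN.hN h hsN
      exact hN.nconj g hg
    have hno : ∀ v ∈ M, v ≠ 1 → IsPiElt (Cfsg.sigma M)ᶜ v → ∀ y ∈ Cfsg.sigmaCore M, y ≠ 1 → Commute v y → False := by
      intro v hv hv1 hπ y hy hy1 hvy
      have hfix : Cfsg.sigmaCore M ⊓ centralizer ({v} : Set G) ≠ ⊥ := fun e' => hy1 (by
        rw [← mem_bot, ← e']; exact ⟨hy, mem_centralizer_singleton_iff.2 hvy.eq.symm⟩)
      obtain ⟨p, hp, hpd⟩ := Nat.exists_prime_and_dvd (fun e' => hv1 (orderOf_eq_one_iff.1 e'))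
      rcases fixed_primes_cases hG hM hv hv1 hπ hfix with h | h
      · exact (hκ ▸ h p hp hpd :)
      · exact (hτ ▸ h p hp hpd :)
    obtain ⟨⟨hbM, y, hy, hy1, hby⟩, -⟩ := hX hb
    obtain ⟨x, v, hxb, hvb, hxv, hxπ, hvπ⟩ := exists_pi_parts (Cfsg.sigma M) b
    have hbS : b ∈ Cfsg.sigmaCore M := by
      by_cases hv1 : v = 1
      · rw [← hxv, hv1, mul_one]; exact mem_sigmaCore_of_pi hG hM ((zpowers_le.2 hbM) hxb) hxπ
      · obtain ⟨i, hi⟩ := mem_zpowers_iff.1 hvb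
        exact (hno v ((zpowers_le.2 hbM) hvb) hv1 hvπ y hy hy1 (hi ▸ (show Commute b y from hby).zpow_left i)).elim
    obtain ⟨w, hw⟩ := exists_prime_orderOf_dvd_card' (G := ↥(M ⊓ centralizer ({b} : Set G))) s hsC
    have hwo : orderOf (w : G) = s := by rw [Subgroup.orderOf_coe, hw]
    refine hno w w.2.1 (fun e' => hs.ne_one (by rw [← hwo, e', orderOf_one])) (fun p hp hd => ?_) b hbS (hne b hb)
      (mem_centralizer_singleton_iff.1 w.2.2)
    rw [hwo, Nat.prime_dvd_prime_iff_eq hp hs] at hd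
    exact hd ▸ hsM

omit hKU in
/-- The set normaliser of a nonempty invariant subset of `M ∖ 1` is `M`. -/
theorem normalizer_eq {X : Set G} (hXM : X ⊆ M) (h1 : (1 : G) ∉ X) (hne : X.Nonempty)
    (hinv : ∀ m ∈ M, ∀ a ∈ X, m * a * m⁻¹ ∈ X) : normalizer X = M := by
  have hle : M ≤ normalizer X := fun m hm => Subgroup.mem_set_normalizer_iff.2 fun a =>
    ⟨hinv m hm a, fun h => by
      have h' := hinv m⁻¹ (M.inv_mem hm) _ h
      rwa [show m⁻¹ * (m * a * m⁻¹) * m⁻¹⁻¹ = a by group] at h'⟩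
  refine (hM.le_iff.1 hle).resolve_left fun e => ?_
  obtain ⟨a, ha⟩ := hne
  have hN : normalClosure ({a} : Set G) ≤ M := (closure_le M).2 fun b hb => by
    obtain ⟨_, rfl, hc⟩ := Group.mem_conjugatesOfSet_iff.1 hb
    obtain ⟨c, rfl⟩ := isConj_iff.1 hc
    exact hXM ((Subgroup.mem_set_normalizer_iff.1 (e ▸ mem_top c) _).1 ha)
  refine TransHyp.normalizer_ne_top hG (K := normalClosure ({a} : Set G)) (fun e' => h1 ?_)
    (fun e' => hM.1 (top_le_iff.1 (e' ▸ hN))) (normalizer_eq_top_iff.2 inferInstance)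
  have h2 : a ∈ normalClosure ({a} : Set G) := subset_normalClosure rfl
  rw [e', mem_bot] at h2
  exact h2 ▸ ha

omit hKU in
/-- `A(M)` lies in `M` and contains `A₁(M)`. -/
theorem typeA1_subset_typeA : Cfsg.typeA1 M ⊆ Cfsg.typeA M := by
  rintro a ⟨ha, ha1⟩
  obtain ⟨K, U, hKU⟩ := exists_decomp_of_max hG hM
  rw [typeCore_eq hG hM] at ha
  unfold Cfsg.typeA
  split_ifs with hI
  · have hK1 : K = ⊥ := by
      by_contra hK
      obtain ⟨p, hp, hpd⟩ := Nat.exists_prime_and_dvd fun e => hK (Subgroup.card_eq_one.1 e)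
      have hκ := hKU.hall.2.1 p hp hpd
      rw [kappa_empty_of_typeF hG hM hI.1] at hκ
      exact hκ
    have hF : Cfsg.fittingHallOf M = Cfsg.sigmaCore M := by
      by_contra hne
      exact (Cfsg.Agent.S1357.result hG M hM K U hKU hne).2.2.ne_one (by rw [hK1, Subgroup.card_bot])
    exact ⟨TransHyp.piCoreOf_le M ha, ha1, a, hF ▸ ha, ha1, rfl⟩
  · exact ⟨(Cfsg.Agent.S1355.result hG M hM).2.2.1 ha, ha1, a, by rw [typeCore_eq hG hM]; exact ha, ha1, rfl⟩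

theorem typeA_subset : Cfsg.typeA M ⊆ Cfsg.sigmaA0 M K := by
  intro a ha
  unfold Cfsg.typeA at ha
  split_ifs at ha with hI
  · obtain ⟨haM, -, x, hx, hx1, hc⟩ := ha
    refine ⟨⟨haM, x, fittingHallOf_le_sigmaCore hG hM hx, hx1, hc⟩, ?_⟩
    rintro ⟨k, hk, hk1, -⟩
    obtain ⟨p, hp, hpd⟩ := Nat.exists_prime_and_dvd fun e => hk1 (orderOf_eq_one_iff.1 e)
    have hκ := hKU.hall.2.1 p hp (hpd.trans (Subgroup.orderOf_dvd_natCard _ hk))
    rw [kappa_empty_of_typeF hG hM hI.1] at hκ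
    exact hκ
  · obtain ⟨haD, -, x, hx, hx1, hc⟩ := ha
    refine ⟨⟨M.commutator_le_self haD, x, typeCore_eq hG hM ▸ hx, hx1, hc⟩, ?_⟩
    rintro ⟨k, hk, hk1, m, hm, rfl⟩
    have hK1 : K ≠ ⊥ := fun e => hk1 (by rwa [e, mem_bot] at hk)
    obtain ⟨-, -, hcop, -⟩ := derived_compl hG hM hKU hK1
    refine hk1 (orderOf_eq_one_iff.1 (Nat.eq_one_of_dvd_coprimes hcop ?_ (Subgroup.orderOf_dvd_natCard _ hk)))
    have h1 := Subgroup.orderOf_dvd_natCard _ haD
    rwa [show m * k * m⁻¹ = MulAut.conj m k from rfl, MulEquiv.orderOf_eq] at h1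

theorem typeA0_subset : Cfsg.typeA0 M ⊆ Cfsg.sigmaA0 M K := by
  rintro a (ha | ⟨-, W₁, V, W₂, h, m, hm, w, hw, hw1, hw2, rfl⟩)
  · exact typeA_subset hG hM hKU ha
  have hWM : W₁ ≤ M := h.W₁_compl.2.1
  have hW₂S : W₂ ≤ Cfsg.sigmaCore M := fun y hy => fittingHallOf_le_sigmaCore hG hM (h.W₂_le hy).1
  have hW₂M : W₂ ≤ M := hW₂S.trans (TransHyp.piCoreOf_le M)
  have hcomm := h.selfNormalizing.2.2.2.1
  rw [← SetLike.mem_coe, Subgroup.coe_mul_of_left_le_normalizer_right W₁ W₂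
    (fun x hx => centralizer_le_normalizer _ (mem_centralizer_iff.2 fun y hy => (hcomm x hx y hy).symm))] at hw
  obtain ⟨x, hx, y, hy, rfl⟩ := hw
  have hy1 : y ≠ 1 := fun e => hw1 (by rw [e]; simpa using hx)
  have hxy : Commute x y := hcomm x hx y hy
  have hN := TransHyp.le_normalizer_piCoreOf (π := Cfsg.sigma M) M hm
  refine ⟨⟨M.mul_mem (M.mul_mem hm (M.mul_mem (hWM hx) (hW₂M hy))) (M.inv_mem hm), m * y * m⁻¹,
    Grp.mem_conj_normalizer hN (hW₂S hy), fun e => hy1 (conj_eq_one_iff.1 e), ?_⟩, ?_⟩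
  · calc m * (x * y) * m⁻¹ * (m * y * m⁻¹) = m * (x * y * y) * m⁻¹ := by group
      _ = m * (y * (x * y)) * m⁻¹ := by rw [← mul_assoc y x y, ← hxy.eq]
      _ = m * y * m⁻¹ * (m * (x * y) * m⁻¹) := by group
  rintro ⟨k, hk, -, n, -, e⟩
  have hcop : (orderOf x).Coprime (orderOf y) := by
    refine Nat.Coprime.coprime_dvd_left (Subgroup.orderOf_dvd_natCard _ hx) (Nat.Coprime.coprime_dvd_right ?_
      ((complIn_relIndex h.W₁_compl).2 ▸ h.W₁_hall))
    exact Subgroup.orderOf_dvd_natCard _ (((Cfsg.Agent.S1355.result hG M hM).2.2.1) (hW₂S hy))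
  have hd : orderOf y ∣ Nat.card K := by
    have h1 : orderOf (m * (x * y) * m⁻¹) = orderOf (n * k * n⁻¹) := by rw [e]
    rw [show m * (x * y) * m⁻¹ = MulAut.conj m (x * y) from rfl, MulEquiv.orderOf_eq,
      show n * k * n⁻¹ = MulAut.conj n k from rfl, MulEquiv.orderOf_eq, hxy.orderOf_mul_eq_mul_orderOf_of_coprime hcop]
      at h1
    exact (Dvd.intro_left _ h1).trans (Subgroup.orderOf_dvd_natCard _ hk)
  exact hy1 (orderOf_eq_one_iff.1 (Nat.eq_one_of_dvd_coprimes (coprime_K hG hM hKU) hd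
    (Subgroup.orderOf_dvd_natCard _ (hW₂S hy))))

omit hKU in
/-- The basic properties of the three sets. -/
theorem sets_basic {A : Set G} (hA : A = Cfsg.typeA1 M ∨ A = Cfsg.typeA M ∨ A = Cfsg.typeA0 M) :
    (∀ m ∈ M, ∀ a ∈ A, m * a * m⁻¹ ∈ A) ∧ (1 : G) ∉ A ∧ A.Nonempty ∧ A ⊆ Cfsg.typeA0 M := by
  have hS : ∀ m ∈ M, ∀ y ∈ Cfsg.typeCore M, m * y * m⁻¹ ∈ Cfsg.typeCore M := fun m hm y hy => by
    rw [typeCore_eq hG hM] at hy ⊢
    exact Grp.mem_conj_normalizer (TransHyp.le_normalizer_piCoreOf M hm) hy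
  have hD : ∀ m ∈ M, ∀ y ∈ ⁅M, M⁆, m * y * m⁻¹ ∈ ⁅M, M⁆ := fun m hm y hy => by
    have : M ≤ normalizer ((⁅M, M⁆ : Subgroup G) : Set G) := fun c hc => by
      rw [Grp.mem_normalizer_iff_smul, ← Grp.map_conj_eq_smul, Subgroup.map_commutator, Grp.map_conj_eq_smul,
        Grp.conj_smul_eq_self_of_mem hc]
    exact Grp.mem_conj_normalizer (this hm) hy
  have hcc : ∀ (m a x : G), a * x = x * a → m * a * m⁻¹ * (m * x * m⁻¹) = m * x * m⁻¹ * (m * a * m⁻¹) := by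
    intro m a x hc
    calc m * a * m⁻¹ * (m * x * m⁻¹) = m * (a * x) * m⁻¹ := by group
      _ = m * (x * a) * m⁻¹ := by rw [hc]
      _ = _ := by group
  have hinv : ∀ m ∈ M, ∀ a ∈ Cfsg.typeA M, m * a * m⁻¹ ∈ Cfsg.typeA M := by
    intro m hm a ha
    unfold Cfsg.typeA at ha ⊢
    split_ifs at ha ⊢ with hI
    · obtain ⟨haM, ha1, x, hx, hx1, hc⟩ := ha
      exact ⟨M.mul_mem (M.mul_mem hm haM) (M.inv_mem hm), fun e => ha1 (conj_eq_one_iff.1 e), m * x * m⁻¹,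
        Grp.mem_conj_normalizer (le_normalizer_fittingHallOf M hm) hx, fun e => hx1 (conj_eq_one_iff.1 e), hcc m a x hc⟩
    · obtain ⟨haD, ha1, x, hx, hx1, hc⟩ := ha
      exact ⟨hD m hm a haD, fun e => ha1 (conj_eq_one_iff.1 e), m * x * m⁻¹, hS m hm x hx,
        fun e => hx1 (conj_eq_one_iff.1 e), hcc m a x hc⟩
  have h1A : (1 : G) ∉ Cfsg.typeA M := by
    unfold Cfsg.typeA; split_ifs <;> exact fun h => h.2.1 rfl
  obtain ⟨x, hx, hx1⟩ := (bot_or_exists_ne_one _).resolve_left (sigmaCore_ne_bot hG hM)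
  have hne : x ∈ Cfsg.typeA1 M := ⟨by rw [typeCore_eq hG hM]; exact hx, hx1⟩
  rcases hA with rfl | rfl | rfl
  · exact ⟨fun m hm a ha => ⟨hS m hm a ha.1, fun e => ha.2 (conj_eq_one_iff.1 e)⟩, fun h => h.2 rfl, ⟨x, hne⟩,
      fun a ha => Or.inl (typeA1_subset_typeA hG hM ha)⟩
  · exact ⟨hinv, h1A, ⟨x, typeA1_subset_typeA hG hM hne⟩, fun a ha => Or.inl ha⟩
  · refine ⟨fun m hm a ha => ?_, fun h => ?_, ⟨x, Or.inl (typeA1_subset_typeA hG hM hne)⟩, subset_rfl⟩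
    · rcases ha with ha | ⟨hI, W₁, V, W₂, hW, n, hn, w, hw, hw1, hw2, rfl⟩
      · exact Or.inl (hinv m hm a ha)
      · exact Or.inr ⟨hI, W₁, V, W₂, hW, m * n, M.mul_mem hm hn, w, hw, hw1, hw2, by group⟩
    · rcases h with h | ⟨-, W₁, V, W₂, -, n, -, w, -, hw1, -, e⟩
      · exact h1A h
      · exact hw1 (conj_eq_one_iff.1 e.symm ▸ one_mem _)

omit hKU in
/-- The three sets have normaliser `M` and satisfy the Dade hypothesis. -/
theorem main {A : Set G} (hA : A = Cfsg.typeA1 M ∨ A = Cfsg.typeA M ∨ A = Cfsg.typeA0 M) :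
    normalizer A = M ∧ Cfsg.DadeHypothesis A M (Cfsg.supportR M) := by
  obtain ⟨K, U, hKU⟩ := exists_decomp_of_max hG hM
  obtain ⟨hinv, h1, hne, hsub⟩ := sets_basic hG hM hA
  have hX : A ⊆ Cfsg.sigmaA0 M K := hsub.trans (typeA0_subset hG hM hKU)
  exact ⟨normalizer_eq hG hM (fun a ha => (hX ha).1.1) h1 hne hinv, dade hG hM hKU hX h1 hinv⟩

omit hKU in
/-- In Type II the three sets are TI-subsets. -/
theorem typeII_ti (hII : Cfsg.IsOfTypeII M) {A : Set G}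
    (hA : A = Cfsg.typeA1 M ∨ A = Cfsg.typeA M ∨ A = Cfsg.typeA0 M) :
    Cfsg.IsTISubset A ∧ normalizer A = M := by
  obtain ⟨K, U, hKU⟩ := exists_decomp_of_max hG hM
  obtain ⟨hK1, hU1⟩ := (typeII_iff hG hM hKU).1 hII
  obtain ⟨-, hTI, hle⟩ := Cfsg.Agent.S1372.result hG M hM K U hKU hK1 hU1
  obtain ⟨hinv, h1, -, hsub⟩ := sets_basic hG hM hA
  obtain ⟨hN, -⟩ := main hG hM hA
  refine ⟨fun g hg a ha hga => (hg ?_).elim, hN⟩
  rw [hN]
  have haX := typeA0_subset hG hM hKU (hsub ha)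
  have ha1 : a ≠ 1 := fun e => h1 (e ▸ ha)
  by_cases haS : a ∈ Cfsg.sigmaCore M
  swap
  · exact outside_fusion hG hM hKU haX haS (typeA0_subset hG hM hKU (hsub hga))
  obtain ⟨r, hr, hgr⟩ := core_fusion hG hM haS ha1 (typeA0_subset hG hM hKU (hsub hga)).1.1
  refine (M.mul_mem_cancel_right ?_).1 hgr
  have hFne : Cfsg.fittingOf M ≠ ⊥ := fun e => ha1 (mem_bot.1 (e ▸ hle haS))
  have hNF := normalizer_eq_of_coatom hG hM hFne (fun e => hM.1 (top_le_iff.1 (e ▸ fittingOf_le M)))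
    (le_normalizer_fittingOf M)
  by_contra hrM
  refine ha1 (hTI r (fun h => hrM (hNF ▸ h)) a (hle haS) ?_)
  rw [mem_centralizer_singleton_iff.1 hr, mul_inv_cancel_right]
  exact hle haS

end Cfsg.Agent.Char.TypeSet
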