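import Cfsg.Agent.Lib.Char.Glauberman
import Cfsg.Agent.Lib.Char.Kernel
import Mathlib.GroupTheory.Transfer
import Mathlib.GroupTheory.FiniteAbelian.Duality

/-!
Small degree characters of a group in which all non-identity elements of a Sylow subgroup have the
same centraliser.
-/

namespace Cfsg.Agent.Char.Unif

open scoped ComplexConjugate
open Cfsg Cfsg.Agent.Block

universe u

variable {G : Type u} [Group G] {p : ℕ} (P : Sylow p G)

/-- The centraliser of the Sylow subgroup. -/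
abbrev CC : Subgroup G := Subgroup.centralizer ((P : Subgroup G) : Set G)

/-- The normaliser of the Sylow subgroup. -/
abbrev NN : Subgroup G := Subgroup.normalizer ((P : Subgroup G) : Set G)

/-- All non-identity elements of `P` have the centraliser of `P`. -/
def Uni : Prop :=
  ∀ x ∈ (P : Subgroup G), x ≠ 1 →
    Subgroup.centralizer ({x} : Set G) = Subgroup.centralizer ((P : Subgroup G) : Set G)

variable {P}

theorem comm (hU : Uni P) {x y : G} (hx : x ∈ (P : Subgroup G)) (hy : y ∈ (P : Subgroup G)) :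
    x * y = y * x := by
  by_cases hx1 : x = 1
  · simp [hx1]
  have : x ∈ CC P := by
    rw [CC, ← hU x hx hx1]
    exact Subgroup.mem_centralizer_singleton_iff.mpr rfl
  exact (Subgroup.mem_centralizer_iff.mp this y hy).symm

theorem le_cc (hU : Uni P) : (P : Subgroup G) ≤ CC P := fun _ hx =>
  Subgroup.mem_centralizer_iff.mpr fun _ hy => comm hU hy hx

theorem cc_le_nn : CC P ≤ NN P := fun x hx => by
  rw [Subgroup.mem_normalizer_iff]
  intro y
  constructor
  · intro hy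
    rw [← Subgroup.mem_centralizer_iff.mp hx y hy, mul_inv_cancel_right]
    exact hy
  · intro hy
    have h := Subgroup.mem_centralizer_iff.mp hx _ hy
    rw [inv_mul_cancel_right] at h
    rw [mul_left_cancel h]
    exact hy

theorem conj_mem_cc {x c : G} (hx : x ∈ NN P) (hc : c ∈ CC P) : x * c * x⁻¹ ∈ CC P :=
  Subgroup.mem_centralizer_iff.mpr fun y hy => by
    have hy' : x⁻¹ * y * x⁻¹⁻¹ ∈ (P : Subgroup G) :=
      (Subgroup.mem_normalizer_iff.mp (inv_mem hx) y).mp hy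
    have h := Subgroup.mem_centralizer_iff.mp hc _ hy'
    calc y * (x * c * x⁻¹) = x * ((x⁻¹ * y * x⁻¹⁻¹) * c) * x⁻¹ := by group
      _ = x * c * x⁻¹ * y := by rw [h]; group

/-- Conjugation on the centraliser by an element of the normaliser. -/
def cjg (x : NN P) : CC P ≃* CC P where
  toFun c := ⟨(x : G) * c * (x : G)⁻¹, conj_mem_cc x.2 c.2⟩
  invFun c := ⟨(x : G)⁻¹ * c * (x : G)⁻¹⁻¹, conj_mem_cc (inv_mem x.2) c.2⟩
  left_inv c := Subtype.ext (by simp [mul_assoc])
  right_inv c := Subtype.ext (by simp [mul_assoc])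
  map_mul' c d := Subtype.ext (by simp [mul_assoc])

theorem cjg_apply (x : NN P) (c : CC P) : (cjg x c : G) = (x : G) * c * (x : G)⁻¹ := rfl

theorem cjg_mul (x y : NN P) (c : CC P) : cjg (x * y) c = cjg x (cjg y c) :=
  Subtype.ext (by simp [cjg_apply, mul_assoc])

theorem cjg_one (c : CC P) : cjg (1 : NN P) c = c := Subtype.ext (by simp [cjg_apply])

variable [Finite G]

/-- The conjugate of an irreducible character of the centraliser. -/
noncomputable def cj (x : NN P) (κ : IrrCharacter (CC P)) : IrrCharacter (CC P) :=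
  ⟨fun c => (κ : CC P → ℂ) (cjg x c), IsIrr.comp_mulEquiv (cjg x) κ.2⟩

theorem cj_apply (x : NN P) (κ : IrrCharacter (CC P)) (c : CC P) :
    (cj x κ : CC P → ℂ) c = (κ : CC P → ℂ) (cjg x c) := rfl

theorem cj_mul (x y : NN P) (κ : IrrCharacter (CC P)) : cj (x * y) κ = cj y (cj x κ) :=
  Subtype.ext (funext fun c => by rw [cj_apply, cj_apply, cj_apply, cjg_mul])

theorem cj_one (κ : IrrCharacter (CC P)) : cj (1 : NN P) κ = κ :=
  Subtype.ext (funext fun c => by rw [cj_apply, cjg_one])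

theorem cj_inv_cancel (x : NN P) (κ : IrrCharacter (CC P)) : cj x⁻¹ (cj x κ) = κ := by
  rw [← cj_mul, mul_inv_cancel, cj_one]

/-- Conjugate characters. -/
def Rel (κ κ' : IrrCharacter (CC P)) : Prop := ∃ x : NN P, cj x κ = κ'

theorem Rel.refl (κ : IrrCharacter (CC P)) : Rel κ κ := ⟨1, cj_one κ⟩

theorem Rel.symm {κ κ' : IrrCharacter (CC P)} : Rel κ κ' → Rel κ' κ := by
  rintro ⟨x, rfl⟩
  exact ⟨x⁻¹, cj_inv_cancel x κ⟩

theorem Rel.trans {a b c : IrrCharacter (CC P)} : Rel a b → Rel b c → Rel a c := by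
  rintro ⟨x, rfl⟩ ⟨y, rfl⟩
  exact ⟨x * y, cj_mul x y a⟩

/-- `P` is not in the kernel. -/
def Nt (κ : IrrCharacter (CC P)) : Prop :=
  ∃ u : CC P, (u : G) ∈ (P : Subgroup G) ∧ (κ : CC P → ℂ) u ≠ (κ : CC P → ℂ) 1

theorem Nt.cj {κ : IrrCharacter (CC P)} (h : Nt κ) (x : NN P) : Nt (cj x κ) := by
  obtain ⟨u, hu, hne⟩ := h
  refine ⟨(cjg x).symm u, ?_, ?_⟩
  · exact (Subgroup.mem_normalizer_iff.mp (inv_mem x.2) u).mp hu
  · rw [cj_apply, cj_apply, MulEquiv.apply_symm_apply, map_one]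
    exact hne

theorem Nt.rel {κ κ' : IrrCharacter (CC P)} (h : Nt κ) (hr : Rel κ κ') : Nt κ' := by
  obtain ⟨x, rfl⟩ := hr
  exact h.cj x

theorem center_of_mem (hU : Uni P) {u : CC P} (hu : (u : G) ∈ (P : Subgroup G)) :
    u ∈ Subgroup.center (CC P) :=
  Subgroup.mem_center_iff.mpr fun c => Subtype.ext
    (Subgroup.mem_centralizer_iff.mp c.2 _ hu).symm

theorem exists_eig (hU : Uni P) (κ : IrrCharacter (CC P)) :
    ∃ l : (P : Subgroup G) →* ℂˣ, ∀ (u : (P : Subgroup G)) (c : CC P),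
      (κ : CC P → ℂ) (⟨u, le_cc hU u.2⟩ * c) = (l u : ℂ) * (κ : CC P → ℂ) c := by
  choose a hn ha using fun u : (P : Subgroup G) =>
    IsIrr.scalar_of_center κ.2 (center_of_mem hU (u := ⟨u, le_cc hU u.2⟩) u.2)
  have h0 : (κ : CC P → ℂ) 1 ≠ 0 := irr_one_ne_zero κ
  have hmul : ∀ u v, a (u * v) = a u * a v := fun u v => by
    refine mul_right_cancel₀ h0 ?_
    rw [← ha, mul_assoc (a u), ← ha, ← ha, mul_one, mul_one]
    exact congrArg _ (Subtype.ext rfl)
  have hone : a 1 = 1 := by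
    have := ha 1 1
    rw [show (⟨((1 : (P : Subgroup G)) : G), le_cc hU (1 : (P : Subgroup G)).2⟩ : CC P) = 1 from
      Subtype.ext rfl, one_mul] at this
    exact (mul_eq_right₀ h0).mp this.symm
  let l : (P : Subgroup G) →* ℂ := { toFun := a, map_one' := hone, map_mul' := hmul }
  exact ⟨l.toHomUnits, fun u c => ha u c⟩

variable [Fact p.Prime]

theorem exists_proj (hU : Uni P) :
    ∃ f : CC P →* (P : Subgroup G), (∀ u : (P : Subgroup G), f ⟨u, le_cc hU u.2⟩ = u) ∧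
      ∃ m : ℕ, ¬ p ∣ m ∧ ∀ c : CC P, (c : G) ^ m = ((f c : G)) ^ m := by
  have hp : p.Prime := Fact.out
  set Q := P.subtype (le_cc hU) with hQ
  have hmem : ∀ z : CC P, z ∈ (Q : Subgroup (CC P)) ↔ (z : G) ∈ (P : Subgroup G) := fun z => by
    rw [hQ, Sylow.coe_subtype, Subgroup.mem_subgroupOf]
  have hnc : Subgroup.normalizer ((Q : Subgroup (CC P)) : Set (CC P)) ≤
      Subgroup.centralizer ((Q : Subgroup (CC P)) : Set (CC P)) := fun c _ =>
    Subgroup.mem_centralizer_iff.mpr fun z hz =>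
      Subtype.ext (Subgroup.mem_centralizer_iff.mp c.2 _ ((hmem z).mp hz))
  set τ := MonoidHom.transferSylow Q hnc with hτ
  obtain ⟨k, hk⟩ := (IsPGroup.iff_card.mp P.isPGroup')
  set i := (Q : Subgroup (CC P)).index with hi
  have hco : i.Coprime (p ^ k) :=
    Nat.Coprime.pow_right _ (Nat.Coprime.symm (hp.coprime_iff_not_dvd.mpr Q.not_dvd_index))
  obtain ⟨r', hr1⟩ : ∃ r' : ℕ, i * r' ≡ 1 [MOD p ^ k] := by
    by_cases h1 : p ^ k = 1
    · exact ⟨0, by rw [h1]; exact Nat.modEq_one⟩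
    obtain ⟨r', -, hr'⟩ := Nat.exists_mul_mod_eq_one_of_coprime hco
      (Nat.lt_of_le_of_ne (Nat.one_le_pow _ _ hp.pos) (Ne.symm h1))
    exact ⟨r', by rw [Nat.ModEq, hr', Nat.one_mod_eq_one.mpr h1]⟩
  let g : CC P → (P : Subgroup G) := fun c => ⟨((τ c : CC P) : G), (hmem _).mp (τ c).2⟩ ^ r'
  have hg : ∀ c d, g (c * d) = g c * g d := fun c d => by
    simp only [g, map_mul]
    rw [← Commute.mul_pow (Subtype.ext (comm hU ((hmem _).mp (τ c).2) ((hmem _).mp (τ d).2)))]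
    exact congrArg (· ^ r') (Subtype.ext rfl)
  let f : CC P →* (P : Subgroup G) := MonoidHom.mk' g hg
  have hid : ∀ u : (P : Subgroup G), f ⟨u, le_cc hU u.2⟩ = u := fun u => by
    show g _ = u
    simp only [g]
    have h1 := MonoidHom.transferSylow_eq_pow Q hnc (⟨u, le_cc hU u.2⟩ : CC P) ((hmem _).mpr u.2)
    have h2 : (⟨((τ ⟨u, le_cc hU u.2⟩ : CC P) : G), (hmem _).mp (τ _).2⟩ : (P : Subgroup G)) =
        u ^ i := Subtype.ext (by simp only [hτ, h1]; simp [hi])
    rw [h2, ← pow_mul]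
    conv_rhs => rw [← pow_one u]
    exact pow_eq_pow_iff_modEq.mpr (hr1.of_dvd (hk ▸ orderOf_dvd_natCard u))
  refine ⟨f, hid, Nat.card f.ker, ?_, fun c => ?_⟩
  · intro hd
    have hidx : f.ker.index = p ^ k := by
      rw [Subgroup.index_ker, MonoidHom.range_eq_top.mpr fun u => ⟨_, hid u⟩, Subgroup.card_top, hk]
    have h1 := f.ker.card_mul_index
    rw [hidx] at h1
    have h2 : Nat.card (Q : Subgroup (CC P)) = p ^ k := by
      rw [hQ, Sylow.coe_subtype, Nat.card_congr (Subgroup.subgroupOfEquivOfLe (le_cc hU)).toEquiv, hk]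
    have h3 := (Q : Subgroup (CC P)).card_mul_index
    rw [h2, ← h1, mul_comm] at h3
    exact Q.not_dvd_index (Nat.eq_of_mul_eq_mul_right (pow_pos hp.pos k) h3 ▸ hd)
  · set z : CC P := ⟨f c, le_cc hU (f c).2⟩ with hz
    have hker : z⁻¹ * c ∈ f.ker := by
      rw [MonoidHom.mem_ker, map_mul, map_inv, hz, hid, inv_mul_cancel]
    have h1 := congrArg Subtype.val (pow_card_eq_one' (G := f.ker) (x := ⟨_, hker⟩))
    have h2 : Commute z⁻¹ c :=
      Commute.inv_left (Subgroup.mem_center_iff.mp (center_of_mem hU (f c).2) c).symm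
    simp only [Subgroup.coe_pow, Subgroup.coe_one] at h1
    rw [h2.mul_pow, inv_pow, inv_mul_eq_one] at h1
    have h4 := congrArg Subtype.val h1.symm
    simpa [z] using h4

/-- The projection of the centraliser onto the Sylow subgroup. -/
noncomputable def proj (hU : Uni P) : CC P →* (P : Subgroup G) :=
  Classical.choose (exists_proj hU)

theorem proj_id (hU : Uni P) (u : (P : Subgroup G)) : proj hU ⟨u, le_cc hU u.2⟩ = u :=
  (Classical.choose_spec (exists_proj hU)).1 u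

theorem proj_pow (hU : Uni P) : ∃ m : ℕ, ¬ p ∣ m ∧ ∀ c : CC P,
    (c : G) ^ m = ((proj hU c : G)) ^ m :=
  (Classical.choose_spec (exists_proj hU)).2

theorem eq_one_of_pow_eq_one {u : G} (hu : u ∈ (P : Subgroup G)) {m : ℕ} (hm : ¬ p ∣ m)
    (h : u ^ m = 1) : u = 1 := by
  obtain ⟨k, hk⟩ := P.isPGroup' ⟨u, hu⟩
  have h1 : u ^ p ^ k = 1 := by simpa using congrArg Subtype.val hk
  have h2 : orderOf u ∣ Nat.gcd m (p ^ k) :=
    Nat.dvd_gcd (orderOf_dvd_of_pow_eq_one h) (orderOf_dvd_of_pow_eq_one h1)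
  rw [Nat.Coprime.gcd_eq_one (Nat.Coprime.pow_right _
    (Nat.Coprime.symm ((Fact.out : p.Prime).coprime_iff_not_dvd.mpr hm))), Nat.dvd_one] at h2
  exact orderOf_eq_one_iff.mp h2

/-- A conjugate in the centraliser of an element outside the kernel of the projection. -/
theorem mem_nn_of_conj (hU : Uni P) {x : G} {c d : CC P} (hd : (d : G) = x⁻¹ * c * x)
    (hne : proj hU d ≠ 1) : x ∈ NN P := by
  obtain ⟨m, hm, hpow⟩ := proj_pow hU
  set w : G := (proj hU d : G) ^ m with hw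
  have hwP : w ∈ (P : Subgroup G) := Subgroup.pow_mem _ (proj hU d).2 m
  have hw1 : w ≠ 1 := fun h => hne (Subtype.ext (eq_one_of_pow_eq_one (proj hU d).2 hm h))
  have e1 : x * w * x⁻¹ = (proj hU c : G) ^ m := by
    have e2 : (x⁻¹ * (c : G) * x) ^ m = x⁻¹ * (c : G) ^ m * x := by
      simpa using conj_pow (a := x⁻¹) (b := (c : G)) (i := m)
    rw [hw, ← hpow, ← hpow, hd, e2]
    group
  have hv : x * w * x⁻¹ ∈ (P : Subgroup G) := e1 ▸ Subgroup.pow_mem _ (proj hU c).2 m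
  have hv1 : x * w * x⁻¹ ≠ 1 := fun h => hw1 (by
    have := congrArg (fun t => x⁻¹ * t * x) h
    simpa [mul_assoc] using this)
  have hC : ∀ z : G, z ∈ CC P ↔ x * z * x⁻¹ ∈ CC P := fun z => by
    have a1 := hU _ hwP hw1
    have a2 := hU _ hv hv1
    calc z ∈ CC P ↔ z ∈ Subgroup.centralizer ({w} : Set G) := by rw [a1]
      _ ↔ x * z * x⁻¹ ∈ Subgroup.centralizer ({x * w * x⁻¹} : Set G) := by
        simp only [Subgroup.mem_centralizer_singleton_iff]
        constructor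
        · intro h
          calc (x * z * x⁻¹) * (x * w * x⁻¹) = x * (z * w) * x⁻¹ := by group
            _ = (x * w * x⁻¹) * (x * z * x⁻¹) := by rw [h]; group
        · intro h
          calc z * w = x⁻¹ * ((x * z * x⁻¹) * (x * w * x⁻¹)) * x := by group
            _ = w * z := by rw [h]; group
      _ ↔ x * z * x⁻¹ ∈ CC P := by rw [a2]
  have key : ∀ y ∈ (P : Subgroup G), x * y * x⁻¹ ∈ (P : Subgroup G) := by
    intro y hy
    obtain ⟨k, hk⟩ := P.isPGroup' ⟨y, hy⟩
    have h1 : y ^ p ^ k = 1 := by simpa using congrArg Subtype.val hk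
    set z : CC P := ⟨x * y * x⁻¹, (hC y).mp (le_cc hU hy)⟩
    have h3 : (x * y * x⁻¹) ^ p ^ k = 1 := by rw [conj_pow, h1, mul_one, mul_inv_cancel]
    have h4 : (x * y * x⁻¹) ^ m ∈ (P : Subgroup G) := by
      rw [show x * y * x⁻¹ = (z : G) from rfl, hpow]
      exact Subgroup.pow_mem _ (proj hU z).2 m
    have hco : m.Coprime (orderOf (x * y * x⁻¹)) := (Nat.Coprime.pow_right k
      (Nat.Coprime.symm ((Fact.out : p.Prime).coprime_iff_not_dvd.mpr hm))).coprime_dvd_right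
        (orderOf_dvd_of_pow_eq_one h3)
    obtain ⟨j, hj⟩ := exists_pow_eq_self_of_coprime hco
    rw [← hj]
    exact Subgroup.pow_mem _ h4 j
  exact Subgroup.mem_normalizer_iff.mpr fun y => ⟨key y, fun hy => by
    have hsub : (P : Subgroup G).map (MulAut.conj x).toMonoidHom = (P : Subgroup G) :=
      Subgroup.eq_of_le_of_card_ge (fun _ ⟨t, ht, e⟩ => e ▸ key t ht)
        (Subgroup.card_map_of_injective (f := (MulAut.conj x).toMonoidHom)
          (MulAut.conj x).injective).ge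
    obtain ⟨t, ht, e⟩ := (hsub.ge hy : x * y * x⁻¹ ∈ _)
    rwa [(MulAut.conj x).injective (e : MulAut.conj x t = MulAut.conj x y)] at ht⟩

/-- The normaliser acts semiregularly on the non-principal characters of `P`. -/
theorem mem_cc_of_eig_fixed (hU : Uni P) {l : (P : Subgroup G) →* ℂˣ} (hl : l ≠ 1) {x : NN P}
    (h : ∀ u v : (P : Subgroup G), (v : G) = (x : G) * u * (x : G)⁻¹ → l v = l u) :
    (x : G) ∈ CC P := by
  by_contra hx
  refine hl (MonoidHom.ext fun w => ?_)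
  let T : ↥(P : Subgroup G) → ↥(P : Subgroup G) := fun u =>
    ⟨(x : G) * u * (x : G)⁻¹ * (u : G)⁻¹,
      mul_mem ((Subgroup.mem_normalizer_iff.mp x.2 u).mp u.2) (inv_mem u.2)⟩
  have hinj : Function.Injective T := by
    intro u v huv
    have e : (x : G) * u * (x : G)⁻¹ * (u : G)⁻¹ = (x : G) * v * (x : G)⁻¹ * (v : G)⁻¹ :=
      congrArg Subtype.val huv
    by_contra hne
    have hd1 : (v : G)⁻¹ * u ≠ 1 := fun h => hne (Subtype.ext (inv_mul_eq_one.mp h).symm)
    refine hx ?_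
    rw [CC, ← hU _ (mul_mem (inv_mem v.2) u.2) hd1, Subgroup.mem_centralizer_singleton_iff]
    set a := (x : G) * v * (x : G)⁻¹ with ha
    set b := (x : G) * u * (x : G)⁻¹ with hb
    have hbP : b ∈ (P : Subgroup G) := (Subgroup.mem_normalizer_iff.mp x.2 u).mp u.2
    have h2 : a⁻¹ * b = (v : G)⁻¹ * u := by
      rw [mul_inv_eq_iff_eq_mul.mp e, ← mul_assoc, ← mul_assoc, inv_mul_cancel, one_mul]
    rw [ha, hb] at h2
    exact mul_inv_eq_iff_eq_mul.mp (Eq.trans (show (x : G) * ((v : G)⁻¹ * u) * (x : G)⁻¹ =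
      ((x : G) * v * (x : G)⁻¹)⁻¹ * ((x : G) * u * (x : G)⁻¹) by group) h2)
  obtain ⟨u, rfl⟩ := Finite.injective_iff_surjective.mp hinj w
  have e : T u = ⟨(x : G) * u * (x : G)⁻¹, (Subgroup.mem_normalizer_iff.mp x.2 u).mp u.2⟩ * u⁻¹ :=
    Subtype.ext rfl
  rw [e, map_mul, map_inv, h u _ rfl, mul_inv_cancel, MonoidHom.one_apply]

theorem fixed_mem_cc (hU : Uni P) {κ : IrrCharacter (CC P)} (hκ : Nt κ) {x : NN P}
    (h : cj x κ = κ) : (x : G) ∈ CC P := by
  obtain ⟨l, hl⟩ := exists_eig hU κ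
  have h0 : (κ : CC P → ℂ) 1 ≠ 0 := irr_one_ne_zero κ
  refine mem_cc_of_eig_fixed hU (l := l) ?_ fun u v huv => ?_
  · rintro rfl
    obtain ⟨u, hu, hne⟩ := hκ
    exact hne (by simpa using hl ⟨u, hu⟩ 1)
  · have h1 := congrFun (congrArg Subtype.val h) ⟨u, le_cc hU u.2⟩
    have h2 := hl u 1
    have h3 := hl v 1
    rw [mul_one] at h2 h3
    change (κ : CC P → ℂ) (cjg x ⟨u, le_cc hU u.2⟩) = _ at h1
    rw [show cjg x (⟨u, le_cc hU u.2⟩ : CC P) = ⟨v, le_cc hU v.2⟩ from Subtype.ext huv.symm, h2,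
      h3] at h1
    exact Units.ext (mul_right_cancel₀ h0 h1)

theorem cj_of_mem_cc {x : NN P} (hx : (x : G) ∈ CC P) (κ : IrrCharacter (CC P)) : cj x κ = κ := by
  refine Subtype.ext (funext fun c => ?_)
  have : cjg x c = ⟨x, hx⟩ * c * ⟨(x : G), hx⟩⁻¹ := Subtype.ext rfl
  rw [cj_apply, this]
  exact IsIrr.classFun κ.2 c _

/-- Characters with the same restriction to the kernel of the projection. -/
def Sib (hU : Uni P) (κ κ' : IrrCharacter (CC P)) : Prop :=
  ∀ c, proj hU c = 1 → (κ : CC P → ℂ) c = (κ' : CC P → ℂ) c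

theorem proj_cjg (hU : Uni P) (x : NN P) {c : CC P} (hc : proj hU c = 1) :
    proj hU (cjg x c) = 1 := by
  obtain ⟨m, hm, hpow⟩ := proj_pow hU
  refine Subtype.ext (eq_one_of_pow_eq_one (proj hU _).2 hm ?_)
  rw [← hpow, cjg_apply, conj_pow, hpow, hc]
  simp

theorem Sib.cj {hU : Uni P} {κ κ' : IrrCharacter (CC P)} (h : Sib hU κ κ') (x : NN P) :
    Sib hU (cj x κ) (cj x κ') := fun c hc => h _ (proj_cjg hU x hc)

/-- A character twisted by a linear character of `P`. -/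
noncomputable def tw (hU : Uni P) (κ : IrrCharacter (CC P)) (l : (P : Subgroup G) →* ℂˣ) :
    IrrCharacter (CC P) :=
  ⟨fun c => (l (proj hU c) : ℂ) * (κ : CC P → ℂ) c, IsIrr.mul_linear κ.2 (l.comp (proj hU))⟩

theorem tw_apply (hU : Uni P) (κ : IrrCharacter (CC P)) (l : (P : Subgroup G) →* ℂˣ) (c : CC P) :
    (tw hU κ l : CC P → ℂ) c = (l (proj hU c) : ℂ) * (κ : CC P → ℂ) c := rfl

theorem sib_tw (hU : Uni P) (κ : IrrCharacter (CC P)) (l : (P : Subgroup G) →* ℂˣ) :
    Sib hU κ (tw hU κ l) := fun c hc => by rw [tw_apply, hc, map_one, Units.val_one, one_mul]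

theorem tw_injective (hU : Uni P) (κ : IrrCharacter (CC P)) :
    Function.Injective (tw hU κ) := fun a b h => MonoidHom.ext fun u => by
  obtain ⟨l, hl⟩ := exists_eig hU κ
  have h1 := congrFun (congrArg Subtype.val h) ⟨u, le_cc hU u.2⟩
  change (a (proj hU _) : ℂ) * _ = (b (proj hU _) : ℂ) * _ at h1
  rw [proj_id] at h1
  refine Units.ext (mul_right_cancel₀ ?_ h1)
  have h2 := hl u 1
  rw [mul_one] at h2
  rw [h2]
  exact mul_ne_zero (Units.ne_zero _) (irr_one_ne_zero κ)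

theorem exists_tw_of_sib {hU : Uni P} {κ κ' : IrrCharacter (CC P)} (h : Sib hU κ κ') :
    ∃ l, κ' = tw hU κ l := by
  obtain ⟨a, ha⟩ := exists_eig hU κ
  obtain ⟨b, hb⟩ := exists_eig hU κ'
  refine ⟨b * a⁻¹, Subtype.ext (funext fun c => ?_)⟩
  set u := proj hU c with hu
  set v : CC P := ⟨u, le_cc hU u.2⟩ with hv
  have hk : proj hU (v⁻¹ * c) = 1 := by rw [map_mul, map_inv, hv, proj_id, inv_mul_cancel]
  have h1 := ha u (v⁻¹ * c)
  have h2 := hb u (v⁻¹ * c)
  rw [← hv, mul_inv_cancel_left] at h1 h2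
  rw [tw_apply, ← hu, h1, h2, h _ hk, MonoidHom.mul_apply, MonoidHom.inv_apply,
    Units.val_mul, mul_assoc, ← mul_assoc ((↑(a u)⁻¹ : ℂ)), Units.inv_mul, one_mul]

theorem card_linear (hU : Uni P) :
    Nat.card ((P : Subgroup G) →* ℂˣ) = Nat.card P := by
  letI : CommGroup (P : Subgroup G) :=
    { (inferInstance : Group (P : Subgroup G)) with
      mul_comm := fun a b => Subtype.ext (comm hU a.2 b.2) }
  haveI : HasEnoughRootsOfUnity ℂ (Monoid.exponent (P : Subgroup G)) := by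
    haveI : NeZero (Monoid.exponent (P : Subgroup G)) := ⟨Monoid.exponent_ne_zero_of_finite⟩
    infer_instance
  exact CommGroup.card_monoidHom_of_hasEnoughRootsOfUnity _ ℂ

end Cfsg.Agent.Char.Unif
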