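import Cfsg.Agent.Lib.Char.UniformCentPairs

/-!
A non-principal irreducible character of degree `x` with `x ^ 2 + 1 < |P|` is linear when no proper
normal subgroup contains `P`, and then `P` has a normal complement.
-/

namespace Cfsg.Agent.Char.Unif

open scoped ComplexConjugate
open Cfsg Cfsg.Agent.Block

universe u

variable {G : Type u} [Group G] [Fintype G] {p : ℕ} [Fact p.Prime] {P : Sylow p G}
  [Fintype (CC P)]

/-- The principal character. -/
def triv (H : Type*) [Group H] : IrrCharacter H := ⟨fun _ => 1, isIrr_one⟩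

theorem not_nt_triv : ¬ Nt (triv (CC P)) := fun ⟨_, _, h⟩ => h rfl

/-- No proper normal subgroup contains `P`. -/
def Full (P : Sylow p G) : Prop := ∀ K : Subgroup G, K.Normal → (P : Subgroup G) ≤ K → K = ⊤

theorem mu_triv_of_nt {κ : IrrCharacter (CC P)} (h : Nt κ) : mu (triv G : G → ℂ) κ = 0 := by
  have h1 := mu_spec (P := P) (irr_isChar (triv G)) κ
  rw [show (fun c : CC P => (triv G : G → ℂ) c) = (triv (CC P) : CC P → ℂ) from rfl,
    classInner_irr_ne (triv (CC P)).2 κ.2
      (fun e => not_nt_triv (by rwa [Subtype.ext e] : Nt (triv (CC P))))] at h1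
  exact_mod_cast h1.symm

theorem exists_nt (hfull : Full P) (hU : Uni P) {Y : IrrCharacter G} (hY : Y ≠ triv G) :
    ∃ κ : IrrCharacter (CC P), Nt κ ∧ 0 < mu (Y : G → ℂ) κ := by
  by_contra hno
  push Not at hno
  have hle : (P : Subgroup G) ≤ charKer (irr_isChar Y) := fun u hu => by
    rw [mem_charKer, show u = (((⟨u, le_cc hU hu⟩ : CC P)) : G) from rfl,
      mu_expansion (irr_isChar Y), show (1 : G) = ((1 : CC P) : G) from rfl,
      mu_expansion (irr_isChar Y)]
    refine Finset.sum_congr rfl fun κ _ => ?_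
    by_cases h : Nt κ
    · rw [Nat.eq_zero_of_le_zero (hno κ h)]
      simp
    · rw [not_not.mp fun e => h ⟨⟨u, le_cc hU hu⟩, hu, e⟩]
  have h := hfull _ (charKer_normal _) hle
  exact hY (Subtype.ext (irr_const_eq_one Y.2 fun g =>
    (mem_charKer (irr_isChar Y)).mp (h ▸ Subgroup.mem_top g)))

theorem ee_le_deg_of_mu (hU : Uni P) {F : G → ℂ} (hF : IsCharacter G F) {d : ℕ} (hd : F 1 = d)
    {κ : IrrCharacter (CC P)} (hκ : Nt κ) (hm : 0 < mu F κ) : ee P ≤ d := by
  refine le_trans ?_ (sum_mu_le hF hd (Orb κ))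
  rw [← card_Orb hU hκ, Finset.card_eq_sum_ones]
  exact Finset.sum_le_sum fun κ' h => (mu_rel hF (mem_Orb.mp h)).symm ▸ hm

theorem ee_le_deg (hfull : Full P) (hU : Uni P) {Y : IrrCharacter G} (hY : Y ≠ triv G) :
    ee P ≤ deg Y := by
  obtain ⟨κ, hκ, hm⟩ := exists_nt hfull hU hY
  exact ee_le_deg_of_mu hU (irr_isChar Y) (charDeg_spec' Y) hκ hm

/-- A good character of small degree. -/
def GS (P : Sylow p G) (Y : IrrCharacter G) : Prop :=
  Good (P := P) Y ∧ deg Y + 1 < Nat.card P

open Classical in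
/-- The common degree of the good characters belonging to a family. -/
noncomputable def wt (hU : Uni P) (κ : IrrCharacter (CC P)) : ℕ :=
  if h : ∃ (Y : IrrCharacter G) (c : IrrCharacter (CC P)),
      GS P Y ∧ Nt c ∧ Sib hU κ c ∧ mu (Y : G → ℂ) c = 1
  then deg h.choose else 0

theorem wt_eq (hU : Uni P) {κ c : IrrCharacter (CC P)} {Y : IrrCharacter G} (hY : GS P Y)
    (hc : Nt c) (hs : Sib hU κ c) (hm : mu (Y : G → ℂ) c = 1) : wt hU κ = deg Y := by
  have h : ∃ (Y : IrrCharacter G) (c : IrrCharacter (CC P)),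
      GS P Y ∧ Nt c ∧ Sib hU κ c ∧ mu (Y : G → ℂ) c = 1 := ⟨Y, c, hY, hc, hs, hm⟩
  rw [wt, dif_pos h]
  obtain ⟨c', hY', hc', hs', hm'⟩ := h.choose_spec
  exact deg_congr hU hY'.2 hY.2 hY'.1 hY.1 hc' hc hm' hm (hs'.symm.trans hs)

theorem wt_sib (hU : Uni P) {κ κ' : IrrCharacter (CC P)} (hs : Sib hU κ κ') :
    wt hU κ = wt hU κ' := by
  by_cases h : ∃ (Y : IrrCharacter G) (c : IrrCharacter (CC P)),
      GS P Y ∧ Nt c ∧ Sib hU κ c ∧ mu (Y : G → ℂ) c = 1
  · obtain ⟨Y, c, hY, hc, hsc, hm⟩ := h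
    rw [wt_eq hU hY hc hsc hm, wt_eq hU hY hc (hs.symm.trans hsc) hm]
  · rw [wt, dif_neg h, wt, dif_neg]
    rintro ⟨Y, c, hY, hc, hsc, hm⟩
    exact h ⟨Y, c, hY, hc, hs.trans hsc, hm⟩

theorem weighted_irr (hfull : Full P) (hU : Uni P) {Y : IrrCharacter G} (hY : GS P Y)
    (h1 : Y ≠ triv G) [DecidablePred (Nt (P := P))] :
    ∑ κ ∈ Finset.univ.filter Nt, wt hU κ * mu (Y : G → ℂ) κ = ee P * deg Y := by
  obtain ⟨c, hc, hm⟩ := exists_nt hfull hU h1
  have hm1 : mu (Y : G → ℂ) c = 1 := le_antisymm (mu_le_one hU hY.2 hc) hm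
  rw [← Finset.sum_subset (s₁ := Orb c)
    (fun κ h => Finset.mem_filter.mpr ⟨Finset.mem_univ _, hc.rel (mem_Orb.mp h)⟩)
    (fun κ h hn => ?_), ← card_Orb hU hc, ← smul_eq_mul, ← Finset.sum_const]
  · refine Finset.sum_congr rfl fun κ h => ?_
    have hk : mu (Y : G → ℂ) κ = 1 := (mu_rel (irr_isChar Y) (mem_Orb.mp h)).trans hm1
    rw [hk, mul_one]
    exact wt_eq hU hY (hc.rel (mem_Orb.mp h)) (Sib.refl κ) hk
  · have hk := (Finset.mem_filter.mp h).2
    have := mu_le_one hU hY.2 hk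
    rcases Nat.eq_zero_or_pos (mu (Y : G → ℂ) κ) with h0 | h0
    · rw [h0, mul_zero]
    · exact absurd (mem_Orb.mpr (hY.1 c κ hc hk hm1 (by omega))) hn

/-- Multiplicities on the centraliser from the decomposition. -/
theorem mu_sum {F : G → ℂ} (hF : IsCharacter G F) {a : IrrCharacter G → ℕ}
    (ha : F = ∑ Z : IrrCharacter G, (a Z : ℂ) • (Z : G → ℂ)) (κ : IrrCharacter (CC P)) :
    mu F κ = ∑ Z : IrrCharacter G, a Z * mu (Z : G → ℂ) κ := by
  have h : ((mu F κ : ℕ) : ℂ) = ((∑ Z : IrrCharacter G, a Z * mu (Z : G → ℂ) κ : ℕ) : ℂ) := by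
    rw [← mu_spec hF, show (fun c : CC P => F c) =
      ∑ Z : IrrCharacter G, (a Z : ℂ) • (fun c : CC P => (Z : G → ℂ) c) from
        funext fun c => by rw [ha]; simp [Finset.sum_apply], classInner_sum_left, Nat.cast_sum]
    exact Finset.sum_congr rfl fun Z _ => by
      rw [classInner_smul_left, mu_spec (irr_isChar Z), Nat.cast_mul]
  exact_mod_cast h

theorem deg_sum {F : G → ℂ} {a : IrrCharacter G → ℕ}
    (ha : F = ∑ Z : IrrCharacter G, (a Z : ℂ) • (Z : G → ℂ)) {d : ℕ} (hd : F 1 = d) :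
    d = ∑ Z : IrrCharacter G, a Z * deg Z := by
  have : (d : ℂ) = ((∑ Z : IrrCharacter G, a Z * deg Z : ℕ) : ℂ) := by
    rw [← hd, ha, sum_irr_apply, Nat.cast_sum]
    exact Finset.sum_congr rfl fun Z _ => by rw [Nat.cast_mul, ← charDeg_spec' Z]
  exact_mod_cast this

theorem weighted (hfull : Full P) (hU : Uni P) {F : G → ℂ} (hF : IsCharacter G F)
    {a : IrrCharacter G → ℕ} (ha : F = ∑ Z : IrrCharacter G, (a Z : ℂ) • (Z : G → ℂ))
    {d : ℕ} (hd : F 1 = d) (hgood : ∀ Z, Z ≠ triv G → a Z ≠ 0 → GS P Z)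
    [DecidablePred (Nt (P := P))] :
    (∑ κ ∈ Finset.univ.filter Nt, wt hU κ * mu F κ) + ee P * a (triv G) = ee P * d := by
  classical
  rw [Finset.sum_congr rfl fun κ _ => by rw [mu_sum hF ha, Finset.mul_sum], Finset.sum_comm,
    deg_sum ha hd, Finset.mul_sum,
    ← Finset.add_sum_erase _ (fun Z => ee P * (a Z * deg Z)) (Finset.mem_univ (triv G)),
    ← Finset.add_sum_erase _ (fun Z => ∑ κ ∈ Finset.univ.filter Nt, wt hU κ * (a Z * mu (Z : G → ℂ) κ))
      (Finset.mem_univ (triv G))]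
  have h1 : ∑ κ ∈ Finset.univ.filter Nt,
      wt hU κ * (a (triv G) * mu (triv G : G → ℂ) κ) = 0 :=
    Finset.sum_eq_zero fun κ hκ => by
      rw [mu_triv_of_nt (Finset.mem_filter.mp hκ).2, mul_zero, mul_zero]
  have h2 : deg (triv G) = 1 := by simp [deg, charDegree, triv]
  rw [h1, h2, zero_add, mul_one, add_comm]
  congr 1
  refine Finset.sum_congr rfl fun Z hZ => ?_
  rcases Nat.eq_zero_or_pos (a Z) with h0 | h0
  · simp [h0]
  calc ∑ κ ∈ Finset.univ.filter Nt, wt hU κ * (a Z * mu (Z : G → ℂ) κ)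
      = a Z * ∑ κ ∈ Finset.univ.filter Nt, wt hU κ * mu (Z : G → ℂ) κ := by
        rw [Finset.mul_sum]
        exact Finset.sum_congr rfl fun κ _ => by ring
    _ = ee P * (a Z * deg Z) := by
        rw [weighted_irr hfull hU (hgood Z (Finset.ne_of_mem_erase hZ) h0.ne')
          (Finset.ne_of_mem_erase hZ)]
        ring

/-- A constituent that is not good leaves no room for others. -/
theorem alone (hfull : Full P) (hU : Uni P) {F : G → ℂ} (hF : IsCharacter G F)
    {a : IrrCharacter G → ℕ} (ha : F = ∑ Z : IrrCharacter G, (a Z : ℂ) • (Z : G → ℂ))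
    {d : ℕ} (hd : F 1 = d) (hsmall : d + 1 < Nat.card P) {Z : IrrCharacter G}
    (hZ1 : Z ≠ triv G) (hZ : a Z ≠ 0) (hng : ¬ Good (P := P) Z) :
    deg Z + 1 < Nat.card P ∧ Nat.card P + mu (Z : G → ℂ) (triv (CC P)) ≤ deg Z + ee P + 1 ∧
      a Z = 1 ∧ ∀ Z', Z' ≠ triv G → Z' ≠ Z → a Z' = 0 := by
  classical
  have hD := deg_sum ha hd
  have hle : deg Z ≤ d := hD ▸ (Nat.le_mul_of_pos_left _ (Nat.pos_of_ne_zero hZ)).trans
    (Finset.single_le_sum (f := fun Z => a Z * deg Z) (fun _ _ => Nat.zero_le _) (Finset.mem_univ Z))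
  have hdZ : deg Z + 1 < Nat.card P := by omega
  obtain ⟨c, c', hc, hc', mc, mc', sc, nc⟩ := exists_struct hU hdZ hng
  have h1 := fam_le_of_struct hU hdZ hc hc' mc mc' sc nc
  have h2 := sum_mu_le (P := P) (irr_isChar Z) (charDeg_spec' Z)
    (insert (triv (CC P)) (fam hU c))
  rw [Finset.sum_insert fun h => not_nt_triv (mem_fam.mp h).2] at h2
  have hee : ee P ≤ deg Z := ee_le_deg hfull hU hZ1
  simp only [deg] at *
  refine ⟨hdZ, by omega, ?_, fun Z' hZ'1 hne => ?_⟩
  · by_contra h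
    have h3 : 2 * charDegree (Z : G → ℂ) ≤ d := hD ▸ (Nat.mul_le_mul_right _
      (show 2 ≤ a Z by omega)).trans (Finset.single_le_sum
        (f := fun Z => a Z * charDegree (Z : G → ℂ)) (fun _ _ => Nat.zero_le _) (Finset.mem_univ Z))
    omega
  · by_contra h
    have hee' := ee_le_deg hfull hU hZ'1
    have h3 : charDegree (Z : G → ℂ) + charDegree (Z' : G → ℂ) ≤ d := by
      rw [hD, ← Finset.add_sum_erase _ _ (Finset.mem_univ Z)]
      exact Nat.add_le_add (Nat.le_mul_of_pos_left _ (Nat.pos_of_ne_zero hZ))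
        ((Nat.le_mul_of_pos_left _ (Nat.pos_of_ne_zero h)).trans
          (Finset.single_le_sum (f := fun Z => a Z * charDegree (Z : G → ℂ))
            (fun _ _ => Nat.zero_le _) (Finset.mem_erase.mpr ⟨hne, Finset.mem_univ _⟩)))
    simp only [deg] at hee'
    omega

theorem inner_mul_conj {H : Type*} [Group H] [Fintype H] (f g : H → ℂ) :
    classInner (fun x => f x * conj (g x)) (fun _ => 1) = classInner f g := by
  simp [classInner]

theorem not_nt_translate {φ : IrrCharacter (CC P)} (h : ¬ Nt φ) (hU : Uni P) {u : CC P}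
    (hu : (u : G) ∈ (P : Subgroup G)) (c : CC P) : (φ : CC P → ℂ) (u * c) = (φ : CC P → ℂ) c := by
  obtain ⟨l, hl⟩ := exists_eig hU φ
  have h1 := hl ⟨u, hu⟩ 1
  rw [mul_one, not_not.mp fun e => h ⟨_, hu, e⟩] at h1
  have h2 : (l ⟨u, hu⟩ : ℂ) = 1 := (mul_eq_right₀ (irr_one_ne_zero φ)).mp h1.symm
  have h3 := hl ⟨u, hu⟩ c
  rwa [h2, one_mul] at h3

theorem dist_orth (hU : Uni P) {κ κ' φ : IrrCharacter (CC P)} (hd : Dist κ κ') (hφ : ¬ Nt φ) :
    classInner (fun c => (κ : CC P → ℂ) c * conj ((κ' : CC P → ℂ) c)) (φ : CC P → ℂ) = 0 := by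
  obtain ⟨u, hu, hne⟩ := hd
  obtain ⟨a, -, ha⟩ := IsIrr.scalar_of_center κ.2 (center_of_mem hU hu)
  obtain ⟨b, hb, hb'⟩ := IsIrr.scalar_of_center κ'.2 (center_of_mem hU hu)
  have hab : a * conj b ≠ 1 := fun e => hne (by
    have hbb : conj b * b = 1 := by
      rw [mul_comm, Complex.mul_conj, Complex.normSq_eq_norm_sq, hb]
      simp
    have e' : a = b := by
      calc a = a * (conj b * b) := by rw [hbb, mul_one]
        _ = b := by rw [← mul_assoc, e, one_mul]
    have h1 := ha 1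
    have h2 := hb' 1
    rw [mul_one] at h1 h2
    rw [h1, h2, e']
    ring)
  simp only [classInner]
  set S := ∑ g : CC P, (κ : CC P → ℂ) g * conj ((κ' : CC P → ℂ) g) * conj ((φ : CC P → ℂ) g)
  have hS : a * conj b * S = S := by
    rw [Finset.mul_sum]
    refine Fintype.sum_equiv (Equiv.mulLeft u) _ _ fun g => ?_
    rw [Equiv.coe_mulLeft, ha, hb', not_nt_translate hφ hU hu, map_mul]
    ring
  have : (a * conj b - 1) * S = 0 := by rw [sub_mul, one_mul, hS, sub_self]
  rw [(mul_eq_zero.mp this).resolve_left (sub_ne_zero.mpr hab), mul_zero]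

theorem inner_prod_zero (hU : Uni P) {F : G → ℂ} (hF : IsCharacter G F)
    {κ' φ : IrrCharacter (CC P)} (hφ : ¬ Nt φ)
    (h : ∀ κ : IrrCharacter (CC P), mu F κ ≠ 0 → Dist κ κ') :
    classInner (fun c : CC P => F c * conj ((κ' : CC P → ℂ) c)) (φ : CC P → ℂ) = 0 := by
  rw [show (fun c : CC P => F c * conj ((κ' : CC P → ℂ) c)) =
      ∑ κ : IrrCharacter (CC P), (mu F κ : ℂ) •
        (fun c => (κ : CC P → ℂ) c * conj ((κ' : CC P → ℂ) c)) from funext fun c => by
      rw [mu_expansion hF c, Finset.sum_mul, Finset.sum_apply]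
      exact Finset.sum_congr rfl fun κ _ => by rw [Pi.smul_apply, smul_eq_mul, mul_assoc],
    classInner_sum_left]
  refine Finset.sum_eq_zero fun κ _ => ?_
  by_cases h0 : mu F κ = 0
  · simp [h0, classInner]
  · rw [classInner_smul_left, dist_orth hU (h κ h0) hφ, mul_zero]

theorem sum_sibs_apply (hU : Uni P) (κ : IrrCharacter (CC P)) {c : CC P} (hc : proj hU c ≠ 1) :
    ∑ κ' ∈ sibs hU κ, (κ' : CC P → ℂ) c = 0 := by
  classical
  haveI : Finite ((P : Subgroup G) →* ℂˣ) :=
    Nat.finite_of_card_ne_zero (by rw [card_linear hU]; exact Nat.card_pos.ne')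
  haveI := Fintype.ofFinite ((P : Subgroup G) →* ℂˣ)
  have himg : sibs hU κ = Finset.univ.image (tw hU κ) := by
    ext κ'
    rw [mem_sibs, Finset.mem_image]
    exact ⟨fun h => by obtain ⟨l, rfl⟩ := exists_tw_of_sib h; exact ⟨l, Finset.mem_univ _, rfl⟩,
      fun ⟨l, _, e⟩ => e ▸ sib_tw hU κ l⟩
  rw [himg, Finset.sum_image fun a _ b _ h => tw_injective hU κ h]
  simp only [tw_apply, ← Finset.sum_mul]
  obtain ⟨l₀, hl₀⟩ : ∃ l₀ : (P : Subgroup G) →* ℂˣ, (l₀ (proj hU c) : ℂ) ≠ 1 := by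
    by_contra hno
    push Not at hno
    exact hc (eq_one_of_forall_linear (fun a b => Subtype.ext (comm hU a.2 b.2))
      fun l => Units.ext (hno l))
  set S := ∑ l : (P : Subgroup G) →* ℂˣ, (l (proj hU c) : ℂ)
  have hS : (l₀ (proj hU c) : ℂ) * S = S := by
    rw [Finset.mul_sum]
    exact Fintype.sum_equiv (Equiv.mulLeft l₀) _ _ fun l => by simp
  have : ((l₀ (proj hU c) : ℂ) - 1) * S = 0 := by rw [sub_mul, one_mul, hS, sub_self]
  rw [(mul_eq_zero.mp this).resolve_left (sub_ne_zero.mpr hl₀), zero_mul]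

theorem ee_eq_one (hfull : Full P) (hU : Uni P) {X : IrrCharacter G}
    (hx : 2 ≤ deg X) (hsq : deg X ^ 2 + 1 < Nat.card P) : ee P = 1 := by
  classical
  haveI := Fintype.ofFinite (NN P)
  set x := deg X with hxdef
  have hX1 : X ≠ triv G := fun e => by
    subst e
    have : deg (triv G) = 1 := by simp [deg, charDegree, triv]
    omega
  have hxs : x * x + 1 < Nat.card P := by rwa [← sq]
  have h2x : 2 * x ≤ x * x := Nat.mul_le_mul_right x hx
  have hdX : deg X + 1 < Nat.card P := by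
    show x + 1 < _
    omega
  have heX : ee P ≤ x := ee_le_deg hfull hU hX1
  have hgX : Good (P := P) X := by
    by_contra hng
    obtain ⟨c, c', hc, hc', mc, mc', sc, nc⟩ := exists_struct hU hdX hng
    have h1 := fam_le_of_struct hU hdX hc hc' mc mc' sc nc
    have h2 : _ ≤ x := sum_mu_le (P := P) (irr_isChar X) (charDeg_spec' X) (fam hU c)
    omega
  obtain ⟨c₀, hc₀, hpos⟩ := exists_nt hfull hU hX1
  have m₀ : mu (X : G → ℂ) c₀ = 1 := le_antisymm (mu_le_one hU hdX hc₀) hpos
  -- a sibling whose eigenvalues are away from the orbit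
  obtain ⟨m, hm, hmd⟩ : ∃ m ∈ sibs hU c₀,
      Nt m ∧ ∀ κ ∈ Orb c₀, Dist κ m := by
    by_contra hno
    push Not at hno
    have hsub : sibs hU c₀ ⊆ (sibs hU c₀).filter (fun m => ¬ Nt m) ∪
        (Orb c₀).biUnion (fun κ => (sibs hU c₀).filter (fun m => ¬ Dist κ m)) := fun m hm => by
      by_cases hn : Nt m
      · obtain ⟨κ, hκ, hd⟩ := hno m hm hn
        exact Finset.mem_union_right _ (Finset.mem_biUnion.mpr
          ⟨κ, hκ, Finset.mem_filter.mpr ⟨hm, hd⟩⟩)
      · exact Finset.mem_union_left _ (Finset.mem_filter.mpr ⟨hm, hn⟩)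
    have h1 : ((sibs hU c₀).filter (fun m => ¬ Nt m)).card ≤ 1 :=
      Finset.card_le_one.mpr fun a ha b hb => by
        obtain ⟨ha, hna⟩ := Finset.mem_filter.mp ha
        obtain ⟨hb, hnb⟩ := Finset.mem_filter.mp hb
        exact eq_of_sib_not_dist ((mem_sibs.mp ha).symm.trans (mem_sibs.mp hb))
          (not_dist_of_not_nt hna hnb)
    have h2 : ((Orb c₀).biUnion (fun κ => (sibs hU c₀).filter (fun m => ¬ Dist κ m))).card ≤
        (Orb c₀).card * 1 :=
      Finset.card_biUnion_le_card_mul _ _ _ fun κ _ => Finset.card_le_one.mpr fun a ha b hb => by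
        obtain ⟨ha, hna⟩ := Finset.mem_filter.mp ha
        obtain ⟨hb, hnb⟩ := Finset.mem_filter.mp hb
        exact eq_of_sib_not_dist ((mem_sibs.mp ha).symm.trans (mem_sibs.mp hb))
          (not_dist_trans hna hnb)
    have := (Finset.card_le_card hsub).trans (Finset.card_union_le _ _)
    rw [card_sibs] at this
    rw [card_Orb hU hc₀] at h2
    omega
  obtain ⟨hmn, hmdist⟩ := hmd
  have hnrel : ¬ Rel c₀ m := fun h => by
    obtain ⟨u, -, hne⟩ := hmdist m (mem_Orb.mpr h)
    exact hne rfl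
  have hm0 : mu (X : G → ℂ) m = 0 := by
    have := mu_le_one hU hdX hmn
    by_contra h
    exact hnrel (hgX c₀ m hc₀ hmn m₀ (by omega))
  obtain ⟨X', hX'X, hX'1, hind, -, -⟩ :=
    pair_top hU hc₀ hmn (mem_sibs.mp hm) hnrel m₀ hm0
  -- the two products
  set Ψ : G → ℂ := fun g => (X : G → ℂ) g * conj ((X : G → ℂ) g) with hΨdef
  set Ψ' : G → ℂ := fun g => (X : G → ℂ) g * conj ((X' : G → ℂ) g) with hΨ'def
  have hΨ : IsCharacter G Ψ := IsChar.mul (irr_isChar X) (IsChar.conj (irr_isChar X))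
  have hΨ' : IsCharacter G Ψ' := IsChar.mul (irr_isChar X) (IsChar.conj (irr_isChar X'))
  have d1 : Ψ 1 = ((x * x : ℕ) : ℂ) := by
    simp only [hΨdef, charDeg_spec' X, map_natCast, Nat.cast_mul]
    rfl
  have d2 : Ψ' 1 = ((x * x : ℕ) : ℂ) := by
    simp only [hΨ'def, ← hX'1, charDeg_spec' X, map_natCast, Nat.cast_mul]
    rfl
  obtain ⟨a, hai, ha⟩ := IsChar.exists_decomp_inner hΨ
  obtain ⟨a', hai', ha'⟩ := IsChar.exists_decomp_inner hΨ'
  have a1 : a (triv G) = 1 := by
    have := hai (triv G)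
    rw [show (triv G : G → ℂ) = fun _ => 1 from rfl, hΨdef, inner_mul_conj,
      classInner_self_irr X.2] at this
    exact_mod_cast this.symm
  have a1' : a' (triv G) = 0 := by
    have := hai' (triv G)
    rw [show (triv G : G → ℂ) = fun _ => 1 from rfl, hΨ'def, inner_mul_conj,
      classInner_irr_ne X.2 X'.2 fun e => hX'X (Subtype.ext e).symm] at this
    exact_mod_cast this.symm
  have hmuΨ : ee P ≤ mu Ψ (triv (CC P)) := by
    have h := mu_spec (P := P) hΨ (triv (CC P))
    rw [show (triv (CC P) : CC P → ℂ) = fun _ => 1 from rfl,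
      show (fun c : CC P => Ψ c) = fun c : CC P => (X : G → ℂ) c * conj ((X : G → ℂ) c) from rfl,
      inner_mul_conj, show (fun c : CC P => (X : G → ℂ) c) =
        ∑ κ : IrrCharacter (CC P), (mu (X : G → ℂ) κ : ℂ) • (κ : CC P → ℂ) from
          funext fun c => by rw [sum_irr_apply]; exact mu_expansion (irr_isChar X) c,
      classInner_sum_sum] at h
    have h2 : mu Ψ (triv (CC P)) = ∑ κ : IrrCharacter (CC P), mu (X : G → ℂ) κ * mu (X : G → ℂ) κ := by
      have : ((∑ κ : IrrCharacter (CC P), mu (X : G → ℂ) κ * mu (X : G → ℂ) κ : ℕ) : ℂ) =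
          (mu Ψ (triv (CC P)) : ℂ) := by
        rw [← h, Nat.cast_sum]
        exact Finset.sum_congr rfl fun κ _ => by rw [Nat.cast_mul, map_natCast]
      exact_mod_cast this.symm
    rw [h2, ← card_Orb hU hc₀, Finset.card_eq_sum_ones]
    exact (Finset.sum_le_sum fun κ hκ => by
      rw [mu_rel (irr_isChar X) (mem_Orb.mp hκ), m₀]).trans
      (Finset.sum_le_sum_of_subset (Finset.subset_univ _))
  have gΨ : ∀ Z, Z ≠ triv G → a Z ≠ 0 → GS P Z := by
    intro Z hZ1 hZ
    have hle : 1 + deg Z ≤ x * x := by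
      rw [deg_sum ha d1, ← Finset.add_sum_erase _ _ (Finset.mem_univ (triv G)), a1, one_mul,
        show deg (triv G) = 1 by simp [deg, charDegree, triv]]
      exact Nat.add_le_add_left ((Nat.le_mul_of_pos_left _ (Nat.pos_of_ne_zero hZ)).trans
        (Finset.single_le_sum (f := fun Z => a Z * deg Z) (fun _ _ => Nat.zero_le _)
          (Finset.mem_erase.mpr ⟨hZ1, Finset.mem_univ _⟩))) 1
    refine ⟨?_, by omega⟩
    by_contra hng
    obtain ⟨-, hbig, haZ, hno⟩ := alone hfull hU hΨ ha d1 hxs hZ1 hZ hng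
    have h3 : mu Ψ (triv (CC P)) = 1 + mu (Z : G → ℂ) (triv (CC P)) := by
      rw [mu_sum hΨ ha, ← Finset.sum_subset (Finset.subset_univ {triv G, Z}) fun Z' _ h => ?_,
        Finset.sum_pair hZ1.symm, a1, haZ, one_mul, one_mul]
      · congr 1
        have h4 := mu_spec (P := P) (irr_isChar (triv G)) (triv (CC P))
        rw [show (fun c : CC P => (triv G : G → ℂ) c) = (triv (CC P) : CC P → ℂ) from rfl,
          classInner_self_irr (triv (CC P)).2] at h4
        exact_mod_cast h4.symm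
      · simp only [Finset.mem_insert, Finset.mem_singleton, not_or] at h
        rw [hno Z' h.1 h.2, zero_mul]
    omega
  -- the difference
  let dl : IrrCharacter (CC P) → ℤ := fun κ => (mu Ψ' κ : ℤ) - mu Ψ κ
  have hdl : ∀ κ, ((dl κ : ℤ) : ℂ) =
      classInner (fun c : CC P => Ψ' c - Ψ c) (κ : CC P → ℂ) := fun κ => by
    rw [show (fun c : CC P => Ψ' c - Ψ c) = (fun c : CC P => Ψ' c) - (fun c : CC P => Ψ c) from rfl,
      classInner_sub_left, mu_spec hΨ', mu_spec hΨ]
    simp [dl]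
  set β := (c₀ : CC P → ℂ) - (m : CC P → ℂ) with hβdef
  have hβ : ∀ d, proj hU d = 1 → β d = 0 := sub_vanish (mem_sibs.mp hm)
  have hF : ∀ c : CC P, Ψ c - Ψ' c = (X : G → ℂ) c *
      conj ((Nat.card (CC P) : ℂ)⁻¹ * ∑ y : NN P, β (cjg y c)) := fun c => by
    rw [← res_indFun_of_vanish hU hβ, hind, Pi.sub_apply, map_sub, mul_sub]
  have hsum0 : ∀ κ, ∑ κ' ∈ sibs hU κ, dl κ' = 0 := by
    intro κ
    have h : ((∑ κ' ∈ sibs hU κ, dl κ' : ℤ) : ℂ) = 0 := by
      rw [Int.cast_sum, Finset.sum_congr rfl fun κ' _ => hdl κ', ← classInner_sum_right,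
        classInner]
      refine mul_eq_zero_of_right _ (Finset.sum_eq_zero fun c _ => ?_)
      by_cases hc : proj hU c = 1
      · have : ∀ y : NN P, β (cjg y c) = 0 := fun y => hβ _ (proj_cjg hU y hc)
        have h0 := hF c
        rw [Finset.sum_eq_zero fun y _ => this y, mul_zero, map_zero, mul_zero, sub_eq_zero] at h0
        simp [h0]
      · rw [Finset.sum_apply, sum_sibs_apply hU κ hc, map_zero, mul_zero]
    exact_mod_cast h
  have hall : ∑ κ : IrrCharacter (CC P), (wt hU κ : ℤ) * dl κ = 0 := by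
    have h1 : ∑ κ : IrrCharacter (CC P), ∑ κ' ∈ sibs hU κ, (wt hU κ : ℤ) * dl κ' = 0 :=
      Finset.sum_eq_zero fun κ _ => by rw [← Finset.mul_sum, hsum0, mul_zero]
    rw [Finset.sum_comm' (t' := Finset.univ) (s' := fun κ' => sibs hU κ')
      (fun κ κ' => by simp only [Finset.mem_univ, true_and, and_true, mem_sibs]
                      exact ⟨Sib.symm, Sib.symm⟩)] at h1
    have h2 : ∀ κ' : IrrCharacter (CC P), ∑ κ ∈ sibs hU κ', (wt hU κ : ℤ) * dl κ' =
        (Nat.card P : ℤ) * ((wt hU κ' : ℤ) * dl κ') := fun κ' => by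
      rw [← card_sibs hU κ', ← nsmul_eq_mul, ← Finset.sum_const]
      exact Finset.sum_congr rfl fun κ hκ => by rw [wt_sib hU (mem_sibs.mp hκ)]
    rw [Finset.sum_congr rfl fun κ' _ => h2 κ', ← Finset.mul_sum] at h1
    exact (mul_eq_zero.mp h1).resolve_left (by exact_mod_cast Nat.card_pos.ne')
  have hD : ∀ φ, ¬ Nt φ → ∃ n : ℕ, (n : ℤ) = -(dl φ) * Nat.card (CC P) ∧
      (φ = triv (CC P) → n = Nat.card (NN P)) := by
    intro φ hφ
    let T : NN P → (CC P → ℂ) := fun y => fun c =>
      (X : G → ℂ) c * conj ((cj y c₀ : CC P → ℂ) c)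
    choose nn hnn using fun y : NN P => IsChar.classInner_nat
      (IsChar.mul (IsChar.res (irr_isChar X) (CC P)) (IsChar.conj (irr_isChar (cj y c₀))))
      (irr_isChar φ)
    refine ⟨∑ y : NN P, nn y, ?_, fun hφ1 => ?_⟩
    · have h2 : ∀ y : NN P, classInner
          (fun c : CC P => (X : G → ℂ) c * conj ((cj y m : CC P → ℂ) c)) (φ : CC P → ℂ) = 0 :=
        fun y => inner_prod_zero hU (irr_isChar X) hφ fun κ hκ => by
          by_cases hk : Nt κ
          · have hk1 : mu (X : G → ℂ) κ = 1 := by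
              have := mu_le_one hU hdX hk
              omega
            have hrel : Rel c₀ (cj y⁻¹ κ) := (hgX c₀ κ hc₀ hk m₀ hk1).trans ⟨y⁻¹, rfl⟩
            have := dist_cj (hmdist _ (mem_Orb.mpr hrel)) y
            rwa [← cj_mul, inv_mul_cancel, cj_one] at this
          · exact dist_of_nt hk (hmn.cj y)
      have h : ((-(dl φ) : ℤ) : ℂ) * (Nat.card (CC P) : ℂ) =
          ((∑ y : NN P, nn y : ℕ) : ℂ) := by
        rw [Int.cast_neg, hdl, ← classInner_neg_left,
          show (-(fun c : CC P => Ψ' c - Ψ c)) = (Nat.card (CC P) : ℂ)⁻¹ •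
            ∑ y : NN P, ((fun c : CC P => (X : G → ℂ) c * conj ((cj y c₀ : CC P → ℂ) c)) -
              (fun c : CC P => (X : G → ℂ) c * conj ((cj y m : CC P → ℂ) c))) from
            funext fun c => by
              rw [Pi.neg_apply, neg_sub, hF c, Pi.smul_apply, Finset.sum_apply, smul_eq_mul,
                map_mul, map_inv₀, map_natCast, map_sum, ← mul_assoc, mul_comm ((X : G → ℂ) c),
                mul_assoc, Finset.mul_sum]
              refine congrArg _ (Finset.sum_congr rfl fun y _ => ?_)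
              rw [Pi.sub_apply, hβdef, Pi.sub_apply, map_sub, mul_sub, cj_apply, cj_apply],
          classInner_smul_left, mul_right_comm, inv_mul_cancel₀
            (Nat.cast_ne_zero.mpr Nat.card_pos.ne'), one_mul, classInner_sum_left, Nat.cast_sum]
        refine Finset.sum_congr rfl fun y _ => ?_
        rw [classInner_sub_left, h2, sub_zero]
        exact hnn y
      exact_mod_cast h.symm
    · subst hφ1
      have h1 : ∀ y : NN P, nn y = 1 := fun y => by
        have h := hnn y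
        change classInner (fun c : CC P => (X : G → ℂ) c * conj ((cj y c₀ : CC P → ℂ) c))
          (fun _ => 1) = _ at h
        rw [inner_mul_conj, mu_spec (irr_isChar X), mu_cj (irr_isChar X), m₀] at h
        exact_mod_cast h.symm
      rw [Finset.sum_congr rfl fun y _ => h1 y, Finset.sum_const, smul_eq_mul, mul_one,
        Finset.card_univ, Nat.card_eq_fintype_card]
  have hdl1 : dl (triv (CC P)) = -(ee P : ℤ) := by
    obtain ⟨n, hn, hn1⟩ := hD _ not_nt_triv
    rw [hn1 rfl, ← ee_mul, Nat.cast_mul] at hn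
    have := mul_right_cancel₀ (by exact_mod_cast Nat.card_pos.ne') hn
    omega
  have hfam : ∑ κ ∈ fam hU (triv (CC P)), dl κ = (ee P : ℤ) := by
    have h := hsum0 (triv (CC P))
    rw [← Finset.sum_filter_add_sum_filter_not (sibs hU (triv (CC P))) Nt] at h
    have he : (sibs hU (triv (CC P))).filter (fun κ => ¬ Nt κ) = {triv (CC P)} := by
      ext κ
      rw [Finset.mem_filter, Finset.mem_singleton, mem_sibs]
      refine ⟨fun hκ => (eq_of_sib_not_dist hκ.1 (not_dist_of_not_nt not_nt_triv hκ.2)).symm, ?_⟩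
      rintro rfl
      exact ⟨Sib.refl _, not_nt_triv⟩
    rw [he, Finset.sum_singleton, hdl1] at h
    have he2 : fam hU (triv (CC P)) = (sibs hU (triv (CC P))).filter Nt := by
      ext κ
      rw [mem_fam, Finset.mem_filter, mem_sibs]
    rw [he2]
    linarith
  obtain ⟨κ₁, hκ₁, hpos1⟩ : ∃ κ ∈ fam hU (triv (CC P)), 0 < mu Ψ' κ := by
    by_contra hno
    push Not at hno
    have : ∑ κ ∈ fam hU (triv (CC P)), dl κ ≤ 0 := Finset.sum_nonpos fun κ hκ => by
      have := hno κ hκ
      simp only [dl]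
      omega
    have := ee_pos (P := P)
    omega
  obtain ⟨hs₁, hn₁⟩ := mem_fam.mp hκ₁
  obtain ⟨Z, hZ⟩ : ∃ Z, a' Z * mu (Z : G → ℂ) κ₁ ≠ 0 := by
    by_contra hno
    push Not at hno
    rw [mu_sum hΨ' ha', Finset.sum_eq_zero fun Z _ => hno Z] at hpos1
    exact lt_irrefl _ hpos1
  obtain ⟨haZ0, hmZ⟩ := mul_ne_zero_iff.mp hZ
  have hZ1 : Z ≠ triv G := fun e => haZ0 (e ▸ a1')
  have gΨ' : ∀ Z, Z ≠ triv G → a' Z ≠ 0 → GS P Z := by
    intro W hW1 hW
    have hle : deg W ≤ x * x := deg_sum ha' d2 ▸ (Nat.le_mul_of_pos_left _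
      (Nat.pos_of_ne_zero hW)).trans (Finset.single_le_sum (f := fun Z => a' Z * deg Z)
        (fun _ _ => Nat.zero_le _) (Finset.mem_univ W))
    refine ⟨?_, by omega⟩
    by_contra hng
    obtain ⟨hdW, -, haW, hno⟩ := alone hfull hU hΨ' ha' d2 hxs hW1 hW hng
    have hZW : Z = W := by
      by_contra hne
      exact haZ0 (hno Z hZ1 hne)
    subst hZW
    have hmu' : ∀ κ : IrrCharacter (CC P), mu Ψ' κ = mu (Z : G → ℂ) κ := fun κ => by
      rw [mu_sum hΨ' ha', Finset.sum_eq_single Z (fun W _ hWZ => ?_) (by simp), haW, one_mul]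
      by_cases hW' : W = triv G
      · rw [hW', a1', zero_mul]
      · rw [hno W hW' hWZ, zero_mul]
    obtain ⟨c, c', hc, hc', mc, mc', sc, nc⟩ := exists_struct hU hdW hng
    have hm1 : mu (Z : G → ℂ) κ₁ = 1 := by
      have := mu_le_one hU hdW hn₁
      omega
    obtain ⟨y, hy⟩ := fam_conj hU hdW hc hn₁ mc hm1
    have hct : cj y (triv (CC P)) = triv (CC P) := Subtype.ext rfl
    have hsc : Sib hU c (triv (CC P)) := hy.trans (hct ▸ (hs₁.cj y).symm)
    have hfam_eq : fam hU c = fam hU (triv (CC P)) := by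
      ext κ
      rw [mem_fam, mem_fam]
      exact ⟨fun h => ⟨hsc.symm.trans h.1, h.2⟩, fun h => ⟨hsc.trans h.1, h.2⟩⟩
    have h1 := fam_le_of_struct hU hdW hc hc' mc mc' sc nc
    have h0 : ∀ κ ∈ fam hU (triv (CC P)), mu Ψ κ = 0 := by
      intro κ hκ
      obtain ⟨hsκ, hnκ⟩ := mem_fam.mp hκ
      by_contra hne
      obtain ⟨W, hW⟩ : ∃ W, a W * mu (W : G → ℂ) κ ≠ 0 := by
        by_contra hno
        push Not at hno
        exact hne (by rw [mu_sum hΨ ha, Finset.sum_eq_zero fun W _ => hno W])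
      obtain ⟨haW0, hmW⟩ := mul_ne_zero_iff.mp hW
      have hW1' : W ≠ triv G := fun e => hmW (e ▸ mu_triv_of_nt hnκ)
      have hg := gΨ W hW1' haW0
      have := mu_le_one hU hg.2 hnκ
      exact exclusive hU hg.2 hdW hg.1 hc hc' hnκ mc mc' sc nc (hsc.trans hsκ) (by omega)
    have h2 : ((∑ κ ∈ fam hU (triv (CC P)), mu (Z : G → ℂ) κ : ℕ) : ℤ) = ee P := by
      rw [← hfam, Nat.cast_sum]
      refine Finset.sum_congr rfl fun κ hκ => ?_
      simp only [dl, h0 κ hκ, hmu']
      simp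
    rw [hfam_eq] at h1
    omega
  -- the count
  have w1 := weighted hfull hU hΨ ha d1 gΨ
  have w2 := weighted hfull hU hΨ' ha' d2 gΨ'
  rw [a1, mul_one] at w1
  rw [a1', mul_zero, add_zero] at w2
  have hdiff : ∑ κ ∈ Finset.univ.filter Nt, (wt hU κ : ℤ) * dl κ = ee P := by
    simp only [dl, mul_sub, Finset.sum_sub_distrib]
    have e1 := congrArg (Nat.cast : ℕ → ℤ) w1
    have e2 := congrArg (Nat.cast : ℕ → ℤ) w2
    push_cast at e1 e2
    linarith
  rw [← Finset.sum_filter_add_sum_filter_not Finset.univ Nt, hdiff] at hall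
  have hle : ∀ φ ∈ Finset.univ.filter (fun κ : IrrCharacter (CC P) => ¬ Nt κ),
      (wt hU φ : ℤ) * dl φ ≤ 0 := fun φ hφ => by
    obtain ⟨n, hn, -⟩ := hD φ (Finset.mem_filter.mp hφ).2
    have hc : (0 : ℤ) < Nat.card (CC P) := by exact_mod_cast Nat.card_pos
    exact mul_nonpos_of_nonneg_of_nonpos (Int.natCast_nonneg _) (by nlinarith)
  have hone := Finset.sum_erase_add (Finset.univ.filter (fun κ : IrrCharacter (CC P) => ¬ Nt κ))
    (fun φ => (wt hU φ : ℤ) * dl φ) (a := triv (CC P)) (by simp [not_nt_triv])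
  have hrest : ∑ φ ∈ (Finset.univ.filter (fun κ : IrrCharacter (CC P) => ¬ Nt κ)).erase
      (triv (CC P)), (wt hU φ : ℤ) * dl φ ≤ 0 :=
    Finset.sum_nonpos fun φ hφ => hle φ (Finset.mem_of_mem_erase hφ)
  have hgs := gΨ' Z hZ1 haZ0
  have hw : wt hU (triv (CC P)) = deg Z := by
    refine wt_eq hU hgs hn₁ hs₁ ?_
    have := mu_le_one hU hgs.2 hn₁
    omega
  have hew : ee P ≤ deg Z := ee_le_deg hfull hU hZ1
  rw [hdl1, hw] at hone
  have he0 := ee_pos (P := P)
  have hfin : (ee P : ℤ) * ee P ≤ ee P := by nlinarith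
  have hfin' : ee P * ee P ≤ ee P := by exact_mod_cast hfin
  nlinarith

theorem linear_of_small (hfull : Full P) (hU : Uni P) {X : IrrCharacter G}
    (hX : X ≠ triv G) (hsq : deg X ^ 2 + 1 < Nat.card P) :
    deg X = 1 ∧ ∃ N : Subgroup G, N.Normal ∧ N.index = Nat.card P := by
  classical
  have hnc : ee P = 1 → NN P ≤ CC P := fun h x hx => by
    have h1 : ((CC P).subgroupOf (NN P)) = ⊤ := Subgroup.index_eq_one.mp h
    exact Subgroup.mem_subgroupOf.mp (h1 ▸ Subgroup.mem_top (⟨x, hx⟩ : NN P))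
  have hcompl : NN P ≤ CC P → ∃ N : Subgroup G, N.Normal ∧ N.index = Nat.card P := fun h =>
    ⟨_, MonoidHom.normal_ker (MonoidHom.transferSylow P h),
      (MonoidHom.ker_transferSylow_isComplement' P h).symm.index_eq_card⟩
  by_cases hx : 2 ≤ deg X
  · exfalso
    have he := ee_eq_one hfull hU hx hsq
    have hle := hnc he
    have hxs : deg X * deg X + 1 < Nat.card P := by rwa [← sq]
    have h2x : 2 * deg X ≤ deg X * deg X := Nat.mul_le_mul_right _ hx
    have hdX : deg X + 1 < Nat.card P := by omega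
    obtain ⟨c₀, hc₀, hpos⟩ := exists_nt hfull hU hX
    have hgood : ∀ Y : IrrCharacter G, deg Y = deg X → ∀ κ κ' : IrrCharacter (CC P), Nt κ → Nt κ' →
        0 < mu (Y : G → ℂ) κ → 0 < mu (Y : G → ℂ) κ' → κ = κ' := by
      intro Y hY κ κ' hκ hκ' h1 h2
      have hdY : deg Y + 1 < Nat.card P := by omega
      have m1 := mu_le_one hU hdY hκ
      have m2 := mu_le_one hU hdY hκ'
      obtain ⟨y, hy⟩ : Rel κ κ' := by
        by_contra hn
        have hng : ¬ Good (P := P) Y := fun hg => hn (hg κ κ' hκ hκ' (by omega) (by omega))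
        obtain ⟨c, c', hc, hc', mc, mc', sc, nc⟩ := exists_struct hU hdY hng
        have h3 := fam_le_of_struct hU hdY hc hc' mc mc' sc nc
        have h4 := sum_mu_le (P := P) (irr_isChar Y) (charDeg_spec' Y) (fam hU c)
        change _ ≤ deg Y at h4
        omega
      exact (cj_of_mem_cc (hle y.2) κ).symm.trans hy
    -- linear characters of the group with given restriction
    set τ := MonoidHom.transferSylow P hle with hτ
    obtain ⟨k, hk⟩ := (IsPGroup.iff_card.mp P.isPGroup')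
    have hp : p.Prime := Fact.out
    have hlift : ∀ l : (P : Subgroup G) →* ℂˣ, ∃ L : G →* ℂˣ,
        ∀ c : CC P, L c = l (proj hU c) := by
      intro l
      set i := (P : Subgroup G).index
      have hco : i.Coprime (p ^ k) :=
        Nat.Coprime.pow_right _ (Nat.Coprime.symm (hp.coprime_iff_not_dvd.mpr P.not_dvd_index))
      have hpk : 1 < p ^ k := by omega
      obtain ⟨r, -, hr⟩ := Nat.exists_mul_mod_eq_one_of_coprime hco hpk
      refine ⟨((powMonoidHom r).comp l).comp τ, fun c => ?_⟩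
      set u := proj hU c with hu
      set v : CC P := ⟨u, le_cc hU u.2⟩ with hv
      have hc : c = v * (v⁻¹ * c) := (mul_inv_cancel_left v c).symm
      have hk1 : proj hU (v⁻¹ * c) = 1 := by rw [map_mul, map_inv, hv, proj_id, inv_mul_cancel]
      obtain ⟨m, hm, hpow⟩ := proj_pow hU
      have h1 : τ ((v⁻¹ * c : CC P) : G) = 1 := by
        refine Subtype.ext (eq_one_of_pow_eq_one (τ _).2 hm ?_)
        rw [← Subgroup.coe_pow, ← map_pow, hpow, hk1]
        simp
      have h2 : τ (c : G) = u ^ i := by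
        conv_lhs => rw [hc, Subgroup.coe_mul, map_mul, h1, mul_one]
        exact Subtype.ext (by
          rw [hτ, MonoidHom.transferSylow_eq_pow P hle (v : G) u.2]
          rfl)
      simp only [MonoidHom.comp_apply, powMonoidHom_apply, h2, map_pow, ← pow_mul]
      rw [← map_pow]
      congr 1
      conv_rhs => rw [← pow_one u]
      refine pow_eq_pow_iff_modEq.mpr (Nat.ModEq.of_dvd (hk ▸ orderOf_dvd_natCard u) ?_)
      rw [Nat.ModEq, mul_comm, hr, Nat.one_mod_eq_one.mpr (by omega)]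
    have honly : ∀ κ : IrrCharacter (CC P), 0 < mu (X : G → ℂ) κ → κ = c₀ := by
      intro κ hκ
      by_cases hn : Nt κ
      · exact hgood X rfl κ c₀ hn hc₀ hκ hpos
      exfalso
      haveI : Finite ((P : Subgroup G) →* ℂˣ) :=
        Nat.finite_of_card_ne_zero (by rw [card_linear hU]; exact Nat.card_pos.ne')
      haveI := Fintype.ofFinite ((P : Subgroup G) →* ℂˣ)
      obtain ⟨l, hl1, hl2⟩ : ∃ l, Nt (tw hU c₀ l) ∧ Nt (tw hU κ l) := by
        by_contra hno
        push Not at hno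
        have hone : ∀ κ : IrrCharacter (CC P),
            (Finset.univ.filter fun l => ¬ Nt (tw hU κ l)).card ≤ 1 := fun κ =>
          Finset.card_le_one.mpr fun a ha b hb => tw_injective hU κ (eq_of_sib_not_dist
            ((sib_tw hU κ a).symm.trans (sib_tw hU κ b))
            (not_dist_of_not_nt (Finset.mem_filter.mp ha).2 (Finset.mem_filter.mp hb).2))
        have := (Finset.card_le_card (show Finset.univ ⊆
            (Finset.univ.filter fun l => ¬ Nt (tw hU c₀ l)) ∪
              (Finset.univ.filter fun l => ¬ Nt (tw hU κ l)) from fun l _ => by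
              by_cases h : Nt (tw hU c₀ l)
              · exact Finset.mem_union_right _
                  (Finset.mem_filter.mpr ⟨Finset.mem_univ _, hno l h⟩)
              · exact Finset.mem_union_left _
                  (Finset.mem_filter.mpr ⟨Finset.mem_univ _, h⟩))).trans (Finset.card_union_le _ _)
        rw [Finset.card_univ, ← Nat.card_eq_fintype_card, card_linear hU] at this
        have := hone c₀
        have := hone κ
        omega
      obtain ⟨L, hL⟩ := hlift l
      let Y : IrrCharacter G := ⟨_, IsIrr.mul_linear X.2 L⟩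
      have hdY : deg Y = deg X := by
        simp [deg, charDegree, Y]
      have hmu : ∀ κ', mu (Y : G → ℂ) (tw hU κ' l) = mu (X : G → ℂ) κ' := fun κ' => by
        have h : classInner (fun c : CC P => (Y : G → ℂ) c) (tw hU κ' l : CC P → ℂ) =
            classInner (fun c : CC P => (X : G → ℂ) c) (κ' : CC P → ℂ) := by
          simp only [classInner]
          congr 1
          refine Finset.sum_congr rfl fun c _ => ?_
          rw [tw_apply, map_mul]
          show (L (c : G) : ℂ) * _ * _ = _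
          rw [hL c]
          have hu : (l (proj hU c) : ℂ) * conj (l (proj hU c) : ℂ) = 1 := by
            rw [Complex.mul_conj, Complex.normSq_eq_norm_sq, norm_eq_one_of_pow_eq_one'
              (c := (l (proj hU c) : ℂ)) (Nat.card_pos (α := (P : Subgroup G)))
              (by rw [← Units.val_pow_eq_pow_val, ← map_pow, pow_card_eq_one', map_one,
                Units.val_one])]
            simp
          rw [mul_mul_mul_comm, hu, one_mul]
        rw [mu_spec (irr_isChar Y), mu_spec (irr_isChar X)] at h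
        exact_mod_cast h
      have := tw_injective' (hU := hU) (hgood Y hdY _ _ hl1 hl2 ((hmu c₀).symm ▸ hpos)
        ((hmu κ).symm ▸ hκ))
      exact hn (this ▸ hc₀)
    let S : Subgroup G :=
      { carrier := {g | ‖(X : G → ℂ) g‖ = ‖(X : G → ℂ) 1‖}
        one_mem' := rfl
        mul_mem' := by
          intro g g' hg hg'
          obtain ⟨n, ρ, hρ, e⟩ := X.2
          simp only [Set.mem_setOf_eq, ← e, Representation.char_one, Complex.norm_natCast] at hg hg' ⊢
          obtain ⟨a, ha⟩ := (norm_character_eq_iff ρ g).mp hg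
          obtain ⟨b, hb⟩ := (norm_character_eq_iff ρ g').mp hg'
          refine (norm_character_eq_iff ρ _).mpr ⟨a * b, ?_⟩
          rw [map_mul, ha, hb]
          ext x
          simp [mul_left_comm, mul_assoc]
        inv_mem' := by
          intro g hg
          simpa [Set.mem_setOf_eq, IsIrr.apply_inv X.2] using hg }
    have hSn : S.Normal := ⟨fun g hg y => by
      show ‖(X : G → ℂ) _‖ = _
      rw [IsIrr.classFun X.2]
      exact hg⟩
    have hSP : (P : Subgroup G) ≤ S := fun u hu => by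
      show ‖(X : G → ℂ) _‖ = _
      have hexp : ∀ c : CC P, (X : G → ℂ) c = (mu (X : G → ℂ) c₀ : ℂ) * (c₀ : CC P → ℂ) c :=
        fun c => by
          rw [mu_expansion (irr_isChar X) c]
          refine Finset.sum_eq_single c₀ (fun κ _ hne => ?_) (by simp)
          have : mu (X : G → ℂ) κ = 0 := by
            by_contra h
            exact hne (honly κ (Nat.pos_of_ne_zero h))
          simp [this]
      obtain ⟨a, ha, ha'⟩ := IsIrr.scalar_of_center c₀.2 (center_of_mem hU (u := ⟨u, le_cc hU hu⟩) hu)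
      have h1 := hexp ⟨u, le_cc hU hu⟩
      have h2 := hexp 1
      have h3 := ha' 1
      rw [mul_one] at h3
      rw [h3] at h1
      change (X : G → ℂ) u = _ at h1
      rw [Subgroup.coe_one] at h2
      rw [h1, h2, norm_mul, norm_mul, norm_mul, ha, one_mul]
    have hS := hfull S hSn hSP
    have hn := classInner_self_irr X.2
    rw [classInner, Finset.sum_congr rfl fun g _ =>
      show (X : G → ℂ) g * conj ((X : G → ℂ) g) = ((deg X : ℂ)) ^ 2 by
        rw [Complex.mul_conj, Complex.normSq_eq_norm_sq,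
          show ‖(X : G → ℂ) g‖ = ‖(X : G → ℂ) 1‖ from (hS ▸ Subgroup.mem_top g : g ∈ S),
          charDeg_spec' X, Complex.norm_natCast]
        push_cast
        rfl, Finset.sum_const, Finset.card_univ, nsmul_eq_mul, ← Nat.card_eq_fintype_card,
      inv_mul_cancel_left₀ (Nat.cast_ne_zero.mpr Nat.card_pos.ne')] at hn
    have : deg X ^ 2 = 1 := by exact_mod_cast hn
    have := sq (deg X)
    omega
  · have hx1 : deg X = 1 := by
      have := charDeg_pos X
      change 0 < deg X at this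
      omega
    refine ⟨hx1, hcompl fun y hy => ?_⟩
    obtain ⟨L, hL⟩ := linearHom_of_isCharacter (irr_isChar X)
      (by rw [charDeg_spec' X]; exact_mod_cast hx1)
    refine mem_cc_of_eig_fixed hU (l := L.comp (P : Subgroup G).subtype) ?_ (x := ⟨y, hy⟩)
      fun u v huv => ?_
    · intro hl
      have hle : (P : Subgroup G) ≤ L.ker := fun u hu =>
        MonoidHom.mem_ker.mpr (DFunLike.congr_fun hl ⟨u, hu⟩)
      have := hfull _ (MonoidHom.normal_ker L) hle
      refine hX (Subtype.ext (hL.trans (funext fun g => ?_)))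
      rw [MonoidHom.mem_ker.mp (this ▸ Subgroup.mem_top g), Units.val_one]
      rfl
    · simp only [MonoidHom.comp_apply, Subgroup.coe_subtype, huv, map_mul, map_inv]
      rw [mul_comm, inv_mul_cancel_left]
where
  tw_injective' {hU : Uni P} {a b : IrrCharacter (CC P)} {l : (P : Subgroup G) →* ℂˣ}
      (h : tw hU a l = tw hU b l) : b = a := Subtype.ext (funext fun c =>
    (mul_left_cancel₀ (Units.ne_zero _) (congrFun (congrArg Subtype.val h) c)).symm)

end Cfsg.Agent.Char.Unif
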