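import Cfsg.Agent.Lib.Char.UniformCent

/-!
Differences of sibling characters of the centraliser induce to differences of two irreducible
characters; consequences for irreducible characters of small degree.
-/

namespace Cfsg.Agent.Char.Unif

open scoped ComplexConjugate
open Cfsg Cfsg.Agent.Block

universe u

variable {G : Type u} [Group G] [Fintype G] {p : ℕ} [Fact p.Prime] {P : Sylow p G}

/-- Multiplicity on the centraliser. -/
noncomputable def mu (F : G → ℂ) (κ : IrrCharacter (CC P)) : ℕ :=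
  Glaub.mult (CC P) F (κ : CC P → ℂ)

theorem mu_spec [Fintype (CC P)] {F : G → ℂ} (hF : IsCharacter G F) (κ : IrrCharacter (CC P)) :
    classInner (fun c : CC P => F c) (κ : CC P → ℂ) = (mu F κ : ℂ) :=
  Glaub.mult_spec (CC P) hF (IsIrr.isCharacter κ.2)

theorem mu_expansion [Fintype (CC P)] {F : G → ℂ} (hF : IsCharacter G F) (c : CC P) :
    F c = ∑ κ : IrrCharacter (CC P), (mu F κ : ℂ) * (κ : CC P → ℂ) c :=
  Glaub.res_expansion (CC P) hF c

theorem mu_cj [Fintype (CC P)] {F : G → ℂ} (hF : IsCharacter G F) (x : NN P)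
    (κ : IrrCharacter (CC P)) : mu F (cj x κ) = mu F κ := by
  have h : classInner (fun c : CC P => F c) (cj x κ : CC P → ℂ) =
      classInner (fun c : CC P => F c) (κ : CC P → ℂ) := by
    simp only [classInner]
    congr 1
    refine Fintype.sum_equiv (cjg x).toEquiv _ _ fun c => ?_
    rw [MulEquiv.toEquiv_eq_coe, MulEquiv.coe_toEquiv, cj_apply, cjg_apply, IsChar.classFun hF]
  rw [mu_spec hF, mu_spec hF] at h
  exact_mod_cast h

theorem mu_rel [Fintype (CC P)] {F : G → ℂ} (hF : IsCharacter G F) {κ κ' : IrrCharacter (CC P)}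
    (h : Rel κ κ') : mu F κ' = mu F κ := by
  obtain ⟨x, rfl⟩ := h
  exact mu_cj hF x κ

theorem inner_irr {H : Type*} [Group H] [Fintype H] (a b : IrrCharacter H) [Decidable (a = b)] :
    classInner (a : H → ℂ) (b : H → ℂ) = if a = b then 1 else 0 := by
  split_ifs with h
  · exact h ▸ classInner_self_irr a.2
  · exact classInner_irr_ne a.2 b.2 fun e => h (Subtype.ext e)

/-- The degree as a natural number. -/
noncomputable abbrev deg {H : Type*} [Group H] (a : IrrCharacter H) : ℕ := charDegree (a : H → ℂ)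

/-- The number of cosets of the centraliser in the normaliser. -/
noncomputable def ee (P : Sylow p G) : ℕ := Nat.card (NN P ⧸ (CC P).subgroupOf (NN P))

theorem ee_pos : 0 < ee P := Nat.card_pos

theorem ee_mul : ee P * Nat.card (CC P) = Nat.card (NN P) := by
  rw [ee, ← Nat.card_congr (Subgroup.subgroupOfEquivOfLe (cc_le_nn (P := P))).toEquiv]
  exact (Subgroup.card_eq_card_quotient_mul_card_subgroup _).symm

open Classical in
/-- The conjugates of a character of the centraliser. -/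
noncomputable def Orb (κ : IrrCharacter (CC P)) : Finset (IrrCharacter (CC P)) :=
  Finset.univ.filter (Rel κ)

theorem mem_Orb {κ κ' : IrrCharacter (CC P)} : κ' ∈ Orb κ ↔ Rel κ κ' := by
  classical
  simp [Orb]

theorem card_Orb (hU : Uni P) {κ : IrrCharacter (CC P)} (hκ : Nt κ) : (Orb κ).card = ee P := by
  classical
  rw [← Nat.card_eq_finsetCard]
  symm
  let f : NN P ⧸ (CC P).subgroupOf (NN P) → Orb κ :=
    Quotient.lift (fun x : NN P => (⟨cj x⁻¹ κ, mem_Orb.mpr ⟨x⁻¹, rfl⟩⟩ : Orb κ)) (by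
      intro a b hab
      have h : a⁻¹ * b ∈ (CC P).subgroupOf (NN P) := QuotientGroup.leftRel_apply.mp hab
      refine Subtype.ext ?_
      show cj a⁻¹ κ = cj b⁻¹ κ
      have : b⁻¹ = (a⁻¹ * b)⁻¹ * a⁻¹ := by group
      rw [this, cj_mul, cj_of_mem_cc (Subgroup.mem_subgroupOf.mp (inv_mem h)) κ])
  refine Nat.card_eq_of_bijective f ⟨?_, ?_⟩
  · intro a b
    induction a using QuotientGroup.induction_on with
    | _ a =>
    induction b using QuotientGroup.induction_on with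
    | _ b =>
    intro hab
    have h : cj a⁻¹ κ = cj b⁻¹ κ := congrArg Subtype.val hab
    rw [QuotientGroup.eq, Subgroup.mem_subgroupOf]
    refine fixed_mem_cc hU hκ ?_
    rw [cj_mul, h, ← cj_mul, inv_mul_cancel, cj_one]
  · rintro ⟨κ', hκ'⟩
    obtain ⟨x, rfl⟩ := mem_Orb.mp hκ'
    exact ⟨QuotientGroup.mk x⁻¹, Subtype.ext (by show cj x⁻¹⁻¹ κ = cj x κ; rw [inv_inv])⟩

theorem res_indFun_of_vanish [Fintype (CC P)] [Fintype (NN P)] (hU : Uni P) {β : CC P → ℂ}
    (hβ : ∀ d, proj hU d = 1 → β d = 0) (c : CC P) :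
    indFun (CC P) β c = (Nat.card (CC P) : ℂ)⁻¹ * ∑ x : NN P, β (cjg x c) := by
  classical
  simp only [indFun]
  congr 1
  rw [← Finset.sum_filter_add_sum_filter_not Finset.univ (fun x : G => x ∈ NN P),
    Finset.sum_eq_zero (s := Finset.univ.filter (fun x : G => ¬ x ∈ NN P)) (fun x hx => ?_),
    add_zero, ← Finset.sum_subtype_eq_sum_filter, Finset.subtype_univ]
  · refine Fintype.sum_equiv (Equiv.inv (NN P)) _ _ fun x => ?_
    have e : (cjg x⁻¹ c : G) = (x : G)⁻¹ * c * x := by simp [cjg_apply]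
    rw [Equiv.inv_apply, extendByZero_of_mem _ (e ▸ (cjg x⁻¹ c).2)]
    exact congrArg β (Subtype.ext e.symm)
  · by_cases h : x⁻¹ * (c : G) * x ∈ CC P
    · rw [extendByZero_of_mem _ h]
      refine hβ _ ?_
      by_contra hne
      exact (Finset.mem_filter.mp hx).2 (mem_nn_of_conj hU rfl hne)
    · exact extendByZero_not_mem _ h

theorem inner_indFun [Fintype (CC P)] [Fintype (NN P)] (hU : Uni P) {β β' : CC P → ℂ}
    (hβ' : ∀ d, proj hU d = 1 → β' d = 0) :
    classInner (indFun (CC P) β) (indFun (CC P) β') =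
      (Nat.card (CC P) : ℂ)⁻¹ * ∑ x : NN P, classInner β (fun c => β' (cjg x c)) := by
  rw [classInner_indFun _ _ (indFun_classFun _ _), ← classInner_sum_right]
  have : (fun h : CC P => indFun (CC P) β' h) =
      (Nat.card (CC P) : ℂ)⁻¹ • ∑ x : NN P, (fun c => β' (cjg x c)) := by
    funext c
    rw [res_indFun_of_vanish hU hβ']
    simp [Finset.sum_apply]
  rw [this, classInner_smul_right, map_inv₀, map_natCast]

theorem sub_vanish {hU : Uni P} {κ κ' : IrrCharacter (CC P)} (h : Sib hU κ κ') (d : CC P)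
    (hd : proj hU d = 1) : ((κ : CC P → ℂ) - (κ' : CC P → ℂ)) d = 0 := by
  rw [Pi.sub_apply, h d hd, sub_self]

/-- The basic difference. -/
theorem pair [Fintype (CC P)] (hU : Uni P) {κ κ' : IrrCharacter (CC P)} (h1 : Nt κ) (h2 : Nt κ')
    (hs : Sib hU κ κ') (hn : ¬ Rel κ κ') :
    ∃ A B : IrrCharacter G, A ≠ B ∧ (A : G → ℂ) 1 = (B : G → ℂ) 1 ∧
      indFun (CC P) ((κ : CC P → ℂ) - (κ' : CC P → ℂ)) = (A : G → ℂ) - (B : G → ℂ) ∧
      (∀ Z : IrrCharacter G, Z = A → (mu (Z : G → ℂ) κ : ℤ) - mu (Z : G → ℂ) κ' = 1) ∧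
      (∀ Z : IrrCharacter G, Z = B → (mu (Z : G → ℂ) κ : ℤ) - mu (Z : G → ℂ) κ' = -1) ∧
      (∀ Z : IrrCharacter G, Z ≠ A → Z ≠ B →
        (mu (Z : G → ℂ) κ : ℤ) - mu (Z : G → ℂ) κ' = 0) := by
  classical
  haveI := Fintype.ofFinite (NN P)
  set β := (κ : CC P → ℂ) - (κ' : CC P → ℂ) with hβdef
  have hβ : ∀ d, proj hU d = 1 → β d = 0 := sub_vanish hs
  have hnorm : classInner (indFun (CC P) β) (indFun (CC P) β) = 2 := by
    rw [inner_indFun hU hβ]
    have h : ∀ x : NN P, classInner β (fun c => β (cjg x c)) =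
        (if (x : G) ∈ CC P then (2 : ℂ) else 0) := fun x => by
      rw [show (fun c => β (cjg x c)) = (cj x κ : CC P → ℂ) - (cj x κ' : CC P → ℂ) from rfl, hβdef,
        classInner_sub_left, classInner_sub_right, classInner_sub_right, inner_irr, inner_irr,
        inner_irr, inner_irr]
      have n1 : κ ≠ cj x κ' := fun e => hn (Rel.symm ⟨x, e.symm⟩)
      have n2 : κ' ≠ cj x κ := fun e => hn ⟨x, e.symm⟩
      by_cases hc : (x : G) ∈ CC P
      · simp only [cj_of_mem_cc hc] at n1 n2 ⊢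
        simp only [n1, n2, hc, if_true, if_false]
        norm_num
      · have n3 : κ ≠ cj x κ := fun e => hc (fixed_mem_cc hU h1 e.symm)
        have n4 : κ' ≠ cj x κ' := fun e => hc (fixed_mem_cc hU h2 e.symm)
        simp only [n1, n2, n3, n4, hc, if_false]
        norm_num
    rw [Finset.sum_congr rfl fun x _ => h x, ← Finset.sum_filter, Finset.sum_const, nsmul_eq_mul,
      ← Fintype.card_subtype, ← Nat.card_eq_fintype_card]
    have hc : Nat.card {x : NN P // (x : G) ∈ CC P} = Nat.card (CC P) :=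
      Nat.card_congr
        { toFun := fun x => ⟨x.1, x.2⟩
          invFun := fun c => ⟨⟨c, cc_le_nn c.2⟩, c.2⟩
          left_inv := fun x => rfl
          right_inv := fun c => rfl }
    rw [hc, ← mul_assoc, inv_mul_cancel₀ (Nat.cast_ne_zero.mpr Nat.card_pos.ne'), one_mul]
  have hgen : IsGeneralizedCharacter G (indFun (CC P) β) :=
    IsGenChar.ind _ ⟨_, _, IsIrr.isCharacter κ.2, IsIrr.isCharacter κ'.2, rfl⟩
  obtain ⟨A, B, hA, hB, hAB, he⟩ := IsGenChar.norm_two hgen hnorm (by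
    rw [indFun_one_eq, hβ 1 (map_one _), mul_zero])
  refine ⟨⟨A, hA⟩, ⟨B, hB⟩, fun e => hAB (congrArg Subtype.val e), ?_, he, ?_⟩
  · have := congrFun he 1
    rw [indFun_one_eq, hβ 1 (map_one _), mul_zero, Pi.sub_apply, eq_comm, sub_eq_zero] at this
    exact this
  have key : ∀ Z : IrrCharacter G, (((mu (Z : G → ℂ) κ : ℤ) - mu (Z : G → ℂ) κ' : ℤ) : ℂ) =
      classInner (Z : G → ℂ) A - classInner (Z : G → ℂ) B := fun Z => by
    rw [← classInner_sub_right, ← he, classInner_indFun_right _ _ (IsIrr.classFun Z.2), hβdef,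
      classInner_sub_right, mu_spec (irr_isChar Z), mu_spec (irr_isChar Z)]
    push_cast
    ring
  refine ⟨fun Z hZ => ?_, fun Z hZ => ?_, fun Z hZA hZB => ?_⟩
  · have := key Z
    rw [hZ, classInner_self_irr hA, classInner_irr_ne hA hB hAB, sub_zero] at this
    subst hZ
    exact_mod_cast this
  · have := key Z
    rw [hZ, classInner_self_irr hB, classInner_irr_ne hB hA hAB.symm, zero_sub] at this
    subst hZ
    exact_mod_cast this
  · have := key Z
    rw [classInner_irr_ne Z.2 hA fun e => hZA (Subtype.ext e),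
      classInner_irr_ne Z.2 hB fun e => hZB (Subtype.ext e), sub_zero] at this
    exact_mod_cast this

/-- The difference with known first member. -/
theorem pair_top [Fintype (CC P)] (hU : Uni P) {κ κ' : IrrCharacter (CC P)} (h1 : Nt κ) (h2 : Nt κ')
    (hs : Sib hU κ κ') (hn : ¬ Rel κ κ') {Z : IrrCharacter G} (a : mu (Z : G → ℂ) κ = 1)
    (b : mu (Z : G → ℂ) κ' = 0) :
    ∃ B : IrrCharacter G, B ≠ Z ∧ (Z : G → ℂ) 1 = (B : G → ℂ) 1 ∧
      indFun (CC P) ((κ : CC P → ℂ) - (κ' : CC P → ℂ)) = (Z : G → ℂ) - (B : G → ℂ) ∧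
      ((mu (B : G → ℂ) κ : ℤ) - mu (B : G → ℂ) κ' = -1) ∧
      (∀ U : IrrCharacter G, U ≠ Z → U ≠ B →
        (mu (U : G → ℂ) κ : ℤ) - mu (U : G → ℂ) κ' = 0) := by
  obtain ⟨A, B, hAB, hd, he, hA, hB, h0⟩ := pair hU h1 h2 hs hn
  have hZ : Z = A := by
    by_contra hne
    by_cases hZB : Z = B
    · have := hB Z hZB; omega
    · have := h0 Z hne hZB; omega
  subst hZ
  exact ⟨B, hAB.symm, hd, he, hB B rfl, h0⟩

theorem eq_of_mu (hU : Uni P) [Fintype (CC P)] {κ κ' : IrrCharacter (CC P)} (h1 : Nt κ) (h2 : Nt κ')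
    (hs : Sib hU κ κ') (hn : ¬ Rel κ κ') {Y Y' : IrrCharacter G} (a : mu (Y : G → ℂ) κ = 1)
    (b : mu (Y : G → ℂ) κ' = 0) (a' : mu (Y' : G → ℂ) κ = 1) (b' : mu (Y' : G → ℂ) κ' = 0) :
    Y = Y' := by
  obtain ⟨B, hne, -, -, hB, h0⟩ := pair_top hU h1 h2 hs hn a b
  by_contra hY
  by_cases hYB : Y' = B
  · subst hYB; omega
  · have := h0 Y' (Ne.symm hY) hYB; omega

theorem deg_of_mu (hU : Uni P) [Fintype (CC P)] {κ κ' : IrrCharacter (CC P)} (h1 : Nt κ)
    (h2 : Nt κ')
    (hs : Sib hU κ κ') (hn : ¬ Rel κ κ') {Y Y' : IrrCharacter G} (a : mu (Y : G → ℂ) κ = 1)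
    (b : mu (Y : G → ℂ) κ' = 0) (a' : mu (Y' : G → ℂ) κ = 0) (b' : mu (Y' : G → ℂ) κ' = 1) :
    deg Y = deg Y' := by
  obtain ⟨B, hne, hd, -, hB, h0⟩ := pair_top hU h1 h2 hs hn a b
  have : Y' = B := by
    by_contra hYB
    have hY : Y' ≠ Y := fun e => by subst e; omega
    have := h0 Y' hY hYB
    omega
  subst this
  simp only [deg, charDegree, hd]

theorem Sib.refl {hU : Uni P} (κ : IrrCharacter (CC P)) : Sib hU κ κ := fun _ _ => rfl

theorem Sib.symm {hU : Uni P} {κ κ' : IrrCharacter (CC P)} (h : Sib hU κ κ') : Sib hU κ' κ :=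
  fun c hc => (h c hc).symm

theorem Sib.trans {hU : Uni P} {a b c : IrrCharacter (CC P)} (h : Sib hU a b) (h' : Sib hU b c) :
    Sib hU a c := fun x hx => (h x hx).trans (h' x hx)

open Classical in
/-- The siblings of a character. -/
noncomputable def sibs (hU : Uni P) (κ : IrrCharacter (CC P)) : Finset (IrrCharacter (CC P)) :=
  Finset.univ.filter (Sib hU κ)

theorem mem_sibs {hU : Uni P} {κ κ' : IrrCharacter (CC P)} : κ' ∈ sibs hU κ ↔ Sib hU κ κ' := by
  classical
  simp [sibs]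

theorem card_sibs (hU : Uni P) (κ : IrrCharacter (CC P)) : (sibs hU κ).card = Nat.card P := by
  classical
  rw [← card_linear hU, ← Nat.card_eq_finsetCard]
  refine (Nat.card_eq_of_bijective
    (fun l => (⟨tw hU κ l, mem_sibs.mpr (sib_tw hU κ l)⟩ : sibs hU κ)) ⟨?_, ?_⟩).symm
  · exact fun a b h => tw_injective hU κ (congrArg Subtype.val h)
  · rintro ⟨κ', h⟩
    obtain ⟨l, rfl⟩ := exists_tw_of_sib (mem_sibs.mp h)
    exact ⟨l, rfl⟩

/-- The two characters have different eigenvalues at some element of `P`. -/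
def Dist (κ κ' : IrrCharacter (CC P)) : Prop :=
  ∃ u : CC P, (u : G) ∈ (P : Subgroup G) ∧
    (κ : CC P → ℂ) u * (κ' : CC P → ℂ) 1 ≠ (κ' : CC P → ℂ) u * (κ : CC P → ℂ) 1

theorem not_dist_trans {κ a b : IrrCharacter (CC P)} (h : ¬ Dist κ a) (h' : ¬ Dist κ b) :
    ¬ Dist a b := by
  rintro ⟨u, hu, hne⟩
  have e1 : _ = _ := not_not.mp fun e => h ⟨u, hu, e⟩
  have e2 : _ = _ := not_not.mp fun e => h' ⟨u, hu, e⟩
  exact hne (mul_left_cancel₀ (irr_one_ne_zero κ) (by
    linear_combination (b : CC P → ℂ) 1 * (-e1) + (a : CC P → ℂ) 1 * e2))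

theorem not_dist_of_not_nt {κ κ' : IrrCharacter (CC P)} (h : ¬ Nt κ) (h' : ¬ Nt κ') :
    ¬ Dist κ κ' := by
  rintro ⟨u, hu, hne⟩
  rw [not_not.mp fun e => h ⟨u, hu, e⟩, not_not.mp fun e => h' ⟨u, hu, e⟩, mul_comm] at hne
  exact hne rfl

theorem dist_of_nt {κ κ' : IrrCharacter (CC P)} (h : ¬ Nt κ) (h' : Nt κ') : Dist κ κ' := by
  obtain ⟨u, hu, hne⟩ := h'
  refine ⟨u, hu, ?_⟩
  rw [not_not.mp fun e => h ⟨u, hu, e⟩, mul_comm ((κ' : CC P → ℂ) u)]
  exact fun e => hne (mul_left_cancel₀ (irr_one_ne_zero κ) e).symm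

theorem dist_cj {κ κ' : IrrCharacter (CC P)} (h : Dist κ κ') (x : NN P) :
    Dist (cj x κ) (cj x κ') := by
  obtain ⟨u, hu, hne⟩ := h
  refine ⟨(cjg x).symm u, (Subgroup.mem_normalizer_iff.mp (inv_mem x.2) u).mp hu, ?_⟩
  rwa [cj_apply, cj_apply, cj_apply, cj_apply, MulEquiv.apply_symm_apply, map_one]

theorem eq_of_sib_not_dist {hU : Uni P} {a b : IrrCharacter (CC P)} (hs : Sib hU a b)
    (h : ¬ Dist a b) : a = b := by
  obtain ⟨l, rfl⟩ := exists_tw_of_sib hs
  obtain ⟨e, he⟩ := exists_eig hU a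
  suffices hl : l = 1 by
    subst hl
    exact Subtype.ext (funext fun c => by
      rw [tw_apply, MonoidHom.one_apply, Units.val_one, one_mul])
  refine MonoidHom.ext fun u => Units.ext ?_
  have h1 := not_not.mp fun e' => h ⟨⟨u, le_cc hU u.2⟩, u.2, e'⟩
  rw [tw_apply, tw_apply, proj_id, map_one, map_one, Units.val_one, one_mul] at h1
  have h2 := he u 1
  rw [mul_one] at h2
  rw [h2] at h1
  have h0 := irr_one_ne_zero a
  rw [MonoidHom.one_apply, Units.val_one]
  refine mul_right_cancel₀ (mul_ne_zero (mul_ne_zero (Units.ne_zero (e u)) h0) h0) ?_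
  linear_combination -h1

open Classical in
/-- The siblings with `P` outside the kernel. -/
noncomputable def fam (hU : Uni P) (κ : IrrCharacter (CC P)) : Finset (IrrCharacter (CC P)) :=
  (sibs hU κ).filter Nt

theorem mem_fam {hU : Uni P} {κ κ' : IrrCharacter (CC P)} :
    κ' ∈ fam hU κ ↔ Sib hU κ κ' ∧ Nt κ' := by
  classical
  simp [fam, mem_sibs]

theorem card_fam (hU : Uni P) (κ : IrrCharacter (CC P)) :
    Nat.card P ≤ (fam hU κ).card + 1 := by
  classical
  rw [← card_sibs hU κ, ← Finset.card_filter_add_card_filter_not (s := sibs hU κ) Nt]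
  refine Nat.add_le_add le_rfl (Finset.card_le_one.mpr fun a ha b hb => ?_)
  obtain ⟨ha, hna⟩ := Finset.mem_filter.mp ha
  obtain ⟨hb, hnb⟩ := Finset.mem_filter.mp hb
  exact eq_of_sib_not_dist ((mem_sibs.mp ha).symm.trans (mem_sibs.mp hb))
    (not_dist_of_not_nt hna hnb)

/-! ### Irreducible characters of small degree -/

theorem sum_mu_le [Fintype (CC P)] {F : G → ℂ} (hF : IsCharacter G F) {d : ℕ} (hd : F 1 = d)
    (s : Finset (IrrCharacter (CC P))) : ∑ κ ∈ s, mu F κ ≤ d := by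
  classical
  have h := mu_expansion (P := P) hF 1
  rw [Subgroup.coe_one, hd] at h
  have h2 : d = ∑ κ : IrrCharacter (CC P), mu F κ * deg κ := by
    have : (d : ℂ) = ((∑ κ : IrrCharacter (CC P), mu F κ * deg κ : ℕ) : ℂ) := by
      rw [h, Nat.cast_sum]
      exact Finset.sum_congr rfl fun κ _ => by rw [Nat.cast_mul, ← charDeg_spec' κ]
    exact_mod_cast this
  rw [h2]
  exact (Finset.sum_le_sum fun κ _ => Nat.le_mul_of_pos_right _ (charDeg_pos κ)).trans
    (Finset.sum_le_sum_of_subset (Finset.subset_univ s))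

variable [Fintype (CC P)]

theorem exists_zero (hU : Uni P) {Y : IrrCharacter G} (hd : deg Y + 1 < Nat.card P)
    (κ : IrrCharacter (CC P)) : ∃ b ∈ fam hU κ, mu (Y : G → ℂ) b = 0 := by
  by_contra hno
  push Not at hno
  have h1 := sum_mu_le (P := P) (irr_isChar Y) (charDeg_spec' Y) (fam hU κ)
  have h2 : (fam hU κ).card ≤ ∑ b ∈ fam hU κ, mu (Y : G → ℂ) b := by
    rw [Finset.card_eq_sum_ones]
    exact Finset.sum_le_sum fun b hb => Nat.pos_of_ne_zero (hno b hb)
  have := card_fam hU κ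
  simp only [deg] at hd
  omega

theorem mu_le_one (hU : Uni P) {Y : IrrCharacter G} (hd : deg Y + 1 < Nat.card P)
    {κ : IrrCharacter (CC P)} (hκ : Nt κ) : mu (Y : G → ℂ) κ ≤ 1 := by
  by_contra hgt
  obtain ⟨b, hb, hb0⟩ := exists_zero hU hd κ
  obtain ⟨hs, hbn⟩ := mem_fam.mp hb
  have hn : ¬ Rel κ b := fun h => by
    have := mu_rel (irr_isChar Y) h
    omega
  obtain ⟨A, B, -, -, -, hA, hB, h0⟩ := pair hU hκ hbn hs hn
  by_cases h1 : Y = A
  · have := hA Y h1; omega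
  · by_cases h2 : Y = B
    · have := hB Y h2; omega
    · have := h0 Y h1 h2; omega

/-- All the characters of the centraliser outside `P` in the restriction are conjugate. -/
def Good (Y : IrrCharacter G) : Prop :=
  ∀ κ κ' : IrrCharacter (CC P), Nt κ → Nt κ' →
    mu (Y : G → ℂ) κ = 1 → mu (Y : G → ℂ) κ' = 1 → Rel κ κ'

theorem fam_conj (hU : Uni P) {Y : IrrCharacter G} (hd : deg Y + 1 < Nat.card P)
    {a c : IrrCharacter (CC P)} (ha : Nt a) (hc : Nt c) (ma : mu (Y : G → ℂ) a = 1)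
    (mc : mu (Y : G → ℂ) c = 1) : ∃ x : NN P, Sib hU a (cj x c) := by
  by_contra hno
  push Not at hno
  classical
  haveI := Fintype.ofFinite (NN P)
  obtain ⟨b, hb, hb0⟩ := exists_zero hU hd a
  obtain ⟨hab, hbn⟩ := mem_fam.mp hb
  obtain ⟨b', hb', hb0'⟩ := exists_zero hU hd c
  obtain ⟨hcb, hbn'⟩ := mem_fam.mp hb'
  have nr : ∀ {k k' : IrrCharacter (CC P)}, mu (Y : G → ℂ) k = 1 → mu (Y : G → ℂ) k' = 0 →
      ¬ Rel k k' := fun h h' hr => by
    have := mu_rel (irr_isChar Y) hr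
    omega
  obtain ⟨B, hBY, -, he, -, -⟩ := pair_top hU ha hbn hab (nr ma hb0) ma hb0
  obtain ⟨B', hBY', -, he', -, -⟩ := pair_top hU hc hbn' hcb (nr mc hb0') mc hb0'
  have h0 : classInner (indFun (CC P) ((a : CC P → ℂ) - (b : CC P → ℂ)))
      (indFun (CC P) ((c : CC P → ℂ) - (b' : CC P → ℂ))) = 0 := by
    rw [inner_indFun hU (sub_vanish hcb), Finset.sum_eq_zero fun x _ => ?_, mul_zero]
    rw [show (fun t => ((c : CC P → ℂ) - (b' : CC P → ℂ)) (cjg x t)) =
        (cj x c : CC P → ℂ) - (cj x b' : CC P → ℂ) from rfl,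
      classInner_sub_left, classInner_sub_right, classInner_sub_right, inner_irr, inner_irr,
      inner_irr, inner_irr, if_neg, if_neg, if_neg, if_neg]
    · ring
    · exact fun e => hno x ((hab.trans (e ▸ Sib.refl b)).trans (hcb.cj x).symm)
    · exact fun e => hno x (e ▸ hab)
    · exact fun e => hno x ((show Sib hU a (cj x b') from e ▸ Sib.refl a).trans (hcb.cj x).symm)
    · exact fun e => hno x (e ▸ Sib.refl a)
  rw [he, he', classInner_sub_left, classInner_sub_right, classInner_sub_right, inner_irr,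
    inner_irr, inner_irr, inner_irr, if_pos rfl, if_neg (Ne.symm hBY'), if_neg hBY] at h0
  split_ifs at h0 <;> norm_num at h0

theorem noTwo (hU : Uni P) {Y : IrrCharacter G} {a a' b b' : IrrCharacter (CC P)} (ha : Nt a)
    (ha' : Nt a') (hb : Nt b) (hb' : Nt b') (sa : Sib hU a a') (sb : Sib hU a b) (sb' : Sib hU a b')
    (ma : mu (Y : G → ℂ) a = 1) (ma' : mu (Y : G → ℂ) a' = 1) (mb : mu (Y : G → ℂ) b = 0)
    (mb' : mu (Y : G → ℂ) b' = 0) (hn : ¬ Rel a a') : Rel b b' := by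
  by_contra hnb
  have nr : ∀ {k k' : IrrCharacter (CC P)}, mu (Y : G → ℂ) k = 1 → mu (Y : G → ℂ) k' = 0 →
      ¬ Rel k k' := fun h h' hr => by
    have := mu_rel (irr_isChar Y) hr
    omega
  obtain ⟨W, hW, -, -, w1, w0⟩ := pair_top hU ha hb sb (nr ma mb) ma mb
  obtain ⟨W2, hW2, -, -, x1, x0⟩ := pair_top hU ha' hb (sa.symm.trans sb) (nr ma' mb) ma' mb
  obtain ⟨W3, hW3, -, -, y1, y0⟩ := pair_top hU ha hb' sb' (nr ma mb') ma mb'
  obtain ⟨W4, hW4, -, -, z1, z0⟩ := pair_top hU ha' hb' (sa.symm.trans sb') (nr ma' mb') ma' mb'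
  have h12 : W ≠ W2 := by
    rintro rfl
    obtain ⟨A, B, -, -, -, hA, -, -⟩ := pair hU ha ha' sa hn
    have e1 := hA A rfl
    by_cases h1 : A = Y
    · subst h1; omega
    · by_cases h2 : A = W
      · subst h2; omega
      · have := w0 A h1 h2; have := x0 A h1 h2; omega
  have h24 : W4 = W2 := by
    by_contra h
    have e1 := w0 W2 hW2 (Ne.symm h12)
    have e4 := z0 W2 hW2 (Ne.symm h)
    by_cases h3 : W2 = W3
    · subst h3; omega
    · have := y0 W2 hW2 h3; omega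
  have h13 : W3 = W := by
    by_contra h
    have e2 := x0 W hW h12
    have e3 := y0 W hW (Ne.symm h)
    have e4 := z0 W hW (by rw [h24]; exact h12)
    omega
  obtain ⟨A, B, -, -, -, hA, -, -⟩ := pair hU hb hb' (sb.symm.trans sb') hnb
  have e1 := hA A rfl
  by_cases h1 : A = Y
  · subst h1; omega
  · by_cases h2 : A = W
    · subst h2; subst h13; omega
    · have := w0 A h1 h2; have := y0 A h1 (by rw [h13]; exact h2); omega

theorem exists_struct (hU : Uni P) {Y : IrrCharacter G} (hd : deg Y + 1 < Nat.card P)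
    (hY : ¬ Good (P := P) Y) :
    ∃ a a' : IrrCharacter (CC P), Nt a ∧ Nt a' ∧ mu (Y : G → ℂ) a = 1 ∧ mu (Y : G → ℂ) a' = 1 ∧
      Sib hU a a' ∧ ¬ Rel a a' := by
  rw [Good] at hY
  push Not at hY
  obtain ⟨a, c, ha, hc, ma, mc, hn⟩ := hY
  obtain ⟨x, hx⟩ := fam_conj hU hd ha hc ma mc
  exact ⟨a, cj x c, ha, hc.cj x, ma, (mu_cj (irr_isChar Y) x c).trans mc, hx,
    fun h => hn (h.trans (Rel.symm ⟨x, rfl⟩))⟩

/-- A character that is not good contains nearly a whole family. -/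
theorem fam_le_of_struct (hU : Uni P) {Y : IrrCharacter G} (hd : deg Y + 1 < Nat.card P)
    {a a' : IrrCharacter (CC P)} (ha : Nt a) (ha' : Nt a') (ma : mu (Y : G → ℂ) a = 1)
    (ma' : mu (Y : G → ℂ) a' = 1) (sa : Sib hU a a') (hn : ¬ Rel a a') :
    Nat.card P ≤ ∑ κ ∈ fam hU a, mu (Y : G → ℂ) κ + ee P + 1 := by
  classical
  obtain ⟨b, hb, hb0⟩ := exists_zero hU hd a
  obtain ⟨hab, hbn⟩ := mem_fam.mp hb
  have h := Finset.card_filter_add_card_filter_not (s := fam hU a)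
    (fun κ => mu (Y : G → ℂ) κ = 0)
  have h1 : ((fam hU a).filter (fun κ => mu (Y : G → ℂ) κ = 0)).card ≤ ee P := by
    rw [← card_Orb hU hbn]
    refine Finset.card_le_card fun b' hb' => ?_
    obtain ⟨hb', hb0'⟩ := Finset.mem_filter.mp hb'
    obtain ⟨hab', hbn'⟩ := mem_fam.mp hb'
    exact mem_Orb.mpr (noTwo hU ha ha' hbn hbn' sa hab hab' ma ma' hb0 hb0' hn)
  have h2 : ((fam hU a).filter (fun κ => ¬ mu (Y : G → ℂ) κ = 0)).card ≤
      ∑ κ ∈ fam hU a, mu (Y : G → ℂ) κ := by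
    rw [Finset.card_eq_sum_ones]
    exact (Finset.sum_le_sum fun κ hκ => Nat.pos_of_ne_zero (Finset.mem_filter.mp hκ).2).trans
      (Finset.sum_le_sum_of_subset (Finset.filter_subset _ _))
  have := card_fam hU a
  omega

theorem exclusive (hU : Uni P) {Y Y₀ : IrrCharacter G} (hd₀ : deg Y₀ + 1 < Nat.card P)
    (hd : deg Y + 1 < Nat.card P) (h₀ : Good (P := P) Y₀) {a a' a₀ : IrrCharacter (CC P)}
    (ha : Nt a) (ha' : Nt a') (ha₀ : Nt a₀) (ma : mu (Y : G → ℂ) a = 1)
    (ma' : mu (Y : G → ℂ) a' = 1) (sa : Sib hU a a') (hn : ¬ Rel a a') (s₀ : Sib hU a a₀)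
    (m₀ : mu (Y₀ : G → ℂ) a₀ = 1) : False := by
  have zero₀ : ∀ {k : IrrCharacter (CC P)}, Nt k → ¬ Rel a₀ k → mu (Y₀ : G → ℂ) k = 0 :=
    fun hk hr => by
      have := mu_le_one hU hd₀ hk
      by_contra h
      exact hr (h₀ _ _ ha₀ hk m₀ (by omega))
  have := mu_le_one hU hd ha₀
  rcases Nat.eq_zero_or_pos (mu (Y : G → ℂ) a₀) with h | h
  · have r1 : ¬ Rel a a₀ := fun hr => by have := mu_rel (irr_isChar Y) hr; omega
    have r2 : ¬ Rel a' a₀ := fun hr => by have := mu_rel (irr_isChar Y) hr; omega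
    have z1 := zero₀ ha fun hr => r1 hr.symm
    have z2 := zero₀ ha' fun hr => r2 hr.symm
    obtain ⟨B, hB, -, -, w1, w0⟩ := pair_top hU ha ha₀ s₀ r1 ma h
    obtain ⟨B', hB', -, -, x1, x0⟩ := pair_top hU ha' ha₀ (sa.symm.trans s₀) r2 ma' h
    have e : Y₀ = B := by
      by_contra hne
      have hY : Y₀ ≠ Y := fun e => by subst e; omega
      have := w0 Y₀ hY hne; omega
    subst e
    have e' : Y₀ = B' := by
      by_contra hne
      have := x0 Y₀ hB hne; omega
    subst e'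
    obtain ⟨A, C, -, -, -, hA, -, -⟩ := pair hU ha ha' sa hn
    have e1 := hA A rfl
    by_cases h1 : A = Y
    · subst h1; omega
    · by_cases h2 : A = Y₀
      · subst h2; omega
      · have := w0 A h1 h2; have := x0 A h1 h2; omega
  · obtain ⟨b, hb, hb0⟩ := exists_zero hU hd a₀
    obtain ⟨hs, hbn⟩ := mem_fam.mp hb
    have r : ¬ Rel a₀ b := fun hr => by have := mu_rel (irr_isChar Y) hr; omega
    have := eq_of_mu hU ha₀ hbn hs r (Y := Y) (Y' := Y₀) (by omega) hb0 m₀ (zero₀ hbn r)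
    subst this
    exact hn (h₀ a a' ha ha' ma ma')

theorem deg_congr (hU : Uni P) {Y Y' : IrrCharacter G} (hd : deg Y + 1 < Nat.card P)
    (hd' : deg Y' + 1 < Nat.card P) (hY : Good (P := P) Y) (hY' : Good (P := P) Y')
    {c c' : IrrCharacter (CC P)} (hc : Nt c) (hc' : Nt c') (m : mu (Y : G → ℂ) c = 1)
    (m' : mu (Y' : G → ℂ) c' = 1) (hs : Sib hU c c') : deg Y = deg Y' := by
  by_cases hr : Rel c c'
  · have m2 : mu (Y' : G → ℂ) c = 1 := (mu_rel (irr_isChar Y') hr).symm.trans m'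
    obtain ⟨b, hb, hb0⟩ := exists_zero hU hd c
    obtain ⟨hsb, hbn⟩ := mem_fam.mp hb
    have r : ¬ Rel c b := fun hr => by have := mu_rel (irr_isChar Y) hr; omega
    have hb0' : mu (Y' : G → ℂ) b = 0 := by
      have := mu_le_one hU hd' hbn
      by_contra h
      exact r (hY' c b hc hbn m2 (by omega))
    rw [eq_of_mu hU hc hbn hsb r m hb0 m2 hb0']
  · have z : mu (Y : G → ℂ) c' = 0 := by
      have := mu_le_one hU hd hc'
      by_contra h
      exact hr (hY c c' hc hc' m (by omega))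
    have z' : mu (Y' : G → ℂ) c = 0 := by
      have := mu_le_one hU hd' hc
      by_contra h
      exact hr (hY' c c' hc hc' (by omega) m')
    exact deg_of_mu hU hc hc' hs hr m z z' m'

end Cfsg.Agent.Char.Unif
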