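import Cfsg.Agent.Lib.Char.UnipotentCount
import Cfsg.Agent.Lib.Char.SteinbergChev
import Cfsg.Agent.Lib.Classical.ChevSplit

/-!
Unipotent data of a finite Chevalley group.
-/

set_option autoImplicit false

namespace Cfsg.Agent.Char.UChev

open Cfsg Cfsg.Lie Cfsg.Agent.Lie.Chev Cfsg.Agent.Char.StBN Cfsg.Agent.Char.UCount Matrix

variable {D : ChevalleyDatum} (c : CertFull D) {F : Type*} [Field F]

/-- The indices of a set of generators. -/
def idx (J : Finset (c.bnPair F).S) : Set ℕ :=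
  {j | j < D.rank ∧ ∃ s ∈ J, ((s : ↥(D.group F)) : GL D.Idx F) = c.np F j}

include c

/-- The word of the longest element of a parabolic Weyl group. -/
theorem exists_long (J : Set ℕ) (hJ : ∀ j ∈ J, j < D.rank) :
    ∃ L : List ℕ, (∀ j ∈ L, j ∈ J) ∧ ∀ r, c.Pos r → D.InRootSub J r → ¬ c.Pos (c.wl L r) := by
  classical
  obtain ⟨m, ⟨L, hLJ, rfl⟩, hmax⟩ : ∃ m, (∃ L : List ℕ, (∀ j ∈ L, j ∈ J) ∧ c.invN L = m) ∧
      ∀ L : List ℕ, (∀ j ∈ L, j ∈ J) → c.invN L ≤ m := by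
    have hb : ∀ L : List ℕ, c.invN L ≤ D.nroots := fun L => by
      have h := Nat.card_le_card_of_injective
        (fun r : {r : ℕ | c.Pos r ∧ ¬ c.Pos (c.wl L r)} => (⟨r.1, r.2.1.2⟩ : Fin D.nroots))
        (fun a b e => Subtype.ext (congrArg Fin.val e))
      rwa [Nat.card_fin] at h
    let S := (Finset.range (D.nroots + 1)).filter fun m => ∃ L : List ℕ, (∀ j ∈ L, j ∈ J) ∧ c.invN L = m
    have hne : S.Nonempty := ⟨c.invN [], Finset.mem_filter.2
      ⟨Finset.mem_range.2 (Nat.lt_succ_of_le (hb [])), [], by simp, rfl⟩⟩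
    refine ⟨S.max' hne, (Finset.mem_filter.1 (S.max'_mem hne)).2, fun L hL => ?_⟩
    exact S.le_max' _ (Finset.mem_filter.2 ⟨Finset.mem_range.2 (Nat.lt_succ_of_le (hb L)), L, hL, rfl⟩)
  have hL : ∀ j ∈ L, j < D.rank := fun j hj => hJ j (hLJ j hj)
  have hsimp : ∀ j ∈ J, ¬ c.Pos (c.wl L (D.simple j)) := by
    intro j hj hp
    have := Classical.ChevSplit.lt_invN c hL (hJ j hj) hp
    have := hmax (L ++ [j]) (fun i hi => by
      rcases List.mem_append.1 hi with h | h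
      · exact hLJ i h
      · rwa [List.mem_singleton.1 h])
    omega
  refine ⟨L, hLJ, fun r hr hrJ hp => ?_⟩
  obtain ⟨k, hk, hv⟩ := c.exists_vec_pos hp
  rw [c.wl_vec hL hr.2 hk] at hv
  refine absurd hv (not_lt.2 (Finset.sum_nonpos fun i hi => ?_))
  rw [Finset.mem_range] at hi
  by_cases hiJ : i ∈ J
  · exact mul_nonpos_of_nonneg_of_nonpos ((c.vec_nonneg hr.2 hr.1).1 i hi)
      (c.vec_nonpos (c.wl_lt hL (c.simple_lt hi)) (hsimp i hiJ) hk)
  · rw [(c.inRootSub_iff.1 hrJ).2 i hi hiJ, zero_mul]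

theorem radical_le_U (J : Set ℕ) : D.unipotentRadical F J ≤ D.posUnipotent F := by
  refine (Subgroup.closure_le _).2 ?_
  rintro g ⟨s, t, hs, -, e⟩
  obtain rfl := c.eq_xg_iff.1 e
  exact c.xg_mem_U (c.posRoot_iff.1 hs) t

theorem parabolic_le (J : Finset (c.bnPair F).S) :
    (c.bnPair F).parabolic (img (c.bnPair F) J) ≤
      (D.parabolicSubgroup F (idx c J)).subgroupOf (D.group F) := by
  refine sup_le (fun x hx => Subgroup.mem_subgroupOf.2 (Subgroup.mem_sup_left hx))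
    ((Subgroup.closure_le _).2 ?_)
  rintro _ ⟨s, hs, rfl⟩
  obtain ⟨j, hj, h⟩ := s.2
  refine Subgroup.mem_subgroupOf.2 (Subgroup.mem_sup_right (Subgroup.subset_closure
    ⟨j, ⟨hj, s, hs, StChev.np_eq c h⟩, hj, h⟩))

theorem nw_mem {J : Finset (c.bnPair F).S} : ∀ {L : List ℕ}, (∀ j ∈ L, j ∈ idx c J) →
    ∃ m ∈ Subgroup.closure (img (c.bnPair F) J), ((m : ↥(D.group F)) : GL D.Idx F) = c.nw F L := by
  intro L
  induction L with
  | nil => exact fun _ => ⟨1, one_mem _, by simp⟩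
  | cons j L ih =>
    intro hL
    obtain ⟨m, hm, e⟩ := ih fun i hi => hL i (List.mem_cons_of_mem _ hi)
    obtain ⟨-, s, hs, hse⟩ := hL j List.mem_cons_self
    refine ⟨(s : ↥(D.group F)) * m, mul_mem (Subgroup.subset_closure ((mem_img _).2 hs)) hm, ?_⟩
    rw [Subgroup.coe_mul, hse, e, c.nw_cons]

theorem exists_n (J : Finset (c.bnPair F).S) : ∃ n : (c.bnPair F).N,
    Lie.proj (c.bnPair F) n ∈ Lie.weylPara (c.bnPair F) (img (c.bnPair F) J) ∧
    ∀ y : ↥(D.group F), (y : GL D.Idx F) ∈ D.posUnipotent F →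
      (n : ↥(D.group F))⁻¹ * y * (n : ↥(D.group F)) ∈ (c.bnPair F).B →
      (y : GL D.Idx F) ∈ D.unipotentRadical F (idx c J) := by
  obtain ⟨L, hLJ, hneg⟩ := exists_long c (idx c J) fun j hj => hj.1
  have hL : ∀ j ∈ L, j < D.rank := fun j hj => (hLJ j hj).1
  obtain ⟨m, hm, e⟩ := nw_mem c hLJ
  have hsub := img_subset (c.bnPair F) J
  have hmN : m ∈ (c.bnPair F).N :=
    (Subgroup.closure_le _).2 (fun x hx => (c.bnPair F).subset (hsub hx)) hm
  refine ⟨⟨m⁻¹, inv_mem hmN⟩, Lie.proj_mem_weylPara _ hsub (inv_mem hm) _, fun y hy hy' => ?_⟩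
  rw [c.posUnipotent_eq] at hy
  obtain ⟨v, hv, w, hw, e3⟩ := c.exists_mul_KS (c.keepSet_closed hL) (c.invSet_closed hL)
    (fun r hr => by by_cases h : c.Pos (c.wl L r); exacts [Or.inl ⟨hr, h⟩, Or.inr ⟨hr, h⟩])
    _ c.T.h rfl le_rfl _ hy
  have h1 := c.conj_keep_mem_U (one_mem _) hL hv
  have h2 := c.conj_inv_mem_V (one_mem _) hL hw
  simp only [one_mul] at h1 h2
  have hy'' : c.nw F L * (y : GL D.Idx F) * (c.nw F L)⁻¹ ∈ D.borelSubgroup F := by
    have : ((m⁻¹)⁻¹ * y * m⁻¹ : ↥(D.group F)) ∈ (c.bnPair F).B := hy'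
    rw [inv_inv] at this
    rw [← e]
    exact this
  have h3 : c.nw F L * w * (c.nw F L)⁻¹ ∈ D.borelSubgroup F := by
    have := mul_mem (inv_mem (Subgroup.mem_sup_left h1 : _ ∈ D.borelSubgroup F)) hy''
    rw [e3] at this
    simpa [mul_assoc, ChevalleyDatum.borelSubgroup] using this
  have h4 := c.borel_inf_negUnipotent.1.le ⟨h3, h2⟩
  rw [Subgroup.mem_bot, conj_eq_one_iff] at h4
  rw [h4, mul_one] at e3
  rw [e3]
  refine (Subgroup.closure_le _).2 ?_ hv
  rintro g ⟨r, t, hr, -, rfl⟩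
  exact c.mem_radical ⟨hr.1, fun hrJ => hneg r hr.1 hrJ hr.2⟩ t

theorem card_pElements [Fintype F] (p : ℕ) [Fact p.Prime] [CharP F p] :
    Nat.card {g : ↥(D.group F) // ∃ k : ℕ, orderOf g = p ^ k} =
      Fintype.card F ^ (2 * (D.nroots / 2)) := by
  classical
  obtain ⟨Q, hQ⟩ := StChev.exists_sylow_U c p (F := F)
  haveI := Fintype.ofFinite (c.bnPair F).S
  have hUB : (Q : Subgroup ↥(D.group F)) ≤ (c.bnPair F).B := fun x hx =>
    Subgroup.mem_subgroupOf.2 (Subgroup.mem_sup_left (Subgroup.mem_subgroupOf.1 (hQ.le hx)))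
  let U : UData (c.bnPair F) p :=
    { U := Q
      U_le := hUB
      dec := fun b hb => by
        obtain ⟨u, hu, a, ha, e⟩ := c.mem_borel_iff.1 (Subgroup.mem_subgroupOf.1 hb)
        refine ⟨⟨u, c.U_le_group hu⟩, hQ.ge hu, ⟨a, c.B_le_group (c.H_le_B ha)⟩,
          ⟨Subgroup.mem_subgroupOf.2 (c.H_le_B ha), Subgroup.mem_subgroupOf.2 (Subgroup.mem_sup_left ha)⟩,
          Subtype.ext e⟩
      R := fun J => (D.unipotentRadical F (idx c J)).subgroupOf (D.group F)
      R_le := fun J x hx => hQ.ge (radical_le_U c _ hx)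
      R_norm := fun J x hx r hr => by
        have := (Subgroup.mem_normalizer_iff.1 (c.parabolic_le_normalizer _ (parabolic_le c J hx))
          (r : GL D.Idx F)).1 hr
        exact this
      n := fun J => (exists_n c J).choose
      n_mem := fun J => (exists_n c J).choose_spec.1
      n_spec := fun J y hy h => (exists_n c J).choose_spec.2 y (hQ.le hy) h }
  have hR : U.R Finset.univ = ⊥ := by
    show (D.unipotentRadical F (idx c Finset.univ)).subgroupOf (D.group F) = ⊥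
    rw [eq_bot_iff]
    intro x hx
    have hbot : D.unipotentRadical F (idx c (Finset.univ : Finset (c.bnPair F).S)) = ⊥ := by
      rw [eq_bot_iff]
      refine (Subgroup.closure_le _).2 ?_
      rintro g ⟨r, t, hr, hrJ, -⟩
      refine absurd (c.inRootSub_iff.2 ⟨(c.posRoot_iff.1 hr).2, fun i hi hiJ => absurd ?_ hiJ⟩) hrJ
      exact ⟨hi, ⟨⟨c.np F i, c.np_mem_group hi⟩, i, hi, c.ng_val _ _⟩, Finset.mem_univ _, rfl⟩
    rw [Subgroup.mem_subgroupOf, hbot, Subgroup.mem_bot] at hx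
    exact Subgroup.mem_bot.2 (Subtype.ext hx)
  have hcard : Nat.card (U.U : Subgroup ↥(D.group F)) = Fintype.card F ^ (D.nroots / 2) := by
    show Nat.card (Q : Subgroup ↥(D.group F)) = _
    rw [hQ, Nat.card_congr (Subgroup.subgroupOfEquivOfLe c.U_le_group).toEquiv]
    exact c.card_posUnipotent (F := F)
  rw [UCount.card_pElements U hR, hcard, ← pow_mul, mul_comm]

end Cfsg.Agent.Char.UChev
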