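import Cfsg.Agent.Lib.Char.SteinbergBN
import Mathlib.GroupTheory.Sylow

/-!
The number of `p`-elements of a finite group with a BN-pair whose parabolic subgroups have unipotent
radicals, by the alternating sums of parabolic permutation characters.
-/

set_option autoImplicit false
set_option linter.unusedSectionVars false
set_option linter.style.haveILetI false

namespace Cfsg.Agent.Char.UCount

open Cfsg Cfsg.Agent.Lie Cfsg.Agent.Char.BNRed Cfsg.Agent.Char.StBN

universe u

variable {G : Type u} [Group G] (P : BNPair G) (p : ℕ)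

/-- Unipotent data: a Sylow subgroup in `B`, and for each set of generators a normal radical and a
representative whose conjugate meets the Sylow subgroup in that radical. -/
structure UData where
  U : Sylow p G
  U_le : (U : Subgroup G) ≤ P.B
  dec : ∀ b ∈ P.B, ∃ u ∈ (U : Subgroup G), ∃ t ∈ P.B ⊓ P.N, b = u * t
  R : Finset P.S → Subgroup G
  R_le : ∀ J, R J ≤ (U : Subgroup G)
  R_norm : ∀ J, ∀ x ∈ P.parabolic (img P J), ∀ r ∈ R J, x * r * x⁻¹ ∈ R J
  n : Finset P.S → P.N
  n_mem : ∀ J, proj P (n J) ∈ weylPara P (img P J)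
  n_spec : ∀ J, ∀ y ∈ (U : Subgroup G), (n J : G)⁻¹ * y * (n J : G) ∈ P.B → y ∈ R J

/-- Fixed cosets of a standard parabolic subgroup inside another. -/
noncomputable def fixIn (J K : Finset P.S) (g : G) : ℕ :=
  Nat.card {c : G ⧸ P.parabolic (img P K) // Quotient.out c ∈ P.parabolic (img P J) ∧ g • c = c}

theorem img_mono {K J : Finset P.S} (h : K ⊆ J) : img P K ⊆ img P J :=
  Set.image_mono (Finset.coe_subset.2 h)

theorem parabolic_mono {K J : Finset P.S} (h : K ⊆ J) :
    P.parabolic (img P K) ≤ P.parabolic (img P J) :=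
  sup_le_sup_left (Subgroup.closure_mono (img_mono P h)) _

theorem weylPara_mono {K J : Finset P.S} (h : K ⊆ J) {w : Weyl P}
    (hw : w ∈ weylPara P (img P K)) : w ∈ weylPara P (img P J) := by
  obtain ⟨l, -, rfl, hl⟩ := reduced_word_of_mem P hw
  exact wprod_mem_weylPara P fun s hs => img_mono P h (hl s hs)

theorem mem_parabolic_cell {J : Finset P.S} {w : Weyl P} {x : G} (hx : x ∈ cell P w) :
    x ∈ P.parabolic (img P J) ↔ w ∈ weylPara P (img P J) := by
  rw [mem_parabolic_iff P (img_subset P J)]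
  exact ⟨fun ⟨v, hv, hxv⟩ => cell_unique P hxv hx ▸ hv, fun hw => ⟨w, hw, hx⟩⟩

theorem out_mem_iff {J K : Finset P.S} (h : K ⊆ J) (x : G) :
    Quotient.out ((x : G) : G ⧸ P.parabolic (img P K)) ∈ P.parabolic (img P J) ↔
      x ∈ P.parabolic (img P J) := by
  obtain ⟨b, hb⟩ := QuotientGroup.mk_out_eq_mul (P.parabolic (img P K)) x
  rw [hb]
  exact ⟨fun hx => by simpa using mul_mem hx (inv_mem (parabolic_mono P h b.2)),
    fun hx => mul_mem hx (parabolic_mono P h b.2)⟩

variable [Finite G]

theorem fixIn_eq {J K : Finset P.S} (h : K ⊆ J) {b : G} (hb : b ∈ P.B) [Fintype (Weyl P)]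
    [DecidablePred fun w : Weyl P => RA P (img P K) w ∧ w ∈ weylPara P (img P J)] :
    fixIn P J K b = ∑ w ∈ Finset.univ.filter (fun w => RA P (img P K) w ∧ w ∈ weylPara P (img P J)),
      cellFix P w b := by
  classical
  have hK := img_subset P K
  let π : G ⧸ P.B → G ⧸ P.parabolic (img P K) := Subgroup.quotientMapOfLE (B_le_parabolic P _)
  have hπ : ∀ (g : G) (c : G ⧸ P.B), π (g • c) = g • π c := by
    intro g c
    induction c using QuotientGroup.induction_on with
    | _ x => rfl
  let f : (Σ w : {w // RA P (img P K) w ∧ w ∈ weylPara P (img P J)},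
      {c : G ⧸ P.B // c ∈ cellPts P w.1 ∧ b • c = c}) →
      {c : G ⧸ P.parabolic (img P K) // Quotient.out c ∈ P.parabolic (img P J) ∧ b • c = c} :=
    fun s => ⟨π s.2.1, by
      obtain ⟨⟨w, hw⟩, ⟨c, hc, hc'⟩⟩ := s
      induction c using QuotientGroup.induction_on with
      | _ x => exact (out_mem_iff P h x).2 ((mem_parabolic_cell P ((mk_mem_cellPts P).1 hc)).2 hw.2),
      by rw [← hπ, s.2.2.2]⟩
  have hf : Function.Bijective f := by
    constructor
    · rintro ⟨⟨w, hw⟩, ⟨c, hc, hc'⟩⟩ ⟨⟨w', hw'⟩, ⟨c', hd, hd'⟩⟩ e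
      have h' : π c = π c' := congrArg Subtype.val e
      induction c using QuotientGroup.induction_on with
      | _ x =>
        induction c' using QuotientGroup.induction_on with
        | _ y =>
          obtain ⟨rfl, hB⟩ := mem_B_of_same_coset P hK hw.1 hw'.1 ((mk_mem_cellPts P).1 hc)
            ((mk_mem_cellPts P).1 hd) (QuotientGroup.eq.1 h')
          have : (x : G ⧸ P.B) = (y : G ⧸ P.B) := QuotientGroup.eq.2 hB
          simp only [this]
    · rintro ⟨c, hcJ, hc⟩
      induction c using QuotientGroup.induction_on with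
      | _ z =>
        obtain ⟨u, hu⟩ := exists_cell P z
        obtain ⟨w, -, hw, a, ha, v, hv, rfl, hl⟩ := exists_decomp P ∅ (img P K) u
        rw [weylPara_empty, Subgroup.mem_bot] at ha
        subst ha
        rw [one_mul] at hu
        obtain ⟨x, hx, y, hy, rfl⟩ := cell_split P (len_mul P hw hv) hu
        have hyQ : y ∈ P.parabolic (img P K) := (mem_parabolic_iff P hK).2 ⟨v, hv, hy⟩
        have hxy : ((x * y : G) : G ⧸ P.parabolic (img P K)) = (x : G ⧸ P.parabolic (img P K)) :=
          QuotientGroup.eq.2 (by simpa using inv_mem hyQ)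
        have hwJ : w ∈ weylPara P (img P J) := by
          refine (mem_parabolic_cell P hx).1 ?_
          have := mul_mem ((out_mem_iff P h (x * y)).1 hcJ) (inv_mem (parabolic_mono P h hyQ))
          simpa using this
        have hc' : b • (x : G ⧸ P.parabolic (img P K)) = (x : G ⧸ P.parabolic (img P K)) := by
          rw [← hxy]; exact hc
        have hbx : b • (x : G ⧸ P.B) = (x : G ⧸ P.B) := by
          refine QuotientGroup.eq.2 ?_
          exact (mem_B_of_same_coset P hK hw hw (cell_B_mul P hb hx) hx (QuotientGroup.eq.1 hc')).2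
        exact ⟨⟨⟨w, hw, hwJ⟩, ⟨(x : G ⧸ P.B), (mk_mem_cellPts P).2 hx, hbx⟩⟩, Subtype.ext hxy.symm⟩
  rw [fixIn, ← Nat.card_eq_of_bijective f hf, Nat.card_sigma]
  exact (Finset.sum_subtype
    (Finset.univ.filter (fun w => RA P (img P K) w ∧ w ∈ weylPara P (img P J)))
    (by simp) (fun w => cellFix P w b)).symm

/-- Inside a parabolic Weyl group, all descents on the left make every length a difference. -/
theorem len_add_of_descents {J : Set G} {x : Weyl P}
    (hx : ∀ s : P.S, (s : G) ∈ J → len P (Lie.refl P s * x) < len P x) (hJ : J ⊆ P.S) :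
    ∀ u ∈ weylPara P J, len P u + len P (u⁻¹ * x) = len P x := by
  intro u hu
  induction hn : len P u using Nat.strong_induction_on generalizing u with
  | _ n ih =>
  subst hn
  by_cases h1 : u = 1
  · simp [h1, len_one]
  obtain ⟨l, hl, rfl, hlJ⟩ := reduced_word_of_mem P hu
  match l, hl, hlJ with
  | [], _, _ => exact absurd rfl h1
  | r :: l, hl, hlJ =>
    rw [List.length_cons, wprod_cons] at hl
    rw [wprod_cons]
    have hr : (r : G) ∈ J := hlJ r List.mem_cons_self
    have hl2 : l.length = len P (wprod P l) := by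
      have h := len_le P l
      have h' := len_refl_mul_le P r (wprod P l)
      omega
    have hi := ih _ (by rw [wprod_cons]; omega) (wprod P l)
      (wprod_mem_weylPara P fun s hs => hlJ s (List.mem_cons_of_mem _ hs)) rfl
    obtain ⟨y, hy, ey⟩ := exists_reduced P ((wprod P l)⁻¹ * x)
    have hx' : wprod P (l ++ y) = x := by rw [wprod_append, ey, mul_inv_cancel_left]
    have hred : (l ++ y).length = len P (wprod P (l ++ y)) := by
      rw [hx', List.length_append, hy, hl2, hi]
    obtain ⟨i, hi', e⟩ := exchange P (l ++ y) hred (hx' ▸ hx r hr)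
    rcases lt_or_ge i l.length with h | h
    · exfalso
      rw [List.eraseIdx_append_of_lt_length h, wprod_append, wprod_append, ← mul_assoc] at e
      have e' := mul_right_cancel e
      have := len_le P (l.eraseIdx i)
      rw [← e', List.length_eraseIdx_of_lt h] at this
      omega
    · rw [List.eraseIdx_append_of_length_le h, wprod_append, wprod_append] at e
      have hsz : i - l.length < y.length := by rw [List.length_append] at hi'; omega
      set y' := y.eraseIdx (i - l.length) with hy'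
      have e3 : (Lie.refl P r * wprod P l)⁻¹ * x = wprod P y' := by
        rw [inv_mul_eq_iff_eq_mul, ← hx', wprod_append]
        conv_rhs => rw [mul_assoc, ← e, refl_cancel]
      have hy'' := len_le P y'
      rw [hy', List.length_eraseIdx_of_lt hsz] at hy''
      rw [e3, hy']
      have h4 := BNRed.len_mul_le P (Lie.refl P r * wprod P l) (wprod P y')
      rw [← e3, mul_inv_cancel_left, e3, hy'] at h4
      omega

theorem descents_unique {J : Set G} (hJ : J ⊆ P.S) {w w' : Weyl P} (hw : w ∈ weylPara P J)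
    (hw' : w' ∈ weylPara P J)
    (h : ∀ s : P.S, (s : G) ∈ J → ¬ len P w < len P (w * Lie.refl P s))
    (h' : ∀ s : P.S, (s : G) ∈ J → ¬ len P w' < len P (w' * Lie.refl P s)) : w = w' := by
  have key : ∀ {w : Weyl P}, (∀ s : P.S, (s : G) ∈ J → ¬ len P w < len P (w * Lie.refl P s)) →
      ∀ s : P.S, (s : G) ∈ J → len P (Lie.refl P s * w⁻¹) < len P w⁻¹ := by
    intro w h s hs
    have e : len P (Lie.refl P s * w⁻¹) = len P (w * Lie.refl P s) := by
      rw [← Lie.len_inv P (w * Lie.refl P s), mul_inv_rev, Lie.refl_inv]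
    have hne := len_refl_mul_ne P s w⁻¹
    have := h s hs
    rw [e, Lie.len_inv] at *
    omega
  have h1 := len_add_of_descents P (key h) hJ _ (inv_mem hw')
  have h2 := len_add_of_descents P (key h') hJ _ (inv_mem hw)
  simp only [Lie.len_inv, inv_inv] at h1 h2
  have h3 : len P (w' * w⁻¹) = 0 := by
    have := Lie.len_inv P (w' * w⁻¹)
    rw [mul_inv_rev, inv_inv] at this
    omega
  exact (mul_inv_eq_one.1 (eq_one_of_len P _ h3)).symm

/-- Cosets in a cell multiply. -/
theorem cellFix_mul {K : Set G} (hK : K ⊆ P.S) {w v : Weyl P} (hw : RA P K w)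
    (hv : v ∈ weylPara P K) : cellFix P (w * v) 1 = cellFix P w 1 * cellFix P v 1 := by
  classical
  have hadd := BNRed.len_mul P hw hv
  let X := fun u : Weyl P => {c : G ⧸ P.B // c ∈ cellPts P u ∧ (1 : G) • c = c}
  let f : X w × X v → X (w * v) := fun q => ⟨((Quotient.out q.1.1 * Quotient.out q.2.1 : G) : G ⧸ P.B),
    (mk_mem_cellPts P).2 (mul_cell_add P hadd q.1.2.1 q.2.2.1), one_smul _ _⟩
  have hinK : ∀ t ∈ cell P v, t ∈ P.parabolic K := fun t ht =>
    (mem_parabolic_iff P hK).2 ⟨v, hv, ht⟩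
  have hf : Function.Bijective f := by
    constructor
    · rintro ⟨c, d⟩ ⟨c', d'⟩ e
      have e' := QuotientGroup.eq.1 (congrArg Subtype.val e :)
      set a := Quotient.out c.1
      set a' := Quotient.out c'.1
      have hq : a⁻¹ * a' ∈ P.parabolic K := by
        have := mul_mem (mul_mem (hinK _ d.2.1) (B_le_parabolic P _ e')) (inv_mem (hinK _ d'.2.1))
        simpa [mul_assoc] using this
      obtain ⟨-, hB⟩ := mem_B_of_same_coset P hK hw hw c.2.1 c'.2.1 hq
      have hcc : c.1 = c'.1 := by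
        rw [← QuotientGroup.out_eq' c.1, ← QuotientGroup.out_eq' c'.1]
        exact QuotientGroup.eq.2 hB
      have hc : c = c' := Subtype.ext hcc
      subst hc
      have hdd : d.1 = d'.1 := by
        rw [← QuotientGroup.out_eq' d.1, ← QuotientGroup.out_eq' d'.1]
        exact QuotientGroup.eq.2 (by simpa [a, a', mul_assoc] using e')
      rw [show d = d' from Subtype.ext hdd]
    · rintro ⟨c, hc, hc'⟩
      induction c using QuotientGroup.induction_on with
      | _ z =>
        obtain ⟨x, hx, y, hy, rfl⟩ := cell_split P hadd ((mk_mem_cellPts P).1 hc)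
        obtain ⟨b, hb⟩ := QuotientGroup.mk_out_eq_mul P.B x
        have hy' : (b : G)⁻¹ * y ∈ cell P v := cell_B_mul P (inv_mem b.2) hy
        obtain ⟨b', hb'⟩ := QuotientGroup.mk_out_eq_mul P.B ((b : G)⁻¹ * y)
        refine ⟨(⟨(x : G ⧸ P.B), (mk_mem_cellPts P).2 hx, one_smul _ _⟩,
          ⟨(((b : G)⁻¹ * y : G) : G ⧸ P.B), (mk_mem_cellPts P).2 hy', one_smul _ _⟩),
          Subtype.ext (QuotientGroup.eq.2 ?_)⟩
        show (Quotient.out (x : G ⧸ P.B) * Quotient.out (((b : G)⁻¹ * y : G) : G ⧸ P.B))⁻¹ * (x * y) ∈ P.B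
        rw [hb, hb']
        simp [mul_assoc]
  show Nat.card (X (w * v)) = Nat.card (X w) * Nat.card (X v)
  rw [← Nat.card_eq_of_bijective f hf, Nat.card_prod]

variable {P p} (D : UData P p)

/-- The size of the top cell of a parabolic subgroup. -/
noncomputable def top (J : Finset P.S) : ℕ := cellFix P (proj P (D.n J)) 1

theorem n_mem_parabolic (J : Finset P.S) : (D.n J : G) ∈ P.parabolic (img P J) :=
  (mem_parabolic_cell P (mem_cell_self P (D.n J))).2 (D.n_mem J)

theorem stab_le {J : Finset P.S} {m : P.N} (hm : (m : G) ∈ P.parabolic (img P J)) :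
    stabB P (D.n J : G) ≤ stabB P (m : G) := by
  intro y hy
  rw [mem_stabB] at hy ⊢
  obtain ⟨u, hu, t, ht, e⟩ := D.dec y y.2
  have htn : ∀ k : P.N, (k : G)⁻¹ * t * k ∈ P.B := fun k => by
    simpa using P.conj_mem _ (inv_mem k.2) t ht
  have hu' : (D.n J : G)⁻¹ * u * (D.n J : G) ∈ P.B := by
    have := mul_mem hy (inv_mem (htn (D.n J)))
    simpa [e, mul_assoc] using this
  have hr := D.R_norm J _ (inv_mem hm) u (D.n_spec J u hu hu')
  rw [inv_inv] at hr
  have := mul_mem (D.U_le (D.R_le J hr)) (htn m)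
  simpa [e, mul_assoc] using this

theorem top_no_ascent {J : Finset P.S} {s : P.S} (hs : s ∈ J) :
    ¬ len P (proj P (D.n J)) < len P (proj P (D.n J) * Lie.refl P s) := by
  intro hlt
  have h1 := cellFix_lt P hlt
  rw [Lie.refl, ← map_mul, cellFix_one, cellFix_one] at h1
  have hm : ((D.n J * sN P s : P.N) : G) ∈ P.parabolic (img P J) :=
    mul_mem (n_mem_parabolic D J) (Subgroup.mem_sup_right (Subgroup.subset_closure ((mem_img P).2 hs)))
  have h2 := Subgroup.index_dvd_of_le (stab_le D hm)
  exact absurd (Nat.le_of_dvd (Nat.pos_of_ne_zero Subgroup.index_ne_zero_of_finite) h2) (not_le.2 h1)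

theorem eq_top {J : Finset P.S} {w : Weyl P} (hw : w ∈ weylPara P (img P J))
    (h : ∀ s ∈ J, ¬ len P w < len P (w * Lie.refl P s)) : w = proj P (D.n J) :=
  descents_unique P (img_subset P J) hw (D.n_mem J) (fun s hs => h s ((mem_img P).1 hs))
    (fun _ hs => top_no_ascent D ((mem_img P).1 hs))

/-- The alternating sum inside a parabolic subgroup. -/
noncomputable def altIn (J : Finset P.S) (g : G) : ℤ :=
  ∑ K ∈ J.powerset, (-1 : ℤ) ^ K.card * (fixIn P J K g : ℤ)

theorem altIn_on_B (J : Finset P.S) {b : G} (hb : b ∈ P.B) :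
    altIn J b = (cellFix P (proj P (D.n J)) b : ℤ) := by
  classical
  haveI := Fintype.ofFinite (Weyl P)
  have e1 : ∀ K ∈ J.powerset, (-1 : ℤ) ^ K.card * (fixIn P J K b : ℤ) =
      ∑ w : Weyl P, if RA P (img P K) w ∧ w ∈ weylPara P (img P J) then
        (-1 : ℤ) ^ K.card * (cellFix P w b : ℤ) else 0 := by
    intro K hK
    rw [fixIn_eq P (Finset.mem_powerset.1 hK) hb, Nat.cast_sum, Finset.mul_sum, Finset.sum_filter]
  have e2 : ∀ w : Weyl P, (∑ K ∈ J.powerset, if RA P (img P K) w ∧ w ∈ weylPara P (img P J) then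
        (-1 : ℤ) ^ K.card * (cellFix P w b : ℤ) else 0) =
      if w = proj P (D.n J) then (cellFix P w b : ℤ) else 0 := by
    intro w
    by_cases hwJ : w ∈ weylPara P (img P J)
    · rw [← Finset.sum_filter]
      have hset : (J.powerset.filter fun K : Finset P.S => RA P (img P K) w ∧ w ∈ weylPara P (img P J)) =
          (J.filter fun s => len P w < len P (w * Lie.refl P s)).powerset := by
        ext K
        simp only [Finset.mem_filter, Finset.mem_powerset, hwJ, and_true]
        exact ⟨fun hh s hs => Finset.mem_filter.2 ⟨hh.1 hs, hh.2 s ((mem_img P).2 hs)⟩,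
          fun hh => ⟨fun s hs => (Finset.mem_filter.1 (hh hs)).1,
            fun s hs => (Finset.mem_filter.1 (hh ((mem_img P).1 hs))).2⟩⟩
      rw [hset, ← Finset.sum_mul, Finset.sum_powerset_neg_one_pow_card]
      have hiff : (J.filter fun s => len P w < len P (w * Lie.refl P s)) = ∅ ↔ w = proj P (D.n J) := by
        rw [Finset.filter_eq_empty_iff]
        exact ⟨fun hh => eq_top D hwJ fun s hs => hh hs, fun e s hs => e ▸ top_no_ascent D hs⟩
      simp only [hiff, ite_mul, one_mul, zero_mul]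
    · rw [if_neg (fun e : w = proj P (D.n J) => hwJ (e ▸ D.n_mem J))]
      exact Finset.sum_eq_zero fun K _ => if_neg fun hh => hwJ hh.2
  rw [altIn, Finset.sum_congr rfl e1, Finset.sum_comm, Finset.sum_congr rfl fun w _ => e2 w,
    Finset.sum_ite_eq', if_pos (Finset.mem_univ _)]

/-- The identity between indices and top cells. -/
theorem alt_identity (J : Finset P.S) :
    ∑ K ∈ J.powerset, (-1 : ℤ) ^ K.card * ((fixIn P J K 1 : ℤ) * (top D K : ℤ)) = 1 := by
  classical
  haveI := Fintype.ofFinite (Weyl P)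
  have e1 : ∀ K ∈ J.powerset, (-1 : ℤ) ^ K.card * ((fixIn P J K 1 : ℤ) * (top D K : ℤ)) =
      ∑ v : Weyl P, if v ∈ weylPara P (img P J) ∧
          (∀ s ∈ K, ¬ len P v < len P (v * Lie.refl P s)) then
        (-1 : ℤ) ^ K.card * (cellFix P v 1 : ℤ) else 0 := by
    intro K hK
    have hKJ := Finset.mem_powerset.1 hK
    rw [fixIn_eq P hKJ (one_mem _), Nat.cast_sum, Finset.sum_mul, Finset.mul_sum, ← Finset.sum_filter]
    refine Finset.sum_bij (fun w _ => w * proj P (D.n K)) ?_ ?_ ?_ ?_
    · intro w hw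
      obtain ⟨-, hRA, hwJ⟩ := Finset.mem_filter.1 hw
      refine Finset.mem_filter.2 ⟨Finset.mem_univ _, mul_mem hwJ (weylPara_mono P hKJ (D.n_mem K)),
        fun s hs hlt => top_no_ascent D hs ?_⟩
      have h1 := BNRed.len_mul P hRA (D.n_mem K)
      have h2 := BNRed.len_mul_le P w (proj P (D.n K) * Lie.refl P s)
      rw [← mul_assoc] at h2
      omega
    · intro a _ b _ e
      exact mul_right_cancel e
    · intro v hv
      obtain ⟨-, hvJ, hdesc⟩ := Finset.mem_filter.1 hv
      obtain ⟨w, -, hw, a, ha, d, hd, e, -⟩ := exists_decomp P ∅ (img P K) v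
      rw [weylPara_empty, Subgroup.mem_bot] at ha
      subst ha
      rw [one_mul] at e
      subst e
      have hdn : d = proj P (D.n K) := by
        refine eq_top D hd fun s hs hlt => hdesc s hs ?_
        rw [mul_assoc, BNRed.len_mul P hw hd,
          BNRed.len_mul P hw (mul_mem hd (refl_mem_weylPara P ((mem_img P).2 hs)))]
        omega
      have hwJ : w ∈ weylPara P (img P J) := by
        have := mul_mem hvJ (inv_mem (weylPara_mono P hKJ hd))
        simpa using this
      exact ⟨w, Finset.mem_filter.2 ⟨Finset.mem_univ _, hw, hwJ⟩, by rw [← hdn]⟩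
    · intro w hw
      obtain ⟨-, hRA, -⟩ := Finset.mem_filter.1 hw
      rw [top, ← Nat.cast_mul, cellFix_mul P (img_subset P K) hRA (D.n_mem K)]
  have e2 : ∀ v : Weyl P, (∑ K ∈ J.powerset, if v ∈ weylPara P (img P J) ∧
          (∀ s ∈ K, ¬ len P v < len P (v * Lie.refl P s)) then
        (-1 : ℤ) ^ K.card * (cellFix P v 1 : ℤ) else 0) = if v = 1 then 1 else 0 := by
    intro v
    by_cases hvJ : v ∈ weylPara P (img P J)
    · rw [← Finset.sum_filter]
      have hset : (J.powerset.filter fun K : Finset P.S => v ∈ weylPara P (img P J) ∧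
          (∀ s ∈ K, ¬ len P v < len P (v * Lie.refl P s))) =
          (J.filter fun s => ¬ len P v < len P (v * Lie.refl P s)).powerset := by
        ext K
        simp only [Finset.mem_filter, Finset.mem_powerset, hvJ, true_and]
        exact ⟨fun hh s hs => Finset.mem_filter.2 ⟨hh.1 hs, hh.2 s hs⟩,
          fun hh => ⟨fun s hs => (Finset.mem_filter.1 (hh hs)).1,
            fun s hs => (Finset.mem_filter.1 (hh hs)).2⟩⟩
      rw [hset, ← Finset.sum_mul, Finset.sum_powerset_neg_one_pow_card]
      have hiff : (J.filter fun s => ¬ len P v < len P (v * Lie.refl P s)) = ∅ ↔ v = 1 := by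
        rw [Finset.filter_eq_empty_iff]
        constructor
        · intro hh
          by_contra hne
          obtain ⟨l, hl, rfl, hlJ⟩ := reduced_word_of_mem P hvJ
          rcases List.eq_nil_or_concat l with rfl | ⟨l', r, rfl⟩
          · exact hne (wprod_nil P)
          · refine hh ((mem_img P).1 (hlJ r (by simp))) ?_
            have := len_le P l'
            simp only [List.concat_eq_append, List.length_append, List.length_singleton] at hl
            rw [List.concat_eq_append, wprod_append, wprod_cons, wprod_nil, mul_one, mul_assoc,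
              refl_mul_self, mul_one]
            rw [wprod_append, wprod_cons, wprod_nil, mul_one] at hl
            omega
        · rintro rfl s - hh
          exact hh (by rw [len_one, one_mul, len_refl]; exact one_pos)
      by_cases hv1 : v = 1
      · subst hv1
        rw [if_pos (hiff.2 rfl), if_pos rfl, one_mul]
        have : cellFix P (1 : Weyl P) 1 = 1 := by
          rw [show (1 : Weyl P) = proj P 1 from (map_one _).symm, cellFix_one, Subgroup.index_eq_one]
          rw [eq_top_iff]
          intro y _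
          rw [mem_stabB]
          simp
        rw [this, Nat.cast_one]
      · rw [if_neg (fun e => hv1 (hiff.1 e)), if_neg hv1, zero_mul]
    · rw [if_neg (fun e : v = 1 => hvJ (e ▸ one_mem _))]
      exact Finset.sum_eq_zero fun K _ => if_neg fun hh => hvJ hh.1
  rw [Finset.sum_congr rfl e1, Finset.sum_comm, Finset.sum_congr rfl fun w _ => e2 w,
    Finset.sum_ite_eq', if_pos (Finset.mem_univ _)]

/-- The `p`-elements of a parabolic subgroup. -/
def pEl (P : BNPair G) (p : ℕ) (J : Finset P.S) : Set G :=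
  {g | g ∈ P.parabolic (img P J) ∧ ∃ k : ℕ, g ^ p ^ k = 1}

theorem pEl_conj {J : Finset P.S} {x g : G} (hx : x ∈ P.parabolic (img P J)) (hg : g ∈ pEl P p J) :
    x * g * x⁻¹ ∈ pEl P p J := by
  obtain ⟨hgJ, k, hk⟩ := hg
  exact ⟨mul_mem (mul_mem hx hgJ) (inv_mem hx), k, by rw [conj_pow, hk, mul_one, mul_inv_cancel]⟩

theorem fixIn_conj {J K : Finset P.S} (h : K ⊆ J) {x : G} (hx : x ∈ P.parabolic (img P J)) (g : G) :
    fixIn P J K (x * g * x⁻¹) = fixIn P J K g := by
  have hout : ∀ (y : G) (c : G ⧸ P.parabolic (img P K)), y ∈ P.parabolic (img P J) →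
      Quotient.out c ∈ P.parabolic (img P J) → Quotient.out (y • c) ∈ P.parabolic (img P J) := by
    intro y c hy hc
    induction c using QuotientGroup.induction_on with
    | _ z => exact (out_mem_iff P h (y * z)).2 (mul_mem hy ((out_mem_iff P h z).1 hc))
  symm
  refine Nat.card_congr
    { toFun := fun c => ⟨x • c.1, hout x c.1 hx c.2.1, by
        rw [mul_smul, mul_smul, inv_smul_smul, c.2.2]⟩
      invFun := fun c => ⟨x⁻¹ • c.1, hout x⁻¹ c.1 (inv_mem hx) c.2.1, by
        have := c.2.2
        rw [mul_smul, mul_smul, ← eq_inv_smul_iff] at this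
        exact this⟩
      left_inv := fun c => Subtype.ext (inv_smul_smul x c.1)
      right_inv := fun c => Subtype.ext (smul_inv_smul x c.1) }

/-- Double counting. -/
theorem sum_fixIn [Fintype G] {J K : Finset P.S} (h : K ⊆ J) [Fintype (pEl P p J)] :
    ∑ g : pEl P p J, fixIn P J K g = fixIn P J K 1 * Nat.card (pEl P p K) := by
  classical
  let X := {c : G ⧸ P.parabolic (img P K) // Quotient.out c ∈ P.parabolic (img P J)}
  have e0 : ∀ g : G, fixIn P J K g = Nat.card {c : X // g • c.1 = c.1} := fun g =>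
    Nat.card_congr ((Equiv.subtypeSubtypeEquivSubtypeInter
      (fun c : G ⧸ P.parabolic (img P K) => Quotient.out c ∈ P.parabolic (img P J))
      (fun c => g • c = c)).symm)
  have e1 : fixIn P J K 1 = Nat.card X := Nat.card_congr
    { toFun := fun c => ⟨c.1, c.2.1⟩
      invFun := fun c => ⟨c.1, c.2, one_smul _ _⟩
      left_inv := fun _ => rfl
      right_inv := fun _ => rfl }
  simp only [e0] at *
  rw [← Nat.card_sigma, e1, ← Nat.card_prod]
  refine Nat.card_congr
    { toFun := fun q => (q.2.1, ⟨(Quotient.out q.2.1.1)⁻¹ * q.1.1 * Quotient.out q.2.1.1, ?_⟩)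
      invFun := fun q => ⟨⟨Quotient.out q.1.1 * q.2.1 * (Quotient.out q.1.1)⁻¹,
        pEl_conj q.1.2 ⟨parabolic_mono P h q.2.2.1, q.2.2.2⟩⟩, ⟨q.1, ?_⟩⟩
      left_inv := fun q => ?_
      right_inv := fun q => ?_ }
  · obtain ⟨⟨g, hg⟩, ⟨⟨c, hc⟩, hfix⟩⟩ := q
    refine ⟨?_, ?_⟩
    · have h2 : (((g * Quotient.out c : G)) : G ⧸ P.parabolic (img P K)) = (Quotient.out c : G) := by
        rw [QuotientGroup.out_eq']
        calc _ = g • ((Quotient.out c : G) : G ⧸ P.parabolic (img P K)) := rfl
          _ = c := by rw [QuotientGroup.out_eq']; exact hfix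
      have := inv_mem (QuotientGroup.eq.1 h2)
      simpa [mul_assoc] using this
    · obtain ⟨k, hk⟩ := hg.2
      refine ⟨k, ?_⟩
      have := conj_pow (i := p ^ k) (a := (Quotient.out c)⁻¹) (b := g)
      rw [inv_inv] at this
      rw [this, hk]
      simp
  · obtain ⟨⟨c, hc⟩, ⟨y, hy⟩⟩ := q
    show (Quotient.out c * y * (Quotient.out c)⁻¹) • c = c
    conv_lhs => arg 2; rw [← QuotientGroup.out_eq' c]
    rw [MulAction.Quotient.smul_coe, smul_eq_mul, inv_mul_cancel_right]
    conv_rhs => rw [← QuotientGroup.out_eq' c]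
    exact QuotientGroup.eq.2 (by simpa [mul_assoc] using inv_mem hy.1)
  · refine Sigma.subtype_ext (Subtype.ext ?_) rfl
    simp [mul_assoc]
  · refine Prod.ext rfl (Subtype.ext ?_)
    simp [mul_assoc]

theorem exists_conj_U (J : Finset P.S) [Fact p.Prime] {g : G} (hg : g ∈ pEl P p J) :
    ∃ x ∈ P.parabolic (img P J), x⁻¹ * g * x ∈ (D.U : Subgroup G) := by
  set H := P.parabolic (img P J)
  have hUH : (D.U : Subgroup G) ≤ H := D.U_le.trans (B_le_parabolic P _)
  let Q : Sylow p H := D.U.subtype hUH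
  obtain ⟨hgH, k, hk⟩ := hg
  have hp : IsPGroup p (Subgroup.zpowers (⟨g, hgH⟩ : H)) := by
    obtain ⟨j, -, hj⟩ := (Nat.dvd_prime_pow (Fact.out : p.Prime)).1
      (orderOf_dvd_of_pow_eq_one (show (⟨g, hgH⟩ : H) ^ p ^ k = 1 from Subtype.ext hk))
    exact IsPGroup.of_card (n := j) (by rw [Nat.card_zpowers, hj])
  obtain ⟨R, hR⟩ := hp.exists_le_sylow
  obtain ⟨y, hy⟩ := MulAction.exists_smul_eq H R Q
  refine ⟨(y : G)⁻¹, inv_mem y.2, ?_⟩
  have : y * (⟨g, hgH⟩ : H) * y⁻¹ ∈ (Q : Subgroup H) := by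
    rw [← hy, Sylow.coe_subgroup_smul]
    exact ⟨⟨g, hgH⟩, hR (Subgroup.mem_zpowers _), rfl⟩
  rw [inv_inv]
  exact this

theorem sum_altIn [Fintype G] [Fact p.Prime] (J : Finset P.S) [Fintype (pEl P p J)] :
    ∑ g : pEl P p J, altIn J g = (Nat.card (D.U : Subgroup G) : ℤ) := by
  classical
  set U := (D.U : Subgroup G)
  have hUsub : ∀ u ∈ U, u ∈ pEl P p J := fun u hu => by
    obtain ⟨k, hk⟩ := D.U.isPGroup' ⟨u, hu⟩
    exact ⟨B_le_parabolic P _ (D.U_le hu), k, congrArg Subtype.val hk⟩
  have hstab : ∀ u : U, altIn J u = (Nat.card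
      (MulAction.fixedBy (P.B ⧸ stabB P (D.n J : G)) (⟨u, D.U_le u.2⟩ : P.B)) : ℤ) := by
    intro u
    rw [altIn_on_B D J (D.U_le u.2)]
    have := cellFix_eq P (D.n J) ⟨u, D.U_le u.2⟩
    rw [fixedPointCharacter, Nat.cast_inj] at this
    rw [this]
  have hzero : ∀ g : pEl P p J, (g : G) ∉ U → altIn J g = 0 := by
    intro g hg
    obtain ⟨x, hx, hxU⟩ := exists_conj_U D J g.2
    have e : altIn J (g : G) = altIn J (x⁻¹ * g * x) := by
      refine Finset.sum_congr rfl fun K hK => ?_
      have := fixIn_conj (Finset.mem_powerset.1 hK) (inv_mem hx) (g : G)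
      rw [inv_inv] at this
      rw [this]
    rw [e, hstab ⟨_, hxU⟩, Nat.cast_eq_zero, Nat.card_eq_zero]
    refine Or.inl ⟨?_⟩
    rintro ⟨c, hc⟩
    induction c using QuotientGroup.induction_on with
    | _ z =>
      apply hg
      obtain ⟨u', hu', t, ht, e'⟩ := D.dec z z.2
      have htn : ∀ k : P.N, (k : G)⁻¹ * t * k ∈ P.B := fun k => by
        simpa using P.conj_mem _ (inv_mem k.2) t ht
      have h1 := (mem_stabB P).1 (QuotientGroup.eq.1 hc)
      set v := u'⁻¹ * (x⁻¹ * g * x) * u' with hv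
      have hvU : v ∈ U := mul_mem (mul_mem (inv_mem hu') hxU) hu'
      have hnv : (D.n J : G)⁻¹ * v * (D.n J : G) ∈ P.B := by
        have h2 := inv_mem (mul_mem (mul_mem (htn (D.n J)) h1) (inv_mem (htn (D.n J))))
        simpa [hv, e', mul_assoc] using h2
      have hr := D.R_norm J _ (mul_mem hx (B_le_parabolic P _ (D.U_le hu'))) v (D.n_spec J v hvU hnv)
      refine D.R_le J ?_
      simpa [hv, mul_assoc] using hr
  have h2 : ∑ g : pEl P p J, altIn J g = ∑ u : U, altIn J u := by
    rw [← Finset.sum_filter_add_sum_filter_not Finset.univ (fun g : pEl P p J => (g : G) ∈ U),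
      Finset.sum_eq_zero (s := Finset.univ.filter fun g : pEl P p J => ¬ (g : G) ∈ U)
        (fun g hg => hzero g (Finset.mem_filter.1 hg).2), add_zero]
    refine Finset.sum_bij (fun g hg => (⟨g, (Finset.mem_filter.1 hg).2⟩ : U)) (fun _ _ => Finset.mem_univ _)
      (fun a _ b _ e => Subtype.ext (congrArg (fun z : U => (z : G)) e)) (fun u _ => ⟨⟨u, hUsub u u.2⟩,
        Finset.mem_filter.2 ⟨Finset.mem_univ _, u.2⟩, rfl⟩) (fun _ _ => rfl)
  rw [h2, Finset.sum_congr rfl fun u _ => hstab u, ← Nat.cast_sum, Nat.cast_inj]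
  letI : MulAction U (P.B ⧸ stabB P (D.n J : G)) :=
    MulAction.compHom _ (Subgroup.inclusion D.U_le)
  haveI : MulAction.IsPretransitive U (P.B ⧸ stabB P (D.n J : G)) := by
    refine MulAction.IsPretransitive.mk fun a b => ?_
    suffices H : ∀ a : P.B ⧸ stabB P (D.n J : G), ∃ u : U,
        u • ((1 : P.B) : P.B ⧸ stabB P (D.n J : G)) = a by
      obtain ⟨u, rfl⟩ := H a
      obtain ⟨v, rfl⟩ := H b
      exact ⟨v * u⁻¹, by rw [mul_smul, inv_smul_smul]⟩
    intro a
    induction a using QuotientGroup.induction_on with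
    | _ z =>
      obtain ⟨u', hu', t, ht, e'⟩ := D.dec z z.2
      refine ⟨⟨u', hu'⟩, ?_⟩
      show ((Subgroup.inclusion D.U_le ⟨u', hu'⟩ * 1 : P.B) : P.B ⧸ stabB P (D.n J : G)) = z
      refine QuotientGroup.eq.2 ((mem_stabB P).2 ?_)
      have := P.conj_mem _ (inv_mem (D.n J).2) t ht
      simpa [e', mul_assoc] using this
  haveI : Subsingleton (MulAction.orbitRel.Quotient U (P.B ⧸ stabB P (D.n J : G))) :=
    MulAction.pretransitive_iff_subsingleton_quotient U _ |>.1 inferInstance
  have hb := MulAction.sum_card_fixedBy_eq_card_orbits_mul_card_group U (P.B ⧸ stabB P (D.n J : G))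
  rw [show Fintype.card (Quotient (MulAction.orbitRel U (P.B ⧸ stabB P (D.n J : G)))) = 1 from
    Fintype.card_eq_one_iff.2 ⟨Quotient.mk'' ((1 : P.B) : P.B ⧸ stabB P (D.n J : G)),
      fun y => Subsingleton.elim (α := MulAction.orbitRel.Quotient U (P.B ⧸ stabB P (D.n J : G))) _ _⟩,
    one_mul] at hb
  rw [Nat.card_eq_fintype_card, ← hb]
  refine Finset.sum_congr rfl fun u _ => ?_
  rw [Nat.card_eq_fintype_card]
  rfl

theorem card_pEl [Fact p.Prime] (J : Finset P.S) :
    (Nat.card (pEl P p J) : ℤ) = (Nat.card (D.U : Subgroup G) : ℤ) * top D J := by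
  classical
  haveI := Fintype.ofFinite G
  induction J using Finset.strongInduction with
  | _ J ih =>
  have h1 : ∑ K ∈ J.powerset, (-1 : ℤ) ^ K.card * ((fixIn P J K 1 : ℤ) * (Nat.card (pEl P p K) : ℤ)) =
      (Nat.card (D.U : Subgroup G) : ℤ) := by
    rw [← sum_altIn D J]
    simp only [altIn]
    rw [Finset.sum_comm]
    refine Finset.sum_congr rfl fun K hK => ?_
    rw [← Finset.mul_sum, ← Nat.cast_sum, sum_fixIn (Finset.mem_powerset.1 hK), Nat.cast_mul]
  have h2 := congrArg (fun z : ℤ => (Nat.card (D.U : Subgroup G) : ℤ) * z) (alt_identity D J)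
  simp only [mul_one, Finset.mul_sum] at h2
  have h3 := h1.trans h2.symm
  rw [← Finset.add_sum_erase _ _ (Finset.mem_powerset_self J),
    ← Finset.add_sum_erase _ _ (Finset.mem_powerset_self J)] at h3
  have hrest : ∑ K ∈ J.powerset.erase J,
      (-1 : ℤ) ^ K.card * ((fixIn P J K 1 : ℤ) * (Nat.card (pEl P p K) : ℤ)) =
      ∑ K ∈ J.powerset.erase J, (Nat.card (D.U : Subgroup G) : ℤ) *
        ((-1 : ℤ) ^ K.card * ((fixIn P J K 1 : ℤ) * (top D K : ℤ))) := by
    refine Finset.sum_congr rfl fun K hK => ?_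
    obtain ⟨hne, hK'⟩ := Finset.mem_erase.1 hK
    rw [ih K ((Finset.mem_powerset.1 hK').ssubset_of_ne hne)]
    ring
  rw [hrest, add_left_inj] at h3
  have hJJ : (fixIn P J J 1 : ℤ) ≠ 0 := by
    rw [Nat.cast_ne_zero]
    refine Nat.card_ne_zero.2 ⟨⟨⟨((1 : G) : G ⧸ P.parabolic (img P J)),
      (out_mem_iff P subset_rfl 1).2 (one_mem _), one_smul _ _⟩⟩, inferInstance⟩
  have h4 : ((-1 : ℤ) ^ J.card * (fixIn P J J 1 : ℤ)) *
      ((Nat.card (pEl P p J) : ℤ) - (Nat.card (D.U : Subgroup G) : ℤ) * top D J) = 0 := by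
    rw [mul_sub, mul_assoc, h3]
    ring
  rcases mul_eq_zero.1 h4 with h | h
  · exact absurd h (mul_ne_zero (pow_ne_zero _ (by norm_num)) hJJ)
  · exact sub_eq_zero.1 h

/-- The number of `p`-elements of the group. -/
theorem card_pElements [Fact p.Prime] [Fintype P.S] (hR : D.R Finset.univ = ⊥) :
    Nat.card {g : G // ∃ k : ℕ, orderOf g = p ^ k} = Nat.card (D.U : Subgroup G) ^ 2 := by
  classical
  have himg : img P (Finset.univ : Finset P.S) = P.S := by
    ext x
    exact ⟨fun h => img_subset P _ h, fun h => (mem_img P).2 (Finset.mem_univ (⟨x, h⟩ : P.S))⟩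
  have hset : {g : G | ∃ k : ℕ, orderOf g = p ^ k} = pEl P p Finset.univ := by
    ext g
    refine ⟨fun ⟨k, hk⟩ => ⟨?_, k, hk ▸ pow_orderOf_eq_one g⟩, fun ⟨_, k, hk⟩ => ?_⟩
    · rw [himg, parabolic_S]; exact Subgroup.mem_top g
    · obtain ⟨j, -, hj⟩ := (Nat.dvd_prime_pow (Fact.out : p.Prime)).1 (orderOf_dvd_of_pow_eq_one hk)
      exact ⟨j, hj⟩
  have htop : top D Finset.univ = Nat.card (D.U : Subgroup G) := by
    rw [top, cellFix_one, Subgroup.index_eq_card]
    symm
    refine Nat.card_eq_of_bijective (fun u : (D.U : Subgroup G) =>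
      ((⟨u, D.U_le u.2⟩ : P.B) : P.B ⧸ stabB P (D.n Finset.univ : G))) ⟨fun a b e => ?_, fun c => ?_⟩
    · have h1 := (mem_stabB P).1 (QuotientGroup.eq.1 e)
      have h2 := D.n_spec _ _ (mul_mem (inv_mem a.2) b.2) (by simpa [mul_assoc] using h1)
      rw [hR, Subgroup.mem_bot, inv_mul_eq_one] at h2
      exact Subtype.ext h2
    · induction c using QuotientGroup.induction_on with
      | _ z =>
        obtain ⟨u', hu', t, ht, e'⟩ := D.dec z z.2
        refine ⟨⟨u', hu'⟩, QuotientGroup.eq.2 ((mem_stabB P).2 ?_)⟩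
        have := P.conj_mem _ (inv_mem (D.n Finset.univ).2) t ht
        simpa [e', mul_assoc] using this
  have h := card_pEl D Finset.univ
  rw [htop, ← Nat.cast_mul, Nat.cast_inj] at h
  rw [sq, ← h, ← hset]
  rfl

end Cfsg.Agent.Char.UCount
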