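import Cfsg.Agent.Lib.Char.Constituent
import Mathlib.Analysis.InnerProductSpace.PiL2
import Mathlib.Analysis.SpecialFunctions.Complex.Arg
import Mathlib.Analysis.SpecialFunctions.Trigonometric.Basic
import Mathlib.GroupTheory.FiniteAbelian.Duality
import Mathlib.RingTheory.RootsOfUnity.AlgebraicallyClosed

/-!
Frobenius' lemma on elements of a finite linear group with spectrum in a short arc: they
generate an abelian normal subgroup.
-/

namespace Cfsg.Agent.Char.Arc

open scoped InnerProductSpace ComplexConjugate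
open Cfsg Module

universe u

variable {G : Type u} [Group G] [Fintype G] {n : ℕ} (ρ : Representation ℂ G (Fin n → ℂ))

/-- The orbit map, carrying the invariant inner product. -/
noncomputable def emb : (Fin n → ℂ) →ₗ[ℂ] EuclideanSpace ℂ (G × Fin n) where
  toFun v := WithLp.toLp 2 fun a => ρ a.1 v a.2
  map_add' u v := by ext a; simp
  map_smul' c v := by ext a; simp

theorem inner_invariant (g : G) (u v : Fin n → ℂ) :
    ⟪emb ρ (ρ g u), emb ρ (ρ g v)⟫_ℂ = ⟪emb ρ u, emb ρ v⟫_ℂ := by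
  simp only [PiLp.inner_apply]
  refine Fintype.sum_equiv ((Equiv.mulRight g).prodCongr (Equiv.refl _)) _ _ fun a => ?_
  simp [emb, Module.End.mul_apply]

theorem norm_invariant (g : G) (v : Fin n → ℂ) : ‖emb ρ (ρ g v)‖ = ‖emb ρ v‖ := by
  rw [@norm_eq_sqrt_re_inner ℂ, @norm_eq_sqrt_re_inner ℂ, inner_invariant]

theorem emb_injective : Function.Injective (emb ρ) := fun u v h => funext fun i => by
  have := congrArg (fun w : EuclideanSpace ℂ (G × Fin n) => w (1, i)) h
  simpa [emb] using this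

/-- The element is within `r` of the scalar `c`. -/
def Near (r : ℝ) (c : ℂ) (g : G) : Prop :=
  ∀ v, ‖emb ρ (ρ g v - c • v)‖ ≤ r * ‖emb ρ v‖

variable {ρ}

theorem Near.conj {r : ℝ} {c : ℂ} {g : G} (h : Near ρ r c g) (t : G) :
    Near ρ r c (t * g * t⁻¹) := by
  intro v
  have e : ρ (t * g * t⁻¹) v - c • v = ρ t (ρ g (ρ t⁻¹ v) - c • ρ t⁻¹ v) := by
    simp [map_sub, map_smul]
  rw [e, norm_invariant, ← norm_invariant ρ t⁻¹ v]
  exact h _

theorem Near.commutator {r s : ℝ} {c : ℂ} {x y : G} (hx : Near ρ r c x) (hy : Near ρ s 1 y)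
    (hr : 0 ≤ r) (hs : 0 ≤ s) : Near ρ (2 * r * s) 1 (x * y * x⁻¹ * y⁻¹) := by
  intro v
  set w := ρ (x⁻¹ * y⁻¹) v with hw
  have hwv : ρ (y * x) w = v := by
    rw [hw, ← Module.End.mul_apply, ← map_mul]
    simp [mul_assoc]
  have e : ρ (x * y * x⁻¹ * y⁻¹) v - (1 : ℂ) • v =
      (ρ x (ρ y w - (1 : ℂ) • w) - c • (ρ y w - (1 : ℂ) • w)) -
        (ρ y (ρ x w - c • w) - (1 : ℂ) • (ρ x w - c • w)) := by
    have e1 : ρ (x * y * x⁻¹ * y⁻¹) v = ρ (x * y) w := by
      rw [hw, ← Module.End.mul_apply, ← map_mul]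
      simp [mul_assoc]
    rw [e1]
    conv_lhs => arg 2; rw [← hwv]
    simp only [map_mul, Module.End.mul_apply, map_sub, map_smul, one_smul, smul_sub]
    abel
  rw [e, map_sub]
  refine (norm_sub_le _ _).trans ?_
  have h1 := (hx (ρ y w - (1 : ℂ) • w)).trans (mul_le_mul_of_nonneg_left (hy w) hr)
  have h2 := (hy (ρ x w - c • w)).trans (mul_le_mul_of_nonneg_left (hx w) hs)
  have hwn : ‖emb ρ w‖ = ‖emb ρ v‖ := by rw [hw, norm_invariant]
  rw [hwn] at h1 h2
  linarith

/-- If the commutator commutes with `x` and `y` is near one, then `x` and `y` commute. -/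
theorem commute_step {s : ℝ} {x y : G} (hinj : Function.Injective ρ) (hs : s < 1)
    (hy : Near ρ s 1 y) (h : Commute x (x * y * x⁻¹ * y⁻¹)) : Commute x y := by
  set w := y * x * y⁻¹ with hwdef
  have hxw : Commute x w := by
    have h1 : Commute x w⁻¹ := by
      have h2 : Commute x (x⁻¹ * (x * y * x⁻¹ * y⁻¹)) := ((Commute.refl x).inv_right).mul_right h
      rwa [show x⁻¹ * (x * y * x⁻¹ * y⁻¹) = w⁻¹ by rw [hwdef]; group] at h2
    simpa using h1.inv_right
  have hpres : ∀ (lam : ℂ) (v : Fin n → ℂ), ρ x v = lam • v → ρ x (ρ y v) = lam • ρ y v := by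
    intro lam v hv
    by_cases hv0 : v = 0
    · simp [hv0]
    set u := ρ x (ρ y v) - lam • ρ y v with hu
    have huw : ρ w u = lam • u := by
      have e0 : ρ w (ρ y v) = lam • ρ y v := by
        rw [← map_smul, ← hv, ← Module.End.mul_apply, ← Module.End.mul_apply, ← map_mul, ← map_mul,
          hwdef, inv_mul_cancel_right]
      rw [hu, map_sub, map_smul, e0, ← Module.End.mul_apply, ← map_mul, ← hxw.eq, map_mul,
        Module.End.mul_apply, e0, map_smul, smul_sub]
    set u₂ := ρ y⁻¹ u with hu₂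
    have hu2x : ρ x u₂ = lam • u₂ := by
      have e1 : x * y⁻¹ = y⁻¹ * w := by rw [hwdef]; group
      rw [hu₂, ← Module.End.mul_apply, ← map_mul, e1, map_mul, Module.End.mul_apply, huw, map_smul]
    have hlam : (starRingEnd ℂ) lam * lam = 1 := by
      have h1 := norm_invariant ρ x v
      rw [hv, map_smul, norm_smul] at h1
      have h2 : ‖emb ρ v‖ ≠ 0 := by
        rw [ne_eq, norm_eq_zero]
        exact fun h0 => hv0 (emb_injective ρ (h0.trans (map_zero _).symm))
      have h3 : ‖lam‖ = 1 := mul_right_cancel₀ h2 (h1.trans (one_mul _).symm)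
      rw [Complex.conj_mul', h3]
      simp
    have horth : ⟪emb ρ u₂, emb ρ u⟫_ℂ = 0 := by
      have h1 := inner_invariant ρ x u₂ (ρ y v)
      rw [hu2x, map_smul, inner_smul_left] at h1
      rw [hu, map_sub, map_smul, inner_sub_right, inner_smul_right, ← h1, ← mul_assoc,
        mul_comm lam, hlam, one_mul, sub_self]
    have h2 : ρ y u₂ = u := by
      rw [hu₂, ← Module.End.mul_apply, ← map_mul, mul_inv_cancel, map_one, Module.End.one_apply]
    have h3 := hy u₂
    rw [one_smul, h2, map_sub] at h3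
    have h4 : ‖emb ρ u - emb ρ u₂‖ ^ 2 = ‖emb ρ u‖ ^ 2 + ‖emb ρ u₂‖ ^ 2 := by
      rw [@norm_sub_sq ℂ, inner_eq_zero_symm.mp horth]
      simp
    have h5 : ‖emb ρ u‖ = ‖emb ρ u₂‖ := by rw [← h2, norm_invariant]
    have h6 : ‖emb ρ u₂‖ = 0 := by
      by_contra hne
      have hpos : 0 < ‖emb ρ u₂‖ := lt_of_le_of_ne (norm_nonneg _) (Ne.symm hne)
      have h8 : ‖emb ρ u - emb ρ u₂‖ < ‖emb ρ u₂‖ :=
        h3.trans_lt (mul_lt_of_lt_one_left hpos hs)
      nlinarith [norm_nonneg (emb ρ u - emb ρ u₂)]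
    have h7 : u₂ = 0 := emb_injective ρ ((norm_eq_zero.mp h6).trans (map_zero _).symm)
    rw [h7, map_zero] at h2
    exact sub_eq_zero.mp h2.symm
  refine hinj ?_
  obtain ⟨b, c, hb, -, -⟩ := exists_rep_eigenbasis ρ x
  refine b.ext fun i => ?_
  rw [map_mul, map_mul, Module.End.mul_apply, Module.End.mul_apply, hb i, map_smul, hpres _ _ (hb i)]

/-- Iterated commutators die. -/
theorem commute_of_near {r s : ℝ} {c : ℂ} {x y : G} (hinj : Function.Injective ρ) (hr : 0 ≤ r)
    (hr' : 2 * r < 1) (hs : 0 ≤ s) (hs' : s < 1) (hx : Near ρ r c x) (hy : Near ρ s 1 y) :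
    Commute x y := by
  let it : ℕ → G := fun k => (fun z => x * z * x⁻¹ * z⁻¹)^[k] y
  have hit : ∀ k, it (k + 1) = x * it k * x⁻¹ * (it k)⁻¹ := fun k =>
    Function.iterate_succ_apply' _ _ _
  have hsk : ∀ k, Near ρ ((2 * r) ^ k * s) 1 (it k) := by
    intro k
    induction k with
    | zero => simpa [it] using hy
    | succ k ih =>
      rw [hit, show (2 * r) ^ (k + 1) * s = 2 * r * ((2 * r) ^ k * s) by ring]
      exact hx.commutator ih hr (mul_nonneg (pow_nonneg (by linarith) _) hs)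
  have hend : ∃ k, it k = 1 := by
    by_contra hne
    push Not at hne
    have hv : ∀ g : G, g ≠ 1 → ∃ v : Fin n → ℂ, 0 < ‖emb ρ (ρ g v - (1 : ℂ) • v)‖ := by
      intro g hg
      by_contra hno
      push Not at hno
      refine hg (hinj (LinearMap.ext fun v => ?_))
      have h1 := le_antisymm (hno v) (norm_nonneg _)
      rw [norm_eq_zero] at h1
      have h2 := emb_injective ρ (h1.trans (map_zero _).symm)
      rw [one_smul, sub_eq_zero] at h2
      rw [h2, map_one, Module.End.one_apply]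
    obtain ⟨g, hg⟩ : ∃ g, ∀ N : ℕ, ∃ k, N ≤ k ∧ it k = g := by
      by_contra hno
      push Not at hno
      choose N hN using hno
      exact hN (it (Finset.univ.sup N)) _ (Finset.le_sup (Finset.mem_univ _)) rfl
    obtain ⟨k₀, -, hk₀⟩ := hg 0
    obtain ⟨v, hv⟩ := hv g (hk₀ ▸ hne k₀)
    have hbound : ∀ N : ℕ, ‖emb ρ (ρ g v - (1 : ℂ) • v)‖ ≤ (2 * r) ^ N * s * ‖emb ρ v‖ := by
      intro N
      obtain ⟨k, hk, rfl⟩ := hg N
      refine (hsk k v).trans (mul_le_mul_of_nonneg_right (mul_le_mul_of_nonneg_right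
        (pow_le_pow_of_le_one (by linarith) hr'.le hk) hs) (norm_nonneg _))
    obtain ⟨N, hN⟩ := exists_pow_lt_of_lt_one
      (show (0 : ℝ) < ‖emb ρ (ρ g v - (1 : ℂ) • v)‖ / (s * ‖emb ρ v‖ + 1) by positivity) hr'
    rw [lt_div_iff₀ (by positivity)] at hN
    nlinarith [hbound N, pow_nonneg (show (0 : ℝ) ≤ 2 * r by linarith) N]
  obtain ⟨k, hk⟩ := hend
  have hdown : ∀ k, Commute x (it k) → Commute x y := by
    intro k
    induction k with
    | zero => exact id
    | succ k ih =>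
      intro h
      refine ih (commute_step hinj ?_ (hsk k) (hit k ▸ h))
      exact lt_of_le_of_lt (mul_le_of_le_one_left hs (pow_le_one₀ (by linarith) hr'.le)) hs'
  exact hdown k (hk ▸ Commute.one_right x)

/-- Components in the characters of a commutative subgroup. -/
noncomputable def proj {H : Type u} [Group H] [Fintype H] (σ : H →* Module.End ℂ (Fin n → ℂ))
    (l : H →* ℂˣ) : Module.End ℂ (Fin n → ℂ) :=
  (Nat.card H : ℂ)⁻¹ • ∑ h : H, ((l h)⁻¹ : ℂˣ).val • σ h

theorem proj_apply_map {H : Type u} [Group H] [Fintype H] (σ : H →* Module.End ℂ (Fin n → ℂ))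
    (l : H →* ℂˣ) (a : H) (v : Fin n → ℂ) :
    σ a (proj σ l v) = (l a : ℂ) • proj σ l v := by
  simp only [proj, LinearMap.smul_apply, LinearMap.coe_sum, Finset.sum_apply, map_smul, map_sum,
    Finset.smul_sum, smul_smul]
  refine Fintype.sum_equiv (Equiv.mulLeft a) _ _ fun h => ?_
  rw [Equiv.coe_mulLeft, map_mul, map_mul, Module.End.mul_apply]
  congr 1
  have h0 : (l a : ℂ) ≠ 0 := (l a).ne_zero
  simp only [mul_inv_rev, Units.val_mul, Units.val_inv_eq_inv_val]
  field_simp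

theorem sum_proj {H : Type u} [Group H] [Fintype H] [Fintype (H →* ℂˣ)]
    (hH : ∀ a b : H, a * b = b * a) (σ : H →* Module.End ℂ (Fin n → ℂ)) :
    ∑ l : H →* ℂˣ, proj σ l = 1 := by
  classical
  letI : CommGroup H := { (inferInstance : Group H) with mul_comm := hH }
  have hcol : ∀ a : H, ∑ l : H →* ℂˣ, ((l a)⁻¹ : ℂˣ).val = if a = 1 then (Nat.card H : ℂ) else 0 := by
    intro a
    split_ifs with ha
    · subst ha
      simp only [map_one, inv_one, Units.val_one, Finset.sum_const, Finset.card_univ, nsmul_eq_mul,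
        mul_one]
      rw [← Nat.card_eq_fintype_card, CommGroup.card_monoidHom_of_hasEnoughRootsOfUnity H ℂ]
    · obtain ⟨l₀, hl₀⟩ : ∃ l₀ : H →* ℂˣ, l₀ a ≠ 1 := by
        by_contra hno
        push Not at hno
        exact ha (eq_one_of_forall_linear hH hno)
      have h := Fintype.sum_equiv (Equiv.mulRight l₀)
        (fun l : H →* ℂˣ => (((l * l₀) a)⁻¹ : ℂˣ).val) (fun l => ((l a)⁻¹ : ℂˣ).val) fun l => rfl
      simp only [MonoidHom.mul_apply, mul_inv_rev, Units.val_mul, ← Finset.mul_sum] at h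
      have hne : (((l₀ a)⁻¹ : ℂˣ) : ℂ) ≠ 1 := by
        rw [Ne, Units.val_eq_one, inv_eq_one]
        exact hl₀
      by_contra hsum
      exact hne ((mul_eq_right₀ hsum).mp h)
  simp only [proj]
  rw [← Finset.smul_sum, Finset.sum_comm]
  simp only [← Finset.sum_smul, hcol]
  rw [Finset.sum_eq_single (1 : H) (fun b _ hb => by rw [if_neg hb, zero_smul])
    (fun h => absurd (Finset.mem_univ _) h), if_pos rfl, map_one, smul_smul,
    inv_mul_cancel₀ (Nat.cast_ne_zero.mpr Nat.card_pos.ne'), one_smul]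

/-- Near from the spectrum. -/
theorem near_of_spectrum {g : G} {c : ℝ} {r : ℝ} (hr : 0 ≤ r)
    (hspec : ∀ (lam : ℂ) (v : Fin n → ℂ), v ≠ 0 → ρ g v = lam • v → ‖lam - c‖ ≤ r) :
    Near ρ r c g := by
  classical
  intro v
  let H := Subgroup.zpowers g
  haveI : Fintype H := Fintype.ofFinite _
  haveI : Finite (H →* ℂˣ) := by
    letI : CommGroup H := { (inferInstance : Group H) with mul_comm := fun a b => Std.Commutative.comm a b }
    exact Finite.of_equiv _ (CommGroup.monoidHom_mulEquiv_of_hasEnoughRootsOfUnity H ℂ).some.toEquiv.symm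
  haveI := Fintype.ofFinite (H →* ℂˣ)
  let σ : H →* Module.End ℂ (Fin n → ℂ) := MonoidHom.comp ρ H.subtype
  have hcomm : ∀ a b : H, a * b = b * a := fun a b => Std.Commutative.comm a b
  set z : H := ⟨g, Subgroup.mem_zpowers g⟩ with hz
  set pv := fun l : H →* ℂˣ => emb ρ (proj σ l v) with hpv
  have hv : v = ∑ l : H →* ℂˣ, proj σ l v := by
    have := LinearMap.congr_fun (sum_proj hcomm σ) v
    simpa using this.symm
  have hlz : ∀ l l' : H →* ℂˣ, l z = l' z → l = l' := by
    intro l l' h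
    refine MonoidHom.ext fun a => ?_
    obtain ⟨k, hk⟩ := Subgroup.mem_zpowers_iff.mp a.2
    rw [show a = z ^ k from Subtype.ext (by simp [hz, ← hk]), map_zpow, map_zpow, h]
  have horth : ∀ l l' : H →* ℂˣ, l ≠ l' → ⟪pv l, pv l'⟫_ℂ = 0 := by
    intro l l' hne
    have h1 := inner_invariant ρ g (proj σ l v) (proj σ l' v)
    rw [show ρ g (proj σ l v) = (l z : ℂ) • proj σ l v from proj_apply_map σ l z v,
      show ρ g (proj σ l' v) = (l' z : ℂ) • proj σ l' v from proj_apply_map σ l' z v,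
      map_smul, map_smul, inner_smul_left, inner_smul_right, ← mul_assoc] at h1
    by_contra h0
    have h2 := (mul_eq_right₀ h0).mp h1
    have h3 : (starRingEnd ℂ) (l z : ℂ) * (l z : ℂ) = 1 := by
      rw [Complex.conj_mul', norm_eq_one_of_pow_eq_one' (c := (l z : ℂ)) (N := Nat.card H)
        Nat.card_pos (by rw [← Units.val_pow_eq_pow_val, ← map_pow, pow_card_eq_one', map_one, Units.val_one])]
      simp
    have hz0 : (starRingEnd ℂ) (l z : ℂ) ≠ 0 := left_ne_zero_of_mul_eq_one h3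
    exact hne (hlz l l' (Units.ext (mul_left_cancel₀ hz0 (h3.trans h2.symm))))
  have hsq : ∀ a : (H →* ℂˣ) → ℂ, ‖∑ l, a l • pv l‖ ^ 2 = ∑ l, ‖a l‖ ^ 2 * ‖pv l‖ ^ 2 := by
    intro a
    rw [@norm_sq_eq_re_inner ℂ, inner_sum, map_sum]
    refine Finset.sum_congr rfl fun l _ => ?_
    rw [sum_inner, Finset.sum_eq_single l (fun l' _ hne => by
      rw [inner_smul_left, inner_smul_right, horth l' l hne, mul_zero, mul_zero])
      (fun h => absurd (Finset.mem_univ _) h)]
    rw [← @norm_sq_eq_re_inner ℂ, norm_smul, mul_pow]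
  have e1 : emb ρ v = ∑ l, (1 : ℂ) • pv l := by
    conv_lhs => rw [hv]
    simp [pv, map_sum]
  have e2 : emb ρ (ρ g v - (c : ℂ) • v) = ∑ l, ((l z : ℂ) - c) • pv l := by
    conv_lhs => rw [hv]
    simp only [map_sum, Finset.smul_sum, ← Finset.sum_sub_distrib]
    refine Finset.sum_congr rfl fun l _ => ?_
    rw [show ρ g (proj σ l v) = (l z : ℂ) • proj σ l v from proj_apply_map σ l z v, ← sub_smul,
      map_smul]
  have h := hsq fun l => (l z : ℂ) - c
  have h1 := hsq fun _ => 1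
  rw [← e2] at h
  rw [← e1] at h1
  have hbound : ‖emb ρ (ρ g v - (c : ℂ) • v)‖ ^ 2 ≤ (r * ‖emb ρ v‖) ^ 2 := by
    rw [mul_pow, h, h1, Finset.mul_sum]
    refine Finset.sum_le_sum fun l _ => ?_
    by_cases h0 : proj σ l v = 0
    · simp [pv, h0]
    · rw [norm_one, one_pow, one_mul]
      exact mul_le_mul_of_nonneg_right
        (pow_le_pow_left₀ (norm_nonneg _) (hspec _ _ h0 (proj_apply_map σ l z v)) 2) (sq_nonneg _)
  exact (pow_le_pow_iff_left₀ (norm_nonneg _) (mul_nonneg hr (norm_nonneg _)) two_ne_zero).mp hbound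

theorem near_one_of_near {r : ℝ} {c : ℝ} {g : G} (h : Near ρ r c g) :
    Near ρ (r + |c - 1|) 1 g := by
  intro v
  rw [show ρ g v - (1 : ℂ) • v = (ρ g v - (c : ℂ) • v) + ((c : ℂ) - 1) • v by
    rw [sub_smul]; abel, map_add, map_smul, add_mul]
  refine (norm_add_le _ _).trans (add_le_add (h v) ?_)
  rw [norm_smul]
  refine le_of_eq (congrArg (· * _) ?_)
  rw [← Complex.ofReal_one, ← Complex.ofReal_sub, Complex.norm_real, Real.norm_eq_abs]

/-- Two arguments in the same of twelve arcs give a ratio close to `√3/2`. -/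
theorem ratio_near {a b : ℂ} (ha : ‖a‖ = 1) (hb : ‖b‖ = 1) {k : ℤ}
    (hka : (k : ℝ) * (Real.pi / 6) < Complex.arg a + Real.pi ∧
      Complex.arg a + Real.pi ≤ ((k : ℝ) + 1) * (Real.pi / 6))
    (hkb : (k : ℝ) * (Real.pi / 6) < Complex.arg b + Real.pi ∧
      Complex.arg b + Real.pi ≤ ((k : ℝ) + 1) * (Real.pi / 6)) :
    ‖a⁻¹ * b - (√3 / 2 : ℝ)‖ < 1 / 2 := by
  set δ := Complex.arg b - Complex.arg a with hδ
  have hδabs : |δ| < Real.pi / 6 := by
    rw [abs_lt]
    constructor <;> linarith [hka.1, hka.2, hkb.1, hkb.2]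
  have e : a⁻¹ * b = Complex.exp (δ * Complex.I) := by
    have e1 : Complex.exp (Complex.arg a * Complex.I) = a := by
      simpa [ha] using Complex.norm_mul_exp_arg_mul_I a
    have e2 : Complex.exp (Complex.arg b * Complex.I) = b := by
      simpa [hb] using Complex.norm_mul_exp_arg_mul_I b
    conv_lhs => rw [← e1, ← e2, ← Complex.exp_neg, ← Complex.exp_add]
    congr 1
    rw [hδ]
    push_cast
    ring
  have hcos : √3 / 2 < Real.cos δ := by
    rw [← Real.cos_pi_div_six, ← Real.cos_abs δ]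
    exact Real.cos_lt_cos_of_nonneg_of_le_pi (abs_nonneg δ) (by linarith [Real.pi_pos]) hδabs
  rw [e, ← pow_lt_pow_iff_left₀ (norm_nonneg _) (by norm_num) two_ne_zero, Complex.sq_norm,
    Complex.normSq_apply]
  simp only [Complex.sub_re, Complex.sub_im, Complex.ofReal_re, Complex.ofReal_im, sub_zero,
    Complex.exp_ofReal_mul_I_re, Complex.exp_ofReal_mul_I_im]
  nlinarith [Real.sin_sq_add_cos_sq δ, Real.sq_sqrt (show (0 : ℝ) ≤ 3 by norm_num),
    Real.sqrt_pos.mpr (show (0 : ℝ) < 3 by norm_num)]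

/-- The arc index of an argument. -/
theorem exists_arc (a : ℂ) : ∃ k : Fin 12, ((k : ℤ) : ℝ) * (Real.pi / 6) < Complex.arg a + Real.pi ∧
    Complex.arg a + Real.pi ≤ (((k : ℤ) : ℝ) + 1) * (Real.pi / 6) := by
  have hp : 0 < Real.pi / 6 := by linarith [Real.pi_pos]
  set x := (Complex.arg a + Real.pi) / (Real.pi / 6) with hx
  have h0 : 0 < x := div_pos (by linarith [Complex.neg_pi_lt_arg a]) hp
  have h12 : x ≤ 12 := by
    rw [hx, div_le_iff₀ hp]
    linarith [Complex.arg_le_pi a]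
  have hc1 : 1 ≤ ⌈x⌉₊ := Nat.one_le_ceil_iff.mpr h0
  have hc2 : ⌈x⌉₊ ≤ 12 := Nat.ceil_le.mpr (by exact_mod_cast h12)
  refine ⟨⟨⌈x⌉₊ - 1, by omega⟩, ?_, ?_⟩
  · rw [← lt_div_iff₀ hp, ← hx]
    push_cast [Nat.cast_sub hc1]
    linarith [Nat.ceil_lt_add_one h0.le]
  · rw [← div_le_iff₀ hp, ← hx]
    push_cast [Nat.cast_sub hc1]
    linarith [Nat.le_ceil x]

theorem card_chars_le {H : Type u} [Group H] [Fintype H] [Fintype (H →* ℂˣ)]
    (σ : H →* Module.End ℂ (Fin n → ℂ)) :
    Nat.card {l : H →* ℂˣ // proj σ l ≠ 0} ≤ n := by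
  classical
  have hv : ∀ l : {l : H →* ℂˣ // proj σ l ≠ 0}, ∃ v, proj σ l.1 v ≠ 0 := fun l => by
    by_contra hno
    push Not at hno
    exact l.2 (LinearMap.ext hno)
  choose v hv using hv
  have hexp : ∀ (l : H →* ℂˣ) (q : Fin n → ℂ),
      proj σ l q = (Nat.card H : ℂ)⁻¹ • ∑ h : H, ((l h)⁻¹ : ℂˣ).val • σ h q := fun l q => by
    simp [proj]
  have hfix : ∀ (l : H →* ℂˣ) (w : Fin n → ℂ), proj σ l (proj σ l w) = proj σ l w := by
    intro l w
    rw [hexp l (proj σ l w)]
    simp only [proj_apply_map, smul_smul, Units.inv_mul, one_smul,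
      Finset.sum_const, Finset.card_univ]
    rw [← Nat.cast_smul_eq_nsmul ℂ, smul_smul, ← Nat.card_eq_fintype_card,
      inv_mul_cancel₀ (Nat.cast_ne_zero.mpr Nat.card_pos.ne'), one_smul]
  have hzero : ∀ (l l' : H →* ℂˣ) (w : Fin n → ℂ), l ≠ l' → proj σ l (proj σ l' w) = 0 := by
    intro l l' w hne
    rw [hexp l (proj σ l' w)]
    simp only [proj_apply_map, smul_smul]
    rw [← Finset.sum_smul]
    have h := linear_sum (l⁻¹ * l') fun h => hne (inv_mul_eq_one.mp h)
    simp only [MonoidHom.mul_apply, MonoidHom.inv_apply, Units.val_mul] at h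
    rw [h, zero_smul, smul_zero]
  have hli : LinearIndependent ℂ fun l : {l : H →* ℂˣ // proj σ l ≠ 0} => proj σ l.1 (v l) := by
    rw [Fintype.linearIndependent_iff]
    intro a ha l
    have h := congrArg (proj σ l.1) ha
    simp only [map_sum, map_smul, map_zero] at h
    rw [Finset.sum_eq_single l (fun l' _ hne => by
      rw [hzero _ _ _ (fun h => hne (Subtype.ext h.symm)), smul_zero])
      (fun h => absurd (Finset.mem_univ _) h), hfix] at h
    exact (smul_eq_zero.mp h).resolve_right (hv l)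
  have := hli.fintype_card_le_finrank
  rwa [Module.finrank_fin_fun, ← Nat.card_eq_fintype_card] at this

end Cfsg.Agent.Char.Arc
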