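import Cfsg.Agent.Lib.Char.WatanabePairs

/-!
The characters of a block with abelian defect group, counted with weights from the linear characters
of the defect group fixed by the inertial group.
-/

open scoped ComplexConjugate

namespace Cfsg.Agent.Char.Wat

open Cfsg.Agent.Block Cfsg.Agent.Char Cfsg.Agent.Char.BP Cfsg.Agent.Char.Spec Cfsg.Agent.Char.Star

set_option linter.unusedSectionVars false
set_option linter.style.haveILetI false
set_option maxHeartbeats 1000000

universe u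

variable {G : Type u} [Group G] [Fintype G] [DecidableEq G] {p : ℕ} [Fact p.Prime]
  {M : Ideal AlgInt}
variable {B : Set (IrrCharacter G)} {x : BrauerPairIdx G} [Fintype x.1]

/-- The commutators of the defect group with the inertial group. -/
def K0 (x : BrauerPairIdx G) : Subgroup x.1 :=
  Subgroup.closure {y : x.1 | ∃ t ∈ stab x, ∃ w ∈ x.1, (y : G) = t * w * t⁻¹ * w⁻¹}

/-- The weight of an element of the defect group. -/
noncomputable def wt (p : ℕ) (M : Ideal AlgInt) (x : BrauerPairIdx G) (v : G) : ℕ :=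
  Nat.card (stab x ⊓ CG (Subgroup.zpowers v) : Subgroup G) * rk p M x (Subgroup.zpowers v)

theorem trivFoc_of_K0 (hM : IsPModular p M) (hx : IsMx p M B x)
    (hab : ∀ v ∈ x.1, ∀ w ∈ x.1, v * w = w * v) {l : x.1 →* ℂˣ} (hl : ∀ y ∈ K0 x, l y = 1) :
    TrivFoc (blockFS hM hx.1.1) l := by
  intro y hy
  refine hl y ?_
  have hle : (blockFS hM hx.1.1).focalSubgroup ≤ (K0 x).map x.1.subtype := by
    refine (Subgroup.closure_le _).2 ?_
    rintro _ ⟨Q, φ, q, ⟨a, g, rfl, ha, hg, hφ⟩, rfl⟩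
    obtain ⟨t, ht, z, hz, rfl⟩ := control hM hx hab ha hg
    have hq : (q : G) ∈ x.1 := le_subgroup ha q.2
    have htq : t * (q : G) * t⁻¹ ∈ x.1 :=
      (Subgroup.mem_normalizer_iff.1 (stab_le_normalizer _ ht) _).1 hq
    have hcz : z * (q : G) * z⁻¹ = q := by
      rw [← Subgroup.mem_centralizer_iff.1 hz q q.2, mul_inv_cancel_right]
    refine ⟨⟨(q : G)⁻¹ * (t * q * t⁻¹), mul_mem (inv_mem hq) htq⟩,
      Subgroup.subset_closure ⟨t, ht, q, hq, ?_⟩, ?_⟩
    · exact hab _ (inv_mem hq) _ htq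
    · show (q : G)⁻¹ * (t * q * t⁻¹) = (q : G)⁻¹ * φ q
      rw [hφ, show t * z * (q : G) * (t * z)⁻¹ = t * (z * q * z⁻¹) * t⁻¹ by group, hcz]
  obtain ⟨y', hy', he⟩ := hle hy
  obtain rfl : y' = y := Subtype.ext he
  exact hy'

theorem cross_mix (hM : IsPModular p M) {u : G} (c : BrauerPairIdx G → ℂ) {ζ : G → ℂ}
    (hζ : IsCharacter G ζ) :
    ∑ v ∈ regs p (Subgroup.zpowers u), (∑ a ∈ prs p M u, c a * sct ζ a u v) *
        conj (∑ a ∈ prs p M u, sct ζ a u v) =
      ∑ a ∈ prs p M u, c a * secT p ζ ζ a u := by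
  classical
  simp only [map_sum, Finset.sum_mul, Finset.mul_sum]
  rw [Finset.sum_comm]
  refine Finset.sum_congr rfl fun b hb => ?_
  rw [Finset.sum_comm, Finset.sum_eq_single b]
  · obtain ⟨hb1, -⟩ := mem_prs.1 hb
    rw [secT, hb1, Finset.mul_sum]
    exact Finset.sum_congr rfl fun v _ => by ring
  · intro a ha hne
    obtain ⟨ha1, ha2⟩ := mem_prs.1 ha
    obtain ⟨hb1, hb2⟩ := mem_prs.1 hb
    obtain ⟨Q, f⟩ := a
    obtain ⟨Q', f'⟩ := b
    obtain rfl : Q = Q' := ha1.trans hb1.symm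
    obtain rfl : Q = Subgroup.zpowers u := ha1
    have h := cross_zero hM (Q := Subgroup.zpowers u) ha2.2 hb2.2
      (fun h => hne (congrArg (fun z => (⟨Subgroup.zpowers u, z⟩ : BrauerPairIdx G)) h)) hζ hζ
      (self_mem_cg (a := (⟨Subgroup.zpowers u, f⟩ : BrauerPairIdx G)) rfl) (Subgroup.mem_zpowers u)
    rw [show (0 : ℂ) = c ⟨_, f⟩ * 0 by rw [mul_zero], ← h, Finset.mul_sum]
    exact Finset.sum_congr rfl fun v _ => by ring
  · exact fun h => absurd hb h

/-- The trace of the twist, by sections. -/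
theorem sum_twist_secs (hM : IsPModular p M) (hx : IsMx p M B x) {l : x.1 →* ℂˣ}
    [DecidablePred (· ∈ B)] :
    ∑ χ ∈ Finset.univ.filter (· ∈ B), ∑ g : G,
        star p M (lamW p M x.1 x.2 l) (χ : G → ℂ) g * conj ((χ : G → ℂ) g) =
      ∑ s ∈ secs p M B, lamW p M x.1 x.2 l s.1 s.2 *
        ((Nat.card (CG s.2.1) : ℂ) * (blockRank p s.2.2 : ℂ)) := by
  classical
  have hF := isBlockFS hM (P := x.1) (e := x.2) hx
  set X := (Set.toFinite {y : G | ∃ k, orderOf y = p ^ k}).toFinset with hX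
  have h1 : ∀ χ : IrrCharacter G, ∑ g : G,
      star p M (lamW p M x.1 x.2 l) (χ : G → ℂ) g * conj ((χ : G → ℂ) g) =
      ∑ s ∈ secs p M B, lamW p M x.1 x.2 l s.1 s.2 * secT p (χ : G → ℂ) (χ : G → ℂ) s.2 s.1 := by
    intro χ
    rw [sum_split (p := p), Finset.sum_finset_product (secs p M B) X (fun u => pairsAt p M B u)
      fun s => by simp [mem_secs, mem_pairsAt, hX]]
    refine Finset.sum_congr rfl fun u hu => ?_
    have hu' : ∃ k, orderOf u = p ^ k := by simpa [hX] using hu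
    rw [Finset.sum_congr rfl fun v hv => by
        rw [star_value hu' hv (lamW p M x.1 x.2 l) (χ : G → ℂ), value_prs hM (χ : G → ℂ) hu' v],
      cross_mix hM (lamW p M x.1 x.2 l u) (irr_isChar χ)]
    refine (Finset.sum_subset (fun a ha => ?_) fun a ha hna => ?_).symm
    · obtain ⟨h1, h2⟩ := mem_pairsAt.1 ha
      exact mem_prs.2 ⟨h1, h2.1⟩
    · rw [lamW_of_not hM hF l fun h => hna (mem_pairsAt.2 ⟨(mem_prs.1 ha).1, h⟩), zero_mul]
  simp only [h1]
  rw [Finset.sum_comm]
  refine Finset.sum_congr rfl fun s hs => ?_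
  obtain ⟨hs1, hs2, hs3⟩ := mem_secs.1 hs
  rw [← Finset.mul_sum, sum_sct_sq hM hs1 hs2 hs3]

/-- The order of a product of two subgroups. -/
theorem card_prod_image (C T : Subgroup G) [DecidablePred (· ∈ C)] [DecidablePred (· ∈ T)] :
    (Finset.univ.filter fun g : G => ∃ z ∈ C, ∃ t ∈ T, g = z * t).card *
      Nat.card (C ⊓ T : Subgroup G) = Nat.card C * Nat.card T := by
  classical
  have h := Finset.card_eq_sum_card_fiberwise (f := fun q : C × T => (q.1 : G) * (q.2 : G))
    (s := Finset.univ) (t := Finset.univ.filter fun g : G => ∃ z ∈ C, ∃ t ∈ T, g = z * t)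
    (fun q _ => Finset.mem_filter.2 ⟨Finset.mem_univ _, q.1, q.1.2, q.2, q.2.2, rfl⟩)
  rw [Finset.card_univ, Fintype.card_prod, Finset.sum_congr rfl
    (g := fun _ => Nat.card (C ⊓ T : Subgroup G)) ?_, Finset.sum_const, smul_eq_mul] at h
  · rw [Nat.card_eq_fintype_card (α := C), Nat.card_eq_fintype_card (α := T)]
    exact h.symm
  intro g hg
  obtain ⟨-, z, hz, t, ht, rfl⟩ := Finset.mem_filter.1 hg
  rw [Nat.card_eq_fintype_card, ← Fintype.card_subtype]
  exact Fintype.card_congr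
    { toFun := fun q => ⟨z⁻¹ * (q.1.1 : G), Subgroup.mem_inf.2 ⟨mul_mem (inv_mem hz) q.1.1.2, by
        have e : z⁻¹ * (q.1.1 : G) = t * (q.1.2 : G)⁻¹ := by
          rw [eq_mul_inv_iff_mul_eq, mul_assoc, q.2, inv_mul_cancel_left]
        rw [e]
        exact mul_mem ht (inv_mem q.1.2.2)⟩⟩
      invFun := fun k => ⟨(⟨z * (k : G), mul_mem hz (Subgroup.mem_inf.1 k.2).1⟩,
        ⟨(k : G)⁻¹ * t, mul_mem (inv_mem (Subgroup.mem_inf.1 k.2).2) ht⟩), by
          show z * (k : G) * ((k : G)⁻¹ * t) = z * t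
          rw [mul_assoc, mul_inv_cancel_left]⟩
      left_inv := fun q => by
        refine Subtype.ext (Prod.ext (Subtype.ext (mul_inv_cancel_left z _)) (Subtype.ext ?_))
        show (z⁻¹ * (q.1.1 : G))⁻¹ * t = q.1.2
        rw [mul_inv_rev, inv_inv, mul_assoc, inv_mul_eq_iff_eq_mul]
        exact q.2.symm
      right_inv := fun k => Subtype.ext (inv_mul_cancel_left z _) }

theorem rank_cjI (h : G) (a : BrauerPairIdx G) : blockRank p (cjI h a).2 = blockRank p a.2 := by
  show blockRank p (conjBlock a.1 h a.2) = _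
  rw [conjBlock_eq]
  exact blockRank_pullB _ _

theorem card_cg_cjI (h : G) (a : BrauerPairIdx G) :
    Nat.card (CG (cjI h a).1) = Nat.card (CG a.1) :=
  (Nat.card_congr (conjIso h (cg_map_conj h a.1)).toEquiv).symm

/-- The weighted count. -/
theorem weighted (hM : IsPModular p M) (hB : IsPBlock M B) (hx : IsMx p M B x)
    (hab : ∀ v ∈ x.1, ∀ w ∈ x.1, v * w = w * v) {l : x.1 →* ℂˣ} (hl : ∀ y ∈ K0 x, l y = 1)
    [DecidablePred (· ∈ B)] :
    (Nat.card (stab x) : ℂ) * ∑ χ ∈ Finset.univ.filter (· ∈ B),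
        classInner (star p M (lamW p M x.1 x.2 l) (χ : G → ℂ)) (χ : G → ℂ) =
      ∑ v : x.1, (l v : ℂ) * (wt p M x (v : G) : ℂ) := by
  classical
  have hF := isBlockFS hM (P := x.1) (e := x.2) hx
  have hlf := trivFoc_of_K0 hM hx hab hl
  have hxp : IsPr p M x := hx.1.1
  let sec : G × x.1 → G × BrauerPairIdx G := fun q =>
    (q.1 * (q.2 : G) * q.1⁻¹, cjI q.1 (bl p M x (Subgroup.zpowers (q.2 : G))))
  have hbl : ∀ v : x.1, (bl p M x (Subgroup.zpowers (v : G))).1 = Subgroup.zpowers (v : G) ∧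
      LE p M (bl p M x (Subgroup.zpowers (v : G))) x := fun v =>
    bl_spec hM hxp (Subgroup.zpowers_le.2 v.2)
  have hfst : ∀ q : G × x.1, (sec q).2.1 = Subgroup.zpowers (sec q).1 := fun q => by
    show (bl p M x _).1.map (MulAut.conj q.1).toMonoidHom = _
    rw [(hbl q.2).1, MonoidHom.map_zpowers]
    rfl
  have hmem : ∀ q : G × x.1, sec q ∈ secs p M B := fun q => by
    refine mem_secs.2 ⟨?_, hfst q, ofB_cjI hM ((ofB_le hM (hbl q.2).2).1 hx.1) q.1⟩
    obtain ⟨k, hk⟩ := order_pow (p := p) hxp.1 q.2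
    exact ⟨k, (MulEquiv.orderOf_eq (MulAut.conj q.1) (q.2 : G)).trans hk⟩
  have hfib : ∀ s ∈ secs p M B,
      ((Nat.card (stab x) : ℂ) * (lamW p M x.1 x.2 l s.1 s.2 *
        ((Nat.card (CG s.2.1) : ℂ) * (blockRank p s.2.2 : ℂ)))) =
      ∑ q ∈ Finset.univ.filter (fun q => sec q = s), (l q.2 : ℂ) * (wt p M x (q.2 : G) : ℂ) := by
    intro s hs
    have hval : ∀ q : G × x.1, sec q = s →
        lamW p M x.1 x.2 l s.1 s.2 = (l q.2 : ℂ) ∧
        blockRank p s.2.2 = rk p M x (Subgroup.zpowers (q.2 : G)) ∧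
        (Finset.univ.filter (fun q' => sec q' = s)).card *
          Nat.card (stab x ⊓ CG (Subgroup.zpowers (q.2 : G)) : Subgroup G) =
          Nat.card (CG s.2.1) * Nat.card (stab x) := by
      rintro ⟨h, v⟩ rfl
      obtain ⟨hb1, hb2⟩ := hbl v
      refine ⟨?_, rank_cjI h _, ?_⟩
      · obtain ⟨hm, he⟩ := lamW_eq hM hF hlf (g := h⁻¹) (hfst (h, v))
          (by show LE p M (cjI h⁻¹ (cjI h _)) x; rw [cjI_inv_cancel]; exact hb2)
        rw [he]
        congr 2
        exact Subtype.ext (by show h⁻¹ * (h * (v : G) * h⁻¹) * h⁻¹⁻¹ = v; group)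
      · show _ = Nat.card (CG (cjI h (bl p M x (Subgroup.zpowers (v : G)))).1) * _
        rw [card_cg_cjI, hb1, inf_comm, ← card_prod_image]
        congr 1
        refine Finset.card_bij (fun q _ => h⁻¹ * q.1) (fun q hq => ?_) (fun q hq q' hq' e => ?_)
          (fun g hg => ?_)
        · obtain ⟨h', v'⟩ := q
          have hq := (Finset.mem_filter.1 hq).2
          have e1 : (h⁻¹ * h') * (v' : G) * (h⁻¹ * h')⁻¹ = v := by
            have := congrArg Prod.fst hq
            simp only [sec] at this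
            calc (h⁻¹ * h') * (v' : G) * (h⁻¹ * h')⁻¹ = h⁻¹ * (h' * v' * h'⁻¹) * h := by group
              _ = h⁻¹ * (h * v * h⁻¹) * h := by rw [this]
              _ = v := by group
          have e2 : cjI (h⁻¹ * h') (bl p M x (Subgroup.zpowers (v' : G))) =
              bl p M x (Subgroup.zpowers (v : G)) := by
            rw [← cjI_cjI, show cjI h' _ = cjI h _ from congrArg Prod.snd hq, cjI_inv_cancel]
          obtain ⟨hb1', hb2'⟩ := hbl v'
          obtain ⟨t, ht, z, hz, hg⟩ := control hM hx hab hb2' (g := h⁻¹ * h') (by rw [e2]; exact hb2)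
          rw [hb1'] at hz
          refine Finset.mem_filter.2 ⟨Finset.mem_univ _, t * z * t⁻¹, ?_, t, ht, ?_⟩
          · have hzv : z * (v' : G) * z⁻¹ = v' := by
              rw [← Subgroup.mem_centralizer_iff.1 hz _ (Subgroup.mem_zpowers _), mul_inv_cancel_right]
            have etv : t * (v' : G) * t⁻¹ = v := by
              rw [← e1, hg, show t * z * (v' : G) * (t * z)⁻¹ = t * (z * v' * z⁻¹) * t⁻¹ by group,
                hzv]
            rw [cg_zpowers, Subgroup.mem_centralizer_singleton_iff, ← etv]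
            calc t * z * t⁻¹ * (t * (v' : G) * t⁻¹) = t * (z * v' * z⁻¹) * (z * t⁻¹) := by group
              _ = t * v' * (z * t⁻¹) := by rw [hzv]
              _ = t * v' * t⁻¹ * (t * z * t⁻¹) := by group
          · rw [hg, inv_mul_cancel_right]
        · have hh : q.1 = q'.1 := mul_left_cancel e
          refine Prod.ext hh (Subtype.ext ?_)
          have h1 := (congrArg Prod.fst (Finset.mem_filter.1 hq).2).trans
            (congrArg Prod.fst (Finset.mem_filter.1 hq').2).symm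
          simp only [sec, hh] at h1
          exact mul_left_cancel (mul_right_cancel h1)
        · obtain ⟨-, z, hz, t, ht, rfl⟩ := Finset.mem_filter.1 hg
          have hv' : t⁻¹ * (v : G) * t ∈ x.1 := by
            have := (Subgroup.mem_normalizer_iff.1
              (stab_le_normalizer _ (inv_mem ht)) _).1 v.2
            rwa [inv_inv] at this
          refine ⟨(h * (z * t), ⟨_, hv'⟩), Finset.mem_filter.2 ⟨Finset.mem_univ _, ?_⟩,
            inv_mul_cancel_left h _⟩
          have hzv : z * (v : G) * z⁻¹ = v := by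
            rw [← Subgroup.mem_centralizer_iff.1 hz _ (Subgroup.mem_zpowers _), mul_inv_cancel_right]
          refine Prod.ext ?_ ?_
          · show h * (z * t) * (t⁻¹ * (v : G) * t) * (h * (z * t))⁻¹ = h * v * h⁻¹
            calc _ = h * (z * (v : G) * z⁻¹) * h⁻¹ := by group
              _ = _ := by rw [hzv]
          · obtain ⟨hb1', hb2'⟩ := hbl ⟨_, hv'⟩
            show cjI (h * (z * t)) (bl p M x (Subgroup.zpowers (t⁻¹ * (v : G) * t))) =
              cjI h (bl p M x (Subgroup.zpowers (v : G)))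
            rw [← cjI_cjI (z * t) h, ← cjI_cjI t z]
            congr 1
            have e3 : cjI t (bl p M x (Subgroup.zpowers (t⁻¹ * (v : G) * t))) =
                bl p M x (Subgroup.zpowers (v : G)) := by
              have hle := le_cjI hM t hb2'
              rw [cjI_eq_of_stab ht] at hle
              refine le_unique hM hle hb2 ?_
              show (bl p M x _).1.map (MulAut.conj t).toMonoidHom = _
              rw [hb1', hb1, MonoidHom.map_zpowers]
              show Subgroup.zpowers (t * (t⁻¹ * (v : G) * t) * t⁻¹) = _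
              congr 1
              group
            rw [e3, cjI_of_mem_cg]
            rw [hb1]
            exact hz
    obtain ⟨hs1, hs2, hs3⟩ := mem_secs.1 hs
    obtain ⟨g, hg⟩ := le_conj_max hM hs3 (x := x) hx
    have hgm : g * s.1 * g⁻¹ ∈ x.1 := le_subgroup hg
      ⟨s.1, hs2 ▸ Subgroup.mem_zpowers s.1, rfl⟩
    have hq0 : sec (g⁻¹, ⟨_, hgm⟩) = s := by
      refine Prod.ext ?_ ?_
      · show g⁻¹ * (g * s.1 * g⁻¹) * g⁻¹⁻¹ = s.1
        group
      · show cjI g⁻¹ (bl p M x (Subgroup.zpowers (g * s.1 * g⁻¹))) = s.2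
        have e : (cjI g s.2).1 = Subgroup.zpowers (g * s.1 * g⁻¹) := by
          show s.2.1.map (MulAut.conj g).toMonoidHom = _
          rw [hs2, MonoidHom.map_zpowers]
          rfl
        rw [← e, bl_eq hM hxp hg, cjI_inv_cancel]
    obtain ⟨e1, e2, e3⟩ := hval _ hq0
    have hterm : ∀ q ∈ Finset.univ.filter (fun q => sec q = s),
        (l q.2 : ℂ) * (wt p M x (q.2 : G) : ℂ) = lamW p M x.1 x.2 l s.1 s.2 *
          (blockRank p s.2.2 : ℂ) *
          (Nat.card (stab x ⊓ CG (Subgroup.zpowers (g * s.1 * g⁻¹)) : Subgroup G) : ℂ) := by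
      intro q hq
      obtain ⟨f1, f2, f3⟩ := hval q (Finset.mem_filter.1 hq).2
      have hpos : 0 < (Finset.univ.filter (fun q' => sec q' = s)).card := Finset.card_pos.2 ⟨q, hq⟩
      have heq := Nat.eq_of_mul_eq_mul_left hpos (f3.trans e3.symm)
      rw [f1, f2, wt, Nat.cast_mul, heq]
      ring
    rw [Finset.sum_congr rfl hterm, Finset.sum_const, nsmul_eq_mul]
    have e4 := congrArg (Nat.cast : ℕ → ℂ) e3
    push_cast at e4
    linear_combination (-(lamW p M x.1 x.2 l s.1 s.2 * (blockRank p s.2.2 : ℂ))) * e4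
  have hsum := sum_twist_secs (B := B) hM hx (l := l)
  have key : (Nat.card (stab x) : ℂ) * ∑ χ ∈ Finset.univ.filter (· ∈ B), ∑ g : G,
      star p M (lamW p M x.1 x.2 l) (χ : G → ℂ) g * conj ((χ : G → ℂ) g) =
      (Nat.card G : ℂ) * ∑ v : x.1, (l v : ℂ) * (wt p M x (v : G) : ℂ) := by
    rw [hsum, Finset.mul_sum, Finset.sum_congr rfl hfib,
      Finset.sum_fiberwise_of_maps_to (fun q _ => hmem q)
        (fun q : G × x.1 => (l q.2 : ℂ) * (wt p M x (q.2 : G) : ℂ)),
      Fintype.sum_prod_type]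
    simp only [Finset.sum_const, nsmul_eq_mul, Finset.card_univ, ← Nat.card_eq_fintype_card]
  simp only [classInner, ← Finset.mul_sum]
  rw [mul_left_comm, key, ← mul_assoc,
    inv_mul_cancel₀ (Nat.cast_ne_zero.2 Nat.card_pos.ne'), one_mul]

/-- The number of characters. -/
theorem card_formula (hM : IsPModular p M) (hB : IsPBlock M B) (hx : IsMx p M B x)
    (hab : ∀ v ∈ x.1, ∀ w ∈ x.1, v * w = w * v) :
    (Nat.card (stab x) : ℂ) * (Nat.card B : ℂ) = ∑ v : x.1, (wt p M x (v : G) : ℂ) := by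
  classical
  have hF := isBlockFS hM (P := x.1) (e := x.2) hx
  have h := weighted hM hB hx hab (l := 1) fun _ _ => rfl
  have h1 : ∑ χ ∈ Finset.univ.filter (· ∈ B),
      classInner (star p M (lamW p M x.1 x.2 1) (χ : G → ℂ)) (χ : G → ℂ) = (Nat.card B : ℂ) := by
    rw [Finset.sum_congr rfl (g := fun _ => (1 : ℂ)) fun χ hχ => by
        rw [star_one hM hF (Finset.mem_filter.1 hχ).2, classInner_self_irr χ.2],
      Finset.sum_const, nsmul_eq_mul, mul_one, Nat.card_eq_fintype_card (α := B),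
      ← Fintype.card_subtype]
  rw [h1] at h
  simpa using h

/-- A non-trivial character gives zero. -/
theorem twisted_zero (hM : IsPModular p M) (hB : IsPBlock M B) (hx : IsMx p M B x)
    (hab : ∀ v ∈ x.1, ∀ w ∈ x.1, v * w = w * v) {l : x.1 →* ℂˣ} (hl : ∀ y ∈ K0 x, l y = 1)
    (hne : l ≠ 1) : ∑ v : x.1, (l v : ℂ) * (wt p M x (v : G) : ℂ) = 0 := by
  classical
  have hF := isBlockFS hM (P := x.1) (e := x.2) hx
  have hlf := trivFoc_of_K0 hM hx hab hl
  rw [← weighted hM hB hx hab hl, Finset.sum_eq_zero fun χ hχ => ?_, mul_zero]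
  have hχB := (Finset.mem_filter.1 hχ).2
  obtain ⟨η, hη, he, -⟩ := exists_twist hM hF hlf hχB
  rw [← he, classInner_irr_ne η.2 χ.2]
  intro heq
  refine hne (MonoidHom.ext fun v => ?_)
  have hv : ∃ k, orderOf (v : G) = p ^ k := order_pow hx.1.1.1 v
  obtain ⟨a, ha, hle⟩ := exists_le hM (c := x) hx.1.1 (Subgroup.zpowers_le.2 v.2)
  have haB : OfB p M B a := (ofB_le hM hle).1 hx.1
  have hC : x.1 ≤ CG a.1 := le_cg_of_comm hab (le_subgroup hle)
  have hd := blockDefect_of_le_major (x := x) hM hx hle hC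
  obtain ⟨η₀, hη₀, hη₀0⟩ := exists_height_zero hM hB
  obtain ⟨t, ht, hne'⟩ : ∃ t ∈ regs p a.1, sct (χ : G → ℂ) a (v : G) t ≠ 0 := by
    by_contra hall
    push Not at hall
    refine (contrib_height hM hv ha haB hd (ψ := χ) (η := η₀) hχB).2.1 hη₀ hη₀0 ?_
    have h0 : secT p (χ : G → ℂ) (η₀ : G → ℂ) a (v : G) = 0 := by
      rw [secT]
      exact Finset.sum_eq_zero fun t ht => by rw [hall t ht, zero_mul]
    simp only [contrib, h0, mul_zero, zero_div]
    exact ideal_zero hM
  exact eq_one_of_fixed hM hF hlf (χ := χ) (by rw [← he, heq]) v ha hle ht hne'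

end Cfsg.Agent.Char.Wat
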