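import Cfsg.Agent.Lib.Char.WatanabeCount
import Mathlib.GroupTheory.FiniteAbelian.Duality
import Mathlib.RingTheory.RootsOfUnity.AlgebraicallyClosed

/-!
A block with abelian defect group and an element of the defect group fixed by the inertial group:
the numbers of ordinary and modular characters are those of the block of the centralizer.
-/

namespace Cfsg.Agent.Char.Wat

open Cfsg.Agent.Block Cfsg.Agent.Char Cfsg.Agent.Char.BP Cfsg.Agent.Char.Spec

set_option linter.unusedSectionVars false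
set_option linter.style.haveILetI false
set_option maxHeartbeats 1000000

universe u

theorem dual_sum {U : Type u} [Group U] [Finite U] [Fintype (U →* ℂˣ)]
    (hU : ∀ a b : U, a * b = b * a) {y : U} (hy : y ≠ 1) : ∑ f : U →* ℂˣ, (f y : ℂ) = 0 := by
  obtain ⟨f₀, hf₀⟩ : ∃ f : U →* ℂˣ, f y ≠ 1 := by
    by_contra hc
    push Not at hc
    exact hy (eq_one_of_forall_linear hU hc)
  have h : ∑ f : U →* ℂˣ, (f y : ℂ) = (f₀ y : ℂ) * ∑ f : U →* ℂˣ, (f y : ℂ) := by
    rw [Finset.mul_sum]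
    exact (Fintype.sum_equiv (Equiv.mulLeft f₀) _ _ fun f => by simp).symm
  have h2 : ((f₀ y : ℂ) - 1) * ∑ f : U →* ℂˣ, (f y : ℂ) = 0 := by rw [sub_mul, one_mul, ← h, sub_self]
  exact (mul_eq_zero.1 h2).resolve_left (sub_ne_zero.2 fun e => hf₀ (Units.ext e))

variable {p : ℕ} [Fact p.Prime]

section

variable {G : Type u} [Group G] [Fintype G] {M : Ideal AlgInt}
variable {B : Set (IrrCharacter G)} {x : BrauerPairIdx G}

/-- The commutators meet the fixed points trivially. -/
theorem fixed_K0 (hM : IsPModular p M) (hx : IsMx p M B x)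
    (hab : ∀ v ∈ x.1, ∀ w ∈ x.1, v * w = w * v) {y : x.1} (hy : y ∈ K0 x)
    (hfix : ∀ t ∈ stab x, t * (y : G) * t⁻¹ = y) : y = 1 := by
  classical
  set T := stab x with hT
  set C' := (CG x.1).subgroupOf T with hC'
  haveI : C'.Normal :=
    (Subgroup.normal_subgroupOf_iff_le_normalizer (cg_le_stab x)).2
      ((stab_le_normalizer _).trans fun u hu => mem_normalizer_cg hu)
  letI : CommGroup x.1 :=
    { (inferInstance : Group x.1) with mul_comm := fun a b => Subtype.ext (hab _ a.2 _ b.2) }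
  have hmem : ∀ (t : T) (w : x.1), (t : G) * w * (t : G)⁻¹ ∈ x.1 := fun t w =>
    (Subgroup.mem_normalizer_iff.1 (stab_le_normalizer _ t.2) _).1 w.2
  let cj : T → x.1 →* x.1 := fun t => MonoidHom.mk' (fun w => ⟨_, hmem t w⟩) fun a b =>
    Subtype.ext (by show (t : G) * ((a : G) * b) * (t : G)⁻¹ = _ * _; group)
  haveI : Fintype (T ⧸ C') := Fintype.ofFinite _
  let N : x.1 →* x.1 := ∏ q : T ⧸ C', cj q.out
  have hN : ∀ w, N w = ∏ q : T ⧸ C', cj q.out w := fun w => MonoidHom.finsetProd_apply _ _ _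
  have hinv : ∀ (t : T) (w : x.1), N (cj t w) = N w := by
    intro t w
    rw [hN, hN]
    refine Fintype.prod_equiv (Equiv.mulRight (t : T ⧸ C')) _ _ fun q => Subtype.ext ?_
    show (q.out : G) * ((t : G) * w * (t : G)⁻¹) * (q.out : G)⁻¹ =
      ((q * (t : T ⧸ C')).out : G) * w * ((q * (t : T ⧸ C')).out : G)⁻¹
    have h : (q.out * t)⁻¹ * (q * (t : T ⧸ C')).out ∈ C' := by
      rw [← QuotientGroup.eq, QuotientGroup.mk_mul, QuotientGroup.out_eq', QuotientGroup.out_eq']
    replace h := Subgroup.mem_subgroupOf.1 h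
    set c := (((q.out * t)⁻¹ * (q * (t : T ⧸ C')).out : T) : G) with hc
    have e : ((q * (t : T ⧸ C')).out : G) = (q.out : G) * t * c := by
      simp only [hc, Subgroup.coe_mul, Subgroup.coe_inv, mul_inv_cancel_left]
    rw [e, show (q.out : G) * t * c * w * ((q.out : G) * t * c)⁻¹ =
      (q.out : G) * t * (c * w * c⁻¹) * ((q.out : G) * t)⁻¹ by group,
      show c * (w : G) * c⁻¹ = w by
        rw [← Subgroup.mem_centralizer_iff.1 h _ w.2, mul_inv_cancel_right]]
    group
  have hker : K0 x ≤ N.ker := by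
    refine (Subgroup.closure_le _).2 ?_
    rintro y ⟨t, ht, w, hw, he⟩
    have e : y = cj ⟨t, ht⟩ ⟨w, hw⟩ * ((⟨w, hw⟩ : x.1))⁻¹ := Subtype.ext he
    show N y = 1
    rw [e, map_mul, hinv, map_inv, mul_inv_cancel]
  have h1 : y ^ Fintype.card (T ⧸ C') = 1 := by
    rw [← Finset.card_univ, ← Finset.prod_const]
    refine Eq.trans (Finset.prod_congr rfl fun q _ => ?_) ((hN y).symm.trans (hker hy))
    exact (Subtype.ext (hfix _ q.out.2)).symm
  have h2 : ¬ p ∣ Fintype.card (T ⧸ C') := by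
    rw [← Nat.card_eq_fintype_card, ← Subgroup.index_eq_card]
    exact not_dvd_relIndex hM (P := x.1) (e := x.2) hx hab
  obtain ⟨k, hk⟩ := IsPGroup.iff_orderOf.1 hx.1.1.1 y
  have h3 : orderOf y ∣ Nat.gcd (p ^ k) (Fintype.card (T ⧸ C')) :=
    Nat.dvd_gcd hk.dvd (orderOf_dvd_of_pow_eq_one h1)
  rw [Nat.Coprime.pow_left k ((Nat.Prime.coprime_iff_not_dvd Fact.out).2 h2)] at h3
  exact orderOf_eq_one_iff.1 (Nat.dvd_one.1 h3)

theorem zpowers_subgroupOf {H : Subgroup G} (v : H) :
    (Subgroup.zpowers (v : G)).subgroupOf H = Subgroup.zpowers v := by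
  ext w
  simp only [Subgroup.mem_subgroupOf, Subgroup.mem_zpowers_iff]
  exact exists_congr fun k => by rw [← Subgroup.coe_zpow, Subtype.coe_inj]

theorem mem_cg_zpowers {v t : G} : t ∈ CG (Subgroup.zpowers v) ↔ t * v * t⁻¹ = v := by
  rw [cg_zpowers, Subgroup.mem_centralizer_singleton_iff, mul_inv_eq_iff_eq_mul]

theorem cg_bot : CG (⊥ : Subgroup G) = ⊤ :=
  eq_top_iff.2 fun v _ => Subgroup.mem_centralizer_iff.2 fun w hw => by
    rw [SetLike.mem_coe, Subgroup.mem_bot] at hw
    simp [hw]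

theorem cg_sup_eq {Q R : Subgroup G} (h : CG R = ⊤) : CG (Q ⊔ R) = CG Q := by
  refine le_antisymm (Subgroup.centralizer_le (SetLike.coe_subset_coe.2 le_sup_left)) fun c hc => ?_
  have : Q ⊔ R ≤ CG (Subgroup.zpowers c) := sup_le
    (fun v hv => mem_cg_zpowers.2 (by
      rw [Subgroup.mem_centralizer_iff.1 hc v hv, mul_inv_cancel_right]))
    (fun v hv => mem_cg_zpowers.2 (by
      rw [Subgroup.mem_centralizer_iff.1 (h ▸ Subgroup.mem_top c : c ∈ CG R) v hv,
        mul_inv_cancel_right]))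
  exact Subgroup.mem_centralizer_iff.2 fun v hv =>
    (Subgroup.mem_centralizer_iff.1 (this hv) c (Subgroup.mem_zpowers _)).symm

end

/-- The ranks and the numbers of characters. -/
theorem watanabe {M : Ideal AlgInt} (hM : IsPModular p M) :
    ∀ (n : ℕ) (G : Type u) [Group G] [Fintype G], Nat.card G ≤ n →
      ∀ (B : Set (IrrCharacter G)) (x : BrauerPairIdx G), IsPBlock M B → IsMx p M B x →
        (∀ v ∈ x.1, ∀ w ∈ x.1, v * w = w * v) → ∀ u ∈ x.1, (∀ t ∈ stab x, t * u * t⁻¹ = u) →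
        blockRank p B = rk p M x (Subgroup.zpowers u) ∧
          Nat.card B = Nat.card (bl p M x (Subgroup.zpowers u)).2 := by
  intro n
  induction n with
  | zero =>
    intro G _ _ hn
    exact absurd hn (Nat.not_le.2 Nat.card_pos)
  | succ n ih =>
  intro G _ _ hn B x hB hx hab u hu huT
  classical
  haveI : Fintype x.1 := Fintype.ofFinite _
  have hxp : IsPr p M x := hx.1.1
  set Q0 := Subgroup.zpowers u with hQ0
  have hQ : Q0 ≤ x.1 := Subgroup.zpowers_le.2 hu
  set a := bl p M x Q0 with haDef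
  obtain ⟨ea, la⟩ := bl_spec hM hxp hQ
  rw [← haDef] at ea la
  letI : Fintype (CG a.1) := Fintype.ofFinite _
  set H := CG a.1 with hHdef
  obtain ⟨g1, g2⟩ := cg_subgroupOf_le hab (le_subgroup la)
  have hmx' : IsMx p M a.2 (dn H x g1 g2) := isMx_dn hM hx hab la g1 g2
  have hab' := comm_dn hab g1 g2
  haveI : Fintype (dn H x g1 g2).1 := Fintype.ofFinite _
  have hTH : stab x ≤ H := fun t ht => by
    rw [hHdef, ea, hQ0, mem_cg_zpowers]; exact huT t ht
  have hT' : stab (dn H x g1 g2) = (stab x).subgroupOf H :=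
    Subgroup.ext fun c => (mem_stab_dn g1 g2 c).trans Subgroup.mem_subgroupOf.symm
  let ι : (dn H x g1 g2).1 ≃* x.1 :=
    { toFun := fun v => ⟨((v : H) : G), Subgroup.mem_subgroupOf.1 v.2⟩
      invFun := fun v => ⟨⟨v, g1 v.2⟩, Subgroup.mem_subgroupOf.2 v.2⟩
      left_inv := fun v => rfl
      right_inv := fun v => rfl
      map_mul' := fun v w => rfl }
  let w₂ : G → ℕ := fun v =>
    Nat.card (stab x ⊓ CG (Subgroup.zpowers v) : Subgroup G) *
      rk p M x (Q0 ⊔ Subgroup.zpowers v)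
  have hwt' : ∀ v : (dn H x g1 g2).1, wt p M (dn H x g1 g2) (v : H) = w₂ ((v : H) : G) := by
    intro v
    have hv : Subgroup.zpowers ((v : H) : G) ≤ x.1 :=
      Subgroup.zpowers_le.2 (Subgroup.mem_subgroupOf.1 v.2)
    have e1 : rk p M (dn H x g1 g2) (Subgroup.zpowers (v : H)) =
        rk p M x (Q0 ⊔ Subgroup.zpowers ((v : H) : G)) := by
      have h := rk_dn (Q := a.1) hM hxp hab (le_subgroup la) g1 g2 hv
      rw [zpowers_subgroupOf] at h
      exact h.trans (by rw [ea])
    have e2 : stab (dn H x g1 g2) ⊓ CG (Subgroup.zpowers (v : H)) =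
        (stab x ⊓ CG (Subgroup.zpowers ((v : H) : G))).subgroupOf H := by
      ext c
      rw [Subgroup.mem_inf, Subgroup.mem_subgroupOf, Subgroup.mem_inf, hT', Subgroup.mem_subgroupOf,
        mem_cg_zpowers, mem_cg_zpowers]
      exact and_congr_right fun _ => ⟨fun h => congrArg Subtype.val h, fun h => Subtype.ext h⟩
    rw [wt, e1, e2, Nat.card_congr (Subgroup.subgroupOfEquivOfLe (inf_le_left.trans hTH)).toEquiv]
  let F : x.1 → ℂ := fun v => (wt p M x (v : G) : ℂ) - (w₂ (v : G) : ℂ)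
  have hcardT : Nat.card (stab (dn H x g1 g2)) = Nat.card (stab x) := by
    rw [hT', Nat.card_congr (Subgroup.subgroupOfEquivOfLe hTH).toEquiv]
  have hsumF : (Nat.card (stab x) : ℂ) * ((Nat.card B : ℂ) - Nat.card a.2) = ∑ v, F v := by
    rw [mul_sub, card_formula hM hB hx hab, Finset.sum_sub_distrib]
    congr 1
    rw [← hcardT, card_formula hM hmx'.1.2.1 hmx' hab']
    exact Fintype.sum_equiv ι.toEquiv _ _ fun v => by rw [hwt' v]; rfl
  have hzero : ∀ l : x.1 →* ℂˣ, (∀ y ∈ K0 x, l y = 1) → l ≠ 1 → ∑ v, (l v : ℂ) * F v = 0 := by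
    intro l hl hne
    have h1 := twisted_zero hM hB hx hab hl hne
    have hl' : ∀ y ∈ K0 (dn H x g1 g2), (l.comp ι.toMonoidHom) y = 1 := by
      have : K0 (dn H x g1 g2) ≤ (K0 x).comap ι.toMonoidHom := by
        refine (Subgroup.closure_le _).2 ?_
        rintro y ⟨t, ht, w, hw, he⟩
        exact Subgroup.subset_closure ⟨(t : G), (mem_stab_dn g1 g2 t).1 ht, (w : G),
          Subgroup.mem_subgroupOf.1 hw, congrArg Subtype.val he⟩
      exact fun y hy => hl _ (this hy)
    have h2 := twisted_zero hM hmx'.1.2.1 hmx' hab' hl' fun h => hne (MonoidHom.ext fun v => by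
      have := DFunLike.congr_fun h (ι.symm v)
      simpa using this)
    rw [Fintype.sum_equiv ι.toEquiv _ (fun v => (l v : ℂ) * (w₂ (v : G) : ℂ))
      fun v => by rw [hwt' v]; rfl] at h2
    simp only [F, mul_sub, Finset.sum_sub_distrib, h1, h2, sub_self]
  -- only the central elements contribute
  have hcentral : ∀ v : x.1, CG (Subgroup.zpowers (v : G)) = ⊤ →
      F v = (Nat.card (stab x) : ℂ) * ((blockRank p B : ℂ) - rk p M x Q0) := by
    intro v hv
    have hvx : Subgroup.zpowers (v : G) ≤ x.1 := Subgroup.zpowers_le.2 v.2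
    have e1 : rk p M x (Subgroup.zpowers (v : G)) = blockRank p B := by
      rw [rk_congr hM hxp hab hvx bot_le (hv.trans cg_bot.symm), rk_bot hM hB hx]
    have e2 : rk p M x (Q0 ⊔ Subgroup.zpowers (v : G)) = rk p M x Q0 :=
      rk_congr hM hxp hab (sup_le hQ hvx) hQ (cg_sup_eq hv)
    simp only [F, wt, w₂, e1, e2, hv, inf_top_eq, Nat.cast_mul]
    ring
  have hnc : ∀ v : x.1, CG (Subgroup.zpowers (v : G)) ≠ ⊤ → F v = 0 := by
    intro v hv
    obtain ⟨eb, lb⟩ := bl_spec hM hxp (Subgroup.zpowers_le.2 v.2)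
    set b := bl p M x (Subgroup.zpowers (v : G)) with hbdef
    letI : Fintype (CG b.1) := Fintype.ofFinite _
    obtain ⟨k1, k2⟩ := cg_subgroupOf_le hab (le_subgroup lb)
    have hlt : Nat.card (CG b.1) ≤ n := by
      have h1 : Nat.card (CG b.1) < Nat.card G := by
        refine lt_of_le_of_ne (Nat.card_le_card_of_injective _ Subtype.val_injective) fun h => hv ?_
        rw [← eb]
        exact Subgroup.eq_top_of_card_eq _ h
      omega
    have hfix : ∀ t ∈ stab (dn (CG b.1) x k1 k2),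
        t * (⟨u, k1 hu⟩ : CG b.1) * t⁻¹ = ⟨u, k1 hu⟩ := fun t ht =>
      Subtype.ext (huT _ ((mem_stab_dn k1 k2 t).1 ht))
    have hmb := isMx_dn hM hx hab lb k1 k2
    have h' := (ih (CG b.1) hlt b.2 (dn (CG b.1) x k1 k2) hmb.1.2.1 hmb (comm_dn hab k1 k2)
      ⟨u, k1 hu⟩ (Subgroup.mem_subgroupOf.2 hu) hfix).1
    rw [← zpowers_subgroupOf] at h'
    rw [rk_dn hM hxp hab (le_subgroup lb) k1 k2 (S := Q0) hQ] at h'
    have e : rk p M x (Subgroup.zpowers (v : G)) =
        rk p M x (Q0 ⊔ Subgroup.zpowers (v : G)) := h'.trans (by rw [eb, sup_comm])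
    simp only [F, wt, w₂, e, sub_self]
  -- the dual of the defect group modulo the commutators
  letI : CommGroup x.1 :=
    { (inferInstance : Group x.1) with mul_comm := fun a b => Subtype.ext (hab _ a.2 _ b.2) }
  have hcardQ : Nat.card ((x.1 ⧸ K0 x) →* ℂˣ) = Nat.card (x.1 ⧸ K0 x) := by
    haveI : NeZero (Monoid.exponent (x.1 ⧸ K0 x)) := ⟨Monoid.exponent_ne_zero_of_finite⟩
    exact CommGroup.card_monoidHom_of_hasEnoughRootsOfUnity _ ℂ
  haveI : Finite ((x.1 ⧸ K0 x) →* ℂˣ) :=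
    Nat.finite_of_card_ne_zero (by rw [hcardQ]; exact Nat.card_pos.ne')
  haveI : Fintype ((x.1 ⧸ K0 x) →* ℂˣ) := Fintype.ofFinite _
  have hcoset : ∀ v₀ : x.1, (Fintype.card ((x.1 ⧸ K0 x) →* ℂˣ) : ℂ) *
      ∑ v ∈ Finset.univ.filter (fun v => v₀⁻¹ * v ∈ K0 x), F v = ∑ v, F v := by
    intro v₀
    have e : ∀ v : x.1, ∑ c : (x.1 ⧸ K0 x) →* ℂˣ, (c ((v₀⁻¹ * v : x.1) : x.1 ⧸ K0 x) : ℂ) =
        if v₀⁻¹ * v ∈ K0 x then (Fintype.card ((x.1 ⧸ K0 x) →* ℂˣ) : ℂ) else 0 := by
      intro v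
      split_ifs with h
      · rw [(QuotientGroup.eq_one_iff _).2 h]
        simp
      · exact dual_sum (fun a b => mul_comm a b) fun h' => h ((QuotientGroup.eq_one_iff _).1 h')
    rw [Finset.mul_sum, Finset.sum_filter]
    calc (∑ v : x.1, if v₀⁻¹ * v ∈ K0 x then
          (Fintype.card ((x.1 ⧸ K0 x) →* ℂˣ) : ℂ) * F v else 0)
        = ∑ v : x.1, ∑ c : (x.1 ⧸ K0 x) →* ℂˣ,
            (c ((v₀⁻¹ * v : x.1) : x.1 ⧸ K0 x) : ℂ) * F v := by
          refine Finset.sum_congr rfl fun v _ => ?_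
          rw [← Finset.sum_mul, e v, ite_mul, zero_mul]
      _ = ∑ v, F v := by
          rw [Finset.sum_comm, Finset.sum_eq_single 1]
          · simp
          · intro c _ hc
            have h := hzero (c.comp (QuotientGroup.mk' (K0 x))) (fun y hy => by
              show c (y : x.1 ⧸ K0 x) = 1
              rw [(QuotientGroup.eq_one_iff y).2 hy, map_one]) (fun h => hc (MonoidHom.ext fun q => by
              obtain ⟨y, rfl⟩ := QuotientGroup.mk'_surjective (K0 x) q
              exact DFunLike.congr_fun h y))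
            simp only [QuotientGroup.mk_mul, map_mul, Units.val_mul, mul_assoc, ← Finset.mul_sum]
            rw [show ∑ v : x.1, ((c (v : x.1 ⧸ K0 x) : ℂ) * F v) = 0 from h, mul_zero]
          · exact fun h => absurd (Finset.mem_univ _) h
  have hfixc : ∀ v : x.1, CG (Subgroup.zpowers (v : G)) = ⊤ →
      ∀ t ∈ stab x, t * (v : G) * t⁻¹ = v := fun v hv t _ =>
    mem_cg_zpowers.1 (hv ▸ Subgroup.mem_top t)
  have hrank : blockRank p B = rk p M x Q0 := by
    by_cases hcu : CG Q0 = ⊤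
    · rw [rk_congr hM hxp hab hQ bot_le (hcu.trans cg_bot.symm), rk_bot hM hB hx]
    have hu0 : ∑ v, F v = 0 := by
      rw [← hcoset ⟨u, hu⟩, Finset.sum_eq_zero fun v hv => ?_, mul_zero]
      by_cases hc : CG (Subgroup.zpowers (v : G)) = ⊤
      · exfalso
        have hk := (Finset.mem_filter.1 hv).2
        have := fixed_K0 hM hx hab hk fun t ht => by
          show t * (u⁻¹ * (v : G)) * t⁻¹ = u⁻¹ * v
          rw [show t * (u⁻¹ * (v : G)) * t⁻¹ = (t * u * t⁻¹)⁻¹ * (t * v * t⁻¹) by group, huT t ht,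
            hfixc v hc t ht]
        rw [inv_mul_eq_one] at this
        exact hcu (by rw [hQ0, show u = (v : G) from congrArg Subtype.val this]; exact hc)
      · exact hnc v hc
    have h1 := hcoset 1
    rw [hu0, mul_eq_zero, or_iff_right (Nat.cast_ne_zero.2 Fintype.card_ne_zero),
      Finset.sum_eq_single 1] at h1
    · have hone : CG (Subgroup.zpowers ((1 : x.1) : G)) = ⊤ := by
        rw [OneMemClass.coe_one, Subgroup.zpowers_one_eq_bot, cg_bot]
      rw [hcentral 1 hone, mul_eq_zero, or_iff_right (Nat.cast_ne_zero.2 Nat.card_pos.ne'),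
        sub_eq_zero] at h1
      exact_mod_cast h1
    · intro v hv hne
      by_cases hc : CG (Subgroup.zpowers (v : G)) = ⊤
      · have hk := (Finset.mem_filter.1 hv).2
        rw [inv_one, one_mul] at hk
        exact absurd (fixed_K0 hM hx hab hk (hfixc v hc)) hne
      · exact hnc v hc
    · exact fun h => absurd (Finset.mem_filter.2 ⟨Finset.mem_univ _, by simp⟩) h
  refine ⟨hrank, ?_⟩
  have h0 : ∑ v, F v = 0 := Finset.sum_eq_zero fun v _ => by
    by_cases hc : CG (Subgroup.zpowers (v : G)) = ⊤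
    · rw [hcentral v hc, hrank, sub_self, mul_zero]
    · exact hnc v hc
  rw [h0, mul_eq_zero, or_iff_right (Nat.cast_ne_zero.2 Nat.card_pos.ne'), sub_eq_zero] at hsumF
  exact_mod_cast hsumF

end Cfsg.Agent.Char.Wat
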